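/-
helper23: automorphisms of the complex field raising roots of unity to a power (used for Galois
conjugates of characters).
-/
import Mathlib

set_option autoImplicit false

namespace Cfsg.Agent.Lib.Helper23

/-- Any ring automorphism of a subfield `K` of an algebraically closed field `L` extends to `L`. -/
theorem exists_ringEquiv_extending {K L : Type*} [Field K] [Field L] [Algebra K L] [IsAlgClosed L]
    (σ : K ≃+* K) : ∃ τ : L ≃+* L, ∀ x : K, τ (algebraMap K L x) = algebraMap K L (σ x) := by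
  classical
  obtain ⟨ι, v, hv⟩ := exists_isTranscendenceBasis' K L
  let _ := IsAlgClosed.isAlgClosure_of_transcendence_basis v hv
  let A := Algebra.adjoin K (Set.range v)
  let e0 : MvPolynomial ι K ≃+* A := hv.1.aevalEquiv.toRingEquiv
  let m : MvPolynomial ι K ≃+* MvPolynomial ι K := MvPolynomial.mapEquiv ι σ
  let e : A ≃+* A := e0.symm.trans (m.trans e0)
  refine ⟨IsAlgClosure.equivOfEquiv L L e, ?_⟩
  intro x
  have h1 : algebraMap K L x = algebraMap A L (algebraMap K A x) := rfl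
  have h2 : algebraMap K L (σ x) = algebraMap A L (algebraMap K A (σ x)) := rfl
  rw [h1, h2, IsAlgClosure.equivOfEquiv_algebraMap]
  congr 1
  have h3 : e0.symm (algebraMap K A x) = MvPolynomial.C x := by
    rw [RingEquiv.symm_apply_eq]
    simp [e0]
  show e0 (m (e0.symm (algebraMap K A x))) = _
  rw [h3]
  have h4 : m (MvPolynomial.C x) = MvPolynomial.C (σ x) := by simp [m]
  rw [h4]
  show hv.1.aevalEquiv (MvPolynomial.C (σ x)) = _
  rw [← MvPolynomial.algebraMap_eq]
  exact AlgEquiv.commutes _ _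


open IntermediateField in
/-- For `k` coprime to `n` there is a ring automorphism of `ℂ` raising every `n`-th root of unity
to its `k`-th power. -/
theorem exists_ringEquiv_complex_pow (n : ℕ) [NeZero n] (k : ℕ) (hk : k.Coprime n) :
    ∃ τ : ℂ ≃+* ℂ, ∀ μ : ℂ, μ ^ n = 1 → τ μ = μ ^ k := by
  classical
  have hζ : IsPrimitiveRoot (Complex.exp (2 * Real.pi * Complex.I / n)) n :=
    Complex.isPrimitiveRoot_exp n (NeZero.ne n)
  set ζ : ℂ := Complex.exp (2 * Real.pi * Complex.I / n) with hζdef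
  let K : IntermediateField ℚ ℂ := ℚ⟮ζ⟯
  have halg : IsAlgebraic ℚ ζ :=
    (IsIntegral.tower_top (A := ℚ) (hζ.isIntegral (NeZero.pos n))).isAlgebraic
  haveI : IsCyclotomicExtension {n} ℚ K := by
    change IsCyclotomicExtension {n} ℚ (IntermediateField.adjoin ℚ {ζ}).toSubalgebra
    rw [IntermediateField.adjoin_simple_toSubalgebra_of_isAlgebraic halg]
    exact hζ.adjoin_isCyclotomicExtension ℚ
  have hirr : Irreducible (Polynomial.cyclotomic n ℚ) :=
    Polynomial.cyclotomic.irreducible_rat (NeZero.pos n)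
  let u : (ZMod n)ˣ := ZMod.unitOfCoprime k hk
  let σ : K ≃ₐ[ℚ] K := (IsCyclotomicExtension.autEquivPow K hirr).symm u
  have hσu : IsCyclotomicExtension.autEquivPow K hirr σ = u := MulEquiv.apply_symm_apply _ _
  have hz := IsCyclotomicExtension.zeta_spec n ℚ K
  have hσz : σ (IsCyclotomicExtension.zeta n ℚ K) = (IsCyclotomicExtension.zeta n ℚ K) ^ k := by
    have h1 := hz.autToPow_spec ℚ σ
    have h2 : hz.autToPow ℚ σ = u := hσu
    rw [h2] at h1
    rw [← h1]
    have h3 : ((u : ZMod n)).val = k % n := by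
      show ((k : ZMod n)).val = k % n
      exact ZMod.val_natCast n k
    rw [h3]
    exact (pow_eq_pow_mod k hz.pow_eq_one).symm
  have hσμ : ∀ μ : K, μ ^ n = 1 → σ μ = μ ^ k := by
    intro μ hμ
    obtain ⟨j, -, rfl⟩ := hz.eq_pow_of_pow_eq_one hμ
    rw [map_pow, hσz, ← pow_mul, ← pow_mul, mul_comm]
  obtain ⟨τ, hτ⟩ := exists_ringEquiv_extending (K := K) (L := ℂ) σ.toRingEquiv
  refine ⟨τ, ?_⟩
  intro μ hμ
  have hζK : ζ ∈ K := mem_adjoin_simple_self ℚ ζ
  obtain ⟨j, -, rfl⟩ := hζ.eq_pow_of_pow_eq_one hμ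
  have hmem : ζ ^ j ∈ K := pow_mem hζK j
  have h1 := hτ ⟨ζ ^ j, hmem⟩
  have h2 : σ ⟨ζ ^ j, hmem⟩ = (⟨ζ ^ j, hmem⟩ : K) ^ k := by
    apply hσμ
    apply Subtype.ext
    simpa using hμ
  have h3 : algebraMap K ℂ ⟨ζ ^ j, hmem⟩ = ζ ^ j := rfl
  rw [h3] at h1
  rw [h1]
  show algebraMap K ℂ (σ ⟨ζ ^ j, hmem⟩) = _
  rw [h2]
  rfl

end Cfsg.Agent.Lib.Helper23
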