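/-
helper23: Galois conjugates of characters.  For `k` coprime to `|G|` and a character `χ` of `G`,
`g ↦ χ (g ^ k)` is again a character, irreducible when `χ` is.
-/
import Mathlib
import Cfsg.Prelude.Def_Characters
import Cfsg.Agent.Lib.Helper24.GaloisNorm
import Cfsg.Agent.Lib.Helper6.CharNorm
import Cfsg.Agent.Lib.Helper23.ComplexAut

set_option autoImplicit false

namespace Cfsg.Agent.Lib.Helper23

open Cfsg Cfsg.Agent.CharLib
open scoped ComplexConjugate

universe u

variable {G : Type u} [Group G]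

/-- The representation obtained by applying a field automorphism to the matrix entries. -/
noncomputable def twistRep (τ : ℂ ≃+* ℂ) {n : ℕ} (ρ : Representation ℂ G (Fin n → ℂ)) :
    Representation ℂ G (Fin n → ℂ) where
  toFun g := Matrix.toLin' ((LinearMap.toMatrix' (ρ g)).map τ)
  map_one' := by
    rw [map_one, LinearMap.toMatrix'_one, Matrix.map_one _ (map_zero τ) (map_one τ), Matrix.toLin'_one]
    rfl
  map_mul' g h := by
    rw [map_mul, LinearMap.toMatrix'_mul, Matrix.map_mul, Matrix.toLin'_mul]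
    rfl

theorem twistRep_apply (τ : ℂ ≃+* ℂ) {n : ℕ} (ρ : Representation ℂ G (Fin n → ℂ)) (g : G) :
    twistRep τ ρ g = Matrix.toLin' ((LinearMap.toMatrix' (ρ g)).map τ) := rfl

theorem twistRep_character (τ : ℂ ≃+* ℂ) {n : ℕ} (ρ : Representation ℂ G (Fin n → ℂ)) (g : G) :
    (twistRep τ ρ).character g = τ (ρ.character g) := by
  unfold Representation.character
  rw [twistRep_apply, Matrix.trace_toLin'_eq,
    LinearMap.trace_eq_matrix_trace ℂ (Pi.basisFun ℂ (Fin n)), LinearMap.toMatrix_eq_toMatrix']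
  exact (AddMonoidHom.map_trace (τ : ℂ →+ ℂ) _).symm

/-- For `k` coprime to `|G|`, the function `g ↦ χ (g ^ k)` is a character when `χ` is. -/
theorem isCharacter_comp_pow [Finite G] {χ : G → ℂ} (hχ : IsCharacter G χ) (k : ℕ)
    (hk : k.Coprime (Nat.card G)) : IsCharacter G (fun g => χ (g ^ k)) := by
  obtain ⟨n, ρ, rfl⟩ := hχ
  haveI : NeZero (Nat.card G) := ⟨Nat.card_pos.ne'⟩
  obtain ⟨τ, hτ⟩ := exists_ringEquiv_complex_pow (Nat.card G) k hk
  refine ⟨n, twistRep τ ρ, ?_⟩
  funext g
  rw [twistRep_character]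
  obtain ⟨ι, hι, μ, h1, h2, h3, h4⟩ := Cfsg.Agent.Lib.Helper24.exists_roots_char_pow ρ g
  have h5 : ρ.character g = ∑ i, μ i := by
    have := h4 1
    simpa using this
  rw [h5, map_sum, h4 k]
  apply Finset.sum_congr rfl
  intro i _
  apply hτ
  obtain ⟨c, hc⟩ := orderOf_dvd_natCard g
  rw [hc, pow_mul, h1 i, one_pow]

/-- For `k` coprime to `|G|`, the function `g ↦ χ (g ^ k)` is an irreducible character when `χ` is. -/
theorem isIrrCharacter_comp_pow [Finite G] {χ : G → ℂ} (hχ : IsIrrCharacter G χ) (k : ℕ)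
    (hk : k.Coprime (Nat.card G)) : IsIrrCharacter G (fun g => χ (g ^ k)) := by
  classical
  let _ := Fintype.ofFinite G
  apply Cfsg.Agent.Lib.Helper6.isIrrCharacter_of_classInner_self_eq_one
    (isCharacter_comp_pow (IsIrrCharacter.isCharacter hχ) k hk)
  have h1 := classInner_irr hχ hχ
  rw [if_pos rfl] at h1
  rw [← h1]
  unfold classInner
  congr 1
  have h2 := Equiv.sum_comp (powCoprime hk.symm) (fun g => χ g * conj (χ g))
  simpa [powCoprime_apply] using h2

end Cfsg.Agent.Lib.Helper23
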