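import Mathlib

set_option autoImplicit false

/-!
Helper lemmas on numbers of Sylow subgroups (helper23).
-/

namespace Cfsg.Agent.Lib.Helper23

open Subgroup

/-- A Sylow `p`-subgroup lies in any normal subgroup of index prime to `p`. -/
theorem sylow_le_of_normal_of_not_dvd_index {G : Type*} [Group G] [Finite G] (p : ℕ) [Fact p.Prime]
    (H : Subgroup G) [H.Normal] (hp : ¬ p ∣ H.index) (P : Sylow p G) : (P : Subgroup G) ≤ H := by
  -- the image of P in G ⧸ H is a p-group whose order divides the index
  have h1 : IsPGroup p ((P : Subgroup G).map (QuotientGroup.mk' H)) := P.isPGroup'.map _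
  obtain ⟨k, hk⟩ := IsPGroup.iff_card.mp h1
  have h2 : Nat.card ((P : Subgroup G).map (QuotientGroup.mk' H)) ∣ H.index := by
    rw [Subgroup.index_eq_card]
    exact Subgroup.card_subgroup_dvd_card _
  have hk0 : k = 0 := by
    by_contra hne
    apply hp
    refine dvd_trans ?_ h2
    rw [hk]
    exact dvd_pow_self p hne
  rw [hk0, pow_zero, Subgroup.card_eq_one] at hk
  intro x hx
  have : QuotientGroup.mk' H x ∈ (P : Subgroup G).map (QuotientGroup.mk' H) := ⟨x, hx, rfl⟩
  rw [hk, Subgroup.mem_bot] at this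
  exact (QuotientGroup.eq_one_iff x).mp this

/-- If `H` is normal of index prime to `p`, then `H` and `G` have the same number of Sylow
`p`-subgroups. -/
theorem card_sylow_eq_of_normal_of_not_dvd_index {G : Type*} [Group G] [Finite G] (p : ℕ)
    [Fact p.Prime] (H : Subgroup G) [H.Normal] (hp : ¬ p ∣ H.index) :
    Nat.card (Sylow p H) = Nat.card (Sylow p G) := by
  symm
  apply Nat.card_eq_of_bijective
    (fun P : Sylow p G => P.subtype (sylow_le_of_normal_of_not_dvd_index p H hp P))
  constructor
  · intro P Q h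
    exact Sylow.subtype_injective h
  · intro Q
    obtain ⟨P, hP⟩ := Q.exists_comap_subtype_eq
    refine ⟨P, ?_⟩
    apply Sylow.ext
    rw [Sylow.coe_subtype]
    exact hP

/-- If `Z` is a central (normal) subgroup of the finite group `G`, then `G ⧸ Z` and `G` have the
same number of Sylow `p`-subgroups. -/
theorem card_sylow_quotient_of_le_center {G : Type*} [Group G] [Finite G] (p : ℕ)
    [Fact p.Prime] (Z : Subgroup G) [Z.Normal] (hZ : Z ≤ Subgroup.center G) :
    Nat.card (Sylow p (G ⧸ Z)) = Nat.card (Sylow p G) := by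
  symm
  have hsurj : Function.Surjective (QuotientGroup.mk' Z) := QuotientGroup.mk'_surjective Z
  apply Nat.card_eq_of_bijective (Sylow.mapSurjective hsurj : Sylow p G → Sylow p (G ⧸ Z))
  refine ⟨?_, Sylow.mapSurjective_surjective hsurj p⟩
  intro P Q h
  have h' : (P : Subgroup G).map (QuotientGroup.mk' Z) = (Q : Subgroup G).map (QuotientGroup.mk' Z) := by
    have := congrArg (fun R : Sylow p (G ⧸ Z) => (R : Subgroup (G ⧸ Z))) h
    simpa using this
  -- Q ≤ P ⊔ Z ≤ normalizer P
  have hQle : (Q : Subgroup G) ≤ Subgroup.normalizer ((P : Subgroup G) : Set G) := by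
    intro q hq
    have : QuotientGroup.mk' Z q ∈ (P : Subgroup G).map (QuotientGroup.mk' Z) := by
      rw [h']; exact ⟨q, hq, rfl⟩
    obtain ⟨x, hx, hxq⟩ := this
    have hz : x⁻¹ * q ∈ Z := by
      have := QuotientGroup.eq.mp hxq
      exact this
    have hzc : x⁻¹ * q ∈ Subgroup.center G := hZ hz
    have hqx : q = x * (x⁻¹ * q) := by group
    rw [hqx]
    apply Subgroup.mul_mem
    · exact Subgroup.le_normalizer hx
    · rw [Subgroup.mem_normalizer_iff]
      intro h
      have hc := Subgroup.mem_center_iff.mp hzc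
      have : x⁻¹ * q * h * (x⁻¹ * q)⁻¹ = h := by
        rw [← hc h]; group
      rw [this]
  have h3 := IsPGroup.inf_normalizer_sylow Q.isPGroup' P
  have hQP : (Q : Subgroup G) ≤ (P : Subgroup G) := by
    have h4 : (Q : Subgroup G) ⊓ Subgroup.normalizer ((P : Subgroup G) : Set G) = (Q : Subgroup G) :=
      inf_of_le_left hQle
    have h5 : (Q : Subgroup G) = (Q : Subgroup G) ⊓ (P : Subgroup G) := h4.symm.trans h3
    exact left_eq_inf.mp h5
  exact (Sylow.ext (Q.is_maximal' P.isPGroup' hQP))

end Cfsg.Agent.Lib.Helper23
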