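/-
helper23: Brauer's extended first main theorem: for P C_G(P) ≤ H ≤ N_G(P), blocks of G induced from H
are those with P ≤_G D (general form of helper6 `exists_block_normalizer`); and the unit-coefficient
criterion.
-/
import Mathlib
import Cfsg.Agent.Lib.Helper6.FirstMain
import Cfsg.Agent.S0906

set_option autoImplicit false
open Cfsg Cfsg.Agent.CharLib Cfsg.Agent.Lib.Helper24 Cfsg.Agent.Lib.Helper6

namespace Cfsg.Agent.Lib.Helper23

universe u

section
variable {G : Type u} [Group G] [Finite G] {M : Ideal AlgInt}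

/-- General form of the existence part of the first main theorem: if `P C_G(P) ≤ H ≤ N_G(P)` and
the block idempotent of `B` has a coefficient outside the local ideal at some element of
`C_G(P)`, then `B` is induced from a block of `H`. -/
theorem exists_induced_block_of_blockCoeff {p : ℕ} [hpp : Fact p.Prime] (hM : IsPModular p M)
    (P H : Subgroup G) (hP : IsPGroup p P) (hPH : P ≤ H)
    (hCH : Subgroup.centralizer (P : Set G) ≤ H) (hHN : H ≤ Subgroup.normalizer (P : Set G))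
    (χ₀ : IrrCharacter G) (x : G) (hxP : x ∈ Subgroup.centralizer (P : Set G))
    (hx : ¬ MemLocalIdeal M (blockCoeff (blockOf M (χ₀ : G → ℂ)) x)) :
    ∃ b : Set (IrrCharacter H), IsInducedBlock M H b (blockOf M (χ₀ : G → ℂ)) := by
  classical
  let _ := Fintype.ofFinite G
  let _ := Fintype.ofFinite H
  have hprime : M.IsPrime := isPrime_of_isPModular hM
  have hxH : x ∈ H := hCH hxP
  have heC : IsClassFunction G (blockCoeff (blockOf M (χ₀ : G → ℂ))) :=
    blockCoeff_isClassFunction _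
  have heR : ∀ g, MemLocalRing M (blockCoeff (blockOf M (χ₀ : G → ℂ)) g) :=
    memLocalRing_blockCoeff_blockOf χ₀
  have hβC : IsClassFunction H (brFun P H (blockCoeff (blockOf M (χ₀ : G → ℂ)))) :=
    brFun_isClassFunction P _ hHN heC
  have hβR : ∀ h, MemLocalRing M (brFun P H (blockCoeff (blockOf M (χ₀ : G → ℂ))) h) :=
    brFun_memLocalRing P _ heR
  have hidem : ∀ h, MemLocalIdeal M
      (conv (brFun P H (blockCoeff (blockOf M (χ₀ : G → ℂ))))
        (brFun P H (blockCoeff (blockOf M (χ₀ : G → ℂ)))) h -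
        brFun P H (blockCoeff (blockOf M (χ₀ : G → ℂ))) h) := by
    intro h
    have h1 := brFun_conv_sub P H hM hP hCH heC heR heC heR h
    rw [conv_blockCoeff_self] at h1
    have := memLocalIdeal_neg h1
    rwa [neg_sub] at this
  have hβx : ¬ MemLocalIdeal M (brFun P H (blockCoeff (blockOf M (χ₀ : G → ℂ))) ⟨x, hxH⟩) := by
    rw [brFun_of_mem P _ _ (h := ⟨x, hxH⟩) hxP]
    exact hx
  obtain ⟨ξ, hξ⟩ : ∃ ξ : IrrCharacter H, ¬ MemLocalIdeal M
      (omegaFun (ξ : H → ℂ) (brFun P H (blockCoeff (blockOf M (χ₀ : G → ℂ))))) := by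
    by_contra hcon
    push Not at hcon
    exact hβx (memLocalIdeal_of_idempotent hβC hβR hidem hcon _)
  have h2 : ¬ MemLocalIdeal M (omegaFun (ξ : H → ℂ)
      (resFun H (blockCoeff (blockOf M (χ₀ : G → ℂ))))) := by
    intro hc
    have h3 := memLocalIdeal_omegaFun_resFun_sub_brFun P H hM hP hPH hHN heC heR ξ
    have h4 := memLocalIdeal_sub hc h3
    rw [sub_sub_cancel] at h4
    exact hξ h4
  obtain ⟨B₁, hind⟩ := inducedBlockDefined_of_le_normalizer hM P H hP hPH hCH hHN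
    (blockOf M (ξ : H → ℂ)) ⟨ξ, rfl⟩
  have hξb : ξ ∈ blockOf M (ξ : H → ℂ) := mem_blockOf_self ξ
  obtain ⟨χ₁, hB₁⟩ := hind.2.1
  have hχ₁ : χ₁ ∈ B₁ := by rw [hB₁]; exact mem_blockOf_self χ₁
  have h4 := memLocalIdeal_omegaFun_resFun_sub_of_induced H hind hξb hχ₁ heC heR
  have hχ₁B : χ₁ ∈ blockOf M (χ₀ : G → ℂ) := by
    by_contra hcon
    rw [omegaFun_blockCoeff, if_neg hcon, sub_zero] at h4
    exact h2 h4
  have hBB : B₁ = blockOf M (χ₀ : G → ℂ) := isPBlock_eq_of_mem hind.2.1 ⟨χ₀, rfl⟩ hχ₁ hχ₁B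
  rw [hBB] at hind
  exact ⟨_, hind⟩

/-- Every block has a defect group. -/
theorem exists_isDefectGroup {p : ℕ} [hpp : Fact p.Prime] (hM : IsPModular p M)
    (B : Set (IrrCharacter G)) (hB : IsPBlock M B) : ∃ D : Subgroup G, IsDefectGroup p M B D := by
  obtain ⟨l, hl⟩ := Cfsg.Agent.S0906.result p M hM B hB
  obtain ⟨P⟩ : Nonempty (Sylow p (Subgroup.centralizer ({l} : Set G))) := inferInstance
  exact ⟨_, l, hl, P, rfl⟩

/-- Brauer: for `P C_G(P) ≤ H ≤ N_G(P)`, a block `B` of `G` is induced from a block of `H` iff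
`P` is conjugate into a defect group of `B`. -/
theorem induced_from_iff_le_defectGroup (p : ℕ) [Fact p.Prime] (hM : Cfsg.IsPModular p M)
    (P H : Subgroup G) (hP : IsPGroup p P)
    (hPH : P ⊔ Subgroup.centralizer (P : Set G) ≤ H)
    (hHN : H ≤ Subgroup.normalizer (P : Set G)) (B : Set (Cfsg.IrrCharacter G))
    (hB : Cfsg.IsPBlock M B) :
    (∃ b : Set (Cfsg.IrrCharacter H), Cfsg.IsInducedBlock M H b B) ↔
      ∃ D : Subgroup G, Cfsg.IsDefectGroup p M B D ∧
        ∃ x : G, P.map (MulAut.conj x).toMonoidHom ≤ D := by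
  have hPH' : P ≤ H := le_sup_left.trans hPH
  have hCH : Subgroup.centralizer (P : Set G) ≤ H := le_sup_right.trans hPH
  constructor
  · rintro ⟨b, hind⟩
    obtain ⟨Q, hQ⟩ := exists_isDefectGroup (p := p) hM b hind.1
    have hn : (P.subgroupOf H).Normal := by
      have := Subgroup.normal_in_normalizer (H := P)
      exact (Subgroup.normal_subgroupOf_of_le_normalizer hHN)
    have h1 := le_of_isDefectGroup_of_normal hM (P.subgroupOf H) hP.comap_subtype hind.1 hQ
    obtain ⟨E, hE, hQE⟩ := exists_defectGroup_ge_of_induced hM H b B hind Q hQ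
    refine ⟨E, hE, 1, ?_⟩
    intro w hw
    obtain ⟨q, hq, rfl⟩ := hw
    apply hQE
    refine ⟨⟨q, hPH' hq⟩, h1 (Subgroup.mem_subgroupOf.mpr hq), ?_⟩
    simp
  · rintro ⟨D, hD, x, hx⟩
    obtain ⟨χ₀, rfl⟩ := hB
    obtain ⟨y, hy, S, rfl⟩ := hD
    have hyc : ∀ q ∈ P, x * q * x⁻¹ ∈ Subgroup.centralizer ({y} : Set G) := by
      intro q hq
      have : x * q * x⁻¹ ∈ P.map (MulAut.conj x).toMonoidHom := ⟨q, hq, by simp⟩
      obtain ⟨u, _, hu⟩ := hx this
      rw [← hu]
      exact u.2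
    have hxP : x⁻¹ * y * x ∈ Subgroup.centralizer (P : Set G) := by
      rw [Subgroup.mem_centralizer_iff]
      intro q hq
      have h1 := Subgroup.mem_centralizer_singleton_iff.mp (hyc q hq)
      -- h1 : x * q * x⁻¹ * y = y * (x * q * x⁻¹)
      calc q * (x⁻¹ * y * x) = x⁻¹ * ((x * q * x⁻¹) * y) * x := by group
        _ = x⁻¹ * (y * (x * q * x⁻¹)) * x := by rw [h1]
        _ = x⁻¹ * y * x * q := by group
    have hcoef : blockCoeff (blockOf M (χ₀ : G → ℂ)) (x⁻¹ * y * x) =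
        blockCoeff (blockOf M (χ₀ : G → ℂ)) y := by
      have := blockCoeff_isClassFunction (blockOf M (χ₀ : G → ℂ)) y x⁻¹
      rw [inv_inv] at this
      exact this
    exact exists_induced_block_of_blockCoeff hM P H hP hPH' hCH hHN χ₀ (x⁻¹ * y * x) hxP
      (by rw [hcoef]; exact hy.2.1)

/-- The Brauer map at `P` does not kill the block idempotent iff `P` is conjugate into the defect
group. -/
theorem brauer_unit_coeff_iff (p : ℕ) [Fact p.Prime] (hM : Cfsg.IsPModular p M)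
    (B : Set (Cfsg.IrrCharacter G)) (hB : Cfsg.IsPBlock M B) (D : Subgroup G)
    (hD : Cfsg.IsDefectGroup p M B D) (P : Subgroup G) (hP : IsPGroup p P) :
    (∃ g : G, Cfsg.MemLocalRing M (Cfsg.blockCoeff B g) ∧
      ¬ Cfsg.MemLocalIdeal M (Cfsg.blockCoeff B g) ∧
      ∃ c : G, IsConj g c ∧ c ∈ Subgroup.centralizer (P : Set G)) ↔
    ∃ x : G, P.map (MulAut.conj x).toMonoidHom ≤ D := by
  classical
  let _ := Fintype.ofFinite G
  have hprime : M.IsPrime := isPrime_of_isPModular hM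
  obtain ⟨χ₀, rfl⟩ := hB
  obtain ⟨y, hy, S, rfl⟩ := hD
  constructor
  · rintro ⟨g, _, hg, c, hgc, hcP⟩
    have hcc : blockCoeff (blockOf M (χ₀ : G → ℂ)) c = blockCoeff (blockOf M (χ₀ : G → ℂ)) g := by
      obtain ⟨k, hk⟩ := isConj_iff.mp hgc
      rw [← hk]
      exact blockCoeff_isClassFunction _ g k
    have hle : CentLE p c y := centLE_of_blockCoeff hM χ₀ y (hy.2.2 χ₀ (mem_blockOf_self χ₀)) c
      (by rw [hcc]; exact hg)
    have hPc : P ≤ Subgroup.centralizer ({c} : Set G) := by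
      intro q hq
      rw [Subgroup.mem_centralizer_singleton_iff]
      exact (Subgroup.mem_centralizer_iff.mp hcP q hq)
    obtain ⟨y', hy', hPy'⟩ := hle P hP hPc
    obtain ⟨k, rfl⟩ := isConj_iff.mp hy'
    -- `P^{k⁻¹} ≤ C(y)`
    have h1 : P.map (MulAut.conj k⁻¹).toMonoidHom ≤ Subgroup.centralizer ({y} : Set G) := by
      rintro _ ⟨q, hq, rfl⟩
      have h2 := Subgroup.mem_centralizer_singleton_iff.mp (hPy' hq)
      rw [Subgroup.mem_centralizer_singleton_iff]
      simp only [MulEquiv.coe_toMonoidHom, MulAut.conj_apply, inv_inv]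
      calc k⁻¹ * q * k * y = k⁻¹ * (q * (k * y * k⁻¹)) * k := by group
        _ = k⁻¹ * ((k * y * k⁻¹) * q) * k := by rw [h2]
        _ = y * (k⁻¹ * q * k) := by group
    obtain ⟨S', hS', hPS'⟩ := exists_isSylowIn_ge (Subgroup.centralizer ({y} : Set G))
      (hP.map (MulAut.conj k⁻¹).toMonoidHom) h1
    obtain ⟨u, _, hu⟩ := IsSylowIn.exists_conj (p := p) hS' ⟨S, rfl⟩
    refine ⟨u * k⁻¹, ?_⟩
    rw [hu]
    rintro _ ⟨q, hq, rfl⟩
    refine ⟨k⁻¹ * q * k, hPS' ⟨q, hq, by simp⟩, ?_⟩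
    simp only [MulEquiv.coe_toMonoidHom, MulAut.conj_apply, mul_inv_rev, inv_inv]
    group
  · rintro ⟨x, hx⟩
    refine ⟨y, hy.1, hy.2.1, x⁻¹ * y * x, isConj_iff.mpr ⟨x⁻¹, by group⟩, ?_⟩
    have hyc : ∀ q ∈ P, x * q * x⁻¹ ∈ Subgroup.centralizer ({y} : Set G) := by
      intro q hq
      have : x * q * x⁻¹ ∈ P.map (MulAut.conj x).toMonoidHom := ⟨q, hq, by simp⟩
      obtain ⟨u, _, hu⟩ := hx this
      rw [← hu]
      exact u.2
    rw [Subgroup.mem_centralizer_iff]
    intro q hq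
    have h1 := Subgroup.mem_centralizer_singleton_iff.mp (hyc q hq)
    calc q * (x⁻¹ * y * x) = x⁻¹ * ((x * q * x⁻¹) * y) * x := by group
      _ = x⁻¹ * (y * (x * q * x⁻¹)) * x := by rw [h1]
      _ = x⁻¹ * y * x * q := by group

end

end Cfsg.Agent.Lib.Helper23
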