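import Mathlib
import Cfsg.Agent.Lib.Helper6.DefectOrder
import Cfsg.Agent.Lib.Helper6.MinMax
import Cfsg.Agent.Lib.Helper6.Osima2
import Cfsg.Agent.Lib.Helper6.FirstMain
import Cfsg.Agent.S0906
import Cfsg.Agent.S0911

set_option autoImplicit false

namespace Cfsg.Agent.Lib.Helper23

open Cfsg Cfsg.Agent.CharLib Cfsg.Agent.Lib.Helper24 Cfsg.Agent.Lib.Helper6
open scoped ComplexConjugate

universe u

section

variable {G : Type u} [Group G] [Finite G] {M : Ideal AlgInt}

/-- If the central character of a member of the block `B` is a unit at `h`, then the defect of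
`B` is at most the defect of the class of `h`. -/
theorem blockDefect_le_of_centralChar {p : ℕ} [hpp : Fact p.Prime] (hM : IsPModular p M)
    (φ : IrrCharacter G) (h : G) (hh : ¬ MemLocalIdeal M (centralChar (φ : G → ℂ) h)) :
    blockDefect p (blockOf M (φ : G → ℂ)) ≤
      (Nat.card (Subgroup.centralizer ({h} : Set G))).factorization p := by
  classical
  have hprime : M.IsPrime := isPrime_of_isPModular hM
  have hB : IsPBlock M (blockOf M (φ : G → ℂ)) := ⟨φ, rfl⟩
  obtain ⟨g, hg⟩ := Cfsg.Agent.S0906.result p M hM _ hB
  obtain ⟨D⟩ : Nonempty (Sylow p (Subgroup.centralizer ({g} : Set G))) := inferInstance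
  have hmm := (Cfsg.Agent.S0911.result p M hM _ hB g hg D h).2 ⟨φ, mem_blockOf_self φ, hh⟩
  obtain ⟨x, Q, hle⟩ := hmm
  have hDcard : Nat.card ((D : Subgroup (Subgroup.centralizer ({g} : Set G))).map
      (Subgroup.centralizer ({g} : Set G)).subtype) = p ^ blockDefect p (blockOf M (φ : G → ℂ)) :=
    card_defectGroup_eq hM _ hB _ ⟨g, hg, D, rfl⟩
  have hQcard : Nat.card ((Q : Subgroup (Subgroup.centralizer ({h} : Set G))).map
      (Subgroup.centralizer ({h} : Set G)).subtype) =
      p ^ (Nat.card (Subgroup.centralizer ({h} : Set G))).factorization p := by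
    rw [Subgroup.card_map_of_injective (Subgroup.subtype_injective _)]
    exact Q.card_eq_multiplicity
  have h1 := Subgroup.card_le_of_le hle
  have h2 : Nat.card ((((D : Subgroup (Subgroup.centralizer ({g} : Set G))).map
      (Subgroup.centralizer ({g} : Set G)).subtype).map (MulAut.conj x).toMonoidHom : Subgroup G)) =
      p ^ blockDefect p (blockOf M (φ : G → ℂ)) := by
    rw [← hDcard]
    exact Subgroup.card_map_of_injective (MulAut.conj x).injective
  rw [h2, hQcard] at h1
  exact (Nat.pow_le_pow_iff_right hpp.out.one_lt).mp h1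

/-- If the idempotent coefficient of the block `B` is a unit at `h`, then the defect of the class
of `h` is at most the defect of `B`. -/
theorem le_blockDefect_of_blockCoeff {p : ℕ} [hpp : Fact p.Prime] (hM : IsPModular p M)
    (φ : IrrCharacter G) (h : G)
    (hh : ¬ MemLocalIdeal M (blockCoeff (blockOf M (φ : G → ℂ)) h)) :
    (Nat.card (Subgroup.centralizer ({h} : Set G))).factorization p ≤
      blockDefect p (blockOf M (φ : G → ℂ)) := by
  classical
  let _ := Fintype.ofFinite G
  have hprime : M.IsPrime := isPrime_of_isPModular hM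
  have hB : IsPBlock M (blockOf M (φ : G → ℂ)) := ⟨φ, rfl⟩
  obtain ⟨g, hg⟩ := Cfsg.Agent.S0906.result p M hM _ hB
  obtain ⟨D⟩ : Nonempty (Sylow p (Subgroup.centralizer ({g} : Set G))) := inferInstance
  have hmm := (Cfsg.Agent.S0911.result p M hM _ hB g hg D h).1
    (memLocalRing_blockCoeff_blockOf φ h) hh
  obtain ⟨x, Q, hle⟩ := hmm
  have hDcard : Nat.card ((D : Subgroup (Subgroup.centralizer ({g} : Set G))).map
      (Subgroup.centralizer ({g} : Set G)).subtype) = p ^ blockDefect p (blockOf M (φ : G → ℂ)) :=
    card_defectGroup_eq hM _ hB _ ⟨g, hg, D, rfl⟩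
  have hQcard : Nat.card ((Q : Subgroup (Subgroup.centralizer ({h} : Set G))).map
      (Subgroup.centralizer ({h} : Set G)).subtype) =
      p ^ (Nat.card (Subgroup.centralizer ({h} : Set G))).factorization p := by
    rw [Subgroup.card_map_of_injective (Subgroup.subtype_injective _)]
    exact Q.card_eq_multiplicity
  have h1 := Subgroup.card_le_of_le hle
  have h2 : Nat.card ((((D : Subgroup (Subgroup.centralizer ({g} : Set G))).map
      (Subgroup.centralizer ({g} : Set G)).subtype).map (MulAut.conj x).toMonoidHom : Subgroup G)) =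
      p ^ blockDefect p (blockOf M (φ : G → ℂ)) := by
    rw [← hDcard]
    exact Subgroup.card_map_of_injective (MulAut.conj x).injective
  rw [h2, hQcard] at h1
  exact (Nat.pow_le_pow_iff_right hpp.out.one_lt).mp h1

theorem sameBlock_iff_defect_classes (p : ℕ) [hpp : Fact p.Prime] (hM : IsPModular p M) (d : ℕ)
    (χ ψ : IrrCharacter G) (hχ : blockDefect p (blockOf M (χ : G → ℂ)) = d)
    (hψ : blockDefect p (blockOf M (ψ : G → ℂ)) = d) :
    SameBlock M (χ : G → ℂ) (ψ : G → ℂ) ↔ ∀ x : G, ¬ p ∣ orderOf x →
      (Nat.card (Subgroup.centralizer ({x} : Set G))).factorization p = d →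
      MemLocalIdeal M (centralChar (χ : G → ℂ) x - centralChar (ψ : G → ℂ) x) := by
  classical
  let _ := Fintype.ofFinite G
  let _ : Fintype (ConjClasses G) := Fintype.ofFinite _
  have hprime : M.IsPrime := isPrime_of_isPModular hM
  constructor
  · intro h x _ _
    exact h x
  · intro hyp
    by_contra hne
    have hψB : ψ ∉ blockOf M (χ : G → ℂ) := hne
    have hχB : χ ∈ blockOf M (χ : G → ℂ) := mem_blockOf_self χ
    have h1 : omegaFun (χ : G → ℂ) (blockCoeff (blockOf M (χ : G → ℂ))) = 1 := by
      rw [omegaFun_blockCoeff, if_pos hχB]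
    have h0 : omegaFun (ψ : G → ℂ) (blockCoeff (blockOf M (χ : G → ℂ))) = 0 := by
      rw [omegaFun_blockCoeff, if_neg hψB]
    have hcls := blockCoeff_isClassFunction (blockOf M (χ : G → ℂ))
    have hdiff : MemLocalIdeal M (omegaFun (χ : G → ℂ) (blockCoeff (blockOf M (χ : G → ℂ))) -
        omegaFun (ψ : G → ℂ) (blockCoeff (blockOf M (χ : G → ℂ)))) := by
      rw [omegaFun_eq_sum_conjClasses χ hcls, omegaFun_eq_sum_conjClasses ψ hcls,
        ← Finset.sum_sub_distrib]
      apply sum_memLocalIdeal
      intro C _
      rw [← mul_sub]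
      set x := Quotient.out C with hx
      have haR : MemLocalRing M (blockCoeff (blockOf M (χ : G → ℂ)) x) :=
        memLocalRing_blockCoeff_blockOf χ x
      by_cases hreg : p ∣ orderOf x
      · rw [blockCoeff_eq_zero_of_dvd_orderOf hM χ x hreg, zero_mul]
        exact memLocalIdeal_zero hprime.one_notMem
      · rcases lt_trichotomy
          ((Nat.card (Subgroup.centralizer ({x} : Set G))).factorization p) d with hlt | heq | hgt
        · -- both central characters vanish mod M
          apply memLocalIdeal_mul_left haR
          apply memLocalIdeal_sub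
          · by_contra hcon
            have := blockDefect_le_of_centralChar hM χ x hcon
            omega
          · by_contra hcon
            have := blockDefect_le_of_centralChar hM ψ x hcon
            omega
        · exact memLocalIdeal_mul_left haR (hyp x hreg heq)
        · apply memLocalIdeal_mul_right _
            (memLocalRing_sub (memLocalRing_centralChar χ x) (memLocalRing_centralChar ψ x))
          by_contra hcon
          have := le_blockDefect_of_blockCoeff hM χ x hcon
          omega
    rw [h1, h0, sub_zero] at hdiff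
    exact not_memLocalIdeal_one hdiff

end

end Cfsg.Agent.Lib.Helper23
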