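import Mathlib
import Cfsg.Agent.Lib.Helper24.LocalRing
import Cfsg.Agent.Lib.Helper6.Osima

set_option autoImplicit false

namespace Cfsg.Agent.Lib.Helper23

open Cfsg Cfsg.Agent.Lib.Helper24 Cfsg.Agent.Lib.Helper6

section

variable (M : Ideal AlgInt) [hp : M.IsPrime]

/-- The local ring at `M` as a subring of `ℂ`. -/
def localSubring : Subring ℂ where
  carrier := {z | MemLocalRing M z}
  mul_mem' := fun ha hb => memLocalRing_mul ha hb
  one_mem' := memLocalRing_one
  add_mem' := fun ha hb => memLocalRing_add ha hb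
  zero_mem' := memLocalRing_zero
  neg_mem' := fun ha => memLocalRing_neg ha

/-- The local ideal at `M` as an ideal of the local subring. -/
def localIdeal : Ideal (localSubring M) where
  carrier := {z | MemLocalIdeal M (z : ℂ)}
  add_mem' := fun ha hb => memLocalIdeal_add ha hb
  zero_mem' := memLocalIdeal_zero hp.one_notMem
  smul_mem' := fun c _ hx => memLocalIdeal_mul_left c.2 hx

theorem localIdeal_ne_top : localIdeal M ≠ ⊤ := by
  intro h
  have h1 : (1 : localSubring M) ∈ localIdeal M := by rw [h]; trivial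
  exact not_memLocalIdeal_one (M := M) h1

variable {M}

/-- **Rank argument modulo `M`**: if `P`, `Q` are `ι × κ` matrices of local integers with
`P Qᵀ ≡ 1` modulo the local ideal, then `#ι ≤ #κ`. -/
theorem card_le_of_mul_transpose_eq_one_mod {ι κ : Type*} [Fintype ι] [Fintype κ] [DecidableEq ι]
    (P Q : ι → κ → ℂ) (hP : ∀ i k, MemLocalRing M (P i k)) (hQ : ∀ i k, MemLocalRing M (Q i k))
    (h : ∀ i j, MemLocalIdeal M ((∑ k, P i k * Q j k) - if i = j then 1 else 0)) :
    Fintype.card ι ≤ Fintype.card κ := by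
  classical
  have hnt : Nontrivial (localSubring M ⧸ localIdeal M) :=
    Ideal.Quotient.nontrivial_iff.mpr (localIdeal_ne_top M)
  let P' : Matrix ι κ (localSubring M ⧸ localIdeal M) :=
    fun i k => Ideal.Quotient.mk (localIdeal M) ⟨P i k, hP i k⟩
  let Q' : Matrix κ ι (localSubring M ⧸ localIdeal M) :=
    fun k j => Ideal.Quotient.mk (localIdeal M) ⟨Q j k, hQ j k⟩
  have hmul : P' * Q' = 1 := by
    ext i j
    rw [Matrix.mul_apply, Matrix.one_apply]
    have h1 : ∑ k, P' i k * Q' k j = Ideal.Quotient.mk (localIdeal M)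
        (∑ k, (⟨P i k, hP i k⟩ : localSubring M) * ⟨Q j k, hQ j k⟩) := by
      rw [map_sum]
      apply Finset.sum_congr rfl
      intro k _
      rw [map_mul]
    rw [h1]
    have h2 : (if i = j then (1 : localSubring M ⧸ localIdeal M) else 0) =
        Ideal.Quotient.mk (localIdeal M) (if i = j then 1 else 0) := by
      split_ifs <;> simp
    rw [h2, Ideal.Quotient.eq]
    change MemLocalIdeal M (((∑ k, (⟨P i k, hP i k⟩ : localSubring M) * ⟨Q j k, hQ j k⟩) -
      (if i = j then (1 : localSubring M) else 0) : localSubring M) : ℂ)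
    have h3 : (((∑ k, (⟨P i k, hP i k⟩ : localSubring M) * ⟨Q j k, hQ j k⟩) -
      (if i = j then (1 : localSubring M) else 0) : localSubring M) : ℂ) =
      (∑ k, P i k * Q j k) - if i = j then 1 else 0 := by
      push_cast
      congr 1
      split_ifs <;> simp
    rw [h3]
    exact h i j
  have hr1 : (P' * Q').rank = Fintype.card ι := by rw [hmul, Matrix.rank_one]
  have hr2 := Matrix.rank_mul_le_left P' Q'
  have hr3 := Matrix.rank_le_card_width P'
  omega

end

end Cfsg.Agent.Lib.Helper23
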