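import Mathlib
import Cfsg.Agent.Lib.Helper23.DefectClassCriterion
import Cfsg.Agent.Lib.Helper23.RankModM

set_option autoImplicit false

namespace Cfsg.Agent.Lib.Helper23

open Cfsg Cfsg.Agent.CharLib Cfsg.Agent.Lib.Helper24 Cfsg.Agent.Lib.Helper6
open scoped ComplexConjugate

universe u

section

variable {G : Type u} [Group G] [Finite G] {M : Ideal AlgInt}

omit [Finite G] in
/-- Conjugate elements have centralisers of the same order. -/
theorem card_centralizer_eq_of_isConj' {a b : G} (h : IsConj a b) :
    Nat.card (Subgroup.centralizer ({a} : Set G)) = Nat.card (Subgroup.centralizer ({b} : Set G)) := by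
  obtain ⟨c, hc⟩ := isConj_iff.mp h
  subst hc
  apply Nat.card_congr
  refine
    { toFun := fun x => ⟨c * x * c⁻¹, ?_⟩
      invFun := fun y => ⟨c⁻¹ * y * c, ?_⟩
      left_inv := fun x => by apply Subtype.ext; simp [mul_assoc]
      right_inv := fun y => by apply Subtype.ext; simp [mul_assoc] }
  · have hx := Subgroup.mem_centralizer_singleton_iff.mp x.2
    apply Subgroup.mem_centralizer_singleton_iff.mpr
    calc c * (x : G) * c⁻¹ * (c * a * c⁻¹) = c * ((x : G) * a) * c⁻¹ := by group
      _ = c * (a * (x : G)) * c⁻¹ := by rw [hx]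
      _ = c * a * c⁻¹ * (c * (x : G) * c⁻¹) := by group
  · have hy := Subgroup.mem_centralizer_singleton_iff.mp y.2
    apply Subgroup.mem_centralizer_singleton_iff.mpr
    calc c⁻¹ * (y : G) * c * a = c⁻¹ * ((y : G) * (c * a * c⁻¹)) * c := by group
      _ = c⁻¹ * ((c * a * c⁻¹) * (y : G)) * c := by rw [hy]
      _ = a * (c⁻¹ * (y : G) * c) := by group

/-- **Counting blocks against classes**: if `𝔅` is a family of blocks and `𝔎` a family of classes
such that outside `𝔎` either the idempotent coefficient of every block in `𝔅` or the central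
character of every block of `𝔅` vanishes modulo `M`, then `#𝔅 ≤ #𝔎`. -/
theorem card_blocks_le_card_classes [hp : M.IsPrime] (𝔅 : Set (Set (IrrCharacter G)))
    (h𝔅 : ∀ B ∈ 𝔅, IsPBlock M B) (𝔎 : Set (ConjClasses G))
    (hcond : ∀ B ∈ 𝔅, ∀ B' ∈ 𝔅, ∀ C : ConjClasses G, C ∉ 𝔎 →
      MemLocalIdeal M (blockCoeff B (Quotient.out C)) ∨
        ∀ χ ∈ B', MemLocalIdeal M (centralChar (χ : G → ℂ) (Quotient.out C))) :
    Nat.card 𝔅 ≤ Nat.card 𝔎 := by
  classical
  let _ := Fintype.ofFinite G
  let _ : Fintype (ConjClasses G) := Fintype.ofFinite _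
  let _ := fintypeIrr G
  let _ : Fintype 𝔅 := Fintype.ofFinite _
  let _ : Fintype 𝔎 := Fintype.ofFinite _
  rw [Nat.card_eq_fintype_card, Nat.card_eq_fintype_card]
  -- representatives
  have hrep : ∀ B : 𝔅, ∃ χ : IrrCharacter G, (B : Set (IrrCharacter G)) = blockOf M (χ : G → ℂ) :=
    fun B => h𝔅 B.1 B.2
  choose rep hrep using hrep
  have hrepmem : ∀ B : 𝔅, rep B ∈ (B : Set (IrrCharacter G)) := by
    intro B
    rw [hrep B]
    exact mem_blockOf_self _
  apply card_le_of_mul_transpose_eq_one_mod (M := M)
    (fun (B : 𝔅) (C : 𝔎) => blockCoeff (B : Set (IrrCharacter G)) (Quotient.out (C : ConjClasses G)))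
    (fun (B : 𝔅) (C : 𝔎) => centralChar (rep B : G → ℂ) (Quotient.out (C : ConjClasses G)))
  · intro B C
    rw [hrep B]
    exact memLocalRing_blockCoeff_blockOf _ _
  · intro B C
    exact memLocalRing_centralChar _ _
  · intro B B'
    -- the full sum
    have hfull : ∑ C : ConjClasses G, blockCoeff (B : Set (IrrCharacter G)) (Quotient.out C) *
        centralChar (rep B' : G → ℂ) (Quotient.out C) = if B = B' then 1 else 0 := by
      rw [← omegaFun_eq_sum_conjClasses (rep B') (blockCoeff_isClassFunction _),
        omegaFun_blockCoeff]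
      by_cases hBB : B = B'
      · rw [if_pos hBB, if_pos (hBB ▸ hrepmem B')]
      · rw [if_neg hBB, if_neg]
        intro hmem
        apply hBB
        apply Subtype.ext
        exact isPBlock_eq_of_mem (h𝔅 B.1 B.2) (h𝔅 B'.1 B'.2) hmem (hrepmem B')
    have hsplit : ∑ C : ConjClasses G, blockCoeff (B : Set (IrrCharacter G)) (Quotient.out C) *
        centralChar (rep B' : G → ℂ) (Quotient.out C) =
        (∑ C : 𝔎, blockCoeff (B : Set (IrrCharacter G)) (Quotient.out (C : ConjClasses G)) *
          centralChar (rep B' : G → ℂ) (Quotient.out (C : ConjClasses G))) +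
        ∑ C : ConjClasses G, if C ∈ 𝔎 then 0 else
          blockCoeff (B : Set (IrrCharacter G)) (Quotient.out C) *
            centralChar (rep B' : G → ℂ) (Quotient.out C) := by
      have h1 : (∑ C : 𝔎, blockCoeff (B : Set (IrrCharacter G)) (Quotient.out (C : ConjClasses G)) *
          centralChar (rep B' : G → ℂ) (Quotient.out (C : ConjClasses G))) =
          ∑ C : ConjClasses G, if C ∈ 𝔎 then
            blockCoeff (B : Set (IrrCharacter G)) (Quotient.out C) *
              centralChar (rep B' : G → ℂ) (Quotient.out C) else 0 := by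
        rw [← Finset.sum_filter]
        rw [← Finset.sum_subtype (Finset.univ.filter (fun C : ConjClasses G => C ∈ 𝔎))
          (p := fun C => C ∈ 𝔎) (fun C => by simp)
          (fun C => blockCoeff (B : Set (IrrCharacter G)) (Quotient.out C) *
              centralChar (rep B' : G → ℂ) (Quotient.out C))]
      rw [h1, ← Finset.sum_add_distrib]
      apply Finset.sum_congr rfl
      intro C _
      split_ifs <;> simp
    rw [hsplit] at hfull
    have hrest : MemLocalIdeal M (∑ C : ConjClasses G, if C ∈ 𝔎 then 0 else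
          blockCoeff (B : Set (IrrCharacter G)) (Quotient.out C) *
            centralChar (rep B' : G → ℂ) (Quotient.out C)) := by
      apply sum_memLocalIdeal
      intro C _
      split_ifs with hC
      · exact memLocalIdeal_zero hp.one_notMem
      · rcases hcond B.1 B.2 B'.1 B'.2 C hC with h1 | h1
        · exact memLocalIdeal_mul_right h1 (memLocalRing_centralChar _ _)
        · refine memLocalIdeal_mul_left ?_ (h1 _ (hrepmem B'))
          rw [hrep B]
          exact memLocalRing_blockCoeff_blockOf _ _
    have heq : (∑ C : 𝔎, blockCoeff (B : Set (IrrCharacter G)) (Quotient.out (C : ConjClasses G)) *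
          centralChar (rep B' : G → ℂ) (Quotient.out (C : ConjClasses G))) -
          (if B = B' then 1 else 0) = - ∑ C : ConjClasses G, if C ∈ 𝔎 then 0 else
          blockCoeff (B : Set (IrrCharacter G)) (Quotient.out C) *
            centralChar (rep B' : G → ℂ) (Quotient.out C) := by
      rw [← hfull]; ring
    rw [heq]
    exact memLocalIdeal_neg hrest

/-- A member of a block generates it. -/
theorem blockOf_eq_of_mem [hp : M.IsPrime] {B : Set (IrrCharacter G)} (hB : IsPBlock M B)
    {χ : IrrCharacter G} (hχ : χ ∈ B) : blockOf M (χ : G → ℂ) = B :=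
  isPBlock_eq_of_mem ⟨χ, rfl⟩ hB (mem_blockOf_self χ) hχ

/-- The number of blocks of defect exactly `σ` is at most the number of `p`-regular classes of
defect exactly `σ`. -/
theorem card_blocks_defect_eq_le (p : ℕ) [hpp : Fact p.Prime] (hM : IsPModular p M) (σ : ℕ) :
    Nat.card {B : Set (IrrCharacter G) // IsPBlock M B ∧ blockDefect p B = σ} ≤
      Nat.card {C : ConjClasses G // ∃ g : G, ConjClasses.mk g = C ∧ ¬ p ∣ orderOf g ∧
        (Nat.card (Subgroup.centralizer ({g} : Set G))).factorization p = σ} := by
  classical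
  let _ := Fintype.ofFinite G
  have hprime : M.IsPrime := isPrime_of_isPModular hM
  refine card_blocks_le_card_classes (M := M)
    {B : Set (IrrCharacter G) | IsPBlock M B ∧ blockDefect p B = σ} (fun B hB => hB.1)
    {C : ConjClasses G | ∃ g : G, ConjClasses.mk g = C ∧ ¬ p ∣ orderOf g ∧
        (Nat.card (Subgroup.centralizer ({g} : Set G))).factorization p = σ} ?_
  intro B hB B' hB' C hC
  obtain ⟨χ₀, hχ₀⟩ := hB.1
  have hC' : ¬ (¬ p ∣ orderOf (Quotient.out C) ∧
      (Nat.card (Subgroup.centralizer ({Quotient.out C} : Set G))).factorization p = σ) := by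
    intro h
    exact hC ⟨Quotient.out C, Quotient.out_eq' C, h.1, h.2⟩
  by_cases hreg : p ∣ orderOf (Quotient.out C)
  · left
    rw [hχ₀, blockCoeff_eq_zero_of_dvd_orderOf hM χ₀ _ hreg]
    exact memLocalIdeal_zero hprime.one_notMem
  · have hne : (Nat.card (Subgroup.centralizer ({Quotient.out C} : Set G))).factorization p ≠ σ :=
      fun h => hC' ⟨hreg, h⟩
    rcases lt_or_gt_of_ne hne with hlt | hgt
    · right
      intro χ hχ
      by_contra hcon
      have h1 := blockDefect_le_of_centralChar hM χ _ hcon
      rw [blockOf_eq_of_mem hB'.1 hχ, hB'.2] at h1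
      omega
    · left
      by_contra hcon
      rw [hχ₀] at hcon
      have h1 := le_blockDefect_of_blockCoeff hM χ₀ _ hcon
      rw [← hχ₀, hB.2] at h1
      omega

/-- The number of blocks of defect at least `d` is at most the number of `p`-regular classes of
defect at least `d`. -/
theorem card_blocks_defect_ge_le (p : ℕ) [hpp : Fact p.Prime] (hM : IsPModular p M) (d : ℕ) :
    Nat.card {B : Set (IrrCharacter G) // IsPBlock M B ∧ d ≤ blockDefect p B} ≤
      Nat.card {C : ConjClasses G // ∃ g : G, ConjClasses.mk g = C ∧ IsPRegular p g ∧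
        d ≤ (Nat.card (Subgroup.centralizer ({g} : Set G))).factorization p} := by
  classical
  let _ := Fintype.ofFinite G
  have hprime : M.IsPrime := isPrime_of_isPModular hM
  refine card_blocks_le_card_classes (M := M)
    {B : Set (IrrCharacter G) | IsPBlock M B ∧ d ≤ blockDefect p B} (fun B hB => hB.1)
    {C : ConjClasses G | ∃ g : G, ConjClasses.mk g = C ∧ IsPRegular p g ∧
        d ≤ (Nat.card (Subgroup.centralizer ({g} : Set G))).factorization p} ?_
  intro B hB B' hB' C hC
  obtain ⟨χ₀, hχ₀⟩ := hB.1
  have hC' : ¬ (¬ p ∣ orderOf (Quotient.out C) ∧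
      d ≤ (Nat.card (Subgroup.centralizer ({Quotient.out C} : Set G))).factorization p) := by
    intro h
    exact hC ⟨Quotient.out C, Quotient.out_eq' C, h.1, h.2⟩
  by_cases hreg : p ∣ orderOf (Quotient.out C)
  · left
    rw [hχ₀, blockCoeff_eq_zero_of_dvd_orderOf hM χ₀ _ hreg]
    exact memLocalIdeal_zero hprime.one_notMem
  · have hlt : (Nat.card (Subgroup.centralizer ({Quotient.out C} : Set G))).factorization p < d := by
      by_contra h
      exact hC' ⟨hreg, not_lt.mp h⟩
    right
    intro χ hχ
    by_contra hcon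
    have h1 := blockDefect_le_of_centralChar hM χ _ hcon
    rw [blockOf_eq_of_mem hB'.1 hχ] at h1
    have h2 := hB'.2
    omega

end

end Cfsg.Agent.Lib.Helper23
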