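import Mathlib
import Cfsg.Agent.Lib.Helper6.InducedDefect
import Cfsg.Agent.Lib.Helper6.QuotBlock
import Cfsg.Agent.Lib.Helper6.FirstMain
import Cfsg.Agent.Lib.Helper25.Inflate

set_option autoImplicit false

namespace Cfsg.Agent.Lib.Helper23

open Cfsg Cfsg.Agent.CharLib Cfsg.Agent.Lib.Helper24 Cfsg.Agent.Lib.Helper6
open scoped ComplexConjugate

universe u

section

variable {G : Type u} [Group G] [Finite G] {M : Ideal AlgInt}

omit [Finite G] in
/-- `CentLE` is invariant under conjugating the left element. -/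
theorem centLE_conj_left {p : ℕ} {x y : G} (h : CentLE p x y) (c : G) :
    CentLE p (c * x * c⁻¹) y :=
  (centLE_of_isConj (isConj_iff.mpr ⟨c, rfl⟩ : IsConj x (c * x * c⁻¹))).trans h

omit [Finite G] in
/-- The central character of an inflated character: the class-size ratio times the central
character of the quotient. -/
theorem centralChar_inflate (N : Subgroup G) [N.Normal] (β : G ⧸ N → ℂ) (g : G) (m : ℕ)
    (hm : (Subgroup.centralizer ({g} : Set G)).index =
      (Subgroup.centralizer ({(g : G ⧸ N)} : Set (G ⧸ N))).index * m) :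
    centralChar (fun x : G => β (x : G ⧸ N)) g = (m : ℂ) * centralChar β (g : G ⧸ N) := by
  show ((Subgroup.centralizer ({g} : Set G)).index : ℂ) * β (g : G ⧸ N) / β ((1 : G) : G ⧸ N) =
    (m : ℂ) * (((Subgroup.centralizer ({(g : G ⧸ N)} : Set (G ⧸ N))).index : ℂ) *
      β (g : G ⧸ N) / β 1)
  rw [hm, QuotientGroup.mk_one]
  push_cast
  ring

/-- The image of a Sylow `p`-subgroup of `C_G(l)` in `G ⧸ N` has the order of a Sylow `p`-subgroup
of `C_{G/N}(lN)` as soon as the class-size ratio is prime to `p`. -/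
theorem card_map_sylow_centralizer {p : ℕ} [hpp : Fact p.Prime] (N : Subgroup G) [N.Normal] (l : G)
    (m : ℕ) (hm : (Subgroup.centralizer ({l} : Set G)).index =
      (Subgroup.centralizer ({(l : G ⧸ N)} : Set (G ⧸ N))).index * m) (hpm : ¬ p ∣ m)
    (Q : Subgroup G) (hQ : IsPGroup p Q)
    (hQcard : Nat.card Q = p ^ (Nat.card (Subgroup.centralizer ({l} : Set G))).factorization p)
    (hQl : Q ≤ Subgroup.centralizer ({l} : Set G)) :
    Nat.card (Q.map (QuotientGroup.mk' N)) =
      p ^ (Nat.card (Subgroup.centralizer ({(l : G ⧸ N)} : Set (G ⧸ N)))).factorization p := by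
  set C := Subgroup.centralizer ({l} : Set G) with hC
  set Cb := Subgroup.centralizer ({(l : G ⧸ N)} : Set (G ⧸ N)) with hCb
  have hm0 : m ≠ 0 := by
    rintro rfl
    exact hpm (dvd_zero p)
  -- |N| |Cb| = m |C|
  have h1 : Nat.card N * Nat.card Cb = m * Nat.card C := by
    have e1 := Subgroup.card_mul_index C
    have e2 := Subgroup.card_mul_index Cb
    have e3 := Subgroup.card_eq_card_quotient_mul_card_subgroup N
    have hCb0 : 0 < Nat.card Cb := Nat.card_pos
    have hC0 : 0 < Nat.card C := Nat.card_pos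
    have hidx0 : 0 < Cb.index := by
      rcases Nat.eq_zero_or_pos Cb.index with h | h
      · rw [h, mul_zero] at e2
        exact absurd e2.symm Nat.card_pos.ne'
      · exact h
    -- |G| = |C| idx = |C| idxb m ; |G| = |G/N| |N| = |Cb| idxb |N|
    have e4 : Nat.card C * (Cb.index * m) = Nat.card Cb * Cb.index * Nat.card N := by
      rw [← hm, e1, e2, e3]
    have e5 : Cb.index * (Nat.card N * Nat.card Cb) = Cb.index * (m * Nat.card C) := by
      calc Cb.index * (Nat.card N * Nat.card Cb) = Nat.card Cb * Cb.index * Nat.card N := by ring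
        _ = Nat.card C * (Cb.index * m) := e4.symm
        _ = Cb.index * (m * Nat.card C) := by ring
    exact Nat.eq_of_mul_eq_mul_left hidx0 e5
  have hfac : (Nat.card N).factorization p + (Nat.card Cb).factorization p =
      (Nat.card C).factorization p := by
    have h2 : (Nat.card N * Nat.card Cb).factorization p = (m * Nat.card C).factorization p := by
      rw [h1]
    rw [Nat.factorization_mul Nat.card_pos.ne' Nat.card_pos.ne',
      Nat.factorization_mul hm0 Nat.card_pos.ne', Finsupp.add_apply, Finsupp.add_apply,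
      Nat.factorization_eq_zero_of_not_dvd hpm, zero_add] at h2
    exact h2
  -- the image is a p-group inside Cb
  have hQb : IsPGroup p (Q.map (QuotientGroup.mk' N)) := hQ.map _
  have hQbC : Q.map (QuotientGroup.mk' N) ≤ Cb := by
    rintro _ ⟨u, hu, rfl⟩
    have h3 := Subgroup.mem_centralizer_singleton_iff.mp (hQl hu)
    rw [Subgroup.mem_centralizer_singleton_iff]
    change (u : G ⧸ N) * (l : G ⧸ N) = (l : G ⧸ N) * (u : G ⧸ N)
    rw [← QuotientGroup.mk_mul, ← QuotientGroup.mk_mul, h3]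
  obtain ⟨i, hi⟩ := IsPGroup.iff_card.mp hQb
  have hi_le : i ≤ (Nat.card Cb).factorization p := by
    have h3 := Subgroup.card_dvd_of_le hQbC
    rw [hi] at h3
    exact (hpp.out.pow_dvd_iff_le_factorization Nat.card_pos.ne').mp h3
  -- the kernel part
  have hker : IsPGroup p (N.subgroupOf Q) := by
    have : IsPGroup p (⊤ : Subgroup Q) := fun x => by
      obtain ⟨k, hk⟩ := hQ x.1
      exact ⟨k, Subtype.ext hk⟩
    intro x
    obtain ⟨k, hk⟩ := hQ x.1
    exact ⟨k, Subtype.ext hk⟩
  obtain ⟨j, hj⟩ := IsPGroup.iff_card.mp hker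
  have hj_le : j ≤ (Nat.card N).factorization p := by
    have h3 : Nat.card (N.subgroupOf Q) ∣ Nat.card N := by
      have h4 : Nat.card (N.subgroupOf Q) = Nat.card (N ⊓ Q : Subgroup G) := by
        rw [← Subgroup.inf_subgroupOf_right N Q]
        exact (Subgroup.card_map_of_injective (Subgroup.subtype_injective Q) (K := (N ⊓ Q).subgroupOf Q)).symm.trans (by
          rw [Subgroup.map_subgroupOf_eq_of_le inf_le_right])
      rw [h4]
      exact Subgroup.card_dvd_of_le inf_le_left
    rw [hj] at h3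
    exact (hpp.out.pow_dvd_iff_le_factorization Nat.card_pos.ne').mp h3
  -- |Q| = |image| |kernel|
  have hcard : Nat.card Q = Nat.card (Q.map (QuotientGroup.mk' N)) * Nat.card (N.subgroupOf Q) := by
    have h3 := Subgroup.card_eq_card_quotient_mul_card_subgroup
      ((QuotientGroup.mk' N).comp Q.subtype).ker
    have h4 : ((QuotientGroup.mk' N).comp Q.subtype).ker = N.subgroupOf Q := by
      ext x
      rw [MonoidHom.mem_ker, MonoidHom.comp_apply, Subgroup.mem_subgroupOf]
      exact QuotientGroup.eq_one_iff (x : G)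
    have h5 : Nat.card (Q ⧸ ((QuotientGroup.mk' N).comp Q.subtype).ker) =
        Nat.card (Q.map (QuotientGroup.mk' N)) := by
      have e := QuotientGroup.quotientKerEquivRange ((QuotientGroup.mk' N).comp Q.subtype)
      rw [Nat.card_congr e.toEquiv, MonoidHom.range_comp, Subgroup.range_subtype]
    rw [h3, h5, h4]
  rw [hQcard, hi, hj, ← pow_add] at hcard
  have h6 := Nat.pow_right_injective hpp.out.two_le hcard
  rw [hi]
  congr 1
  omega

theorem quotient_block_defect_group_le (p : ℕ) [hpp : Fact p.Prime] (hM : IsPModular p M)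
    (N : Subgroup G) [N.Normal] (Bbar : Set (IrrCharacter (G ⧸ N))) (hBbar : IsPBlock M Bbar)
    (B : Set (IrrCharacter G)) (hB : IsPBlock M B)
    (hsub : ∀ χ ∈ Bbar, ∀ ψ : IrrCharacter G,
      (ψ : G → ℂ) = (χ : G ⧸ N → ℂ) ∘ QuotientGroup.mk → ψ ∈ B)
    (Dbar : Subgroup (G ⧸ N)) (hDbar : IsDefectGroup p M Bbar Dbar) :
    ∃ P : Subgroup G, IsDefectGroup p M B P ∧ Dbar ≤ P.map (QuotientGroup.mk' N) := by
  classical
  let _ := Fintype.ofFinite G
  have hprime : M.IsPrime := isPrime_of_isPModular hM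
  have hBblock := hB
  obtain ⟨β₀, rfl⟩ := hBbar
  obtain ⟨χ₀, rfl⟩ := hB
  have hβ₀ : β₀ ∈ blockOf M (β₀ : G ⧸ N → ℂ) := mem_blockOf_self β₀
  have hχ₀ : χ₀ ∈ blockOf M (χ₀ : G → ℂ) := mem_blockOf_self χ₀
  set B := blockOf M (χ₀ : G → ℂ) with hBdef
  -- the inflation of `β₀` lies in `B`
  set χ := Cfsg.Agent.Lib.Helper25.inflateIrr N β₀ with hχdef
  have hχB : χ ∈ B := hsub β₀ hβ₀ χ rfl
  -- Step 1
  have heR : ∀ x, MemLocalRing M (blockCoeff B x) := memLocalRing_blockCoeff_blockOf χ₀
  have he1 : omegaFun (χ : G → ℂ) (blockCoeff B) = 1 := by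
    rw [omegaFun_blockCoeff, if_pos hχB]
  obtain ⟨l, hl1, hl2⟩ : ∃ l : G, ¬ MemLocalIdeal M (blockCoeff B l) ∧
      ¬ MemLocalIdeal M (centralChar (χ : G → ℂ) l) := by
    by_contra hcon
    push Not at hcon
    have h2 : MemLocalIdeal M (omegaFun (χ : G → ℂ) (blockCoeff B)) := by
      apply memLocalIdeal_omegaFun_of_forall χ (blockCoeff_isClassFunction B) heR
      intro x
      by_cases hx : MemLocalIdeal M (blockCoeff B x)
      · left; exact hx
      · right; exact hcon x hx
    rw [he1] at h2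
    exact not_memLocalIdeal_one h2
  -- Step 2: move `l` so that `Dbar` centralizes its image
  obtain ⟨gb, hgb, Pb, rfl⟩ := hDbar
  set Dbar := (Pb : Subgroup (Subgroup.centralizer ({gb} : Set (G ⧸ N)))).map
    (Subgroup.centralizer ({gb} : Set (G ⧸ N))).subtype with hDbardef
  have hDbp : IsPGroup p Dbar := Pb.isPGroup'.map _
  have hDbg : Dbar ≤ Subgroup.centralizer ({gb} : Set (G ⧸ N)) := by
    rintro _ ⟨u, _, rfl⟩
    exact u.2
  have hωl : ∀ l' : G, IsConj l l' → ¬ MemLocalIdeal M (blockCoeff B l') ∧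
      ∃ m : ℕ, (Subgroup.centralizer ({l'} : Set G)).index =
        (Subgroup.centralizer ({(l' : G ⧸ N)} : Set (G ⧸ N))).index * m ∧ ¬ p ∣ m ∧
        ¬ MemLocalIdeal M (centralChar (β₀ : G ⧸ N → ℂ) (l' : G ⧸ N)) := by
    intro l' hl'
    have h1 : blockCoeff B l' = blockCoeff B l :=
      (IsClassFunction.of_isConj (blockCoeff_isClassFunction B) hl').symm
    have h2 : centralChar (χ : G → ℂ) l' = centralChar (χ : G → ℂ) l :=
      (centralChar_eq_of_isConj χ hl').symm
    refine ⟨by rw [h1]; exact hl1, ?_⟩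
    obtain ⟨m, hm⟩ := index_centralizer_mk_dvd N l'
    refine ⟨m, hm, ?_, ?_⟩
    · intro hpm
      apply hl2
      rw [← h2]
      have h3 := centralChar_inflate N (β₀ : G ⧸ N → ℂ) l' m hm
      change centralChar (χ : G → ℂ) l' = _ at h3
      rw [h3]
      apply memLocalIdeal_mul_right _ (memLocalRing_centralChar β₀ _)
      have h4 := memLocalIdeal_of_mem (natCast_mem_of_dvd hM hpm) hprime.one_notMem
      simpa using h4
    · intro hc
      apply hl2
      rw [← h2]
      have h3 := centralChar_inflate N (β₀ : G ⧸ N → ℂ) l' m hm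
      change centralChar (χ : G → ℂ) l' = _ at h3
      rw [h3]
      exact memLocalIdeal_mul_left (memLocalRing_natCast m) hc
  have hcentb : CentLE p gb (l : G ⧸ N) :=
    centLE_of_blockCoeff hM β₀ (l : G ⧸ N) (hωl l (IsConj.refl l)).2.choose_spec.2.2 gb hgb.2.1
  obtain ⟨lb', hlb', hDl'⟩ := hcentb Dbar hDbp hDbg
  obtain ⟨cb, hcb⟩ := isConj_iff.mp hlb'
  obtain ⟨c, rfl⟩ := QuotientGroup.mk_surjective cb
  set l' := c * l * c⁻¹ with hl'def
  have hl'conj : IsConj l l' := isConj_iff.mpr ⟨c, rfl⟩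
  have hl'b : ((l' : G) : G ⧸ N) = lb' := by
    rw [← hcb, hl'def]
    simp
  rw [← hl'b] at hDl'
  obtain ⟨hl'1, m, hm, hpm, hl'2⟩ := hωl l' hl'conj
  -- Step 3: Sylow of `C_G(l')` maps onto a Sylow of the centralizer in the quotient
  obtain ⟨Q⟩ : Nonempty (Sylow p (Subgroup.centralizer ({l'} : Set G))) := inferInstance
  set QG := (Q : Subgroup (Subgroup.centralizer ({l'} : Set G))).map
    (Subgroup.centralizer ({l'} : Set G)).subtype with hQGdef
  have hQGp : IsPGroup p QG := Q.isPGroup'.map _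
  have hQGl : QG ≤ Subgroup.centralizer ({l'} : Set G) := by
    rintro _ ⟨u, _, rfl⟩
    exact u.2
  have hQGcard : Nat.card QG =
      p ^ (Nat.card (Subgroup.centralizer ({l'} : Set G))).factorization p := by
    rw [hQGdef, Subgroup.card_map_of_injective (Subgroup.subtype_injective _)]
    exact Q.card_eq_multiplicity
  have hQbcard := card_map_sylow_centralizer N l' m hm hpm QG hQGp hQGcard hQGl
  set Cb := Subgroup.centralizer ({((l' : G) : G ⧸ N)} : Set (G ⧸ N)) with hCbdef
  have hQbC : QG.map (QuotientGroup.mk' N) ≤ Cb := by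
    rintro _ ⟨u, hu, rfl⟩
    have h3 := Subgroup.mem_centralizer_singleton_iff.mp (hQGl hu)
    rw [Subgroup.mem_centralizer_singleton_iff]
    change (u : G ⧸ N) * ((l' : G) : G ⧸ N) = ((l' : G) : G ⧸ N) * (u : G ⧸ N)
    rw [← QuotientGroup.mk_mul, ← QuotientGroup.mk_mul, h3]
  -- the Sylow subgroup of `Cb` given by the image
  have hS1card : Nat.card ((QG.map (QuotientGroup.mk' N)).subgroupOf Cb) =
      p ^ (Nat.card Cb).factorization p := by
    rw [← hQbcard]
    have := Subgroup.card_map_of_injective (Subgroup.subtype_injective Cb)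
      (K := (QG.map (QuotientGroup.mk' N)).subgroupOf Cb)
    rw [Subgroup.map_subgroupOf_eq_of_le hQbC] at this
    exact this.symm
  let S1 : Sylow p Cb := Sylow.ofCard _ hS1card
  have hD' : IsPGroup p (Dbar.subgroupOf Cb) := hDbp.comap_subtype
  obtain ⟨S2, hS2⟩ := hD'.exists_le_sylow
  obtain ⟨ub, hub⟩ := MulAction.exists_smul_eq Cb S1 S2
  obtain ⟨u, hu⟩ := QuotientGroup.mk_surjective (ub : G ⧸ N)
  -- Step 4
  set l'' := u * l' * u⁻¹ with hl''def
  set Q'' := QG.map (MulAut.conj u).toMonoidHom with hQ''def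
  have hQ''p : IsPGroup p Q'' := hQGp.map _
  have hQ''l : Q'' ≤ Subgroup.centralizer ({l''} : Set G) := by
    rintro _ ⟨w, hw, rfl⟩
    have h3 := Subgroup.mem_centralizer_singleton_iff.mp (hQGl hw)
    rw [Subgroup.mem_centralizer_singleton_iff]
    simp only [MulEquiv.coe_toMonoidHom, MulAut.conj_apply, hl''def]
    calc u * w * u⁻¹ * (u * l' * u⁻¹) = u * (w * l') * u⁻¹ := by group
      _ = u * (l' * w) * u⁻¹ := by rw [h3]
      _ = u * l' * u⁻¹ * (u * w * u⁻¹) := by group
  obtain ⟨k, hk⟩ := Cfsg.Agent.S0906.result p M hM B hBblock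
  have hl''1 : ¬ MemLocalIdeal M (blockCoeff B l'') := by
    have h1 : blockCoeff B l'' = blockCoeff B l' :=
      (IsClassFunction.of_isConj (blockCoeff_isClassFunction B)
        (isConj_iff.mpr ⟨u, rfl⟩ : IsConj l' l'')).symm
    rw [h1]; exact hl'1
  have hcent : CentLE p l'' k := centLE_of_blockCoeff hM χ₀ k (hk.2.2 χ₀ hχ₀) l'' hl''1
  obtain ⟨k', hk', hQk'⟩ := hcent Q'' hQ''p hQ''l
  obtain ⟨E', hE'⟩ := exists_sylow_map_ge (Subgroup.centralizer ({k'} : Set G)) _ hQ''p hQk'
  refine ⟨_, ⟨k', IsDefectClass.of_isConj hk hk', E', rfl⟩, ?_⟩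
  -- `Dbar ≤ image of Q''`
  intro d hd
  have hdC : d ∈ Cb := hDl' hd
  have h1 : (⟨d, hdC⟩ : Cb) ∈ (S2 : Subgroup Cb) := hS2 (Subgroup.mem_subgroupOf.mpr hd)
  rw [← hub, Sylow.coe_subgroup_smul, Subgroup.mem_smul_pointwise_iff_exists] at h1
  obtain ⟨q, hq, hqd⟩ := h1
  have hq' : (q : G ⧸ N) ∈ QG.map (QuotientGroup.mk' N) := Subgroup.mem_subgroupOf.mp hq
  obtain ⟨w, hw, hwq⟩ := hq'
  have hd' : d = (ub : G ⧸ N) * (q : G ⧸ N) * (ub : G ⧸ N)⁻¹ := by
    have := congrArg Subtype.val hqd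
    simp [MulAut.smul_def] at this
    exact this.symm
  apply Subgroup.map_mono hE'
  refine ⟨u * w * u⁻¹, ⟨w, hw, by simp⟩, ?_⟩
  rw [hd', ← hu, ← hwq]
  simp

end

end Cfsg.Agent.Lib.Helper23
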