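import Mathlib
import Cfsg.Agent.Lib.Helper23.QuotDefect
import Cfsg.Agent.Lib.Helper23.BlockCount
import Cfsg.Agent.Lib.Helper6.DefectOrder

set_option autoImplicit false

namespace Cfsg.Agent.Lib.Helper23

open Cfsg Cfsg.Agent.CharLib Cfsg.Agent.Lib.Helper24 Cfsg.Agent.Lib.Helper6
open scoped ComplexConjugate

universe u

section

variable {G : Type u} [Group G] [Finite G] {M : Ideal AlgInt}

/-- Conjugates of defect groups are defect groups. -/
theorem isDefectGroup_conj {p : ℕ} [hpp : Fact p.Prime] (hM : IsPModular p M)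
    {B : Set (IrrCharacter G)} (hB : IsPBlock M B) {D : Subgroup G} (hD : IsDefectGroup p M B D)
    (c : G) : IsDefectGroup p M B (D.map (MulAut.conj c).toMonoidHom) := by
  have hcard := card_defectGroup_eq hM B hB D hD
  obtain ⟨g, hg, P, rfl⟩ := hD
  set D := (P : Subgroup (Subgroup.centralizer ({g} : Set G))).map
    (Subgroup.centralizer ({g} : Set G)).subtype with hDdef
  have hDp : IsPGroup p D := P.isPGroup'.map _
  have hDg : D ≤ Subgroup.centralizer ({g} : Set G) := by
    rintro _ ⟨u, _, rfl⟩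
    exact u.2
  set g' := c * g * c⁻¹ with hg'
  have hg'cls : IsDefectClass M B g' := IsDefectClass.of_isConj hg (isConj_iff.mpr ⟨c, rfl⟩)
  have hD'p : IsPGroup p (D.map (MulAut.conj c).toMonoidHom) := hDp.map _
  have hD'g : D.map (MulAut.conj c).toMonoidHom ≤ Subgroup.centralizer ({g'} : Set G) := by
    rintro _ ⟨w, hw, rfl⟩
    have h3 := Subgroup.mem_centralizer_singleton_iff.mp (hDg hw)
    rw [Subgroup.mem_centralizer_singleton_iff]
    simp only [MulEquiv.coe_toMonoidHom, MulAut.conj_apply, hg']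
    calc c * w * c⁻¹ * (c * g * c⁻¹) = c * (w * g) * c⁻¹ := by group
      _ = c * (g * w) * c⁻¹ := by rw [h3]
      _ = c * g * c⁻¹ * (c * w * c⁻¹) := by group
  obtain ⟨E', hE'⟩ := exists_sylow_map_ge (Subgroup.centralizer ({g'} : Set G)) _ hD'p hD'g
  have hE : IsDefectGroup p M B ((E' : Subgroup (Subgroup.centralizer ({g'} : Set G))).map
      (Subgroup.centralizer ({g'} : Set G)).subtype) := ⟨g', hg'cls, E', rfl⟩
  have hEcard := card_defectGroup_eq hM B hB _ hE
  have hD'card : Nat.card (D.map (MulAut.conj c).toMonoidHom) = Nat.card D :=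
    Subgroup.card_map_of_injective (MulAut.conj c).injective
  have heq : D.map (MulAut.conj c).toMonoidHom =
      (E' : Subgroup (Subgroup.centralizer ({g'} : Set G))).map
        (Subgroup.centralizer ({g'} : Set G)).subtype := by
    apply Subgroup.eq_of_le_of_card_ge hE'
    rw [hEcard, hD'card, hcard]
  rw [heq]
  exact hE

/-- Any two defect groups of a block are conjugate. -/
theorem isDefectGroup_conj_of_isDefectGroup {p : ℕ} [hpp : Fact p.Prime] (hM : IsPModular p M)
    {B : Set (IrrCharacter G)} (hB : IsPBlock M B) {D E : Subgroup G}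
    (hD : IsDefectGroup p M B D) (hE : IsDefectGroup p M B E) :
    ∃ c : G, E = D.map (MulAut.conj c).toMonoidHom := by
  classical
  let _ := Fintype.ofFinite G
  have hprime : M.IsPrime := isPrime_of_isPModular hM
  have hcardD := card_defectGroup_eq hM B hB D hD
  have hcardE := card_defectGroup_eq hM B hB E hE
  have hBblock := hB
  obtain ⟨χ₀, rfl⟩ := hB
  obtain ⟨g, hg, P, rfl⟩ := hD
  obtain ⟨k, hk, Q, rfl⟩ := hE
  have hcent : CentLE p k g :=
    centLE_of_blockCoeff hM χ₀ g (hg.2.2 χ₀ (mem_blockOf_self χ₀)) k hk.2.1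
  obtain ⟨c, hc⟩ := hcent.sylow_le Q P
  refine ⟨c, ?_⟩
  apply Subgroup.eq_of_le_of_card_ge hc
  rw [Subgroup.card_map_of_injective (MulAut.conj c).injective, hcardD, hcardE]

/-- A union of blocks whose idempotent coefficient at `x` is a unit contains a block whose
idempotent coefficient at `x` is a unit. -/
theorem exists_block_of_blockCoeff_union [hp : M.IsPrime] (S : Set (IrrCharacter G))
    (hS : ∀ β ∈ S, ∀ β' : IrrCharacter G, SameBlock M (β : G → ℂ) (β' : G → ℂ) → β' ∈ S) (x : G)
    (h : ¬ MemLocalIdeal M (blockCoeff S x)) :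
    ∃ β₀ ∈ S, ¬ MemLocalIdeal M (blockCoeff (blockOf M (β₀ : G → ℂ)) x) := by
  classical
  let _ := Fintype.ofFinite G
  let _ := fintypeIrr G
  by_contra hcon
  push Not at hcon
  apply h
  set f : IrrCharacter G → ℂ := fun β => (β : G → ℂ) 1 * conj ((β : G → ℂ) x) with hf
  set T : Finset (IrrCharacter G) := Finset.univ.filter (fun β => β ∈ S) with hT
  set blk : IrrCharacter G → Set (IrrCharacter G) := fun β => blockOf M (β : G → ℂ) with hblk
  have h1 : blockCoeff S x = (Nat.card G : ℂ)⁻¹ * ∑ β ∈ T, f β := by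
    rw [blockCoeff_eq_sum, hT, Finset.sum_filter]
  have h2 : ∑ β ∈ T, f β = ∑ b ∈ T.image blk, ∑ β ∈ T with blk β = b, f β :=
    (Finset.sum_fiberwise_of_maps_to (fun β hβ => Finset.mem_image_of_mem blk hβ) f).symm
  rw [h1, h2, Finset.mul_sum]
  apply sum_memLocalIdeal
  intro b hb
  obtain ⟨β₀, hβ₀T, rfl⟩ := Finset.mem_image.mp hb
  have hβ₀S : β₀ ∈ S := (Finset.mem_filter.mp hβ₀T).2
  have h3 : (Nat.card G : ℂ)⁻¹ * ∑ β ∈ T with blk β = blk β₀, f β =
      blockCoeff (blockOf M (β₀ : G → ℂ)) x := by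
    rw [blockCoeff_eq_sum, ← Finset.sum_filter]
    congr 1
    apply Finset.sum_congr _ (fun _ _ => rfl)
    ext β
    simp only [Finset.mem_filter, Finset.mem_univ, true_and, hT]
    constructor
    · rintro ⟨_, hβ⟩
      have : β ∈ blk β := mem_blockOf_self β
      rw [hβ] at this
      exact this
    · intro hβ
      exact ⟨hS β₀ hβ₀S β hβ, blockOf_eq_of_mem ⟨β₀, rfl⟩ hβ⟩
  rw [h3]
  exact hcon β₀ hβ₀S

end

end Cfsg.Agent.Lib.Helper23
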