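/-
helper23: the scaled `p`-regular truncation `p^a χ°` of an irreducible character is an integer
combination of the irreducible characters in the block of `χ` (S4424).
-/
import Mathlib
import Cfsg.Prelude.Def_Blocks
import Cfsg.Agent.Lib.Helper6.BlockOrth
import Cfsg.Agent.Lib.Helper10.GenChar
import Cfsg.Agent.Lib.Helper2.PRegGenChar

set_option autoImplicit false

namespace Cfsg.Agent.Lib.Helper23

open Cfsg Cfsg.Agent.CharLib Cfsg.Agent.Lib.Helper24
open scoped ComplexConjugate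

universe u

/-- the scaled `p`-regular truncation of an irreducible character is a generalized character -/
theorem irr_scaled_pRegPart_isGenChar {G : Type u} [Group G] [Fintype G] (p : ℕ) [Fact p.Prime]
    (χ : IrrCharacter G) :
    IsGeneralizedCharacter G (fun g => ((p ^ (Nat.card G).factorization p : ℕ) : ℂ) *
      Cfsg.Agent.Lib.Helper2.pRegPart p (χ : G → ℂ) g) := by
  have hp := (Fact.out : p.Prime)
  obtain ⟨n, ρ, hirr, hρ⟩ := χ.2
  have := hirr
  have hchar : IsCharacter G (χ : G → ℂ) := IsIrrCharacter.isCharacter χ.2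
  apply Cfsg.Agent.Lib.Helper2.scaled_pRegPart_isGenChar hchar
  intro g j hj
  have h := Cfsg.Agent.Lib.Helper2.isIntegral_pow_mul_char_div ρ hp g j hj
  rw [hρ] at h
  set a := (Nat.card G).factorization p
  set d := (Module.finrank ℂ (Fin n → ℂ)).factorization p
  have hda : d ≤ a := by
    have h1 : Module.finrank ℂ (Fin n → ℂ) ∣ Nat.card G :=
      Cfsg.Agent.Lib.Helper24.finrank_dvd_card ρ
    have hfpos : 0 < Module.finrank ℂ (Fin n → ℂ) :=
      Cfsg.Agent.Lib.Helper24.finrank_pos_of_isIrreducible ρ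
    exact (Nat.factorization_le_iff_dvd hfpos.ne' Nat.card_pos.ne').mpr h1 p
  have hnat : ∀ k : ℕ, IsIntegral ℤ (k : ℂ) := by
    intro k
    have := isIntegral_algebraMap (R := ℤ) (A := ℂ) (x := (k : ℤ))
    simpa using this
  have e : ((p ^ a : ℕ) : ℂ) * (χ : G → ℂ) g / (p : ℂ) ^ j =
      ((p ^ d : ℕ) : ℂ) * (((p ^ (a - d) : ℕ) : ℂ) * (χ : G → ℂ) g / (p : ℂ) ^ j) := by
    have : ((p ^ a : ℕ) : ℂ) = ((p ^ d : ℕ) : ℂ) * ((p ^ (a - d) : ℕ) : ℂ) := by
      rw [← Nat.cast_mul, ← pow_add, Nat.add_sub_cancel' hda]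
    rw [this]; ring
  rw [e]
  exact IsIntegral.mul (hnat _) h



/-- the scaled `p`-regular truncation of `χ ∈ B` is an integer combination of `Irr(B)` -/
theorem scaled_pRegPart_mem_block_span {G : Type u} [Group G] [Finite G] (p : ℕ) [Fact p.Prime]
    (M : Ideal Cfsg.AlgInt) (hM : Cfsg.IsPModular p M) (B : Set (Cfsg.IrrCharacter G))
    (hB : Cfsg.IsPBlock M B) (χ : Cfsg.IrrCharacter G) (hχ : χ ∈ B) :
    ∃ a : Cfsg.IrrCharacter G → ℤ, (∀ ψ, ψ ∉ B → a ψ = 0) ∧
      (fun x : G => if p ∣ orderOf x then (0 : ℂ) else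
        ((p ^ (Nat.card G).factorization p : ℕ) : ℂ) * (χ : G → ℂ) x) =
      fun x => ∑ᶠ ψ : Cfsg.IrrCharacter G, (a ψ : ℂ) * (ψ : G → ℂ) x := by
  classical
  have : Fintype G := Fintype.ofFinite G
  let _ := fintypeIrr G
  obtain ⟨ψ₀, rfl⟩ := hB
  set c : ℂ := ((p ^ (Nat.card G).factorization p : ℕ) : ℂ) with hc
  set θ : G → ℂ := fun g => c * Cfsg.Agent.Lib.Helper2.pRegPart p (χ : G → ℂ) g with hθ
  have hgen : IsGeneralizedCharacter G θ := irr_scaled_pRegPart_isGenChar p χ
  obtain ⟨a, ha, hsum, -⟩ := Cfsg.Agent.Lib.Helper10.genChar_coeff hgen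
  refine ⟨a, ?_, ?_⟩
  · intro ψ hψ
    have h1 := Cfsg.Agent.Lib.Helper6.sum_regular_eq_zero_of_not_mem_block hM ψ₀ ψ hψ χ hχ
    have h2 : classInner θ (ψ : G → ℂ) = 0 := by
      unfold classInner
      have : ∑ g : G, θ g * conj ((ψ : G → ℂ) g) =
          c * conj (∑ x : G, (if ¬ p ∣ orderOf x then (ψ : G → ℂ) x * conj ((χ : G → ℂ) x)
            else 0)) := by
        rw [map_sum, Finset.mul_sum]
        apply Finset.sum_congr rfl
        intro g _
        rw [hθ]
        unfold Cfsg.Agent.Lib.Helper2.pRegPart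
        by_cases hg : p ∣ orderOf g
        · simp [hg]
        · simp [hg]; ring
      rw [this, h1, map_zero, mul_zero, mul_zero]
    rw [ha ψ] at h2
    exact_mod_cast h2
  · have e1 : (fun x : G => if p ∣ orderOf x then (0 : ℂ) else c * (χ : G → ℂ) x) = θ := by
      funext x
      rw [hθ]
      unfold Cfsg.Agent.Lib.Helper2.pRegPart
      by_cases hx : p ∣ orderOf x
      · simp [hx]
      · simp [hx]
    rw [e1, hsum]
    funext x
    rw [finsum_eq_sum_of_fintype, Finset.sum_apply]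
    apply Finset.sum_congr rfl
    intro ψ _
    rfl


end Cfsg.Agent.Lib.Helper23
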