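import Mathlib
import Cfsg.Agent.Lib.Helper6.DefectOrder
import Cfsg.Agent.Lib.Helper6.PRegular
import Cfsg.Agent.Lib.Helper6.FirstMain
import Cfsg.Agent.Lib.Helper24.IrrFacts

set_option autoImplicit false

namespace Cfsg.Agent.Lib.Helper23

open Cfsg Cfsg.Agent.CharLib Cfsg.Agent.Lib.Helper24 Cfsg.Agent.Lib.Helper6
open scoped ComplexConjugate

universe u

section

variable {G : Type u} [Group G] [Finite G] {M : Ideal AlgInt}

/-- A quotient of two naturals prime to `p` is a unit of the local ring. -/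
theorem natCast_div_unit {p : ℕ} (hM : IsPModular p M) {k c : ℕ} (hk : ¬ p ∣ k) (hc : ¬ p ∣ c) :
    MemLocalRing M ((k : ℂ) / (c : ℂ)) ∧ ¬ MemLocalIdeal M ((k : ℂ) / (c : ℂ)) := by
  have hprime : M.IsPrime := isPrime_of_isPModular hM
  have hcM := natCast_not_mem_of_not_dvd hM hc
  have hkM := natCast_not_mem_of_not_dvd hM hk
  have hc0 : (c : ℂ) ≠ 0 := by
    have := coe_ne_zero_of_not_mem hcM
    simpa using this
  refine ⟨⟨(k : AlgInt), (c : AlgInt), hcM, by simp⟩, ?_⟩
  intro h
  have h1 : MemLocalIdeal M (((k : ℂ) / (c : ℂ)) * (c : ℂ)) :=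
    memLocalIdeal_mul_right h (memLocalRing_natCast c)
  rw [div_mul_cancel₀ _ hc0] at h1
  have h2 : MemLocalIdeal M (((k : AlgInt) : AlgInt) : ℂ) := by simpa using h1
  exact hkM ((memLocalIdeal_coe_iff _).mp h2)

/-- If the class size of `g` and the degree of `χ` have the same `p`-part, the central character
of `χ` at `g` is a local unit times `χ g`. -/
theorem centralChar_eq_unit_mul {p : ℕ} [hpp : Fact p.Prime] (hM : IsPModular p M)
    (χ : IrrCharacter G) (g : G)
    (h : ((Subgroup.centralizer ({g} : Set G)).index).factorization p =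
      (charDegree (χ : G → ℂ)).factorization p) :
    ∃ u : ℂ, MemLocalRing M u ∧ ¬ MemLocalIdeal M u ∧
      centralChar (χ : G → ℂ) g = u * (χ : G → ℂ) g := by
  set idx := (Subgroup.centralizer ({g} : Set G)).index with hidx
  set d := charDegree (χ : G → ℂ) with hd
  set f := d.factorization p with hf
  have hd0 : d ≠ 0 := (irr_charDegree_pos χ).ne'
  have hidx0 : idx ≠ 0 := by
    intro h0
    have := Subgroup.card_mul_index (Subgroup.centralizer ({g} : Set G))
    rw [← hidx, h0, mul_zero] at this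
    exact Nat.card_pos.ne' this.symm
  obtain ⟨k, hk, hkp⟩ : ∃ k : ℕ, idx = p ^ f * k ∧ ¬ p ∣ k := ⟨idx / p ^ f, by
    rw [← h, Nat.ordProj_mul_ordCompl_eq_self], by
    rw [← h]; exact Nat.not_dvd_ordCompl hpp.out hidx0⟩
  obtain ⟨c, hc, hcp⟩ : ∃ c : ℕ, d = p ^ f * c ∧ ¬ p ∣ c := ⟨d / p ^ f, by
    rw [hf, Nat.ordProj_mul_ordCompl_eq_self], Nat.not_dvd_ordCompl hpp.out hd0⟩
  obtain ⟨hu1, hu2⟩ := natCast_div_unit hM hkp hcp
  refine ⟨(k : ℂ) / (c : ℂ), hu1, hu2, ?_⟩
  have hc0 : (c : ℂ) ≠ 0 := by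
    intro h0
    have : c = 0 := by exact_mod_cast h0
    rw [this, mul_zero] at hc
    exact hd0 hc
  have hp0 : (p : ℂ) ≠ 0 := Nat.cast_ne_zero.mpr hpp.out.ne_zero
  unfold centralChar
  rw [irr_apply_one, ← hd, ← hidx, hk, hc]
  push_cast
  field_simp

theorem defect_class_values (p : ℕ) [hpp : Fact p.Prime] (hM : IsPModular p M)
    (B : Set (IrrCharacter G)) (hB : IsPBlock M B) (y : G) (hy : IsDefectClass M B y)
    (P : Sylow p (Subgroup.centralizer ({y} : Set G))) (x : Subgroup.centralizer ({y} : Set G))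
    (hx : x ∈ (P : Subgroup (Subgroup.centralizer ({y} : Set G)))) :
    (∀ χ ∈ B, blockHeight p B (χ : G → ℂ) = 0 →
      ¬ MemLocalIdeal M ((χ : G → ℂ) ((x : G) * y))) ∧
    ((∀ w ∈ (P : Subgroup (Subgroup.centralizer ({y} : Set G))), x * w = w * x) →
      ∀ χ ∈ B, ¬ MemLocalIdeal M (centralChar (χ : G → ℂ) ((x : G) * y))) := by
  classical
  let _ := Fintype.ofFinite G
  have hprime : M.IsPrime := isPrime_of_isPModular hM
  have hBblock := hB
  obtain ⟨χ₀, hBeq⟩ := hB
  have hχ₀ : χ₀ ∈ B := by rw [hBeq]; exact mem_blockOf_self χ₀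
  -- numerical data
  set a := (Nat.card G).factorization p with hadef
  set δ := (Nat.card (Subgroup.centralizer ({y} : Set G))).factorization p with hδdef
  have hidx0 : ∀ g : G, (Subgroup.centralizer ({g} : Set G)).index ≠ 0 := by
    intro g h0
    have := Subgroup.card_mul_index (Subgroup.centralizer ({g} : Set G))
    rw [h0, mul_zero] at this
    exact Nat.card_pos.ne' this.symm
  have hfac : ∀ g : G, a = (Nat.card (Subgroup.centralizer ({g} : Set G))).factorization p +
      ((Subgroup.centralizer ({g} : Set G)).index).factorization p := by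
    intro g
    have := Subgroup.card_mul_index (Subgroup.centralizer ({g} : Set G))
    rw [hadef, ← this, Nat.factorization_mul Nat.card_pos.ne' (hidx0 g)]
    rfl
  -- the defect group
  set D := (P : Subgroup (Subgroup.centralizer ({y} : Set G))).map
    (Subgroup.centralizer ({y} : Set G)).subtype with hDdef
  have hDcard : Nat.card D = p ^ δ := by
    rw [hDdef, Subgroup.card_map_of_injective (Subgroup.subtype_injective _)]
    exact P.card_eq_multiplicity
  have hdef : blockDefect p B = δ := by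
    have h1 := card_defectGroup_eq hM B hBblock D ⟨y, hy, P, rfl⟩
    rw [hDcard] at h1
    exact (Nat.pow_right_injective hpp.out.two_le h1).symm
  -- `y` is `p`-regular
  have hyreg : ¬ p ∣ orderOf y := by
    intro hc
    apply hy.2.1
    rw [hBeq, blockCoeff_eq_zero_of_dvd_orderOf hM χ₀ y hc]
    exact memLocalIdeal_zero hprime.one_notMem
  -- the minimal degree valuation
  set S := (fun χ : IrrCharacter G => (charDegree (χ : G → ℂ)).factorization p) '' B with hSdef
  set m := sInf S with hmdef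
  have hSne : S.Nonempty := ⟨_, χ₀, hχ₀, rfl⟩
  have hmle : ∀ χ ∈ B, m ≤ (charDegree (χ : G → ℂ)).factorization p :=
    fun χ hχ => Nat.sInf_le ⟨χ, hχ, rfl⟩
  have hma : m ≤ a := by
    refine (hmle χ₀ hχ₀).trans ?_
    exact (Nat.factorization_le_iff_dvd (irr_charDegree_pos χ₀).ne' Nat.card_pos.ne').mpr
      (irr_charDegree_dvd_card χ₀) p
  have hdef' : a - m = δ := hdef
  have hmf : m = ((Subgroup.centralizer ({y} : Set G)).index).factorization p := by
    have := hfac y
    omega
  -- x is a p-element commuting with y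
  have hxy : Commute (x : G) y := Subgroup.mem_centralizer_singleton_iff.mp x.2
  obtain ⟨k, hk⟩ := (IsPGroup.iff_orderOf.mp P.isPGroup') ⟨x, hx⟩
  have hk' : orderOf (x : G) = p ^ k := by
    have h1 : orderOf (⟨x, hx⟩ : (P : Subgroup (Subgroup.centralizer ({y} : Set G)))) = orderOf x :=
      Subgroup.orderOf_mk x hx
    have h2 : orderOf (x : G) = orderOf x := Subgroup.orderOf_coe x
    rw [h2, ← h1, hk]
  have hpp' : IsPPart p ((x : G) * y) (x : G) := ⟨y, rfl, hxy, ⟨k, hk'⟩, hyreg⟩
  have hcong : ∀ χ : IrrCharacter G, MemLocalIdeal M ((χ : G → ℂ) ((x : G) * y) - (χ : G → ℂ) y) := by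
    intro χ
    have := memLocalIdeal_char_sub_pRegPart hM (IsIrrCharacter.isCharacter χ.2) hpp'
    rwa [inv_mul_cancel_left] at this
  have part1 : ∀ χ ∈ B, blockHeight p B (χ : G → ℂ) = 0 →
      ¬ MemLocalIdeal M ((χ : G → ℂ) ((x : G) * y)) := by
    intro χ hχ hht hcon
    have hval : (charDegree (χ : G → ℂ)).factorization p = m := by
      have h1 : (charDegree (χ : G → ℂ)).factorization p - m = 0 := hht
      have h2 := hmle χ hχ
      omega
    have hχy : MemLocalIdeal M ((χ : G → ℂ) y) := by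
      have := memLocalIdeal_sub hcon (hcong χ)
      rwa [sub_sub_cancel] at this
    obtain ⟨u, hu1, -, hu3⟩ := centralChar_eq_unit_mul hM χ y (by rw [hval, hmf])
    apply hy.2.2 χ hχ
    rw [hu3]
    exact memLocalIdeal_mul_left hu1 hχy
  refine ⟨part1, ?_⟩
  intro hcen χ' hχ'
  -- a height-zero character
  obtain ⟨χ, hχ, hχm⟩ : ∃ χ ∈ B, (charDegree (χ : G → ℂ)).factorization p = m := Nat.sInf_mem hSne
  have hht : blockHeight p B (χ : G → ℂ) = 0 := by
    change (charDegree (χ : G → ℂ)).factorization p - m = 0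
    omega
  have hχxy := part1 χ hχ hht
  -- the centralizer of `x * y`
  have hPle : D ≤ Subgroup.centralizer ({(x : G) * y} : Set G) := by
    intro w hw
    obtain ⟨w', hw', rfl⟩ := hw
    apply Subgroup.mem_centralizer_singleton_iff.mpr
    have h1 : Commute (w' : G) y := Subgroup.mem_centralizer_singleton_iff.mp w'.2
    have h2 : (x : G) * (w' : G) = (w' : G) * (x : G) := by
      have := hcen w' hw'
      exact congrArg Subtype.val this
    change (w' : G) * ((x : G) * y) = (x : G) * y * (w' : G)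
    rw [← mul_assoc, ← h2, mul_assoc, h1.eq, mul_assoc]
  have hle2 : Subgroup.centralizer ({(x : G) * y} : Set G) ≤ Subgroup.centralizer ({y} : Set G) := by
    intro w hw
    obtain ⟨-, -, -, c, d, k, h1, -, -⟩ := IsPPart.exists_pow hpp'
    rw [inv_mul_cancel_left] at h1
    have hw' : Commute w ((x : G) * y) := Subgroup.mem_centralizer_singleton_iff.mp hw
    apply Subgroup.mem_centralizer_singleton_iff.mpr
    rw [← h1]
    exact (hw'.pow_right c).eq
  have hδ' : (Nat.card (Subgroup.centralizer ({(x : G) * y} : Set G))).factorization p = δ := by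
    apply le_antisymm
    · exact (Nat.factorization_le_iff_dvd Nat.card_pos.ne' Nat.card_pos.ne').mpr
        (Subgroup.card_dvd_of_le hle2) p
    · have h1 := Subgroup.card_dvd_of_le hPle
      rw [hDcard] at h1
      exact (hpp.out.pow_dvd_iff_le_factorization Nat.card_pos.ne').mp h1
  have hmf' : m = ((Subgroup.centralizer ({(x : G) * y} : Set G)).index).factorization p := by
    have := hfac ((x : G) * y)
    omega
  obtain ⟨u, hu1, hu2, hu3⟩ := centralChar_eq_unit_mul hM χ ((x : G) * y) (by rw [hχm, hmf'])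
  have hωχ : ¬ MemLocalIdeal M (centralChar (χ : G → ℂ) ((x : G) * y)) := by
    rw [hu3]
    exact not_memLocalIdeal_mul hu1
      (memLocalRing_of_algInt ⟨_, irr_isIntegral χ _⟩ hprime.one_notMem) hu2 hχxy
  intro hcon
  apply hωχ
  have h1 : SameBlock M (χ₀ : G → ℂ) (χ : G → ℂ) := by rw [hBeq] at hχ; exact hχ
  have h2 : SameBlock M (χ₀ : G → ℂ) (χ' : G → ℂ) := by rw [hBeq] at hχ'; exact hχ'
  have h3 := sameBlock_trans (sameBlock_symm h1) h2 ((x : G) * y)
  have := memLocalIdeal_add h3 hcon
  rwa [sub_add_cancel] at this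

end

end Cfsg.Agent.Lib.Helper23
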