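/-
helper23: height-zero machinery (Navarro 3.22-3.24, 3.28).  `tildeFun p χ = p^a χ` on `p`-regular
elements; the integers `tildeInt p χ ψ = [χ̃, ψ]`: symmetric, zero across blocks, `[χ̃,ψ]/ψ(1)` is a
local integer whose residue depends only on the block of `ψ`.  Also: criteria for `n / d` (integers)
to lie in the local ring / ideal.
-/
import Mathlib
import Cfsg.Agent.Lib.Helper23.BlockTrunc
import Cfsg.Agent.Lib.Helper23.DefectClassValues
import Cfsg.Agent.Lib.Helper6.Osima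
import Cfsg.Agent.Lib.Helper6.OneBlock
import Cfsg.Agent.Lib.Lead.BlockBasic

set_option autoImplicit false

namespace Cfsg.Agent.Lib.Helper23

open Cfsg Cfsg.Agent.CharLib Cfsg.Agent.Lib.Helper24 Cfsg.Agent.Lib.Helper6
open scoped ComplexConjugate

universe u

section ratio

variable {M : Ideal AlgInt} {p : ℕ}

/-- A rational integer in the local ideal is a multiple of `p`. -/
theorem int_dvd_of_memLocalIdeal (hM : IsPModular p M) {t : ℤ} (h : MemLocalIdeal M (t : ℂ)) :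
    (p : ℤ) ∣ t := by
  have hprime : M.IsPrime := isPrime_of_isPModular hM
  by_contra hnd
  have hnd' : ¬ p ∣ t.natAbs := by
    intro h1
    exact hnd (Int.natCast_dvd.mpr h1)
  have h1 := natCast_not_mem_of_not_dvd hM hnd'
  apply h1
  have h2 : MemLocalIdeal M (((t.natAbs : ℤ) : ℂ)) := by
    rcases Int.natAbs_eq t with h3 | h3
    · rw [← h3]; exact h
    · have h4 : ((t.natAbs : ℤ) : ℂ) = -(t : ℂ) := by
        have : (t.natAbs : ℤ) = -t := by omega
        rw [this]; push_cast; ring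
      rw [h4]
      exact memLocalIdeal_neg h
  have h5 : (((t.natAbs : AlgInt) : AlgInt) : ℂ) = (((t.natAbs : ℤ) : ℂ)) := by simp
  rw [← h5, memLocalIdeal_coe_iff] at h2
  exact h2

theorem pow_dvd_of_memLocalRing_div_pow (hM : IsPModular p M) (j : ℕ) :
    ∀ {n : ℤ}, MemLocalRing M ((n : ℂ) / (p : ℂ) ^ j) → (p : ℤ) ^ j ∣ n := by
  have hprime : M.IsPrime := isPrime_of_isPModular hM
  have hp0 : (p : ℂ) ≠ 0 := Nat.cast_ne_zero.mpr hM.1.ne_zero
  induction j with
  | zero => intro n _; simp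
  | succ j ih =>
    intro n h
    have h1 : MemLocalIdeal M ((n : ℂ) / (p : ℂ) ^ j) := by
      have : (n : ℂ) / (p : ℂ) ^ j = (p : ℂ) * ((n : ℂ) / (p : ℂ) ^ (j + 1)) := by
        field_simp
        ring
      rw [this]
      exact memLocalIdeal_mul_right (memLocalIdeal_natCast_prime hM) h
    obtain ⟨t, rfl⟩ := ih (memLocalRing_of_memLocalIdeal h1)
    have h2 : MemLocalIdeal M ((t : ℤ) : ℂ) := by
      have : ((t : ℤ) : ℂ) = (((p : ℤ) ^ j * t : ℤ) : ℂ) / (p : ℂ) ^ j := by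
        push_cast
        field_simp
      rw [this]; exact h1
    obtain ⟨s, rfl⟩ := int_dvd_of_memLocalIdeal hM h2
    exact ⟨s, by ring⟩

theorem pow_succ_dvd_of_memLocalIdeal_div_pow (hM : IsPModular p M) (j : ℕ) {n : ℤ}
    (h : MemLocalIdeal M ((n : ℂ) / (p : ℂ) ^ j)) : (p : ℤ) ^ (j + 1) ∣ n := by
  have hp0 : (p : ℂ) ≠ 0 := Nat.cast_ne_zero.mpr hM.1.ne_zero
  obtain ⟨t, rfl⟩ := pow_dvd_of_memLocalRing_div_pow hM j (memLocalRing_of_memLocalIdeal h)
  have h2 : MemLocalIdeal M ((t : ℤ) : ℂ) := by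
    have : ((t : ℤ) : ℂ) = (((p : ℤ) ^ j * t : ℤ) : ℂ) / (p : ℂ) ^ j := by
      push_cast
      field_simp
    rw [this]; exact h
  obtain ⟨s, rfl⟩ := int_dvd_of_memLocalIdeal hM h2
  exact ⟨s, by ring⟩

/-- `n / d` lies in the local ring iff `p ^ ν_p(d)` divides `n`. -/
theorem memLocalRing_intCast_div_natCast_iff (hM : IsPModular p M) {n : ℤ} {d : ℕ} (hd : d ≠ 0) :
    MemLocalRing M ((n : ℂ) / (d : ℂ)) ↔ (p : ℤ) ^ (d.factorization p) ∣ n := by
  have hprime : M.IsPrime := isPrime_of_isPModular hM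
  have hp : p.Prime := hM.1
  have hp0 : (p : ℂ) ≠ 0 := Nat.cast_ne_zero.mpr hp.ne_zero
  set k := d.factorization p with hk
  have h2 : p ^ k * (d / p ^ k) = d := Nat.ordProj_mul_ordCompl_eq_self d p
  have hc : ¬ p ∣ d / p ^ k := Nat.not_dvd_ordCompl hp hd
  set c := d / p ^ k with hc_def
  have hc0 : (c : ℂ) ≠ 0 := by
    have : c ≠ 0 := by rintro h0; rw [h0] at hc; exact hc (dvd_zero p)
    exact_mod_cast this
  have hdc : (d : ℂ) = (p : ℂ) ^ k * (c : ℂ) := by rw [← h2]; push_cast; ring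
  constructor
  · intro h
    apply pow_dvd_of_memLocalRing_div_pow hM k
    have : (n : ℂ) / (p : ℂ) ^ k = (n : ℂ) / (d : ℂ) * (c : ℂ) := by
      rw [hdc]; field_simp
    rw [this]
    exact memLocalRing_mul h (memLocalRing_natCast c)
  · rintro ⟨t, rfl⟩
    have : (((p : ℤ) ^ k * t : ℤ) : ℂ) / (d : ℂ) = (t : ℂ) * (c : ℂ)⁻¹ := by
      rw [hdc]; push_cast; field_simp
    rw [this]
    exact memLocalRing_mul (memLocalRing_intCast t) (memLocalRing_inv_natCast_of_not_dvd hM hc)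

/-- `n / d` lies in the local ideal iff `p ^ (ν_p(d) + 1)` divides `n`. -/
theorem memLocalIdeal_intCast_div_natCast_iff (hM : IsPModular p M) {n : ℤ} {d : ℕ} (hd : d ≠ 0) :
    MemLocalIdeal M ((n : ℂ) / (d : ℂ)) ↔ (p : ℤ) ^ (d.factorization p + 1) ∣ n := by
  have hprime : M.IsPrime := isPrime_of_isPModular hM
  have hp : p.Prime := hM.1
  have hp0 : (p : ℂ) ≠ 0 := Nat.cast_ne_zero.mpr hp.ne_zero
  set k := d.factorization p with hk
  have h2 : p ^ k * (d / p ^ k) = d := Nat.ordProj_mul_ordCompl_eq_self d p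
  have hc : ¬ p ∣ d / p ^ k := Nat.not_dvd_ordCompl hp hd
  set c := d / p ^ k with hc_def
  have hc0 : (c : ℂ) ≠ 0 := by
    have : c ≠ 0 := by rintro h0; rw [h0] at hc; exact hc (dvd_zero p)
    exact_mod_cast this
  have hdc : (d : ℂ) = (p : ℂ) ^ k * (c : ℂ) := by rw [← h2]; push_cast; ring
  constructor
  · intro h
    apply pow_succ_dvd_of_memLocalIdeal_div_pow hM k
    have : (n : ℂ) / (p : ℂ) ^ k = (n : ℂ) / (d : ℂ) * (c : ℂ) := by
      rw [hdc]; field_simp
    rw [this]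
    exact memLocalIdeal_mul_right h (memLocalRing_natCast c)
  · rintro ⟨t, rfl⟩
    have : (((p : ℤ) ^ (k + 1) * t : ℤ) : ℂ) / (d : ℂ) = (p : ℂ) * ((t : ℂ) * (c : ℂ)⁻¹) := by
      rw [hdc]; push_cast; field_simp
      ring
    rw [this]
    exact memLocalIdeal_mul_right (memLocalIdeal_natCast_prime hM)
      (memLocalRing_mul (memLocalRing_intCast t) (memLocalRing_inv_natCast_of_not_dvd hM hc))

end ratio

section tilde

variable {G : Type u} [Group G] [Fintype G] {M : Ideal AlgInt} {p : ℕ} [hpp : Fact p.Prime]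

/-- `χ̃ = p^a χ` on `p`-regular elements, zero elsewhere. -/
noncomputable def tildeFun (p : ℕ) (χ : G → ℂ) : G → ℂ :=
  fun x => if p ∣ orderOf x then (0 : ℂ) else ((p ^ (Nat.card G).factorization p : ℕ) : ℂ) * χ x

theorem tildeFun_isGenChar (χ : IrrCharacter G) :
    IsGeneralizedCharacter G (tildeFun p (χ : G → ℂ)) := by
  have h := irr_scaled_pRegPart_isGenChar p χ
  have e : tildeFun p (χ : G → ℂ) = (fun g => ((p ^ (Nat.card G).factorization p : ℕ) : ℂ) *
      Cfsg.Agent.Lib.Helper2.pRegPart p (χ : G → ℂ) g) := by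
    funext x
    unfold tildeFun Cfsg.Agent.Lib.Helper2.pRegPart
    by_cases hx : p ∣ orderOf x
    · simp [hx]
    · simp [hx]
  rw [e]; exact h

theorem exists_int_classInner_tildeFun (χ ψ : IrrCharacter G) :
    ∃ n : ℤ, classInner (tildeFun p (χ : G → ℂ)) (ψ : G → ℂ) = n :=
  Cfsg.Agent.Lib.Helper10.genChar_classInner_int (tildeFun_isGenChar χ)
    (IsIrrCharacter.isCharacter ψ.2)

/-- The integer `[χ̃, ψ]`. -/
noncomputable def tildeInt (p : ℕ) [Fact p.Prime] (χ ψ : IrrCharacter G) : ℤ :=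
  (exists_int_classInner_tildeFun (p := p) χ ψ).choose

theorem tildeInt_spec (χ ψ : IrrCharacter G) :
    classInner (tildeFun p (χ : G → ℂ)) (ψ : G → ℂ) = (tildeInt p χ ψ : ℂ) :=
  (exists_int_classInner_tildeFun (p := p) χ ψ).choose_spec

theorem tildeInt_symm (χ ψ : IrrCharacter G) : tildeInt p χ ψ = tildeInt p ψ χ := by
  have h1 := tildeInt_spec (p := p) χ ψ
  have h2 := tildeInt_spec (p := p) ψ χ
  have h3 : classInner (tildeFun p (χ : G → ℂ)) (ψ : G → ℂ) =
      conj (classInner (tildeFun p (ψ : G → ℂ)) (χ : G → ℂ)) := by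
    unfold classInner
    rw [map_mul, map_sum, map_inv₀, Complex.conj_natCast]
    congr 1
    apply Finset.sum_congr rfl
    intro g _
    unfold tildeFun
    by_cases hg : p ∣ orderOf g
    · simp [hg]
    · simp only [hg, if_false, map_mul, Complex.conj_natCast, Complex.conj_conj]
      ring
  rw [h1, h2] at h3
  have h4 : (starRingEnd ℂ) ((tildeInt p ψ χ : ℤ) : ℂ) = ((tildeInt p ψ χ : ℤ) : ℂ) := by
    simp
  rw [h4] at h3
  exact_mod_cast h3

theorem tildeInt_eq_zero (hM : IsPModular p M) {B : Set (IrrCharacter G)} (hB : IsPBlock M B)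
    {χ ψ : IrrCharacter G} (hχ : χ ∈ B) (hψ : ψ ∉ B) : tildeInt p χ ψ = 0 := by
  classical
  obtain ⟨ψ₀, rfl⟩ := hB
  have h1 := sum_regular_eq_zero_of_not_mem_block hM ψ₀ ψ hψ χ hχ
  have h2 : classInner (tildeFun p (χ : G → ℂ)) (ψ : G → ℂ) = 0 := by
    unfold classInner
    have : ∑ g : G, tildeFun p (χ : G → ℂ) g * conj ((ψ : G → ℂ) g) =
        ((p ^ (Nat.card G).factorization p : ℕ) : ℂ) *
        conj (∑ x : G, (if ¬ p ∣ orderOf x then (ψ : G → ℂ) x * conj ((χ : G → ℂ) x)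
          else 0)) := by
      rw [map_sum, Finset.mul_sum]
      apply Finset.sum_congr rfl
      intro g _
      unfold tildeFun
      by_cases hg : p ∣ orderOf g
      · simp [hg]
      · simp [hg]; ring
    rw [this, h1, map_zero, mul_zero, mul_zero]
  rw [tildeInt_spec] at h2
  exact_mod_cast h2

theorem tildeFun_eq_sum [Fintype (IrrCharacter G)] (χ : IrrCharacter G) :
    tildeFun p (χ : G → ℂ) = ∑ ξ : IrrCharacter G, ((tildeInt p χ ξ : ℤ) : ℂ) • (ξ : G → ℂ) := by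
  obtain ⟨a, ha, hsum, -⟩ := Cfsg.Agent.Lib.Helper10.genChar_coeff (tildeFun_isGenChar (p := p) χ)
  have : ∀ ξ, a ξ = tildeInt p χ ξ := by
    intro ξ
    have h1 := ha ξ
    rw [tildeInt_spec] at h1
    exact_mod_cast h1.symm
  rw [hsum]
  apply Finset.sum_congr rfl
  intro ξ _
  rw [this]

theorem tildeFun_isClassFunction (χ : IrrCharacter G) :
    IsClassFunction G (tildeFun p (χ : G → ℂ)) :=
  Cfsg.Agent.Lib.Helper10.genChar_isClassFunction (tildeFun_isGenChar χ)

/-- The auxiliary class function `x ↦ |G|⁻¹ χ̃(x⁻¹)`. -/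
noncomputable def tildeAux (p : ℕ) (χ : G → ℂ) : G → ℂ :=
  fun x => (Nat.card G : ℂ)⁻¹ * tildeFun p χ x⁻¹

theorem tildeAux_isClassFunction (χ : IrrCharacter G) :
    IsClassFunction G (tildeAux p (χ : G → ℂ)) := by
  intro g h
  unfold tildeAux
  have : (h * g * h⁻¹)⁻¹ = h * g⁻¹ * h⁻¹ := by group
  rw [this, tildeFun_isClassFunction χ g⁻¹ h]

theorem memLocalRing_tildeAux (hM : IsPModular p M) (χ : IrrCharacter G) (x : G) :
    MemLocalRing M (tildeAux p (χ : G → ℂ) x) := by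
  have hprime : M.IsPrime := isPrime_of_isPModular hM
  have hp : p.Prime := hpp.out
  unfold tildeAux tildeFun
  by_cases hx : p ∣ orderOf x⁻¹
  · rw [if_pos hx, mul_zero]; exact memLocalRing_zero
  · rw [if_neg hx]
    set a := (Nat.card G).factorization p
    have h2 : p ^ a * (Nat.card G / p ^ a) = Nat.card G := Nat.ordProj_mul_ordCompl_eq_self _ p
    have hc : ¬ p ∣ Nat.card G / p ^ a := Nat.not_dvd_ordCompl hp Nat.card_pos.ne'
    have hpa0 : ((p : ℂ) ^ a) ≠ 0 := pow_ne_zero _ (Nat.cast_ne_zero.mpr hp.ne_zero)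
    have e : (Nat.card G : ℂ)⁻¹ * (((p ^ a : ℕ) : ℂ) * (χ : G → ℂ) x⁻¹) =
        ((Nat.card G / p ^ a : ℕ) : ℂ)⁻¹ * (χ : G → ℂ) x⁻¹ := by
      have hG : (Nat.card G : ℂ) = (p : ℂ) ^ a * ((Nat.card G / p ^ a : ℕ) : ℂ) := by
        rw [← Nat.cast_pow, ← Nat.cast_mul, h2]
      have hc0 : ((Nat.card G / p ^ a : ℕ) : ℂ) ≠ 0 := by
        have : Nat.card G / p ^ a ≠ 0 := by rintro h0; rw [h0] at hc; exact hc (dvd_zero p)
        exact_mod_cast this
      rw [hG]; push_cast; field_simp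
    rw [e]
    apply memLocalRing_mul (memLocalRing_inv_natCast_of_not_dvd hM hc)
    exact memLocalRing_of_algInt ⟨(χ : G → ℂ) x⁻¹, irr_isIntegral χ x⁻¹⟩ hprime.one_notMem

theorem tildeInt_div_eq_omegaFun (χ ψ : IrrCharacter G) :
    (tildeInt p χ ψ : ℂ) / (ψ : G → ℂ) 1 = omegaFun (ψ : G → ℂ) (tildeAux p (χ : G → ℂ)) := by
  rw [← tildeInt_spec]
  unfold omegaFun classInner tildeAux
  congr 1
  rw [Finset.mul_sum]
  rw [← Equiv.sum_comp (Equiv.inv G)]
  apply Finset.sum_congr rfl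
  intro g _
  simp only [Equiv.inv_apply]
  rw [irr_apply_inv ψ g, Complex.conj_conj]
  ring

theorem memLocalRing_tildeInt_div (hM : IsPModular p M) (χ ψ : IrrCharacter G) :
    MemLocalRing M ((tildeInt p χ ψ : ℂ) / (charDegree (ψ : G → ℂ) : ℂ)) := by
  have hprime : M.IsPrime := isPrime_of_isPModular hM
  rw [← irr_apply_one ψ, tildeInt_div_eq_omegaFun]
  exact memLocalRing_omegaFun ψ (tildeAux_isClassFunction χ) (memLocalRing_tildeAux hM χ)

theorem memLocalIdeal_tildeInt_div_sub (hM : IsPModular p M) (χ ψ ξ : IrrCharacter G)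
    (h : SameBlock M (ψ : G → ℂ) (ξ : G → ℂ)) :
    MemLocalIdeal M ((tildeInt p χ ψ : ℂ) / (charDegree (ψ : G → ℂ) : ℂ) -
      (tildeInt p χ ξ : ℂ) / (charDegree (ξ : G → ℂ) : ℂ)) := by
  have hprime : M.IsPrime := isPrime_of_isPModular hM
  rw [← irr_apply_one ψ, ← irr_apply_one ξ, tildeInt_div_eq_omegaFun, tildeInt_div_eq_omegaFun]
  exact memLocalIdeal_omegaFun_sub ψ ξ h (tildeAux_isClassFunction χ) (memLocalRing_tildeAux hM χ)

end tilde

end Cfsg.Agent.Lib.Helper23
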