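import Mathlib
import Cfsg.Agent.Lib.Helper23.HeightZeroA
import Cfsg.Agent.Lib.Helper6.BlockCoeff
import Cfsg.Agent.Lib.Helper6.Osima2

set_option autoImplicit false

namespace Cfsg.Agent.Lib.Helper23

open Cfsg Cfsg.Agent.CharLib Cfsg.Agent.Lib.Helper24 Cfsg.Agent.Lib.Helper6
open scoped ComplexConjugate

universe u

section sylow

variable {G : Type u} [Group G] [Fintype G] {M : Ideal AlgInt} {p : ℕ} [hpp : Fact p.Prime]

omit hpp in
theorem exists_sylowMult (P : Sylow p G) (ψ : IrrCharacter G) :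
    ∃ m : ℕ, ∀ [Fintype (P : Subgroup G)], ∑ z : (P : Subgroup G), (ψ : G → ℂ) (z : G) =
      (Nat.card (P : Subgroup G) : ℂ) * (m : ℂ) := by
  classical
  let _ : Fintype (P : Subgroup G) := Fintype.ofFinite _
  obtain ⟨m, hm⟩ := irr_sum_subgroup ψ (P : Subgroup G)
  refine ⟨m, ?_⟩
  intro inst
  rw [← hm]
  apply Finset.sum_congr
  · ext; simp
  · intro _ _; rfl

/-- The multiplicity of the trivial character of the Sylow subgroup `P` in `ψ`. -/
noncomputable def sylowMult (P : Sylow p G) (ψ : IrrCharacter G) : ℕ :=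
  (exists_sylowMult P ψ).choose

theorem sylowMult_spec (P : Sylow p G) (ψ : IrrCharacter G) [Fintype (P : Subgroup G)] :
    ∑ z : (P : Subgroup G), (ψ : G → ℂ) (z : G) =
      (Nat.card (P : Subgroup G) : ℂ) * (sylowMult P ψ : ℂ) :=
  (exists_sylowMult P ψ).choose_spec

omit [Fintype G] in
theorem dvd_orderOf_of_mem_sylow (P : Sylow p G) {z : G} (hz : z ∈ (P : Subgroup G)) (hz1 : z ≠ 1) :
    p ∣ orderOf z := by
  have hp : p.Prime := hpp.out
  obtain ⟨k, hk⟩ := (IsPGroup.iff_orderOf.mp P.2) ⟨z, hz⟩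
  rw [Subgroup.orderOf_mk] at hk
  rw [hk]
  have hk0 : k ≠ 0 := by
    rintro rfl
    rw [pow_zero, orderOf_eq_one_iff] at hk
    exact hz1 hk
  exact dvd_pow_self p hk0

/-- (E1) `χ(1) = ∑_ψ [χ̃, ψ] m_ψ`. -/
theorem degree_eq_sum_tildeInt_mul [Fintype (IrrCharacter G)] (P : Sylow p G) (χ : IrrCharacter G) :
    (charDegree (χ : G → ℂ) : ℤ) = ∑ ψ : IrrCharacter G, tildeInt p χ ψ * (sylowMult P ψ : ℤ) := by
  classical
  let _ : Fintype (P : Subgroup G) := Fintype.ofFinite _
  have hp : p.Prime := hpp.out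
  set a := (Nat.card G).factorization p with ha
  have hcard : Nat.card (P : Subgroup G) = p ^ a := P.card_eq_multiplicity
  have hpa0 : ((p : ℂ) ^ a) ≠ 0 := pow_ne_zero _ (Nat.cast_ne_zero.mpr hp.ne_zero)
  -- first computation
  have h1 : ∑ z : (P : Subgroup G), tildeFun p (χ : G → ℂ) (z : G) =
      ((p ^ a : ℕ) : ℂ) * (charDegree (χ : G → ℂ) : ℂ) := by
    rw [Finset.sum_eq_single (1 : (P : Subgroup G))]
    · unfold tildeFun
      have : ¬ p ∣ orderOf (((1 : (P : Subgroup G)) : G)) := by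
        rw [Subgroup.coe_one, orderOf_one]
        exact hp.one_lt.ne' ∘ Nat.dvd_one.mp
      rw [if_neg this, Subgroup.coe_one, irr_apply_one]
    · intro z _ hz1
      unfold tildeFun
      have : p ∣ orderOf (z : G) := by
        apply dvd_orderOf_of_mem_sylow P z.2
        intro h
        apply hz1
        exact Subtype.ext h
      rw [if_pos this]
    · intro h; exact absurd (Finset.mem_univ _) h
  -- second computation
  have h2 : ∑ z : (P : Subgroup G), tildeFun p (χ : G → ℂ) (z : G) =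
      ((p ^ a : ℕ) : ℂ) * ∑ ψ : IrrCharacter G, (tildeInt p χ ψ : ℂ) * (sylowMult P ψ : ℂ) := by
    rw [tildeFun_eq_sum (p := p) χ]
    simp only [Finset.sum_apply, Pi.smul_apply, smul_eq_mul]
    rw [Finset.sum_comm, Finset.mul_sum]
    apply Finset.sum_congr rfl
    intro ψ _
    rw [← Finset.mul_sum, sylowMult_spec, hcard]
    ring
  rw [h1] at h2
  have h3 : (charDegree (χ : G → ℂ) : ℂ) =
      ∑ ψ : IrrCharacter G, (tildeInt p χ ψ : ℂ) * (sylowMult P ψ : ℂ) := by
    have hpa0' : ((p ^ a : ℕ) : ℂ) ≠ 0 := by rw [Nat.cast_pow]; exact hpa0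
    exact mul_left_cancel₀ hpa0' h2
  exact_mod_cast h3

open Classical in
/-- (E3) `∑_{ψ ∈ B} ψ(1)^2 = p^a ∑_{ψ ∈ B} ψ(1) m_ψ`. -/
theorem sum_degree_sq_eq [Fintype (IrrCharacter G)] (hM : IsPModular p M) (P : Sylow p G)
    (χ₀ : IrrCharacter G) :
    ∑ ψ : IrrCharacter G, (if ψ ∈ blockOf M (χ₀ : G → ℂ) then charDegree (ψ : G → ℂ) ^ 2 else 0) =
      p ^ (Nat.card G).factorization p *
        ∑ ψ : IrrCharacter G, (if ψ ∈ blockOf M (χ₀ : G → ℂ) then
          charDegree (ψ : G → ℂ) * sylowMult P ψ else 0) := by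
  classical
  let _ : Fintype (P : Subgroup G) := Fintype.ofFinite _
  have hp : p.Prime := hpp.out
  set B := blockOf M (χ₀ : G → ℂ) with hB
  set a := (Nat.card G).factorization p with ha
  have hcard : Nat.card (P : Subgroup G) = p ^ a := P.card_eq_multiplicity
  have hG0 : (Nat.card G : ℂ) ≠ 0 := Nat.cast_ne_zero.mpr Nat.card_pos.ne'
  have h1 : ∑ z : (P : Subgroup G), blockCoeff B (z : G) = blockCoeff B 1 := by
    rw [Finset.sum_eq_single (1 : (P : Subgroup G))]
    · rw [Subgroup.coe_one]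
    · intro z _ hz1
      apply blockCoeff_eq_zero_of_dvd_orderOf hM χ₀
      apply dvd_orderOf_of_mem_sylow P z.2
      intro h
      apply hz1
      exact Subtype.ext h
    · intro h; exact absurd (Finset.mem_univ _) h
  have h2 : blockCoeff B 1 = (Nat.card G : ℂ)⁻¹ *
      ∑ ψ : IrrCharacter G, (if ψ ∈ B then ((charDegree (ψ : G → ℂ) ^ 2 : ℕ) : ℂ) else 0) := by
    rw [blockCoeff_eq_sum]
    congr 1
    apply Finset.sum_congr rfl
    intro ψ _
    by_cases hψ : ψ ∈ B
    · rw [if_pos hψ, if_pos hψ, irr_apply_one, Complex.conj_natCast]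
      push_cast; ring
    · rw [if_neg hψ, if_neg hψ]
  have h3 : ∑ z : (P : Subgroup G), blockCoeff B (z : G) = (Nat.card G : ℂ)⁻¹ *
      ∑ ψ : IrrCharacter G, (if ψ ∈ B then
        ((p ^ a * (charDegree (ψ : G → ℂ) * sylowMult P ψ) : ℕ) : ℂ) else 0) := by
    simp_rw [blockCoeff_eq_sum]
    rw [← Finset.mul_sum, Finset.sum_comm]
    congr 1
    apply Finset.sum_congr rfl
    intro ψ _
    by_cases hψ : ψ ∈ B
    · simp only [if_pos hψ]
      rw [← Finset.mul_sum, ← map_sum, sylowMult_spec, hcard, irr_apply_one]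
      simp only [map_mul, Complex.conj_natCast]
      push_cast; ring
    · simp only [if_neg hψ, Finset.sum_const_zero]
  rw [h1, h2] at h3
  have h4 := mul_left_cancel₀ (inv_ne_zero hG0) h3
  have h5 : ((∑ ψ : IrrCharacter G, (if ψ ∈ B then charDegree (ψ : G → ℂ) ^ 2 else 0) : ℕ) : ℂ) =
      ((p ^ a * ∑ ψ : IrrCharacter G, (if ψ ∈ B then
          charDegree (ψ : G → ℂ) * sylowMult P ψ else 0) : ℕ) : ℂ) := by
    rw [Finset.mul_sum]
    push_cast
    push_cast at h4
    rw [h4]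
    apply Finset.sum_congr rfl
    intro ψ _
    split_ifs <;> simp
  exact_mod_cast h5

end sylow

end Cfsg.Agent.Lib.Helper23
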