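/-
helper23: Frobenius–Schur indicators as integers, the involution count `1 + t = ∑ ν(χ) χ(1)`,
and a parity lemma for involutions on finite sets.
-/
import Mathlib
import Cfsg.Agent.Lib.Lead.FrobSchur
import Cfsg.Agent.Lib.Helper24.PerfectLemmas

set_option autoImplicit false

namespace Cfsg.Agent.Lib.Helper23

open Cfsg Cfsg.Agent.CharLib Cfsg.Agent.Lib.Helper24

/-- An involution on a finite set of odd size has an odd number of fixed points. -/
theorem odd_card_filter_fixed {α : Type*} [DecidableEq α] (s : Finset α) (f : α → α)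
    (hmap : ∀ x ∈ s, f x ∈ s) (hinv : ∀ x ∈ s, f (f x) = x) (hodd : Odd s.card) :
    Odd (s.filter (fun x => f x = x)).card := by
  have hsplit := Finset.card_filter_add_card_filter_not (s := s) (fun x => f x = x)
  have heven : Even (s.filter (fun x => ¬ f x = x)).card := by
    have h0 : ∑ x ∈ s.filter (fun x => ¬ f x = x), (1 : ZMod 2) = 0 := by
      apply Finset.sum_involution (fun a _ => f a)
      · intro a _; decide
      · intro a ha _; exact (Finset.mem_filter.mp ha).2
      · intro a ha
        rw [Finset.mem_filter] at ha ⊢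
        refine ⟨hmap a ha.1, ?_⟩
        rw [hinv a ha.1]
        exact fun h => ha.2 h.symm
      · intro a ha
        exact hinv a (Finset.mem_filter.mp ha).1
    rw [Finset.sum_const, nsmul_eq_mul, mul_one] at h0
    exact (ZMod.natCast_eq_zero_iff_even).mp h0
  rw [← hsplit] at hodd
  by_contra hcon
  rw [Nat.not_odd_iff_even] at hcon
  exact (Nat.not_odd_iff_even.mpr (hcon.add heven)) hodd

/-- number of solutions of `s * s = 1` is one more than the number of involutions -/
theorem card_sq_eq_one_eq_succ {G : Type*} [Group G] [Fintype G] :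
    Nat.card {s : G // s * s = 1} = 1 + Nat.card {x : G // orderOf x = 2} := by
  classical
  rw [Nat.card_eq_fintype_card, Nat.card_eq_fintype_card, Fintype.card_subtype, Fintype.card_subtype]
  have h : (Finset.univ.filter fun s : G => s * s = 1) =
      insert (1 : G) (Finset.univ.filter fun x : G => orderOf x = 2) := by
    ext s
    simp only [Finset.mem_filter, Finset.mem_univ, true_and, Finset.mem_insert]
    rw [orderOf_eq_prime_iff (p := 2), pow_two]
    constructor
    · intro h
      by_cases h1 : s = 1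
      · exact Or.inl h1
      · exact Or.inr ⟨h, h1⟩
    · rintro (h | h)
      · rw [h, one_mul]
      · exact h.1
  rw [h, Finset.card_insert_of_notMem, add_comm]
  simp

/-- the Frobenius–Schur indicator as an integer in `{0, 1, -1}`, nonzero exactly for real characters -/
theorem exists_fsIndicator {G : Type*} [Group G] [Fintype G] (χ : IrrCharacter G) :
    ∃ z : ℤ, ((Nat.card G : ℂ)⁻¹ * ∑ s : G, (χ : G → ℂ) (s * s)) = (z : ℂ) ∧
      (z = 0 ∨ z = 1 ∨ z = -1) ∧ (z ≠ 0 ↔ ∀ s : G, ((χ : G → ℂ) s).im = 0) := by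
  obtain ⟨n, ρ, hirr, hρ⟩ := χ.2
  have h := frobenius_schur_aux ρ
  rw [hρ] at h
  by_cases hre : ∀ s : G, ((χ : G → ℂ) s).im = 0
  · rcases h.1 hre with h1 | h1
    · exact ⟨1, by rw [h1]; simp, Or.inr (Or.inl rfl), ⟨fun _ => hre, fun _ => one_ne_zero⟩⟩
    · exact ⟨-1, by rw [h1]; simp, Or.inr (Or.inr rfl), ⟨fun _ => hre, fun _ => by norm_num⟩⟩
  · have hre' : ∃ s : G, ((χ : G → ℂ) s).im ≠ 0 := by
      by_contra hcon
      apply hre
      intro s
      by_contra hs
      exact hcon ⟨s, hs⟩
    exact ⟨0, by rw [h.2 hre']; simp, Or.inl rfl, ⟨fun h0 => absurd rfl h0, fun h0 => absurd h0 hre⟩⟩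

/-- The involution count: `1 + t = ∑ χ, ν(χ) χ(1)` over the integers, for any integer-valued
function `e` agreeing with the Frobenius–Schur indicator. -/
theorem one_add_card_involutions_eq {G : Type*} [Group G] [Fintype G] [Fintype (IrrCharacter G)]
    (e : IrrCharacter G → ℤ)
    (he : ∀ χ : IrrCharacter G, ((Nat.card G : ℂ)⁻¹ * ∑ s : G, (χ : G → ℂ) (s * s)) = (e χ : ℂ)) :
    ((1 + Nat.card {x : G // orderOf x = 2} : ℕ) : ℤ) =
      ∑ χ : IrrCharacter G, e χ * (charDegree (χ : G → ℂ) : ℤ) := by
  have h1 := card_sq_eq_one (G := G)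
  rw [card_sq_eq_one_eq_succ, finsum_eq_sum_of_fintype] at h1
  have h2 : ((∑ χ : IrrCharacter G, e χ * (charDegree (χ : G → ℂ) : ℤ) : ℤ) : ℂ) =
      ((1 + Nat.card {x : G // orderOf x = 2} : ℕ) : ℂ) := by
    rw [h1]
    push_cast
    apply Finset.sum_congr rfl
    intro χ _
    rw [he χ, irr_apply_one χ]
  have h3 : ((∑ χ : IrrCharacter G, e χ * (charDegree (χ : G → ℂ) : ℤ) : ℤ) : ℂ) =
      (((1 + Nat.card {x : G // orderOf x = 2} : ℕ) : ℤ) : ℂ) := by
    rw [h2]; push_cast; rfl
  exact (Int.cast_injective h3).symm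

end Cfsg.Agent.Lib.Helper23
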