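/-
helper23: defect-zero vanishing for `Cfsg.IrrCharacter` (wrapper around helper2's theorem) and
a consequence for involutions (used for S4478).
-/
import Mathlib
import Cfsg.Agent.Lib.Helper2.DefectZero
import Cfsg.Agent.Lib.Helper23.FSInd
import Cfsg.Agent.Lib.Helper21.ClassSize

set_option autoImplicit false

namespace Cfsg.Agent.Lib.Helper23

open Cfsg Cfsg.Agent.CharLib Cfsg.Agent.Lib.Helper24

universe u

/-- an irreducible character whose degree is divisible by the full `p`-part of `|G|` vanishes on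
elements of order divisible by `p` -/
theorem irr_eq_zero_of_defect_zero {G : Type u} [Group G] [Finite G] (χ : IrrCharacter G) (p : ℕ)
    (hp : p.Prime) (hdeg : p ^ (Nat.card G).factorization p ∣ charDegree (χ : G → ℂ)) (x : G)
    (hx : p ∣ orderOf x) : (χ : G → ℂ) x = 0 := by
  have h1 := irr_apply_one χ
  obtain ⟨n, ρ, hirr, hρ⟩ := χ.2
  have hn : charDegree (χ : G → ℂ) = n := by
    have h2 : (χ : G → ℂ) 1 = (n : ℂ) := by
      rw [← hρ]; simp
    rw [h1] at h2
    exact_mod_cast h2
  haveI := hirr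
  have h3 := Cfsg.Agent.Lib.Helper2.character_eq_zero_of_defect_zero ρ p
    ((Nat.card G).factorization p) hp (Nat.ordProj_dvd _ _)
    (Nat.pow_succ_factorization_not_dvd Nat.card_pos.ne' hp)
    (by rw [Module.finrank_fin_fun, ← hn]; exact hdeg) x hx
  rw [← hρ]; exact h3

section inv
variable {G : Type u} [Group G] [Fintype G]

/-- vanishing of `χ(g²)` when `g` has even order different from `2` -/
theorem irr_sq_eq_zero (χ : IrrCharacter G)
    (h2 : 2 ^ (Nat.card G).factorization 2 ∣ charDegree (χ : G → ℂ))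
    (hp : ∀ p : ℕ, p.Prime → p ≠ 2 → (∃ g : G, orderOf g = 2 * p) →
      p ^ (Nat.card G).factorization p ∣ charDegree (χ : G → ℂ))
    (g : G) (hg : Even (orderOf g)) (hg2 : orderOf g ≠ 2) : (χ : G → ℂ) (g * g) = 0 := by
  obtain ⟨m, hm⟩ := hg
  have hm0 : m ≠ 0 := by
    intro h; rw [h] at hm; exact (orderOf_pos g).ne' hm
  have hord : orderOf (g * g) = m := by
    rw [← pow_two, orderOf_pow_of_dvd two_ne_zero (by rw [hm]; omega)]
    omega
  by_cases hme : Even m
  · exact irr_eq_zero_of_defect_zero χ 2 Nat.prime_two h2 _ (by rw [hord]; exact hme.two_dvd)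
  · have hm1 : m ≠ 1 := by intro h; apply hg2; rw [hm, h]
    obtain ⟨p, hpp, hpm⟩ := Nat.exists_prime_and_dvd hm1
    have hp2 : p ≠ 2 := by rintro rfl; exact hme (even_iff_two_dvd.mpr hpm)
    obtain ⟨k, hk⟩ := hpm
    have hk0 : k ≠ 0 := by rintro rfl; exact hm0 (by rw [hk]; simp)
    have h1 : orderOf (g ^ k) = 2 * p := by
      rw [orderOf_pow_of_dvd hk0 (by rw [hm, hk]; exact ⟨2 * p, by ring⟩), hm, hk]
      have : p * k + p * k = (2 * p) * k := by ring
      rw [this, Nat.mul_div_cancel _ (Nat.pos_of_ne_zero hk0)]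
    exact irr_eq_zero_of_defect_zero χ p hpp (hp p hpp hp2 ⟨g ^ k, h1⟩) _
      (by rw [hord, hk]; exact dvd_mul_right _ _)

theorem sum_irr_eq_zero_of_even (χ : IrrCharacter G) (heven : Even (Nat.card G))
    (h2 : 2 ^ (Nat.card G).factorization 2 ∣ charDegree (χ : G → ℂ)) :
    ∑ g : G, (χ : G → ℂ) g = 0 := by
  have h2d : 2 ∣ charDegree (χ : G → ℂ) := by
    refine dvd_trans ?_ h2
    apply dvd_pow_self
    have : 0 < (Nat.card G).factorization 2 :=
      Nat.Prime.factorization_pos_of_dvd Nat.prime_two Nat.card_pos.ne' heven.two_dvd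
    omega
  have hne : (χ : G → ℂ) ≠ 1 := by
    intro h
    have h1 := irr_apply_one χ
    have h3 : (χ : G → ℂ) 1 = 1 := by rw [h]; rfl
    rw [h3] at h1
    have : charDegree (χ : G → ℂ) = 1 := by
      exact_mod_cast h1.symm
    rw [this] at h2d
    omega
  have h := classInner_irr χ.2 (isIrrCharacter_one (G := G))
  rw [if_neg hne] at h
  unfold classInner at h
  have hG : (Nat.card G : ℂ) ≠ 0 := by
    have : 0 < Nat.card G := Nat.card_pos
    exact_mod_cast this.ne'
  have h' := (mul_eq_zero.mp h).resolve_left (inv_ne_zero hG)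
  simpa using h'


theorem sum_odd_sq_eq (f : G → ℂ) :
    ∑ g ∈ Finset.univ.filter (fun g : G => Odd (orderOf g)), f (g * g) =
      ∑ g ∈ Finset.univ.filter (fun g : G => Odd (orderOf g)), f g := by
  classical
  refine Finset.sum_nbij' (fun g => g * g) (fun k => k ^ ((orderOf k + 1) / 2)) ?_ ?_ ?_ ?_ ?_
  · intro g hg
    rw [Finset.mem_filter] at hg ⊢
    refine ⟨Finset.mem_univ _, ?_⟩
    rw [← pow_two]
    exact Odd.of_dvd_nat hg.2 (orderOf_pow_dvd 2)
  · intro k hk
    rw [Finset.mem_filter] at hk ⊢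
    exact ⟨Finset.mem_univ _, Odd.of_dvd_nat hk.2 (orderOf_pow_dvd _)⟩
  · intro g hg
    rw [Finset.mem_filter] at hg
    have hodd := hg.2
    have hcop : (orderOf g).Coprime 2 := Nat.coprime_two_right.mpr hodd
    have hord : orderOf (g * g) = orderOf g := by
      rw [← pow_two]; exact hcop.orderOf_pow
    show (g * g) ^ ((orderOf (g * g) + 1) / 2) = g
    rw [hord, ← pow_two, ← pow_mul]
    obtain ⟨m, hm⟩ := hodd
    have : 2 * ((orderOf g + 1) / 2) = orderOf g + 1 := by omega
    rw [this, pow_succ, pow_orderOf_eq_one, one_mul]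
  · intro k hk
    rw [Finset.mem_filter] at hk
    obtain ⟨m, hm⟩ := hk.2
    show k ^ ((orderOf k + 1) / 2) * k ^ ((orderOf k + 1) / 2) = k
    rw [← pow_add]
    have : (orderOf k + 1) / 2 + (orderOf k + 1) / 2 = orderOf k + 1 := by omega
    rw [this, pow_succ, pow_orderOf_eq_one, one_mul]
  · intro g _; rfl

theorem sum_irr_sq_eq (χ : IrrCharacter G) (heven : Even (Nat.card G))
    (h2 : 2 ^ (Nat.card G).factorization 2 ∣ charDegree (χ : G → ℂ))
    (hp : ∀ p : ℕ, p.Prime → p ≠ 2 → (∃ g : G, orderOf g = 2 * p) →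
      p ^ (Nat.card G).factorization p ∣ charDegree (χ : G → ℂ)) :
    ∑ g : G, (χ : G → ℂ) (g * g) =
      (Nat.card {x : G // orderOf x = 2} : ℂ) * (charDegree (χ : G → ℂ) : ℂ) := by
  classical
  have hvan : ∀ g : G, ¬ Odd (orderOf g) → (χ : G → ℂ) g = 0 := by
    intro g hg
    exact irr_eq_zero_of_defect_zero χ 2 Nat.prime_two h2 g
      (even_iff_two_dvd.mp (Nat.not_odd_iff_even.mp hg))
  have hpt : ∀ g : G, (χ : G → ℂ) (g * g) =
      (if Odd (orderOf g) then (χ : G → ℂ) (g * g) else 0) +
        (if orderOf g = 2 then (charDegree (χ : G → ℂ) : ℂ) else 0) := by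
    intro g
    by_cases ho : Odd (orderOf g)
    · have : orderOf g ≠ 2 := by
        intro h; rw [h] at ho; exact absurd ho (by decide)
      rw [if_pos ho, if_neg this, add_zero]
    · rw [if_neg ho, zero_add]
      by_cases h2' : orderOf g = 2
      · rw [if_pos h2']
        have : g * g = 1 := by rw [← pow_two, ← h2', pow_orderOf_eq_one]
        rw [this, irr_apply_one χ]
      · rw [if_neg h2']
        exact irr_sq_eq_zero χ h2 hp g (Nat.not_odd_iff_even.mp ho) h2'
  rw [Finset.sum_congr rfl (fun g _ => hpt g), Finset.sum_add_distrib]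
  have hA : ∑ g : G, (if Odd (orderOf g) then (χ : G → ℂ) (g * g) else 0) = 0 := by
    rw [← Finset.sum_filter, sum_odd_sq_eq, Finset.sum_filter_of_ne]
    · exact sum_irr_eq_zero_of_even χ heven h2
    · intro g _ hne
      by_contra hcon
      exact hne (hvan g hcon)
  have hB : ∑ g : G, (if orderOf g = 2 then (charDegree (χ : G → ℂ) : ℂ) else 0) =
      (Nat.card {x : G // orderOf x = 2} : ℂ) * (charDegree (χ : G → ℂ) : ℂ) := by
    rw [← Finset.sum_filter, Finset.sum_const, nsmul_eq_mul, Nat.card_eq_fintype_card,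
      Fintype.card_subtype]
  rw [hA, hB, zero_add]


/-- main theorem for S4478 -/
theorem defect_zero_involutions (χ : IrrCharacter G) (heven : Even (Nat.card G))
    (h2 : 2 ^ (Nat.card G).factorization 2 ∣ charDegree (χ : G → ℂ))
    (hp : ∀ p : ℕ, p.Prime → p ≠ 2 → (∃ g : G, orderOf g = 2 * p) →
      p ^ (Nat.card G).factorization p ∣ charDegree (χ : G → ℂ)) :
    (∀ s t : G, orderOf s = 2 → orderOf t = 2 → IsConj s t) ∧
    (∀ s : G, orderOf s = 2 →
      Nat.card (Subgroup.centralizer ({s} : Set G)) = charDegree (χ : G → ℂ) ∧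
      (Nat.card (Subgroup.centralizer ({s} : Set G))).Coprime
        (Subgroup.centralizer ({s} : Set G)).index) ∧
    (Nat.card G : ℂ)⁻¹ * ∑ g : G, (χ : G → ℂ) (g * g) = 1 := by
  classical
  set x := charDegree (χ : G → ℂ) with hx
  set t := Nat.card {y : G // orderOf y = 2} with ht
  have hGpos : 0 < Nat.card G := Nat.card_pos
  have hG : (Nat.card G : ℂ) ≠ 0 := by exact_mod_cast hGpos.ne'
  -- x > 0
  have hxpos : 0 < x := irr_charDegree_pos χ
  -- an involution exists
  obtain ⟨s₀, hs₀⟩ := exists_prime_orderOf_dvd_card' (G := G) 2 heven.two_dvd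
  have htpos : 0 < t := by
    rw [ht]
    have : Nonempty {y : G // orderOf y = 2} := ⟨⟨s₀, hs₀⟩⟩
    exact Nat.card_pos
  -- FS indicator
  have hsum := sum_irr_sq_eq χ heven h2 hp
  obtain ⟨z, hz, hz3, -⟩ := exists_fsIndicator χ
  rw [hsum] at hz
  have hzpos : (0 : ℝ) < (z : ℝ) := by
    have h1 : ((z : ℝ) : ℂ) = (((Nat.card G : ℝ)⁻¹ * ((t : ℝ) * (x : ℝ)) : ℝ) : ℂ) := by
      push_cast; rw [← hz]
    have h2' : (z : ℝ) = (Nat.card G : ℝ)⁻¹ * ((t : ℝ) * (x : ℝ)) := by exact_mod_cast h1
    rw [h2']
    positivity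
  have hz1 : z = 1 := by
    rcases hz3 with h | h | h
    · rw [h] at hzpos; simp at hzpos
    · exact h
    · rw [h] at hzpos; norm_num at hzpos
  have hcard : t * x = Nat.card G := by
    rw [hz1] at hz
    have h1 : ((t : ℂ) * (x : ℂ)) = (Nat.card G : ℂ) := by
      rw [inv_mul_eq_iff_eq_mul₀ hG] at hz
      rw [hz]; simp
    exact_mod_cast h1
  -- good primes
  have hgood : ∀ (s : G), orderOf s = 2 → ∀ p : ℕ, p.Prime →
      p ∣ Nat.card (Subgroup.centralizer ({s} : Set G)) →
      p ^ (Nat.card G).factorization p ∣ x := by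
    intro s hs p hpp hpd
    by_cases hp2 : p = 2
    · subst hp2; exact h2
    · apply hp p hpp hp2
      have : Fact p.Prime := ⟨hpp⟩
      obtain ⟨h, hh⟩ := exists_prime_orderOf_dvd_card' (G := Subgroup.centralizer ({s} : Set G)) p hpd
      refine ⟨s * (h : G), ?_⟩
      have hcomm : Commute s (h : G) := by
        have := h.2
        rw [Subgroup.mem_centralizer_iff] at this
        exact (this s (Set.mem_singleton s))
      have hho : orderOf (h : G) = p := by rw [Subgroup.orderOf_coe]; exact hh
      rw [hcomm.orderOf_mul_eq_mul_orderOf_of_coprime, hs, hho]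
      rw [hs, hho]
      exact (Nat.coprime_primes Nat.prime_two hpp).mpr (Ne.symm hp2)
  have hCdvd : ∀ (s : G), orderOf s = 2 → Nat.card (Subgroup.centralizer ({s} : Set G)) ∣ x := by
    intro s hs
    rw [← Nat.factorization_prime_le_iff_dvd Nat.card_pos.ne' hxpos.ne']
    intro p hpp
    by_cases hpd : p ∣ Nat.card (Subgroup.centralizer ({s} : Set G))
    · have h1 := hgood s hs p hpp hpd
      have h3 : (Nat.card G).factorization p ≤ x.factorization p :=
        (hpp.pow_dvd_iff_le_factorization hxpos.ne').mp h1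
      have h4 : (Nat.card (Subgroup.centralizer ({s} : Set G))).factorization p ≤
          (Nat.card G).factorization p := by
        have := (Nat.factorization_le_iff_dvd Nat.card_pos.ne' hGpos.ne').mpr
          (Subgroup.card_subgroup_dvd_card (Subgroup.centralizer ({s} : Set G)))
        exact this p
      exact h4.trans h3
    · rw [Nat.factorization_eq_zero_of_not_dvd hpd]; exact Nat.zero_le _
  -- class size
  have hkey : ∀ (s : G), orderOf s = 2 →
      Nat.card (Subgroup.centralizer ({s} : Set G)) = x ∧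
        {h : G | IsConj s h} = {h : G | orderOf h = 2} := by
    intro s hs
    have hsub : {h : G | IsConj s h} ⊆ {h : G | orderOf h = 2} := by
      intro h hh
      obtain ⟨c, hc⟩ := isConj_iff.mp hh
      show orderOf h = 2
      have hsc : SemiconjBy c s h := by
        unfold SemiconjBy; rw [← hc]; group
      rw [← hsc.orderOf_eq]
      exact hs
    have hidx := Cfsg.Agent.Lib.Helper21.index_centralizer_eq_ncard_setOf_isConj s
    have hle : (Subgroup.centralizer ({s} : Set G)).index ≤ t := by
      rw [hidx, ht, ← Nat.card_coe_set_eq]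
      exact Set.ncard_le_ncard hsub (Set.toFinite _)
    have hmul := Subgroup.index_mul_card (Subgroup.centralizer ({s} : Set G))
    have hcle : Nat.card (Subgroup.centralizer ({s} : Set G)) ≤ x :=
      Nat.le_of_dvd hxpos (hCdvd s hs)
    have hcpos : 0 < Nat.card (Subgroup.centralizer ({s} : Set G)) := Nat.card_pos
    have hceq : Nat.card (Subgroup.centralizer ({s} : Set G)) = x := by
      by_contra hne
      have hlt : Nat.card (Subgroup.centralizer ({s} : Set G)) < x := lt_of_le_of_ne hcle hne
      have h1 : (Subgroup.centralizer ({s} : Set G)).index *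
          Nat.card (Subgroup.centralizer ({s} : Set G)) ≤
          t * Nat.card (Subgroup.centralizer ({s} : Set G)) := Nat.mul_le_mul_right _ hle
      have h3 : t * Nat.card (Subgroup.centralizer ({s} : Set G)) < t * x :=
        Nat.mul_lt_mul_of_pos_left hlt htpos
      omega
    refine ⟨hceq, ?_⟩
    have hidxeq : (Subgroup.centralizer ({s} : Set G)).index = t := by
      rw [hceq, ← hcard] at hmul
      exact Nat.eq_of_mul_eq_mul_right hxpos hmul
    apply Set.eq_of_subset_of_ncard_le hsub _ (Set.toFinite _)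
    rw [← hidx, hidxeq, ht, ← Nat.card_coe_set_eq]
    rfl
  refine ⟨?_, ?_, ?_⟩
  · intro s u hs hu
    have h1 := (hkey s hs).2
    have : u ∈ {h : G | orderOf h = 2} := hu
    rw [← h1] at this
    exact this
  · intro s hs
    refine ⟨(hkey s hs).1, ?_⟩
    apply Nat.coprime_of_dvd
    intro p hpp hpc hpi
    have h1 := hgood s hs p hpp hpc
    have h3 : (Nat.card G).factorization p ≤ x.factorization p :=
      (hpp.pow_dvd_iff_le_factorization hxpos.ne').mp h1
    have hmul := Subgroup.index_mul_card (Subgroup.centralizer ({s} : Set G))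
    rw [(hkey s hs).1] at hmul
    have hipos : (Subgroup.centralizer ({s} : Set G)).index ≠ 0 := Subgroup.index_ne_zero_of_finite
    have h4 : (Nat.card G).factorization p =
        ((Subgroup.centralizer ({s} : Set G)).index).factorization p + x.factorization p := by
      rw [← hmul, Nat.factorization_mul hipos hxpos.ne']; rfl
    have h5 : 0 < ((Subgroup.centralizer ({s} : Set G)).index).factorization p :=
      hpp.factorization_pos_of_dvd hipos hpi
    omega
  · rw [hsum, ← hcard]
    push_cast
    have htx : ((t : ℂ) * (x : ℂ)) ≠ 0 := by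
      have : 0 < t * x := Nat.mul_pos htpos hxpos
      exact_mod_cast this.ne'
    exact inv_mul_cancel₀ htx

end inv

end Cfsg.Agent.Lib.Helper23
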