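/-
Helper23 library: power identities when a commutator is central (class-two computations).
-/
import Mathlib

set_option autoImplicit false

namespace Cfsg.Agent.Lib.Helper23

open scoped commutatorElement

variable {P : Type*} [Group P]

/-- If `[x, y]` is central then `[x^n, y] = [x, y]^n`. -/
theorem commutatorElement_pow_left_of_central (x y : P) (hc : ⁅x, y⁆ ∈ Subgroup.center P) (n : ℕ) :
    ⁅x ^ n, y⁆ = ⁅x, y⁆ ^ n := by
  induction n with
  | zero => simp [commutatorElement_def]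
  | succ n ih =>
    have e : ⁅x ^ (n + 1), y⁆ = x * ⁅x ^ n, y⁆ * x⁻¹ * ⁅x, y⁆ := by
      rw [pow_succ', commutatorElement_def, commutatorElement_def, commutatorElement_def]
      group
    rw [e, ih]
    have hcn : ⁅x, y⁆ ^ n ∈ Subgroup.center P := Subgroup.pow_mem _ hc n
    have hcomm' : x * ⁅x, y⁆ ^ n = ⁅x, y⁆ ^ n * x := (Subgroup.mem_center_iff.mp hcn) x
    rw [hcomm', mul_inv_cancel_right, ← pow_succ]

/-- If `[b, a]` is central then `(ab)^n = a^n b^n [b,a]^(n choose 2)`. -/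
theorem mul_pow_of_central_commutator (a b : P) (hc : ⁅b, a⁆ ∈ Subgroup.center P) (n : ℕ) :
    (a * b) ^ n = a ^ n * b ^ n * ⁅b, a⁆ ^ (n.choose 2) := by
  induction n with
  | zero => simp
  | succ n ih =>
    have hbn : b ^ n * a = ⁅b, a⁆ ^ n * a * b ^ n := by
      rw [← commutatorElement_pow_left_of_central b a hc n, commutatorElement_def]
      group
    have hck : ∀ k : ℕ, ∀ g : P, g * ⁅b, a⁆ ^ k = ⁅b, a⁆ ^ k * g := by
      intro k g
      exact (Subgroup.mem_center_iff.mp (Subgroup.pow_mem _ hc k)) g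
    have hchoose : (n + 1).choose 2 = n.choose 2 + n := by
      rw [Nat.choose_succ_succ' n 1, Nat.choose_one_right, add_comm]
    rw [pow_succ, ih, hchoose]
    calc a ^ n * b ^ n * ⁅b, a⁆ ^ n.choose 2 * (a * b)
        = a ^ n * (b ^ n * (⁅b, a⁆ ^ n.choose 2 * (a * b))) := by group
      _ = a ^ n * (b ^ n * ((a * b) * ⁅b, a⁆ ^ n.choose 2)) := by rw [hck]
      _ = a ^ n * ((b ^ n * a) * b * ⁅b, a⁆ ^ n.choose 2) := by group
      _ = a ^ n * ((⁅b, a⁆ ^ n * a * b ^ n) * b * ⁅b, a⁆ ^ n.choose 2) := by rw [hbn]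
      _ = (a ^ n * ⁅b, a⁆ ^ n) * (a * b ^ n * b * ⁅b, a⁆ ^ n.choose 2) := by group
      _ = (⁅b, a⁆ ^ n * a ^ n) * (a * b ^ n * b * ⁅b, a⁆ ^ n.choose 2) := by rw [hck]
      _ = (⁅b, a⁆ ^ n * (a ^ n * a * (b ^ n * b))) * ⁅b, a⁆ ^ n.choose 2 := by group
      _ = ((a ^ n * a * (b ^ n * b)) * ⁅b, a⁆ ^ n) * ⁅b, a⁆ ^ n.choose 2 := by
        rw [← hck n (a ^ n * a * (b ^ n * b))]
      _ = a ^ (n + 1) * b ^ (n + 1) * ⁅b, a⁆ ^ (n.choose 2 + n) := by
        rw [pow_succ, pow_succ, add_comm (n.choose 2) n, pow_add]; group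

end Cfsg.Agent.Lib.Helper23
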