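import Mathlib
import Cfsg.Prelude.Def_OddOrderLocal
import Cfsg.Agent.Lib.Helper1.BGX2
import Cfsg.Agent.Lib.Helper17.RankOne
import Cfsg.Agent.Lib.Helper9.Basic

/-!
# Bender–Glauberman §12 (helper23), part 1: the complement `E` of `M_σ` — Lemma 12.1

All results about a minimal simple group of odd order `G`; the Uniqueness Theorem enters through
helper1's hypothesis `UT G`.
-/

set_option autoImplicit false
set_option linter.unusedSectionVars false
set_option linter.style.haveILetI false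

namespace Cfsg.Agent.Lib.Helper23.BGY

open Cfsg Cfsg.Agent.Lib.Helper1.BGX
open scoped commutatorElement

/-- A subgroup whose order is coprime to the index of a normal subgroup lies in it. -/
theorem le_of_coprime_index_normal {X : Type*} [Group X] [Finite X] (N K : Subgroup X) [N.Normal]
    (h : (Nat.card K).Coprime N.index) : K ≤ N := by
  have h1 : Nat.card (K.map (QuotientGroup.mk' N)) ∣ Nat.card K := Subgroup.card_map_dvd _ _
  have h2 : Nat.card (K.map (QuotientGroup.mk' N)) ∣ N.index := by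
    rw [Subgroup.index_eq_card]
    exact Subgroup.card_subgroup_dvd_card _
  have h3 : Nat.card (K.map (QuotientGroup.mk' N)) = 1 :=
    Nat.eq_one_of_dvd_coprimes h h1 h2
  have h4 : K.map (QuotientGroup.mk' N) = ⊥ := Subgroup.card_eq_one.mp h3
  intro x hx
  have h5 : QuotientGroup.mk' N x ∈ K.map (QuotientGroup.mk' N) := ⟨x, hx, rfl⟩
  rw [h4, Subgroup.mem_bot] at h5
  exact (QuotientGroup.eq_one_iff x).mp h5

/-- A Hall subgroup of a finite nilpotent group is normal. -/
theorem normal_of_coprime_index_nilpotent {X : Type*} [Group X] [Finite X] [Group.IsNilpotent X]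
    (H : Subgroup X) (h : (Nat.card H).Coprime H.index) : H.Normal := by
  rw [← Subgroup.normalizer_eq_top_iff]
  by_contra hne
  have hlt : Subgroup.normalizer (H : Set X) < ⊤ := lt_top_iff_ne_top.mpr hne
  have h1 := Group.normalizerCondition_of_isNilpotent (G := X) _ hlt
  obtain ⟨g, hg, hgN⟩ := SetLike.exists_of_lt h1
  apply hgN
  set N := Subgroup.normalizer (H : Set X) with hN
  -- `g H g⁻¹ ≤ N`
  have hHN : H ≤ N := Subgroup.le_normalizer
  have hconj : ∀ x ∈ H, g * x * g⁻¹ ∈ N := by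
    intro x hx
    exact (Subgroup.mem_normalizer_iff.mp hg x).mp (hHN hx)
  haveI : (H.subgroupOf N).Normal := Subgroup.normal_in_normalizer
  set K : Subgroup X := H.map (MulAut.conj g).toMonoidHom with hK
  have hKN : K ≤ N := by
    rintro _ ⟨x, hx, rfl⟩
    simpa using hconj x hx
  have hKcard : Nat.card K = Nat.card H :=
    Subgroup.card_map_of_injective (MulAut.conj g).injective
  have hidx : (H.subgroupOf N).index ∣ H.index := by
    have := Subgroup.relIndex_mul_index hHN
    exact Dvd.intro _ this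
  have hcop : (Nat.card (K.subgroupOf N)).Coprime (H.subgroupOf N).index := by
    rw [Cfsg.Agent.Lib.Helper1.card_subgroupOf_of_le hKN, hKcard]
    exact Nat.Coprime.coprime_dvd_right hidx h
  have hle := le_of_coprime_index_normal (H.subgroupOf N) (K.subgroupOf N) hcop
  have hKH : K ≤ H := by
    intro x hx
    have : (⟨x, hKN hx⟩ : N) ∈ K.subgroupOf N := Subgroup.mem_subgroupOf.mpr hx
    exact Subgroup.mem_subgroupOf.mp (hle this)
  have hKeq : K = H := Subgroup.eq_of_le_of_card_ge hKH hKcard.ge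
  rw [Subgroup.mem_normalizer_iff]
  intro x
  constructor
  · intro hx
    rw [← hKeq]
    exact ⟨x, hx, by simp⟩
  · intro hx
    rw [← hKeq] at hx
    obtain ⟨y, hy, hyx⟩ := hx
    have : y = x := by
      have h2 : g * y * g⁻¹ = g * x * g⁻¹ := by simpa using hyx
      have h3 := mul_right_cancel h2
      exact mul_left_cancel h3
    rwa [← this]


theorem map_commutator_of_surjective {X Y : Type*} [Group X] [Group Y] (f : X →* Y)
    (hf : Function.Surjective f) : (commutator X).map f = commutator Y := by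
  rw [commutator_def, commutator_def, Subgroup.map_commutator, ← MonoidHom.range_eq_map,
    MonoidHom.range_eq_top.mpr hf]

theorem commutator_self_le {X : Type*} [Group X] (E : Subgroup X) : ⁅E, E⁆ ≤ E := by
  rw [Subgroup.commutator_le]
  intro a ha b hb
  exact E.mul_mem (E.mul_mem (E.mul_mem ha hb) (E.inv_mem ha)) (E.inv_mem hb)

section Compl

variable {G : Type*} [Group G] {M : Subgroup G} (S : Subgroup ↥M) [S.Normal] {E : Subgroup G}

/-- The natural map `E → M/S` for a subgroup `E ≤ M`. -/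
def complHom (hEM : E ≤ M) : ↥E →* ↥M ⧸ S :=
  (QuotientGroup.mk' S).comp (Subgroup.inclusion hEM)

theorem complHom_apply (hEM : E ≤ M) (e : ↥E) :
    complHom S hEM e = QuotientGroup.mk' S ⟨(e : G), hEM e.2⟩ := rfl

theorem complHom_injective (hEM : E ≤ M) (h : E ⊓ S.map M.subtype = ⊥) :
    Function.Injective (complHom S hEM) := by
  rw [injective_iff_map_eq_one]
  intro e he
  rw [complHom_apply] at he
  have h1 : (⟨(e : G), hEM e.2⟩ : ↥M) ∈ S := (QuotientGroup.eq_one_iff _).mp he
  have h2 : (e : G) ∈ E ⊓ S.map M.subtype := ⟨e.2, ⟨_, h1, rfl⟩⟩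
  rw [h, Subgroup.mem_bot] at h2
  exact Subtype.ext h2

theorem complHom_surjective (hEM : E ≤ M)
    (h : ∀ m ∈ M, ∃ a ∈ E, ∃ b ∈ S.map M.subtype, m = a * b) :
    Function.Surjective (complHom S hEM) := by
  intro y
  obtain ⟨m, rfl⟩ := QuotientGroup.mk'_surjective S y
  obtain ⟨a, ha, b, ⟨b', hb', hb'b⟩, hm⟩ := h m m.2
  refine ⟨⟨a, ha⟩, ?_⟩
  rw [complHom_apply]
  show (QuotientGroup.mk' S) _ = (QuotientGroup.mk' S) m
  rw [QuotientGroup.mk'_eq_mk']
  refine ⟨b', hb', ?_⟩
  apply Subtype.ext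
  rw [Subgroup.coe_mul]
  rw [hm]
  congr 1

/-- `E ∩ M' ≤ E'` when `E` is a complement of the normal subgroup `S` of `M`. -/
theorem mem_commutator_of_compl (hEM : E ≤ M) (hinj : Function.Injective (complHom S hEM))
    (hsurj : Function.Surjective (complHom S hEM)) {x : G} (hxE : x ∈ E) (hx : x ∈ ⁅M, M⁆) :
    x ∈ ⁅E, E⁆ := by
  rw [← Subgroup.map_subtype_commutator] at hx
  obtain ⟨y, hy, hyx⟩ := hx
  have h1 : complHom S hEM ⟨x, hxE⟩ ∈ commutator (↥M ⧸ S) := by
    rw [← map_commutator_of_surjective _ (QuotientGroup.mk'_surjective S)]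
    refine ⟨y, hy, ?_⟩
    rw [complHom_apply]
    congr 1
    exact Subtype.ext hyx
  rw [← map_commutator_of_surjective _ hsurj] at h1
  obtain ⟨z, hz, hzx⟩ := h1
  have h2 : z = ⟨x, hxE⟩ := hinj hzx
  rw [← Subgroup.map_subtype_commutator]
  exact ⟨z, hz, by rw [h2]; rfl⟩

/-- If the image of `M'` in `M/A` is nilpotent and `A ≤ S`, then `E' ` is nilpotent for `E` a
complement to `S` in `M`. -/
theorem isNilpotent_commutator_of_compl [Finite G] (A : Subgroup ↥M) [A.Normal] (hAS : A ≤ S)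
    (hnil : Group.IsNilpotent ↥((commutator ↥M).map (QuotientGroup.mk' A)))
    (hEM : E ≤ M) (hinj : Function.Injective (complHom S hEM)) :
    Group.IsNilpotent ↥⁅E, E⁆ := by
  -- the image of `M'` in `M/S` is nilpotent
  let q : ↥M ⧸ A →* ↥M ⧸ S := QuotientGroup.map A S (MonoidHom.id _) hAS
  have hq : q.comp (QuotientGroup.mk' A) = QuotientGroup.mk' S := by
    ext x; rfl
  have h1 : ((commutator ↥M).map (QuotientGroup.mk' A)).map q =
      (commutator ↥M).map (QuotientGroup.mk' S) := by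
    rw [Subgroup.map_map, hq]
  have h2 : Group.IsNilpotent ↥(((commutator ↥M).map (QuotientGroup.mk' A)).map q) :=
    Group.nilpotent_of_surjective (q.subgroupMap _) (q.subgroupMap_surjective _)
  rw [h1] at h2
  -- embed `E'` into it
  have hEE : ⁅E, E⁆ ≤ E := commutator_self_le E
  let g0 : ↥⁅E, E⁆ →* ↥M ⧸ S := (complHom S hEM).comp (Subgroup.inclusion hEE)
  have hg0 : ∀ x, g0 x ∈ (commutator ↥M).map (QuotientGroup.mk' S) := by
    intro x
    have hx : (x : G) ∈ ⁅M, M⁆ := Subgroup.commutator_mono hEM hEM x.2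
    rw [← Subgroup.map_subtype_commutator] at hx
    obtain ⟨y, hy, hyx⟩ := hx
    refine ⟨y, hy, ?_⟩
    show _ = complHom S hEM _
    rw [complHom_apply]
    congr 1
    exact Subtype.ext hyx
  let g : ↥⁅E, E⁆ →* ↥((commutator ↥M).map (QuotientGroup.mk' S)) := g0.codRestrict _ hg0
  have hginj : Function.Injective g := by
    intro a b hab
    have h3 : g0 a = g0 b := congrArg Subtype.val hab
    have h4 := hinj h3
    exact Subgroup.inclusion_injective hEE h4
  haveI := h2
  apply Subgroup.isNilpotent_of_ker_le_center g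
  rw [(MonoidHom.ker_eq_bot_iff g).mpr hginj]
  exact bot_le

end Compl


/-- A nilpotent subgroup `X ≤ M` of a group of odd order such that `M` has `p`-rank at most one for
all primes `p` dividing `|X|` is cyclic. -/
theorem isCyclic_of_rank_one_nilpotent {G : Type*} [Group G] [Finite G] (hodd : Odd (Nat.card G))
    {M X : Subgroup G} (hXM : X ≤ M) (hnil : Group.IsNilpotent ↥X)
    (hrk : ∀ p : ℕ, p.Prime → p ∣ Nat.card X → Cfsg.PRankLE p 1 ↥M) : IsCyclic ↥X := by
  haveI : IsZGroup ↥X := by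
    refine ⟨fun p hp P => ?_⟩
    haveI : Fact p.Prime := ⟨hp⟩
    by_cases hd : p ∣ Nat.card X
    · have hrkX : Cfsg.PRankLE p 1 ↥X :=
        Cfsg.Agent.Lib.Helper9.pRankLE_of_injective (Subgroup.inclusion hXM)
          (Subgroup.inclusion_injective hXM) p 1 (hrk p hp hd)
      have hp2 : p ≠ 2 := ne_two_of_dvd_sub hodd hd
      exact Cfsg.Agent.Lib.Helper17.isCyclic_of_pRankLE_one hp2 hrkX (P : Subgroup X) P.isPGroup'
    · have h1 : Nat.card (P : Subgroup X) = 1 := by
        rw [P.card_eq_multiplicity, Nat.factorization_eq_zero_of_not_dvd hd, pow_zero]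
      haveI : Subsingleton ↥(P : Subgroup X) := (Nat.card_eq_one_iff_unique.mp h1).1
      infer_instance
  haveI := hnil
  infer_instance

theorem isNilpotent_of_comm' {X : Type*} [Group X] (h : ∀ a b : X, a * b = b * a) :
    Group.IsNilpotent X := by
  have : IsMulCommutative X := ⟨⟨h⟩⟩
  exact ⟨⟨1, Subgroup.upperCentralSeries_one_eq_top_iff.mpr this⟩⟩

theorem card_commutator_subgroup {G : Type*} [Group G] (M : Subgroup G) :
    Nat.card ↥⁅M, M⁆ = Nat.card (commutator ↥M) := by
  rw [← Subgroup.map_subtype_commutator]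
  exact Subgroup.card_map_of_injective M.subtype_injective

/-- **BG Lemma 12.1** (the parts used in S1415). -/
theorem sigma_compl_context {G : Type*} [Group G] [Finite G] (hG : Cfsg.IsMinSimpleOddOrder G)
    (hU : UT G) {M : Subgroup G} (hM : IsCoatom M) {E : Subgroup G}
    (hE : Cfsg.IsComplIn E (Cfsg.sigmaCore M) M) :
    Group.IsNilpotent ↥⁅E, E⁆ ∧
      (∀ E₁ : Subgroup G, Cfsg.IsPiHallOf (Cfsg.tau1 M) E₁ E → IsCyclic E₁) ∧
      ∀ E₃ : Subgroup G, Cfsg.IsPiHallOf (Cfsg.tau3 M) E₃ E →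
        IsCyclic E₃ ∧ E₃ ≤ ⁅E, E⁆ ∧ E ≤ Subgroup.normalizer (E₃ : Set G) := by
  obtain ⟨hEM, hSM, hES, hprod⟩ := hE
  have hodd : Odd (Nat.card G) := hG.1
  set S := Cfsg.piCore (Cfsg.sigma M) ↥M with hS
  have hinj : Function.Injective (complHom S hEM) := complHom_injective S hEM hES
  have hsurj : Function.Surjective (complHom S hEM) := complHom_surjective S hEM hprod
  obtain ⟨-, -, hαS, -, hnil⟩ := malpha hG hU hM
  have hAS : Cfsg.piCore (Cfsg.alpha M) ↥M ≤ S :=
    (Subgroup.map_le_map_iff_of_injective M.subtype_injective).mp hαS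
  have hE'nil : Group.IsNilpotent ↥⁅E, E⁆ :=
    isNilpotent_commutator_of_compl S (Cfsg.piCore (Cfsg.alpha M) ↥M) hAS hnil hEM hinj
  refine ⟨hE'nil, ?_, ?_⟩
  · -- `E₁` cyclic
    intro E₁ hE₁
    obtain ⟨hE₁E, hE₁π, -⟩ := hE₁
    have hE₁M : E₁ ≤ M := hE₁E.trans hEM
    have hint : E₁ ⊓ ⁅M, M⁆ = ⊥ := by
      by_contra hne
      have hcard : Nat.card ↥(E₁ ⊓ ⁅M, M⁆) ≠ 1 := fun h => hne (Subgroup.card_eq_one.mp h)
      obtain ⟨p, hp, hpd⟩ := Nat.exists_prime_and_dvd hcard
      have h1 : p ∣ Nat.card E₁ := hpd.trans (Subgroup.card_dvd_of_le inf_le_left)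
      have h2 : p ∣ Nat.card ↥⁅M, M⁆ := hpd.trans (Subgroup.card_dvd_of_le inf_le_right)
      exact (hE₁π p hp h1).2.2.2.1 h2
    have hcomm : ∀ a b : ↥E₁, a * b = b * a := by
      intro a b
      have h1 : ⁅(a : G), (b : G)⁆ ∈ E₁ ⊓ ⁅M, M⁆ :=
        ⟨commutator_self_le E₁ (Subgroup.commutator_mem_commutator a.2 b.2),
          Subgroup.commutator_mem_commutator (hE₁M a.2) (hE₁M b.2)⟩
      rw [hint, Subgroup.mem_bot, commutatorElement_eq_one_iff_mul_comm] at h1
      exact Subtype.ext h1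
    exact isCyclic_of_rank_one_nilpotent hodd hE₁M (isNilpotent_of_comm' hcomm)
      (fun p hp hd => (hE₁π p hp hd).2.2.2.2)
  · -- `E₃`
    intro E₃ hE₃
    obtain ⟨hE₃E, hE₃π, hE₃idx⟩ := hE₃
    have hE₃M : E₃ ≤ M := hE₃E.trans hEM
    -- `E₃ ≤ M'`
    have hidx : ∀ p : ℕ, p.Prime → p ∈ Cfsg.tau3 M → ¬ p ∣ (commutator ↥M).index := by
      intro p hp hτ
      haveI : Fact p.Prime := ⟨hp⟩
      obtain ⟨-, -, hpd, hrk⟩ := hτ
      have hpM : p ∣ Nat.card ↥M :=
        hpd.trans (Subgroup.card_dvd_of_le (commutator_self_le M))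
      have hp2 : p ≠ 2 := ne_two_of_dvd_sub hodd hpM
      let P : Sylow p ↥M := default
      haveI : IsCyclic ↥(P : Subgroup ↥M) :=
        Cfsg.Agent.Lib.Helper17.isCyclic_of_pRankLE_one hp2 hrk (P : Subgroup ↥M) P.isPGroup'
      rcases Sylow.not_dvd_card_commutator_or_not_dvd_index_commutator P with h | h
      · exfalso
        rw [card_commutator_subgroup] at hpd
        exact h hpd
      · exact h
    have hE₃M' : E₃ ≤ ⁅M, M⁆ := by
      have hcop : (Nat.card (E₃.subgroupOf M)).Coprime (commutator ↥M).index := by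
        rw [Cfsg.Agent.Lib.Helper1.card_subgroupOf_of_le hE₃M]
        apply Nat.coprime_of_dvd
        intro p hp hd
        exact hidx p hp (hE₃π p hp hd)
      have hle := le_of_coprime_index_normal (commutator ↥M) (E₃.subgroupOf M) hcop
      intro x hx
      rw [← Subgroup.map_subtype_commutator]
      exact ⟨⟨x, hE₃M hx⟩, hle (Subgroup.mem_subgroupOf.mpr hx), rfl⟩
    have hE₃E' : E₃ ≤ ⁅E, E⁆ := fun x hx =>
      mem_commutator_of_compl S hEM hinj hsurj (hE₃E hx) (hE₃M' hx)
    -- nilpotent, cyclic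
    have hE₃nil : Group.IsNilpotent ↥E₃ := by
      haveI := hE'nil
      exact Group.nilpotent_of_mulEquiv (Subgroup.subgroupOfEquivOfLe hE₃E')
    have hcyc : IsCyclic ↥E₃ := isCyclic_of_rank_one_nilpotent hodd hE₃M hE₃nil
      (fun p hp hd => (hE₃π p hp hd).2.2.2)
    refine ⟨hcyc, hE₃E', ?_⟩
    -- normality
    have hcopE : (Nat.card E₃).Coprime (E₃.relIndex E) := by
      apply Nat.coprime_of_dvd
      intro p hp hd
      exact hE₃idx p hp (hE₃π p hp hd)
    have hE'E : ⁅E, E⁆ ≤ E := commutator_self_le E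
    set H : Subgroup ↥⁅E, E⁆ := E₃.subgroupOf ⁅E, E⁆ with hH
    have hHidx : H.index ∣ E₃.relIndex E := by
      have := Subgroup.relIndex_mul_relIndex E₃ ⁅E, E⁆ E hE₃E' hE'E
      exact Dvd.intro _ this
    have hHcard : Nat.card H = Nat.card E₃ := Cfsg.Agent.Lib.Helper1.card_subgroupOf_of_le hE₃E'
    haveI := hE'nil
    haveI hHn : H.Normal := normal_of_coprime_index_nilpotent H (by
      rw [hHcard]; exact Nat.Coprime.coprime_dvd_right hHidx hcopE)
    have hconj : ∀ e ∈ E, ∀ h ∈ E₃, e * h * e⁻¹ ∈ E₃ := by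
      intro e he
      set K : Subgroup G := E₃.map (MulAut.conj e).toMonoidHom with hK
      have hKE' : K ≤ ⁅E, E⁆ := by
        rintro _ ⟨x, hx, rfl⟩
        have h1 : ⁅e, x⁆ ∈ ⁅E, E⁆ := Subgroup.commutator_mem_commutator he (hE₃E hx)
        have h2 : e * x * e⁻¹ = ⁅e, x⁆ * x := by
          rw [commutatorElement_def]; group
        show (MulAut.conj e) x ∈ _
        rw [MulAut.conj_apply, h2]
        exact Subgroup.mul_mem _ h1 (hE₃E' hx)
      have hKcard : Nat.card K = Nat.card E₃ :=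
        Subgroup.card_map_of_injective (MulAut.conj e).injective
      have hcop : (Nat.card (K.subgroupOf ⁅E, E⁆)).Coprime H.index := by
        rw [Cfsg.Agent.Lib.Helper1.card_subgroupOf_of_le hKE', hKcard]
        exact Nat.Coprime.coprime_dvd_right hHidx hcopE
      have hle := le_of_coprime_index_normal H (K.subgroupOf ⁅E, E⁆) hcop
      intro h hh
      have h1 : e * h * e⁻¹ ∈ K := ⟨h, hh, by simp⟩
      have h2 : (⟨e * h * e⁻¹, hKE' h1⟩ : ↥⁅E, E⁆) ∈ K.subgroupOf ⁅E, E⁆ :=
        Subgroup.mem_subgroupOf.mpr h1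
      exact Subgroup.mem_subgroupOf.mp (hle h2)
    intro e he
    rw [Subgroup.mem_normalizer_iff]
    intro h
    constructor
    · exact hconj e he h
    · intro hh
      have := hconj e⁻¹ (E.inv_mem he) _ hh
      have e2 : e⁻¹ * (e * h * e⁻¹) * e⁻¹⁻¹ = h := by group
      rwa [e2] at this

end Cfsg.Agent.Lib.Helper23.BGY
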