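import Mathlib
import Cfsg.Prelude.Def_OddOrderLocal
import Cfsg.Agent.Lib.Helper23.BGY1
import Cfsg.Agent.Lib.Helper1.Coprime
import Cfsg.Agent.Lib.Helper17.OddAutRank2
import Cfsg.Agent.Lib.Helper17.BGUniqG
import Cfsg.Agent.Lib.Helper4.MinNonAbelian

/-!
# Bender–Glauberman §12 (helper23), part 2: general tools for Corollary 12.10
-/

set_option autoImplicit false
set_option linter.unusedSectionVars false
set_option linter.style.haveILetI false

namespace Cfsg.Agent.Lib.Helper23.BGY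

open Cfsg Cfsg.Agent.Lib.Helper1.BGX
open scoped commutatorElement

/-- `M` normalizes the image in `G` of a normal subgroup of `↥M`. -/
theorem le_normalizer_map_subtype {G : Type*} [Group G] (M : Subgroup G) (N : Subgroup ↥M)
    [hN : N.Normal] : M ≤ Subgroup.normalizer ((N.map M.subtype : Subgroup G) : Set G) := by
  intro m hm
  rw [Subgroup.mem_normalizer_iff]
  intro y
  constructor
  · rintro ⟨n, hn, rfl⟩
    exact ⟨⟨m, hm⟩ * n * ⟨m, hm⟩⁻¹, hN.conj_mem n hn _, by simp⟩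
  · rintro ⟨n', hn', hn'y⟩
    refine ⟨⟨m, hm⟩⁻¹ * n' * ⟨m, hm⟩, ?_, ?_⟩
    · have := hN.conj_mem n' hn' (⟨m, hm⟩⁻¹)
      simpa using this
    · simp only [Subgroup.subtype_apply, Subgroup.coe_mul, Subgroup.coe_inv] at hn'y ⊢
      rw [hn'y]; group

theorem le_normalizer_sigmaCore {G : Type*} [Group G] (M : Subgroup G) :
    M ≤ Subgroup.normalizer ((Cfsg.sigmaCore M : Subgroup G) : Set G) :=
  le_normalizer_map_subtype M _

/-- A subgroup `H` of `M = K E` (`K` normal in `M`, `E` a complement) whose order is coprime to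
`|K|` is conjugate into `E` by an element of `K`. -/
theorem exists_conj_mem_compl {G : Type*} [Group G] [Finite G] {M K E H : Subgroup G}
    (hKn : M ≤ Subgroup.normalizer (K : Set G)) (hc : Cfsg.IsComplIn E K M) (hHM : H ≤ M)
    (hcop : (Nat.card H).Coprime (Nat.card K))
    (hsolv : Group.IsSolvable ↥H ∨ Group.IsSolvable ↥K) :
    ∃ k ∈ K, ∀ h ∈ H, k⁻¹ * h * k ∈ E := by
  obtain ⟨hEM, hKM, -, hprod⟩ := hc
  have hKH : K ⊔ H ≤ M := sup_le hKM hHM
  obtain ⟨k, hk, hkU⟩ := Cfsg.Agent.Lib.Helper1.exists_le_conj_smul_of_coprime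
    (A := H) (K := K) (U := E ⊓ (K ⊔ H)) (hHM.trans hKn) hcop hsolv inf_le_right (by
      intro γ hγ
      obtain ⟨a, ha, b, hb, hab⟩ := hprod γ⁻¹ (M.inv_mem (hKH hγ))
      refine ⟨b⁻¹, K.inv_mem hb, a⁻¹, ⟨E.inv_mem ha, ?_⟩, ?_⟩
      · have : a⁻¹ = b * γ := by
          have h1 : γ = (a * b)⁻¹ := by rw [← hab, inv_inv]
          rw [h1]; group
        rw [this]
        exact Subgroup.mul_mem _ (Subgroup.mem_sup_left hb) hγ
      · have h1 : γ = (a * b)⁻¹ := by rw [← hab, inv_inv]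
        rw [h1]; group)
  refine ⟨k, hk, fun h hh => ?_⟩
  exact ((Cfsg.Agent.Lib.Helper1.mem_conj_smul_iff _ k h).mp (hkU hh)).1

/-- Conjugating a complement by an element of `M` gives a complement. -/
theorem isComplIn_conj {G : Type*} [Group G] {M K E : Subgroup G}
    (hKn : M ≤ Subgroup.normalizer (K : Set G)) (hc : Cfsg.IsComplIn E K M) {k : G} (hk : k ∈ M) :
    Cfsg.IsComplIn (E.map (MulAut.conj k).toMonoidHom) K M := by
  obtain ⟨hEM, hKM, hEK, hprod⟩ := hc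
  refine ⟨?_, hKM, ?_, ?_⟩
  · rintro _ ⟨e, he, rfl⟩
    exact M.mul_mem (M.mul_mem hk (hEM he)) (M.inv_mem hk)
  · rw [eq_bot_iff]
    rintro _ ⟨⟨e, he, rfl⟩, h2⟩
    rw [Subgroup.mem_bot]
    have h3 : k * e * k⁻¹ ∈ K := by simpa using h2
    have h4 : e ∈ K := by
      have := (Subgroup.mem_normalizer_iff.mp (hKn (M.inv_mem hk)) (k * e * k⁻¹)).mp h3
      have e2 : k⁻¹ * (k * e * k⁻¹) * k⁻¹⁻¹ = e := by group
      rwa [e2] at this
    have h5 : e ∈ E ⊓ K := ⟨he, h4⟩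
    rw [hEK, Subgroup.mem_bot] at h5
    simp [h5]
  · intro m hm
    obtain ⟨a, ha, b, hb, hab⟩ := hprod (k⁻¹ * m * k) (M.mul_mem (M.mul_mem (M.inv_mem hk) hm) hk)
    refine ⟨k * a * k⁻¹, ⟨a, ha, by simp⟩, k * b * k⁻¹, ?_, ?_⟩
    · exact (Subgroup.mem_normalizer_iff.mp (hKn hk) b).mp hb
    · have : m = k * (k⁻¹ * m * k) * k⁻¹ := by group
      rw [this, hab]; group

/-- From `¬ PRankLE p 1` we get an elementary abelian subgroup of order exactly `p ^ 2`. -/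
theorem exists_elemAb_sq {G : Type*} [Group G] [Finite G] {p : ℕ} [hp : Fact p.Prime]
    {K : Subgroup G} (h : ¬ Cfsg.PRankLE p 1 ↥K) :
    ∃ A : Subgroup G, A ≤ K ∧ Cfsg.IsElementaryAbelian p A ∧ Nat.card A = p ^ 2 := by
  obtain ⟨E, hEK, hEc, hEe, hEcard⟩ := Cfsg.Agent.Lib.Helper17.BGU.exists_elemAb_of_not_pRankLE h
  have hEp : IsPGroup p E := fun a => ⟨1, by
    rw [pow_one]; exact Subtype.ext (by simpa using hEe a a.2)⟩
  obtain ⟨n, hn⟩ := IsPGroup.iff_card.mp hEp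
  have hn2 : 2 ≤ n := by
    by_contra hlt
    push Not at hlt
    rw [hn, pow_one] at hEcard
    have : p ^ n ≤ p ^ 1 := Nat.pow_le_pow_right hp.out.pos (by omega)
    rw [pow_one] at this
    omega
  have hdvd : p ^ 2 ∣ Nat.card E := by rw [hn]; exact pow_dvd_pow p hn2
  obtain ⟨B, hB⟩ := Sylow.exists_subgroup_card_pow_prime p hdvd
  refine ⟨B.map E.subtype, (Subgroup.map_subtype_le _).trans hEK, ⟨⟨⟨?_⟩⟩, ?_⟩, ?_⟩
  · rintro ⟨_, ⟨a, ha, rfl⟩⟩ ⟨_, ⟨b, hb, rfl⟩⟩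
    apply Subtype.ext
    exact hEc a a.2 b b.2
  · rintro _ ⟨a, ha, rfl⟩
    exact hEe a a.2
  · rw [Subgroup.card_map_of_injective E.subtype_injective, hB]

/-- If all Sylow `p`-subgroups of `↥M` are commutative then any `p`-subgroup of `M` is
commutative. -/
theorem comm_of_isPGroup_of_sylow_comm {G : Type*} [Group G] [Finite G] {p : ℕ} [Fact p.Prime]
    {M Q : Subgroup G} (hQM : Q ≤ M) (hQ : IsPGroup p Q)
    (hS : ∀ P : Sylow p ↥M, IsMulCommutative (P : Subgroup ↥M)) :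
    ∀ a ∈ Q, ∀ b ∈ Q, a * b = b * a := by
  have hQ' : IsPGroup p ↥(Q.subgroupOf M) := hQ.comap_subtype
  obtain ⟨P, hP⟩ := hQ'.exists_le_sylow
  intro a ha b hb
  have h1 : (⟨a, hQM ha⟩ : ↥M) ∈ (P : Subgroup ↥M) := hP (Subgroup.mem_subgroupOf.mpr ha)
  have h2 : (⟨b, hQM hb⟩ : ↥M) ∈ (P : Subgroup ↥M) := hP (Subgroup.mem_subgroupOf.mpr hb)
  have := (hS P).is_comm.comm (⟨_, h1⟩ : (P : Subgroup ↥M)) ⟨_, h2⟩
  have h3 := congrArg (fun z : (P : Subgroup ↥M) => ((z : ↥M) : G)) this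
  simpa using h3

end Cfsg.Agent.Lib.Helper23.BGY
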