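import Mathlib
import Cfsg.Prelude.Def_OddOrderLocal
import Cfsg.Agent.Lib.Helper23.BGY2

/-!
# Bender–Glauberman §12 (helper23), part 3: automizer of a rank-two `p`-subgroup
-/

set_option autoImplicit false
set_option linter.unusedSectionVars false
set_option linter.style.haveILetI false

namespace Cfsg.Agent.Lib.Helper23.BGY

open Cfsg Cfsg.Agent.Lib.Helper1.BGX
open scoped commutatorElement

/-- If some Sylow `p`-subgroup of `G` is commutative, every `p`-subgroup is commutative. -/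
theorem comm_of_isPGroup_of_exists_sylow_comm {G : Type*} [Group G] [Finite G] {p : ℕ}
    [Fact p.Prime] (hS : ∃ S : Sylow p G, IsMulCommutative (S : Subgroup G)) {Q : Subgroup G}
    (hQ : IsPGroup p Q) : ∀ a ∈ Q, ∀ b ∈ Q, a * b = b * a := by
  obtain ⟨S, hSc⟩ := hS
  obtain ⟨S', hS'⟩ := hQ.exists_le_sylow
  obtain ⟨g, hg⟩ := MulAction.exists_smul_eq G S S'
  have hc : ∀ a ∈ (S' : Subgroup G), ∀ b ∈ (S' : Subgroup G), a * b = b * a := by
    intro a ha b hb
    rw [← hg] at ha hb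
    rw [Cfsg.Agent.Lib.Helper1.mem_sylow_smul_iff] at ha hb
    have := hSc.is_comm.comm (⟨_, ha⟩ : (S : Subgroup G)) ⟨_, hb⟩
    have h3 : g⁻¹ * a * g * (g⁻¹ * b * g) = g⁻¹ * b * g * (g⁻¹ * a * g) := by
      simpa using congrArg Subtype.val this
    have h4 : g * (g⁻¹ * a * g * (g⁻¹ * b * g)) * g⁻¹ = g * (g⁻¹ * b * g * (g⁻¹ * a * g)) * g⁻¹ := by
      rw [h3]
    have e1 : g * (g⁻¹ * a * g * (g⁻¹ * b * g)) * g⁻¹ = a * b := by group
    have e2 : g * (g⁻¹ * b * g * (g⁻¹ * a * g)) * g⁻¹ = b * a := by group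
    rw [e1, e2] at h4
    exact h4
  intro a ha b hb
  exact hc a (hS' ha) b (hS' hb)

/-- **Automizer lemma.**  Let `A` be a `p`-subgroup of rank at most two (`p` odd) of a finite group
`G` such that `N_G(A)` has odd order and every `p`-element of `N_G(A)` centralizes `A`.  Then
`N_G(A)/C_G(A)` is abelian: commutators of elements of `N_G(A)` centralize `A`. -/
theorem commutator_mem_centralizer_of_rank_two {G : Type*} [Group G] [Finite G] {p : ℕ}
    [Fact p.Prime] (hp2 : p ≠ 2) {A : Subgroup G} (hA : IsPGroup p A) (hr : Cfsg.PRankLE p 2 ↥A)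
    (hodd : Odd (Nat.card ↥(Subgroup.normalizer (A : Set G))))
    (hpel : ∀ t ∈ Subgroup.normalizer (A : Set G), (∃ k : ℕ, t ^ (p ^ k) = 1) →
      t ∈ Subgroup.centralizer (A : Set G))
    {n x : G} (hn : n ∈ Subgroup.normalizer (A : Set G)) (hx : x ∈ Subgroup.normalizer (A : Set G)) :
    ⁅n, x⁆ ∈ Subgroup.centralizer (A : Set G) := by
  have hpp : p.Prime := Fact.out
  set φ := A.normalizerMonoidHom with hφ
  set B : Subgroup (MulAut ↥A) := φ.range with hB
  have hBodd : Odd (Nat.card B) := by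
    have h1 : Nat.card B ∣ Nat.card ↥(Subgroup.normalizer (A : Set G)) := Subgroup.card_range_dvd φ
    exact Odd.of_dvd_nat hodd h1
  obtain ⟨hcomm, -⟩ := Cfsg.Agent.Lib.Helper17.odd_aut_rank_two p hp2 hA hr B hBodd
  -- every `p`-element of `B` is trivial
  have hBp : ∀ β ∈ B, (∃ k : ℕ, β ^ (p ^ k) = 1) → β = 1 := by
    rintro _ ⟨m, rfl⟩ ⟨k, hk⟩
    -- write `|m| = p^a * b`
    obtain ⟨a, b, hb, hab⟩ := Nat.exists_eq_pow_mul_and_not_dvd (orderOf_pos m).ne' p hpp.ne_one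
    have h1 : (m ^ b) ^ (p ^ a) = 1 := by
      rw [← pow_mul, mul_comm, ← hab, pow_orderOf_eq_one]
    have h2 : ((m ^ b : ↥(Subgroup.normalizer (A : Set G))) : G) ∈
        Subgroup.centralizer (A : Set G) := by
      apply hpel _ (m ^ b).2
      exact ⟨a, by simpa using congrArg Subtype.val h1⟩
    have h3 : φ (m ^ b) = 1 := by
      have : m ^ b ∈ φ.ker := by
        rw [hφ, Subgroup.normalizerMonoidHom_ker, Subgroup.mem_subgroupOf]
        exact h2
      exact this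
    rw [map_pow] at h3
    have h4 : orderOf (φ m) ∣ b := orderOf_dvd_of_pow_eq_one h3
    have h5 : orderOf (φ m) ∣ p ^ k := orderOf_dvd_of_pow_eq_one hk
    have h6 : orderOf (φ m) = 1 := by
      have hcop : (p ^ k).Coprime b := Nat.Coprime.pow_left k ((Nat.Prime.coprime_iff_not_dvd hpp).mpr hb)
      exact Nat.eq_one_of_dvd_coprimes hcop h5 h4
    exact orderOf_eq_one_iff.mp h6
  have h1 : ⁅φ ⟨n, hn⟩, φ ⟨x, hx⟩⁆ ∈ ⁅B, B⁆ :=
    Subgroup.commutator_mem_commutator ⟨_, rfl⟩ ⟨_, rfl⟩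
  have h2 : ⁅φ ⟨n, hn⟩, φ ⟨x, hx⟩⁆ = 1 :=
    hBp _ (Cfsg.Agent.Lib.Helper23.BGY.commutator_self_le B h1) (hcomm _ h1)
  rw [← map_commutatorElement] at h2
  have h3 : (⁅(⟨n, hn⟩ : ↥(Subgroup.normalizer (A : Set G))), ⟨x, hx⟩⁆) ∈ φ.ker := h2
  rw [hφ, Subgroup.normalizerMonoidHom_ker, Subgroup.mem_subgroupOf] at h3
  have h4 : ((⁅(⟨n, hn⟩ : ↥(Subgroup.normalizer (A : Set G))), ⟨x, hx⟩⁆ :
      ↥(Subgroup.normalizer (A : Set G))) : G) = ⁅n, x⁆ := by
    simp [commutatorElement_def]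
  rwa [h4] at h3

end Cfsg.Agent.Lib.Helper23.BGY
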