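import Mathlib
import Cfsg.Prelude.Def_OddOrderLocal
import Cfsg.Agent.Lib.Helper23.BGY3
import Cfsg.Agent.S1350
import Cfsg.Agent.S1404
import Cfsg.Agent.S1415

/-!
# Bender–Glauberman §12 (helper23), part 4: Corollary 12.10 (statement S1420)

The results of BG 12.4–12.7 (statements S1416–S1419) enter as explicit hypotheses
`h16`–`h19` (only the parts used).
-/

set_option autoImplicit false
set_option linter.unusedSectionVars false
set_option linter.style.haveILetI false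

namespace Cfsg.Agent.Lib.Helper23.BGY

open Cfsg Cfsg.Agent.Lib.Helper1.BGX
open scoped commutatorElement

section

variable {G : Type*} [Group G] [Finite G]

/-- the part of S1416 we use -/
def H16 (G : Type*) [Group G] : Prop :=
  ∀ (M : Subgroup G), IsCoatom M → ∀ (p : ℕ) [Fact p.Prime] (A : Subgroup G),
    (A ≤ M ∧ Cfsg.IsElementaryAbelian p A ∧ Nat.card A = p ^ 2) →
    Subgroup.centralizer (A : Set G) ≤ M

/-- the part of S1417 we use -/
def H17 (G : Type*) [Group G] : Prop :=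
  ∀ (M : Subgroup G), IsCoatom M → ∀ (p : ℕ) [Fact p.Prime], p ∈ Cfsg.tau2 M → ∀ A : Subgroup G,
    (A ≤ M ∧ Cfsg.IsElementaryAbelian p A ∧ Nat.card A = p ^ 2) →
    (∀ P : Sylow p M, IsMulCommutative (P : Subgroup M)) ∧
    (∀ Mstar : Subgroup G, IsCoatom Mstar → Mstar ≠ M → A ≤ Mstar →
      Cfsg.sigmaCore M ⊓ Mstar = ⊥)

/-- the part of S1418 we use -/
def H18 (G : Type*) [Group G] : Prop :=
  ∀ (M : Subgroup G), IsCoatom M → ∀ E : Subgroup G, Cfsg.IsComplIn E (Cfsg.sigmaCore M) M →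
    ∀ (p : ℕ) [Fact p.Prime], p ∈ Cfsg.tau2 M → ∀ A : Subgroup G,
    (A ≤ E ∧ Cfsg.IsElementaryAbelian p A ∧ Nat.card A = p ^ 2) →
    (E ≤ Subgroup.normalizer (A : Set G) ∧ ∀ X : Subgroup G, X ≤ E → Nat.card X = p → X ≤ A) ∧
    ¬ Subgroup.normalizer (A : Set G) ≤ M ∧
    ∀ X : Subgroup G, X ≤ A → Nat.card X = p →
      Cfsg.sigmaCore M ⊓ Subgroup.centralizer (X : Set G) ≠ ⊥ →
      (Subgroup.centralizer (X : Set G) ≤ M ∧
        ∀ L : Subgroup G, IsCoatom L → Subgroup.centralizer (X : Set G) ≤ L → L = M)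

/-- the part of S1419 we use -/
def H19 (G : Type*) [Group G] : Prop :=
  ∀ (M : Subgroup G), IsCoatom M → ∀ E : Subgroup G, Cfsg.IsComplIn E (Cfsg.sigmaCore M) M →
    ∀ (p : ℕ) [Fact p.Prime], p ∈ Cfsg.tau2 M →
    (∀ S : Sylow p G, ¬ IsMulCommutative (S : Subgroup G)) → ∀ A : Subgroup G,
    (A ≤ E ∧ Cfsg.IsElementaryAbelian p A ∧ Nat.card A = p ^ 2) → Cfsg.tau2 M = {p}

/-- primes dividing `|M|` outside `σ(M)` with `p`-rank at least 2 are in `τ₂(M)`. -/
theorem mem_tau2_of_not_rank_one (hG : Cfsg.IsMinSimpleOddOrder G) {M : Subgroup G}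
    (hM : IsCoatom M) {p : ℕ} (hp : p.Prime) (hσ : p ∉ Cfsg.sigma M)
    (hr : ¬ Cfsg.PRankLE p 1 ↥M) : p ∈ Cfsg.tau2 M := by
  have hU : UT G := fun K hK h2 h3 => Cfsg.Agent.S1403.result hG K hK h2 h3
  refine ⟨hp, hσ, ?_, hr⟩
  by_contra h
  exact hσ (alpha_subset_sigma hG hU hM ⟨hp, h⟩)

/-- **BG 12.10(a)**: nilpotent `σ(M)'`-subgroups of `M` are abelian. -/
theorem nilpotent_sigma'_comm (hG : Cfsg.IsMinSimpleOddOrder G) (h17 : H17 G) {M : Subgroup G}
    (hM : IsCoatom M) {N : Subgroup G} (hNM : N ≤ M) (hnil : Group.IsNilpotent ↥N)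
    (hσ : ∀ p : ℕ, p.Prime → p ∣ Nat.card N → p ∉ Cfsg.sigma M) : IsMulCommutative ↥N := by
  have hodd : Odd (Nat.card G) := hG.1
  refine ⟨⟨?_⟩⟩
  apply Cfsg.Agent.Lib.Helper4.comm_of_nilpotent_of_sylow_comm hnil
  intro p hpF P
  have hp : p.Prime := hpF.out
  by_cases hd : p ∣ Nat.card N
  · have hpσ := hσ p hp hd
    -- the image of `P` in `G`
    set Q : Subgroup G := (P : Subgroup ↥N).map N.subtype with hQ
    have hQp : IsPGroup p Q := P.isPGroup'.map _
    have hQN : Q ≤ N := Subgroup.map_subtype_le _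
    have hQM : Q ≤ M := hQN.trans hNM
    have hcomm : ∀ a ∈ Q, ∀ b ∈ Q, a * b = b * a := by
      by_cases hr : Cfsg.PRankLE p 1 ↥M
      · have hp2 : p ≠ 2 := ne_two_of_dvd_sub hodd hd
        have hrQ : Cfsg.PRankLE p 1 ↥Q :=
          Cfsg.Agent.Lib.Helper9.pRankLE_of_injective (Subgroup.inclusion hQM)
            (Subgroup.inclusion_injective hQM) p 1 hr
        have hcyc : IsCyclic ↥(⊤ : Subgroup ↥Q) :=
          Cfsg.Agent.Lib.Helper17.isCyclic_of_pRankLE_one hp2 hrQ ⊤ (by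
            intro x
            obtain ⟨k, hk⟩ := hQp (x : ↥Q)
            exact ⟨k, Subtype.ext hk⟩)
        have hcyc' : IsCyclic ↥Q := isCyclic_of_surjective _ Subgroup.topEquiv.surjective
        intro a ha b hb
        obtain ⟨g, hg⟩ := hcyc'.exists_generator
        obtain ⟨i, hi⟩ := Subgroup.mem_zpowers_iff.mp (hg ⟨a, ha⟩)
        obtain ⟨j, hj⟩ := Subgroup.mem_zpowers_iff.mp (hg ⟨b, hb⟩)
        have h1 : (⟨a, ha⟩ : ↥Q) * ⟨b, hb⟩ = ⟨b, hb⟩ * ⟨a, ha⟩ := by
          rw [← hi, ← hj, ← zpow_add, ← zpow_add, add_comm]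
        exact congrArg Subtype.val h1
      · have hτ := mem_tau2_of_not_rank_one hG hM hp hpσ hr
        obtain ⟨A, hAM, hAe, hAc⟩ := exists_elemAb_sq (p := p) hr
        obtain ⟨hS, -⟩ := h17 M hM p hτ A ⟨hAM, hAe, hAc⟩
        exact comm_of_isPGroup_of_sylow_comm hQM hQp hS
    refine ⟨⟨fun a b => ?_⟩⟩
    have h1 := hcomm _ ⟨a, a.2, rfl⟩ _ ⟨b, b.2, rfl⟩
    apply Subtype.ext
    apply Subtype.ext
    simpa using h1
  · have h1 : Nat.card (P : Subgroup ↥N) = 1 := by
      rw [P.card_eq_multiplicity, Nat.factorization_eq_zero_of_not_dvd hd, pow_zero]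
    haveI : Subsingleton ↥(P : Subgroup ↥N) := (Nat.card_eq_one_iff_unique.mp h1).1
    exact ⟨⟨fun a b => Subsingleton.elim _ _⟩⟩


/-- primes dividing the order of a complement of `M_σ` are not in `σ(M)`. -/
theorem not_mem_sigma_of_dvd_compl (hG : Cfsg.IsMinSimpleOddOrder G) {M : Subgroup G}
    (hM : IsCoatom M) {E : Subgroup G} (hE : Cfsg.IsComplIn E (Cfsg.sigmaCore M) M) {p : ℕ}
    (hp : p.Prime) (hd : p ∣ Nat.card E) : p ∉ Cfsg.sigma M := by
  intro hσ
  obtain ⟨⟨hle, -, hidx⟩, -, -⟩ := Cfsg.Agent.S1350.result hG M hM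
  apply hidx p hp hσ
  obtain ⟨hEM, hSM, hES, hprod⟩ := hE
  have hc : Cfsg.Agent.Lib.Helper1.IsComplIn E (Cfsg.sigmaCore M) M :=
    ⟨hEM, hSM, disjoint_iff.mpr hES, fun m hm => by
      obtain ⟨a, ha, b, hb, hab⟩ := hprod m hm
      exact ⟨a, ha, b, hb, hab.symm⟩⟩
  have h1 := hc.card_mul_card
  have h2 : (Cfsg.sigmaCore M).relIndex M * Nat.card (Cfsg.sigmaCore M) = Nat.card M := by
    have := (((Cfsg.sigmaCore M).subgroupOf M)).card_mul_index
    rw [Cfsg.Agent.Lib.Helper1.card_subgroupOf_of_le hle] at this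
    rw [mul_comm]; exact this
  have h3 : (Cfsg.sigmaCore M).relIndex M = Nat.card E := by
    have hpos : 0 < Nat.card (Cfsg.sigmaCore M) := Nat.card_pos
    have : (Cfsg.sigmaCore M).relIndex M * Nat.card (Cfsg.sigmaCore M) =
        Nat.card E * Nat.card (Cfsg.sigmaCore M) := by rw [h2, h1]
    exact Nat.eq_of_mul_eq_mul_right hpos this
  rw [h3]; exact hd

/-- **BG 12.10(c)**: for `p ∈ σ(M)` the normalizer of a noncyclic `p`-subgroup of `M` is in `M`. -/
theorem normalizer_le_of_not_cyclic (hG : Cfsg.IsMinSimpleOddOrder G) (h16 : H16 G)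
    {M : Subgroup G} (hM : IsCoatom M) {p : ℕ} {P : Subgroup G} (hp : p ∈ Cfsg.sigma M)
    (hP : IsPGroup p P) (hPM : P ≤ M) (hPc : ¬ IsCyclic ↥P) :
    Subgroup.normalizer (P : Set G) ≤ M := by
  have hodd : Odd (Nat.card G) := hG.1
  have hpp : p.Prime := hp.1
  haveI : Fact p.Prime := ⟨hpp⟩
  have hp2 : p ≠ 2 := ne_two_of_dvd_sub hodd hp.2.1
  have hr : ¬ Cfsg.PRankLE p 1 ↥P := by
    intro hr
    apply hPc
    have hcyc : IsCyclic ↥(⊤ : Subgroup ↥P) :=
      Cfsg.Agent.Lib.Helper17.isCyclic_of_pRankLE_one hp2 hr ⊤ (by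
        intro x
        obtain ⟨k, hk⟩ := hP (x : ↥P)
        exact ⟨k, Subtype.ext hk⟩)
    exact isCyclic_of_surjective _ Subgroup.topEquiv.surjective
  obtain ⟨A, hAP, hAe, hAc⟩ := exists_elemAb_sq (p := p) hr
  have hCA := h16 M hM p A ⟨hAP.trans hPM, hAe, hAc⟩
  have hCP : Subgroup.centralizer (P : Set G) ≤ M :=
    (Subgroup.centralizer_le (by exact_mod_cast hAP)).trans hCA
  have hP1 : P ≠ ⊥ := by
    intro h
    apply hPc
    rw [h]
    infer_instance
  obtain ⟨-, hN⟩ := Cfsg.Agent.S1404.result hG M hM p hp P hP hP1 hPM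
  rw [hN]
  exact sup_le inf_le_left hCP


theorem commute_zpow_of_commute {G : Type*} [Group G] {g x : G} (h : g * x = x * g) (i : ℤ) :
    g * x ^ i = x ^ i * g :=
  ((Commute.zpow_right (show Commute g x from h) i)).eq

/-- **BG 12.10(e)**: a `τ₂(M)`-element of `M` centralizing a non-identity element of `M_σ` has its
centralizer in `M` only. -/
theorem cent_tau2_elt_uniq (hG : Cfsg.IsMinSimpleOddOrder G) (h17 : H17 G) (h18 : H18 G)
    (h19 : H19 G) {M : Subgroup G} (hM : IsCoatom M) {E : Subgroup G}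
    (hE : Cfsg.IsComplIn E (Cfsg.sigmaCore M) M) {x : G} (hxM : x ∈ M) (hx1 : x ≠ 1)
    (hτ : ∀ p : ℕ, p.Prime → p ∣ orderOf x → p ∈ Cfsg.tau2 M) (hx : x ∈ Cfsg.sigmaHat M) :
    Subgroup.centralizer ({x} : Set G) ≤ M ∧
      ∀ L : Subgroup G, IsCoatom L → Subgroup.centralizer ({x} : Set G) ≤ L → L = M := by
  have hodd : Odd (Nat.card G) := hG.1
  haveI hsimple : IsSimpleGroup G := hG.2.1
  obtain ⟨-, y, hyS, hy1, hxy⟩ := hx
  obtain ⟨K, hKdef⟩ : ∃ K : Subgroup G, K = Cfsg.sigmaCore M := ⟨_, rfl⟩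
  rw [← hKdef] at hE hyS
  have hKn : M ≤ Subgroup.normalizer (K : Set G) := by rw [hKdef]; exact le_normalizer_sigmaCore M
  have hKM : K ≤ M := hE.2.1
  haveI hsolM : Group.IsSolvable ↥M := hG.2.2.2 M hM.1
  have hKsol : Group.IsSolvable ↥K :=
    Group.isSolvable_of_isSolvable_injective (f := Subgroup.inclusion hKM) (Subgroup.inclusion_injective _)
  have hKσ : ∀ q : ℕ, q.Prime → q ∣ Nat.card K → q ∈ Cfsg.sigma M := by
    rw [hKdef]; exact (Cfsg.Agent.S1350.result hG M hM).1.2.1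
  -- a prime `p` dividing the order of `x`
  have hord : orderOf x ≠ 1 := by rwa [Ne, orderOf_eq_one_iff]
  obtain ⟨p, hpp, hpd⟩ := Nat.exists_prime_and_dvd hord
  haveI : Fact p.Prime := ⟨hpp⟩
  have hpτ := hτ p hpp hpd
  have hp2 : p ≠ 2 := by
    have : p ∣ Nat.card G := hpd.trans (orderOf_dvd_natCard x)
    rintro rfl
    exact (Nat.not_even_iff_odd.mpr hodd) (even_iff_two_dvd.mpr this)
  -- conjugate `E` so that it contains `x`
  have hHM : Subgroup.zpowers x ≤ M := Subgroup.zpowers_le.mpr hxM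
  have hcopH : (Nat.card (Subgroup.zpowers x)).Coprime (Nat.card K) := by
    apply Nat.coprime_of_dvd
    intro q hq hqH hqK
    rw [Nat.card_zpowers] at hqH
    exact (hτ q hq hqH).2.1 (hKσ q hq hqK)
  obtain ⟨k, hkK, hkH⟩ := exists_conj_mem_compl hKn hE hHM hcopH (Or.inr hKsol)
  obtain ⟨E₁, hE₁def⟩ : ∃ E₁ : Subgroup G, E₁ = E.map (MulAut.conj k).toMonoidHom := ⟨_, rfl⟩
  have hE₁ : Cfsg.IsComplIn E₁ K M := by rw [hE₁def]; exact isComplIn_conj hKn hE (hKM hkK)
  have hxE₁ : x ∈ E₁ := by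
    rw [hE₁def]
    refine ⟨k⁻¹ * x * k, hkH x (Subgroup.mem_zpowers x), ?_⟩
    show (MulAut.conj k) (k⁻¹ * x * k) = x
    rw [MulAut.conj_apply]; group
  -- an elementary abelian subgroup of order `p ^ 2` in `E₁`
  obtain ⟨A', hA'M, hA'e, hA'c⟩ := exists_elemAb_sq (p := p) hpτ.2.2.2
  have hcopA : (Nat.card A').Coprime (Nat.card K) := by
    rw [hA'c]
    apply Nat.Coprime.pow_left
    rw [Nat.Prime.coprime_iff_not_dvd hpp]
    intro h
    exact hpτ.2.1 (hKσ p hpp h)
  obtain ⟨k', hk'K, hk'A⟩ := exists_conj_mem_compl hKn hE₁ hA'M hcopA (Or.inr hKsol)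
  obtain ⟨A, hAdef⟩ : ∃ A : Subgroup G, A = A'.map (MulAut.conj k'⁻¹).toMonoidHom := ⟨_, rfl⟩
  have hAE₁ : A ≤ E₁ := by
    rw [hAdef]
    rintro _ ⟨a, ha, rfl⟩
    show (MulAut.conj k'⁻¹) a ∈ E₁
    rw [MulAut.conj_apply, inv_inv]
    exact hk'A a ha
  haveI := hA'e.1
  have hAe : Cfsg.IsElementaryAbelian p A := by
    rw [hAdef]
    refine ⟨Subgroup.map_isMulCommutative _ _, ?_⟩
    · rintro _ ⟨a, ha, rfl⟩
      rw [← map_pow, hA'e.2 a ha, map_one]
  have hAc : Nat.card A = p ^ 2 := by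
    rw [hAdef, Subgroup.card_map_of_injective (MulAut.conj k'⁻¹).injective, hA'c]
  have hAM : A ≤ M := hAE₁.trans hE₁.1
  have hApg : IsPGroup p A := IsPGroup.of_card hAc
  rw [hKdef] at hE₁
  obtain ⟨⟨hE₁N, hE₁X⟩, hNA, hXuniq⟩ := h18 M hM E₁ hE₁ p hpτ A ⟨hAE₁, hAe, hAc⟩
  obtain ⟨hSyl, hMstar⟩ := h17 M hM p hpτ A ⟨hAM, hAe, hAc⟩
  rw [← hKdef] at hXuniq hMstar
  -- the subgroup `X` of order `p` of `⟨x⟩`
  obtain ⟨x₀, hx₀def⟩ : ∃ x₀ : G, x₀ = x ^ (orderOf x / p) := ⟨_, rfl⟩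
  have hx₀ord : orderOf x₀ = p := by
    rw [hx₀def]; exact orderOf_pow_orderOf_div (orderOf_pos x).ne' hpd
  have hXcard : Nat.card (Subgroup.zpowers x₀) = p := by rw [Nat.card_zpowers, hx₀ord]
  have hXE₁ : Subgroup.zpowers x₀ ≤ E₁ := by
    rw [Subgroup.zpowers_le, hx₀def]; exact E₁.pow_mem hxE₁ _
  have hXA : Subgroup.zpowers x₀ ≤ A := hE₁X _ hXE₁ hXcard
  have hgx₀ : ∀ g : G, g * x = x * g → g * x₀ = x₀ * g := by
    intro g hg
    rw [hx₀def]
    exact ((Commute.pow_right (show Commute g x from hg) _)).eq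
  have hcentX : ∀ g : G, g * x = x * g → g ∈ Subgroup.centralizer ((Subgroup.zpowers x₀ : Subgroup G) : Set G) := by
    intro g hg
    rw [Subgroup.mem_centralizer_iff]
    intro z hz
    obtain ⟨i, rfl⟩ := Subgroup.mem_zpowers_iff.mp hz
    exact (commute_zpow_of_commute (hgx₀ g hg) i).symm
  have hKX : K ⊓ Subgroup.centralizer ((Subgroup.zpowers x₀ : Subgroup G) : Set G) ≠ ⊥ := by
    intro h
    have : y ∈ K ⊓ Subgroup.centralizer ((Subgroup.zpowers x₀ : Subgroup G) : Set G) :=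
      ⟨hyS, hcentX y hxy.symm⟩
    rw [h, Subgroup.mem_bot] at this
    exact hy1 this
  obtain ⟨hCXM, hCXu⟩ := hXuniq _ hXA hXcard hKX
  have hCxCX : Subgroup.centralizer ({x} : Set G) ≤
      Subgroup.centralizer ((Subgroup.zpowers x₀ : Subgroup G) : Set G) := by
    intro g hg
    apply hcentX
    exact (Subgroup.mem_centralizer_singleton_iff.mp hg)
  refine ⟨hCxCX.trans hCXM, ?_⟩
  -- `x` centralizes `A`
  have hxNA : x ∈ Subgroup.normalizer (A : Set G) := hE₁N hxE₁
  have hxA : ∀ a ∈ A, a * x = x * a := by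
    by_cases hS : ∀ S : Sylow p G, ¬ IsMulCommutative (S : Subgroup G)
    · -- nonabelian Sylow subgroups: `x` is a `p`-element
      have hτ2 := h19 M hM E₁ hE₁ p hpτ hS A ⟨hAE₁, hAe, hAc⟩
      have hxp : orderOf x = p ^ (orderOf x).primeFactorsList.length := by
        apply Nat.eq_prime_pow_of_unique_prime_dvd (orderOf_pos x).ne'
        intro d hd hdx
        have := hτ d hd hdx
        rw [hτ2] at this
        exact this
      have hZp : IsPGroup p (Subgroup.zpowers x) := by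
        apply IsPGroup.of_card (n := (orderOf x).primeFactorsList.length)
        rw [Nat.card_zpowers]; exact hxp
      have hQp : IsPGroup p (A ⊔ Subgroup.zpowers x : Subgroup G) :=
        IsPGroup.to_sup_of_normal_left' hApg hZp (Subgroup.zpowers_le.mpr hxNA)
      have hQM : A ⊔ Subgroup.zpowers x ≤ M := sup_le hAM hHM
      intro a ha
      exact comm_of_isPGroup_of_sylow_comm hQM hQp hSyl a (Subgroup.mem_sup_left ha) x
        (Subgroup.mem_sup_right (Subgroup.mem_zpowers x))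
    · push Not at hS
      by_contra hne
      push Not at hne
      obtain ⟨a₀, ha₀, hne⟩ := hne
      apply hNA
      -- `p`-elements of `N(A)` centralize `A`
      have hpel : ∀ t ∈ Subgroup.normalizer (A : Set G), (∃ j : ℕ, t ^ (p ^ j) = 1) →
          t ∈ Subgroup.centralizer (A : Set G) := by
        intro t ht ⟨j, hj⟩
        have hZp : IsPGroup p (Subgroup.zpowers t) := by
          obtain ⟨l, -, hl⟩ := (Nat.dvd_prime_pow hpp).mp (orderOf_dvd_of_pow_eq_one hj)
          apply IsPGroup.of_card (n := l)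
          rw [Nat.card_zpowers]; exact hl
        have hQp : IsPGroup p (A ⊔ Subgroup.zpowers t : Subgroup G) :=
          IsPGroup.to_sup_of_normal_left' hApg hZp (Subgroup.zpowers_le.mpr ht)
        have hc := comm_of_isPGroup_of_exists_sylow_comm hS hQp
        rw [Subgroup.mem_centralizer_iff]
        intro a ha
        exact hc a (Subgroup.mem_sup_left ha) t (Subgroup.mem_sup_right (Subgroup.mem_zpowers t))
      have hr : Cfsg.PRankLE p 2 ↥A := fun B _ _ =>
        (Subgroup.card_le_card_group B).trans_eq hAc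
      have hoddN : Odd (Nat.card ↥(Subgroup.normalizer (A : Set G))) := odd_card_subgroup hodd _
      have hNAab : ∀ n ∈ Subgroup.normalizer (A : Set G), ∀ w ∈ Subgroup.normalizer (A : Set G),
          ⁅n, w⁆ ∈ Subgroup.centralizer (A : Set G) := fun n hn w hw =>
        commutator_mem_centralizer_of_rank_two hp2 hApg hr hoddN hpel hn hw
      -- `C_A(x) = X`
      have hx₀A : x₀ ∈ A := hXA (Subgroup.mem_zpowers x₀)
      have hXCA : Subgroup.zpowers x₀ ≤ A ⊓ Subgroup.centralizer ({x} : Set G) := by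
        rw [Subgroup.zpowers_le]
        refine ⟨hx₀A, Subgroup.mem_centralizer_singleton_iff.mpr ?_⟩
        rw [hx₀def]
        exact ((Commute.pow_left (Commute.refl x) _)).eq
      have hCAcard : Nat.card ↥(A ⊓ Subgroup.centralizer ({x} : Set G)) = p := by
        have h1 : Nat.card ↥(A ⊓ Subgroup.centralizer ({x} : Set G)) ∣ p ^ 2 := by
          rw [← hAc]; exact Subgroup.card_dvd_of_le inf_le_left
        obtain ⟨l, hl2, hl⟩ := (Nat.dvd_prime_pow hpp).mp h1
        have h2 : p ∣ Nat.card ↥(A ⊓ Subgroup.centralizer ({x} : Set G)) := by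
          rw [← hXcard]; exact Subgroup.card_dvd_of_le hXCA
        have hl0 : l ≠ 0 := by
          rintro rfl
          rw [hl, pow_zero] at h2
          exact hpp.one_lt.ne' (Nat.dvd_one.mp h2)
        have hl2' : l ≠ 2 := by
          rintro rfl
          have h3 : A ⊓ Subgroup.centralizer ({x} : Set G) = A :=
            Subgroup.eq_of_le_of_card_ge inf_le_left (by rw [hl, hAc])
          have h4 : a₀ ∈ A ⊓ Subgroup.centralizer ({x} : Set G) := by rw [h3]; exact ha₀
          exact hne (Subgroup.mem_centralizer_singleton_iff.mp h4.2)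
        have : l = 1 := by omega
        rw [hl, this, pow_one]
      have hXeq : Subgroup.zpowers x₀ = A ⊓ Subgroup.centralizer ({x} : Set G) :=
        Subgroup.eq_of_le_of_card_ge hXCA (by rw [hCAcard, hXcard])
      -- `N(A)` normalizes `X`
      have hconj : ∀ n ∈ Subgroup.normalizer (A : Set G), ∀ z ∈ Subgroup.zpowers x₀,
          n * z * n⁻¹ ∈ Subgroup.zpowers x₀ := by
        intro n hn z hz
        have hzA : z ∈ A := hXA hz
        have hzx : z * x = x * z := by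
          have := hXCA hz
          exact Subgroup.mem_centralizer_singleton_iff.mp this.2
        have hc : ⁅x⁻¹, n⁻¹⁆ ∈ Subgroup.centralizer (A : Set G) :=
          hNAab _ (Subgroup.inv_mem _ hxNA) _ (Subgroup.inv_mem _ hn)
        have hzc : z * ⁅x⁻¹, n⁻¹⁆ = ⁅x⁻¹, n⁻¹⁆ * z :=
          Subgroup.mem_centralizer_iff.mp hc z hzA
        have e1 : n⁻¹ * x * n = x * ⁅x⁻¹, n⁻¹⁆ := by
          rw [commutatorElement_def]; group
        have h1 : z * (n⁻¹ * x * n) = (n⁻¹ * x * n) * z := by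
          rw [e1, ← mul_assoc, hzx, mul_assoc, hzc, ← mul_assoc]
        rw [hXeq]
        refine ⟨(Subgroup.mem_normalizer_iff.mp hn z).mp hzA,
          Subgroup.mem_centralizer_singleton_iff.mpr ?_⟩
        calc n * z * n⁻¹ * x = n * (z * (n⁻¹ * x * n)) * n⁻¹ := by group
          _ = n * ((n⁻¹ * x * n) * z) * n⁻¹ := by rw [h1]
          _ = x * (n * z * n⁻¹) := by group
      have hNAX : Subgroup.normalizer (A : Set G) ≤
          Subgroup.normalizer ((Subgroup.zpowers x₀ : Subgroup G) : Set G) := by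
        intro n hn
        rw [Subgroup.mem_normalizer_iff]
        intro z
        constructor
        · exact hconj n hn z
        · intro hz
          have := hconj n⁻¹ (Subgroup.inv_mem _ hn) _ hz
          have e2 : n⁻¹ * (n * z * n⁻¹) * n⁻¹⁻¹ = z := by group
          rwa [e2] at this
      -- `N(X) ≤ M`
      have hNXtop : Subgroup.normalizer ((Subgroup.zpowers x₀ : Subgroup G) : Set G) ≠ ⊤ := by
        intro h
        have hn : (Subgroup.zpowers x₀).Normal := Subgroup.normalizer_eq_top_iff.mp h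
        rcases hn.eq_bot_or_eq_top with h1 | h1
        · rw [h1, Subgroup.card_bot] at hXcard
          exact hpp.one_lt.ne hXcard
        · apply hM.1
          rw [eq_top_iff, ← h1]
          exact hXA.trans hAM
      obtain ⟨L, hL, hNL⟩ := Cfsg.Agent.Lib.Helper17.BGU.exists_coatom_ge hNXtop
      have hLM : L = M := hCXu L hL ((Subgroup.centralizer_le_normalizer _).trans hNL)
      rw [← hLM]
      exact hNAX.trans hNL
  intro L hL hCL
  by_contra hLM
  have hAL : A ≤ L := fun a ha => hCL (Subgroup.mem_centralizer_singleton_iff.mpr (hxA a ha))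
  have hbot := hMstar L hL hLM hAL
  have hyL : y ∈ K ⊓ L := ⟨hyS, hCL (Subgroup.mem_centralizer_singleton_iff.mpr hxy.symm)⟩
  rw [hbot, Subgroup.mem_bot] at hyL
  exact hy1 hyL


/-- **BG Corollary 12.10** in the form of statement S1420, from 12.4–12.7 (`H16`–`H19`). -/
theorem cor_12_10 (hG : Cfsg.IsMinSimpleOddOrder G) (h16 : H16 G) (h17 : H17 G) (h18 : H18 G)
    (h19 : H19 G) (M : Subgroup G) (hM : IsCoatom M) (E : Subgroup G)
    (hE : Cfsg.IsComplIn E (Cfsg.sigmaCore M) M) :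
    (∀ N : Subgroup G, N ≤ M → Group.IsNilpotent N →
        (∀ p : ℕ, p.Prime → p ∣ Nat.card N → p ∉ Cfsg.sigma M) → IsMulCommutative N) ∧
      IsMulCommutative ↥⁅E, E⁆ ∧
      (∀ (p : ℕ) (P : Subgroup G), p ∈ Cfsg.sigma M → IsPGroup p P → P ≤ M → ¬ IsCyclic P →
        Subgroup.normalizer (P : Set G) ≤ M) ∧
      ∀ x ∈ M, x ≠ 1 → (∀ p : ℕ, p.Prime → p ∣ orderOf x → p ∈ Cfsg.tau2 M) →
        x ∈ Cfsg.sigmaHat M →
        Subgroup.centralizer ({x} : Set G) ≤ M ∧
          ∀ L : Subgroup G, IsCoatom L → Subgroup.centralizer ({x} : Set G) ≤ L → L = M := by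
  refine ⟨fun N hNM hnil hσ => nilpotent_sigma'_comm hG h17 hM hNM hnil hσ, ?_,
    fun p P hp hP hPM hPc => normalizer_le_of_not_cyclic hG h16 hM hp hP hPM hPc,
    fun x hxM hx1 hτ hx => cent_tau2_elt_uniq hG h17 h18 h19 hM hE hxM hx1 hτ hx⟩
  have hnil := (Cfsg.Agent.S1415.result hG M hM E hE).1
  apply nilpotent_sigma'_comm hG h17 hM ((commutator_self_le E).trans hE.1) hnil
  intro p hp hd
  exact not_mem_sigma_of_dvd_compl hG hM hE hp
    (hd.trans (Subgroup.card_dvd_of_le (commutator_self_le E)))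

end

end Cfsg.Agent.Lib.Helper23.BGY
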