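/- helper23: B&G sec.11/12 — `Lemma T` (the S1395(d)+S1411 trick) and `Lemma X`
(notes/bg11/PROOF_11_7.md, PROOF_11_7_and_12_4.md): kills the case of a normal `E_{q²}` centralizing
`M_σ` in B&G 11.7 and closes the end of B&G 12.4(b). -/
import Mathlib
import Cfsg.Agent.S1350
import Cfsg.Agent.S1394
import Cfsg.Agent.S1395
import Cfsg.Agent.S1396
import Cfsg.Agent.S1405
import Cfsg.Agent.S1406
import Cfsg.Agent.Lib.Helper1.BGX6
import Cfsg.Agent.Lib.Helper4.ElemAb
import Cfsg.Agent.Lib.Helper24.BGTen3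
import Cfsg.Agent.Lib.Helper17.BGFitA
import Cfsg.Agent.Lib.Helper17.BGTrans3
import Cfsg.Agent.Lib.Helper17.BGUniqC
import Cfsg.Agent.Lib.Helper17.BGUniqD
import Cfsg.Agent.Lib.Helper23.BGY1
import Cfsg.Agent.Lib.Helper23.BGY2
import Cfsg.Agent.Lib.Helper17.BGUniqG
import Cfsg.Agent.Lib.Helper1.Commutator
import Cfsg.Agent.S1403
import Cfsg.Agent.S1410
import Cfsg.Agent.S1451

set_option autoImplicit false
open Cfsg

namespace Cfsg.Agent.Lib.Helper23.BGLemT

open Cfsg.Agent.Lib.Helper1.BGX Cfsg.Agent.Lib.Helper17 Cfsg.Agent.Lib.Helper17.BGU Cfsg.Agent.Lib.Helper4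
open Cfsg.Agent.Lib.Helper8 (mem_map_conj conj_mem_map_conj map_conj_map_conj map_conj_one
  map_conj_le_iff map_conj_eq_iff card_map_conj mem_normalizer_iff_map_conj sylow_smul_coe)

variable {G : Type*} [Group G]

/-- A maximal elementary abelian subgroup contains every element of order dividing `s` of its
centralizer. -/
theorem mem_of_maximal_elemAb {s : ℕ} {V : Subgroup G} (hVe : IsElementaryAbelian s V)
    (hmax : ∀ B : Subgroup G, IsElementaryAbelian s B → V ≤ B → B = V) :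
    ∀ x ∈ Subgroup.centralizer (V : Set G), x ^ s = 1 ↔ x ∈ V := by
  intro x hx
  refine ⟨fun hxs => ?_, fun h => hVe.2 x h⟩
  have hB : IsElementaryAbelian s (V ⊔ Subgroup.zpowers x) := by
    refine elemAb_sup hVe (elemAb_zpowers hxs) ?_
    intro a ha b hb
    obtain ⟨k, rfl⟩ := Subgroup.mem_zpowers_iff.mp hb
    have h1 : Commute x a := (Subgroup.mem_centralizer_iff.mp hx a ha).symm
    exact ((h1.zpow_left k).eq).symm
  have := hmax _ hB le_sup_left
  rw [← this]
  exact Subgroup.mem_sup_right (Subgroup.mem_zpowers x)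

/-- The transitivity hypothesis for an `E_{s²}`-subgroup of a maximal subgroup `M` with
`s ∉ σ(M)`. -/
theorem transHyp_of_elemAb_sq [Finite G] (hG : IsMinSimpleOddOrder G) {M : Subgroup G}
    (hM : IsCoatom M) {s : ℕ} [Fact s.Prime] (hsσ : s ∉ sigma M) {V : Subgroup G} (hVM : V ≤ M)
    (hVe : IsElementaryAbelian s V) (hVc : Nat.card V = s ^ 2) :
    TransitivityHypothesis V ∧
      (∀ x ∈ Subgroup.centralizer (V : Set G), x ^ s = 1 ↔ x ∈ V) := by
  have hU : UT G := fun K hK h2 h3 => Cfsg.Agent.S1403.result hG K hK h2 h3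
  have hmax : ∀ B : Subgroup G, IsElementaryAbelian s B → V ≤ B → B = V :=
    fun B hBe hVB => elemAb_sq_maximal hG hU hM hsσ hVM hVe hVc hBe hVB
  have hΩ := mem_of_maximal_elemAb hVe hmax
  have hsG : s ∣ Nat.card G := by
    have h1 : s ∣ Nat.card V := by rw [hVc]; exact dvd_pow_self s (by norm_num)
    exact h1.trans (Subgroup.card_subgroup_dvd_card V)
  exact ⟨Cfsg.Agent.S1396.result hG s hsG V (elemAb_isPGroup hVe) hVe.1
    (Or.inl ⟨hΩ, fun H hH => Cfsg.Agent.S1410.result hG s H hH⟩), hΩ⟩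

/-- A Sylow `s`-subgroup of `G` lying in the nilpotent derived subgroup of the maximal subgroup `M`
is normal in `M`, so `s ∈ σ(M)`. -/
theorem mem_sigma_of_sylow_le_nilpotent_commutator [Finite G] (hG : IsMinSimpleOddOrder G)
    {M : Subgroup G} (hM : IsCoatom M) {s : ℕ} [Fact s.Prime] (P : Sylow s G)
    (hP1 : (P : Subgroup G) ≠ ⊥)
    (hPD : (P : Subgroup G) ≤ ⁅M, M⁆) (hnil : Group.IsNilpotent ↥⁅M, M⁆) : s ∈ sigma M := by
  have hsimple : IsSimpleGroup G := hG.2.1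
  have hss : s.Prime := Fact.out
  set D : Subgroup G := ⁅M, M⁆ with hD
  have hDM : D ≤ M := Cfsg.Agent.Lib.Helper23.BGY.commutator_self_le M
  have hPM : (P : Subgroup G) ≤ M := hPD.trans hDM
  obtain ⟨k, hk⟩ := IsPGroup.iff_card.mp P.isPGroup'
  have hk0 : k ≠ 0 := by
    rintro rfl
    rw [pow_zero] at hk
    exact hP1 (Subgroup.card_eq_one.mp hk)
  have hsM : s ∣ Nat.card M := by
    have h1 : s ∣ Nat.card (P : Subgroup G) := by rw [hk]; exact dvd_pow_self s hk0
    exact h1.trans (Subgroup.card_dvd_of_le hPM)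
  -- `P ∩ D` is a normal subgroup of `D`
  have hcardsub : Nat.card ((P : Subgroup G).subgroupOf D) = s ^ k := by
    rw [← hk]
    exact Nat.card_congr (Subgroup.subgroupOfEquivOfLe hPD).toEquiv
  have hidx : ¬ s ∣ ((P : Subgroup G).subgroupOf D).index := by
    intro h
    have h1 : ((P : Subgroup G).subgroupOf D).index ∣ (P : Subgroup G).index :=
      Subgroup.relIndex_dvd_index_of_le hPD
    exact P.not_dvd_index (h.trans h1)
  have hcop : (Nat.card ((P : Subgroup G).subgroupOf D)).Coprime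
      ((P : Subgroup G).subgroupOf D).index := by
    rw [hcardsub]
    exact Nat.Coprime.pow_left k ((Nat.Prime.coprime_iff_not_dvd hss).mpr hidx)
  have hnorm : ((P : Subgroup G).subgroupOf D).Normal :=
    Cfsg.Agent.Lib.Helper23.BGY.normal_of_coprime_index_nilpotent _ hcop
  -- every `s`-element of `D` lies in `P`
  have hmem : ∀ y ∈ D, (∃ j : ℕ, y ^ s ^ j = 1) → y ∈ (P : Subgroup G) := by
    intro y hy ⟨j, hj⟩
    have hK : (Subgroup.zpowers (⟨y, hy⟩ : D)) ≤ (P : Subgroup G).subgroupOf D := by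
      apply Cfsg.Agent.Lib.Helper23.BGY.le_of_coprime_index_normal
      rw [Nat.card_zpowers]
      have h1 : orderOf (⟨y, hy⟩ : D) ∣ s ^ j := by
        apply orderOf_dvd_of_pow_eq_one
        exact Subtype.ext (by simpa using hj)
      obtain ⟨i, -, hi⟩ := (Nat.dvd_prime_pow hss).mp h1
      rw [hi]
      exact Nat.Coprime.pow_left i ((Nat.Prime.coprime_iff_not_dvd hss).mpr hidx)
    have := hK (Subgroup.mem_zpowers (⟨y, hy⟩ : D))
    exact Subgroup.mem_subgroupOf.mp this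
  have hMD : M ≤ Subgroup.normalizer ((D : Subgroup G) : Set G) :=
    Cfsg.Agent.Lib.Helper1.le_normalizer_commutator_left M M
  have hMN : M ≤ Subgroup.normalizer ((P : Subgroup G) : Set G) := by
    intro m hm
    rw [mem_normalizer_iff_map_conj]
    apply Cfsg.Agent.Lib.Helper8.map_conj_eq_of_le
    intro y hy
    rw [mem_map_conj] at hy
    -- `y = m x m⁻¹` with `x = m⁻¹ y m ∈ P`
    have hxD : m⁻¹ * y * m ∈ D := hPD hy
    have hyD : y ∈ D := by
      have h1 := (Subgroup.mem_normalizer_iff.mp (hMD hm) (m⁻¹ * y * m)).mp hxD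
      have e : m * (m⁻¹ * y * m) * m⁻¹ = y := by group
      rwa [e] at h1
    apply hmem y hyD
    obtain ⟨j, hj⟩ := (P.isPGroup' ⟨m⁻¹ * y * m, hy⟩)
    refine ⟨j, ?_⟩
    have h2 : (m⁻¹ * y * m) ^ s ^ j = 1 := by
      have := congrArg Subtype.val hj
      simpa using this
    have e : y = m * (m⁻¹ * y * m) * m⁻¹ := by group
    rw [e, conj_pow, h2, mul_one, mul_inv_cancel]
  have hNP : Subgroup.normalizer ((P : Subgroup G) : Set G) = M :=
    normalizer_eq_of_coatom hM hPM hP1 hMN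
  refine ⟨hss, hsM, P.subtype hPM, ?_⟩
  have e : ((P.subtype hPM : Sylow s M) : Subgroup M).map M.subtype = (P : Subgroup G) := by
    rw [Sylow.coe_subtype]
    exact Subgroup.map_subgroupOf_eq_of_le hPM
  rw [e, hNP]

/-- **Lemma T** (the `S1395(d)` + `S1411` trick). -/
theorem lemT [Finite G] (hG : IsMinSimpleOddOrder G) {M : Subgroup G} (hM : IsCoatom M)
    {s : ℕ} [Fact s.Prime] (hsσ : s ∉ sigma M)
    {V : Subgroup G} (hVM : V ≤ M) (hVe : IsElementaryAbelian s V) (hVc : Nat.card V = s ^ 2)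
    {r : ℕ} [Fact r.Prime] (hrs : r ≠ s) (R : Sylow r G) (hR1 : (R : Subgroup G) ≠ ⊥)
    (hRM : (R : Subgroup G) ≤ M) (hMR : M ≤ Subgroup.normalizer ((R : Subgroup G) : Set G))
    (hRV : V ≤ Subgroup.centralizer ((R : Subgroup G) : Set G))
    (hnil : Group.IsNilpotent ↥⁅M, M⁆) : False := by
  have hsimple : IsSimpleGroup G := hG.2.1
  have hnc := hG.2.2.1
  have hss : s.Prime := Fact.out
  have hrr : r.Prime := Fact.out
  obtain ⟨hVtr, hΩ⟩ := transHyp_of_elemAb_sq hG hM hsσ hVM hVe hVc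
  have hVp : IsPGroup s V := elemAb_isPGroup hVe
  have hNR : Subgroup.normalizer ((R : Subgroup G) : Set G) = M :=
    normalizer_eq_of_coatom hM hRM hR1 hMR
  -- `r ∤ |V|`, `r ∣ |C_G(V)|`
  have hrV : ¬ r ∣ Nat.card V := by
    rw [hVc]
    intro h
    exact hrs ((Nat.prime_dvd_prime_iff_eq hrr hss).mp (hrr.dvd_of_dvd_pow h))
  have hRC : (R : Subgroup G) ≤ Subgroup.centralizer (V : Set G) := by
    intro x hx
    rw [Subgroup.mem_centralizer_iff]
    intro v hv
    exact (Subgroup.mem_centralizer_iff.mp (hRV hv) x hx).symm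
  have hrC : r ∣ Nat.card (Subgroup.centralizer (V : Set G)) := by
    have h1 : r ∣ Nat.card (R : Subgroup G) := by
      obtain ⟨k, hk⟩ := IsPGroup.iff_card.mp R.isPGroup'
      rcases Nat.eq_zero_or_pos k with h0 | h0
      · exfalso
        rw [h0, pow_zero] at hk
        exact hR1 (Subgroup.card_eq_one.mp hk)
      · rw [hk]; exact dvd_pow_self r h0.ne'
    exact h1.trans (Subgroup.card_dvd_of_le hRC)
  have hZ : ¬ RankLE 1 ↥(V ⊓ Subgroup.centralizer (V : Set G)) := by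
    have hVV : V ⊓ Subgroup.centralizer (V : Set G) = V := by
      apply inf_eq_left.mpr
      intro x hx
      rw [Subgroup.mem_centralizer_iff]
      intro v hv
      exact elemAb_comm hVe v hv x hx
    rw [hVV]
    exact not_rankLE_one_of_sq_le hss hVe hVc.ge
  have htr := Cfsg.Agent.S1394.result hG V hVtr hZ r hrr hrV hrC
  -- a Sylow `s`-subgroup of `G` over `V`
  obtain ⟨P, hVP⟩ := hVp.exists_le_sylow
  have hPtop : (P : Subgroup G) ≠ ⊤ := Cfsg.Agent.Lib.Helper17.BGU.not_isPGroup_top_of_simple hnc P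
  have hPπ : ∀ t : ℕ, t.Prime → t ∣ Nat.card (P : Subgroup G) → t ∣ Nat.card V := by
    intro t ht hdvd
    obtain ⟨k, hk⟩ := IsPGroup.iff_card.mp P.isPGroup'
    rw [hk] at hdvd
    have : t = s := (Nat.prime_dvd_prime_iff_eq ht hss).mp (ht.dvd_of_dvd_pow hdvd)
    rw [this, hVc]; exact dvd_pow_self s (by norm_num)
  have hsn : (V.subgroupOf (P : Subgroup G)).IsSubnormal := by
    have : Group.IsNilpotent ↥(P : Subgroup G) := P.isPGroup'.isNilpotent
    exact isSubnormal_of_isNilpotent _ _ rfl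
  have h95 := Cfsg.Agent.S1395.result hG V hVtr r hrr hrV (P : Subgroup G) hPtop hPπ hVP hsn htr
  obtain ⟨Q1, hQ1, -⟩ := exists_maxInv_ge (bot_mem_invSubgroups (P : Subgroup G) {r})
  have hQ1V : Q1 ∈ maxInvSubgroups ⊤ V {r} := h95.2.2.1 hQ1
  have hd := (h95.2.2.2 Q1 hQ1).1
  -- `R` is a maximal `V`-invariant `r`-subgroup
  have hRinv : (R : Subgroup G) ∈ maxInvSubgroups ⊤ V {r} := by
    have hRin : (R : Subgroup G) ∈ invSubgroups ⊤ V {r} :=
      (mem_invq_iff hrr).mpr ⟨R.isPGroup', hRV.trans (Subgroup.centralizer_le_normalizer _)⟩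
    refine ⟨hRin, fun T hT hRT => ?_⟩
    exact (R.is_maximal' ((mem_invq_iff hrr).mp hT).1 hRT)
  obtain ⟨k, hk, hQ1R⟩ := htr (R : Subgroup G) hRinv Q1 hQ1V
  -- `N(Q1) = M^k`
  have hNQ1 : Subgroup.normalizer (Q1 : Set G) = M.map (MulAut.conj k).toMonoidHom := by
    rw [hQ1R, ← hNR]
    exact (Subgroup.map_equiv_normalizer_eq (R : Subgroup G) (MulAut.conj k)).symm
  have hPle : (P : Subgroup G) ≤ (⁅M, M⁆).map (MulAut.conj k).toMonoidHom := by
    have h1 : (P : Subgroup G) ≤ ⁅Subgroup.normalizer ((P : Subgroup G) : Set G),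
        Subgroup.normalizer ((P : Subgroup G) : Set G)⁆ := by
      have h : Cfsg.Agent.Lib.Helper24.BGTen.Hyp s G :=
        ⟨hG.2.1, hG.2.2.1, fun H hH => Cfsg.Agent.S1410.result hG s H hH⟩
      exact Cfsg.Agent.Lib.Helper24.BGTen.sylow_le_derived_normalizer h P
    have h2 := (le_inf le_rfl h1).trans hd
    rw [hNQ1, ← Subgroup.map_commutator] at h2
    exact h2
  -- conjugate back
  set P' : Sylow s G := k⁻¹ • P with hP'
  have hP'le : (P' : Subgroup G) ≤ ⁅M, M⁆ := by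
    rw [hP', sylow_smul_coe]
    rw [map_conj_le_iff, inv_inv]
    exact hPle
  have hcomm_le : ⁅M, M⁆ ≤ M := Cfsg.Agent.Lib.Helper23.BGY.commutator_self_le M
  have hP'1 : (P' : Subgroup G) ≠ ⊥ := by
    intro h
    have h1 : Nat.card (P' : Subgroup G) = 1 := by rw [h]; exact Subgroup.card_bot
    rw [hP', sylow_smul_coe, card_map_conj] at h1
    have h2 : Nat.card V ∣ Nat.card (P : Subgroup G) := Subgroup.card_dvd_of_le hVP
    rw [h1, hVc] at h2
    have h3 : 1 < s ^ 2 := Nat.one_lt_pow (by norm_num) hss.one_lt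
    have := Nat.le_of_dvd (by norm_num) h2
    omega
  exact hsσ (mem_sigma_of_sylow_le_nilpotent_commutator hG hM P' hP'1 hP'le hnil)

/-- If `M_α ≠ 1` then `M_α` contains an elementary abelian subgroup of order `> t ^ 2` for some
prime `t`. -/
theorem exists_elemAb_cube_alphaCore [Finite G] (hG : IsMinSimpleOddOrder G) {M : Subgroup G}
    (hM : IsCoatom M) (hα : alphaCore M ≠ ⊥) :
    ∃ t : ℕ, t.Prime ∧ ∃ E : Subgroup G, E ≤ alphaCore M ∧ (∀ a ∈ E, ∀ b ∈ E, a * b = b * a) ∧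
      (∀ a ∈ E, a ^ t = 1) ∧ t ^ 2 < Nat.card E := by
  have hU : UT G := fun K hK h2 h3 => Cfsg.Agent.S1403.result hG K hK h2 h3
  obtain ⟨hHall, -, -, -, -⟩ := malpha hG hU hM
  have hcard : Nat.card (alphaCore M) ≠ 1 := fun h => hα (Subgroup.card_eq_one.mp h)
  obtain ⟨t, ht, htd⟩ := Nat.exists_prime_and_dvd hcard
  have htα : t ∈ alpha M := hHall.2.1 t ht htd
  have hidx : ¬ t ∣ (piCore (alpha M) ↥M).index := by
    rw [← alphaCore_relIndex]; exact hHall.2.2 t ht htα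
  obtain ⟨E, hEM, hEc, hEe, hEcard⟩ := exists_elemAb_of_not_pRankLE htα.2
  refine ⟨t, ht, E, ?_, hEc, hEe, hEcard⟩
  have : Fact t.Prime := ⟨ht⟩
  have hEp : IsPGroup t E := elemAb_isPGroup (elemAb_of_comm hEc hEe)
  obtain ⟨k, hk⟩ := IsPGroup.iff_card.mp hEp
  have hsub : E.subgroupOf M ≤ piCore (alpha M) ↥M := by
    apply Cfsg.Agent.Lib.Helper23.BGY.le_of_coprime_index_normal
    rw [Cfsg.Agent.Lib.Helper1.card_subgroupOf_of_le hEM, hk]
    exact Nat.Coprime.pow_left k ((Nat.Prime.coprime_iff_not_dvd ht).mpr hidx)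
  intro x hx
  exact ⟨⟨x, hEM hx⟩, hsub (Subgroup.mem_subgroupOf.mpr hx), rfl⟩

/-- If `M_α = 1` then `M` has rank at most 2, `M'` is nilpotent, and some prime `ℓ ∈ σ(M)` has a
Sylow `ℓ`-subgroup of `G` that is a nontrivial normal subgroup of `M` contained in `M_σ`. -/
theorem exists_normal_sylow_of_alphaCore_eq_bot [Finite G] (hG : IsMinSimpleOddOrder G)
    {M : Subgroup G} (hM : IsCoatom M) (hα : alphaCore M = ⊥) :
    Group.IsNilpotent ↥⁅M, M⁆ ∧ ∃ (ℓ : ℕ) (_ : Fact ℓ.Prime) (R : Sylow ℓ G), ℓ ∈ sigma M ∧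
      (R : Subgroup G) ≠ ⊥ ∧ (R : Subgroup G) ≤ sigmaCore M ∧
      M ≤ Subgroup.normalizer ((R : Subgroup G) : Set G) := by
  have hsimple : IsSimpleGroup G := hG.2.1
  have hU : UT G := fun K hK h2 h3 => Cfsg.Agent.S1403.result hG K hK h2 h3
  obtain ⟨hHall, -, -, -, hnilq⟩ := malpha hG hU hM
  have hsol : Group.IsSolvable ↥M := hG.2.2.2 M hM.1
  have hodd : Odd (Nat.card ↥M) := odd_card_subgroup hG.1 M
  have hπ : piCore (alpha M) ↥M = ⊥ := by
    have h1 : (piCore (alpha M) ↥M).map M.subtype = ⊥ := hα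
    exact (Subgroup.map_eq_bot_iff_of_injective _ M.subtype_injective).mp h1
  -- rank at most 2
  have hr2 : RankLE 2 ↥M := by
    intro t ht
    by_contra hcon
    have htα : t ∈ alpha M := ⟨ht, hcon⟩
    have h1 := hHall.2.2 t ht htα
    rw [alphaCore_relIndex, hπ, Subgroup.index_bot] at h1
    obtain ⟨E, hEM, hEc, hEe, hEcard⟩ := exists_elemAb_of_not_pRankLE hcon
    have : Fact t.Prime := ⟨ht⟩
    have hEp : IsPGroup t E := elemAb_isPGroup (elemAb_of_comm hEc hEe)
    obtain ⟨k, hk⟩ := IsPGroup.iff_card.mp hEp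
    have hk0 : k ≠ 0 := by
      rintro rfl
      rw [pow_zero] at hk
      rw [hk] at hEcard
      have := Nat.one_lt_pow (n := 2) (by norm_num) ht.one_lt
      omega
    apply h1
    have h2 : t ∣ Nat.card E := by rw [hk]; exact dvd_pow_self t hk0
    exact h2.trans (Subgroup.card_dvd_of_le hEM)
  obtain ⟨hnil', -, htower⟩ := Cfsg.Agent.S1451.result (G := ↥M) hodd (Or.inl hr2)
  -- `M'` nilpotent
  have hnil : Group.IsNilpotent ↥⁅M, M⁆ := by
    have e : (commutator ↥M).map M.subtype = ⁅M, M⁆ := Subgroup.map_subtype_commutator M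
    rw [← e]
    exact Group.nilpotent_of_mulEquiv
      ((commutator ↥M).equivMapOfInjective M.subtype M.subtype_injective)
  refine ⟨hnil, ?_⟩
  -- the largest prime divisor of `|M|`
  have hM1 : Nat.card ↥M ≠ 1 := by
    intro h
    have hMbot : M = ⊥ := Subgroup.card_eq_one.mp h
    -- a maximal subgroup of a nonabelian simple group is nontrivial
    obtain ⟨x, hx⟩ : ∃ x : G, x ≠ 1 := by
      by_contra hcon
      push Not at hcon
      apply hG.2.2.1
      exact ⟨⟨fun a b => by rw [hcon a, hcon b]⟩⟩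
    have hz : Subgroup.zpowers x ≠ ⊤ := by
      intro htop
      apply hG.2.2.1
      refine ⟨⟨fun a b => ?_⟩⟩
      have ha : a ∈ Subgroup.zpowers x := htop ▸ Subgroup.mem_top a
      have hb : b ∈ Subgroup.zpowers x := htop ▸ Subgroup.mem_top b
      obtain ⟨i, rfl⟩ := Subgroup.mem_zpowers_iff.mp ha
      obtain ⟨j, rfl⟩ := Subgroup.mem_zpowers_iff.mp hb
      rw [← zpow_add, ← zpow_add, add_comm]
    have h1 : (⊥ : Subgroup G) < Subgroup.zpowers x := by
      rw [bot_lt_iff_ne_bot]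
      intro hb
      exact hx (Subgroup.zpowers_eq_bot.mp hb)
    have := hM.2 (Subgroup.zpowers x) (hMbot ▸ h1)
    exact hz this
  classical
  set S : Finset ℕ := (Nat.card ↥M).primeFactors with hS
  have hSne : S.Nonempty := by
    obtain ⟨t, ht, htd⟩ := Nat.exists_prime_and_dvd hM1
    exact ⟨t, Nat.mem_primeFactors.mpr ⟨ht, htd, Nat.card_pos.ne'⟩⟩
  set ℓ := S.max' hSne with hℓ
  have hℓmem : ℓ ∈ S := Finset.max'_mem S hSne
  obtain ⟨hℓp, hℓd, -⟩ := Nat.mem_primeFactors.mp hℓmem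
  have hF : Fact ℓ.Prime := ⟨hℓp⟩
  obtain ⟨N, hNchar, hNhall⟩ := htower (ℓ - 1)
  have hNn : N.Normal := inferInstance
  -- `N` is an `ℓ`-group of index prime to `ℓ`
  have hNp : ∀ t : ℕ, t.Prime → t ∣ Nat.card N → t = ℓ := by
    intro t ht htd
    have h1 := hNhall.1 t ht htd
    have h2 : ℓ ≤ t := by have := h1.2; omega
    have h3 : t ∈ S := Nat.mem_primeFactors.mpr
      ⟨ht, htd.trans (Subgroup.card_subgroup_dvd_card N), Nat.card_pos.ne'⟩
    exact le_antisymm (Finset.le_max' S t h3) h2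
  have hNidx : ¬ ℓ ∣ N.index := hNhall.2 ℓ hℓp ⟨hℓp, Nat.sub_lt hℓp.pos one_pos⟩
  have hNpg : IsPGroup ℓ N := by
    have h1 : Nat.card N = ℓ ^ (Nat.card N).primeFactorsList.length :=
      Nat.eq_prime_pow_of_unique_prime_dvd Nat.card_pos.ne' (fun {d} hd hdvd => hNp d hd hdvd)
    exact IsPGroup.of_card h1
  have hN1 : N ≠ ⊥ := by
    intro h
    apply hNidx
    rw [h, Subgroup.index_bot]
    exact hℓd
  set R₀ : Subgroup G := N.map M.subtype with hR₀
  have hR₀M : R₀ ≤ M := Subgroup.map_subtype_le _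
  have hR₀1 : R₀ ≠ ⊥ := by
    intro h
    exact hN1 ((Subgroup.map_eq_bot_iff_of_injective _ M.subtype_injective).mp h)
  have hR₀p : IsPGroup ℓ R₀ := hNpg.map _
  have hMR₀ : M ≤ Subgroup.normalizer ((R₀ : Subgroup G) : Set G) :=
    Cfsg.Agent.Lib.Helper23.BGY.le_normalizer_map_subtype M N
  have hNR₀ : Subgroup.normalizer ((R₀ : Subgroup G) : Set G) = M :=
    normalizer_eq_of_coatom hM hR₀M hR₀1 hMR₀
  -- every `ℓ`-subgroup of `M` lies in `R₀`
  have hall : ∀ T : Subgroup G, T ≤ M → IsPGroup ℓ T → T ≤ R₀ := by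
    intro T hTM hT
    obtain ⟨k, hk⟩ := IsPGroup.iff_card.mp hT
    have hsub : T.subgroupOf M ≤ N := by
      apply Cfsg.Agent.Lib.Helper23.BGY.le_of_coprime_index_normal
      rw [Cfsg.Agent.Lib.Helper1.card_subgroupOf_of_le hTM, hk]
      exact Nat.Coprime.pow_left k ((Nat.Prime.coprime_iff_not_dvd hℓp).mpr hNidx)
    intro x hx
    exact ⟨⟨x, hTM hx⟩, hsub (Subgroup.mem_subgroupOf.mpr hx), rfl⟩
  -- `R₀` is a Sylow subgroup of `G`
  obtain ⟨R, hR₀R⟩ := hR₀p.exists_le_sylow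
  have hRR₀ : (R : Subgroup G) = R₀ := by
    rcases eq_or_lt_of_le hR₀R with h | h
    · exact h.symm
    · exfalso
      have h1 := lt_inf_normalizer R.isPGroup' h
      rw [hNR₀] at h1
      have h2 : (R : Subgroup G) ⊓ M ≤ R₀ := hall _ inf_le_right (R.isPGroup'.to_le inf_le_left)
      exact absurd h1 (not_lt_of_ge h2)
  have hRM : (R : Subgroup G) ≤ M := hRR₀ ▸ hR₀M
  have hσ : ℓ ∈ sigma M := by
    refine ⟨hℓp, hℓd, R.subtype hRM, ?_⟩
    have e : ((R.subtype hRM : Sylow ℓ M) : Subgroup M).map M.subtype = (R : Subgroup G) := by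
      rw [Sylow.coe_subtype]
      exact Subgroup.map_subgroupOf_eq_of_le hRM
    rw [e, hRR₀, hNR₀]
  refine ⟨ℓ, hF, R, hσ, hRR₀ ▸ hR₀1, ?_, hRR₀ ▸ hMR₀⟩
  rw [hRR₀]
  -- `R₀ ≤ M_σ`
  have hle : N ≤ piCore (sigma M) ↥M := by
    apply le_sSup
    refine ⟨hNn, fun t ht htd => ?_⟩
    rw [hNp t ht htd]; exact hσ
  exact Subgroup.map_mono hle

/-- **Lemma X.**  If `q ∉ σ(M)` and an `E_{q²}`-subgroup `B` of `M` centralizes `M_σ`, then some
subgroup `B₀` of order `q` of `B` has `M` as the unique maximal subgroup over `N_G(B₀)`. -/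
theorem lemX [Finite G] (hG : IsMinSimpleOddOrder G) {M : Subgroup G} (hM : IsCoatom M)
    {q : ℕ} [Fact q.Prime] (hqσ : q ∉ sigma M) {B : Subgroup G} (hBM : B ≤ M)
    (hBe : IsElementaryAbelian q B) (hBc : Nat.card B = q ^ 2)
    (hcent : B ≤ Subgroup.centralizer (sigmaCore M : Set G)) :
    ∃ B₀ : Subgroup G, B₀ ≤ B ∧ Nat.card B₀ = q ∧
      (Subgroup.normalizer (B₀ : Set G) ≤ M ∧
        ∀ L : Subgroup G, IsCoatom L → Subgroup.normalizer (B₀ : Set G) ≤ L → L = M) := by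
  have hsimple : IsSimpleGroup G := hG.2.1
  have hqq : q.Prime := Fact.out
  have hU : UT G := fun K hK h2 h3 => Cfsg.Agent.S1403.result hG K hK h2 h3
  -- a subgroup of order `q` of `B`
  have hqB : q ∣ Nat.card B := by rw [hBc]; exact dvd_pow_self q (by norm_num)
  obtain ⟨b, hb⟩ := exists_prime_orderOf_dvd_card' q hqB
  set B₀ : Subgroup G := Subgroup.zpowers (b : G) with hB₀
  have hB₀B : B₀ ≤ B := by rw [hB₀, Subgroup.zpowers_le]; exact b.2
  have hB₀c : Nat.card B₀ = q := by rw [hB₀, Nat.card_zpowers, Subgroup.orderOf_coe]; exact hb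
  by_cases hα : alphaCore M = ⊥
  · -- Lemma T
    exfalso
    obtain ⟨hnil, ℓ, hF, R, hσ, hR1, hRσ, hMR⟩ := exists_normal_sylow_of_alphaCore_eq_bot hG hM hα
    have hℓq : ℓ ≠ q := fun h => hqσ (h ▸ hσ)
    have hRM : (R : Subgroup G) ≤ M := hRσ.trans (Subgroup.map_subtype_le _)
    refine lemT hG hM hqσ hBM hBe hBc hℓq R hR1 hRM hMR ?_ hnil
    exact hcent.trans (Subgroup.centralizer_le hRσ)
  · -- `C_M(B)` is a uniqueness subgroup
    obtain ⟨hHall, -, hασ, -, -⟩ := malpha hG hU hM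
    obtain ⟨t, ht, E, hEα, hEc, hEe, hEcard⟩ := exists_elemAb_cube_alphaCore hG hM hα
    have hqα : q ∉ alpha M := fun h => hqσ (alpha_subset_sigma hG hU hM h)
    have hBα : ∀ p : ℕ, p.Prime → p ∣ Nat.card B → p ∉ alpha M := by
      intro p hp hd
      rw [hBc] at hd
      rw [(Nat.prime_dvd_prime_iff_eq hp hqq).mp (hp.dvd_of_dvd_pow hd)]
      exact hqα
    have hEC : E ≤ alphaCore M ⊓ Subgroup.centralizer (B : Set G) := by
      refine le_inf hEα ?_
      intro e he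
      rw [Subgroup.mem_centralizer_iff]
      intro x hx
      exact (Subgroup.mem_centralizer_iff.mp (hcent hx) e (hασ (hEα he))).symm
    have hr : ¬ RankLE 1 ↥(alphaCore M ⊓ Subgroup.centralizer (B : Set G)) := by
      apply not_rankLE_one_of_elemAb ht hEC hEc hEe
      have : t < t ^ 2 := by
        have := ht.one_lt
        nlinarith
      omega
    obtain ⟨L₀, ⟨hL₀, hKL₀⟩, hLu⟩ := Cfsg.Agent.S1406.result hG M hM B hBM hBα hr
    have hML₀ : M = L₀ := hLu M ⟨hM, inf_le_left⟩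
    have hB₀1 : B₀ ≠ ⊥ := by
      intro h
      rw [h, Subgroup.card_bot] at hB₀c
      exact hqq.one_lt.ne hB₀c
    have hB₀top : B₀ ≠ ⊤ := fun h => hM.1 (top_le_iff.mp (h ▸ hB₀B.trans hBM))
    have hCN : M ⊓ Subgroup.centralizer (B : Set G) ≤ Subgroup.normalizer (B₀ : Set G) :=
      inf_le_right.trans ((Subgroup.centralizer_le hB₀B).trans
        (Subgroup.centralizer_le_normalizer _))
    have huniq : ∀ L : Subgroup G, IsCoatom L → Subgroup.normalizer (B₀ : Set G) ≤ L → L = M := by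
      intro L hL hNL
      rw [hML₀]; exact hLu L ⟨hL, hCN.trans hNL⟩
    obtain ⟨L₁, hL₁, hNL₁⟩ := exists_coatom_ge (normalizer_ne_top hB₀1 hB₀top)
    have hL₁M := huniq L₁ hL₁ hNL₁
    exact ⟨B₀, hB₀B, hB₀c, hL₁M ▸ hNL₁, huniq⟩

/-- Form used for B&G 12.4(b): if `p ∉ σ(M)`, `A ≤ M` is elementary abelian of order `p²`
centralizing `M_σ`, then it is impossible that every subgroup `A₀` of order `p` of `A` fails to have
`M` as the unique maximal subgroup over `N_G(A₀)`. -/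
theorem false_of_forall_not_unique [Finite G] (hG : IsMinSimpleOddOrder G) {M : Subgroup G}
    (hM : IsCoatom M) {p : ℕ} [Fact p.Prime] (hpσ : p ∉ sigma M) {A : Subgroup G} (hAM : A ≤ M)
    (hAe : IsElementaryAbelian p A) (hAc : Nat.card A = p ^ 2)
    (hcent : A ≤ Subgroup.centralizer (sigmaCore M : Set G))
    (hall : ∀ A₀ : Subgroup G, A₀ ≤ A → Nat.card A₀ = p →
      ¬ (Subgroup.normalizer (A₀ : Set G) ≤ M ∧
        ∀ L : Subgroup G, IsCoatom L → Subgroup.normalizer (A₀ : Set G) ≤ L → L = M)) : False := by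
  obtain ⟨A₀, hA₀A, hA₀c, h⟩ := lemX hG hM hpσ hAM hAe hAc hcent
  exact hall A₀ hA₀A hA₀c h

end Cfsg.Agent.Lib.Helper23.BGLemT
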