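/- helper23: B&G Proposition 12.4 (statement S1416), from B&G 12.3(a),(b) given as hypotheses
(`T123a`, `T123b`). -/
import Mathlib
import Cfsg.Agent.Lib.Helper23.BGLemT
import Cfsg.Agent.Lib.Helper24.BGBeta4
import Cfsg.Agent.Lib.Helper8.Factorization
import Cfsg.Agent.Lib.Helper9.FStar4
import Cfsg.Agent.Lib.Helper17.BGUniqE
import Cfsg.Agent.Lib.Helper19.BG123

set_option autoImplicit false
open Cfsg

namespace Cfsg.Agent.Lib.Helper23.BG124

open Cfsg.Agent.Lib.Helper1.BGX Cfsg.Agent.Lib.Helper17 Cfsg.Agent.Lib.Helper17.BGU Cfsg.Agent.Lib.Helper4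
open Cfsg.Agent.Lib.Helper8 (mem_map_conj conj_mem_map_conj map_conj_map_conj map_conj_one
  map_conj_le_iff map_conj_eq_iff card_map_conj mem_normalizer_iff_map_conj sylow_smul_coe)
open Cfsg.Agent.Lib.Helper23.BGLemT

variable {G : Type*} [Group G]

/-- B&G 12.3(a), as a hypothesis. -/
def T123a (G : Type*) [Group G] (p : ℕ) : Prop :=
  ∀ (M H : Subgroup G), IsCoatom M → IsCoatom H → M ≠ H → ∀
    (A A₀ : Subgroup G), A ≤ M → A ≤ H → IsElementaryAbelian p A → Nat.card A = p ^ 2 → A₀ ≤ A →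
    Nat.card A₀ = p → Subgroup.normalizer (A₀ : Set G) ≤ H → p ∉ sigma M →
    sigmaCore M ⊓ H ≤ Subgroup.centralizer (A : Set G)

/-- B&G 12.3(b), as a hypothesis. -/
def T123b (G : Type*) [Group G] (p : ℕ) : Prop :=
  ∀ (M H : Subgroup G), IsCoatom M → IsCoatom H → M ≠ H → ∀
    (A A₀ : Subgroup G), A ≤ M → A ≤ H → IsElementaryAbelian p A → Nat.card A = p ^ 2 → A₀ ≤ A →
    Nat.card A₀ = p → Subgroup.normalizer (A₀ : Set G) ≤ H → p ∉ alpha M →
    alphaCore M ⊓ H ≤ Subgroup.centralizer (A : Set G)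

/-- If `M` has `p`-rank at most 2 and `A ≤ M` is `E_{p²}`, every element of order dividing `p` of
`C_M(A)` lies in `A`. -/
theorem mem_of_pRankLE_two [Finite G] {M A : Subgroup G} {p : ℕ} (hr : PRankLE p 2 ↥M)
    (hAM : A ≤ M) (hAe : IsElementaryAbelian p A) (hAc : Nat.card A = p ^ 2) :
    ∀ x ∈ M, x ∈ Subgroup.centralizer (A : Set G) → x ^ p = 1 → x ∈ A := by
  intro x hxM hxC hxp
  have hB : IsElementaryAbelian p (A ⊔ Subgroup.zpowers x) := by
    refine elemAb_sup hAe (elemAb_zpowers hxp) ?_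
    intro a ha b hb
    obtain ⟨k, rfl⟩ := Subgroup.mem_zpowers_iff.mp hb
    have h1 : Commute x a := (Subgroup.mem_centralizer_iff.mp hxC a ha).symm
    exact ((h1.zpow_left k).eq).symm
  have hBM : A ⊔ Subgroup.zpowers x ≤ M :=
    sup_le hAM (by rw [Subgroup.zpowers_le]; exact hxM)
  have hcard : Nat.card ↥(A ⊔ Subgroup.zpowers x) ≤ p ^ 2 := by
    by_contra hlt
    push Not at hlt
    exact not_pRankLE_of_elemAb hBM (elemAb_comm hB) hB.2 hlt hr
  have heq : A = A ⊔ Subgroup.zpowers x :=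
    Subgroup.eq_of_le_of_card_ge le_sup_left (by rw [hAc]; exact hcard)
  rw [heq]
  exact Subgroup.mem_sup_right (Subgroup.mem_zpowers x)

/-- If a uniqueness subgroup `K ≤ M` normalizes `A₀ ≠ 1`, then `M` is the unique maximal subgroup
over `N_G(A₀)`. -/
theorem point_unique_of_inUniqueMaximal [Finite G] [IsSimpleGroup G] {M K A₀ : Subgroup G}
    (hM : IsCoatom M) (hKM : K ≤ M) (hK : InUniqueMaximal K) (hA₀1 : A₀ ≠ ⊥) (hA₀M : A₀ ≤ M)
    (hKN : K ≤ Subgroup.normalizer (A₀ : Set G)) :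
    Subgroup.normalizer (A₀ : Set G) ≤ M ∧
      ∀ L : Subgroup G, IsCoatom L → Subgroup.normalizer (A₀ : Set G) ≤ L → L = M := by
  obtain ⟨L₀, ⟨hL₀, hKL₀⟩, hLu⟩ := hK
  have hML₀ : M = L₀ := hLu M ⟨hM, hKM⟩
  have hA₀top : A₀ ≠ ⊤ := fun h => hM.1 (top_le_iff.mp (h ▸ hA₀M))
  have huniq : ∀ L : Subgroup G, IsCoatom L → Subgroup.normalizer (A₀ : Set G) ≤ L → L = M := by
    intro L hL hNL
    rw [hML₀]; exact hLu L ⟨hL, hKN.trans hNL⟩
  obtain ⟨L₁, hL₁, hNL₁⟩ := exists_coatom_ge (normalizer_ne_top hA₀1 hA₀top)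
  have hL₁M := huniq L₁ hL₁ hNL₁
  exact ⟨hL₁M ▸ hNL₁, huniq⟩

/-- A subgroup of order `p` of a group of order `p²`. -/
theorem exists_point [Finite G] {p : ℕ} [Fact p.Prime] {A : Subgroup G}
    (hAc : Nat.card A = p ^ 2) : ∃ A₀ : Subgroup G, A₀ ≤ A ∧ Nat.card A₀ = p := by
  have hpA : p ∣ Nat.card A := by rw [hAc]; exact dvd_pow_self p (by norm_num)
  obtain ⟨b, hb⟩ := exists_prime_orderOf_dvd_card' p hpA
  refine ⟨Subgroup.zpowers (b : G), ?_, ?_⟩
  · rw [Subgroup.zpowers_le]; exact b.2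
  · rw [Nat.card_zpowers, Subgroup.orderOf_coe]; exact hb

theorem card_zpowers_of_mem {p : ℕ} (hp : p.Prime) {A : Subgroup G}
    (hAe : IsElementaryAbelian p A) {a : G} (ha : a ∈ A) (ha1 : a ≠ 1) :
    Nat.card (Subgroup.zpowers a) = p := by
  rw [Nat.card_zpowers]
  have h1 : orderOf a ∣ p := orderOf_dvd_of_pow_eq_one (hAe.2 a ha)
  rcases (Nat.dvd_prime hp).mp h1 with h | h
  · exact absurd (orderOf_eq_one_iff.mp h) ha1
  · exact h

theorem ne_bot_of_card_prime {p : ℕ} (hp : p.Prime) {A₀ : Subgroup G} (h : Nat.card A₀ = p) :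
    A₀ ≠ ⊥ := by
  intro h0
  rw [h0, Subgroup.card_bot] at h
  exact hp.one_lt.ne h

theorem le_centralizer_of_le_elemAb {p : ℕ} {A A₀ : Subgroup G} (hAe : IsElementaryAbelian p A)
    (hA₀ : A₀ ≤ A) : A ≤ Subgroup.centralizer (A₀ : Set G) := by
  intro a ha
  rw [Subgroup.mem_centralizer_iff]
  intro x hx
  exact elemAb_comm hAe x (hA₀ hx) a ha

theorem le_normalizer_of_le_elemAb {p : ℕ} {A A₀ : Subgroup G} (hAe : IsElementaryAbelian p A)
    (hA₀ : A₀ ≤ A) : A ≤ Subgroup.normalizer (A₀ : Set G) :=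
  (le_centralizer_of_le_elemAb hAe hA₀).trans (Subgroup.centralizer_le_normalizer _)

/-- If `M` is not the unique maximal subgroup over `N_G(A₀)`, there is another one. -/
theorem exists_other_coatom [Finite G] [IsSimpleGroup G] {M A A₀ : Subgroup G} (hM : IsCoatom M)
    {p : ℕ} (hp : p.Prime) (hAM : A ≤ M) (hAe : IsElementaryAbelian p A) (hA₀ : A₀ ≤ A)
    (hA₀c : Nat.card A₀ = p)
    (hnot : ¬ (Subgroup.normalizer (A₀ : Set G) ≤ M ∧
      ∀ L : Subgroup G, IsCoatom L → Subgroup.normalizer (A₀ : Set G) ≤ L → L = M)) :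
    ∃ H : Subgroup G, IsCoatom H ∧ M ≠ H ∧ Subgroup.normalizer (A₀ : Set G) ≤ H ∧ A ≤ H := by
  have hA₀1 : A₀ ≠ ⊥ := ne_bot_of_card_prime hp hA₀c
  have hA₀top : A₀ ≠ ⊤ := fun h => hM.1 (top_le_iff.mp (h ▸ hA₀.trans hAM))
  have hAN := le_normalizer_of_le_elemAb hAe hA₀
  by_cases hN : Subgroup.normalizer (A₀ : Set G) ≤ M
  · have h2 : ¬ ∀ L : Subgroup G, IsCoatom L → Subgroup.normalizer (A₀ : Set G) ≤ L → L = M :=
      fun h => hnot ⟨hN, h⟩
    push Not at h2
    obtain ⟨L, hL, hNL, hLM⟩ := h2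
    exact ⟨L, hL, fun h => hLM h.symm, hNL, hAN.trans hNL⟩
  · obtain ⟨L, hL, hNL⟩ := exists_coatom_ge (normalizer_ne_top hA₀1 hA₀top)
    exact ⟨L, hL, fun h => hN (h ▸ hNL), hNL, hAN.trans hNL⟩

/-- An element of order `p` in the centre of a nontrivial `p`-subgroup. -/
theorem exists_central_order_p [Finite G] {p : ℕ} [Fact p.Prime] {S : Subgroup G}
    (hS : IsPGroup p S) (hS1 : S ≠ ⊥) :
    ∃ z : G, z ∈ S ∧ z ∈ Subgroup.centralizer (S : Set G) ∧ orderOf z = p := by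
  have hSnt : Nontrivial ↥S := (Subgroup.nontrivial_iff_ne_bot S).mpr hS1
  have hcnt : Nontrivial ↥(Subgroup.center ↥S) := hS.center_nontrivial
  have hcp : IsPGroup p ↥(Subgroup.center ↥S) := hS.to_subgroup _
  have hdvd : p ∣ Nat.card ↥(Subgroup.center ↥S) := by
    obtain ⟨k, hk⟩ := IsPGroup.iff_card.mp hcp
    rw [hk]
    apply dvd_pow_self
    rintro rfl
    rw [pow_zero] at hk
    have := Finite.one_lt_card_iff_nontrivial.mpr hcnt
    omega
  obtain ⟨c, hc⟩ := exists_prime_orderOf_dvd_card' p hdvd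
  refine ⟨((c : ↥S) : G), (c : ↥S).2, ?_, ?_⟩
  · rw [Subgroup.mem_centralizer_iff]
    intro s hs
    have := Subgroup.mem_center_iff.mp c.2 ⟨s, hs⟩
    exact congrArg Subtype.val this
  · rw [Subgroup.orderOf_coe, Subgroup.orderOf_coe]; exact hc

/-- Under the hypothesis that no point of `A` is "unique", `p ∉ α(M)`. -/
theorem not_mem_alpha_of_forall_not_unique [Finite G] (hG : IsMinSimpleOddOrder G)
    {M : Subgroup G} (hM : IsCoatom M) {p : ℕ} [Fact p.Prime] {A : Subgroup G} (hAM : A ≤ M)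
    (hAe : IsElementaryAbelian p A) (hAc : Nat.card A = p ^ 2)
    (hall : ∀ A₀ : Subgroup G, A₀ ≤ A → Nat.card A₀ = p →
      ¬ (Subgroup.normalizer (A₀ : Set G) ≤ M ∧
        ∀ L : Subgroup G, IsCoatom L → Subgroup.normalizer (A₀ : Set G) ≤ L → L = M)) :
    p ∉ alpha M := by
  intro hα
  have hsimple : IsSimpleGroup G := hG.2.1
  have hpp : p.Prime := Fact.out
  have hU : UT G := fun K hK h2 h3 => Cfsg.Agent.S1403.result hG K hK h2 h3
  have hpσ : p ∈ sigma M := alpha_subset_sigma hG hU hM hα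
  have hA1 : A ≠ ⊥ := by
    intro h
    rw [h, Subgroup.card_bot] at hAc
    have : 1 < p ^ 2 := Nat.one_lt_pow (by norm_num) hpp.one_lt
    omega
  have hAtop : A ≠ ⊤ := fun h => hM.1 (top_le_iff.mp (h ▸ hAM))
  obtain ⟨S, hSM, hS1, hNS⟩ := exists_sylow_of_mem_sigma hpσ
  obtain ⟨m, hmM, hmA⟩ := exists_conj_le_sylow_in S hSM (elemAb_isPGroup hAe) hAM
  -- the Sylow subgroup `S' = m⁻¹ S m` contains `A`
  set S' : Sylow p G := m⁻¹ • S with hS'
  have hAS' : A ≤ (S' : Subgroup G) := by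
    intro a ha
    rw [hS', Cfsg.Agent.Lib.Helper1.mem_sylow_smul_iff, inv_inv]
    exact hmA a ha
  have hS'M : (S' : Subgroup G) ≤ M := by
    intro x hx
    rw [hS', Cfsg.Agent.Lib.Helper1.mem_sylow_smul_iff, inv_inv] at hx
    have h1 : m⁻¹ * (m * x * m⁻¹) * m ∈ M :=
      M.mul_mem (M.mul_mem (M.inv_mem hmM) (hSM hx)) hmM
    have e : m⁻¹ * (m * x * m⁻¹) * m = x := by group
    rwa [e] at h1
  have hS'1 : (S' : Subgroup G) ≠ ⊥ := fun h => hA1 (le_bot_iff.mp (h ▸ hAS'))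
  have hr : ¬ PRankLE p 2 G := fun h => hα.2 (pRankLE_subgroup h M)
  have hS'u : InUniqueMaximal (S' : Subgroup G) := sylow_inUniqueMaximal hG hU S' hr
  obtain ⟨z, hzS, hzC, hzo⟩ := exists_central_order_p S'.isPGroup' hS'1
  have hzp : z ^ p = 1 := by rw [← hzo]; exact pow_orderOf_eq_one z
  have hz1 : z ≠ 1 := by
    intro h
    rw [h, orderOf_one] at hzo
    exact hpp.one_lt.ne hzo
  by_cases hzA : z ∈ A
  · -- the point `⟨z⟩`
    have hA₀A : Subgroup.zpowers z ≤ A := by rw [Subgroup.zpowers_le]; exact hzA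
    have hA₀c : Nat.card (Subgroup.zpowers z) = p := by rw [Nat.card_zpowers]; exact hzo
    have hSN : (S' : Subgroup G) ≤ Subgroup.normalizer ((Subgroup.zpowers z : Subgroup G) : Set G) := by
      refine le_trans ?_ (Subgroup.centralizer_le_normalizer _)
      intro s hs
      rw [centralizer_zpowers_eq, Subgroup.mem_centralizer_singleton_iff]
      exact Subgroup.mem_centralizer_iff.mp hzC s hs
    exact hall _ hA₀A hA₀c (point_unique_of_inUniqueMaximal hM hS'M hS'u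
      (ne_bot_of_card_prime hpp hA₀c) (hA₀A.trans hAM) hSN)
  · -- `A⟨z⟩` has order `p³` and centralizes `A`
    have hzCA : z ∈ Subgroup.centralizer (A : Set G) := Subgroup.centralizer_le hAS' hzC
    have hB : IsElementaryAbelian p (A ⊔ Subgroup.zpowers z) := by
      refine elemAb_sup hAe (elemAb_zpowers hzp) ?_
      intro a ha b hb
      obtain ⟨k, rfl⟩ := Subgroup.mem_zpowers_iff.mp hb
      have h1 : Commute z a := (Subgroup.mem_centralizer_iff.mp hzCA a ha).symm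
      exact ((h1.zpow_left k).eq).symm
    have hlt : A < A ⊔ Subgroup.zpowers z := by
      refine lt_of_le_of_ne le_sup_left ?_
      intro h
      apply hzA
      rw [h]
      exact Subgroup.mem_sup_right (Subgroup.mem_zpowers z)
    have hcard : p ^ 2 < Nat.card ↥(A ⊔ Subgroup.zpowers z) := by
      rw [← hAc]; exact card_lt_of_lt hlt
    have hBC : A ⊔ Subgroup.zpowers z ≤ Subgroup.centralizer (A : Set G) := by
      refine sup_le (le_centralizer_of_le_elemAb hAe le_rfl) ?_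
      rw [Subgroup.zpowers_le]; exact hzCA
    have hr3 : ¬ RankLE 2 ↥(Subgroup.centralizer (A : Set G)) := fun h =>
      not_pRankLE_of_elemAb hBC (elemAb_comm hB) hB.2 hcard (h p hpp)
    have hAu : InUniqueMaximal A :=
      hU A hAtop (not_rankLE_one_of_sq_le hpp hAe hAc.ge) (Or.inr hr3)
    obtain ⟨A₀, hA₀A, hA₀c⟩ := exists_point hAc
    exact hall _ hA₀A hA₀c (point_unique_of_inUniqueMaximal hM hAM hAu
      (ne_bot_of_card_prime hpp hA₀c) (hA₀A.trans hAM) (le_normalizer_of_le_elemAb hAe hA₀A))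

/-- Coprime generation: if for every point `A₀` of `A` the fixed points of `A₀` on `K` centralize
`A`, then `K` centralizes `A`. -/
theorem le_centralizer_of_points [Finite G] {p : ℕ} [Fact p.Prime] {A K : Subgroup G}
    (hAe : IsElementaryAbelian p A) (hAc : Nat.card A = p ^ 2)
    (hAK : A ≤ Subgroup.normalizer (K : Set G)) (hcop : ¬ p ∣ Nat.card K)
    (h : ∀ A₀ : Subgroup G, A₀ ≤ A → Nat.card A₀ = p →
      K ⊓ Subgroup.centralizer (A₀ : Set G) ≤ Subgroup.centralizer (A : Set G)) :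
    K ≤ Subgroup.centralizer (A : Set G) := by
  have hpp : p.Prime := Fact.out
  apply Cfsg.Agent.Lib.Helper8.le_of_forall_inf_centralizer_le hAe hAc.ge hAK
  · rw [hAc]
    exact Nat.Coprime.pow_left 2 ((Nat.Prime.coprime_iff_not_dvd hpp).mpr hcop)
  · intro a ha ha1
    have h1 := h (Subgroup.zpowers a) (by rw [Subgroup.zpowers_le]; exact ha)
      (card_zpowers_of_mem hpp hAe ha ha1)
    rwa [centralizer_zpowers_eq] at h1

/-- Under the hypothesis that no point of `A` is "unique", `M_α = 1` (uses 12.3(b)). -/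
theorem alphaCore_eq_bot_of_forall_not_unique [Finite G] (hG : IsMinSimpleOddOrder G)
    {p : ℕ} [Fact p.Prime] (h3b : T123b G p) {M : Subgroup G} (hM : IsCoatom M) {A : Subgroup G}
    (hAM : A ≤ M) (hAe : IsElementaryAbelian p A) (hAc : Nat.card A = p ^ 2)
    (hall : ∀ A₀ : Subgroup G, A₀ ≤ A → Nat.card A₀ = p →
      ¬ (Subgroup.normalizer (A₀ : Set G) ≤ M ∧
        ∀ L : Subgroup G, IsCoatom L → Subgroup.normalizer (A₀ : Set G) ≤ L → L = M))
    (hpα : p ∉ alpha M) : alphaCore M = ⊥ := by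
  by_contra hα
  have hsimple : IsSimpleGroup G := hG.2.1
  have hpp : p.Prime := Fact.out
  have hU : UT G := fun K hK h2 h3 => Cfsg.Agent.S1403.result hG K hK h2 h3
  obtain ⟨hHall, -, -, -, -⟩ := malpha hG hU hM
  have hle : alphaCore M ≤ Subgroup.centralizer (A : Set G) := by
    apply le_centralizer_of_points hAe hAc (hAM.trans (le_normalizer_alphaCore M))
      (fun h => hpα (hHall.2.1 p hpp h))
    intro A₀ hA₀A hA₀c
    obtain ⟨H, hH, hMH, hNH, hAH⟩ :=
      exists_other_coatom hM hpp hAM hAe hA₀A hA₀c (hall A₀ hA₀A hA₀c)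
    exact (inf_le_inf_left _ ((Subgroup.centralizer_le_normalizer _).trans hNH)).trans
      (h3b M H hM hH hMH A A₀ hAM hAH hAe hAc hA₀A hA₀c hNH hpα)
  obtain ⟨t, ht, E, hEα, hEc, hEe, hEcard⟩ := exists_elemAb_cube_alphaCore hG hM hα
  have hAα : ∀ q : ℕ, q.Prime → q ∣ Nat.card A → q ∉ alpha M := by
    intro q hq hd
    rw [hAc] at hd
    rw [(Nat.prime_dvd_prime_iff_eq hq hpp).mp (hq.dvd_of_dvd_pow hd)]
    exact hpα
  have hEC : E ≤ alphaCore M ⊓ Subgroup.centralizer (A : Set G) := le_inf hEα (hEα.trans hle)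
  have hr : ¬ RankLE 1 ↥(alphaCore M ⊓ Subgroup.centralizer (A : Set G)) := by
    apply not_rankLE_one_of_elemAb ht hEC hEc hEe
    have : t < t ^ 2 := by
      have := ht.one_lt
      nlinarith
    omega
  have hu := Cfsg.Agent.S1406.result hG M hM A hAM hAα hr
  obtain ⟨A₀, hA₀A, hA₀c⟩ := exists_point hAc
  refine hall _ hA₀A hA₀c (point_unique_of_inUniqueMaximal hM inf_le_left hu
    (ne_bot_of_card_prime hpp hA₀c) (hA₀A.trans hAM) ?_)
  exact inf_le_right.trans ((Subgroup.centralizer_le hA₀A).trans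
    (Subgroup.centralizer_le_normalizer _))

/-- Under the hypothesis that no point of `A` is "unique", `p ∈ σ(M)` (uses 12.3(a)). -/
theorem mem_sigma_of_forall_not_unique [Finite G] (hG : IsMinSimpleOddOrder G)
    {p : ℕ} [Fact p.Prime] (h3a : T123a G p) {M : Subgroup G} (hM : IsCoatom M) {A : Subgroup G}
    (hAM : A ≤ M) (hAe : IsElementaryAbelian p A) (hAc : Nat.card A = p ^ 2)
    (hall : ∀ A₀ : Subgroup G, A₀ ≤ A → Nat.card A₀ = p →
      ¬ (Subgroup.normalizer (A₀ : Set G) ≤ M ∧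
        ∀ L : Subgroup G, IsCoatom L → Subgroup.normalizer (A₀ : Set G) ≤ L → L = M)) :
    p ∈ sigma M := by
  by_contra hpσ
  have hsimple : IsSimpleGroup G := hG.2.1
  have hpp : p.Prime := Fact.out
  have hnd : ¬ p ∣ Nat.card (sigmaCore M) := by
    intro h
    have e : Nat.card (sigmaCore M) = Nat.card (piCore (sigma M) ↥M) :=
      Subgroup.card_map_of_injective M.subtype_injective
    rw [e] at h
    exact hpσ (Cfsg.Agent.Lib.Helper12.piCore_mem (X := ↥M) (sigma M) p hpp h)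
  have hle : sigmaCore M ≤ Subgroup.centralizer (A : Set G) := by
    apply le_centralizer_of_points hAe hAc
      (hAM.trans (Cfsg.Agent.Lib.Helper23.BGY.le_normalizer_sigmaCore M)) hnd
    intro A₀ hA₀A hA₀c
    obtain ⟨H, hH, hMH, hNH, hAH⟩ :=
      exists_other_coatom hM hpp hAM hAe hA₀A hA₀c (hall A₀ hA₀A hA₀c)
    exact (inf_le_inf_left _ ((Subgroup.centralizer_le_normalizer _).trans hNH)).trans
      (h3a M H hM hH hMH A A₀ hAM hAH hAe hAc hA₀A hA₀c hNH hpσ)
  have hcent : A ≤ Subgroup.centralizer (sigmaCore M : Set G) := by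
    intro a ha
    rw [Subgroup.mem_centralizer_iff]
    intro x hx
    exact (Subgroup.mem_centralizer_iff.mp (hle hx) a ha).symm
  exact false_of_forall_not_unique hG hM hpσ hAM hAe hAc hcent hall

/-- A Sylow `s`-subgroup of `G` lying in the nilpotent derived subgroup of `M` is normal in `M`. -/
theorem le_normalizer_of_sylow_le_nilpotent_commutator [Finite G] {M : Subgroup G} {s : ℕ}
    [Fact s.Prime] (P : Sylow s G) (hPD : (P : Subgroup G) ≤ ⁅M, M⁆)
    (hnil : Group.IsNilpotent ↥⁅M, M⁆) :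
    M ≤ Subgroup.normalizer ((P : Subgroup G) : Set G) := by
  have hss : s.Prime := Fact.out
  set D : Subgroup G := ⁅M, M⁆ with hD
  obtain ⟨k, hk⟩ := IsPGroup.iff_card.mp P.isPGroup'
  have hcardsub : Nat.card ((P : Subgroup G).subgroupOf D) = s ^ k := by
    rw [← hk]
    exact Nat.card_congr (Subgroup.subgroupOfEquivOfLe hPD).toEquiv
  have hidx : ¬ s ∣ ((P : Subgroup G).subgroupOf D).index := by
    intro h
    have h1 : ((P : Subgroup G).subgroupOf D).index ∣ (P : Subgroup G).index :=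
      Subgroup.relIndex_dvd_index_of_le hPD
    exact P.not_dvd_index (h.trans h1)
  have hcop : (Nat.card ((P : Subgroup G).subgroupOf D)).Coprime
      ((P : Subgroup G).subgroupOf D).index := by
    rw [hcardsub]
    exact Nat.Coprime.pow_left k ((Nat.Prime.coprime_iff_not_dvd hss).mpr hidx)
  have hnorm : ((P : Subgroup G).subgroupOf D).Normal :=
    Cfsg.Agent.Lib.Helper23.BGY.normal_of_coprime_index_nilpotent _ hcop
  -- every `s`-element of `D` lies in `P`
  have hmem : ∀ y ∈ D, (∃ j : ℕ, y ^ s ^ j = 1) → y ∈ (P : Subgroup G) := by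
    intro y hy ⟨j, hj⟩
    have hK : (Subgroup.zpowers (⟨y, hy⟩ : D)) ≤ (P : Subgroup G).subgroupOf D := by
      apply Cfsg.Agent.Lib.Helper23.BGY.le_of_coprime_index_normal
      rw [Nat.card_zpowers]
      have h1 : orderOf (⟨y, hy⟩ : D) ∣ s ^ j := by
        apply orderOf_dvd_of_pow_eq_one
        exact Subtype.ext (by simpa using hj)
      obtain ⟨i, -, hi⟩ := (Nat.dvd_prime_pow hss).mp h1
      rw [hi]
      exact Nat.Coprime.pow_left i ((Nat.Prime.coprime_iff_not_dvd hss).mpr hidx)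
    have := hK (Subgroup.mem_zpowers (⟨y, hy⟩ : D))
    exact Subgroup.mem_subgroupOf.mp this
  have hMD : M ≤ Subgroup.normalizer ((D : Subgroup G) : Set G) :=
    Cfsg.Agent.Lib.Helper1.le_normalizer_commutator_left M M
  intro m hm
  rw [mem_normalizer_iff_map_conj]
  apply Cfsg.Agent.Lib.Helper8.map_conj_eq_of_le
  intro y hy
  rw [mem_map_conj] at hy
  have hxD : m⁻¹ * y * m ∈ D := hPD hy
  have hyD : y ∈ D := by
    have h1 := (Subgroup.mem_normalizer_iff.mp (hMD hm) (m⁻¹ * y * m)).mp hxD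
    have e : m * (m⁻¹ * y * m) * m⁻¹ = y := by group
    rwa [e] at h1
  apply hmem y hyD
  obtain ⟨j, hj⟩ := (P.isPGroup' ⟨m⁻¹ * y * m, hy⟩)
  refine ⟨j, ?_⟩
  have h2 : (m⁻¹ * y * m) ^ s ^ j = 1 := by
    have := congrArg Subtype.val hj
    simpa using this
  have e : y = m * (m⁻¹ * y * m) * m⁻¹ := by group
  rw [e, conj_pow, h2, mul_one, mul_inv_cancel]

/-- Part (a) of B&G 12.4 when `p ∈ σ(M)`, `p ∉ α(M)` and `M'` is nilpotent. -/
theorem centralizer_le_of_mem_sigma [Finite G] (hG : IsMinSimpleOddOrder G)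
    {M : Subgroup G} (hM : IsCoatom M) {p : ℕ} [Fact p.Prime] {A : Subgroup G} (hAM : A ≤ M)
    (hAe : IsElementaryAbelian p A) (hAc : Nat.card A = p ^ 2)
    (hpσ : p ∈ sigma M) (hpα : p ∉ alpha M) (hnil : Group.IsNilpotent ↥⁅M, M⁆) :
    Subgroup.centralizer (A : Set G) ≤ M := by
  have hsimple : IsSimpleGroup G := hG.2.1
  have hpp : p.Prime := Fact.out
  have hU : UT G := fun K hK h2 h3 => Cfsg.Agent.S1403.result hG K hK h2 h3
  have hr2 : PRankLE p 2 ↥M := by
    by_contra h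
    exact hpα ⟨hpp, h⟩
  obtain ⟨S, hSM, hS1, hNS, -, hSD⟩ := exists_sylow_sigma hG hU hM hpσ
  have hMN : M ≤ Subgroup.normalizer ((S : Subgroup G) : Set G) :=
    le_normalizer_of_sylow_le_nilpotent_commutator S hSD hnil
  -- `A ≤ S`
  have hAS : A ≤ (S : Subgroup G) := by
    obtain ⟨m, hmM, hmA⟩ := exists_conj_le_sylow_in S hSM (elemAb_isPGroup hAe) hAM
    intro a ha
    exact (Subgroup.mem_normalizer_iff.mp (hMN hmM) a).mpr (hmA a ha)
  have hmemA := mem_of_pRankLE_two hr2 hAM hAe hAc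
  -- `Z₀ = Ω₁(Z(S))`, realised as `Z(S) ∩ A`
  set Z₀ : Subgroup G := ((S : Subgroup G) ⊓ Subgroup.centralizer ((S : Subgroup G) : Set G)) ⊓ A
    with hZ₀
  have hZ₀A : Z₀ ≤ A := inf_le_right
  have hZ₀1 : Z₀ ≠ ⊥ := by
    obtain ⟨z, hzS, hzC, hzo⟩ := exists_central_order_p S.isPGroup' hS1
    have hzp : z ^ p = 1 := by rw [← hzo]; exact pow_orderOf_eq_one z
    have hzA : z ∈ A := hmemA z (hSM hzS) (Subgroup.centralizer_le hAS hzC) hzp
    intro h
    have hz : z ∈ Z₀ := ⟨⟨hzS, hzC⟩, hzA⟩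
    rw [h, Subgroup.mem_bot] at hz
    rw [hz, orderOf_one] at hzo
    exact hpp.one_lt.ne hzo
  have hMZ₀ : M ≤ Subgroup.normalizer (Z₀ : Set G) := by
    intro m hm
    apply mem_normalizer_of_forall_conj_mem
    rintro x ⟨⟨hxS, hxC⟩, hxA⟩
    have h1 : m * x * m⁻¹ ∈ (S : Subgroup G) := conj_mem_of_mem_normalizer (hMN hm) hxS
    have h2 : m * x * m⁻¹ ∈ Subgroup.centralizer ((S : Subgroup G) : Set G) := by
      rw [Subgroup.mem_centralizer_iff]
      intro s hs
      have hs' : m⁻¹ * s * m ∈ (S : Subgroup G) := by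
        have := conj_mem_of_mem_normalizer (Subgroup.inv_mem _ (hMN hm)) hs
        rwa [inv_inv] at this
      have hc : m⁻¹ * s * m * x = x * (m⁻¹ * s * m) := Subgroup.mem_centralizer_iff.mp hxC _ hs'
      calc s * (m * x * m⁻¹) = m * (m⁻¹ * s * m * x) * m⁻¹ := by group
        _ = m * (x * (m⁻¹ * s * m)) * m⁻¹ := by rw [hc]
        _ = m * x * m⁻¹ * s := by group
    refine ⟨⟨h1, h2⟩, ?_⟩
    apply hmemA _ (M.mul_mem (M.mul_mem hm (hAM hxA)) (M.inv_mem hm))
      (Subgroup.centralizer_le hAS h2)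
    rw [conj_pow, hAe.2 x hxA, mul_one, mul_inv_cancel]
  have hNZ₀ : Subgroup.normalizer (Z₀ : Set G) = M :=
    normalizer_eq_of_coatom hM (hZ₀A.trans hAM) hZ₀1 hMZ₀
  exact (Subgroup.centralizer_le hZ₀A).trans
    ((Subgroup.centralizer_le_normalizer _).trans hNZ₀.le)

/-- **B&G Proposition 12.4** from 12.3(a),(b). -/
theorem prop12_4 [Finite G] (hG : IsMinSimpleOddOrder G) {p : ℕ} [Fact p.Prime]
    (h3a : T123a G p) (h3b : T123b G p)
    {M : Subgroup G} (hM : IsCoatom M) {A : Subgroup G} (hAM : A ≤ M)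
    (hAe : IsElementaryAbelian p A) (hAc : Nat.card A = p ^ 2) :
    Subgroup.centralizer (A : Set G) ≤ M ∧
      ((∀ A₀ : Subgroup G, A₀ ≤ A → Nat.card A₀ = p →
          ¬ (Subgroup.normalizer (A₀ : Set G) ≤ M ∧
            ∀ L : Subgroup G, IsCoatom L → Subgroup.normalizer (A₀ : Set G) ≤ L → L = M)) →
        p ∈ sigma M ∧ alphaCore M = ⊥ ∧ Group.IsNilpotent (sigmaCore M)) := by
  have hU : UT G := fun K hK h2 h3 => Cfsg.Agent.S1403.result hG K hK h2 h3
  by_cases hall : ∀ A₀ : Subgroup G, A₀ ≤ A → Nat.card A₀ = p →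
      ¬ (Subgroup.normalizer (A₀ : Set G) ≤ M ∧
        ∀ L : Subgroup G, IsCoatom L → Subgroup.normalizer (A₀ : Set G) ≤ L → L = M)
  · have hpα := not_mem_alpha_of_forall_not_unique hG hM hAM hAe hAc hall
    have hα := alphaCore_eq_bot_of_forall_not_unique hG h3b hM hAM hAe hAc hall hpα
    have hpσ := mem_sigma_of_forall_not_unique hG h3a hM hAM hAe hAc hall
    obtain ⟨hnil, -⟩ := exists_normal_sylow_of_alphaCore_eq_bot hG hM hα
    have hσnil : Group.IsNilpotent (sigmaCore M) :=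
      Cfsg.Agent.Lib.Helper9.isNilpotent_of_le
        (Cfsg.Agent.Lib.Helper24.BGBeta.sigmaCore_le_commutator hG hU hM) hnil
    exact ⟨centralizer_le_of_mem_sigma hG hM hAM hAe hAc hpσ hpα hnil,
      fun _ => ⟨hpσ, hα, hσnil⟩⟩
  · push Not at hall
    obtain ⟨A₀, hA₀A, hA₀c, hN, hu⟩ := hall
    refine ⟨?_, fun h => absurd ⟨hN, hu⟩ (h A₀ hA₀A hA₀c)⟩
    exact (Subgroup.centralizer_le hA₀A).trans ((Subgroup.centralizer_le_normalizer _).trans hN)

/-- **B&G Proposition 12.4** from B&G 11.7 (`H117`) and the weak form of 11.4 (`H114`), via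
helper19's 12.3. -/
theorem prop12_4_of_exc [Finite G] (hG : IsMinSimpleOddOrder G) {p : ℕ} [Fact p.Prime]
    (h117 : Cfsg.Agent.Lib.Helper19.BG123.H117 G p) (h114 : Cfsg.Agent.Lib.Helper19.BG123.H114 G p)
    {M : Subgroup G} (hM : IsCoatom M) {A : Subgroup G} (hAM : A ≤ M)
    (hAe : IsElementaryAbelian p A) (hAc : Nat.card A = p ^ 2) :
    Subgroup.centralizer (A : Set G) ≤ M ∧
      ((∀ A₀ : Subgroup G, A₀ ≤ A → Nat.card A₀ = p →
          ¬ (Subgroup.normalizer (A₀ : Set G) ≤ M ∧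
            ∀ L : Subgroup G, IsCoatom L → Subgroup.normalizer (A₀ : Set G) ≤ L → L = M)) →
        p ∈ sigma M ∧ alphaCore M = ⊥ ∧ Group.IsNilpotent (sigmaCore M)) :=
  prop12_4 hG
    (fun _ _ hM hH hMH _ _ hAM hAH hAe hA2 hA₀ hA₀p hN hp =>
      Cfsg.Agent.Lib.Helper19.BG123.thm12_3a_of hG h117 h114 hM hH hMH hAM hAH hAe hA2 hA₀ hA₀p hN hp)
    (fun _ _ hM hH hMH _ _ hAM hAH hAe hA2 hA₀ hA₀p hN hp =>
      Cfsg.Agent.Lib.Helper19.BG123.thm12_3b_of hG h117 h114 hM hH hMH hAM hAH hAe hA2 hA₀ hA₀p hN hp)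
    hM hAM hAe hAc

/-- **Lemma T** with the signature of helper8's skeleton (`notes/bg11/Skeleton.lean`). -/
theorem lemma_T [Finite G] (hG : IsMinSimpleOddOrder G) {M : Subgroup G} (hM : IsCoatom M)
    {s : ℕ} [Fact s.Prime] (hs : s ∉ sigma M) {V : Subgroup G} (hVM : V ≤ M)
    (hVe : IsElementaryAbelian s V) (hV2 : Nat.card V = s ^ 2) {r : ℕ} [Fact r.Prime]
    (R : Sylow r G) (hNR : Subgroup.normalizer ((R : Subgroup G) : Set G) = M)
    (hRV : (R : Subgroup G) ≤ Subgroup.centralizer (V : Set G))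
    (hnil : Group.IsNilpotent ↥⁅M, M⁆) : False := by
  have hrr : r.Prime := Fact.out
  have hRM : (R : Subgroup G) ≤ M := hNR ▸ Subgroup.le_normalizer
  have hR1 : (R : Subgroup G) ≠ ⊥ := by
    intro h
    apply hM.1
    rw [← hNR, h]
    exact Subgroup.normalizer_eq_top_iff.mpr inferInstance
  have hrσ : r ∈ sigma M := by
    obtain ⟨k, hk⟩ := IsPGroup.iff_card.mp R.isPGroup'
    have hk0 : k ≠ 0 := by
      rintro rfl
      rw [pow_zero] at hk
      exact hR1 (Subgroup.card_eq_one.mp hk)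
    have hrM : r ∣ Nat.card M := by
      have h1 : r ∣ Nat.card (R : Subgroup G) := by rw [hk]; exact dvd_pow_self r hk0
      exact h1.trans (Subgroup.card_dvd_of_le hRM)
    refine ⟨hrr, hrM, R.subtype hRM, ?_⟩
    have e : ((R.subtype hRM : Sylow r M) : Subgroup M).map M.subtype = (R : Subgroup G) := by
      rw [Sylow.coe_subtype]
      exact Subgroup.map_subgroupOf_eq_of_le hRM
    rw [e, hNR]
  have hrs : r ≠ s := fun h => hs (h ▸ hrσ)
  have hVR : V ≤ Subgroup.centralizer ((R : Subgroup G) : Set G) := by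
    intro v hv
    rw [Subgroup.mem_centralizer_iff]
    intro x hx
    exact (Subgroup.mem_centralizer_iff.mp (hRV hx) v hv).symm
  exact lemT hG hM hs hVM hVe hV2 hrs R hR1 hRM hNR.ge hVR hnil

end Cfsg.Agent.Lib.Helper23.BG124
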