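/- helper23: B&G Theorem 12.5 (statement S1417) assembled from the facts of B&G section 11 about
"exceptional" maximal subgroups (given as a hypothesis structure `ExcFacts`) and Proposition 12.4. -/
import Mathlib
import Cfsg.Agent.Lib.Helper23.BG124

set_option autoImplicit false
open Cfsg

namespace Cfsg.Agent.Lib.Helper23.BG125

open Cfsg.Agent.Lib.Helper8.BGEx Cfsg.Agent.Lib.Helper19.BG123 Cfsg.Agent.Lib.Helper4
open Cfsg.Agent.Lib.Helper23.BG124

variable {G : Type*} [Group G]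

/-- The facts of B&G section 11 about exceptional maximal subgroups at the prime `p` that are needed
for Theorem 12.5. -/
structure ExcFacts (G : Type*) [Group G] (p : ℕ) : Prop where
  /-- 11.7 -/
  normal : H117 G p
  /-- 11.4 (weak form) -/
  weak114 : H114 G p
  /-- 11.3 -/
  nilpotent : ∀ M A A₀ : Subgroup G, Exc M p A A₀ → Group.IsNilpotent (sigmaCore M)
  /-- 11.5 -/
  sylow_comm : ∀ M A A₀ : Subgroup G, Exc M p A A₀ → ∀ P : Sylow p M,
    IsMulCommutative (P : Subgroup M)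
  /-- 11.6(a) -/
  omega : ∀ M A A₀ : Subgroup G, Exc M p A A₀ → ∀ P : Sylow p M,
    A ≤ (P : Subgroup M).map M.subtype → ∀ x ∈ (P : Subgroup M).map M.subtype, x ^ p = 1 ↔ x ∈ A
  /-- 11.6(b) -/
  fpf : ∀ M A A₀ : Subgroup G, Exc M p A A₀ →
    sigmaCore M ⊓ Subgroup.centralizer (A : Set G) = ⊥
  /-- 11.6(c) -/
  point_fpf : ∀ M A A₀ : Subgroup G, Exc M p A A₀ → ∃ A₁ : Subgroup G, A₁ ≤ A ∧
    Nat.card A₁ = p ∧ sigmaCore M ⊓ Subgroup.centralizer (A₁ : Set G) = ⊥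

/-- If `p ∉ σ(M)` then `M` is exceptional for `(p, A, A₀)` for some point `A₀` of `A`
(B&G 12.4(b)). -/
theorem exists_exc [Finite G] (hG : IsMinSimpleOddOrder G) {p : ℕ} [Fact p.Prime]
    (h117 : H117 G p) (h114 : H114 G p) {M : Subgroup G} (hM : IsCoatom M) (hpσ : p ∉ sigma M)
    {A : Subgroup G} (hAM : A ≤ M) (hAe : IsElementaryAbelian p A) (hAc : Nat.card A = p ^ 2) :
    ∃ A₀ : Subgroup G, Exc M p A A₀ := by
  by_contra hcon
  apply hpσ
  refine ((prop12_4_of_exc hG h117 h114 hM hAM hAe hAc).2 ?_).1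
  intro A₀ hA₀A hA₀c hN
  exact hcon ⟨A₀, hM, Fact.out, hpσ, hAM, hAe, hAc, hA₀A, hA₀c, hN.1⟩

/-- B&G 12.5(e). -/
theorem sigmaCore_inf_eq_bot [Finite G] (hG : IsMinSimpleOddOrder G) {p : ℕ} [Fact p.Prime]
    (hF : ExcFacts G p) {M A A₀ : Subgroup G} (hExc : Exc M p A A₀) {Mstar : Subgroup G}
    (hMs : IsCoatom Mstar) (hne : Mstar ≠ M) (hAMs : A ≤ Mstar) : sigmaCore M ⊓ Mstar = ⊥ := by
  have hpp : p.Prime := Fact.out
  have hM := hExc.coatom
  have hAM := hExc.le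
  have hAe := hExc.elem
  have hAc := hExc.card
  have hAp : IsPGroup p A := elemAb_isPGroup hAe
  obtain ⟨D, hD⟩ : ∃ D : Subgroup G, D = sigmaCore M ⊓ Mstar := ⟨_, rfl⟩
  rw [← hD]
  have hDσ : D ≤ sigmaCore M := hD ▸ inf_le_left
  have hDH : D ≤ Mstar := hD ▸ inf_le_right
  have hAD : A ≤ Subgroup.normalizer (D : Set G) := by
    rw [hD]
    exact Cfsg.Agent.Lib.Helper1.BG36R.le_normalizer_inf
      (hAM.trans (Cfsg.Agent.Lib.Helper23.BGY.le_normalizer_sigmaCore M))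
      (hAMs.trans Subgroup.le_normalizer)
  have hDp : (Nat.card D).Coprime p := by
    rw [Nat.coprime_comm, Nat.Prime.coprime_iff_not_dvd hpp]
    intro h
    exact hExc.not_sigma (mem_sigma_of_dvd_card_le hDσ hpp h)
  have hnσ := Cfsg.Agent.Lib.Helper23.BGY.le_normalizer_sigmaCore Mstar
  -- `[D, A] ≤ M*_σ`
  have hXσ : ⁅D, A⁆ ≤ sigmaCore Mstar := by
    by_cases hpH : p ∈ sigma Mstar
    · have hAσ : A ≤ sigmaCore Mstar := le_sigmaCore_of_primes hG hMs hAMs (fun r hr hrA => by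
        rw [hAc] at hrA
        have := (Nat.prime_dvd_prime_iff_eq hr hpp).mp (hr.dvd_of_dvd_pow hrA)
        rw [this]; exact hpH)
      refine (Subgroup.commutator_mono hDH hAσ).trans ?_
      rw [Subgroup.commutator_comm]
      exact Cfsg.Agent.Lib.Helper1.commutator_le_of_le_normalizer hnσ
    · obtain ⟨A₁, hE₁⟩ := exists_exc hG hF.normal hF.weak114 hMs hpH hAMs hAe hAc
      exact commutator_le_sigmaCore hG hF.normal hMs hAMs hAe hAc hE₁.le₀ hE₁.card₀ hE₁.norm₀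
        hDH hAD hDp
  have hXD : ⁅D, A⁆ ≤ D := Cfsg.Agent.Lib.Helper1.commutator_le_of_le_normalizer hAD
  -- weak 11.4: `[D, A] = 1`
  have hX1 : ⁅D, A⁆ = ⊥ := by
    by_contra hXne
    apply hne
    apply hF.weak114 M A A₀ hExc Mstar hMs hAMs
    intro h
    apply hXne
    rw [eq_bot_iff, ← h]
    exact le_inf hXσ (hXD.trans hDσ)
  have hDC : D ≤ Subgroup.centralizer (A : Set G) :=
    Subgroup.commutator_eq_bot_iff_le_centralizer.mp hX1
  rw [eq_bot_iff, ← hF.fpf M A A₀ hExc]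
  exact le_inf hDσ hDC

/-- **B&G Theorem 12.5** (the conclusion of the frozen statement S1417) from the facts of section 11. -/
theorem thm12_5_of [Finite G] (hG : IsMinSimpleOddOrder G) {p : ℕ} [Fact p.Prime]
    (hF : ExcFacts G p) {M : Subgroup G} (hM : IsCoatom M) (hp : p ∈ tau2 M) {A : Subgroup G}
    (hAM : A ≤ M) (hAe : IsElementaryAbelian p A) (hAc : Nat.card A = p ^ 2) :
    Group.IsNilpotent (sigmaCore M) ∧
      (∀ P : Sylow p M, IsMulCommutative (P : Subgroup M) ∧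
        (A ≤ (P : Subgroup M).map M.subtype →
          (∀ x ∈ (P : Subgroup M).map M.subtype, x ^ p = 1 ↔ x ∈ A) ∧
          ¬ Subgroup.normalizer ((((P : Subgroup M).map M.subtype : Subgroup G)) : Set G) ≤ M)) ∧
      M ≤ Subgroup.normalizer ((sigmaCore M ⊔ A : Subgroup G) : Set G) ∧
      sigmaCore M ⊓ Subgroup.centralizer (A : Set G) = ⊥ ∧
      (∀ Mstar : Subgroup G, IsCoatom Mstar → Mstar ≠ M → A ≤ Mstar → sigmaCore M ⊓ Mstar = ⊥) ∧
      ∃ A₁ : Subgroup G, A₁ ≤ A ∧ Nat.card A₁ = p ∧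
        sigmaCore M ⊓ Subgroup.centralizer (A₁ : Set G) = ⊥ := by
  have hpp : p.Prime := Fact.out
  have hpσ : p ∉ sigma M := hp.2.1
  obtain ⟨A₀, hExc⟩ := exists_exc hG hF.normal hF.weak114 hM hpσ hAM hAe hAc
  have hpM : p ∣ Nat.card M := by
    have h1 : p ∣ Nat.card A := by rw [hAc]; exact dvd_pow_self p (by norm_num)
    exact h1.trans (Subgroup.card_dvd_of_le hAM)
  refine ⟨hF.nilpotent M A A₀ hExc, fun P => ⟨hF.sylow_comm M A A₀ hExc P, fun hAP =>
    ⟨hF.omega M A A₀ hExc P hAP, fun hN => hpσ ⟨hpp, hpM, P, hN⟩⟩⟩, hF.normal M A A₀ hExc,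
    hF.fpf M A A₀ hExc, fun Mstar hMs hne hAMs => sigmaCore_inf_eq_bot hG hF hExc hMs hne hAMs,
    hF.point_fpf M A A₀ hExc⟩

end Cfsg.Agent.Lib.Helper23.BG125
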