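/- helper23: the hypothesis structure `ExcFacts G p` of `BG125` discharged from helper8's Block A
(`Lib/Helper8/BGEx1-4`), helper24's Blocks B and D (`BGExB`, `BGExD`), leaving only B&G 11.7
(`H117 G p`) as a hypothesis. -/
import Mathlib
import Cfsg.Agent.Lib.Helper23.BG125
import Cfsg.Agent.Lib.Helper8.BGEx4
import Cfsg.Agent.Lib.Helper24.BGExB
import Cfsg.Agent.Lib.Helper24.BGExD
import Cfsg.Agent.Lib.Helper2.BGCorD

set_option autoImplicit false
open Cfsg

namespace Cfsg.Agent.Lib.Helper23.BG125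

open Cfsg.Agent.Lib.Helper8.BGEx Cfsg.Agent.Lib.Helper19.BG123

variable {G : Type*} [Group G]

theorem exc_sigmaCore_ne_bot [Finite G] (hG : IsMinSimpleOddOrder G) {M : Subgroup G}
    (hM : IsCoatom M) : sigmaCore M ≠ ⊥ :=
  Cfsg.Agent.Lib.Helper2.BGCor.sigmaCore_ne_bot hG (UT_of hG) hM (Cfsg.Agent.S1350.result hG M hM).1

theorem exc_sylow_comm [Finite G] (hG : IsMinSimpleOddOrder G) {p : ℕ} [Fact p.Prime]
    {M A A₀ : Subgroup G} (h : Exc M p A A₀) (P : Sylow p M) :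
    IsMulCommutative (P : Subgroup M) :=
  Cfsg.Agent.Lib.Helper24.BGExB.sylow_comm hG h (h.maxElem hG) h.centralizer_le
    (exc_sigmaCore_ne_bot hG h.coatom)
    (fun _ hx hA => h.sigmaCore_inf_centralizer_cj hG hx hA)
    (fun _ hx hA _ hB hB1 hfix => h.fpf_of_cj_fixed hG hx hA hB hB1 hfix) P

/-- All the facts of `ExcFacts` except 11.7 hold. -/
theorem excFacts_of_normal [Finite G] (hG : IsMinSimpleOddOrder G) {p : ℕ} [Fact p.Prime]
    (h117 : H117 G p) : ExcFacts G p where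
  normal := h117
  weak114 := fun _ _ _ h _ hM hAM hne => h.eq_of_sigmaCore_inf_ne_bot hG hM hAM hne
  nilpotent := fun _ _ _ h => h.nilpotent hG
  sylow_comm := fun _ _ _ h P => exc_sylow_comm hG h P
  omega := fun _ _ _ h P hAP =>
    Cfsg.Agent.Lib.Helper24.BGExD.omega_of_comm h (h.maxElem hG) P (exc_sylow_comm hG h P) hAP
  fpf := fun _ _ _ h => h.sigmaCore_inf_centralizer hG
  point_fpf := fun _ _ _ h => by
    obtain ⟨X₁, -, hX₁, -, hc₁, -, -, hf₁, -⟩ :=
      Cfsg.Agent.Lib.Helper24.BGExD.two_fpf_of hG h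
        (fun _ hx hA => h.sigmaCore_inf_centralizer_cj hG hx hA)
        (Cfsg.Agent.Lib.Helper24.BGExD.normalizer_not_le_of_comm h (h.maxElem hG)
          (fun P => exc_sylow_comm hG h P))
    exact ⟨X₁, hX₁, hc₁, hf₁⟩

end Cfsg.Agent.Lib.Helper23.BG125
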