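/- helper23: B&G Lemma 11.7 (`M_σ A ⊴ M` for exceptional `M`) assembled from helper17's core forms
(`BGExF.centralizes_pCoreOf_core`, `BGExG.normal_core`), helper8's Block A, helper24's Blocks B, D
and helper16's Cor N'.  Then the ExcFacts structure without hypotheses. -/
import Mathlib
import Cfsg.Agent.Lib.Helper23.BG125b
import Cfsg.Agent.Lib.Helper17.BGExF3
import Cfsg.Agent.Lib.Helper17.BGExG3
import Cfsg.Agent.Lib.Helper16.BGLemN
import Cfsg.Agent.Lib.Helper1.BGX5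

set_option autoImplicit false
open Cfsg

namespace Cfsg.Agent.Lib.Helper23.BG125

open Cfsg.Agent.Lib.Helper8.BGEx Cfsg.Agent.Lib.Helper19.BG123

variable {G : Type*} [Group G]

theorem exc_two_fpf [Finite G] (hG : IsMinSimpleOddOrder G) {p : ℕ} [Fact p.Prime]
    {M A A₀ : Subgroup G} (h : Exc M p A A₀) :
    ∃ X₁ X₂ : Subgroup G, X₁ ≤ A ∧ X₂ ≤ A ∧ Nat.card X₁ = p ∧ Nat.card X₂ = p ∧ X₁ ≠ X₂ ∧
      sigmaCore M ⊓ Subgroup.centralizer (X₁ : Set G) = ⊥ ∧
      sigmaCore M ⊓ Subgroup.centralizer (X₂ : Set G) = ⊥ :=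
  Cfsg.Agent.Lib.Helper24.BGExD.two_fpf_of hG h
    (fun _ hx hA => h.sigmaCore_inf_centralizer_cj hG hx hA)
    (Cfsg.Agent.Lib.Helper24.BGExD.normalizer_not_le_of_comm h (h.maxElem hG)
      (fun P => exc_sylow_comm hG h P))

/-- 11.7, Step 2. -/
theorem exc_centralizes_pCoreOf [Finite G] (hG : IsMinSimpleOddOrder G) {p : ℕ} [Fact p.Prime]
    {M A A₀ : Subgroup G} (h : Exc M p A A₀) {q : ℕ} [Fact q.Prime] (hq : q ∉ sigma M)
    (hqp : q ≠ p) : pCoreOf q M ≤ Subgroup.centralizer (A : Set G) :=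
  Cfsg.Agent.Lib.Helper17.BGExF.centralizes_pCoreOf_core hG h hq hqp (h.rank hG).1 (h.not_ideal hG)
    (h.transHyp hG) (exc_sigmaCore_ne_bot hG h.coatom) (h.nilpotent hG) (exc_two_fpf hG h)
    (fun _ _ hB => (hB.rank hG).1) (fun _ _ hB => hB.not_ideal hG)
    (fun _ _ hB => hB.sigmaCore_inf_centralizer hG)
    (fun _ _ hB S => exc_sylow_comm hG hB S)
    (fun hne => (Cfsg.Agent.Lib.Helper16.BGLemN.pCoreOf_cyclic hG
      (fun _ _ _ _ _ hB S => exc_sylow_comm hG hB S) h.coatom hq hne).2)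

/-- **B&G Lemma 11.7**. -/
theorem exc_normal [Finite G] (hG : IsMinSimpleOddOrder G) {p : ℕ} [Fact p.Prime]
    {M A A₀ : Subgroup G} (h : Exc M p A A₀) :
    M ≤ Subgroup.normalizer ((sigmaCore M ⊔ A : Subgroup G) : Set G) := by
  refine Cfsg.Agent.Lib.Helper17.BGExG.normal_core hG h (h.nilpotent hG) (exc_two_fpf hG h) ?_
    (fun q _ hq hqp => exc_centralizes_pCoreOf hG h hq hqp)
  intro P hPM hPp hAP x hx hxp
  obtain ⟨P', hPP'⟩ := Cfsg.Agent.Lib.Helper1.BGX.exists_sylow_in_ge hPM hPp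
  exact (Cfsg.Agent.Lib.Helper24.BGExD.omega_of_comm h (h.maxElem hG) P' (exc_sylow_comm hG h P')
    (hAP.trans hPP') x (hPP' hx)).mp hxp

theorem h117 [Finite G] (hG : IsMinSimpleOddOrder G) (p : ℕ) [Fact p.Prime] : H117 G p :=
  fun _ _ _ h => exc_normal hG h

/-- All the facts of B&G section 11 needed for 12.4 and 12.5. -/
theorem excFacts [Finite G] (hG : IsMinSimpleOddOrder G) (p : ℕ) [Fact p.Prime] : ExcFacts G p :=
  excFacts_of_normal hG (h117 hG p)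

end Cfsg.Agent.Lib.Helper23.BG125
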