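/-
helper23: DEFECT-ONE CLUSTER, PART O (planner helper27), leaf DO-LOC3 `exists_pTriv_mem`:
every block of `C = C_G(P)` contains a `P`-trivial character (the canonical character: lead's `cp_canonical`
for the group `C` with the central Sylow `p`-subgroup `P`, which is the defect group of every block of `C`).
-/
import Mathlib
import Cfsg.Prelude.Def_BlockRank
import Cfsg.Agent.Lib.Helper27.DODefs
import Cfsg.Agent.Lib.Helper27.BlkAlgDefs2
import Cfsg.Agent.Lib.Helper6.SylowBlockCount
import Cfsg.Agent.Lib.Lead.CentralProdBlock3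

set_option autoImplicit false
set_option linter.unusedSectionVars false
set_option linter.style.haveILetI false

namespace Cfsg.Agent.Lib.Helper23.DOLOC3

open Cfsg Cfsg.Agent.CharLib Cfsg.Agent.Lib.Helper8.DOM Cfsg.Agent.Lib.Helper27.DO
open Cfsg.Agent.Lib.Helper6

universe u

variable {G : Type u} [Group G] [Finite G] {p : ℕ} [Fact p.Prime] {M : Ideal AlgInt}

/-- `P ≤ C_G(P)` when `P` has prime order -/
theorem le_Cz' (P : Subgroup G) (hP : Nat.card P = p) : P ≤ Cz P := by
  haveI : IsCyclic P := isCyclic_of_prime_card hP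
  letI := IsCyclic.commGroup (α := P)
  intro x hx
  rw [Subgroup.mem_centralizer_iff]
  intro y hy
  have := mul_comm (⟨y, hy⟩ : P) ⟨x, hx⟩
  exact congrArg Subtype.val this

/-- LOC3 : every block of `C` contains a `P`-trivial character. -/
theorem exists_pTriv_mem (hM : IsPModular p M) (P : Subgroup G) (hP : Nat.card P = p)
    (hSyl : ¬ p ∣ P.index) (φ : IrrCharacter (Cz P)) :
    ∃ θ' : IrrCharacter (Cz P), θ' ∈ blockOf M (φ : Cz P → ℂ) ∧ PTriv P (θ' : Cz P → ℂ) := by
  classical
  letI : Fintype (Cz P) := Fintype.ofFinite _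
  have hPC : P ≤ Cz P := le_Cz' P hP
  set D : Subgroup (Cz P) := P.subgroupOf (Cz P) with hD
  have hcen : ∀ (d : Cz P), d ∈ D → ∀ c : Cz P, c * d = d * c := by
    intro d hd c
    rw [hD, Subgroup.mem_subgroupOf] at hd
    apply Subtype.ext
    have hc := c.2
    rw [Subgroup.mem_centralizer_iff] at hc
    exact (hc d hd).symm
  haveI hDn : D.Normal := by
    constructor
    intro d hd c
    have h1 : c * d * c⁻¹ = d := by
      rw [hcen d hd c, mul_inv_cancel_right]
    rw [h1]
    exact hd
  have hDcard : Nat.card D = p := by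
    rw [hD, Nat.card_congr (Subgroup.subgroupOfEquivOfLe hPC).toEquiv, hP]
  have hDp : IsPGroup p D := IsPGroup.of_card (n := 1) (by rw [hDcard, pow_one])
  have hDidx : ¬ p ∣ D.index := by
    intro h
    apply hSyl
    have h1 : D.index = P.relIndex (Cz P) := rfl
    rw [← Subgroup.relIndex_mul_index hPC, ← h1]
    exact Dvd.dvd.mul_right h _
  have hG : D ⊔ Subgroup.centralizer (D : Set (Cz P)) = ⊤ := by
    have h1 : Subgroup.centralizer (D : Set (Cz P)) = ⊤ := by
      rw [eq_top_iff]
      intro c _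
      rw [Subgroup.mem_centralizer_iff]
      intro d hd
      exact (hcen d hd c).symm
    rw [h1, sup_top_eq]
  have hb : IsPBlock M (blockOf M (φ : Cz P → ℂ)) := ⟨φ, rfl⟩
  have hbD := isDefectGroup_of_normal_sylow hM D hDp hDidx _ hb
  obtain ⟨-, θ, hθb, hθD, -⟩ := cp_canonical hM D hDp hG _ hb hbD
  refine ⟨θ, hθb, ?_⟩
  intro x hx
  exact hθD x (by rw [hD, Subgroup.mem_subgroupOf]; exact hx)

end Cfsg.Agent.Lib.Helper23.DOLOC3
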