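/-
helper23: covering of blocks of a normal subgroup N by blocks of G.  `conjUnion N b` = union of the
G-conjugates of a block b of N; its idempotent is a G-class function with local-integer values, on
which the central character of χ takes the value 1 or 0 according as the constituents of χ_N lie in
`conjUnion N b` or not (`omegaFun_extN_conjUnion`).  Consequences: covered blocks form one orbit
(`mem_conjUnion_of_sameBlock`), Passman criterion (`passman`, `passman_forward`).
-/
import Mathlib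
import Cfsg.Agent.Lib.Lead.OddIndexBlock
import Cfsg.Agent.Lib.Helper6.NormalBlock
import Cfsg.Agent.Lib.Helper23.BlockCount
import Cfsg.Agent.Lib.Helper23.QuotDefectAux
import Cfsg.Agent.Lib.Helper6.BrauerMap
import Cfsg.Agent.Lib.Helper6.CliffordCorr
import Cfsg.Agent.Lib.Helper2.CliffordCentral

set_option autoImplicit false
open Cfsg Cfsg.Agent.CharLib Cfsg.Agent.Lib.Helper24 Cfsg.Agent.Lib.Helper6
open scoped ComplexConjugate

namespace Cfsg.Agent.Lib.Helper23

universe u

section closed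

variable {G : Type u} [Group G] [Finite G] {M : Ideal AlgInt}

/-- The idempotent coefficients of a union of blocks are local integers. -/
theorem memLocalRing_blockCoeff_of_closed [hp : M.IsPrime] (S : Set (IrrCharacter G))
    (hS : ∀ β ∈ S, ∀ β' : IrrCharacter G, SameBlock M (β : G → ℂ) (β' : G → ℂ) → β' ∈ S) (x : G) :
    MemLocalRing M (blockCoeff S x) := by
  classical
  let _ := Fintype.ofFinite G
  let _ := fintypeIrr G
  set f : IrrCharacter G → ℂ := fun β => (β : G → ℂ) 1 * conj ((β : G → ℂ) x) with hf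
  set T : Finset (IrrCharacter G) := Finset.univ.filter (fun β => β ∈ S) with hT
  set blk : IrrCharacter G → Set (IrrCharacter G) := fun β => blockOf M (β : G → ℂ) with hblk
  have h1 : blockCoeff S x = (Nat.card G : ℂ)⁻¹ * ∑ β ∈ T, f β := by
    rw [blockCoeff_eq_sum, hT, Finset.sum_filter]
  have h2 : ∑ β ∈ T, f β = ∑ b ∈ T.image blk, ∑ β ∈ T with blk β = b, f β :=
    (Finset.sum_fiberwise_of_maps_to (fun β hβ => Finset.mem_image_of_mem blk hβ) f).symm
  rw [h1, h2, Finset.mul_sum]
  apply sum_memLocalRing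
  intro b hb
  obtain ⟨β₀, hβ₀T, rfl⟩ := Finset.mem_image.mp hb
  have hβ₀S : β₀ ∈ S := (Finset.mem_filter.mp hβ₀T).2
  have h3 : (Nat.card G : ℂ)⁻¹ * ∑ β ∈ T with blk β = blk β₀, f β =
      blockCoeff (blockOf M (β₀ : G → ℂ)) x := by
    rw [blockCoeff_eq_sum, ← Finset.sum_filter]
    congr 1
    apply Finset.sum_congr _ (fun _ _ => rfl)
    ext β
    simp only [Finset.mem_filter, Finset.mem_univ, true_and, hT]
    constructor
    · rintro ⟨_, hβ⟩
      have : β ∈ blk β := mem_blockOf_self β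
      rw [hβ] at this
      exact this
    · intro hβ
      exact ⟨hS β₀ hβ₀S β hβ, blockOf_eq_of_mem ⟨β₀, rfl⟩ hβ⟩
  rw [h3]
  exact memLocalRing_blockCoeff_blockOf β₀ x

end closed

section union

variable {G : Type u} [Group G] (N : Subgroup G) [hN : N.Normal] {M : Ideal AlgInt}

/-- The union of the `G`-conjugates of a set of irreducible characters of the normal subgroup `N`. -/
def conjUnion (b : Set (IrrCharacter N)) : Set (IrrCharacter N) :=
  {ψ | ∃ g : G, ∃ θ ∈ b, (ψ : N → ℂ) = conjFun N g (θ : N → ℂ)}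

theorem subset_conjUnion (b : Set (IrrCharacter N)) : b ⊆ conjUnion N b := by
  intro θ hθ
  exact ⟨1, θ, hθ, (conjFun_one N _).symm⟩

theorem conjFun_mem_conjUnion {b : Set (IrrCharacter N)} {ψ : IrrCharacter N}
    (hψ : ψ ∈ conjUnion N b) (g : G) :
    (⟨conjFun N g (ψ : N → ℂ), isIrrCharacter_conjFun N ψ.2 g⟩ : IrrCharacter N) ∈
      conjUnion N b := by
  obtain ⟨k, θ, hθ, hk⟩ := hψ
  refine ⟨k * g, θ, hθ, ?_⟩
  change conjFun N g (ψ : N → ℂ) = _
  rw [hk, conjFun_mul]

theorem mem_conjUnion_of_conjFun {b : Set (IrrCharacter N)} {ψ : IrrCharacter N} (g : G)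
    (hψ : (⟨conjFun N g (ψ : N → ℂ), isIrrCharacter_conjFun N ψ.2 g⟩ : IrrCharacter N) ∈
      conjUnion N b) : ψ ∈ conjUnion N b := by
  have h1 := conjFun_mem_conjUnion N hψ g⁻¹
  have h2 : (⟨conjFun N g⁻¹ (conjFun N g (ψ : N → ℂ)), isIrrCharacter_conjFun N
      (isIrrCharacter_conjFun N ψ.2 g) g⁻¹⟩ : IrrCharacter N) = ψ := by
    apply Subtype.ext
    exact conjFun_inv_conjFun N g _
  rw [← h2]
  exact h1

theorem sameBlock_conjFun {θ θ' : N → ℂ} (h : SameBlock M θ θ') (g : G) :
    SameBlock M (conjFun N g θ) (conjFun N g θ') := by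
  intro n
  rw [centralChar_conjFun, centralChar_conjFun]
  exact h _

variable [Finite G]

/-- The union of the conjugates of a block of `N` is a union of blocks of `N`. -/
theorem conjUnion_closed [hp : M.IsPrime] {b : Set (IrrCharacter N)} (hb : IsPBlock M b)
    (β : IrrCharacter N) (hβ : β ∈ conjUnion N b) (β' : IrrCharacter N)
    (h : SameBlock M (β : N → ℂ) (β' : N → ℂ)) : β' ∈ conjUnion N b := by
  obtain ⟨g, θ, hθ, hg⟩ := hβ
  have h1 := sameBlock_conjFun N h g⁻¹
  rw [hg, conjFun_inv_conjFun] at h1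
  set θ'' : IrrCharacter N := ⟨conjFun N g⁻¹ (β' : N → ℂ), isIrrCharacter_conjFun N β'.2 g⁻¹⟩
    with hθ''
  have h2 : θ'' ∈ b := by
    have h3 : blockOf M (θ : N → ℂ) = b := blockOf_eq_of_mem hb hθ
    rw [← h3]
    exact h1
  refine ⟨g, θ'', h2, ?_⟩
  change (β' : N → ℂ) = conjFun N g (conjFun N g⁻¹ (β' : N → ℂ))
  rw [conjFun_conjFun_inv]

theorem blockCoeff_conjUnion_conjN (b : Set (IrrCharacter N)) (g : G) (n : N) :
    blockCoeff (conjUnion N b) (conjN N g n) = blockCoeff (conjUnion N b) n := by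
  apply blockCoeff_twist_invariant (conjUnion N b) (conjN N g) (conjN_surjective N g)
    (conjN_one N g)
  intro ψ hψ
  exact ⟨_, conjFun_mem_conjUnion N hψ g, fun n => rfl⟩

end union

section omega

variable {G : Type u} [Group G] [Fintype G] (N : Subgroup G) [hN : N.Normal] [Fintype N]
  {M : Ideal AlgInt}

theorem extN_conjUnion_isClassFunction (b : Set (IrrCharacter N)) :
    IsClassFunction G (extN N (blockCoeff (conjUnion N b))) :=
  extN_isClassFunction N (blockCoeff_conjUnion_conjN N b)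

theorem extN_conjUnion_memLocalRing [hp : M.IsPrime] {b : Set (IrrCharacter N)}
    (hb : IsPBlock M b) (g : G) : MemLocalRing M (extN N (blockCoeff (conjUnion N b)) g) := by
  by_cases hg : g ∈ N
  · have := extN_apply_mem N (blockCoeff (conjUnion N b)) ⟨g, hg⟩
    rw [show ((⟨g, hg⟩ : N) : G) = g from rfl] at this
    rw [this]
    exact memLocalRing_blockCoeff_of_closed _ (conjUnion_closed N hb) _
  · rw [extN_apply_not_mem N _ hg]
    exact memLocalRing_zero

/-- The value of the central character of `χ` on the orbit idempotent of `b`. -/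
theorem omegaFun_extN_conjUnion (b : Set (IrrCharacter N)) [DecidablePred (· ∈ conjUnion N b)]
    (χ : IrrCharacter G) (θ : IrrCharacter N)
    (hover : classInner (fun n : N => (χ : G → ℂ) n) (θ : N → ℂ) ≠ 0) :
    omegaFun (χ : G → ℂ) (extN N (blockCoeff (conjUnion N b))) =
      if θ ∈ conjUnion N b then 1 else 0 := by
  rw [omegaFun_extN, omega_restrict_eq N χ.2 θ.2 hover _ (blockCoeff_conjUnion_conjN N b)]
  exact omegaFun_blockCoeff (conjUnion N b) θ

/-- **Covered blocks form one orbit**: if `χ, χ' ∈ B`, `θ ∈ b` lies under `χ` and `ψ` lies under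
`χ'`, then `ψ` is conjugate to a member of `b`. -/
theorem mem_conjUnion_of_sameBlock {p : ℕ} (hM : IsPModular p M) {b : Set (IrrCharacter N)}
    (hb : IsPBlock M b) (χ χ' : IrrCharacter G)
    (hsame : SameBlock M (χ : G → ℂ) (χ' : G → ℂ)) (θ : IrrCharacter N) (hθ : θ ∈ b)
    (hcon : classInner (fun n : N => (χ : G → ℂ) n) (θ : N → ℂ) ≠ 0) (ψ : IrrCharacter N)
    (hψ : classInner (fun n : N => (χ' : G → ℂ) n) (ψ : N → ℂ) ≠ 0) : ψ ∈ conjUnion N b := by
  classical
  have hp : M.IsPrime := isPrime_of_isPModular hM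
  have key := memLocalIdeal_omegaFun_sub (M := M) χ χ' hsame
    (extN_conjUnion_isClassFunction N b) (extN_conjUnion_memLocalRing N hb)
  rw [omegaFun_extN_conjUnion N b χ θ hcon, omegaFun_extN_conjUnion N b χ' ψ hψ,
    if_pos (subset_conjUnion N b hθ)] at key
  by_contra hne
  rw [if_neg hne, sub_zero] at key
  exact not_memLocalIdeal_one key

end omega

section passman

variable {G : Type u} [Group G] [Fintype G] (N : Subgroup G) [hN : N.Normal] [Fintype N]
  {M : Ideal AlgInt}

/-- If the induced central characters of `ψ, θ ∈ Irr(N)` agree modulo the local ideal on `N`, then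
their central character functionals agree on restrictions of class functions of `G` supported
on `N`. -/
theorem memLocalIdeal_omegaFun_resFun_sub_of_forall [hp : M.IsPrime] (ψ θ : IrrCharacter N)
    (h : ∀ n : N, MemLocalIdeal M (inducedCentralChar N (ψ : N → ℂ) (n : G) -
      inducedCentralChar N (θ : N → ℂ) (n : G)))
    {a : G → ℂ} (ha : IsClassFunction G a) (haR : ∀ x, MemLocalRing M (a x))
    (hsupp : ∀ g, g ∉ N → a g = 0) :
    MemLocalIdeal M (omegaFun (ψ : N → ℂ) (resFun N a) - omegaFun (θ : N → ℂ) (resFun N a)) := by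
  classical
  let _ : Fintype (ConjClasses G) := Fintype.ofFinite _
  have h1 := classFunction_eq_sum_classInd ha
  have h2 : ∀ ξ : IrrCharacter N, omegaFun (ξ : N → ℂ) (resFun N a) = ∑ C : ConjClasses G,
      a (Quotient.out C) * omegaFun (ξ : N → ℂ) (resFun N (classInd (Quotient.out C))) := by
    intro ξ
    conv_lhs => rw [h1]
    rw [map_sum, omegaFun_sum]
    apply Finset.sum_congr rfl
    intro C _
    rw [map_smul, omegaFun_smul]
  rw [h2 ψ, h2 θ, ← Finset.sum_sub_distrib]
  apply sum_memLocalIdeal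
  intro C _
  rw [← mul_sub]
  by_cases hC : Quotient.out C ∈ N
  · apply memLocalIdeal_mul_left (haR _)
    rw [← inducedCentralChar_eq_omegaFun, ← inducedCentralChar_eq_omegaFun]
    exact h ⟨_, hC⟩
  · rw [hsupp _ hC, zero_mul]
    exact memLocalIdeal_zero hp.one_notMem

theorem resFun_extN (a : N → ℂ) : resFun N (extN N a) = a := by
  funext n
  rw [resFun_apply, extN_apply_mem]

/-- **Passman's criterion**, forward direction. -/
theorem passman_forward {p : ℕ} (hM : IsPModular p M) {B : Set (IrrCharacter G)}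
    (hB : IsPBlock M B) {b : Set (IrrCharacter N)} (hb : IsPBlock M b)
    (χ₀ : IrrCharacter G) (hχ₀ : χ₀ ∈ B) (θ₀ : IrrCharacter N) (hθ₀ : θ₀ ∈ b)
    (hcon : classInner (fun n : N => (χ₀ : G → ℂ) n) (θ₀ : N → ℂ) ≠ 0)
    (χ : IrrCharacter G) (hχ : χ ∈ B) (θ : IrrCharacter N) (hθ : θ ∈ b) (n : N) :
    MemLocalIdeal M (centralChar (χ : G → ℂ) (n : G) -
      inducedCentralChar N (θ : N → ℂ) (n : G)) := by
  classical
  have hp : M.IsPrime := isPrime_of_isPModular hM
  have h0 := (Cfsg.Agent.Lib.Helper2.constituent_iff_centralChar N χ₀ θ₀).mp hcon n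
  obtain ⟨χ₁, rfl⟩ := hB
  obtain ⟨θ₁, rfl⟩ := hb
  have hs1 : SameBlock M (χ : G → ℂ) (χ₀ : G → ℂ) := sameBlock_trans (sameBlock_symm hχ) hχ₀
  have hs2 : SameBlock M (θ₀ : N → ℂ) (θ : N → ℂ) := sameBlock_trans (sameBlock_symm hθ₀) hθ
  have h1 := hs1 (n : G)
  have h2 := memLocalIdeal_omegaFun_sub (M := M) θ₀ θ hs2
    (resFun_isClassFunction N (classInd_isClassFunction (n : G)))
    (fun x => memLocalRing_classInd (n : G) _)
  rw [← inducedCentralChar_eq_omegaFun, ← inducedCentralChar_eq_omegaFun] at h2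
  have h3 := memLocalIdeal_add h1 h2
  rw [h0] at h3
  have h4 : centralChar (χ : G → ℂ) (n : G) - inducedCentralChar N (θ₀ : N → ℂ) (n : G) +
      (inducedCentralChar N (θ₀ : N → ℂ) (n : G) - inducedCentralChar N (θ : N → ℂ) (n : G)) =
      centralChar (χ : G → ℂ) (n : G) - inducedCentralChar N (θ : N → ℂ) (n : G) := by ring
  rwa [h4] at h3

/-- An irreducible character of `G` has an irreducible constituent on `N`. -/
theorem exists_constituent_res (χ : IrrCharacter G) :
    ∃ ψ : IrrCharacter N, classInner (fun n : N => (χ : G → ℂ) n) (ψ : N → ℂ) ≠ 0 := by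
  have hchar : IsCharacter N (resFun N (χ : G → ℂ)) :=
    isCharacter_resFun N (IsIrrCharacter.isCharacter χ.2)
  have hne : resFun N (χ : G → ℂ) ≠ 0 := by
    intro h
    have := congrFun h 1
    rw [resFun_apply] at this
    exact irr_apply_one_ne_zero χ this
  obtain ⟨ψ, hψ, h⟩ := IsCharacter.exists_constituent hchar hne
  exact ⟨⟨ψ, hψ⟩, h⟩

/-- **Passman's criterion**. -/
theorem passman {p : ℕ} (hM : IsPModular p M) {B : Set (IrrCharacter G)}
    (hB : IsPBlock M B) {b : Set (IrrCharacter N)} (hb : IsPBlock M b) :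
    (∃ χ ∈ B, ∃ θ ∈ b, classInner (fun n : N => (χ : G → ℂ) n) (θ : N → ℂ) ≠ 0) ↔
      ∀ χ ∈ B, ∀ θ ∈ b, ∀ n : N, MemLocalIdeal M (centralChar (χ : G → ℂ) (n : G) -
        inducedCentralChar N (θ : N → ℂ) (n : G)) := by
  classical
  have hp : M.IsPrime := isPrime_of_isPModular hM
  constructor
  · rintro ⟨χ₀, hχ₀, θ₀, hθ₀, hcon⟩ χ hχ θ hθ n
    exact passman_forward N hM hB hb χ₀ hχ₀ θ₀ hθ₀ hcon χ hχ θ hθ n
  · intro H
    obtain ⟨χ, hχB⟩ : ∃ χ : IrrCharacter G, χ ∈ B := by
      obtain ⟨χ₁, rfl⟩ := hB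
      exact ⟨χ₁, mem_blockOf_self χ₁⟩
    obtain ⟨θ, hθb⟩ : ∃ θ : IrrCharacter N, θ ∈ b := by
      obtain ⟨θ₁, h⟩ := hb
      exact ⟨θ₁, by rw [h]; exact mem_blockOf_self θ₁⟩
    obtain ⟨ψ, hψ⟩ := exists_constituent_res N χ
    have h0 := (Cfsg.Agent.Lib.Helper2.constituent_iff_centralChar N χ ψ).mp hψ
    have h1 : ∀ n : N, MemLocalIdeal M (inducedCentralChar N (ψ : N → ℂ) (n : G) -
        inducedCentralChar N (θ : N → ℂ) (n : G)) := by
      intro n
      rw [← h0 n]
      exact H χ hχB θ hθb n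
    have key := memLocalIdeal_omegaFun_resFun_sub_of_forall N ψ θ h1
      (extN_conjUnion_isClassFunction N b) (extN_conjUnion_memLocalRing N hb)
      (fun g hg => extN_apply_not_mem N _ hg)
    rw [resFun_extN, omegaFun_blockCoeff, omegaFun_blockCoeff,
      if_pos (subset_conjUnion N b hθb)] at key
    have hψS : ψ ∈ conjUnion N b := by
      by_contra hne
      rw [if_neg hne, zero_sub] at key
      have := memLocalIdeal_neg key
      rw [neg_neg] at this
      exact not_memLocalIdeal_one this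
    obtain ⟨g, θ', hθ', hg⟩ := hψS
    refine ⟨χ, hχB, θ', hθ', ?_⟩
    have hcls : IsClassFunction G (χ : G → ℂ) :=
      IsCharacter.isClassFunction (IsIrrCharacter.isCharacter χ.2)
    have h2 := classInner_resFun_conjFun N hcls g (θ' : N → ℂ)
    rw [← hg] at h2
    change classInner (resFun N (χ : G → ℂ)) (θ' : N → ℂ) ≠ 0
    rw [← h2]
    exact hψ

end passman

end Cfsg.Agent.Lib.Helper23
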