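import Mathlib
import Cfsg.Agent.Lib.Lead.BrauerPairBridge
import Cfsg.Agent.Lib.Helper24.BrauerPairs
import Cfsg.Agent.Lib.Helper24.StabTransport
import Cfsg.Agent.Lib.Helper6.BlockIso
import Cfsg.Agent.Lib.Helper6.SylowBlockCount

/-!
helper23: blocks of centralizers of `p`-subgroups induce blocks of `G` (no commutativity needed),
Brauer pairs versus induced blocks, and transitivity of block induction through `C_H(D) = C_G(D)`.
-/

set_option autoImplicit false

namespace Cfsg.Agent.Lib.Helper23.PairInd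

open Cfsg Cfsg.Agent.CharLib Cfsg.Agent.Lib.Helper24 Cfsg.Agent.Lib.Helper6
open scoped ComplexConjugate

universe u

section bridge

variable {G : Type u} [Group G] [Finite G] {M : Ideal AlgInt}

/-- Every block of the centralizer of a `p`-subgroup induces a block of `G`. -/
theorem inducedBlockDefined_centralizer {p : ℕ} [hpp : Fact p.Prime] (hM : IsPModular p M)
    (Q : Subgroup G) (hQ : IsPGroup p Q)
    (e : Set (IrrCharacter (Subgroup.centralizer (Q : Set G)))) (he : IsPBlock M e) :
    InducedBlockDefined M (Subgroup.centralizer (Q : Set G)) e := by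
  classical
  let _ := Fintype.ofFinite G
  let _ : Fintype (Subgroup.centralizer (Q : Set G)) := Fintype.ofFinite _
  have hprime : M.IsPrime := isPrime_of_isPModular hM
  obtain ⟨ξ₀, rfl⟩ := he
  obtain ⟨χ, hχ⟩ := exists_irr_of_algHom_mod (M := M)
    (fun a => omegaFun (ξ₀ : Subgroup.centralizer (Q : Set G) → ℂ)
      (resFun (Subgroup.centralizer (Q : Set G)) a))
    (fun a ha haR => memLocalRing_omegaFun ξ₀
      (resFun_isClassFunction (Subgroup.centralizer (Q : Set G)) ha) (fun x => haR x))
    (fun a b => by simp only [map_sub, omegaFun_sub])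
    (fun c a => by simp only [map_smul, omegaFun_smul])
    (fun a b ha haR hb hbR => memLocalIdeal_brauer_conv hM Q hQ ha haR hb hbR ξ₀)
    (by
      have h1 := omegaFun_resFun_classInd_one (Subgroup.centralizer (Q : Set G)) ξ₀
      simp only [h1]
      exact not_memLocalIdeal_one)
  refine ⟨blockOf M (χ : G → ℂ), ⟨ξ₀, rfl⟩, ⟨χ, rfl⟩, ?_⟩
  intro ξ hξ χ' hχ' g
  have h1 := memLocalIdeal_omegaFun_sub ξ₀ ξ hξ
    (resFun_isClassFunction (Subgroup.centralizer (Q : Set G)) (classInd_isClassFunction g))
    (fun x => memLocalRing_classInd g _)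
  have h2 := hχ (classInd g) (classInd_isClassFunction g) (memLocalRing_classInd g)
  simp only [omegaFun_classInd] at h2
  have h3 := hχ' g
  rw [inducedCentralChar_eq_omegaFun]
  have h4 := memLocalIdeal_add (memLocalIdeal_add (memLocalIdeal_neg h1) h2) h3
  have h5 : -(omegaFun (ξ₀ : Subgroup.centralizer (Q : Set G) → ℂ)
          (resFun (Subgroup.centralizer (Q : Set G)) (classInd g)) -
        omegaFun (ξ : Subgroup.centralizer (Q : Set G) → ℂ)
          (resFun (Subgroup.centralizer (Q : Set G)) (classInd g))) +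
      (omegaFun (ξ₀ : Subgroup.centralizer (Q : Set G) → ℂ)
          (resFun (Subgroup.centralizer (Q : Set G)) (classInd g)) - centralChar (χ : G → ℂ) g) +
      (centralChar (χ : G → ℂ) g - centralChar (χ' : G → ℂ) g) =
      omegaFun (ξ : Subgroup.centralizer (Q : Set G) → ℂ)
          (resFun (Subgroup.centralizer (Q : Set G)) (classInd g)) -
        centralChar (χ' : G → ℂ) g := by ring
  rwa [h5] at h4

/-- A Brauer pair `(Q, e)` of `B`: `e` induces `B`. -/
theorem isInducedBlock_of_isBrauerPairOf' {p : ℕ} [hpp : Fact p.Prime] (hM : IsPModular p M)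
    (B : Set (IrrCharacter G)) (Q : Subgroup G)
    (e : Set (IrrCharacter (Subgroup.centralizer (Q : Set G))))
    (h : IsBrauerPairOf p M B Q e) :
    IsInducedBlock M (Subgroup.centralizer (Q : Set G)) e B := by
  classical
  let _ : Fintype G := Fintype.ofFinite G
  let _ : Fintype (Subgroup.centralizer (Q : Set G)) := Fintype.ofFinite _
  have hprime : M.IsPrime := isPrime_of_isPModular hM
  obtain ⟨⟨hQp, he⟩, hB, hom⟩ := h
  obtain ⟨B', hB'⟩ := inducedBlockDefined_centralizer hM Q hQp e he
  obtain ⟨ξ₀, rfl⟩ := he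
  obtain ⟨χ', hχ'⟩ := hB'.2.1
  obtain ⟨χ₀, hχ₀⟩ := hB
  have hξ₀ : ξ₀ ∈ blockOf M (ξ₀ : Subgroup.centralizer (Q : Set G) → ℂ) := mem_blockOf_self ξ₀
  have hχ'mem : χ' ∈ B' := by rw [hχ']; exact mem_blockOf_self χ'
  have h1 := memLocalIdeal_omegaFun_resFun_sub_of_induced (M := M)
    (Subgroup.centralizer (Q : Set G)) hB' hξ₀ hχ'mem (blockCoeff_isClassFunction B)
    (fun x => by rw [hχ₀]; exact memLocalRing_blockCoeff_blockOf χ₀ x)
  rw [omegaFun_blockCoeff, ← brauerOmega_eq_omegaFun] at h1
  have h2 := hom ξ₀ hξ₀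
  by_cases hmem : χ' ∈ B
  · have : B' = B := isPBlock_eq_of_mem hB'.2.1 ⟨χ₀, hχ₀⟩ hχ'mem hmem
    rw [← this]
    exact hB'
  · exfalso
    rw [if_neg hmem, sub_zero] at h1
    have h3 := memLocalIdeal_sub h1 h2
    rw [sub_sub_cancel] at h3
    exact not_memLocalIdeal_one h3

end bridge

section trans

variable {G : Type u} [Group G] [Finite G] {M : Ideal AlgInt}

/-- **Transitivity of block induction** through the centralizer of a subgroup `D₀` of `H` with
`C_G(D₀) ≤ H`. -/
theorem isInducedBlock_trans_cent [hprime : M.IsPrime] (H : Subgroup G) (D₀ : Subgroup H)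
    (hC : Subgroup.centralizer ((D₀.map H.subtype : Subgroup G) : Set G) ≤ H)
    (f₀ : Set (IrrCharacter (Subgroup.centralizer (D₀ : Set H))))
    (b : Set (IrrCharacter H)) (B : Set (IrrCharacter G))
    (h₁ : IsInducedBlock M (Subgroup.centralizer (D₀ : Set H)) f₀ b)
    (h₂ : IsInducedBlock M (Subgroup.centralizer ((D₀.map H.subtype : Subgroup G) : Set G))
      (BlockIso.pullBlock (centEquivT H (D₀.map H.subtype) D₀ rfl hC).symm f₀) B) :
    IsInducedBlock M H b B := by
  classical
  let _ : Fintype G := Fintype.ofFinite G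
  let _ : Fintype H := Fintype.ofFinite H
  let _ : Fintype (Subgroup.centralizer (D₀ : Set H)) := Fintype.ofFinite _
  let _ : Fintype (Subgroup.centralizer ((D₀.map H.subtype : Subgroup G) : Set G)) :=
    Fintype.ofFinite _
  set κ := centEquivT H (D₀.map H.subtype) D₀ rfl hC with hκ
  refine ⟨h₁.2.1, h₂.2.1, ?_⟩
  intro ξ hξ χ hχ g
  obtain ⟨θ₀, hf₀⟩ := h₁.1
  have hθ₀ : θ₀ ∈ f₀ := by rw [hf₀]; exact mem_blockOf_self θ₀
  -- the transported character
  set θ' : IrrCharacter (Subgroup.centralizer ((D₀.map H.subtype : Subgroup G) : Set G)) :=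
    irrCompIso κ.symm θ₀ with hθ'
  have hθ'mem : θ' ∈ BlockIso.pullBlock κ.symm f₀ := BlockIso.irrCompIso_mem_pullBlock κ.symm hθ₀
  have hcls : IsClassFunction G (classInd g) := classInd_isClassFunction g
  have hR : ∀ x, MemLocalRing M (classInd g x) := memLocalRing_classInd g
  have e1 := memLocalIdeal_omegaFun_resFun_sub_of_induced (M := M)
    (Subgroup.centralizer (D₀ : Set H)) h₁ hθ₀ hξ
    (resFun_isClassFunction H hcls) (fun x => hR _)
  have e2 := memLocalIdeal_omegaFun_resFun_sub_of_induced (M := M)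
    (Subgroup.centralizer ((D₀.map H.subtype : Subgroup G) : Set G)) h₂ hθ'mem hχ hcls hR
  have e3 : omegaFun (θ₀ : Subgroup.centralizer (D₀ : Set H) → ℂ)
      (resFun (Subgroup.centralizer (D₀ : Set H)) (resFun H (classInd g))) =
      omegaFun (θ' : Subgroup.centralizer ((D₀.map H.subtype : Subgroup G) : Set G) → ℂ)
        (resFun (Subgroup.centralizer ((D₀.map H.subtype : Subgroup G) : Set G)) (classInd g)) := by
    unfold omegaFun
    congr 1
    · apply Fintype.sum_equiv κ.toEquiv
      intro c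
      rw [hθ', irrCompIso_apply]
      simp only [MulEquiv.toEquiv_eq_coe, MulEquiv.coe_toEquiv, MulEquiv.symm_apply_apply]
      rfl
  rw [inducedCentralChar_eq_omegaFun]
  rw [omegaFun_classInd] at e2
  have e4 := memLocalIdeal_add (memLocalIdeal_neg e1) e2
  rw [e3] at e4
  have e5 : -(omegaFun (θ' : Subgroup.centralizer ((D₀.map H.subtype : Subgroup G) : Set G) → ℂ)
        (resFun (Subgroup.centralizer ((D₀.map H.subtype : Subgroup G) : Set G)) (classInd g)) -
        omegaFun (ξ : H → ℂ) (resFun H (classInd g))) +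
      (omegaFun (θ' : Subgroup.centralizer ((D₀.map H.subtype : Subgroup G) : Set G) → ℂ)
        (resFun (Subgroup.centralizer ((D₀.map H.subtype : Subgroup G) : Set G)) (classInd g)) -
        centralChar (χ : G → ℂ) g) =
      omegaFun (ξ : H → ℂ) (resFun H (classInd g)) - centralChar (χ : G → ℂ) g := by ring
  rwa [e5] at e4

end trans

end Cfsg.Agent.Lib.Helper23.PairInd
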