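/-
helper23: applications of the covering lib: unique covering block for p-power index
(`existsUnique_covering_block`), blocks over a normal p-prime subgroup (`block_of_inflation`), blocks of
Q C_G(Q) for a normal p-subgroup Q (`induced_of_covering_QCQ`).
-/
import Mathlib
import Cfsg.Agent.Lib.Helper23.Covering
import Cfsg.Agent.Lib.Helper6.NormalPBlock
import Cfsg.Agent.Lib.Helper6.QuotBlock
import Cfsg.Agent.Lib.Lead.BlockBasic
import Cfsg.Agent.Lib.Lead.CharCenter

set_option autoImplicit false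
open Cfsg Cfsg.Agent.CharLib Cfsg.Agent.Lib.Helper24 Cfsg.Agent.Lib.Helper6
open scoped ComplexConjugate

namespace Cfsg.Agent.Lib.Helper23

universe u

section ppower

variable {G : Type u} [Group G] [Fintype G] (N : Subgroup G) [hN : N.Normal] [Fintype N]
  {M : Ideal AlgInt}

/-- Every irreducible character of a normal subgroup lies under an irreducible character. -/
theorem exists_irr_over_constituent (θ : IrrCharacter N) :
    ∃ χ : IrrCharacter G, classInner (fun n : N => (χ : G → ℂ) n) (θ : N → ℂ) ≠ 0 := by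
  classical
  have hθc : IsCharacter N (θ : N → ℂ) := IsIrrCharacter.isCharacter θ.2
  have hΦ : IsCharacter G (indFun N (θ : N → ℂ)) := IsCharacter.indFun N hθc
  have hΦ0 : indFun N (θ : N → ℂ) ≠ 0 := by
    intro h0
    have h1 := Cfsg.Agent.Lib.Helper6.indFun_apply_one N (θ : N → ℂ)
    rw [h0, Pi.zero_apply] at h1
    have h2 : (Nat.card N : ℂ)⁻¹ ≠ 0 := inv_ne_zero (by exact_mod_cast Nat.card_pos.ne')
    have h3 : (Nat.card G : ℂ) ≠ 0 := by exact_mod_cast Nat.card_pos.ne'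
    have h4 : (θ : N → ℂ) 1 ≠ 0 := irr_apply_one_ne_zero θ
    exact mul_ne_zero (mul_ne_zero h2 h3) h4 h1.symm
  obtain ⟨χ, hχ, h⟩ := IsCharacter.exists_constituent hΦ hΦ0
  refine ⟨⟨χ, hχ⟩, ?_⟩
  rw [frobenius_reciprocity N (θ : N → ℂ)
    (IsCharacter.isClassFunction (IsIrrCharacter.isCharacter hχ))] at h
  intro h0
  apply h
  rw [← Cfsg.Agent.CharLib.classInner_conj_symm]
  change conj (classInner (fun n : N => χ n) (θ : N → ℂ)) = 0
  rw [h0, map_zero]

/-- If `G / N` is a `p`-group, the `p`-regular elements lie in `N`. -/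
theorem mem_of_pRegular_of_index {p : ℕ} [hpp : Fact p.Prime] (hidx : ∃ k : ℕ, N.index = p ^ k)
    {x : G} (hx : ¬ p ∣ orderOf x) : x ∈ N := by
  obtain ⟨k, hk⟩ := hidx
  rw [← QuotientGroup.eq_one_iff, ← orderOf_eq_one_iff]
  have h1 : orderOf ((x : G) : G ⧸ N) ∣ orderOf x := orderOf_map_dvd (QuotientGroup.mk' _) x
  have h2 : orderOf ((x : G) : G ⧸ N) ∣ p ^ k := by
    rw [← hk, Subgroup.index_eq_card]
    exact orderOf_dvd_natCard _
  obtain ⟨j, -, hj⟩ := (Nat.dvd_prime_pow hpp.out).mp h2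
  rcases Nat.eq_zero_or_pos j with rfl | hj0
  · rw [hj, pow_zero]
  · exfalso
    apply hx
    refine dvd_trans ?_ h1
    rw [hj]
    exact dvd_pow_self p hj0.ne'

/-- If `G / N` is a `p`-group, each block of `N` is covered by a unique block of `G`. -/
theorem existsUnique_covering_block (p : ℕ) [Fact p.Prime] (hM : Cfsg.IsPModular p M)
    (hidx : ∃ k : ℕ, N.index = p ^ k) (b : Set (Cfsg.IrrCharacter N)) (hb : Cfsg.IsPBlock M b) :
    ∃! B : Set (Cfsg.IrrCharacter G), Cfsg.IsPBlock M B ∧ ∃ χ ∈ B, ∃ θ ∈ b,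
      Cfsg.classInner (fun n : N => (χ : G → ℂ) n) (θ : N → ℂ) ≠ 0 := by
  classical
  have hp : M.IsPrime := isPrime_of_isPModular hM
  obtain ⟨θ, hθb⟩ : ∃ θ : IrrCharacter N, θ ∈ b := by
    obtain ⟨θ₁, h⟩ := hb
    exact ⟨θ₁, by rw [h]; exact mem_blockOf_self θ₁⟩
  obtain ⟨χ, hχ⟩ := exists_irr_over_constituent N θ
  refine ⟨blockOf M (χ : G → ℂ), ⟨⟨χ, rfl⟩, χ, mem_blockOf_self χ, θ, hθb, hχ⟩, ?_⟩
  rintro B' ⟨hB', χ', hχ', θ', hθ', hcon'⟩
  have hB : IsPBlock M (blockOf M (χ : G → ℂ)) := ⟨χ, rfl⟩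
  have hsame : SameBlock M (χ : G → ℂ) (χ' : G → ℂ) := by
    apply sameBlock_of_forall_pRegular hM χ χ'
    intro g hg
    have hgN : g ∈ N := mem_of_pRegular_of_index N hidx hg
    have h1 := passman_forward N hM hB hb χ (mem_blockOf_self χ) θ hθb hχ χ
      (mem_blockOf_self χ) θ hθb ⟨g, hgN⟩
    have h2 := passman_forward N hM hB' hb χ' hχ' θ' hθ' hcon' χ' hχ' θ hθb ⟨g, hgN⟩
    have h3 := memLocalIdeal_sub h1 h2
    rwa [sub_sub_sub_cancel_right] at h3
  exact isPBlock_eq_of_mem hB' hB hχ' hsame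

end ppower

section pprime

variable {G : Type u} [Group G] [Finite G] (N : Subgroup G) [hN : N.Normal] {M : Ideal AlgInt}

theorem sum_comp_mk [Fintype G] [Fintype (G ⧸ N)] (F : G ⧸ N → ℂ) :
    ∑ g : G, F (g : G ⧸ N) = (Nat.card N : ℂ) * ∑ y : G ⧸ N, F y := by
  classical
  let _ : Fintype N := Fintype.ofFinite N
  rw [sum_eq_sum_quotient_mul N, Finset.mul_sum]
  apply Finset.sum_congr rfl
  intro q _
  have h1 : ∀ z : N, F ((q.out * (z : G) : G) : G ⧸ N) = F q := by
    intro z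
    rw [QuotientGroup.mk_mul_of_mem _ z.2, QuotientGroup.out_eq']
  rw [Finset.sum_congr rfl (fun z _ => h1 z), Finset.sum_const, Finset.card_univ,
    nsmul_eq_mul, Nat.card_eq_fintype_card]

/-- Over a normal `p'`-subgroup, the block of an inflated character consists of inflations of the
characters of a block of the quotient. -/
theorem block_of_inflation (p : ℕ) [Fact p.Prime] (hM : Cfsg.IsPModular p M)
    (hNp : ¬ p ∣ Nat.card N) (χ : Cfsg.IrrCharacter (G ⧸ N)) (ψ : Cfsg.IrrCharacter G)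
    (hψ : ψ ∈ Cfsg.blockOf M ((χ : G ⧸ N → ℂ) ∘ QuotientGroup.mk)) :
    ∃ ψ' : Cfsg.IrrCharacter (G ⧸ N), (ψ : G → ℂ) = (ψ' : G ⧸ N → ℂ) ∘ QuotientGroup.mk ∧
      Cfsg.SameBlock M (χ : G ⧸ N → ℂ) (ψ' : G ⧸ N → ℂ) := by
  classical
  let _ := Fintype.ofFinite G
  let _ : Fintype N := Fintype.ofFinite N
  let _ : Fintype (G ⧸ N) := Fintype.ofFinite _
  have hp : M.IsPrime := isPrime_of_isPModular hM
  set χG : IrrCharacter G := Cfsg.Agent.Lib.Helper25.inflateIrr N χ with hχG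
  have hsame : SameBlock M (χG : G → ℂ) (ψ : G → ℂ) := hψ
  -- step 1: `N ≤ ker ψ`
  have hone : IsIrrCharacter N (fun _ : N => (1 : ℂ)) := isIrrCharacter_one N
  have hcard0 : (Nat.card N : ℂ) ≠ 0 := Nat.cast_ne_zero.mpr Nat.card_pos.ne'
  have h1 : classInner (resFun N (χG : G → ℂ)) (fun _ : N => (1 : ℂ)) ≠ 0 := by
    have h2 : resFun N (χG : G → ℂ) = fun _ : N => (χ : G ⧸ N → ℂ) 1 := by
      funext n
      rw [resFun_apply, hχG, Cfsg.Agent.Lib.Helper25.inflateIrr_apply]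
      exact congrArg _ ((QuotientGroup.eq_one_iff (n : G)).mpr n.2)
    rw [h2]
    unfold classInner
    simp only [map_one, mul_one, Finset.sum_const, Finset.card_univ, nsmul_eq_mul]
    rw [← Nat.card_eq_fintype_card, ← mul_assoc, inv_mul_cancel₀ hcard0, one_mul]
    exact irr_apply_one_ne_zero χ
  have h3 := (constituent_iff_of_sameBlock hM N hNp χG ψ hsame hone).mp h1
  have hinv : ∀ g : G, conjFun N g (fun _ : N => (1 : ℂ)) = fun _ : N => (1 : ℂ) :=
    fun g => rfl
  have h4 := clifford_of_invariant N ψ.2 hone h3 hinv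
  have hker : ∀ n ∈ N, (ψ : G → ℂ) n = (ψ : G → ℂ) 1 := by
    intro n hn
    have h5 := congrFun h4 ⟨n, hn⟩
    have h6 := congrFun h4 1
    rw [resFun_apply, Pi.smul_apply, smul_eq_mul, mul_one] at h5 h6
    rw [Subgroup.coe_one] at h6
    rw [show ((⟨n, hn⟩ : N) : G) = n from rfl] at h5
    rw [h5, h6]
  obtain ⟨β, hβ⟩ := exists_deflation N ψ hker
  refine ⟨β, ?_, ?_⟩
  · funext g
    exact (hβ g).symm
  -- step 2: the blocks of `G ⧸ N`
  set Bbar := blockOf M (χ : G ⧸ N → ℂ) with hBbar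
  set F : G → ℂ := fun g => (Nat.card N : ℂ)⁻¹ * blockCoeff Bbar (g : G ⧸ N) with hF
  have hFc : IsClassFunction G F := by
    intro g k
    simp only [hF]
    congr 1
    have := blockCoeff_isClassFunction Bbar (g : G ⧸ N) (k : G ⧸ N)
    rw [← this]
    rfl
  have hFR : ∀ g, MemLocalRing M (F g) := by
    intro g
    exact memLocalRing_mul (memLocalRing_inv_natCast_of_not_dvd hM hNp)
      (memLocalRing_blockCoeff_blockOf χ _)
  have homega : ∀ γ : IrrCharacter (G ⧸ N),
      omegaFun ((Cfsg.Agent.Lib.Helper25.inflateIrr N γ : IrrCharacter G) : G → ℂ) F =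
        if γ ∈ Bbar then 1 else 0 := by
    intro γ
    rw [← omegaFun_blockCoeff Bbar γ]
    unfold omegaFun
    rw [Cfsg.Agent.Lib.Helper25.inflateIrr_apply]
    congr 1
    have h7 : ∀ g : G, F g * ((Cfsg.Agent.Lib.Helper25.inflateIrr N γ : IrrCharacter G) : G → ℂ) g =
        (fun y : G ⧸ N => (Nat.card N : ℂ)⁻¹ * (blockCoeff Bbar y * (γ : G ⧸ N → ℂ) y))
          (g : G ⧸ N) := by
      intro g
      simp only [hF]
      rw [Cfsg.Agent.Lib.Helper25.inflateIrr_apply]
      ring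
    rw [Finset.sum_congr rfl (fun g _ => h7 g),
      sum_comp_mk N (fun y : G ⧸ N => (Nat.card N : ℂ)⁻¹ * (blockCoeff Bbar y * (γ : G ⧸ N → ℂ) y)),
      ← Finset.mul_sum, ← mul_assoc, mul_inv_cancel₀ hcard0, one_mul]
  have hψβ : (Cfsg.Agent.Lib.Helper25.inflateIrr N β : IrrCharacter G) = ψ := by
    apply Subtype.ext
    funext g
    rw [Cfsg.Agent.Lib.Helper25.inflateIrr_apply]
    exact hβ g
  have key := memLocalIdeal_omegaFun_sub (M := M) χG ψ hsame hFc hFR
  rw [hχG, homega χ, ← hψβ, homega β, if_pos (mem_blockOf_self χ)] at key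
  by_contra hne
  have hne' : β ∉ Bbar := hne
  rw [if_neg hne', sub_zero] at key
  exact not_memLocalIdeal_one key

end pprime

section qcq

variable {G : Type u} [Group G] [Fintype G] {M : Ideal AlgInt}

/-- For a normal `p`-subgroup `Q` and `N = Q C_G(Q)`: every block `b` of `N` induces a block of
`G`, which is the only block of `G` covering `b`. -/
theorem induced_of_covering_QCQ (p : ℕ) [Fact p.Prime] (hM : Cfsg.IsPModular p M)
    (Q : Subgroup G) [Q.Normal] (hQ : IsPGroup p Q)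
    [Fintype ↥(Q ⊔ Subgroup.centralizer (Q : Set G))]
    (b : Set (Cfsg.IrrCharacter ↥(Q ⊔ Subgroup.centralizer (Q : Set G))))
    (hb : Cfsg.IsPBlock M b) :
    Cfsg.InducedBlockDefined M (Q ⊔ Subgroup.centralizer (Q : Set G)) b ∧
    ∀ B : Set (Cfsg.IrrCharacter G), Cfsg.IsPBlock M B →
      (∃ χ ∈ B, ∃ θ ∈ b, Cfsg.classInner
        (fun n : ↥(Q ⊔ Subgroup.centralizer (Q : Set G)) => (χ : G → ℂ) n)
        (θ : ↥(Q ⊔ Subgroup.centralizer (Q : Set G)) → ℂ) ≠ 0) →
      Cfsg.IsInducedBlock M (Q ⊔ Subgroup.centralizer (Q : Set G)) b B := by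
  classical
  have hp : M.IsPrime := isPrime_of_isPModular hM
  have hNn : (Q ⊔ Subgroup.centralizer (Q : Set G)).Normal := inferInstance
  constructor
  · apply inducedBlockDefined_of_le_normalizer hM Q _ hQ le_sup_left le_sup_right _ b hb
    intro g _
    rw [Subgroup.normalizer_eq_top]
    exact Subgroup.mem_top g
  · rintro B hB ⟨χ₀, hχ₀, θ₀, hθ₀, hcon⟩
    refine ⟨hb, hB, ?_⟩
    intro ξ hξ χ hχ g
    by_cases hg : g ∈ Q ⊔ Subgroup.centralizer (Q : Set G)
    · have h1 := passman_forward (Q ⊔ Subgroup.centralizer (Q : Set G)) hM hB hb χ₀ hχ₀ θ₀ hθ₀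
        hcon χ hχ ξ hξ ⟨g, hg⟩
      have h2 := memLocalIdeal_neg h1
      rwa [neg_sub] at h2
    · have h1 : inducedCentralChar (Q ⊔ Subgroup.centralizer (Q : Set G))
          (ξ : ↥(Q ⊔ Subgroup.centralizer (Q : Set G)) → ℂ) g = 0 := by
        unfold inducedCentralChar
        apply finsum_mem_eq_zero_of_forall_eq_zero
        intro h hh
        exfalso
        apply hg
        obtain ⟨c, hc⟩ := isConj_iff.mp (IsConj.symm hh)
        rw [← hc]
        exact hNn.conj_mem _ h.2 c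
      rw [h1, zero_sub]
      apply memLocalIdeal_neg
      apply memLocalIdeal_centralChar_of_not_centralizes hM Q hQ g _ χ
      intro x hx hxC
      apply hg
      obtain ⟨c, hc⟩ := isConj_iff.mp (IsConj.symm hx)
      rw [← hc]
      exact hNn.conj_mem _ (le_sup_right (a := Q) hxC) c

end qcq

end Cfsg.Agent.Lib.Helper23
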