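import Mathlib
import Cfsg.Agent.Lib.Helper23.HeightZeroA
import Cfsg.Agent.Lib.Helper23.HeightZeroB
import Cfsg.Agent.Lib.Helper6.FirstMain

set_option autoImplicit false

namespace Cfsg.Agent.Lib.Helper23

open Cfsg Cfsg.Agent.CharLib Cfsg.Agent.Lib.Helper24 Cfsg.Agent.Lib.Helper6
open scoped ComplexConjugate

universe u

section main

variable {G : Type u} [Group G] [Fintype G] {M : Ideal AlgInt} {p : ℕ} [hpp : Fact p.Prime]

/-- The least `p`-adic valuation of a degree in `B`. -/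
noncomputable def minVal (p : ℕ) (B : Set (IrrCharacter G)) : ℕ :=
  sInf ((fun χ : IrrCharacter G => (charDegree (χ : G → ℂ)).factorization p) '' B)

omit [Fintype G] hpp in
theorem minVal_le {B : Set (IrrCharacter G)} {χ : IrrCharacter G} (hχ : χ ∈ B) :
    minVal p B ≤ (charDegree (χ : G → ℂ)).factorization p :=
  Nat.sInf_le ⟨χ, hχ, rfl⟩

omit [Fintype G] hpp in
theorem exists_minVal {B : Set (IrrCharacter G)} (hne : B.Nonempty) :
    ∃ χ₀ ∈ B, (charDegree (χ₀ : G → ℂ)).factorization p = minVal p B := by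
  have h := Nat.sInf_mem (s := (fun χ : IrrCharacter G =>
    (charDegree (χ : G → ℂ)).factorization p) '' B) (hne.image _)
  obtain ⟨χ₀, h1, h2⟩ := h
  exact ⟨χ₀, h1, h2⟩

omit [Fintype G] hpp in
theorem sameBlock_of_mem (hM : IsPModular p M) {B : Set (IrrCharacter G)} (hB : IsPBlock M B)
    {ψ ξ : IrrCharacter G} (hψ : ψ ∈ B) (hξ : ξ ∈ B) : SameBlock M (ψ : G → ℂ) (ξ : G → ℂ) := by
  have hprime : M.IsPrime := isPrime_of_isPModular hM
  obtain ⟨χ₁, rfl⟩ := hB
  exact sameBlock_trans (sameBlock_symm hψ) hξ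

theorem pow_dvd_tildeInt (hM : IsPModular p M) (χ ψ : IrrCharacter G) :
    (p : ℤ) ^ ((charDegree (ψ : G → ℂ)).factorization p) ∣ tildeInt p χ ψ :=
  (memLocalRing_intCast_div_natCast_iff hM (irr_charDegree_pos ψ).ne').mp
    (memLocalRing_tildeInt_div hM χ ψ)

theorem pow_succ_dvd_tildeInt_iff (hM : IsPModular p M) (χ ψ ξ : IrrCharacter G)
    (h : SameBlock M (ψ : G → ℂ) (ξ : G → ℂ)) :
    (p : ℤ) ^ ((charDegree (ψ : G → ℂ)).factorization p + 1) ∣ tildeInt p χ ψ ↔
      (p : ℤ) ^ ((charDegree (ξ : G → ℂ)).factorization p + 1) ∣ tildeInt p χ ξ := by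
  have hprime : M.IsPrime := isPrime_of_isPModular hM
  rw [← memLocalIdeal_intCast_div_natCast_iff hM (irr_charDegree_pos ψ).ne',
    ← memLocalIdeal_intCast_div_natCast_iff hM (irr_charDegree_pos ξ).ne']
  have h1 := memLocalIdeal_tildeInt_div_sub hM χ ψ ξ h
  constructor
  · intro h2
    have := memLocalIdeal_sub h2 h1
    rwa [sub_sub_cancel] at this
  · intro h2
    have := memLocalIdeal_add h1 h2
    rwa [sub_add_cancel] at this

/-- A character of minimal degree valuation pairs as a unit with some member of its block. -/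
theorem exists_not_dvd_of_minimal (hM : IsPModular p M) {B : Set (IrrCharacter G)}
    (hB : IsPBlock M B) {χ₀ : IrrCharacter G} (hχ₀ : χ₀ ∈ B)
    (hmin : (charDegree (χ₀ : G → ℂ)).factorization p = minVal p B) :
    ∃ ψ ∈ B, ¬ (p : ℤ) ^ ((charDegree (ψ : G → ℂ)).factorization p + 1) ∣ tildeInt p χ₀ ψ := by
  classical
  let _ := fintypeIrr G
  have hp : p.Prime := hpp.out
  by_contra hcon
  push Not at hcon
  obtain ⟨P⟩ : Nonempty (Sylow p G) := inferInstance
  have h1 := degree_eq_sum_tildeInt_mul P χ₀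
  have h2 : (p : ℤ) ^ (minVal p B + 1) ∣
      ∑ ψ : IrrCharacter G, tildeInt p χ₀ ψ * (sylowMult P ψ : ℤ) := by
    apply Finset.dvd_sum
    intro ψ _
    by_cases hψ : ψ ∈ B
    · apply Dvd.dvd.mul_right
      refine dvd_trans ?_ (hcon ψ hψ)
      exact pow_dvd_pow _ (Nat.succ_le_succ (minVal_le hψ))
    · rw [tildeInt_eq_zero hM hB hχ₀ hψ, zero_mul]
      exact dvd_zero _
  rw [← h1, ← hmin] at h2
  have h3 : p ^ ((charDegree (χ₀ : G → ℂ)).factorization p + 1) ∣ charDegree (χ₀ : G → ℂ) := by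
    exact_mod_cast h2
  exact Nat.pow_succ_factorization_not_dvd (irr_charDegree_pos χ₀).ne' hp h3

/-- **Height zero criterion** (Navarro 3.24): for `χ, ψ` in the block `B`, `χ` has minimal degree
valuation iff `[χ̃, ψ]/ψ(1)` is a local unit. -/
theorem minimal_iff_not_dvd (hM : IsPModular p M) {B : Set (IrrCharacter G)}
    (hB : IsPBlock M B) {χ ψ : IrrCharacter G} (hχ : χ ∈ B) (hψ : ψ ∈ B) :
    (charDegree (χ : G → ℂ)).factorization p = minVal p B ↔
      ¬ (p : ℤ) ^ ((charDegree (ψ : G → ℂ)).factorization p + 1) ∣ tildeInt p χ ψ := by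
  constructor
  · intro hmin
    obtain ⟨ψ', hψ', h1⟩ := exists_not_dvd_of_minimal hM hB hχ hmin
    rwa [pow_succ_dvd_tildeInt_iff hM χ ψ' ψ (sameBlock_of_mem hM hB hψ' hψ)] at h1
  · intro h1
    obtain ⟨χ₀, hχ₀, hmin⟩ := exists_minVal (p := p) ⟨χ, hχ⟩
    rw [pow_succ_dvd_tildeInt_iff hM χ ψ χ₀ (sameBlock_of_mem hM hB hψ hχ₀)] at h1
    apply le_antisymm _ (minVal_le hχ)
    by_contra hlt
    push Not at hlt
    apply h1
    rw [tildeInt_symm, hmin]
    exact dvd_trans (pow_dvd_pow _ hlt) (pow_dvd_tildeInt hM χ₀ χ)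

omit [Fintype G] hpp in
theorem blockHeight_eq_zero_iff {B : Set (IrrCharacter G)} {χ : IrrCharacter G} (hχ : χ ∈ B) :
    blockHeight p B (χ : G → ℂ) = 0 ↔ (charDegree (χ : G → ℂ)).factorization p = minVal p B := by
  have h1 : blockHeight p B (χ : G → ℂ) =
      (charDegree (χ : G → ℂ)).factorization p - minVal p B := rfl
  have h2 := minVal_le (p := p) hχ
  rw [h1]
  omega

/-- Reformulation of the unit condition in terms of the integer value and its valuation. -/
theorem exists_int_iff_not_dvd (hM : IsPModular p M) (χ ξ : IrrCharacter G) :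
    (∃ n : ℤ, classInner (tildeFun p (χ : G → ℂ)) (ξ : G → ℂ) = (n : ℂ) ∧ n ≠ 0 ∧
      padicValInt p n = (charDegree (ξ : G → ℂ)).factorization p) ↔
    ¬ (p : ℤ) ^ ((charDegree (ξ : G → ℂ)).factorization p + 1) ∣ tildeInt p χ ξ := by
  set k := (charDegree (ξ : G → ℂ)).factorization p with hk
  constructor
  · rintro ⟨n, h1, h2, h3⟩
    rw [tildeInt_spec] at h1
    have h4 : tildeInt p χ ξ = n := by exact_mod_cast h1
    rw [h4, padicValInt_dvd_iff]
    rintro (h5 | h5)
    · exact h2 h5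
    · omega
  · intro h
    refine ⟨tildeInt p χ ξ, tildeInt_spec χ ξ, ?_, ?_⟩
    · intro h0
      apply h
      rw [h0]
      exact dvd_zero _
    · have h1 := pow_dvd_tildeInt hM χ ξ
      rw [← hk, padicValInt_dvd_iff] at h1
      rw [padicValInt_dvd_iff] at h
      push Not at h
      rcases h1 with h1 | h1
      · exact absurd h1 h.1
      · omega

/-- **S4426**: height zero iff `ν([χ̃, ξ]) = ν(ξ(1))` for some / for all `ξ` in the block. -/
theorem height_zero_iff_inner_valuation (hM : IsPModular p M) {B : Set (IrrCharacter G)}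
    (hB : IsPBlock M B) {χ : IrrCharacter G} (hχ : χ ∈ B) :
    (blockHeight p B (χ : G → ℂ) = 0 ↔ ∃ ξ ∈ B, ∃ n : ℤ,
      classInner (tildeFun p (χ : G → ℂ)) (ξ : G → ℂ) = (n : ℂ) ∧ n ≠ 0 ∧
        padicValInt p n = (charDegree (ξ : G → ℂ)).factorization p) ∧
    (blockHeight p B (χ : G → ℂ) = 0 ↔ ∀ ξ ∈ B, ∃ n : ℤ,
      classInner (tildeFun p (χ : G → ℂ)) (ξ : G → ℂ) = (n : ℂ) ∧ n ≠ 0 ∧
        padicValInt p n = (charDegree (ξ : G → ℂ)).factorization p) := by
  rw [blockHeight_eq_zero_iff hχ]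
  constructor
  · constructor
    · intro h
      refine ⟨χ, hχ, ?_⟩
      rw [exists_int_iff_not_dvd hM]
      exact (minimal_iff_not_dvd hM hB hχ hχ).mp h
    · rintro ⟨ξ, hξ, h⟩
      rw [exists_int_iff_not_dvd hM] at h
      exact (minimal_iff_not_dvd hM hB hχ hξ).mpr h
  · constructor
    · intro h ξ hξ
      rw [exists_int_iff_not_dvd hM]
      exact (minimal_iff_not_dvd hM hB hχ hξ).mp h
    · intro h
      have h1 := h χ hχ
      rw [exists_int_iff_not_dvd hM] at h1
      exact (minimal_iff_not_dvd hM hB hχ hχ).mpr h1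

end main

end Cfsg.Agent.Lib.Helper23
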