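import Mathlib
import Cfsg.Agent.Lib.Helper23.HeightZeroC

set_option autoImplicit false

namespace Cfsg.Agent.Lib.Helper23

open Cfsg Cfsg.Agent.CharLib Cfsg.Agent.Lib.Helper24 Cfsg.Agent.Lib.Helper6
open scoped ComplexConjugate

universe u

section sq

variable {G : Type u} [Group G] [Fintype G] {M : Ideal AlgInt} {p : ℕ} [hpp : Fact p.Prime]

omit hpp [Fintype G] in
theorem minVal_le_factorization_card [Finite G] {B : Set (IrrCharacter G)} (hne : B.Nonempty) :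
    minVal p B ≤ (Nat.card G).factorization p := by
  obtain ⟨χ, hχ⟩ := hne
  refine le_trans (minVal_le hχ) ?_
  exact (Nat.factorization_le_iff_dvd (irr_charDegree_pos χ).ne' Nat.card_pos.ne').mpr
    (irr_charDegree_dvd_card χ) p

open Classical in
/-- **S4491** (Finset form): `ν_p(∑_{ψ ∈ B} ψ(1)^2) = a + e` where `e` is the least degree valuation. -/
theorem factorization_sum_degree_sq [Fintype (IrrCharacter G)] (hM : IsPModular p M)
    {B : Set (IrrCharacter G)} (hB : IsPBlock M B) :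
    (∑ ψ : IrrCharacter G, (if ψ ∈ B then charDegree (ψ : G → ℂ) ^ 2 else 0)).factorization p =
      (Nat.card G).factorization p + minVal p B := by
  have hprime : M.IsPrime := isPrime_of_isPModular hM
  have hp : p.Prime := hpp.out
  obtain ⟨P⟩ : Nonempty (Sylow p G) := inferInstance
  have hne : B.Nonempty := by
    obtain ⟨χ₁, rfl⟩ := hB
    exact ⟨χ₁, mem_blockOf_self χ₁⟩
  obtain ⟨χ₀, hχ₀, hmin⟩ := exists_minVal (p := p) hne
  set e := minVal p B with he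
  set a := (Nat.card G).factorization p with ha
  -- E3
  have hE3 : ∑ ψ : IrrCharacter G, (if ψ ∈ B then charDegree (ψ : G → ℂ) ^ 2 else 0) =
      p ^ a * ∑ ψ : IrrCharacter G, (if ψ ∈ B then charDegree (ψ : G → ℂ) * sylowMult P ψ else 0) := by
    obtain ⟨χ₁, rfl⟩ := hB
    exact sum_degree_sq_eq hM P χ₁
  -- reduced degrees and reduced pairings
  let f : IrrCharacter G → ℕ := fun ψ => charDegree (ψ : G → ℂ) / p ^ e
  let n' : IrrCharacter G → ℤ := fun ψ => tildeInt p χ₀ ψ / (p : ℤ) ^ e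
  have hf : ∀ ψ ∈ B, charDegree (ψ : G → ℂ) = p ^ e * f ψ := by
    intro ψ hψ
    have h1 : p ^ e ∣ charDegree (ψ : G → ℂ) :=
      dvd_trans (pow_dvd_pow p (minVal_le hψ)) (Nat.ordProj_dvd _ p)
    exact (Nat.mul_div_cancel' h1).symm
  have hn : ∀ ψ ∈ B, tildeInt p χ₀ ψ = (p : ℤ) ^ e * n' ψ := by
    intro ψ hψ
    have h1 : (p : ℤ) ^ e ∣ tildeInt p χ₀ ψ :=
      dvd_trans (pow_dvd_pow _ (minVal_le hψ)) (pow_dvd_tildeInt hM χ₀ ψ)
    exact (Int.mul_ediv_cancel' h1).symm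
  have hpe0 : (p : ℤ) ^ e ≠ 0 := pow_ne_zero _ (by exact_mod_cast hp.ne_zero)
  have hpeC : ((p : ℂ) ^ e) ≠ 0 := pow_ne_zero _ (Nat.cast_ne_zero.mpr hp.ne_zero)
  have hf0 : ∀ ψ ∈ B, f ψ ≠ 0 := by
    intro ψ hψ h0
    have := hf ψ hψ
    rw [h0, mul_zero] at this
    exact (irr_charDegree_pos ψ).ne' this
  -- `p ∤ f χ₀`
  have hf₀ : ¬ p ∣ f χ₀ := by
    show ¬ p ∣ charDegree (χ₀ : G → ℂ) / p ^ e
    rw [← hmin]
    exact Nat.not_dvd_ordCompl hp (irr_charDegree_pos χ₀).ne'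
  -- E1 reduced
  have hE1 : (f χ₀ : ℤ) = ∑ ψ : IrrCharacter G, (if ψ ∈ B then n' ψ * (sylowMult P ψ : ℤ) else 0) := by
    have h1 := degree_eq_sum_tildeInt_mul P χ₀
    have h2 : ∑ ψ : IrrCharacter G, tildeInt p χ₀ ψ * (sylowMult P ψ : ℤ) =
        (p : ℤ) ^ e * ∑ ψ : IrrCharacter G, (if ψ ∈ B then n' ψ * (sylowMult P ψ : ℤ) else 0) := by
      rw [Finset.mul_sum]
      apply Finset.sum_congr rfl
      intro ψ _
      by_cases hψ : ψ ∈ B
      · rw [if_pos hψ, hn ψ hψ]; ring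
      · rw [if_neg hψ, tildeInt_eq_zero hM hB hχ₀ hψ]; ring
    rw [h2, hf χ₀ hχ₀] at h1
    push_cast at h1
    exact mul_left_cancel₀ hpe0 h1
  -- congruence
  have hcong : ∀ ψ ∈ B, (p : ℤ) ∣ n' ψ * (f χ₀ : ℤ) - n' χ₀ * (f ψ : ℤ) := by
    intro ψ hψ
    apply int_dvd_of_memLocalIdeal hM
    have h1 := memLocalIdeal_tildeInt_div_sub hM χ₀ ψ χ₀ (sameBlock_of_mem hM hB hψ hχ₀)
    have h2 := memLocalIdeal_mul_right h1 (memLocalRing_natCast (M := M) (f ψ * f χ₀))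
    have hfψ : (f ψ : ℂ) ≠ 0 := Nat.cast_ne_zero.mpr (hf0 ψ hψ)
    have hfχ : (f χ₀ : ℂ) ≠ 0 := Nat.cast_ne_zero.mpr (hf0 χ₀ hχ₀)
    have e1 : ((tildeInt p χ₀ ψ : ℂ) / (charDegree (ψ : G → ℂ) : ℂ) -
        (tildeInt p χ₀ χ₀ : ℂ) / (charDegree (χ₀ : G → ℂ) : ℂ)) * ((f ψ * f χ₀ : ℕ) : ℂ) =
        ((n' ψ * (f χ₀ : ℤ) - n' χ₀ * (f ψ : ℤ) : ℤ) : ℂ) := by
      rw [hn ψ hψ, hn χ₀ hχ₀]
      conv_lhs => rw [hf ψ hψ, hf χ₀ hχ₀]
      push_cast
      field_simp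
    rw [e1] at h2
    exact h2
  -- the reduced sum
  set T' : ℕ := ∑ ψ : IrrCharacter G, (if ψ ∈ B then f ψ * sylowMult P ψ else 0) with hT'
  have hT : ∑ ψ : IrrCharacter G, (if ψ ∈ B then charDegree (ψ : G → ℂ) * sylowMult P ψ else 0) =
      p ^ e * T' := by
    rw [hT', Finset.mul_sum]
    apply Finset.sum_congr rfl
    intro ψ _
    by_cases hψ : ψ ∈ B
    · rw [if_pos hψ, if_pos hψ]
      conv_lhs => rw [hf ψ hψ]
      ring
    · rw [if_neg hψ, if_neg hψ, mul_zero]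
  have hT'p : ¬ p ∣ T' := by
    intro hdvd
    have h1 : (p : ℤ) ∣ (f χ₀ : ℤ) * (f χ₀ : ℤ) - n' χ₀ * (T' : ℤ) := by
      have : (f χ₀ : ℤ) * (f χ₀ : ℤ) - n' χ₀ * (T' : ℤ) =
          ∑ ψ : IrrCharacter G, (if ψ ∈ B then
            (n' ψ * (f χ₀ : ℤ) - n' χ₀ * (f ψ : ℤ)) * (sylowMult P ψ : ℤ) else 0) := by
        have k1 : (f χ₀ : ℤ) * (f χ₀ : ℤ) = ∑ ψ : IrrCharacter G, (if ψ ∈ B then
            n' ψ * (sylowMult P ψ : ℤ) else 0) * (f χ₀ : ℤ) := by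
          rw [← Finset.sum_mul, ← hE1]
        rw [k1, hT']
        push_cast
        rw [Finset.mul_sum, ← Finset.sum_sub_distrib]
        apply Finset.sum_congr rfl
        intro ψ _
        by_cases hψ : ψ ∈ B
        · simp only [if_pos hψ]; ring
        · simp only [if_neg hψ]; ring
      rw [this]
      apply Finset.dvd_sum
      intro ψ _
      by_cases hψ : ψ ∈ B
      · rw [if_pos hψ]
        exact Dvd.dvd.mul_right (hcong ψ hψ) _
      · rw [if_neg hψ]; exact dvd_zero _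
    have h2 : (p : ℤ) ∣ n' χ₀ * (T' : ℤ) :=
      Dvd.dvd.mul_left (Int.natCast_dvd_natCast.mpr hdvd) _
    have h3 : (p : ℤ) ∣ (f χ₀ : ℤ) * (f χ₀ : ℤ) := by
      have := dvd_add h1 h2
      rwa [sub_add_cancel] at this
    have h4 : p ∣ f χ₀ * f χ₀ := by exact_mod_cast h3
    rcases (Nat.Prime.dvd_mul hp).mp h4 with h5 | h5 <;> exact hf₀ h5
  have hT'0 : T' ≠ 0 := by
    rintro h0
    rw [h0] at hT'p
    exact hT'p (dvd_zero p)
  rw [hE3, hT, ← mul_assoc, ← pow_add]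
  rw [Nat.factorization_mul (pow_ne_zero _ hp.ne_zero) hT'0]
  simp only [Finsupp.coe_add, Pi.add_apply]
  rw [Nat.Prime.factorization_pow hp]
  simp only [Finsupp.single_eq_same]
  rw [Nat.factorization_eq_zero_of_not_dvd hT'p]
  ring

end sq

end Cfsg.Agent.Lib.Helper23
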