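import Mathlib
import Cfsg.Agent.Lib.Helper23.HeightZeroA
import Cfsg.Agent.Lib.Helper6.InducedDefect
import Cfsg.Agent.Lib.Helper6.CharExtra
import Cfsg.Agent.Lib.Helper6.BlockCoeff
import Cfsg.Agent.Lib.Helper6.FirstMain
import Cfsg.Agent.Lib.Lead.CharInd
import Cfsg.Agent.Lib.Lead.CharEquiv

set_option autoImplicit false

namespace Cfsg.Agent.Lib.Helper23

open Cfsg Cfsg.Agent.CharLib Cfsg.Agent.Lib.Helper24 Cfsg.Agent.Lib.Helper6
open scoped ComplexConjugate

universe u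

section indpart

variable {G : Type u} [Group G] [Fintype G] {M : Ideal AlgInt} {p : ℕ} [hpp : Fact p.Prime]

omit hpp in
theorem blockPart_apply (B : Set (IrrCharacter G)) (ϑ : G → ℂ) (g : G) :
    blockPart B ϑ g = ∑ᶠ χ ∈ B, classInner ϑ (χ : G → ℂ) * (χ : G → ℂ) g := by
  show (∑ᶠ χ ∈ B, @classInner G _ (Fintype.ofFinite G) ϑ (χ : G → ℂ) * (χ : G → ℂ) g) = _
  have e : Fintype.ofFinite G = ‹Fintype G› := Subsingleton.elim _ _
  rw [e]

omit hpp in
/-- The block part of an induced character at the identity. -/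
theorem blockPart_indFun_one (H : Subgroup G) [Fintype H] (B : Set (IrrCharacter G))
    (ξ : IrrCharacter H) :
    blockPart B (indFun H (ξ : H → ℂ)) 1 =
      indFun H (ξ : H → ℂ) 1 * omegaFun (ξ : H → ℂ) (resFun H (blockCoeff B)) := by
  classical
  let _ := fintypeIrr G
  have hG0 : (Nat.card G : ℂ) ≠ 0 := Nat.cast_ne_zero.mpr Nat.card_pos.ne'
  have hH0 : (Nat.card H : ℂ) ≠ 0 := Nat.cast_ne_zero.mpr Nat.card_pos.ne'
  have hξ1 : (ξ : H → ℂ) 1 ≠ 0 := irr_apply_one_ne_zero ξ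
  have h1 : blockPart B (indFun H (ξ : H → ℂ)) 1 =
      ∑ χ : IrrCharacter G, if χ ∈ B then
        classInner (ξ : H → ℂ) (fun h : H => (χ : G → ℂ) h) * (χ : G → ℂ) 1 else 0 := by
    rw [blockPart_apply, finsum_mem_eq_sum_ite]
    apply Finset.sum_congr rfl
    intro χ _
    by_cases hχ : χ ∈ B
    · rw [if_pos hχ, if_pos hχ, frobenius_reciprocity H _
        (IsCharacter.isClassFunction (IsIrrCharacter.isCharacter χ.2))]
    · rw [if_neg hχ, if_neg hχ]
  rw [h1, Cfsg.Agent.Lib.Helper6.indFun_apply_one]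
  unfold omegaFun classInner
  have h2 : ∀ h : H, resFun H (blockCoeff B) h = (Nat.card G : ℂ)⁻¹ *
      ∑ χ : IrrCharacter G, if χ ∈ B then (χ : G → ℂ) 1 * conj ((χ : G → ℂ) (h : G)) else 0 := by
    intro h
    show blockCoeff B (h : G) = _
    rw [blockCoeff_eq_sum]
  simp_rw [h2]
  have h3 : (Nat.card H : ℂ)⁻¹ * (Nat.card G : ℂ) * (ξ : H → ℂ) 1 *
      ((∑ g : H, (Nat.card G : ℂ)⁻¹ * (∑ χ : IrrCharacter G,
        if χ ∈ B then (χ : G → ℂ) 1 * conj ((χ : G → ℂ) (g : G)) else 0) * (ξ : H → ℂ) g) /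
        (ξ : H → ℂ) 1) =
      (Nat.card H : ℂ)⁻¹ * ∑ g : H, (∑ χ : IrrCharacter G,
        if χ ∈ B then (χ : G → ℂ) 1 * conj ((χ : G → ℂ) (g : G)) else 0) * (ξ : H → ℂ) g := by
    have h4 : (∑ g : H, (Nat.card G : ℂ)⁻¹ * (∑ χ : IrrCharacter G,
        if χ ∈ B then (χ : G → ℂ) 1 * conj ((χ : G → ℂ) (g : G)) else 0) * (ξ : H → ℂ) g) =
        (Nat.card G : ℂ)⁻¹ * ∑ g : H, (∑ χ : IrrCharacter G,
        if χ ∈ B then (χ : G → ℂ) 1 * conj ((χ : G → ℂ) (g : G)) else 0) * (ξ : H → ℂ) g := by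
      rw [Finset.mul_sum]; apply Finset.sum_congr rfl; intro g _; ring
    rw [h4]
    generalize (∑ g : H, (∑ χ : IrrCharacter G,
        if χ ∈ B then (χ : G → ℂ) 1 * conj ((χ : G → ℂ) (g : G)) else 0) * (ξ : H → ℂ) g) = S
    field_simp
  rw [h3]
  simp_rw [Finset.sum_mul]
  rw [Finset.sum_comm, Finset.mul_sum]
  apply Finset.sum_congr rfl
  intro χ _
  by_cases hχ : χ ∈ B
  · simp only [if_pos hχ]
    rw [Finset.mul_sum, Finset.sum_mul, Finset.mul_sum]
    apply Finset.sum_congr rfl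
    intro g _
    ring
  · simp only [if_neg hχ, zero_mul, Finset.sum_const_zero, mul_zero]

omit hpp in
/-- The block part of an induced character at the identity is a natural number. -/
theorem exists_nat_blockPart_indFun_one (H : Subgroup G) [Fintype H] (B : Set (IrrCharacter G))
    (ξ : IrrCharacter H) : ∃ n : ℕ, blockPart B (indFun H (ξ : H → ℂ)) 1 = (n : ℂ) := by
  classical
  let _ := fintypeIrr G
  have hind : IsCharacter G (indFun H (ξ : H → ℂ)) :=
    IsCharacter.indFun H (IsIrrCharacter.isCharacter ξ.2)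
  have h : ∀ χ : IrrCharacter G, ∃ n : ℕ, classInner (indFun H (ξ : H → ℂ)) (χ : G → ℂ) = n :=
    fun χ => IsCharacter.classInner_nat hind (IsIrrCharacter.isCharacter χ.2)
  choose m hm using h
  refine ⟨∑ χ : IrrCharacter G, if χ ∈ B then m χ * charDegree (χ : G → ℂ) else 0, ?_⟩
  rw [blockPart_apply, finsum_mem_eq_sum_ite]
  push_cast
  apply Finset.sum_congr rfl
  intro χ _
  by_cases hχ : χ ∈ B
  · rw [if_pos hχ, if_pos hχ, hm, irr_apply_one]
  · rw [if_neg hχ, if_neg hχ]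

omit hpp in
theorem charDegree_indFun (H : Subgroup G) [Fintype H] (ξ : IrrCharacter H) :
    charDegree (indFun H (ξ : H → ℂ)) = H.index * charDegree (ξ : H → ℂ) ∧
      indFun H (ξ : H → ℂ) 1 = ((H.index * charDegree (ξ : H → ℂ) : ℕ) : ℂ) := by
  have hH0 : (Nat.card H : ℂ) ≠ 0 := Nat.cast_ne_zero.mpr Nat.card_pos.ne'
  have h1 : indFun H (ξ : H → ℂ) 1 = ((H.index * charDegree (ξ : H → ℂ) : ℕ) : ℂ) := by
    rw [Cfsg.Agent.Lib.Helper6.indFun_apply_one, irr_apply_one, ← H.card_mul_index]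
    push_cast
    field_simp
  exact ⟨charDegree_eq_of_apply_one h1, h1⟩

/-- **S4430**. -/
theorem induced_blockPart_degree (hM : IsPModular p M) (H : Subgroup G) [Fintype H]
    {b : Set (IrrCharacter H)} {B₀ : Set (IrrCharacter G)} (hind : IsInducedBlock M H b B₀)
    {ξ : IrrCharacter H} (hξ : ξ ∈ b) :
    (∃ n : ℕ, blockPart B₀ (indFun H (ξ : H → ℂ)) 1 = (n : ℂ) ∧ n ≠ 0 ∧
      n.factorization p = (charDegree (indFun H (ξ : H → ℂ))).factorization p) ∧
    ∀ B : Set (IrrCharacter G), IsPBlock M B → B ≠ B₀ →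
      ∃ n : ℕ, blockPart B (indFun H (ξ : H → ℂ)) 1 = (n : ℂ) ∧
        (n = 0 ∨ (charDegree (indFun H (ξ : H → ℂ))).factorization p < n.factorization p) := by
  classical
  have hprime : M.IsPrime := isPrime_of_isPModular hM
  have hp : p.Prime := hpp.out
  have hB₀ : IsPBlock M B₀ := hind.2.1
  obtain ⟨χ', hχ'⟩ : B₀.Nonempty := by
    obtain ⟨χ₁, rfl⟩ := hB₀
    exact ⟨χ₁, mem_blockOf_self χ₁⟩
  obtain ⟨hd, hd1⟩ := charDegree_indFun H ξ
  set d := charDegree (indFun H (ξ : H → ℂ)) with hd_def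
  have hd0 : d ≠ 0 := by
    rw [hd]
    have h1 : H.index ≠ 0 := Subgroup.index_ne_zero_of_finite
    exact Nat.mul_ne_zero h1 (irr_charDegree_pos ξ).ne'
  have hdC : (d : ℂ) ≠ 0 := Nat.cast_ne_zero.mpr hd0
  have hd1' : indFun H (ξ : H → ℂ) 1 = (d : ℂ) := by rw [hd1, hd]
  -- general congruence
  have key : ∀ B : Set (IrrCharacter G), IsPBlock M B → ∀ n : ℕ,
      blockPart B (indFun H (ξ : H → ℂ)) 1 = (n : ℂ) →
      MemLocalIdeal M (((n : ℤ) : ℂ) / (d : ℂ) - if χ' ∈ B then 1 else 0) := by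
    intro B hB n hn
    have h1 := blockPart_indFun_one H B ξ
    rw [hn, hd1'] at h1
    have h2 : ((n : ℤ) : ℂ) / (d : ℂ) = omegaFun (ξ : H → ℂ) (resFun H (blockCoeff B)) := by
      push_cast
      rw [h1]; field_simp
    rw [h2, ← omegaFun_blockCoeff B χ']
    obtain ⟨χ₁, rfl⟩ := hB
    exact memLocalIdeal_omegaFun_resFun_sub_of_induced H hind hξ hχ'
      (blockCoeff_isClassFunction _) (fun x => memLocalRing_blockCoeff_blockOf χ₁ x)
  constructor
  · obtain ⟨n, hn⟩ := exists_nat_blockPart_indFun_one H B₀ ξ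
    have h1 := key B₀ hB₀ n hn
    rw [if_pos hχ'] at h1
    have h2 : ¬ MemLocalIdeal M (((n : ℤ) : ℂ) / (d : ℂ)) := by
      intro h3
      have := memLocalIdeal_sub h3 h1
      rw [sub_sub_cancel] at this
      exact not_memLocalIdeal_one this
    have h3 : MemLocalRing M (((n : ℤ) : ℂ) / (d : ℂ)) := by
      have := memLocalRing_add (memLocalRing_of_memLocalIdeal h1) (memLocalRing_one (M := M))
      rwa [sub_add_cancel] at this
    rw [memLocalIdeal_intCast_div_natCast_iff hM hd0] at h2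
    rw [memLocalRing_intCast_div_natCast_iff hM hd0] at h3
    have h2' : ¬ p ^ (d.factorization p + 1) ∣ n := by
      intro h; apply h2; exact_mod_cast h
    have h3' : p ^ (d.factorization p) ∣ n := by exact_mod_cast h3
    have hn0 : n ≠ 0 := by
      rintro rfl
      exact h2' (dvd_zero _)
    refine ⟨n, hn, hn0, ?_⟩
    apply le_antisymm
    · by_contra hlt
      push Not at hlt
      exact h2' ((hp.pow_dvd_iff_le_factorization hn0).mpr hlt)
    · exact (hp.pow_dvd_iff_le_factorization hn0).mp h3'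
  · intro B hB hne
    obtain ⟨n, hn⟩ := exists_nat_blockPart_indFun_one H B ξ
    have h1 := key B hB n hn
    have hχ'B : χ' ∉ B := fun h => hne (isPBlock_eq_of_mem hB hB₀ h hχ')
    rw [if_neg hχ'B, sub_zero] at h1
    rw [memLocalIdeal_intCast_div_natCast_iff hM hd0] at h1
    have h1' : p ^ (d.factorization p + 1) ∣ n := by exact_mod_cast h1
    refine ⟨n, hn, ?_⟩
    by_cases hn0 : n = 0
    · left; exact hn0
    · right
      exact (hp.pow_dvd_iff_le_factorization hn0).mp h1'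

end indpart

end Cfsg.Agent.Lib.Helper23
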