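import Mathlib
import Cfsg.Agent.Lib.Helper23.HeightZeroC
import Cfsg.Agent.Lib.Helper23.HeightZeroD
import Cfsg.Agent.Lib.Helper23.HeightZeroF

set_option autoImplicit false

namespace Cfsg.Agent.Lib.Helper23

open Cfsg Cfsg.Agent.CharLib Cfsg.Agent.Lib.Helper24 Cfsg.Agent.Lib.Helper6
open scoped ComplexConjugate

universe u

section indmult

variable {G : Type u} [Group G] [Fintype G] {M : Ideal AlgInt} {p : ℕ} [hpp : Fact p.Prime]

omit [Fintype G] hpp in
theorem blockDefect_eq (B : Set (IrrCharacter G)) :
    blockDefect p B = (Nat.card G).factorization p - minVal p B := rfl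

/-- **S4725**. -/
theorem induced_height_zero_multiplicity (hM : IsPModular p M) (H : Subgroup G)
    {b : Set (IrrCharacter H)} {B : Set (IrrCharacter G)} (hind : IsInducedBlock M H b B)
    (hdef : blockDefect p b = blockDefect p B) {ζ : IrrCharacter H} (hζ : ζ ∈ b)
    (hζ0 : blockHeight p b (ζ : H → ℂ) = 0) :
    ∃ χ ∈ B, blockHeight p B (χ : G → ℂ) = 0 ∧ ∃ a : ℕ,
      classInner (indFun H (ζ : H → ℂ)) (χ : G → ℂ) = (a : ℂ) ∧ ¬ p ∣ a := by
  classical
  let _ : Fintype H := Fintype.ofFinite H
  let _ := fintypeIrr G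
  have hprime : M.IsPrime := isPrime_of_isPModular hM
  have hp : p.Prime := hpp.out
  have hB : IsPBlock M B := hind.2.1
  have hb : IsPBlock M b := hind.1
  have hneB : B.Nonempty := by
    obtain ⟨χ₁, rfl⟩ := hB
    exact ⟨χ₁, mem_blockOf_self χ₁⟩
  obtain ⟨⟨n, hn, hn0, hnval⟩, -⟩ := induced_blockPart_degree hM H hind hζ
  obtain ⟨hd, -⟩ := charDegree_indFun H ζ
  -- valuation of the induced degree
  have hval : (charDegree (indFun H (ζ : H → ℂ))).factorization p = minVal p B := by
    rw [hd, Nat.factorization_mul Subgroup.index_ne_zero_of_finite (irr_charDegree_pos ζ).ne']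
    simp only [Finsupp.coe_add, Pi.add_apply]
    have h1 : (Nat.card G).factorization p = (Nat.card H).factorization p + H.index.factorization p := by
      rw [← H.card_mul_index, Nat.factorization_mul Nat.card_pos.ne' Subgroup.index_ne_zero_of_finite]
      rfl
    have h2 : (charDegree (ζ : H → ℂ)).factorization p = minVal p b :=
      (blockHeight_eq_zero_iff hζ).mp hζ0
    have h3 : minVal p b ≤ (Nat.card H).factorization p := minVal_le_factorization_card ⟨ζ, hζ⟩
    have h4 : minVal p B ≤ (Nat.card G).factorization p := minVal_le_factorization_card hneB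
    rw [blockDefect_eq, blockDefect_eq] at hdef
    omega
  rw [hval] at hnval
  -- multiplicities
  have hindc : IsCharacter G (indFun H (ζ : H → ℂ)) :=
    IsCharacter.indFun H (IsIrrCharacter.isCharacter ζ.2)
  have hm : ∀ χ : IrrCharacter G, ∃ m : ℕ, classInner (indFun H (ζ : H → ℂ)) (χ : G → ℂ) = m :=
    fun χ => IsCharacter.classInner_nat hindc (IsIrrCharacter.isCharacter χ.2)
  choose m hm using hm
  have hnsum : n = ∑ χ : IrrCharacter G, if χ ∈ B then m χ * charDegree (χ : G → ℂ) else 0 := by
    have h1 : (n : ℂ) = ((∑ χ : IrrCharacter G,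
        if χ ∈ B then m χ * charDegree (χ : G → ℂ) else 0 : ℕ) : ℂ) := by
      rw [← hn, blockPart_apply, finsum_mem_eq_sum_ite]
      push_cast
      apply Finset.sum_congr rfl
      intro χ _
      by_cases hχ : χ ∈ B
      · rw [if_pos hχ, if_pos hχ, hm, irr_apply_one]
      · rw [if_neg hχ, if_neg hχ]
    exact_mod_cast h1
  by_contra hcon
  push Not at hcon
  have hdvd : p ^ (minVal p B + 1) ∣ n := by
    rw [hnsum]
    apply Finset.dvd_sum
    intro χ _
    by_cases hχ : χ ∈ B
    · rw [if_pos hχ]
      by_cases hht : (charDegree (χ : G → ℂ)).factorization p = minVal p B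
      · have h1 := hcon χ hχ ((blockHeight_eq_zero_iff hχ).mpr hht) (m χ) (hm χ)
        rw [pow_succ, mul_comm (p ^ _) p]
        apply Nat.mul_dvd_mul h1
        rw [← hht]
        exact Nat.ordProj_dvd _ p
      · have h1 : minVal p B + 1 ≤ (charDegree (χ : G → ℂ)).factorization p := by
          have := minVal_le (p := p) hχ
          omega
        apply Dvd.dvd.mul_left
        exact dvd_trans (pow_dvd_pow p h1) (Nat.ordProj_dvd _ p)
    · rw [if_neg hχ]; exact dvd_zero _
  have := (hp.pow_dvd_iff_le_factorization hn0).mp hdvd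
  omega

end indmult

end Cfsg.Agent.Lib.Helper23
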