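import Mathlib
import Cfsg.Agent.Lib.Helper23.HeightZeroC
import Cfsg.Agent.Lib.Helper6.InducedDefect

set_option autoImplicit false

namespace Cfsg.Agent.Lib.Helper23

open Cfsg Cfsg.Agent.CharLib Cfsg.Agent.Lib.Helper24 Cfsg.Agent.Lib.Helper6
open scoped ComplexConjugate

universe u

section ind

variable {G : Type u} [Group G] [Fintype G] {M : Ideal AlgInt} {p : ℕ} [hpp : Fact p.Prime]

omit hpp in
theorem classInner_div_eq_omegaFun (θ : G → ℂ) (ψ : IrrCharacter G) :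
    classInner θ (ψ : G → ℂ) / (ψ : G → ℂ) 1 =
      omegaFun (ψ : G → ℂ) (fun x => (Nat.card G : ℂ)⁻¹ * θ x⁻¹) := by
  unfold omegaFun classInner
  congr 1
  rw [Finset.mul_sum]
  rw [← Equiv.sum_comp (Equiv.inv G)]
  apply Finset.sum_congr rfl
  intro g _
  simp only [Equiv.inv_apply]
  rw [irr_apply_inv ψ g, Complex.conj_conj]
  ring

/-- The `p'`-part quotient `|G|_{p'} / |H|_{p'}` is a local unit. -/
theorem ordCompl_div_unit (hM : IsPModular p M) (H : Subgroup G) :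
    MemLocalRing M (((Nat.card G / p ^ (Nat.card G).factorization p : ℕ) : ℂ) /
      ((Nat.card H / p ^ (Nat.card H).factorization p : ℕ) : ℂ)) ∧
    ¬ MemLocalIdeal M (((Nat.card G / p ^ (Nat.card G).factorization p : ℕ) : ℂ) /
      ((Nat.card H / p ^ (Nat.card H).factorization p : ℕ) : ℂ)) :=
  natCast_div_unit hM (Nat.not_dvd_ordCompl hpp.out Nat.card_pos.ne')
    (Nat.not_dvd_ordCompl hpp.out Nat.card_pos.ne')

/-- **S4431**. -/
theorem induced_restriction_criterion (hM : IsPModular p M) (H : Subgroup G) [Fintype H]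
    {b : Set (IrrCharacter H)} {B₀ : Set (IrrCharacter G)} (hind : IsInducedBlock M H b B₀)
    (χ : IrrCharacter G) {ψ : IrrCharacter H} (hψ : ψ ∈ b) :
    (χ ∉ B₀ → MemLocalIdeal M (classInner (tildeFun p (fun h : H => (χ : G → ℂ) h)) (ψ : H → ℂ) /
      (ψ : H → ℂ) 1)) ∧
    (χ ∈ B₀ → blockHeight p B₀ (χ : G → ℂ) = 0 →
      ¬ MemLocalIdeal M (classInner (tildeFun p (fun h : H => (χ : G → ℂ) h)) (ψ : H → ℂ) /
        (ψ : H → ℂ) 1)) := by
  have hprime : M.IsPrime := isPrime_of_isPModular hM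
  have hp : p.Prime := hpp.out
  set aH := (Nat.card H).factorization p with haH
  set aG := (Nat.card G).factorization p with haG
  set kH := Nat.card H / p ^ aH with hkH
  set kG := Nat.card G / p ^ aG with hkG
  have hHc : p ^ aH * kH = Nat.card H := Nat.ordProj_mul_ordCompl_eq_self _ p
  have hGc : p ^ aG * kG = Nat.card G := Nat.ordProj_mul_ordCompl_eq_self _ p
  have hkH0 : (kH : ℂ) ≠ 0 := by
    have : kH ≠ 0 := by
      rintro h0; rw [h0, mul_zero] at hHc; exact Nat.card_pos.ne' hHc.symm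
    exact_mod_cast this
  have hkG0 : (kG : ℂ) ≠ 0 := by
    have : kG ≠ 0 := by
      rintro h0; rw [h0, mul_zero] at hGc; exact Nat.card_pos.ne' hGc.symm
    exact_mod_cast this
  have hp0 : (p : ℂ) ≠ 0 := Nat.cast_ne_zero.mpr hp.ne_zero
  obtain ⟨hcR, hcI⟩ := ordCompl_div_unit hM H
  rw [← haH, ← haG, ← hkH, ← hkG] at hcR hcI
  set c : ℂ := (kG : ℂ) / (kH : ℂ) with hc
  -- the class function on G
  have hF : (fun x : H => (Nat.card H : ℂ)⁻¹ * tildeFun p (fun h : H => (χ : G → ℂ) h) x⁻¹) =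
      resFun H (c • tildeAux p (χ : G → ℂ)) := by
    funext x
    show _ = c * tildeAux p (χ : G → ℂ) (x : G)
    unfold tildeAux tildeFun
    have : orderOf ((x : G)⁻¹) = orderOf x⁻¹ := by
      rw [← Subgroup.coe_inv, Subgroup.orderOf_coe]
    rw [this]
    by_cases hx : p ∣ orderOf x⁻¹
    · rw [if_pos hx, if_pos hx]; ring
    · rw [if_neg hx, if_neg hx]
      have hHC : (Nat.card H : ℂ) = (p : ℂ) ^ aH * (kH : ℂ) := by
        rw [← hHc]; push_cast; ring
      have hGC : (Nat.card G : ℂ) = (p : ℂ) ^ aG * (kG : ℂ) := by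
        rw [← hGc]; push_cast; ring
      show (Nat.card H : ℂ)⁻¹ * (((p ^ aH : ℕ) : ℂ) * (χ : G → ℂ) ((x⁻¹ : H) : G)) =
        c * ((Nat.card G : ℂ)⁻¹ * (((p ^ aG : ℕ) : ℂ) * (χ : G → ℂ) (x : G)⁻¹))
      rw [hHC, hGC, hc, Subgroup.coe_inv]
      push_cast
      field_simp
  have hI : classInner (tildeFun p (fun h : H => (χ : G → ℂ) h)) (ψ : H → ℂ) / (ψ : H → ℂ) 1 =
      omegaFun (ψ : H → ℂ) (resFun H (c • tildeAux p (χ : G → ℂ))) := by
    rw [classInner_div_eq_omegaFun, hF]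
  have hcls : IsClassFunction G (c • tildeAux p (χ : G → ℂ)) := by
    intro g h
    show c * tildeAux p (χ : G → ℂ) (h * g * h⁻¹) = c * tildeAux p (χ : G → ℂ) g
    rw [tildeAux_isClassFunction χ g h]
  have hR : ∀ x, MemLocalRing M ((c • tildeAux p (χ : G → ℂ)) x) := by
    intro x
    exact memLocalRing_mul hcR (memLocalRing_tildeAux hM χ x)
  have hcong : ∀ χ' ∈ B₀, MemLocalIdeal M
      (classInner (tildeFun p (fun h : H => (χ : G → ℂ) h)) (ψ : H → ℂ) / (ψ : H → ℂ) 1 -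
        c * ((tildeInt p χ χ' : ℂ) / (charDegree (χ' : G → ℂ) : ℂ))) := by
    intro χ' hχ'
    have h1 := memLocalIdeal_omegaFun_resFun_sub_of_induced H hind hψ hχ' hcls hR
    rw [omegaFun_smul, ← tildeInt_div_eq_omegaFun, ← hI, irr_apply_one χ'] at h1
    exact h1
  have hB₀ : IsPBlock M B₀ := hind.2.1
  constructor
  · intro hχ
    obtain ⟨χ', hχ'⟩ : B₀.Nonempty := by
      obtain ⟨χ₁, rfl⟩ := hB₀
      exact ⟨χ₁, mem_blockOf_self χ₁⟩
    have h1 := hcong χ' hχ'
    rw [tildeInt_symm, tildeInt_eq_zero hM hB₀ hχ' hχ] at h1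
    simpa using h1
  · intro hχ hht hI'
    have h1 := hcong χ hχ
    have h2 := memLocalIdeal_sub hI' h1
    rw [sub_sub_cancel] at h2
    have h3 := (minimal_iff_not_dvd hM hB₀ hχ hχ).mp ((blockHeight_eq_zero_iff hχ).mp hht)
    rw [← memLocalIdeal_intCast_div_natCast_iff hM (irr_charDegree_pos χ).ne'] at h3
    exact not_memLocalIdeal_mul hcR (memLocalRing_tildeInt_div hM χ χ) hcI h3 h2

end ind

end Cfsg.Agent.Lib.Helper23
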