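import Mathlib
import Cfsg.Agent.Lib.Helper24.MaxPair
import Cfsg.Agent.Lib.Helper6.ExtFirstMain
import Cfsg.Agent.Lib.Helper23.BrauerInduced
import Cfsg.Agent.S4677
import Cfsg.Agent.S4678
import Cfsg.Agent.S4681

/-!
helper23: maximal Brauer pairs at a given defect group, the defect group of the block of a maximal
pair, conjugacy of defect groups.
-/

set_option autoImplicit false

namespace Cfsg.Agent.Lib.Helper23.PairInd

open Cfsg Cfsg.Agent.CharLib Cfsg.Agent.Lib.Helper24 Cfsg.Agent.Lib.Helper6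
open scoped ComplexConjugate

universe u

section maxpair

variable {G : Type u} [Group G] [Fintype G] {M : Ideal AlgInt} {p : ℕ} [hpp : Fact p.Prime]

/-- At a defect group `D` of `B` there is a `B`-Brauer pair `(D, f)`. -/
theorem exists_isBrauerPairOf_of_isDefectGroup (hM : IsPModular p M)
    (B : Set (IrrCharacter G)) (hB : IsPBlock M B) (D : Subgroup G)
    (hD : IsDefectGroup p M B D) :
    ∃ f : Set (IrrCharacter (Subgroup.centralizer (D : Set G))), IsBrauerPairOf p M B D f := by
  classical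
  have hprime : M.IsPrime := isPrime_of_isPModular hM
  have hDp : IsPGroup p D := ExtFirstMain.isPGroup_of_isDefectGroup hD
  obtain ⟨g, -, hgI, c, hgc, hcD⟩ := (brauer_unit_coeff_iff p hM B hB D hD D hDp).mpr
    ⟨1, by
      intro w hw
      obtain ⟨q, hq, rfl⟩ := hw
      simpa using hq⟩
  have hcls : IsClassFunction G (blockCoeff B) := blockCoeff_isClassFunction B
  have hcg : blockCoeff B c = blockCoeff B g := by
    obtain ⟨k, hk⟩ := isConj_iff.mp hgc
    rw [← hk]
    exact hcls g k
  have heR : ∀ x, MemLocalRing M (blockCoeff B x) := by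
    obtain ⟨χ₀, rfl⟩ := hB
    exact memLocalRing_blockCoeff_blockOf χ₀
  obtain ⟨f, hf, hω⟩ := exists_block_brauer_of_unit hM D hDp (blockCoeff B)
    (ConjInv.of_isClassFunction D hcls) (ConjInv.of_isClassFunction _ hcls) heR
    (conv_blockCoeff_self B) c hcD (by rw [hcg]; exact hgI)
  exact ⟨f, ⟨hDp, hf⟩, hB, hω⟩

/-- A `B`-Brauer pair at a defect group of `B` is maximal. -/
theorem isMaximalBrauerPair_of_isDefectGroup (hM : IsPModular p M)
    (B : Set (IrrCharacter G)) (D : Subgroup G) (hD : IsDefectGroup p M B D)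
    (f : Set (IrrCharacter (Subgroup.centralizer (D : Set G))))
    (hf : IsBrauerPairOf p M B D f) : IsMaximalBrauerPair p M B D f := by
  classical
  have hprime : M.IsPrime := isPrime_of_isPModular hM
  refine ⟨hf, ?_⟩
  intro R g hRg hle
  have hDR : D ≤ R := Cfsg.Agent.S4681.le_of_subpairLE p M D f R g hle
  obtain ⟨⟨hRp, hg⟩, hB, hom⟩ := hRg
  let _ : Fintype (Subgroup.centralizer (R : Set G)) := Fintype.ofFinite _
  obtain ⟨ξ, hgξ⟩ := hg
  have hξ : ξ ∈ g := by rw [hgξ]; exact mem_blockOf_self ξ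
  have hcls : IsClassFunction G (blockCoeff B) := blockCoeff_isClassFunction B
  have heR : ∀ x, MemLocalRing M (blockCoeff B x) := by
    obtain ⟨χ₀, rfl⟩ := hB
    exact memLocalRing_blockCoeff_blockOf χ₀
  have hex : ∃ c : G, c ∈ Subgroup.centralizer (R : Set G) ∧
      ¬ MemLocalIdeal M (blockCoeff B c) := by
    by_contra hcon
    push Not at hcon
    have h1 := hom ξ hξ
    rw [brauerOmega_eq] at h1
    have h2 : MemLocalIdeal M (omegaFun (ξ : Subgroup.centralizer (R : Set G) → ℂ)
        (resFun (Subgroup.centralizer (R : Set G)) (blockCoeff B))) := by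
      apply memLocalIdeal_omegaFun_of_forall ξ
        (resFun_isClassFunction (Subgroup.centralizer (R : Set G)) hcls) (fun x => heR _)
      intro x
      left
      exact hcon x x.2
    have h3 := memLocalIdeal_sub h2 h1
    rw [sub_sub_cancel] at h3
    exact not_memLocalIdeal_one h3
  obtain ⟨c, hcR, hc⟩ := hex
  obtain ⟨x, hx⟩ := (brauer_unit_coeff_iff p hM B hB D hD R hRp).mp
    ⟨c, heR c, hc, c, IsConj.refl c, hcR⟩
  have h1 : Nat.card (R.map (MulAut.conj x).toMonoidHom) = Nat.card R :=
    Subgroup.card_map_of_injective (MulAut.conj x).injective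
  have h2 : Nat.card (R.map (MulAut.conj x).toMonoidHom) ≤ Nat.card D :=
    Subgroup.card_le_of_le hx
  exact (Subgroup.eq_of_le_of_card_ge hDR (by omega)).symm

/-- For a maximal Brauer pair `(P, e)`, the block `e` of `C_G(P)` has defect group `Z(P)`. -/
theorem isDefectGroup_of_isMaximalBrauerPair (hM : IsPModular p M)
    (B : Set (IrrCharacter G)) (P : Subgroup G)
    (e : Set (IrrCharacter (Subgroup.centralizer (P : Set G))))
    (hmax : IsMaximalBrauerPair p M B P e) :
    IsDefectGroup p M e ((P ⊓ Subgroup.centralizer (P : Set G)).subgroupOf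
      (Subgroup.centralizer (P : Set G))) := by
  classical
  obtain ⟨F, hF, -⟩ := Cfsg.Agent.S4677.result p M hM B P e hmax
  apply (Cfsg.Agent.S4678.result p M hM B P e hmax F hF P e le_rfl hmax.1.1.2
    Relation.ReflTransGen.refl).mp
  refine ⟨le_rfl, ?_⟩
  rintro Q' ⟨φ, hφ, hrange⟩
  have hle : Q' ≤ P := by
    rw [← hrange]
    rintro _ ⟨x, rfl⟩
    exact (F.le_of_mem hφ).2 x
  have hinj : Function.Injective φ := F.injective_of_mem hφ
  have hcard : Nat.card P = Nat.card Q' := by
    rw [← hrange]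
    exact Nat.card_congr (MonoidHom.ofInjective hinj).toEquiv
  have heq : Q' = P := Subgroup.eq_of_le_of_card_ge hle (by omega)
  rw [heq]

/-- Defect groups of a block are conjugate. -/
theorem exists_conj_eq_of_isDefectGroup (hM : IsPModular p M)
    (B : Set (IrrCharacter G)) (hB : IsPBlock M B) (D₁ D₂ : Subgroup G)
    (h₁ : IsDefectGroup p M B D₁) (h₂ : IsDefectGroup p M B D₂) :
    ∃ x : G, D₂.map (MulAut.conj x).toMonoidHom = D₁ := by
  have hD₂p : IsPGroup p D₂ := ExtFirstMain.isPGroup_of_isDefectGroup h₂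
  have h3 := (brauer_unit_coeff_iff p hM B hB D₂ h₂ D₂ hD₂p).mpr
    ⟨1, by
      intro w hw
      obtain ⟨q, hq, rfl⟩ := hw
      simpa using hq⟩
  obtain ⟨x, hx⟩ := (brauer_unit_coeff_iff p hM B hB D₁ h₁ D₂ hD₂p).mp h3
  refine ⟨x, ?_⟩
  have h1 : Nat.card (D₂.map (MulAut.conj x).toMonoidHom) = Nat.card D₂ :=
    Subgroup.card_map_of_injective (MulAut.conj x).injective
  have h2 : Nat.card D₁ ≤ Nat.card D₂ := card_le_of_isDefectGroup hM hB h₁ h₂
  exact Subgroup.eq_of_le_of_card_ge hx (by omega)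

end maxpair

end Cfsg.Agent.Lib.Helper23.PairInd
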