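/-
helper23: a defect group D of a block is radical: O_p(N_G(D)) = D (corollary of the first main
theorem, helper6 `exists_block_normalizer` + `le_of_isDefectGroup_of_normal`).
-/
import Mathlib
import Cfsg.Agent.Lib.Helper6.FirstMain
import Cfsg.Agent.Lib.Helper12.Cores

set_option autoImplicit false
open Cfsg Cfsg.Agent.CharLib Cfsg.Agent.Lib.Helper24 Cfsg.Agent.Lib.Helper6

namespace Cfsg.Agent.Lib.Helper23

theorem isPGroup_of_isDefectGroup' {G : Type*} [Group G] (p : ℕ) [Fact p.Prime]
    (M : Ideal Cfsg.AlgInt) (B : Set (Cfsg.IrrCharacter G)) (D : Subgroup G)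
    (hD : Cfsg.IsDefectGroup p M B D) : IsPGroup p D := by
  obtain ⟨g, _, P, rfl⟩ := hD
  exact P.isPGroup'.map _

theorem defect_group_radical {G : Type*} [Group G] [Finite G] (p : ℕ) [Fact p.Prime]
    (M : Ideal Cfsg.AlgInt) (hM : Cfsg.IsPModular p M) (B : Set (Cfsg.IrrCharacter G))
    (hB : Cfsg.IsPBlock M B) (D : Subgroup G) (hD : Cfsg.IsDefectGroup p M B D) :
    (Cfsg.pCore p (Subgroup.normalizer (D : Set G))).map
      (Subgroup.normalizer (D : Set G)).subtype = D := by
  have hDp : IsPGroup p D := isPGroup_of_isDefectGroup' p M B D hD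
  obtain ⟨b, hb, hbD, _⟩ := exists_block_normalizer hM D hDp B hB hD
  have h1 : Cfsg.pCore p (Subgroup.normalizer (D : Set G)) ≤
      D.subgroupOf (Subgroup.normalizer (D : Set G)) := by
    have : (Cfsg.pCore p (Subgroup.normalizer (D : Set G))).Characteristic :=
      Cfsg.Agent.Lib.Helper12.pCore_characteristic' p
    exact le_of_isDefectGroup_of_normal hM _ (Cfsg.Agent.Lib.Helper12.pCore_isPGroup' p) hb hbD
  have h2 : D.subgroupOf (Subgroup.normalizer (D : Set G)) ≤
      Cfsg.pCore p (Subgroup.normalizer (D : Set G)) := by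
    apply Cfsg.Agent.Lib.Helper12.le_pCore' p _ _ hDp.comap_subtype
    exact Subgroup.normal_in_normalizer
  rw [le_antisymm h1 h2, Subgroup.map_subgroupOf_eq_of_le Subgroup.le_normalizer]

end Cfsg.Agent.Lib.Helper23
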