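import Mathlib
import Cfsg.Agent.Lib.Helper23.QuotDefectAux

set_option autoImplicit false

namespace Cfsg.Agent.Lib.Helper23

open Cfsg Cfsg.Agent.CharLib Cfsg.Agent.Lib.Helper24 Cfsg.Agent.Lib.Helper6
open scoped ComplexConjugate

universe u

section

variable {G : Type u} [Group G] [Finite G] {M : Ideal AlgInt}

omit [Finite G] in
theorem map_mk_map_conj (N : Subgroup G) [N.Normal] (D : Subgroup G) (c : G) :
    (D.map (MulAut.conj c).toMonoidHom).map (QuotientGroup.mk' N) =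
      (D.map (QuotientGroup.mk' N)).map (MulAut.conj (c : G ⧸ N)).toMonoidHom := by
  rw [Subgroup.map_map, Subgroup.map_map]
  congr 1

open Classical in
/-- The sum of an irreducible character over a normal subgroup: `|N| χ(1)` if `N` is in the
kernel, and `0` otherwise. -/
theorem sum_normal_eq (χ : IrrCharacter G) (N : Subgroup G) [N.Normal] [Fintype N] :
    ∑ n : N, (χ : G → ℂ) n =
      if (∀ n ∈ N, (χ : G → ℂ) n = (χ : G → ℂ) 1) then (Nat.card N : ℂ) * (χ : G → ℂ) 1 else 0 := by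
  split_ifs with h
  · rw [Finset.sum_congr rfl (fun (n : N) _ => h (n : G) n.2)]
    simp [Nat.card_eq_fintype_card]
  · by_contra hne
    apply h
    intro n hn
    have h1 := Cfsg.Agent.Lib.Helper25.apply_mul_sum_normal χ N ⟨n, hn⟩
    rw [mul_comm] at h1
    exact mul_left_cancel₀ hne h1

/-- The idempotent coefficient of the characters of `G ⧸ N` inflating into `B`, for a normal
`p`-subgroup `N` centralized by the `p`-regular element `y`. -/
theorem blockCoeff_quotient_eq {p : ℕ} [hpp : Fact p.Prime] (hM : IsPModular p M)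
    (N : Subgroup G) [N.Normal] (hN : IsPGroup p N) (χ₀ : IrrCharacter G) (y : G)
    (hy : ¬ p ∣ orderOf y) (hNy : ∀ n ∈ N, Commute n y) :
    blockCoeff {β : IrrCharacter (G ⧸ N) |
      Cfsg.Agent.Lib.Helper25.inflateIrr N β ∈ blockOf M (χ₀ : G → ℂ)} (y : G ⧸ N) =
      blockCoeff (blockOf M (χ₀ : G → ℂ)) y := by
  classical
  let _ := Fintype.ofFinite G
  let _ := Fintype.ofFinite N
  let _ := fintypeIrr G
  let _ := fintypeIrr (G ⧸ N)
  set B := blockOf M (χ₀ : G → ℂ) with hBdef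
  set F : IrrCharacter G → ℂ := fun ψ =>
    if ψ ∈ B then (ψ : G → ℂ) 1 * conj ((ψ : G → ℂ) y) else 0 with hF
  have hG0 : (Nat.card G : ℂ) ≠ 0 := Nat.cast_ne_zero.mpr Nat.card_pos.ne'
  have hN0 : (Nat.card N : ℂ) ≠ 0 := Nat.cast_ne_zero.mpr Nat.card_pos.ne'
  have hQ0 : (Nat.card (G ⧸ N) : ℂ) ≠ 0 := Nat.cast_ne_zero.mpr Nat.card_pos.ne'
  have hcard : (Nat.card G : ℂ) = (Nat.card (G ⧸ N) : ℂ) * (Nat.card N : ℂ) := by
    rw [Subgroup.card_eq_card_quotient_mul_card_subgroup N]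
    push_cast
    rfl
  -- left side
  have hL : blockCoeff {β : IrrCharacter (G ⧸ N) |
      Cfsg.Agent.Lib.Helper25.inflateIrr N β ∈ B} (y : G ⧸ N) =
      (Nat.card (G ⧸ N) : ℂ)⁻¹ * ∑ ψ ∈ Finset.univ.filter
        (fun ψ : IrrCharacter G => ∀ n ∈ N, (ψ : G → ℂ) n = (ψ : G → ℂ) 1), F ψ := by
    rw [blockCoeff_eq_sum, ← Cfsg.Agent.Lib.Helper25.sum_irr_quotient N F]
    congr 1
  -- right side
  have hR1 : ∑ n : N, blockCoeff B (y * (n : G)) = blockCoeff B y := by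
    rw [Finset.sum_eq_single (1 : N)]
    · simp
    · intro n _ hn
      apply blockCoeff_eq_zero_of_dvd_orderOf hM χ₀
      have hc : Commute (n : G) y := hNy n n.2
      rw [← hc.eq]
      obtain ⟨k, hk⟩ := (IsPGroup.iff_orderOf.mp hN) n
      refine dvd_orderOf_mul_of_commute hc ⟨k, by rw [Subgroup.orderOf_coe, hk]⟩ ?_ hy
        (orderOf_pos y)
      intro h1
      exact hn (Subtype.ext h1)
    · intro h; exact absurd (Finset.mem_univ _) h
  have hR2 : ∑ n : N, blockCoeff B (y * (n : G)) = (Nat.card G : ℂ)⁻¹ *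
      ∑ χ : IrrCharacter G, if χ ∈ B then
        (χ : G → ℂ) 1 * conj (∑ n : N, (χ : G → ℂ) (y * (n : G))) else 0 := by
    have h0 : ∀ n : N, blockCoeff B (y * (n : G)) = (Nat.card G : ℂ)⁻¹ *
        ∑ χ : IrrCharacter G, if χ ∈ B then
          (χ : G → ℂ) 1 * conj ((χ : G → ℂ) (y * (n : G))) else 0 :=
      fun n => blockCoeff_eq_sum B _
    rw [Finset.sum_congr rfl (fun n _ => h0 n), ← Finset.mul_sum, Finset.sum_comm]
    congr 1
    apply Finset.sum_congr rfl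
    intro χ _
    split_ifs
    · rw [map_sum, Finset.mul_sum]
    · simp
  have hR3 : ∀ χ : IrrCharacter G, (if χ ∈ B then
        (χ : G → ℂ) 1 * conj (∑ n : N, (χ : G → ℂ) (y * (n : G))) else 0) =
      if (∀ n ∈ N, (χ : G → ℂ) n = (χ : G → ℂ) 1) then (Nat.card N : ℂ) * F χ else 0 := by
    intro χ
    rw [Cfsg.Agent.Lib.Helper25.sum_mul_normal χ N y, sum_normal_eq χ N]
    have h1 := irr_apply_one_ne_zero χ
    have h2 : conj ((χ : G → ℂ) 1) = (χ : G → ℂ) 1 := by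
      rw [irr_apply_one, Complex.conj_natCast]
    by_cases hχ : χ ∈ B
    · rw [if_pos hχ]
      split_ifs with hk
      · rw [hF]
        simp only [if_pos hχ]
        rw [map_div₀, map_mul, map_mul, Complex.conj_natCast, h2]
        field_simp
      · simp
    · rw [if_neg hχ]
      split_ifs with hk
      · rw [hF]
        simp only [if_neg hχ, mul_zero]
      · rfl
  have hR4 : (∑ χ : IrrCharacter G,
      if (∀ n ∈ N, (χ : G → ℂ) n = (χ : G → ℂ) 1) then (Nat.card N : ℂ) * F χ else 0) =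
      (Nat.card N : ℂ) * ∑ ψ ∈ Finset.univ.filter
        (fun ψ : IrrCharacter G => ∀ n ∈ N, (ψ : G → ℂ) n = (ψ : G → ℂ) 1), F ψ := by
    rw [Finset.mul_sum, Finset.sum_filter]
  rw [hL, ← hR1, hR2, Finset.sum_congr rfl (fun χ _ => hR3 χ), hR4, hcard]
  field_simp

theorem normal_p_subgroup_quotient_block (p : ℕ) [hpp : Fact p.Prime] (hM : IsPModular p M)
    (N : Subgroup G) [N.Normal] (hN : IsPGroup p N) (B : Set (IrrCharacter G))
    (hB : IsPBlock M B) :
    ∃ Bbar : Set (IrrCharacter (G ⧸ N)), IsPBlock M Bbar ∧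
      (∀ χ ∈ Bbar, ∀ ψ : IrrCharacter G,
        (ψ : G → ℂ) = (χ : G ⧸ N → ℂ) ∘ QuotientGroup.mk → ψ ∈ B) ∧
      ∀ Dbar : Subgroup (G ⧸ N), IsDefectGroup p M Bbar Dbar ↔
        ∃ P : Subgroup G, IsDefectGroup p M B P ∧ Dbar = P.map (QuotientGroup.mk' N) := by
  classical
  let _ := Fintype.ofFinite G
  have hprime : M.IsPrime := isPrime_of_isPModular hM
  have hBblock := hB
  obtain ⟨χ₀, rfl⟩ := hB
  have hχ₀ : χ₀ ∈ blockOf M (χ₀ : G → ℂ) := mem_blockOf_self χ₀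
  set B := blockOf M (χ₀ : G → ℂ) with hBdef
  -- a defect class and defect group of `B`
  obtain ⟨y, hy⟩ := Cfsg.Agent.S0906.result p M hM B hBblock
  obtain ⟨P₀⟩ : Nonempty (Sylow p (Subgroup.centralizer ({y} : Set G))) := inferInstance
  set D₀ := (P₀ : Subgroup (Subgroup.centralizer ({y} : Set G))).map
    (Subgroup.centralizer ({y} : Set G)).subtype with hD₀def
  have hD₀ : IsDefectGroup p M B D₀ := ⟨y, hy, P₀, rfl⟩
  have hD₀p : IsPGroup p D₀ := P₀.isPGroup'.map _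
  have hD₀y : D₀ ≤ Subgroup.centralizer ({y} : Set G) := by
    rintro _ ⟨u, _, rfl⟩
    exact u.2
  have hND₀ : N ≤ D₀ := le_of_isDefectGroup_of_normal hM N hN hBblock hD₀
  have hNy : ∀ n ∈ N, Commute n y := fun n hn =>
    Subgroup.mem_centralizer_singleton_iff.mp (hD₀y (hND₀ hn))
  have hyreg : ¬ p ∣ orderOf y := by
    intro hc
    apply hy.2.1
    rw [blockCoeff_eq_zero_of_dvd_orderOf hM χ₀ y hc]
    exact memLocalIdeal_zero hprime.one_notMem
  -- the union of blocks of the quotient inside `B`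
  set S : Set (IrrCharacter (G ⧸ N)) :=
    {β | Cfsg.Agent.Lib.Helper25.inflateIrr N β ∈ B} with hSdef
  have hS : ∀ β ∈ S, ∀ β' : IrrCharacter (G ⧸ N),
      SameBlock M (β : G ⧸ N → ℂ) (β' : G ⧸ N → ℂ) → β' ∈ S := by
    intro β hβ β' hββ'
    have h1 := sameBlock_inflate N _ _ hββ'
    exact sameBlock_trans (hβ : SameBlock M (χ₀ : G → ℂ) _) h1
  have hSy : ¬ MemLocalIdeal M (blockCoeff S ((y : G) : G ⧸ N)) := by
    rw [hSdef, blockCoeff_quotient_eq hM N hN χ₀ y hyreg hNy]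
    exact hy.2.1
  obtain ⟨β₀, hβ₀S, hβ₀y⟩ := exists_block_of_blockCoeff_union S hS _ hSy
  set Bbar := blockOf M (β₀ : G ⧸ N → ℂ) with hBbardef
  have hBbar : IsPBlock M Bbar := ⟨β₀, rfl⟩
  have hsub : ∀ χ ∈ Bbar, ∀ ψ : IrrCharacter G,
      (ψ : G → ℂ) = (χ : G ⧸ N → ℂ) ∘ QuotientGroup.mk → ψ ∈ B := by
    intro χ hχ ψ hψ
    have h1 : χ ∈ S := hS β₀ hβ₀S χ hχ
    have h2 : ψ = Cfsg.Agent.Lib.Helper25.inflateIrr N χ := Subtype.ext hψ
    rw [h2]
    exact h1
  -- the image of `D₀` is a defect group of `Bbar`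
  set Db₀ := D₀.map (QuotientGroup.mk' N) with hDb₀def
  have hDb₀p : IsPGroup p Db₀ := hD₀p.map _
  have hDb₀y : Db₀ ≤ Subgroup.centralizer ({((y : G) : G ⧸ N)} : Set (G ⧸ N)) := by
    rintro _ ⟨u, hu, rfl⟩
    have h3 := Subgroup.mem_centralizer_singleton_iff.mp (hD₀y hu)
    rw [Subgroup.mem_centralizer_singleton_iff]
    change (u : G ⧸ N) * ((y : G) : G ⧸ N) = ((y : G) : G ⧸ N) * (u : G ⧸ N)
    rw [← QuotientGroup.mk_mul, ← QuotientGroup.mk_mul, h3]
  obtain ⟨kb, hkb⟩ := Cfsg.Agent.S0906.result p M hM Bbar hBbar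
  have hcent : CentLE p ((y : G) : G ⧸ N) kb :=
    centLE_of_blockCoeff hM β₀ kb (hkb.2.2 β₀ (mem_blockOf_self β₀)) _ hβ₀y
  obtain ⟨kb', hkb', hDk'⟩ := hcent Db₀ hDb₀p hDb₀y
  obtain ⟨Eb', hEb'⟩ := exists_sylow_map_ge (Subgroup.centralizer ({kb'} : Set (G ⧸ N))) _
    hDb₀p hDk'
  set Db' := (Eb' : Subgroup (Subgroup.centralizer ({kb'} : Set (G ⧸ N)))).map
    (Subgroup.centralizer ({kb'} : Set (G ⧸ N))).subtype with hDb'def
  have hDb' : IsDefectGroup p M Bbar Db' := ⟨kb', IsDefectClass.of_isConj hkb hkb', Eb', rfl⟩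
  -- images of defect groups of `B` all have the same order
  have himgcard : ∀ P : Subgroup G, IsDefectGroup p M B P →
      Nat.card (P.map (QuotientGroup.mk' N)) = Nat.card Db₀ := by
    intro P hP
    obtain ⟨c, rfl⟩ := isDefectGroup_conj_of_isDefectGroup hM hBblock hD₀ hP
    rw [map_mk_map_conj]
    exact Subgroup.card_map_of_injective (MulAut.conj (c : G ⧸ N)).injective
  obtain ⟨P₁, hP₁, hP₁le⟩ := quotient_block_defect_group_le p hM N Bbar hBbar B hBblock hsub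
    Db' hDb'
  have hDb₀eq : Db₀ = Db' := by
    apply Subgroup.eq_of_le_of_card_ge hEb'
    rw [← himgcard P₁ hP₁]
    exact Subgroup.card_le_of_le hP₁le
  have hDb₀def' : IsDefectGroup p M Bbar Db₀ := by rw [hDb₀eq]; exact hDb'
  refine ⟨Bbar, hBbar, hsub, ?_⟩
  intro Dbar
  constructor
  · intro hDbar
    obtain ⟨P, hP, hPle⟩ := quotient_block_defect_group_le p hM N Bbar hBbar B hBblock hsub
      Dbar hDbar
    refine ⟨P, hP, ?_⟩
    apply Subgroup.eq_of_le_of_card_ge hPle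
    rw [himgcard P hP, card_defectGroup_eq hM Bbar hBbar Dbar hDbar,
      card_defectGroup_eq hM Bbar hBbar Db₀ hDb₀def']
  · rintro ⟨P, hP, rfl⟩
    obtain ⟨c, rfl⟩ := isDefectGroup_conj_of_isDefectGroup hM hBblock hD₀ hP
    rw [map_mk_map_conj]
    exact isDefectGroup_conj hM hBbar hDb₀def' _

end

end Cfsg.Agent.Lib.Helper23
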