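/-
helper23: for a normal p-subgroup P with G / C_G(P) a p-group, a block B of G and the set of
irreducible characters of G/P inflating into B have the same p-regular rank (number of irreducible
Brauer characters): `blockRank_eq_blockRank_quotient`.  Maps `inflReg`, `liftSum` between functions
on G/P and on G, mutually inverse on functions vanishing off the p-regular elements.
-/
import Mathlib
import Cfsg.Prelude.Def_BlockRank
import Cfsg.Agent.Lib.Helper6.NormalPBlock
import Cfsg.Agent.Lib.Helper6.BlockOrth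
import Cfsg.Agent.Lib.Helper25.Inflate
import Cfsg.Agent.Lib.Lead.CharMain

set_option autoImplicit false
open Cfsg Cfsg.Agent.CharLib Cfsg.Agent.Lib.Helper24 Cfsg.Agent.Lib.Helper6 Cfsg.Agent.Lib.Helper25
open scoped ComplexConjugate

namespace Cfsg.Agent.Lib.Helper23

universe u

section maps

variable {G : Type u} [Group G] [Fintype G] (p : ℕ) (P : Subgroup G) [hPn : P.Normal]

/-- Inflate a function on `G ⧸ P` and cut it to the `p`-regular elements of `G`. -/
noncomputable def inflReg : (G ⧸ P → ℂ) →ₗ[ℂ] (G → ℂ) where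
  toFun f := fun g => by classical exact if ¬ p ∣ orderOf g then f (g : G ⧸ P) else 0
  map_add' f₁ f₂ := by
    funext g
    simp only [Pi.add_apply]
    split_ifs <;> simp
  map_smul' c f := by
    funext g
    simp only [Pi.smul_apply, RingHom.id_apply, smul_eq_mul]
    split_ifs <;> simp

theorem inflReg_apply (f : G ⧸ P → ℂ) (g : G) [Decidable (¬ p ∣ orderOf g)] :
    inflReg p P f g = if ¬ p ∣ orderOf g then f (g : G ⧸ P) else 0 := by
  unfold inflReg
  simp only [LinearMap.coe_mk, AddHom.coe_mk]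
  split_ifs <;> rfl

/-- Sum a function on `G` over the `p`-regular lifts of an element of `G ⧸ P`. -/
noncomputable def liftSum : (G → ℂ) →ₗ[ℂ] (G ⧸ P → ℂ) where
  toFun f := fun y => by
    classical exact ∑ x : G, if ¬ p ∣ orderOf x ∧ (x : G ⧸ P) = y then f x else 0
  map_add' f₁ f₂ := by
    funext y
    simp only [Pi.add_apply]
    rw [← Finset.sum_add_distrib]
    apply Finset.sum_congr rfl
    intro x _
    split_ifs <;> simp
  map_smul' c f := by
    funext y
    simp only [Pi.smul_apply, RingHom.id_apply, smul_eq_mul]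
    rw [Finset.mul_sum]
    apply Finset.sum_congr rfl
    intro x _
    split_ifs <;> simp

theorem liftSum_apply (f : G → ℂ) (y : G ⧸ P)
    [DecidablePred fun x : G => ¬ p ∣ orderOf x ∧ (x : G ⧸ P) = y] :
    liftSum p P f y = ∑ x : G, if ¬ p ∣ orderOf x ∧ (x : G ⧸ P) = y then f x else 0 := by
  unfold liftSum
  simp only [LinearMap.coe_mk, AddHom.coe_mk]
  apply Finset.sum_congr rfl
  intro x _
  split_ifs <;> rfl

theorem pRegularPart_apply {X : Type*} [Group X] (f : X → ℂ) (g : X) [Decidable (¬ p ∣ orderOf g)] :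
    pRegularPart p f g = if ¬ p ∣ orderOf g then f g else 0 := by
  unfold pRegularPart IsPRegular
  split_ifs <;> rfl

theorem not_dvd_orderOf_mk {g : G} (hg : ¬ p ∣ orderOf g) : ¬ p ∣ orderOf (g : G ⧸ P) := by
  intro h
  exact hg (h.trans (orderOf_map_dvd (QuotientGroup.mk' P) g))

theorem inflReg_pRegularPart (f : G ⧸ P → ℂ) :
    inflReg p P (pRegularPart p f) = pRegularPart p (f ∘ (QuotientGroup.mk : G → G ⧸ P)) := by
  classical
  funext g
  rw [inflReg_apply, pRegularPart_apply, pRegularPart_apply]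
  by_cases hg : p ∣ orderOf g
  · rw [if_neg (not_not.mpr hg), if_neg (not_not.mpr hg)]
  · rw [if_pos hg, if_pos hg, if_pos (not_dvd_orderOf_mk p P hg)]
    rfl

end maps

section unique

variable {G : Type u} [Group G] [Fintype G] {p : ℕ} [hpp : Fact p.Prime] (P : Subgroup G)
  [hPn : P.Normal]

/-- Uniqueness of `p`-regular lifts. -/
theorem pRegular_lift_unique (hP : IsPGroup p P)
    (hC : ∃ k : ℕ, (Subgroup.centralizer (P : Set G)).index = p ^ k) {x g : G}
    (hx : ¬ p ∣ orderOf x) (hg : ¬ p ∣ orderOf g) (h : (x : G ⧸ P) = (g : G ⧸ P)) : x = g := by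
  have hz : g⁻¹ * x ∈ P := QuotientGroup.eq.mp h.symm
  by_contra hne
  have hz1 : g⁻¹ * x ≠ 1 := by
    intro h1
    apply hne
    have := congrArg (fun t => g * t) h1
    simpa using this
  have hgC := mem_centralizer_of_pRegular P hC hg
  have hcomm : Commute (g⁻¹ * x) g := (Subgroup.mem_centralizer_iff.mp hgC _ hz)
  have hzp : ∃ k : ℕ, orderOf (g⁻¹ * x) = p ^ k := by
    obtain ⟨k, hk⟩ := (IsPGroup.iff_orderOf.mp hP) ⟨g⁻¹ * x, hz⟩
    exact ⟨k, by rw [← hk, Subgroup.orderOf_mk]⟩
  have h3 := dvd_orderOf_mul_of_commute hcomm hzp hz1 hg (orderOf_pos g)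
  have h4 : g⁻¹ * x * g = g⁻¹ * x * g := rfl
  rw [hcomm.eq] at h3
  have h5 : g * (g⁻¹ * x) = x := by group
  rw [h5] at h3
  exact hx h3

theorem liftSum_inflReg (hP : IsPGroup p P)
    (hC : ∃ k : ℕ, (Subgroup.centralizer (P : Set G)).index = p ^ k) (f : G ⧸ P → ℂ) :
    liftSum p P (inflReg p P f) = pRegularPart p f := by
  classical
  funext y
  rw [liftSum_apply, pRegularPart_apply]
  by_cases hy : p ∣ orderOf y
  · rw [if_neg (not_not.mpr hy)]
    apply Finset.sum_eq_zero
    intro x _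
    rw [if_neg]
    rintro ⟨hx, rfl⟩
    exact not_dvd_orderOf_mk p P hx hy
  · rw [if_pos hy]
    obtain ⟨x₀, hx₀, rfl⟩ := exists_pRegular_lift P y hy
    rw [Finset.sum_eq_single x₀]
    · rw [if_pos ⟨hx₀, rfl⟩, inflReg_apply, if_pos hx₀]
    · intro x _ hx
      rw [if_neg]
      rintro ⟨hxr, hxy⟩
      exact hx (pRegular_lift_unique P hP hC hxr hx₀ hxy)
    · intro h
      exact absurd (Finset.mem_univ _) h

theorem inflReg_liftSum (hP : IsPGroup p P)
    (hC : ∃ k : ℕ, (Subgroup.centralizer (P : Set G)).index = p ^ k) (f : G → ℂ) :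
    inflReg p P (liftSum p P f) = pRegularPart p f := by
  classical
  funext g
  rw [inflReg_apply, pRegularPart_apply]
  by_cases hg : p ∣ orderOf g
  · rw [if_neg (not_not.mpr hg), if_neg (not_not.mpr hg)]
  · rw [if_pos hg, if_pos hg, liftSum_apply, Finset.sum_eq_single g]
    · rw [if_pos ⟨hg, rfl⟩]
    · intro x _ hx
      rw [if_neg]
      rintro ⟨hxr, hxy⟩
      exact hx (pRegular_lift_unique P hP hC hxr hg hxy)
    · intro h
      exact absurd (Finset.mem_univ _) h

end unique

section regsub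

/-- Functions vanishing at the `p`-singular elements. -/
def regSub (p : ℕ) (X : Type*) [Group X] : Submodule ℂ (X → ℂ) where
  carrier := {f | ∀ g, p ∣ orderOf g → f g = 0}
  add_mem' := by
    intro a b ha hb g hg
    rw [Pi.add_apply, ha g hg, hb g hg, add_zero]
  zero_mem' := fun _ _ => rfl
  smul_mem' := by
    intro c a ha g hg
    rw [Pi.smul_apply, ha g hg, smul_zero]

theorem pRegularPart_eq_of_mem_regSub {p : ℕ} {X : Type*} [Group X] {f : X → ℂ} (hf : f ∈ regSub p X) :
    pRegularPart p f = f := by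
  classical
  funext g
  rw [pRegularPart_apply]
  by_cases hg : p ∣ orderOf g
  · rw [if_neg (not_not.mpr hg), hf g hg]
  · rw [if_pos hg]

theorem span_pRegularPart_le_regSub (p : ℕ) {X : Type*} [Group X] (S : Set (IrrCharacter X)) :
    Submodule.span ℂ ((fun χ : IrrCharacter X => pRegularPart p (χ : X → ℂ)) '' S) ≤ regSub p X := by
  classical
  rw [Submodule.span_le]
  rintro _ ⟨χ, _, rfl⟩ g hg
  simp only
  rw [pRegularPart_apply, if_neg (not_not.mpr hg)]

end regsub

section orth0

variable {G : Type u} [Group G] [Fintype G] (p : ℕ) (P : Subgroup G) [hPn : P.Normal]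

theorem liftSum_isClassFunction {f : G → ℂ} (hf : IsClassFunction G f) :
    IsClassFunction (G ⧸ P) (liftSum p P f) := by
  classical
  intro y k
  obtain ⟨k₀, rfl⟩ := QuotientGroup.mk_surjective k
  rw [liftSum_apply, liftSum_apply]
  rw [← Equiv.sum_comp (MulAut.conj k₀).toEquiv]
  apply Finset.sum_congr rfl
  intro x _
  have h1 : (MulAut.conj k₀).toEquiv x = k₀ * x * k₀⁻¹ := rfl
  rw [h1, hf x k₀]
  have h2 : orderOf (k₀ * x * k₀⁻¹) = orderOf x := by
    rw [← MulAut.conj_apply, MulEquiv.orderOf_eq]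
  have h3 : ((k₀ * x * k₀⁻¹ : G) : G ⧸ P) = (k₀ : G ⧸ P) * y * (k₀ : G ⧸ P)⁻¹ ↔ (x : G ⧸ P) = y := by
    rw [QuotientGroup.mk_mul, QuotientGroup.mk_mul, QuotientGroup.mk_inv]
    constructor
    · intro h
      have := congrArg (fun t => (k₀ : G ⧸ P)⁻¹ * t * (k₀ : G ⧸ P)) h
      simpa [mul_assoc] using this
    · intro h
      rw [h]
  rw [h2]
  simp only [h3]

theorem liftSum_eq_zero_of_dvd (f : G → ℂ) {y : G ⧸ P} (hy : p ∣ orderOf y) :
    liftSum p P f y = 0 := by
  classical
  rw [liftSum_apply]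
  apply Finset.sum_eq_zero
  intro x _
  rw [if_neg]
  rintro ⟨hx, rfl⟩
  exact not_dvd_orderOf_mk p P hx hy

theorem liftSum_pRegularPart (f : G → ℂ) : liftSum p P (pRegularPart p f) = liftSum p P f := by
  classical
  funext y
  rw [liftSum_apply, liftSum_apply]
  apply Finset.sum_congr rfl
  intro x _
  by_cases hx : ¬ p ∣ orderOf x ∧ (x : G ⧸ P) = y
  · rw [if_pos hx, if_pos hx, pRegularPart_apply, if_pos hx.1]
  · rw [if_neg hx, if_neg hx]

theorem classInner_liftSum [Fintype (G ⧸ P)] (f : G → ℂ) (γ : G ⧸ P → ℂ) :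
    classInner (liftSum p P f) γ = (Nat.card (G ⧸ P) : ℂ)⁻¹ *
      ∑ x : G, (if ¬ p ∣ orderOf x then f x * conj (γ (x : G ⧸ P)) else 0) := by
  classical
  unfold classInner
  congr 1
  have h1 : ∀ y : G ⧸ P, liftSum p P f y * conj (γ y) =
      ∑ x : G, if (x : G ⧸ P) = y then
        (if ¬ p ∣ orderOf x then f x * conj (γ (x : G ⧸ P)) else 0) else 0 := by
    intro y
    rw [liftSum_apply, Finset.sum_mul]
    apply Finset.sum_congr rfl
    intro x _
    by_cases hxy : (x : G ⧸ P) = y
    · rw [if_pos hxy]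
      by_cases hx : ¬ p ∣ orderOf x
      · rw [if_pos ⟨hx, hxy⟩, if_pos hx, hxy]
      · rw [if_neg (fun h => hx h.1), if_neg hx, zero_mul]
    · rw [if_neg hxy, if_neg (fun h => hxy h.2), zero_mul]
  rw [Finset.sum_congr rfl (fun y _ => h1 y), Finset.sum_comm]
  apply Finset.sum_congr rfl
  intro x _
  rw [Finset.sum_ite_eq]
  simp

end orth0

section orth

variable {G : Type u} [Group G] [Fintype G] {p : ℕ} [hpp : Fact p.Prime] (P : Subgroup G)
  [hPn : P.Normal] {M : Ideal AlgInt}

/-- The sum over the `p`-regular lifts of `χ ∈ B` is a combination of the `p`-regular parts of the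
`γ ∈ Irr(G ⧸ P)` whose inflation lies in `B`. -/
theorem liftSum_mem_span (hM : IsPModular p M) (ψ₀ : IrrCharacter G) (χ : IrrCharacter G)
    (hχ : χ ∈ blockOf M (ψ₀ : G → ℂ)) :
    liftSum p P (pRegularPart p (χ : G → ℂ)) ∈ Submodule.span ℂ
      ((fun γ : IrrCharacter (G ⧸ P) => pRegularPart p (γ : G ⧸ P → ℂ)) ''
        {γ | inflateIrr P γ ∈ blockOf M (ψ₀ : G → ℂ)}) := by
  classical
  let _ := fintypeIrr (G ⧸ P)
  let _ : Fintype (G ⧸ P) := Fintype.ofFinite _
  rw [liftSum_pRegularPart]
  set η := liftSum p P (χ : G → ℂ) with hη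
  have hηc : IsClassFunction (G ⧸ P) η :=
    liftSum_isClassFunction p P (IsCharacter.isClassFunction (IsIrrCharacter.isCharacter χ.2))
  have hexp := classFunction_eq_sum hηc
  have hzero : ∀ γ : IrrCharacter (G ⧸ P), inflateIrr P γ ∉ blockOf M (ψ₀ : G → ℂ) →
      classInner η (γ : G ⧸ P → ℂ) = 0 := by
    intro γ hγ
    rw [hη, classInner_liftSum]
    apply mul_eq_zero_of_right
    have h1 := sum_regular_eq_zero_of_not_mem_block hM ψ₀ (inflateIrr P γ) hγ χ hχ
    have h2 := congrArg (starRingEnd ℂ) h1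
    rw [map_sum, map_zero] at h2
    refine Eq.trans ?_ h2
    apply Finset.sum_congr rfl
    intro x _
    by_cases hx : ¬ p ∣ orderOf x
    · rw [if_pos hx, if_pos hx, map_mul, Complex.conj_conj, inflateIrr_apply, mul_comm]
    · rw [if_neg hx, if_neg hx, map_zero]
  have hreg : η = pRegularPart p η := by
    funext y
    rw [pRegularPart_apply]
    by_cases hy : p ∣ orderOf y
    · rw [if_neg (not_not.mpr hy), hη, liftSum_eq_zero_of_dvd p P _ hy]
    · rw [if_pos hy]
  have hlin : pRegularPart p η = ∑ γ : IrrCharacter (G ⧸ P),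
      classInner η (γ : G ⧸ P → ℂ) • pRegularPart p (γ : G ⧸ P → ℂ) := by
    funext y
    rw [pRegularPart_apply, Finset.sum_apply]
    by_cases hy : p ∣ orderOf y
    · rw [if_neg (not_not.mpr hy)]
      symm
      apply Finset.sum_eq_zero
      intro γ _
      rw [Pi.smul_apply, pRegularPart_apply, if_neg (not_not.mpr hy), smul_zero]
    · rw [if_pos hy]
      conv_lhs => rw [hexp]
      rw [Finset.sum_apply]
      apply Finset.sum_congr rfl
      intro γ _
      rw [Pi.smul_apply, Pi.smul_apply, pRegularPart_apply, if_pos hy]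
  rw [hreg, hlin]
  apply Submodule.sum_mem
  intro γ _
  by_cases hγ : inflateIrr P γ ∈ blockOf M (ψ₀ : G → ℂ)
  · exact Submodule.smul_mem _ _ (Submodule.subset_span ⟨γ, hγ, rfl⟩)
  · rw [hzero γ hγ, zero_smul]
    exact Submodule.zero_mem _

/-- **Rank equality**: for a normal `p`-subgroup `P` with `G / C_G(P)` a `p`-group, a block of `G`
and the set of irreducible characters of `G ⧸ P` inflating into it have the same `p`-regular rank. -/
theorem blockRank_eq_blockRank_quotient (hM : IsPModular p M) (hP : IsPGroup p P)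
    (hC : ∃ k : ℕ, (Subgroup.centralizer (P : Set G)).index = p ^ k) (ψ₀ : IrrCharacter G) :
    blockRank p (blockOf M (ψ₀ : G → ℂ)) =
      blockRank p {γ : IrrCharacter (G ⧸ P) | inflateIrr P γ ∈ blockOf M (ψ₀ : G → ℂ)} := by
  classical
  unfold blockRank
  set V := Submodule.span ℂ
    ((fun χ : IrrCharacter G => pRegularPart p (χ : G → ℂ)) '' blockOf M (ψ₀ : G → ℂ)) with hV
  set W := Submodule.span ℂ ((fun γ : IrrCharacter (G ⧸ P) => pRegularPart p (γ : G ⧸ P → ℂ)) ''
    {γ | inflateIrr P γ ∈ blockOf M (ψ₀ : G → ℂ)}) with hW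
  have hLW : ∀ f ∈ W, inflReg p P f ∈ V := by
    intro f hf
    have h1 : W ≤ V.comap (inflReg p P) := by
      rw [hW, Submodule.span_le]
      rintro _ ⟨γ, hγ, rfl⟩
      rw [SetLike.mem_coe, Submodule.mem_comap]
      simp only
      rw [inflReg_pRegularPart]
      apply Submodule.subset_span
      refine ⟨inflateIrr P γ, hγ, ?_⟩
      simp only
      congr 1
    exact h1 hf
  have hRV : ∀ f ∈ V, liftSum p P f ∈ W := by
    intro f hf
    have h1 : V ≤ W.comap (liftSum p P) := by
      rw [hV, Submodule.span_le]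
      rintro _ ⟨χ, hχ, rfl⟩
      rw [SetLike.mem_coe, Submodule.mem_comap]
      exact liftSum_mem_span P hM ψ₀ χ hχ
    exact h1 hf
  have hVreg : V ≤ regSub p G := span_pRegularPart_le_regSub p _
  have hWreg : W ≤ regSub p (G ⧸ P) := span_pRegularPart_le_regSub p _
  let Lr : W →ₗ[ℂ] V := (inflReg p P).restrict hLW
  let Rr : V →ₗ[ℂ] W := (liftSum p P).restrict hRV
  have h1 : Rr.comp Lr = LinearMap.id := by
    apply LinearMap.ext
    intro w
    apply Subtype.ext
    change liftSum p P (inflReg p P (w : G ⧸ P → ℂ)) = (w : G ⧸ P → ℂ)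
    rw [liftSum_inflReg P hP hC, pRegularPart_eq_of_mem_regSub (hWreg w.2)]
  have h2 : Lr.comp Rr = LinearMap.id := by
    apply LinearMap.ext
    intro v
    apply Subtype.ext
    change inflReg p P (liftSum p P (v : G → ℂ)) = (v : G → ℂ)
    rw [inflReg_liftSum P hP hC, pRegularPart_eq_of_mem_regSub (hVreg v.2)]
  exact (LinearEquiv.ofLinearMap Lr Rr h2 h1).symm.finrank_eq

end orth

end Cfsg.Agent.Lib.Helper23
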