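/-
helper23: applications of the rank equality (RankQuot): a block with central defect group has
l(B) = 1; for G = Q C_G(Q) the principal blocks of G and G/Q have the same l(B).
-/
import Mathlib
import Cfsg.Agent.Lib.Helper23.RankQuot
import Cfsg.Agent.Lib.Helper23.QuotDefectP
import Cfsg.Agent.Lib.Helper23.DefectRadical
import Cfsg.Agent.S4733

set_option autoImplicit false
open Cfsg Cfsg.Agent.CharLib Cfsg.Agent.Lib.Helper24 Cfsg.Agent.Lib.Helper6 Cfsg.Agent.Lib.Helper25
open scoped ComplexConjugate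

namespace Cfsg.Agent.Lib.Helper23

universe u

section
variable {G : Type u} [Group G] [Fintype G] {M : Ideal AlgInt}

/-- The characters of `G ⧸ P` inflating into a block of `G` form a block of `G ⧸ P` whose defect
groups are the images of those of `B` (for `G / C_G(P)` a `p`-group). -/
theorem quotient_block_eq {p : ℕ} [hpp : Fact p.Prime] (hM : IsPModular p M) (P : Subgroup G)
    [P.Normal] (hP : IsPGroup p P)
    (hC : ∃ k : ℕ, (Subgroup.centralizer (P : Set G)).index = p ^ k) (ψ₀ : IrrCharacter G) :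
    IsPBlock M {γ : IrrCharacter (G ⧸ P) | inflateIrr P γ ∈ blockOf M (ψ₀ : G → ℂ)} ∧
    ∀ Dbar : Subgroup (G ⧸ P),
      IsDefectGroup p M {γ : IrrCharacter (G ⧸ P) | inflateIrr P γ ∈ blockOf M (ψ₀ : G → ℂ)} Dbar ↔
        ∃ D : Subgroup G, IsDefectGroup p M (blockOf M (ψ₀ : G → ℂ)) D ∧
          Dbar = D.map (QuotientGroup.mk' P) := by
  have hprime : M.IsPrime := isPrime_of_isPModular hM
  obtain ⟨Bbar, hBbar, hsub, hdef⟩ :=
    normal_p_subgroup_quotient_block p hM P hP (blockOf M (ψ₀ : G → ℂ)) ⟨ψ₀, rfl⟩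
  have heq : Bbar = {γ : IrrCharacter (G ⧸ P) | inflateIrr P γ ∈ blockOf M (ψ₀ : G → ℂ)} := by
    ext γ
    constructor
    · intro hγ
      exact hsub γ hγ (inflateIrr P γ) rfl
    · intro hγ
      obtain ⟨γ₀, rfl⟩ := hBbar
      have hγ₀ : inflateIrr P γ₀ ∈ blockOf M (ψ₀ : G → ℂ) :=
        hsub γ₀ (mem_blockOf_self γ₀) (inflateIrr P γ₀) rfl
      have h1 : SameBlock M ((γ₀ : G ⧸ P → ℂ) ∘ QuotientGroup.mk)
          ((γ : G ⧸ P → ℂ) ∘ QuotientGroup.mk) :=
        sameBlock_trans (sameBlock_symm hγ₀) hγ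
      exact (sameBlock_inflate_iff P hM hP hC γ₀ γ).mpr h1
  rw [← heq]
  exact ⟨hBbar, hdef⟩

/-- A block with central defect group has `p`-regular rank one. -/
theorem blockRank_eq_one_of_central (p : ℕ) [Fact p.Prime] (hM : Cfsg.IsPModular p M)
    (B : Set (Cfsg.IrrCharacter G)) (hB : Cfsg.IsPBlock M B) (P : Subgroup G)
    (hD : Cfsg.IsDefectGroup p M B P) (hPZ : P ≤ Subgroup.center G) :
    Cfsg.blockRank p B = 1 := by
  have hPn : P.Normal := by
    constructor
    intro n hn g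
    have := Subgroup.mem_center_iff.mp (hPZ hn) g
    -- this : g * n = n * g
    have h2 : g * n * g⁻¹ = n := by rw [this]; group
    rw [h2]
    exact hn
  have hP : IsPGroup p P := isPGroup_of_isDefectGroup' p M B P hD
  have hC : ∃ k : ℕ, (Subgroup.centralizer (P : Set G)).index = p ^ k := by
    refine ⟨0, ?_⟩
    have : Subgroup.centralizer (P : Set G) = ⊤ := by
      rw [eq_top_iff]
      intro g _
      rw [Subgroup.mem_centralizer_iff]
      intro n hn
      exact (Subgroup.mem_center_iff.mp (hPZ hn) g).symm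
    rw [this, Subgroup.index_top, pow_zero]
  obtain ⟨ψ₀, rfl⟩ := hB
  rw [blockRank_eq_blockRank_quotient P hM hP hC ψ₀]
  obtain ⟨hblock, hdef⟩ := quotient_block_eq hM P hP hC ψ₀
  set Bbar := {γ : IrrCharacter (G ⧸ P) | inflateIrr P γ ∈ blockOf M (ψ₀ : G → ℂ)} with hBbar
  have hbot : IsDefectGroup p M Bbar ⊥ := by
    rw [hdef]
    refine ⟨P, hD, ?_⟩
    symm
    rw [eq_bot_iff]
    rintro _ ⟨n, hn, rfl⟩
    rw [Subgroup.mem_bot]
    exact (QuotientGroup.eq_one_iff n).mpr hn
  have hcard := card_defectGroup_eq hM Bbar hblock ⊥ hbot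
  have hd0 : blockDefect p Bbar = 0 := by
    rw [Subgroup.card_bot] at hcard
    by_contra hne
    have h2 : 1 < p ^ blockDefect p Bbar :=
      Nat.one_lt_pow hne (Fact.out : p.Prime).one_lt
    omega
  exact ((Cfsg.Agent.S4733.result p M hM Bbar hblock).2.1.mp hd0).2

end

section
variable {G : Type u} [Group G] [Finite G] {M : Ideal AlgInt}

theorem index_centralizer_of_sup_eq_top {p : ℕ} [hpp : Fact p.Prime] (Q : Subgroup G) [Q.Normal]
    (hQ : IsPGroup p Q) (hsup : Q ⊔ Subgroup.centralizer (Q : Set G) = ⊤) :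
    ∃ k : ℕ, (Subgroup.centralizer (Q : Set G)).index = p ^ k := by
  have h1 : (Subgroup.centralizer (Q : Set G)).relIndex (Q ⊔ Subgroup.centralizer (Q : Set G)) =
      (Subgroup.centralizer (Q : Set G)).relIndex Q := Subgroup.relIndex_sup_right _ _
  rw [hsup, Subgroup.relIndex_top_right] at h1
  have h2 : (Subgroup.centralizer (Q : Set G)).relIndex Q ∣ Nat.card Q := by
    unfold Subgroup.relIndex
    rw [Subgroup.index_eq_card]
    exact Subgroup.card_quotient_dvd_card _
  obtain ⟨n, hn⟩ := IsPGroup.iff_card.mp hQ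
  rw [h1]
  rw [hn] at h2
  obtain ⟨k, -, hk⟩ := (Nat.dvd_prime_pow hpp.out).mp h2
  exact ⟨k, hk⟩

/-- `G = Q C_G(Q)`: the principal blocks of `G` and `G ⧸ Q` have the same `p`-regular rank. -/
theorem blockRank_principal_quotient (p : ℕ) [Fact p.Prime] (hM : Cfsg.IsPModular p M)
    (Q : Subgroup G) [Q.Normal] (hQ : IsPGroup p Q)
    (hsup : Q ⊔ Subgroup.centralizer (Q : Set G) = ⊤) :
    Cfsg.blockRank p (Cfsg.principalBlock M G) =
      Cfsg.blockRank p (Cfsg.principalBlock M (G ⧸ Q)) := by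
  classical
  let _ := Fintype.ofFinite G
  have hprime : M.IsPrime := isPrime_of_isPModular hM
  have hC := index_centralizer_of_sup_eq_top Q hQ hsup
  set one : IrrCharacter G := ⟨fun _ => 1, isIrrCharacter_one G⟩ with hone
  set onebar : IrrCharacter (G ⧸ Q) := ⟨fun _ => 1, isIrrCharacter_one (G ⧸ Q)⟩ with honebar
  have h1 : principalBlock M G = blockOf M (one : G → ℂ) := rfl
  rw [h1, blockRank_eq_blockRank_quotient Q hM hQ hC one]
  congr 1
  ext γ
  change SameBlock M (fun _ : G => (1 : ℂ)) ((γ : G ⧸ Q → ℂ) ∘ QuotientGroup.mk) ↔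
    SameBlock M (fun _ : G ⧸ Q => (1 : ℂ)) (γ : G ⧸ Q → ℂ)
  exact (sameBlock_inflate_iff Q hM hQ hC onebar γ).symm

end

end Cfsg.Agent.Lib.Helper23
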