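/-
helper23: DEFECT-ONE CLUSTER, PART O (planner helper27), leaf DO-LOC1 `exists_unique_hasIdx`:
every irreducible character of `C = C_G(P)` has a unique central index (`x0 ∈ Z(C)` acts by a `p`-th root of unity).
-/
import Mathlib
import Cfsg.Prelude.Def_BlockRank
import Cfsg.Agent.Lib.Helper27.DODefs
import Cfsg.Agent.Lib.Helper27.BlkAlgDefs2
import Cfsg.Agent.Lib.Helper6.CentralHom
import Cfsg.Agent.Lib.Helper24.IrrFacts

set_option autoImplicit false
set_option linter.unusedSectionVars false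

namespace Cfsg.Agent.Lib.Helper23.DOLOC1

open Cfsg Cfsg.Agent.CharLib Cfsg.Agent.Lib.Helper8.DOM Cfsg.Agent.Lib.Helper27.DO
open Cfsg.Agent.Lib.Helper6 Cfsg.Agent.Lib.Helper24

universe u

variable {G : Type u} [Group G] [Finite G] {p : ℕ} [Fact p.Prime]

theorem zetaP_isPrimitiveRoot : IsPrimitiveRoot (zetaP p) p := by
  have hp : p ≠ 0 := (Fact.out : p.Prime).ne_zero
  exact Complex.isPrimitiveRoot_exp p hp

/-- LOC1 : every irreducible character of `C` has a unique central index. -/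
theorem exists_unique_hasIdx (P : Subgroup G) (hP : Nat.card P = p) (x0 : G)
    (hx0 : P = Subgroup.zpowers x0) (φ : IrrCharacter (Cz P)) :
    ∃! i : ZMod p, HasIdx p P x0 (φ : Cz P → ℂ) i := by
  have hp : p.Prime := Fact.out
  haveI : NeZero p := ⟨hp.ne_zero⟩
  have hζ : IsPrimitiveRoot (zetaP p) p := zetaP_isPrimitiveRoot
  have hx0P : x0 ∈ P := by
    rw [hx0]
    exact Subgroup.mem_zpowers x0
  -- `x0` centralizes `P`
  have hx0C : x0 ∈ Cz P := by
    rw [Subgroup.mem_centralizer_iff]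
    intro y hy
    rw [hx0] at hy
    obtain ⟨k, rfl⟩ := Subgroup.mem_zpowers_iff.mp hy
    exact ((Commute.refl x0).zpow_left k).eq
  have hcen : (⟨x0, hx0C⟩ : Cz P) ∈ Subgroup.center (Cz P) := by
    rw [Subgroup.mem_center_iff]
    intro c
    apply Subtype.ext
    have hc := c.2
    rw [Subgroup.mem_centralizer_iff] at hc
    exact (hc x0 hx0P).symm
  obtain ⟨c, hc, -⟩ := IsIrrCharacter.exists_central_hom φ.2
  set z : Subgroup.center (Cz P) := ⟨⟨x0, hx0C⟩, hcen⟩ with hz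
  have hzp : z ^ p = 1 := by
    apply Subtype.ext
    apply Subtype.ext
    show x0 ^ p = 1
    have h1 : (⟨x0, hx0P⟩ : P) ^ p = 1 := by
      rw [← hP]
      exact pow_card_eq_one'
    exact congrArg Subtype.val h1
  have hω : c z ^ p = 1 := by
    rw [← map_pow, hzp, map_one]
  obtain ⟨k, hk, hkω⟩ := hζ.eq_pow_of_pow_eq_one hω
  have hφ1 : (φ : Cz P → ℂ) 1 ≠ 0 := irr_apply_one_ne_zero φ
  refine ⟨(k : ZMod p), ?_, ?_⟩
  · intro a a' haa'
    have h1 : a' = (z : Cz P) * a := by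
      apply Subtype.ext
      exact haa'
    show (φ : Cz P → ℂ) a' = zetaP p ^ ((k : ℕ) : ZMod p).val * (φ : Cz P → ℂ) a
    rw [h1, hc z a, ZMod.val_natCast_of_lt hk, hkω]
  · intro j hj
    have h1 := hj 1 ⟨x0, hx0C⟩ (by simp)
    have h2 := hc z 1
    rw [mul_one] at h2
    have h3 : (φ : Cz P → ℂ) ⟨x0, hx0C⟩ = c z * (φ : Cz P → ℂ) 1 := h2
    rw [h3, ← hkω] at h1
    have h4 := mul_right_cancel₀ hφ1 h1
    have h5 := hζ.pow_inj hk (ZMod.val_lt j) h4
    rw [h5, ZMod.natCast_zmod_val]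

end Cfsg.Agent.Lib.Helper23.DOLOC1
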