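/-
helper23: defect-one cluster (S4441/S4442/S4507/S4502), chunk COUNT: Clifford count over a normal
subgroup with cyclic quotient.  `X` finite, `K ⊴ X`, `X / K` cyclic:
* every irreducible character of `X` lies over an irreducible character of `K` with multiplicity 1;
* `|X : K| * k(X) = ∑_{θ ∈ Irr(K)} e_θ ^ 2`, `e_θ = |Stab_X(θ)| / |K|`.
-/
import Mathlib
import Cfsg.Agent.Lib.Helper6.CliffordCorr
import Cfsg.Agent.Lib.Helper6.AbelianQuot
import Cfsg.Agent.Lib.Helper6.CyclicExtRep
import Cfsg.Agent.Lib.Helper6.Gallagher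

set_option autoImplicit false

namespace Cfsg.Agent.Lib.Helper23.Def1COUNT

open Cfsg Cfsg.Agent.CharLib Cfsg.Agent.Lib.Helper6
open scoped ComplexConjugate commutatorElement

universe u

section invariant

variable {T : Type u} [Group T] [Fintype T]

/-- Over an invariant irreducible character of a normal subgroup with cyclic quotient every
irreducible character has multiplicity one. -/
theorem mult_eq_one_of_cyclic_invariant (N : Subgroup T) [hN : N.Normal] [Fintype N]
    (hcyc : IsCyclic (T ⧸ N)) {θ : N → ℂ} (hθ : IsIrrCharacter N θ)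
    (hinv : ∀ t : T, conjFun N t θ = θ) {ψ : T → ℂ} (hψ : IsIrrCharacter T ψ)
    (h : classInner (resFun N ψ) θ ≠ 0) : classInner (resFun N ψ) θ = 1 := by
  have hinv' : ∀ (g : T) (n : N), θ ⟨g * n * g⁻¹, hN.conj_mem (n : T) n.2 g⟩ = θ n := by
    intro g n
    have := congrFun (hinv g) n
    rwa [conjFun_apply] at this
  obtain ⟨χ, hχ, hext⟩ := exists_irr_extension_of_cyclic N hcyc hθ hinv'
  have hres : resFun N χ = θ := by
    funext n
    exact hext n
  have hab : ∀ x y : T, ⁅x, y⁆ ∈ N := by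
    intro x y
    rw [← QuotientGroup.eq_one_iff]
    haveI : IsCyclic (T ⧸ N) := hcyc
    have hc : Commute ((x : T ⧸ N)) ((y : T ⧸ N)) := by
      letI := IsCyclic.commGroup (α := T ⧸ N)
      exact mul_comm _ _
    rw [commutatorElement_def]
    simp only [QuotientGroup.mk_mul, QuotientGroup.mk_inv]
    rw [hc.eq]
    group
  have h0 : classInner (resFun N χ) θ ≠ 0 := by
    rw [hres, classInner_irr hθ hθ, if_pos rfl]
    exact one_ne_zero
  have h1 := resFun_eq_of_abelian_quotient N hab hθ hinv hχ hψ h0 h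
  rw [h1, hres, classInner_irr hθ hθ, if_pos rfl]

end invariant

section general

variable {X : Type u} [Group X] (K : Subgroup X) [hK : K.Normal]

/-- The stabiliser in `X` of a function on the normal subgroup `K`. -/
def stab (θ : K → ℂ) : Subgroup X where
  carrier := {g | conjFun K g θ = θ}
  one_mem' := conjFun_one K θ
  mul_mem' := by
    intro a b ha hb
    show conjFun K (a * b) θ = θ
    have ha' : conjFun K a θ = θ := ha
    have hb' : conjFun K b θ = θ := hb
    rw [conjFun_mul, ha', hb']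
  inv_mem' := by
    intro a ha
    show conjFun K a⁻¹ θ = θ
    have ha' : conjFun K a θ = θ := ha
    conv_lhs => rw [← ha']
    exact conjFun_inv_conjFun K a θ

theorem mem_stab {θ : K → ℂ} {g : X} : g ∈ stab K θ ↔ conjFun K g θ = θ := Iff.rfl

theorem le_stab {θ : K → ℂ} (hθ : IsClassFunction K θ) : K ≤ stab K θ :=
  fun _ hg => conjFun_of_mem K hθ hg

/-- a subgroup containing `K` has cyclic quotient by `K` when `X / K` is cyclic -/
theorem isCyclic_quotient_subgroupOf (hcyc : IsCyclic (X ⧸ K)) (T : Subgroup X) :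
    IsCyclic (T ⧸ K.subgroupOf T) := by
  haveI : IsCyclic (X ⧸ K) := hcyc
  let f : T ⧸ K.subgroupOf T →* X ⧸ K :=
    QuotientGroup.map (K.subgroupOf T) K T.subtype (fun _ h => h)
  apply isCyclic_of_injective f
  rw [injective_iff_map_eq_one]
  intro x
  induction x using QuotientGroup.induction_on with
  | H t =>
    intro h
    have h1 : ((t : X) : X ⧸ K) = 1 := h
    rw [QuotientGroup.eq_one_iff] at h1 ⊢
    exact h1

variable [Fintype X] [Fintype K]

/-- **Multiplicity one over a cyclic quotient.** -/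
theorem mult_eq_one_of_cyclic (hcyc : IsCyclic (X ⧸ K)) {θ : K → ℂ} (hθ : IsIrrCharacter K θ)
    {χ : X → ℂ} (hχ : IsIrrCharacter X χ) (h : classInner (resFun K χ) θ ≠ 0) :
    classInner (resFun K χ) θ = 1 := by
  classical
  have hKT : K ≤ stab K θ :=
    le_stab K (IsCharacter.isClassFunction (IsIrrCharacter.isCharacter hθ))
  have hT : ∀ g : X, g ∈ stab K θ ↔ conjFun K g θ = θ := fun g => Iff.rfl
  letI : Fintype (stab K θ) := Fintype.ofFinite _
  obtain ⟨ψ, hψ, -, hmult⟩ := exists_indFun_inertia_eq hKT hθ hT hχ h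
  rw [← hmult]
  let e := Subgroup.subgroupOfEquivOfLe hKT
  letI : Fintype (K.subgroupOf (stab K θ)) := Fintype.ofFinite _
  have hθ' : IsIrrCharacter (K.subgroupOf (stab K θ)) (θ ∘ e) :=
    isIrrCharacter_comp_mulEquiv' e hθ
  have hres : resFun (K.subgroupOf (stab K θ)) ψ = resLE hKT ψ ∘ e := resFun_subgroupOf hKT ψ
  have hinner : classInner (resFun (K.subgroupOf (stab K θ)) ψ) (θ ∘ e) =
      classInner (resLE hKT ψ) θ := by
    rw [hres, classInner_comp_mulEquiv]
  have hinv' : ∀ t : stab K θ, conjFun (K.subgroupOf (stab K θ)) t (θ ∘ e) = θ ∘ e := by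
    intro t
    rw [conjFun_subgroupOf, (hT t).mp t.2]
  have hcycT := isCyclic_quotient_subgroupOf K hcyc (stab K θ)
  have h1 := mult_eq_one_of_cyclic_invariant (K.subgroupOf (stab K θ)) hcycT hθ' hinv' hψ
    (by rw [hinner, hmult]; exact h)
  rw [hinner] at h1
  exact h1

/-- the stabiliser order in the form used by helper6's orbit lemmas -/
theorem card_stab (θ : K → ℂ) :
    Nat.card (stab K θ) = Nat.card {g : X // conjFun K g θ = θ} :=
  Nat.card_congr (Equiv.subtypeEquivRight (fun _ => Iff.rfl))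

/-- `|K| * e_θ = |Stab(θ)|` -/
theorem card_mul_relIndex {θ : K → ℂ} (hθ : IsClassFunction K θ) :
    Nat.card K * K.relIndex (stab K θ) = Nat.card (stab K θ) := by
  rw [Subgroup.relIndex, ← Nat.card_congr (Subgroup.subgroupOfEquivOfLe (le_stab K hθ)).toEquiv,
    Subgroup.card_mul_index]

/-- **Mackey norm**: `[θ^X, θ^X] = e_θ`. -/
theorem classInner_indFun_self {θ : K → ℂ} (hθ : IsIrrCharacter K θ) :
    classInner (indFun K θ) (indFun K θ) = (K.relIndex (stab K θ) : ℂ) := by
  classical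
  have hθcf : IsClassFunction K θ := IsCharacter.isClassFunction (IsIrrCharacter.isCharacter hθ)
  rw [frobenius_reciprocity K θ (indFun_isClassFunction K θ)]
  have h1 : (fun h : K => indFun K θ h) = resFun K (indFun K θ) := rfl
  rw [h1, resFun_indFun, classInner_smul_right, classInner_sum_right]
  have h2 : ∀ x : X, classInner θ (conjFun K x θ) = if x ∈ stab K θ then 1 else 0 := by
    intro x
    rw [classInner_irr hθ (isIrrCharacter_conjFun K hθ x)]
    by_cases hx : x ∈ stab K θ
    · rw [if_pos hx, if_pos ((mem_stab K).mp hx).symm]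
    · rw [if_neg hx, if_neg (fun h => hx ((mem_stab K).mpr h.symm))]
  rw [Finset.sum_congr rfl (fun x _ => h2 x), Finset.sum_boole, map_inv₀, Complex.conj_natCast]
  have h3 : ((Finset.univ.filter (fun x : X => x ∈ stab K θ)).card : ℂ) =
      (Nat.card (stab K θ) : ℂ) := by
    rw [Nat.card_eq_fintype_card, Fintype.card_subtype]
  rw [h3, ← card_mul_relIndex K hθcf]
  have h4 : (Nat.card K : ℂ) ≠ 0 := by
    exact_mod_cast (Nat.card_pos (α := K)).ne'
  push_cast
  field_simp

/-- (cyclic quotient) the number of irreducible characters of `X` over `θ` is `e_θ`, in the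
form `∑_χ [χ_K, θ] = e_θ`. -/
theorem sum_mult_eq [Fintype (IrrCharacter X)] (hcyc : IsCyclic (X ⧸ K)) {θ : K → ℂ}
    (hθ : IsIrrCharacter K θ) :
    ∑ χ : IrrCharacter X, classInner (resFun K (χ : X → ℂ)) θ =
      (K.relIndex (stab K θ) : ℂ) := by
  classical
  rw [← classInner_indFun_self K hθ]
  have hcf := indFun_isClassFunction K θ
  conv_rhs => arg 1; rw [classFunction_eq_sum hcf]
  rw [classInner_sum_left]
  apply Finset.sum_congr rfl
  intro χ _
  rw [classInner_smul_left]
  have hχcf : IsClassFunction X (χ : X → ℂ) :=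
    IsCharacter.isClassFunction (IsIrrCharacter.isCharacter χ.2)
  have hfr : classInner (indFun K θ) (χ : X → ℂ) = classInner θ (resFun K (χ : X → ℂ)) :=
    frobenius_reciprocity K θ hχcf
  have hfr2 : classInner (χ : X → ℂ) (indFun K θ) = classInner (resFun K (χ : X → ℂ)) θ := by
    rw [← classInner_conj_symm, hfr, classInner_conj_symm]
  by_cases h : classInner (resFun K (χ : X → ℂ)) θ = 0
  · rw [h, hfr2, h, mul_zero]
  · have h1 := mult_eq_one_of_cyclic K hcyc hθ χ.2 h
    have h2 : classInner θ (resFun K (χ : X → ℂ)) = 1 := by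
      rw [← classInner_conj_symm, h1, map_one]
    rw [hfr2, hfr, h1, h2, mul_one]

theorem conjOrbit_conjFun (θ : K → ℂ) (g : X) : conjOrbit K (conjFun K g θ) = conjOrbit K θ := by
  classical
  ext ψ
  rw [mem_conjOrbit, mem_conjOrbit]
  constructor
  · rintro ⟨h, rfl⟩
    exact ⟨g * h, conjFun_mul K g h θ⟩
  · rintro ⟨h, rfl⟩
    refine ⟨g⁻¹ * h, ?_⟩
    rw [← conjFun_mul, mul_inv_cancel_left]

/-- `e` is constant on conjugation orbits -/
theorem relIndex_stab_conjFun {θ : K → ℂ} (hθ : IsClassFunction K θ)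
    (hθg : ∀ g : X, IsClassFunction K (conjFun K g θ)) (g : X) :
    K.relIndex (stab K (conjFun K g θ)) = K.relIndex (stab K θ) := by
  classical
  have h1 := card_conjOrbit_mul K θ
  have h2 := card_conjOrbit_mul K (conjFun K g θ)
  rw [conjOrbit_conjFun, ← card_stab, ← card_mul_relIndex K (hθg g)] at h2
  rw [← card_stab, ← card_mul_relIndex K hθ, ← h2] at h1
  have hO : 0 < (conjOrbit K θ).card := Finset.card_pos.mpr ⟨θ, self_mem_conjOrbit K θ⟩
  have hK0 : 0 < Nat.card K := Nat.card_pos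
  have h3 := Nat.eq_of_mul_eq_mul_left hO h1
  exact (Nat.eq_of_mul_eq_mul_left hK0 h3).symm

/-- `|orbit| * e_θ = |X : K|` -/
theorem card_conjOrbit_mul_relIndex {θ : K → ℂ} (hθ : IsClassFunction K θ) :
    (conjOrbit K θ).card * K.relIndex (stab K θ) = K.index := by
  classical
  have h1 := card_conjOrbit_mul K θ
  rw [← card_stab, ← card_mul_relIndex K hθ, ← Subgroup.card_mul_index K] at h1
  have hK0 : 0 < Nat.card K := Nat.card_pos
  apply Nat.eq_of_mul_eq_mul_left hK0
  rw [← h1]
  ring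

/-- (cyclic quotient) for every irreducible `χ` of `X`: `∑_θ e_θ [χ_K, θ] = |X : K|`. -/
theorem sum_relIndex_mul_mult [Fintype (IrrCharacter K)] (hcyc : IsCyclic (X ⧸ K)) {χ : X → ℂ}
    (hχ : IsIrrCharacter X χ) :
    ∑ θ : IrrCharacter K, (K.relIndex (stab K (θ : K → ℂ)) : ℂ) *
        classInner (resFun K χ) (θ : K → ℂ) = (K.index : ℂ) := by
  classical
  have hχc : IsCharacter X χ := IsIrrCharacter.isCharacter hχ
  have hχcf : IsClassFunction X χ := IsCharacter.isClassFunction hχc
  -- a constituent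
  have hne : resFun K χ ≠ 0 := by
    intro h0
    obtain ⟨n, hn, h1⟩ := IsIrrCharacter.apply_one_pos hχ
    have h2 : resFun K χ 1 = 0 := by rw [h0]; rfl
    rw [resFun_apply] at h2
    have h3 : χ 1 = 0 := h2
    rw [h1] at h3
    exact hn.ne' (by exact_mod_cast h3)
  obtain ⟨θ₀, hθ₀, h₀⟩ := IsCharacter.exists_constituent (isCharacter_resFun K hχc) hne
  have hcfOf : ∀ φ : K → ℂ, IsIrrCharacter K φ → IsClassFunction K φ :=
    fun φ hφ => IsCharacter.isClassFunction (IsIrrCharacter.isCharacter hφ)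
  -- multiplicities
  have hm : ∀ θ : IrrCharacter K, classInner (resFun K χ) (θ : K → ℂ) =
      if (θ : K → ℂ) ∈ conjOrbit K θ₀ then 1 else 0 := by
    intro θ
    by_cases hmem : (θ : K → ℂ) ∈ conjOrbit K θ₀
    · rw [if_pos hmem]
      obtain ⟨g, hg⟩ := (mem_conjOrbit K).mp hmem
      apply mult_eq_one_of_cyclic K hcyc θ.2 hχ
      rw [← hg, classInner_resFun_conjFun K hχcf]
      exact h₀
    · rw [if_neg hmem]
      by_contra hcon
      obtain ⟨g, hg⟩ := exists_conjFun_eq_of_constituent K hχ hθ₀ θ.2 h₀ hcon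
      exact hmem ((mem_conjOrbit K).mpr ⟨g, hg⟩)
  -- `e` on the orbit
  have he : ∀ θ : IrrCharacter K, (θ : K → ℂ) ∈ conjOrbit K θ₀ →
      K.relIndex (stab K (θ : K → ℂ)) = K.relIndex (stab K θ₀) := by
    intro θ hmem
    obtain ⟨g, hg⟩ := (mem_conjOrbit K).mp hmem
    rw [← hg]
    exact relIndex_stab_conjFun K (hcfOf θ₀ hθ₀)
      (fun g => hcfOf _ (isIrrCharacter_conjFun K hθ₀ g)) g
  have hsum : ∑ θ : IrrCharacter K, (K.relIndex (stab K (θ : K → ℂ)) : ℂ) *
        classInner (resFun K χ) (θ : K → ℂ) =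
      ∑ θ : IrrCharacter K, if (θ : K → ℂ) ∈ conjOrbit K θ₀ then
        (K.relIndex (stab K θ₀) : ℂ) else 0 := by
    apply Finset.sum_congr rfl
    intro θ _
    rw [hm θ]
    by_cases hmem : (θ : K → ℂ) ∈ conjOrbit K θ₀
    · rw [if_pos hmem, if_pos hmem, mul_one, he θ hmem]
    · rw [if_neg hmem, if_neg hmem, mul_zero]
  rw [hsum, ← Finset.sum_filter, Finset.sum_const, nsmul_eq_mul]
  -- the filter has the cardinality of the orbit
  have hcard : (Finset.univ.filter (fun θ : IrrCharacter K =>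
      (θ : K → ℂ) ∈ conjOrbit K θ₀)).card = (conjOrbit K θ₀).card := by
    apply Finset.card_bij (fun (θ : IrrCharacter K) _ => (θ : K → ℂ))
    · intro θ hθ
      exact (Finset.mem_filter.mp hθ).2
    · intro θ _ θ' _ h
      exact Subtype.ext h
    · intro φ hφ
      obtain ⟨g, hg⟩ := (mem_conjOrbit K).mp hφ
      have hφirr : IsIrrCharacter K φ := by
        rw [← hg]
        exact isIrrCharacter_conjFun K hθ₀ g
      exact ⟨⟨φ, hφirr⟩, Finset.mem_filter.mpr ⟨Finset.mem_univ _, hφ⟩, rfl⟩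
  rw [hcard, ← card_conjOrbit_mul_relIndex K (hcfOf θ₀ hθ₀)]
  push_cast
  ring

/-- (cyclic quotient) exactly `e_θ` irreducible characters of `X` lie over `θ`. -/
theorem card_irr_over (hcyc : IsCyclic (X ⧸ K)) {θ : K → ℂ} (hθ : IsIrrCharacter K θ) :
    Nat.card {χ : IrrCharacter X // classInner (resFun K (χ : X → ℂ)) θ ≠ 0} =
      K.relIndex (stab K θ) := by
  classical
  letI := fintypeIrr X
  have h1 := sum_mult_eq K hcyc hθ
  have h2 : ∀ χ : IrrCharacter X, classInner (resFun K (χ : X → ℂ)) θ =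
      if classInner (resFun K (χ : X → ℂ)) θ ≠ 0 then 1 else 0 := by
    intro χ
    by_cases h : classInner (resFun K (χ : X → ℂ)) θ = 0
    · rw [if_neg (not_not.mpr h), h]
    · rw [if_pos h, mult_eq_one_of_cyclic K hcyc hθ χ.2 h]
  rw [Finset.sum_congr rfl (fun χ _ => h2 χ), Finset.sum_boole] at h1
  rw [Nat.card_eq_fintype_card, Fintype.card_subtype]
  exact_mod_cast h1

/-- **COUNT** (irreducible characters): `X / K` cyclic ⟹ `|X : K| * |Irr X| = ∑_θ e_θ ^ 2`. -/
theorem index_mul_card_irr (hcyc : IsCyclic (X ⧸ K)) :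
    K.index * Nat.card (IrrCharacter X) =
      ∑ᶠ θ : IrrCharacter K, (K.relIndex (stab K (θ : K → ℂ))) ^ 2 := by
  classical
  letI := fintypeIrr X
  letI := fintypeIrr K
  rw [finsum_eq_sum_of_fintype]
  have hC : ((K.index * Nat.card (IrrCharacter X) : ℕ) : ℂ) =
      ((∑ θ : IrrCharacter K, (K.relIndex (stab K (θ : K → ℂ))) ^ 2 : ℕ) : ℂ) := by
    push_cast
    have h1 : ∀ θ : IrrCharacter K, ((K.relIndex (stab K (θ : K → ℂ)) : ℂ)) ^ 2 =
        ∑ χ : IrrCharacter X, (K.relIndex (stab K (θ : K → ℂ)) : ℂ) *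
          classInner (resFun K (χ : X → ℂ)) (θ : K → ℂ) := by
      intro θ
      rw [← Finset.mul_sum, sum_mult_eq K hcyc θ.2, pow_two]
    rw [Finset.sum_congr rfl (fun θ _ => h1 θ), Finset.sum_comm,
      Finset.sum_congr rfl (fun χ _ => sum_relIndex_mul_mult K hcyc χ.2), Finset.sum_const,
      Finset.card_univ, nsmul_eq_mul, Nat.card_eq_fintype_card]
    ring
  exact_mod_cast hC

/-- **COUNT** (conjugacy classes): `X / K` cyclic ⟹ `|X : K| * k(X) = ∑_θ e_θ ^ 2`. -/
theorem index_mul_card_conjClasses (hcyc : IsCyclic (X ⧸ K)) :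
    K.index * Nat.card (ConjClasses X) =
      ∑ᶠ θ : IrrCharacter K, (K.relIndex (stab K (θ : K → ℂ))) ^ 2 := by
  rw [← card_irrCharacter]
  exact index_mul_card_irr K hcyc

end general

end Cfsg.Agent.Lib.Helper23.Def1COUNT
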