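/-
helper23: DEFECT-ONE CLUSTER, PART O (planner helper27), leaf DO-GCOUNT `sum_relIndex_le`:
Clifford theory in `N = N_G(P)` over `C = C_G(P)` (cyclic quotient `N / C ≤ Aut P`).  For each root `θ j` exactly
`e_j = |T j : C|` irreducible characters of `N` lie over `θ j` (`Def1COUNT.card_irr_over`), they have `P` in the kernel
(Clifford), the sets for non-conjugate roots are disjoint (Clifford), and the characters of `N` with `P` in the kernel
are the inflations from `N / P`, whose number is `k(N / P)`.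
-/
import Mathlib
import Cfsg.Prelude.Def_BlockRank
import Cfsg.Agent.Lib.Helper27.DODefs
import Cfsg.Agent.Lib.Helper27.BlkAlgDefs2
import Cfsg.Agent.Lib.Helper23.Def1COUNT
import Cfsg.Agent.Lib.Helper25.Inflate
import Cfsg.Agent.Lib.Lead.CharMain

set_option autoImplicit false
set_option linter.unusedSectionVars false
set_option linter.style.haveILetI false

namespace Cfsg.Agent.Lib.Helper23.DOGCOUNT

open Cfsg Cfsg.Agent.CharLib Cfsg.Agent.Lib.Helper8.DOM Cfsg.Agent.Lib.Helper27.DO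
open Cfsg.Agent.Lib.Helper6 Cfsg.Agent.Lib.Helper25 Cfsg.Agent.Lib.Helper23.Def1COUNT

universe u

section basics

variable {G : Type u} [Group G]

theorem Cz_le_Nz (P : Subgroup G) : Cz P ≤ Nz P := Subgroup.centralizer_le_normalizer _

/-- `C_G(P)` as a subgroup of `N_G(P)` -/
abbrev Cn (P : Subgroup G) : Subgroup (Nz P) := (Cz P).subgroupOf (Nz P)

/-- the identification of `Cn P` with `C_G(P)` -/
noncomputable abbrev eC (P : Subgroup G) : Cn P ≃* Cz P := Subgroup.subgroupOfEquivOfLe (Cz_le_Nz P)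

theorem eC_coe (P : Subgroup G) (k : Cn P) : ((eC P k : Cz P) : G) = ((k : Nz P) : G) := rfl

/-- `N / C` is cyclic when `P` has prime order -/
theorem isCyclic_quot {p : ℕ} [Fact p.Prime] (P : Subgroup G) (hP : Nat.card P = p) :
    IsCyclic (Nz P ⧸ Cn P) := by
  haveI : IsCyclic P := isCyclic_of_prime_card hP
  haveI : Fact (Nat.card P).Prime := ⟨by rw [hP]; exact Fact.out⟩
  haveI : IsCyclic (MulAut P) :=
    isCyclic_of_injective (IsCyclic.mulAutMulEquiv P).toMonoidHom (IsCyclic.mulAutMulEquiv P).injective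
  have hker : P.normalizerMonoidHom.ker = Cn P := Subgroup.normalizerMonoidHom_ker P
  let f : Nz P ⧸ Cn P →* MulAut P :=
    QuotientGroup.lift (Cn P) P.normalizerMonoidHom (fun x hx => by
      rw [← hker] at hx
      exact hx)
  apply isCyclic_of_injective f
  intro a b hab
  induction a using QuotientGroup.induction_on with
  | H a =>
    induction b using QuotientGroup.induction_on with
    | H b =>
      rw [QuotientGroup.eq, ← hker, MonoidHom.mem_ker, map_mul, map_inv]
      have h1 : P.normalizerMonoidHom a = P.normalizerMonoidHom b := hab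
      rw [h1, inv_mul_cancel]

/-- `P ≤ C_G(P)` when `P` has prime order -/
theorem le_Cz {p : ℕ} [Fact p.Prime] (P : Subgroup G) (hP : Nat.card P = p) : P ≤ Cz P := by
  haveI : IsCyclic P := isCyclic_of_prime_card hP
  letI := IsCyclic.commGroup (α := P)
  intro x hx
  rw [Subgroup.mem_centralizer_iff]
  intro y hy
  have := mul_comm (⟨y, hy⟩ : P) ⟨x, hx⟩
  exact congrArg Subtype.val this

end basics

section main

variable {G : Type u} [Group G] [Finite G] {p : ℕ} [Fact p.Prime]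

/-- the stabiliser of the lift of `θ` is `T` -/
theorem mem_stab_iff (P : Subgroup G) (θ : Cz P → ℂ) (T : Subgroup G) (hT : IsInertia P θ T)
    (n : Nz P) : n ∈ stab (Cn P) (θ ∘ eC P) ↔ (n : G) ∈ T := by
  rw [mem_stab, hT]
  constructor
  · intro h
    refine ⟨n.2, fun c c' hcc' => ?_⟩
    have h1 := congrFun h ((eC P).symm c)
    rw [conjFun_apply] at h1
    simp only [Function.comp_apply, MulEquiv.apply_symm_apply] at h1
    rw [← h1]
    congr 1
    apply Subtype.ext
    rw [hcc', eC_coe]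
    have : (((eC P).symm c : Cn P) : Nz P) = ⟨(c : G), Cz_le_Nz P c.2⟩ := by
      apply Subtype.ext
      have := eC_coe P ((eC P).symm c)
      rw [MulEquiv.apply_symm_apply] at this
      exact this.symm
    simp only [Subgroup.coe_mul, Subgroup.coe_inv, this]
  · rintro ⟨-, h⟩
    funext k
    rw [conjFun_apply]
    simp only [Function.comp_apply]
    apply h
    rw [eC_coe, eC_coe]
    simp only [Subgroup.coe_mul, Subgroup.coe_inv]

theorem relIndex_stab (P : Subgroup G) (θ : Cz P → ℂ) (T : Subgroup G) (hT : IsInertia P θ T) :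
    (Cn P).relIndex (stab (Cn P) (θ ∘ eC P)) = (Cz P).relIndex T := by
  have hTN : T ≤ Nz P := fun g hg => ((hT g).mp hg).1
  have h1 : stab (Cn P) (θ ∘ eC P) = T.subgroupOf (Nz P) := by
    ext n
    rw [mem_stab_iff P θ T hT, Subgroup.mem_subgroupOf]
  rw [h1]
  exact Subgroup.relIndex_subgroupOf hTN

/-- a character of `N` over a `P`-trivial `θ` has `P` in its kernel -/
theorem ker_of_over (P : Subgroup G) [Fintype (Nz P)] [Fintype (Cn P)] (hP : Nat.card P = p)
    (θ : IrrCharacter (Cz P))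
    (hθ : PTriv P (θ : Cz P → ℂ)) (ξ : IrrCharacter (Nz P))
    (hξ : classInner (resFun (Cn P) (ξ : Nz P → ℂ)) ((θ : Cz P → ℂ) ∘ eC P) ≠ 0) :
    ∀ x ∈ P.subgroupOf (Nz P), (ξ : Nz P → ℂ) x = (ξ : Nz P → ℂ) 1 := by
  classical
  intro x hx
  rw [Subgroup.mem_subgroupOf] at hx
  have hθ' : IsIrrCharacter (Cn P) ((θ : Cz P → ℂ) ∘ eC P) :=
    isIrrCharacter_comp_mulEquiv' (eC P) θ.2
  have hcl := clifford (Cn P) ξ.2 hθ' hξ
  have hxC : x ∈ Cn P := by
    rw [Subgroup.mem_subgroupOf]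
    exact le_Cz P hP hx
  have h1 := congrFun hcl ⟨x, hxC⟩
  have h2 := congrFun hcl 1
  rw [resFun_apply] at h1 h2
  have h3 : ((1 : Cn P) : Nz P) = 1 := rfl
  rw [h3] at h2
  show (ξ : Nz P → ℂ) x = (ξ : Nz P → ℂ) 1
  rw [h1, h2, Pi.smul_apply, Pi.smul_apply, Finset.sum_apply, Finset.sum_apply]
  congr 1
  apply Finset.sum_congr rfl
  intro ψ hψ
  obtain ⟨g, rfl⟩ := (mem_conjOrbit (Cn P)).mp hψ
  rw [conjFun_apply_one, conjFun_apply]
  simp only [Function.comp_apply]
  have hmem : (((g * x * g⁻¹ : Nz P)) : G) ∈ P := by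
    have hg := g.2
    simp only [Subgroup.coe_mul, Subgroup.coe_inv]
    exact (Subgroup.mem_normalizer_iff.mp hg (x : G)).mp hx
  have h4 := hθ (eC P ⟨g * (⟨x, hxC⟩ : Cn P) * g⁻¹, Subgroup.Normal.conj_mem inferInstance _ hxC g⟩) hmem
  rw [map_one]
  exact h4

/-- GCOUNT : Clifford theory in `N / P` over `C / P` (cyclic quotient). -/
theorem sum_relIndex_le (P : Subgroup G) (hP : Nat.card P = p)
    {ι : Type*} [Fintype ι] (θ : ι → IrrCharacter (Cz P)) (hθ : ∀ j, PTriv P (θ j : Cz P → ℂ))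
    (T : ι → Subgroup G) (hT : ∀ j, IsInertia P (θ j : Cz P → ℂ) (T j))
    (hnc : ∀ j j', j ≠ j' → ∀ n : Nz P, (θ j' : Cz P → ℂ) ≠ conjC P n (θ j : Cz P → ℂ)) :
    ∑ j, (Cz P).relIndex (T j) ≤ Nat.card (ConjClasses ((Nz P) ⧸ P.subgroupOf (Nz P))) := by
  classical
  letI : Fintype (Nz P) := Fintype.ofFinite _
  letI : Fintype (Cn P) := Fintype.ofFinite _
  have hcyc := isCyclic_quot P hP
  have hθ' : ∀ j, IsIrrCharacter (Cn P) ((θ j : Cz P → ℂ) ∘ eC P) :=
    fun j => isIrrCharacter_comp_mulEquiv' (eC P) (θ j).2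
  let A : ι → Type u := fun j => {ξ : IrrCharacter (Nz P) //
    classInner (resFun (Cn P) (ξ : Nz P → ℂ)) ((θ j : Cz P → ℂ) ∘ eC P) ≠ 0}
  have hA : ∀ j, Nat.card (A j) = (Cz P).relIndex (T j) := fun j => by
    rw [← relIndex_stab P _ (T j) (hT j)]
    exact card_irr_over (Cn P) hcyc (hθ' j)
  have hdef : ∀ (j : ι) (ξ : A j), ∃ β : IrrCharacter (Nz P ⧸ P.subgroupOf (Nz P)),
      inflateIrr (P.subgroupOf (Nz P)) β = ξ.1 :=
    fun j ξ => exists_inflateIrr_eq _ ξ.1 (ker_of_over P hP (θ j) (hθ j) ξ.1 ξ.2)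
  choose Φ hΦ using hdef
  let F : (Σ j, A j) → IrrCharacter (Nz P ⧸ P.subgroupOf (Nz P)) := fun x => Φ x.1 x.2
  have hF : Function.Injective F := by
    rintro ⟨j, ξ⟩ ⟨j', ξ'⟩ h
    have h0 : Φ j ξ = Φ j' ξ' := h
    have h1 : ξ.1 = ξ'.1 := by
      rw [← hΦ j ξ, ← hΦ j' ξ', h0]
    have hj : j = j' := by
      by_contra hne
      have h2 := ξ'.2
      rw [← h1] at h2
      obtain ⟨g, hg⟩ := exists_conjFun_eq_of_constituent (Cn P) ξ.1.2 (hθ' j) (hθ' j') ξ.2 h2
      apply hnc j j' hne g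
      funext c
      have h3 := congrFun hg ((eC P).symm c)
      rw [conjFun_apply] at h3
      simp only [Function.comp_apply, MulEquiv.apply_symm_apply] at h3
      rw [← h3]
      unfold conjC
      congr 1
    subst hj
    have h6 : ξ = ξ' := Subtype.ext h1
    rw [h6]
  calc ∑ j, (Cz P).relIndex (T j) = ∑ j, Nat.card (A j) := by simp only [hA]
    _ = Nat.card (Σ j, A j) := (Nat.card_sigma).symm
    _ ≤ Nat.card (IrrCharacter (Nz P ⧸ P.subgroupOf (Nz P))) :=
        Nat.card_le_card_of_injective F hF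
    _ = _ := card_irrCharacter

end main

end Cfsg.Agent.Lib.Helper23.DOGCOUNT
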