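import Mathlib
import Cfsg.Agent.Lib.Helper27.SymAlgDefs
import Cfsg.Agent.Lib.Helper27.BlkAlgDefs2

/-!
# S4607 leaf B8 (planner helper27): the corner of a central idempotent (helper23)

NOTE: `finrank_corner` (B8b) is proved WITH the centrality hypothesis `hc` (the frozen statement
without `hc` is false for non-central idempotents, e.g. `E₁₁` in `Mat₂(F)`).
-/

set_option autoImplicit false

namespace Cfsg.Agent.Lib.Helper23.BlkAlgB8

open Cfsg.Agent.Lib.Helper27.SymAlg Cfsg.Agent.Lib.Helper27.BlkAlg

section corner

variable {F : Type*} [Field F] {L : Type*} [Ring L] [Algebra F L] {e : L}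
  (he : IsIdempotentElem e) (hc : ∀ x : L, e * x = x * e)

theorem e_mul_val (x : he.Corner) : e * x.1 = x.1 :=
  ((Subsemigroup.mem_corner_iff he).mp x.2).1

theorem val_mul_e (x : he.Corner) : x.1 * e = x.1 :=
  ((Subsemigroup.mem_corner_iff he).mp x.2).2

/-- The compression `y ↦ e y e` into the corner. -/
def compress (y : L) : he.Corner := ⟨e * y * e, ⟨y, rfl⟩⟩

theorem compress_val (y : L) : (compress he y).1 = e * y * e := rfl

/-- LEAF B8a -/
theorem finiteDimensional_corner [FiniteDimensional F L] : FiniteDimensional F he.Corner :=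
  FiniteDimensional.of_injective (cornerIncl (F := F) he) (cornerIncl_injective he)

include hc in
theorem range_cornerIncl :
    LinearMap.range (cornerIncl (F := F) he) = LinearMap.range (LinearMap.mulLeft F e) := by
  ext x
  rw [mem_range_cornerIncl]
  constructor
  · rintro ⟨h1, _⟩
    exact ⟨x, by simpa using h1⟩
  · rintro ⟨y, rfl⟩
    simp only [LinearMap.mulLeft_apply]
    refine ⟨by rw [← mul_assoc, he.eq], ?_⟩
    rw [← hc, ← mul_assoc, he.eq]

include hc in
/-- LEAF B8b (with `hc`; false without) -/
theorem finrank_corner [FiniteDimensional F L] :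
    Module.finrank F he.Corner = Module.finrank F ↥(LinearMap.range (LinearMap.mulLeft F e)) := by
  rw [← range_cornerIncl he hc]
  exact (LinearMap.finrank_range_of_inj (cornerIncl_injective (F := F) he)).symm

include hc in
/-- A central element of the corner is central in `L`. -/
theorem val_mem_center (x : he.Corner) (hx : x ∈ Subalgebra.center F he.Corner) :
    x.1 ∈ Subalgebra.center F L := by
  rw [Subalgebra.mem_center_iff]
  intro b
  have h := (Subalgebra.mem_center_iff.mp hx) (compress he b)
  have h' : e * b * e * x.1 = x.1 * (e * b * e) := congrArg Subtype.val h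
  have h1 : e * b * e * x.1 = b * x.1 := by
    rw [mul_assoc, e_mul_val, hc b, mul_assoc, e_mul_val]
  have h2 : x.1 * (e * b * e) = x.1 * b := by
    rw [← mul_assoc, ← mul_assoc, val_mul_e, mul_assoc, ← hc b, ← mul_assoc, val_mul_e]
  rw [← h1, h', h2]

include hc in
/-- `e z` is a central element of the corner for `z` central in `L`. -/
theorem compress_mem_center (z : L) (hz : z ∈ Subalgebra.center F L) :
    compress he z ∈ Subalgebra.center F he.Corner := by
  rw [Subalgebra.mem_center_iff]
  intro b
  apply Subtype.ext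
  show b.1 * (e * z * e) = e * z * e * b.1
  have hzc := Subalgebra.mem_center_iff.mp hz
  calc b.1 * (e * z * e) = b.1 * e * z * e := by simp only [mul_assoc]
    _ = b.1 * z * e := by rw [val_mul_e]
    _ = z * b.1 * e := by rw [hzc b.1]
    _ = z * b.1 := by rw [mul_assoc, val_mul_e]
    _ = z * (e * b.1) := by rw [e_mul_val]
    _ = z * e * b.1 := by rw [mul_assoc]
    _ = e * z * b.1 := by rw [hc z]
    _ = e * z * (e * b.1) := by rw [e_mul_val]
    _ = e * z * e * b.1 := by simp only [mul_assoc]

include hc in
theorem map_center_corner :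
    (Subalgebra.toSubmodule (Subalgebra.center F he.Corner)).map (cornerIncl (F := F) he) =
      (Subalgebra.toSubmodule (Subalgebra.center F L)).map (LinearMap.mulLeft F e) := by
  ext y
  simp only [Submodule.mem_map, Subalgebra.mem_toSubmodule, LinearMap.mulLeft_apply]
  constructor
  · rintro ⟨x, hx, rfl⟩
    exact ⟨x.1, val_mem_center he hc x hx, e_mul_val he x⟩
  · rintro ⟨z, hz, rfl⟩
    refine ⟨compress he z, compress_mem_center he hc z hz, ?_⟩
    show e * z * e = e * z
    rw [mul_assoc, ← hc z, ← mul_assoc, he.eq]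

include hc in
/-- LEAF B8c: `Z(eL) = e Z(L)` for a central idempotent `e`. -/
theorem finrank_center_corner [FiniteDimensional F L] :
    Module.finrank F (Subalgebra.center F he.Corner) =
      Module.finrank F ↥((Subalgebra.toSubmodule (Subalgebra.center F L)).map
        (LinearMap.mulLeft F e)) := by
  rw [← map_center_corner he hc]
  exact (LinearEquiv.finrank_eq (Submodule.equivMapOfInjective (cornerIncl (F := F) he)
    (cornerIncl_injective he) (Subalgebra.toSubmodule (Subalgebra.center F he.Corner))))

include hc in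
/-- LEAF B8d -/
theorem corner_prim
    (h : ∀ ε : L, ε ∈ Subalgebra.center F L → ε * ε = ε → e * ε = ε → ε = 0 ∨ ε = e) :
    ∀ x : he.Corner, x ∈ Subalgebra.center F he.Corner → x * x = x → x = 0 ∨ x = 1 := by
  intro x hx hxx
  have h1 : x.1 * x.1 = x.1 := congrArg Subtype.val hxx
  rcases h x.1 (val_mem_center he hc x hx) h1 (e_mul_val he x) with h0 | h0
  · left; exact Subtype.ext h0
  · right; exact Subtype.ext h0

include hc in
/-- LEAF B8e -/
theorem isSymForm_corner {lam : L →ₗ[F] F} (hlam : IsSymForm lam) :
    IsSymForm (lam.comp (cornerIncl (F := F) he)) := by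
  refine ⟨fun x y => ?_, fun x hx => ?_⟩
  · show lam (x.1 * y.1) = lam (y.1 * x.1)
    exact hlam.comm _ _
  · have hx1 : x.1 ≠ 0 := fun h0 => hx (Subtype.ext h0)
    obtain ⟨y, hy⟩ := hlam.nondeg x.1 hx1
    refine ⟨compress he y, ?_⟩
    show lam (x.1 * (e * y * e)) ≠ 0
    have : x.1 * (e * y * e) = x.1 * y := by
      calc x.1 * (e * y * e) = x.1 * e * y * e := by simp only [mul_assoc]
        _ = x.1 * y * e := by rw [val_mul_e]
        _ = x.1 * (y * e) := by rw [mul_assoc]
        _ = x.1 * (e * y) := by rw [hc y]
        _ = x.1 * e * y := by rw [mul_assoc]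
        _ = x.1 * y := by rw [val_mul_e]
    rw [this]
    exact hy

end corner

end Cfsg.Agent.Lib.Helper23.BlkAlgB8
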