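import Mathlib
import Cfsg.Agent.Lib.Helper27.SymAlgDefs

/-!
# S4607 leaf A4 (planner helper27): lifting matrix units along a surjection with nil kernel (helper23)
-/

set_option autoImplicit false

namespace Cfsg.Agent.Lib.Helper23.SymAlgA4

open Cfsg.Agent.Lib.Helper27.SymAlg

variable {F : Type*} [Field F] {B : Type*} [Ring B] [Algebra F B]

/-- The diagonal matrix units form a complete system of orthogonal idempotents. -/
theorem coi_single (n : ℕ) :
    CompleteOrthogonalIdempotents (fun i : Fin n => Matrix.single i i (1 : F)) := by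
  refine ⟨⟨fun i => ?_, fun i j hij => ?_⟩, Matrix.sum_single_one⟩
  · simp [IsIdempotentElem]
  · exact Matrix.single_mul_single_of_ne (c := (1 : F)) i i j hij 1

/-- Inverse in a corner ring `e B e` of an element congruent to `e` modulo nilpotents. -/
theorem corner_inverse {e a : B} (he : e * e = e) (hea : e * a = a) (hae : a * e = a)
    (hnil : IsNilpotent (e - a)) :
    ∃ c : B, e * c = c ∧ c * e = c ∧ c * a = e ∧ a * c = e := by
  obtain ⟨k, hk⟩ := hnil
  set r : B := e - a with hr
  have her : e * r = r := by rw [hr, mul_sub, he, hea]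
  have hre : r * e = r := by rw [hr, sub_mul, he, hae]
  have hcomm : Commute e r := by rw [Commute, SemiconjBy, her, hre]
  set S : B := ∑ j ∈ Finset.range k, r ^ j with hS
  have hcS : Commute e S := by
    rw [hS]
    exact Commute.sum_right _ _ _ fun j _ => hcomm.pow_right j
  have ha1 : a = e * (1 - r) := by rw [mul_sub, mul_one, her, hr]; abel
  have ha2 : a = (1 - r) * e := by rw [sub_mul, one_mul, hre, hr]; abel
  have hS1 : S * (1 - r) = 1 := by
    rw [hS, geom_sum_mul_neg, hk, sub_zero]
  have hS2 : (1 - r) * S = 1 := by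
    rw [hS, mul_neg_geom_sum, hk, sub_zero]
  refine ⟨e * S, ?_, ?_, ?_, ?_⟩
  · rw [← mul_assoc, he]
  · rw [mul_assoc, ← hcS.eq, ← mul_assoc, he]
  · rw [ha2, mul_assoc, ← mul_assoc S, hS1, one_mul, he]
  · rw [ha2, mul_assoc, ← mul_assoc e e, he, hcS.eq, ← mul_assoc, hS2, one_mul]

/-- LEAF A4: lifting matrix units along a surjection with nil kernel. -/
theorem exists_matrixUnits {n : ℕ} (π : B →ₐ[F] Matrix (Fin n) (Fin n) F)
    (hπ : Function.Surjective π) (hnil : ∀ x : B, π x = 0 → IsNilpotent x) :
    ∃ u : Fin n → Fin n → B, IsMatrixUnits u ∧ ∀ i j, π (u i j) = Matrix.single i j 1 := by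
  rcases n with _ | n
  · have h1 : IsNilpotent (1 : B) := hnil 1 (Subsingleton.elim _ _)
    have h10 : (1 : B) = 0 := by
      obtain ⟨k, hk⟩ := h1
      simpa using hk
    have : Subsingleton B := subsingleton_of_zero_eq_one h10.symm
    exact ⟨fun i _ => i.elim0, ⟨fun i => i.elim0, Subsingleton.elim _ _⟩, fun i => i.elim0⟩
  · have hker : ∀ x ∈ RingHom.ker (π : B →+* Matrix (Fin (n + 1)) (Fin (n + 1)) F),
        IsNilpotent x := fun x hx => hnil x (by simpa [RingHom.mem_ker] using hx)
    obtain ⟨ε, hε, hπε⟩ := CompleteOrthogonalIdempotents.lift_of_isNilpotent_ker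
      (π : B →+* Matrix (Fin (n + 1)) (Fin (n + 1)) F) hker (coi_single (F := F) (n + 1))
      (fun i => by
        obtain ⟨x, hx⟩ := hπ (Matrix.single i i (1 : F))
        exact ⟨x, by simpa using hx⟩)
    have hπε' : ∀ i, π (ε i) = Matrix.single i i (1 : F) := fun i => by
      have := congrFun hπε i
      simpa using this
    have hidem : ∀ i, ε i * ε i = ε i := fun i => (hε.idem i).eq
    have hortho : ∀ i j, i ≠ j → ε i * ε j = 0 := fun i j hij => hε.ortho hij
    -- off-diagonal lifts
    choose v0 hv0 using fun i : Fin (n + 1) => hπ (Matrix.single i 0 (1 : F))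
    choose w0 hw0 using fun i : Fin (n + 1) => hπ (Matrix.single 0 i (1 : F))
    set e0 : B := ε 0 with he0
    set v : Fin (n + 1) → B := fun i => ε i * v0 i * e0 with hv
    set w : Fin (n + 1) → B := fun i => e0 * w0 i * ε i with hw
    have hπv : ∀ i, π (v i) = Matrix.single i 0 (1 : F) := fun i => by
      simp only [hv, map_mul, hπε', hv0, he0]
      simp
    have hπw : ∀ i, π (w i) = Matrix.single 0 i (1 : F) := fun i => by
      simp only [hw, map_mul, hπε', hw0, he0]
      simp
    have hev : ∀ i, ε i * v i = v i := fun i => by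
      simp only [hv]; rw [← mul_assoc, ← mul_assoc, hidem]
    have hve : ∀ i, v i * e0 = v i := fun i => by
      simp only [hv]; rw [mul_assoc, he0, hidem]
    have hew : ∀ i, e0 * w i = w i := fun i => by
      simp only [hw]; rw [← mul_assoc, ← mul_assoc, he0, hidem]
    have hwe : ∀ i, w i * ε i = w i := fun i => by
      simp only [hw]; rw [mul_assoc, hidem]
    have hwv0 : ∀ j k, j ≠ k → w j * v k = 0 := fun j k hjk => by
      rw [← hwe j, ← hev k, mul_assoc, ← mul_assoc (ε j), hortho j k hjk, zero_mul, mul_zero]
    -- the corner elements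
    have hcorner : ∀ i, ∃ c : B, e0 * c = c ∧ c * e0 = c ∧ c * (w i * v i) = e0 ∧
        (w i * v i) * c = e0 := fun i => by
      refine corner_inverse (hidem 0) ?_ ?_ (hnil _ ?_)
      · rw [← mul_assoc, hew]
      · rw [mul_assoc, hve]
      · rw [map_sub, map_mul, hπw, hπv, he0, hπε']
        simp
    choose c hec hce hca hac using hcorner
    have hπc : ∀ i, π (c i) = Matrix.single 0 0 (1 : F) := fun i => by
      have h1 : π (c i) * Matrix.single 0 0 (1 : F) = Matrix.single 0 0 (1 : F) := by
        have := congrArg π (hca i)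
        rw [map_mul, map_mul, hπw, hπv, he0, hπε'] at this
        simpa using this
      have h2 : π (c i) * Matrix.single 0 0 (1 : F) = π (c i) := by
        have := congrArg π (hce i)
        rw [map_mul, he0, hπε'] at this
        exact this
      rw [← h2, h1]
    -- the diagonal products are the lifted idempotents
    have hf : ∀ i, v i * c i * w i = ε i := fun i => by
      refine eq_of_isNilpotent_sub_of_isIdempotentElem_of_commute ?_ (hε.idem i) (hnil _ ?_) ?_
      · show v i * c i * w i * (v i * c i * w i) = v i * c i * w i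
        calc v i * c i * w i * (v i * c i * w i)
            = v i * (c i * (w i * v i)) * c i * w i := by simp only [mul_assoc]
          _ = v i * c i * w i := by rw [hca, hve]
      · rw [map_sub, map_mul, map_mul, hπv, hπc, hπw, hπε']
        simp
      · rw [Commute, SemiconjBy]
        calc v i * c i * w i * ε i = v i * c i * (w i * ε i) := by simp only [mul_assoc]
          _ = v i * c i * w i := by rw [hwe]
          _ = ε i * v i * c i * w i := by rw [hev]
          _ = ε i * (v i * c i * w i) := by simp only [mul_assoc]
    refine ⟨fun i j => v i * c j * w j, ⟨fun i j k l => ?_, ?_⟩, fun i j => ?_⟩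
    · by_cases hjk : j = k
      · subst hjk
        rw [if_pos rfl]
        calc v i * c j * w j * (v j * c l * w l)
            = v i * (c j * (w j * v j)) * c l * w l := by simp only [mul_assoc]
          _ = v i * c l * w l := by rw [hca, hve]
      · rw [if_neg hjk]
        calc v i * c j * w j * (v k * c l * w l)
            = v i * c j * (w j * v k) * (c l * w l) := by simp only [mul_assoc]
          _ = 0 := by rw [hwv0 j k hjk, mul_zero, zero_mul]
    · simp only [hf]
      exact hε.complete
    · show π (v i * c j * w j) = Matrix.single i j 1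
      rw [map_mul, map_mul, hπv, hπc, hπw]
      simp

end Cfsg.Agent.Lib.Helper23.SymAlgA4
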