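/-
helper23: S4504 (Brauer: faithful character of degree (p-1)/2 ⇒ G/Z(G) ≅ PSL(2,p)), sub-plan (VI) = (T)+(M)
(`notes/S4504_VI_leaves.lean`), vocabulary.
* `cset ψ0`  : the irreducible characters with the same central character as `ψ0` (`Irr(G | θ)`, `θ` the central
  character of `ψ0`); `cset (trivIrr G)` = the irreducible characters with `Z(G)` in the kernel;
* `Tc S a b y` : the partial class-multiplication sum `∑_{χ ∈ S} χ(a) χ(b) conj χ(y) / χ(1)`;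
* `Xp X v`, `Xm X v` : the non-trivial characters of sign `+1`, resp. the characters of sign `-1`, in the non-exceptional part
  `X` of the principal block (`Helper6.BRH.B0`);
* `CaseA`, `CaseB` : the two shapes of the equality case (helper6 `BRHEq.eq_case`), `f` odd resp. even.
-/
import Mathlib
import Cfsg.Prelude.Def_BlockRank
import Cfsg.Agent.Lib.Helper6.BRHDefs

set_option autoImplicit false

namespace Cfsg.Agent.Lib.Helper23.BRVI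

open Cfsg Cfsg.Agent.Lib.Helper8.DOM Cfsg.Agent.Lib.Helper27.DO Cfsg.Agent.CharLib
open Cfsg.Agent.Lib.Helper6.BRH
open scoped ComplexConjugate

universe u

variable {G : Type u} [Group G]

/-- the irreducible characters with the same central character as `ψ0` -/
def cset (ψ0 : IrrCharacter G) : Set (IrrCharacter G) :=
  {χ | ∀ z ∈ Subgroup.center G,
    (χ : G → ℂ) z * (ψ0 : G → ℂ) 1 = (ψ0 : G → ℂ) z * (χ : G → ℂ) 1}

/-- partial class-multiplication sums -/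
noncomputable def Tc (S : Set (IrrCharacter G)) (a b y : G) : ℂ :=
  ∑ᶠ χ ∈ S, (χ : G → ℂ) a * (χ : G → ℂ) b * conj ((χ : G → ℂ) y) / (χ : G → ℂ) 1

/-- the non-trivial characters of sign `+1` in `X` -/
def Xp (X : Set (IrrCharacter G)) (v : IrrCharacter G → ℤ) : Set (IrrCharacter G) :=
  {η | η ∈ X ∧ v η = 1 ∧ η ≠ trivIrr G}

/-- the characters of sign `-1` in `X` -/
def Xm (X : Set (IrrCharacter G)) (v : IrrCharacter G → ℤ) : Set (IrrCharacter G) :=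
  {η | η ∈ X ∧ v η = -1}

/-- equality case, `f` odd (`p ≡ 3 mod 4`): `ξ(1) = f`, `2 |X⁻| + 1 = f`, `ψ ψ̄ = 1 + ∑_{X⁺ \ 1} η`,
`ψ ψ̄' = ∑_{X⁻} η + ξ0` -/
def CaseA (f : ℕ) (ψ ψ' : IrrCharacter G) (X Y : Set (IrrCharacter G)) (v : IrrCharacter G → ℤ) : Prop :=
  (∀ ξ ∈ Y, charDegree (ξ : G → ℂ) = f) ∧ 2 * Nat.card (Xm X v) + 1 = f ∧
  (∀ g : G, (ψ : G → ℂ) g * conj ((ψ : G → ℂ) g) = 1 + ∑ᶠ η ∈ Xp X v, (η : G → ℂ) g) ∧
  ∃ ξ0 ∈ Y, ∀ g : G, (ψ : G → ℂ) g * conj ((ψ' : G → ℂ) g) =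
    ∑ᶠ η ∈ Xm X v, (η : G → ℂ) g + (ξ0 : G → ℂ) g

/-- equality case, `f` even (`p ≡ 1 mod 4`): `ξ(1) = f + 1`, `2 |X⁻| = f`, `ψ ψ̄ = 1 + ∑_{X⁺ \ 1} η + ξ0`,
`ψ ψ̄' = ∑_{X⁻} η` -/
def CaseB (f : ℕ) (ψ ψ' : IrrCharacter G) (X Y : Set (IrrCharacter G)) (v : IrrCharacter G → ℤ) : Prop :=
  (∀ ξ ∈ Y, charDegree (ξ : G → ℂ) = f + 1) ∧ 2 * Nat.card (Xm X v) = f ∧
  (∃ ξ0 ∈ Y, ∀ g : G, (ψ : G → ℂ) g * conj ((ψ : G → ℂ) g) =
    1 + ∑ᶠ η ∈ Xp X v, (η : G → ℂ) g + (ξ0 : G → ℂ) g) ∧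
  ∀ g : G, (ψ : G → ℂ) g * conj ((ψ' : G → ℂ) g) = ∑ᶠ η ∈ Xm X v, (η : G → ℂ) g

end Cfsg.Agent.Lib.Helper23.BRVI
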