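/-
helper23: S4504 (VI), central characters on the centre: `χ(g z) = ω_χ(z) χ(g)`, `ω_χ : Z(G) →* ℂ`, orthogonality of the `ω`'s,
and the decomposition of sums over `Irr G` according to the central character.
-/
import Mathlib
import Cfsg.Prelude.Def_BlockRank
import Cfsg.Agent.Lib.Helper6.BRHDefs
import Cfsg.Agent.Lib.Helper23.BRVIDefs
import Cfsg.Agent.Lib.Helper6.DefectOrder
import Cfsg.Agent.Lib.Helper24.IrrFacts

set_option autoImplicit false

namespace Cfsg.Agent.Lib.Helper23.BRVIZC

open Cfsg Cfsg.Agent.Lib.Helper8.DOM Cfsg.Agent.Lib.Helper27.DO Cfsg.Agent.CharLib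
open Cfsg.Agent.Lib.Helper6.BRH Cfsg.Agent.Lib.Helper23.BRVI
open scoped ComplexConjugate

universe u

variable {G : Type u} [Group G] [Finite G]

/-- `χ(g z) = (χ(z)/χ(1)) χ(g)` for central `z` -/
theorem apply_mul_central (χ : IrrCharacter G) (z : G) (hz : z ∈ Subgroup.center G) (g : G) :
    (χ : G → ℂ) (g * z) = (χ : G → ℂ) z / (χ : G → ℂ) 1 * (χ : G → ℂ) g := by
  classical
  let _ : Fintype G := Fintype.ofFinite G
  have hz' : ∀ h : G, h * z = z * h := fun h => (Subgroup.mem_center_iff.mp hz h)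
  have h1 := Cfsg.Agent.Lib.Helper6.irr_mul_central χ z hz' g
  have hidx : (Subgroup.centralizer ({z} : Set G)).index = 1 := by
    have : Subgroup.centralizer ({z} : Set G) = ⊤ := by
      rw [eq_top_iff]
      intro g _
      rw [Subgroup.mem_centralizer_singleton_iff]
      exact hz' g
    rw [this, Subgroup.index_top]
  unfold centralChar at h1
  rw [hidx, Nat.cast_one, one_mul] at h1
  exact h1

/-- the central character of `χ` on the centre -/
noncomputable def omegaHom (χ : IrrCharacter G) : Subgroup.center G →* ℂ where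
  toFun z := (χ : G → ℂ) (z : G) / (χ : G → ℂ) 1
  map_one' := by
    simp only [OneMemClass.coe_one]
    exact div_self (Cfsg.Agent.Lib.Helper24.irr_apply_one_ne_zero χ)
  map_mul' z z' := by
    simp only [Subgroup.coe_mul]
    rw [apply_mul_central χ (z' : G) z'.2 (z : G)]
    have h0 := Cfsg.Agent.Lib.Helper24.irr_apply_one_ne_zero χ
    field_simp

theorem omegaHom_apply (χ : IrrCharacter G) (z : Subgroup.center G) :
    omegaHom χ z = (χ : G → ℂ) (z : G) / (χ : G → ℂ) 1 := rfl

theorem apply_mul_central' (χ : IrrCharacter G) (z : Subgroup.center G) (g : G) :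
    (χ : G → ℂ) (g * (z : G)) = omegaHom χ z * (χ : G → ℂ) g :=
  apply_mul_central χ (z : G) z.2 g

theorem norm_omegaHom (χ : IrrCharacter G) (z : Subgroup.center G) : ‖omegaHom χ z‖ = 1 := by
  have h1 : omegaHom χ z ^ orderOf z = 1 := by
    rw [← map_pow, pow_orderOf_eq_one, map_one]
  exact Complex.norm_eq_one_of_pow_eq_one h1 (orderOf_pos z).ne'

theorem omegaHom_mul_conj (χ : IrrCharacter G) (z : Subgroup.center G) :
    omegaHom χ z * conj (omegaHom χ z) = 1 := by
  rw [Complex.mul_conj, Complex.normSq_eq_norm_sq, norm_omegaHom]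
  simp

theorem mem_cset_iff (ψ0 χ : IrrCharacter G) : χ ∈ cset ψ0 ↔ omegaHom χ = omegaHom ψ0 := by
  have h0 := Cfsg.Agent.Lib.Helper24.irr_apply_one_ne_zero χ
  have h1 := Cfsg.Agent.Lib.Helper24.irr_apply_one_ne_zero ψ0
  constructor
  · intro h
    ext z
    rw [omegaHom_apply, omegaHom_apply, div_eq_div_iff h0 h1]
    exact h (z : G) z.2
  · intro h z hz
    have := DFunLike.congr_fun h ⟨z, hz⟩
    rw [omegaHom_apply, omegaHom_apply, div_eq_div_iff h0 h1] at this
    exact this

theorem omegaHom_trivIrr (z : Subgroup.center G) : omegaHom (trivIrr G) z = 1 := by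
  rw [omegaHom_apply]
  show (1 : ℂ) / 1 = 1
  simp

open Classical in
/-- orthogonality of the central characters -/
theorem sum_omegaHom_mul_conj [Fintype (Subgroup.center G)] (ψ0 χ : IrrCharacter G) :
    ∑ z : Subgroup.center G, omegaHom χ z * conj (omegaHom ψ0 z) =
      if χ ∈ cset ψ0 then (Nat.card (Subgroup.center G) : ℂ) else 0 := by
  set f : Subgroup.center G →* ℂ :=
    omegaHom χ * ((starRingEnd ℂ : ℂ →+* ℂ) : ℂ →* ℂ).comp (omegaHom ψ0) with hf
  have hfz : ∀ z, f z = omegaHom χ z * conj (omegaHom ψ0 z) := fun z => rfl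
  by_cases hmem : χ ∈ cset ψ0
  · rw [if_pos hmem]
    have heq := (mem_cset_iff ψ0 χ).mp hmem
    have : ∀ z : Subgroup.center G, omegaHom χ z * conj (omegaHom ψ0 z) = 1 := by
      intro z
      rw [heq]
      exact omegaHom_mul_conj ψ0 z
    rw [Finset.sum_congr rfl (fun z _ => this z), Finset.sum_const, Finset.card_univ, nsmul_eq_mul,
      mul_one, Nat.card_eq_fintype_card]
  · rw [if_neg hmem]
    have hne : f ≠ 1 := by
      intro h1
      apply hmem
      rw [mem_cset_iff]
      ext z
      have h2 : f z = 1 := by rw [h1]; rfl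
      rw [hfz] at h2
      have h3 := omegaHom_mul_conj ψ0 z
      have h4 : omegaHom χ z = omegaHom χ z * (omegaHom ψ0 z * conj (omegaHom ψ0 z)) := by
        rw [h3, mul_one]
      rw [h4, mul_comm (omegaHom ψ0 z), ← mul_assoc, h2, one_mul]
    have := sum_hom_units_eq_zero f hne
    rw [← this]
    exact Finset.sum_congr rfl (fun z _ => (hfz z).symm)

end Cfsg.Agent.Lib.Helper23.BRVIZC
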