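/-
helper23: S4503 PART H leaf BRH-DEGM `degree_minus` (sub-planner helper6, notes/S4503_H_leaves.lean).
-/
import Mathlib
import Cfsg.Prelude.Def_BlockRank
import Cfsg.Agent.Lib.Helper6.BRHDefs

set_option autoImplicit false

namespace Cfsg.Agent.Lib.Helper23.BRHDEGM

open Cfsg Cfsg.Agent.Lib.Helper8.DOM Cfsg.Agent.Lib.Helper27.DO Cfsg.Agent.CharLib
open Cfsg.Agent.Lib.Helper6.BRH
open scoped ComplexConjugate

universe u

variable {G : Type u} [Group G] [Finite G] {p : ℕ} [Fact p.Prime]

/-- a non-identity element of a subgroup of order `p` has order `p` -/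
theorem orderOf_eq_of_mem (P : Subgroup G) (hP : Nat.card P = p) (x : G) (hx : x ∈ P)
    (hx1 : x ≠ 1) : orderOf x = p := by
  have hpp : p.Prime := Fact.out
  have h1 : orderOf x ∣ p := hP ▸ Subgroup.orderOf_dvd_natCard P hx
  rcases (Nat.dvd_prime hpp).mp h1 with h | h
  · exact absurd (orderOf_eq_one_iff.mp h) hx1
  · exact h

/-- a function constant `c` on the `p`-singular elements sums to `f 1 + (p - 1) c` over `P` -/
theorem finsum_subgroup_eq (P : Subgroup G) (hP : Nat.card P = p) (f : G → ℂ) (c : ℂ)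
    (hval : ∀ g : G, p ∣ orderOf g → f g = c) :
    ∑ᶠ x ∈ (P : Set G), f x = f 1 + ((p : ℂ) - 1) * c := by
  classical
  have hpp : p.Prime := Fact.out
  have hfin : ((P : Set G) \ {1}).Finite := Set.toFinite _
  have hins : (P : Set G) = insert (1 : G) ((P : Set G) \ {1}) := by
    ext x
    simp only [Set.mem_insert_iff, Set.mem_diff, SetLike.mem_coe, Set.mem_singleton_iff]
    constructor
    · intro hx
      by_cases h : x = 1
      · left; exact h
      · right; exact ⟨hx, h⟩
    · rintro (h | h)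
      · rw [h]; exact one_mem P
      · exact h.1
  have hnot : (1 : G) ∉ ((P : Set G) \ {1}) := by simp
  have h1 : ∑ᶠ x ∈ (P : Set G), f x = f 1 + ∑ᶠ x ∈ ((P : Set G) \ {1}), f x := by
    conv_lhs => rw [hins]
    exact finsum_mem_insert f hnot hfin
  have h2 : ∑ᶠ x ∈ ((P : Set G) \ {1}), f x = ∑ᶠ x ∈ ((P : Set G) \ {1}), c := by
    apply finsum_mem_congr rfl
    intro x hx
    apply hval
    rw [orderOf_eq_of_mem P hP x hx.1 (by simpa using hx.2)]
  have h3 : ∑ᶠ _x ∈ ((P : Set G) \ {1}), c = ((p : ℂ) - 1) * c := by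
    rw [finsum_mem_eq_finite_toFinset_sum _ hfin, Finset.sum_const, nsmul_eq_mul]
    congr 1
    have h4 : hfin.toFinset.card = ((P : Set G) \ {1}).ncard :=
      (Set.ncard_eq_toFinset_card _ hfin).symm
    rw [h4, Set.ncard_diff_singleton_of_mem (one_mem P : (1 : G) ∈ (P : Set G))]
    have h5 : (P : Set G).ncard = p := by
      rw [← hP]; exact (Nat.card_coe_set_eq (P : Set G)).symm
    rw [h5, Nat.cast_sub hpp.one_le, Nat.cast_one]
  rw [h1, h2, h3]

/-- DEGM : sign `-1` and no `P`-fixed points: degree `p - 1`. -/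
theorem degree_minus (P : Subgroup G) (hP : Nat.card P = p) (η : IrrCharacter G)
    (hval : ∀ g : G, p ∣ orderOf g → (η : G → ℂ) g = -1)
    (hsum : ∑ᶠ x ∈ (P : Set G), (η : G → ℂ) x = 0) : charDegree (η : G → ℂ) = p - 1 := by
  have hpp : p.Prime := Fact.out
  have h1 := finsum_subgroup_eq P hP (η : G → ℂ) (-1) hval
  rw [hsum, apply_one_eq] at h1
  have h2 : (charDegree (η : G → ℂ) : ℂ) = ((p - 1 : ℕ) : ℂ) := by
    rw [Nat.cast_sub hpp.one_le, Nat.cast_one]
    linear_combination -h1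
  exact_mod_cast h2

end Cfsg.Agent.Lib.Helper23.BRHDEGM
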