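/-
helper23: multiplying irreducible characters by linear characters (homs `G →* ℂˣ`).
-/
import Mathlib
import Cfsg.Agent.Lib.Lead.CharEquiv
import Cfsg.Agent.Lib.Helper6.LinChar
import Cfsg.Agent.Lib.Helper6.CharNorm
import Cfsg.Agent.Lib.Helper24.PerfectLemmas

set_option autoImplicit false

namespace Cfsg.Agent.Lib.Helper23

open Cfsg Cfsg.Agent.CharLib Cfsg.Agent.Lib.Helper6 Cfsg.Agent.Lib.Helper24
open scoped ComplexConjugate

universe u

variable {G : Type u} [Group G]

theorem hom_mul_conj [Finite G] (φ : G →* ℂˣ) (g : G) :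
    ((φ g : ℂˣ) : ℂ) * conj ((φ g : ℂˣ) : ℂ) = 1 :=
  IsCharacter.mul_conj_eq_one_of_apply_one (isCharacter_of_hom φ) (by simp) g

/-- The linear character attached to a hom. -/
noncomputable def lin (φ : G →* ℂˣ) : IrrCharacter G :=
  ⟨fun g => ((φ g : ℂˣ) : ℂ), isIrrCharacter_of_hom φ⟩

theorem lin_apply (φ : G →* ℂˣ) (g : G) : (lin φ : G → ℂ) g = ((φ g : ℂˣ) : ℂ) := rfl

theorem lin_injective : Function.Injective (lin : (G →* ℂˣ) → IrrCharacter G) := by
  intro φ ψ h
  ext g
  exact congrFun (congrArg Subtype.val h) g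

theorem charDegree_lin (φ : G →* ℂˣ) : charDegree (lin φ : G → ℂ) = 1 := by
  have h := irr_apply_one (lin φ)
  rw [lin_apply, map_one, Units.val_one] at h
  exact_mod_cast h.symm

/-- An irreducible character of degree one comes from a hom. -/
theorem exists_lin_eq (χ : IrrCharacter G) (h : charDegree (χ : G → ℂ) = 1) :
    ∃ φ : G →* ℂˣ, lin φ = χ := by
  have h1 : (χ : G → ℂ) 1 = 1 := by rw [irr_apply_one, h]; simp
  refine ⟨linIrrEquivHom ⟨χ, h1⟩, ?_⟩
  apply Subtype.ext
  funext g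
  rfl

/-- Product of a linear character and an irreducible character. -/
noncomputable def twist [Finite G] (φ : G →* ℂˣ) (χ : IrrCharacter G) : IrrCharacter G :=
  ⟨fun g => ((φ g : ℂˣ) : ℂ) * (χ : G → ℂ) g, by
    classical
    let _ := Fintype.ofFinite G
    have hc : IsCharacter G (fun g => ((φ g : ℂˣ) : ℂ) * (χ : G → ℂ) g) :=
      IsCharacter.mul (isCharacter_of_hom φ) (IsIrrCharacter.isCharacter χ.2)
    apply isIrrCharacter_of_classInner_self_eq_one hc
    have h1 := classInner_irr χ.2 χ.2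
    rw [if_pos rfl] at h1
    rw [← h1]
    unfold classInner
    congr 1
    apply Finset.sum_congr rfl
    intro g _
    rw [map_mul]
    calc ((φ g : ℂˣ) : ℂ) * (χ : G → ℂ) g * (conj ((φ g : ℂˣ) : ℂ) * conj ((χ : G → ℂ) g))
        = (((φ g : ℂˣ) : ℂ) * conj ((φ g : ℂˣ) : ℂ)) * ((χ : G → ℂ) g * conj ((χ : G → ℂ) g)) := by ring
      _ = (χ : G → ℂ) g * conj ((χ : G → ℂ) g) := by rw [hom_mul_conj, one_mul]⟩

theorem twist_apply [Finite G] (φ : G →* ℂˣ) (χ : IrrCharacter G) (g : G) :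
    (twist φ χ : G → ℂ) g = ((φ g : ℂˣ) : ℂ) * (χ : G → ℂ) g := rfl

theorem twist_one [Finite G] (χ : IrrCharacter G) : twist 1 χ = χ := by
  apply Subtype.ext
  funext g
  rw [twist_apply]
  simp

theorem twist_mul [Finite G] (φ ψ : G →* ℂˣ) (χ : IrrCharacter G) :
    twist (φ * ψ) χ = twist φ (twist ψ χ) := by
  apply Subtype.ext
  funext g
  rw [twist_apply, twist_apply, twist_apply, MonoidHom.mul_apply, Units.val_mul, mul_assoc]

theorem twist_comm [Finite G] (φ ψ : G →* ℂˣ) (χ : IrrCharacter G) :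
    twist φ (twist ψ χ) = twist ψ (twist φ χ) := by
  rw [← twist_mul, ← twist_mul, mul_comm φ ψ]

theorem charDegree_twist [Finite G] (φ : G →* ℂˣ) (χ : IrrCharacter G) :
    charDegree (twist φ χ : G → ℂ) = charDegree (χ : G → ℂ) := by
  have h1 := irr_apply_one (twist φ χ)
  have h2 := irr_apply_one χ
  rw [twist_apply, map_one, Units.val_one, one_mul, h2] at h1
  exact_mod_cast h1.symm

theorem twist_lin [Finite G] (φ ψ : G →* ℂˣ) : twist φ (lin ψ) = lin (φ * ψ) := by
  apply Subtype.ext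
  funext g
  rw [twist_apply, lin_apply, lin_apply, MonoidHom.mul_apply, Units.val_mul]

/-- At most `χ(1)²` linear characters fix `χ` under multiplication. -/
theorem card_le_sq_of_twist_eq [Finite G] (χ : IrrCharacter G) (S : Finset (G →* ℂˣ))
    (hS : ∀ φ ∈ S, twist φ χ = χ) : S.card ≤ charDegree (χ : G → ℂ) ^ 2 := by
  classical
  let _ := Fintype.ofFinite G
  let _ := fintypeIrr G
  set Θ : G → ℂ := fun g => (χ : G → ℂ) g * conj ((χ : G → ℂ) g) with hΘ
  have hχc : IsCharacter G (χ : G → ℂ) := IsIrrCharacter.isCharacter χ.2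
  have hΘc : IsCharacter G Θ := IsCharacter.mul hχc (IsCharacter.conj hχc)
  have hdec := classFunction_eq_sum (IsCharacter.isClassFunction hΘc)
  choose n hn using fun ψ : IrrCharacter G =>
    IsCharacter.classInner_nat hΘc (IsIrrCharacter.isCharacter ψ.2)
  -- evaluate at 1
  have h1 : Θ 1 = ((∑ ψ : IrrCharacter G, n ψ * charDegree (ψ : G → ℂ) : ℕ) : ℂ) := by
    conv_lhs => rw [hdec]
    rw [Finset.sum_apply]
    push_cast
    apply Finset.sum_congr rfl
    intro ψ _
    rw [Pi.smul_apply, smul_eq_mul, hn ψ, irr_apply_one ψ]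
  have h2 : Θ 1 = ((charDegree (χ : G → ℂ) ^ 2 : ℕ) : ℂ) := by
    rw [hΘ]
    simp only
    rw [irr_apply_one χ, Complex.conj_natCast]
    push_cast
    ring
  have h3 : ∑ ψ : IrrCharacter G, n ψ * charDegree (ψ : G → ℂ) = charDegree (χ : G → ℂ) ^ 2 := by
    have := h1.symm.trans h2
    exact_mod_cast this
  -- multiplicity of lin φ is one
  have h4 : ∀ φ ∈ S, n (lin φ) = 1 := by
    intro φ hφ
    have h5 := hn (lin φ)
    have h6 : classInner Θ (lin φ : G → ℂ) = classInner (χ : G → ℂ) (twist φ χ : G → ℂ) := by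
      unfold classInner
      congr 1
      apply Finset.sum_congr rfl
      intro g _
      rw [twist_apply, lin_apply, map_mul, hΘ]
      ring
    rw [h6, hS φ hφ, classInner_irr χ.2 χ.2, if_pos rfl] at h5
    exact_mod_cast h5.symm
  calc S.card = ∑ φ ∈ S, n (lin φ) * charDegree (lin φ : G → ℂ) := by
        rw [Finset.card_eq_sum_ones]
        apply Finset.sum_congr rfl
        intro φ hφ
        rw [h4 φ hφ, charDegree_lin]
    _ = ∑ ψ ∈ S.image lin, n ψ * charDegree (ψ : G → ℂ) := by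
        rw [Finset.sum_image (fun a _ b _ h => lin_injective h)]
    _ ≤ ∑ ψ : IrrCharacter G, n ψ * charDegree (ψ : G → ℂ) :=
        Finset.sum_le_sum_of_subset (Finset.subset_univ _)
    _ = charDegree (χ : G → ℂ) ^ 2 := h3

end Cfsg.Agent.Lib.Helper23
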