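/-
helper23: S4503 PART H leaf BRH-DEGP `degree_plus` (sub-planner helper6, notes/S4503_H_leaves.lean).
-/
import Mathlib
import Cfsg.Prelude.Def_BlockRank
import Cfsg.Agent.Lib.Helper6.BRHDefs
import Cfsg.Agent.Lib.Helper6.DefectOrder
import Cfsg.Agent.Lib.Helper23.LinTwist
import Cfsg.Agent.Lib.Helper23.BRHDEGM

set_option autoImplicit false

namespace Cfsg.Agent.Lib.Helper23.BRHDEGP

open Cfsg Cfsg.Agent.Lib.Helper8.DOM Cfsg.Agent.Lib.Helper27.DO Cfsg.Agent.CharLib
open Cfsg.Agent.Lib.Helper6.BRH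
open scoped ComplexConjugate

universe u

variable {G : Type u} [Group G] [Finite G] {p : ℕ} [Fact p.Prime]

/-- the sum of a character over a subgroup, as a `finsum`, is `|D|` times a natural number -/
theorem exists_finsum_subgroup_eq (χ : G → ℂ) (hχ : IsCharacter G χ) (D : Subgroup G) :
    ∃ n : ℕ, ∑ᶠ x ∈ (D : Set G), χ x = (Nat.card D : ℂ) * (n : ℂ) := by
  classical
  let _ : Fintype G := Fintype.ofFinite G
  let _ : Fintype D := Fintype.ofFinite D
  obtain ⟨n, hn⟩ := Cfsg.Agent.Lib.Helper6.exists_sum_subgroup_eq χ hχ D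
  refine ⟨n, ?_⟩
  rw [← hn, ← finsum_set_coe_eq_finsum_mem (D : Set G)]
  exact finsum_eq_sum_of_fintype (fun u : D => χ (u : G))

/-- a linear character trivial on `P` is trivial when `G` is the normal closure of `P` -/
theorem eq_trivIrr_of_lin (P : Subgroup G) (hcl : Subgroup.normalClosure (P : Set G) = ⊤)
    (φ : G →* ℂˣ) (hφ : ∀ x ∈ P, φ x = 1) : Cfsg.Agent.Lib.Helper23.lin φ = trivIrr G := by
  have hle : Subgroup.normalClosure (P : Set G) ≤ φ.ker := by
    apply Subgroup.normalClosure_le_normal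
    intro x hx
    exact MonoidHom.mem_ker.mpr (hφ x hx)
  rw [hcl] at hle
  apply Subtype.ext
  funext g
  have hg : φ g = 1 := MonoidHom.mem_ker.mp (hle (Subgroup.mem_top g))
  show ((φ g : ℂˣ) : ℂ) = (1 : G → ℂ) g
  rw [hg]; rfl

/-- DEGP : sign `+1`, not trivial: degree `≥ p + 1` (as `G` is the normal closure of `P`). -/
theorem degree_plus (P : Subgroup G) (hP : Nat.card P = p)
    (hcl : Subgroup.normalClosure (P : Set G) = ⊤) (η : IrrCharacter G) (hne : η ≠ trivIrr G)
    (hval : ∀ g : G, p ∣ orderOf g → (η : G → ℂ) g = 1) : p + 1 ≤ charDegree (η : G → ℂ) := by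
  have hpp : p.Prime := Fact.out
  have h1 := Cfsg.Agent.Lib.Helper23.BRHDEGM.finsum_subgroup_eq P hP (η : G → ℂ) 1 hval
  obtain ⟨n, hn⟩ := exists_finsum_subgroup_eq (η : G → ℂ) (IsIrrCharacter.isCharacter η.2) P
  rw [h1, apply_one_eq, hP] at hn
  -- d + p - 1 = p n
  have h2 : charDegree (η : G → ℂ) + p = p * n + 1 := by
    have h3 : ((charDegree (η : G → ℂ) + p : ℕ) : ℂ) = ((p * n + 1 : ℕ) : ℂ) := by
      push_cast
      linear_combination hn
    exact_mod_cast h3
  have hd0 : 0 < charDegree (η : G → ℂ) := charDegree_pos η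
  -- degree one is impossible
  have hd1 : charDegree (η : G → ℂ) ≠ 1 := by
    intro hd
    obtain ⟨φ, hφ⟩ := Cfsg.Agent.Lib.Helper23.exists_lin_eq η hd
    apply hne
    rw [← hφ]
    apply eq_trivIrr_of_lin P hcl φ
    intro x hx
    by_cases hx1 : x = 1
    · rw [hx1, map_one]
    · have hox := Cfsg.Agent.Lib.Helper23.BRHDEGM.orderOf_eq_of_mem P hP x hx hx1
      have hv := hval x (by rw [hox])
      rw [← hφ, Cfsg.Agent.Lib.Helper23.lin_apply] at hv
      exact Units.ext hv
  -- arithmetic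
  have hn1 : 1 ≤ n := by
    rcases Nat.eq_zero_or_pos n with h | h
    · rw [h] at h2; have := hpp.two_le; omega
    · exact h
  rcases Nat.lt_or_ge n 2 with h | h
  · have hn' : n = 1 := by omega
    rw [hn'] at h2
    omega
  · have : p * 2 ≤ p * n := Nat.mul_le_mul_left p h
    omega

end Cfsg.Agent.Lib.Helper23.BRHDEGP
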