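/-
helper23: S3282 batch 2, sub-leaf LAT-B `lat_bad` of helper9's split of `lattice_main`
(notes/S3282_LAT_leaves.lean): two rows using different constituents of `m ν` are impossible.
-/
import Mathlib

set_option autoImplicit false

namespace Cfsg.Agent.Lib.Helper23.BSWCLATB

variable {B I : Type*} [Fintype B] [DecidableEq B] [Fintype I] [DecidableEq I]

omit [Fintype I] [DecidableEq I] in
/-- a row `δ_t + a δ_x + a' δ_y` against a rational function -/
theorem row_sum (r : B → ℤ) (t x y : B) (a a' : ℤ)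
    (hr : ∀ χ, r χ = (if χ = t then 1 else 0) + (if χ = x then a else 0)
      + (if χ = y then a' else 0))
    (g : B → ℚ) : ∑ χ, (r χ : ℚ) * g χ = g t + a * g x + a' * g y := by
  simp only [hr]
  push_cast
  simp [add_mul, Finset.sum_add_distrib, ite_mul]

omit [Fintype I] [DecidableEq I] in
/-- a row `δ_t + a δ_x + a' δ_y` against an integer function -/
theorem row_sum_int (r : B → ℤ) (t x y : B) (a a' : ℤ)
    (hr : ∀ χ, r χ = (if χ = t then 1 else 0) + (if χ = x then a else 0)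
      + (if χ = y then a' else 0))
    (g : B → ℤ) : ∑ χ, r χ * g χ = g t + a * g x + a' * g y := by
  simp only [hr]
  simp [add_mul, Finset.sum_add_distrib, ite_mul]

/-- **LAT-B** (the bad case: two rows using different constituents of `m ν` is impossible). -/
theorem lat_bad (inv : I → I) (hinv : ∀ i, inv (inv i) = i) (ν : I) (hν : ∀ i, inv i = i ↔ i = ν)
    (m : I → B → ℤ) (triv : B)
    (f : B → ℤ) (hf : ∀ χ, 0 < f χ) (hftriv : f triv = 1) (hdeg : ∀ i, ∑ χ, m i χ * f χ = 0)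
    (σ : I → ℤ) (hσ : ∀ i, σ i = 1 ∨ σ i = -1) (hσinv : ∀ i, σ (inv i) = σ i)
    (hσsum : ∑ i, σ i = -1)
    (htest : ∀ i j, ∑ χ, (m i χ : ℚ) * ((∑ l, m l χ * σ l : ℤ) : ℚ) ^ 2 / (f χ : ℚ) =
      ∑ χ, (m j χ : ℚ) * ((∑ l, m l χ * σ l : ℤ) : ℚ) ^ 2 / (f χ : ℚ))
    (c : Fin 3 → B) (e : Fin 3 → ℤ) (p : I → Fin 3) (b : I → B) (fs : I → ℤ)
    (hc : Function.Injective c) (hct : ∀ q, c q ≠ triv) (he : ∀ q, e q = 1 ∨ e q = -1)
    (hmν : ∀ χ, m ν χ = (if χ = triv then 1 else 0) + ∑ q, (if χ = c q then e q else 0))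
    (hmi : ∀ i, i ≠ ν → (fs i = 1 ∨ fs i = -1) ∧ b i ≠ triv ∧ (∀ q, b i ≠ c q) ∧
        ∀ χ, m i χ = (if χ = triv then 1 else 0) + (if χ = c (p i) then e (p i) else 0)
          + (if χ = b i then fs i else 0))
    (hinvp : ∀ i, i ≠ ν → p (inv i) = p i ∧ b (inv i) = b i ∧ fs (inv i) = fs i)
    (hrel : ∀ i j, i ≠ ν → j ≠ ν → j ≠ i → j ≠ inv i →
        (p i = p j → b i ≠ b j) ∧ (p i ≠ p j → b i = b j ∧ fs i = fs j))
    (i₁ i₂ : I) (h₁ : i₁ ≠ ν) (h₂ : i₂ ≠ ν) (hp : p i₁ ≠ p i₂) : False := by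
  classical
  have hνν : inv ν = ν := (hν ν).mpr rfl
  have hinvν : ∀ l, l ≠ ν → inv l ≠ ν := by
    intro l hl h
    apply hl
    have h' := hinv l
    rw [h, hνν] at h'
    exact h'.symm
  have hinvne : ∀ l, l ≠ ν → inv l ≠ l := fun l hl h => hl ((hν l).mp h)
  have h12a : i₂ ≠ i₁ := fun h => hp (by rw [h])
  have h12b : i₂ ≠ inv i₁ := fun h => hp (by rw [h, (hinvp i₁ h₁).1])
  obtain ⟨hβ, hφ⟩ := (hrel i₁ i₂ h₁ h₂ h12a h12b).2 hp
  -- all rows share `β`, `φ`
  have hall : ∀ l, l ≠ ν → b l = b i₁ ∧ fs l = fs i₁ := by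
    intro l hl
    by_cases h : p l = p i₁
    · have h' : p i₂ ≠ p l := fun h'' => hp (h.symm.trans h''.symm)
      have hne1 : l ≠ i₂ := fun h'' => h' (by rw [h''])
      have hne2 : l ≠ inv i₂ := fun h'' => h' (by rw [h'', (hinvp i₂ h₂).1])
      obtain ⟨hb', hf'⟩ := (hrel i₂ l h₂ hl hne1 hne2).2 h'
      exact ⟨hb'.symm.trans hβ.symm, hf'.symm.trans hφ.symm⟩
    · have hne1 : l ≠ i₁ := fun h'' => h (by rw [h''])
      have hne2 : l ≠ inv i₁ := fun h'' => h (by rw [h'', (hinvp i₁ h₁).1])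
      obtain ⟨hb', hf'⟩ := (hrel i₁ l h₁ hl hne1 hne2).2 (Ne.symm h)
      exact ⟨hb'.symm, hf'.symm⟩
  have hpp : ∀ l l', l ≠ ν → l' ≠ ν → p l = p l' → l' = l ∨ l' = inv l := by
    intro l l' hl hl' hpl
    by_contra hcon
    push Not at hcon
    exact (hrel l l' hl hl' hcon.1 hcon.2).1 hpl (by rw [(hall l hl).1, (hall l' hl').1])
  have hφ1 : fs i₁ = 1 ∨ fs i₁ = -1 := (hmi i₁ h₁).1
  have hβt : b i₁ ≠ triv := (hmi i₁ h₁).2.1
  have hβc : ∀ q, b i₁ ≠ c q := (hmi i₁ h₁).2.2.1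
  have hrow : ∀ l, l ≠ ν → ∀ χ, m l χ = (if χ = triv then 1 else 0)
      + (if χ = c (p l) then e (p l) else 0) + (if χ = b i₁ then fs i₁ else 0) := by
    intro l hl χ
    rw [(hmi l hl).2.2.2 χ, (hall l hl).1, (hall l hl).2]
  -- columns
  have hcol_triv : ∀ l, m l triv = 1 := by
    intro l
    by_cases hl : l = ν
    · rw [hl, hmν]
      simp [fun q => (hct q).symm]
    · rw [hrow l hl]
      simp [fun q => (hct q).symm, hβt.symm]
  have hcol_β_ν : m ν (b i₁) = 0 := by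
    rw [hmν]
    simp [hβt, hβc]
  have hcol_β : ∀ l, l ≠ ν → m l (b i₁) = fs i₁ := by
    intro l hl
    rw [hrow l hl]
    simp [hβt, hβc]
  have hcol_c_ν : ∀ q, m ν (c q) = e q := by
    intro q
    rw [hmν]
    simp [hct, hc.eq_iff]
  have hcol_c : ∀ l, l ≠ ν → ∀ q, m l (c q) = if p l = q then e q else 0 := by
    intro l hl q
    rw [hrow l hl]
    have h1 : c q ≠ b i₁ := (hβc q).symm
    by_cases hq : p l = q
    · subst hq
      simp [hct, h1]
    · have h2 : c q ≠ c (p l) := fun h => hq (hc h).symm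
      simp [hct, h1, h2, hq]
  -- the values `val χ = ∑ l, m l χ σ l`
  have hval_triv : (∑ l, m l triv * σ l) = -1 := by
    simp only [hcol_triv, one_mul]
    exact hσsum
  have hval_β : (∑ l, m l (b i₁) * σ l) = fs i₁ * (-1 - σ ν) := by
    have hm : ∀ l, m l (b i₁) = fs i₁ - (if l = ν then fs i₁ else 0) := by
      intro l
      by_cases hl : l = ν
      · rw [hl, hcol_β_ν]
        simp
      · rw [hcol_β l hl]
        simp [hl]
    simp only [hm, sub_mul, Finset.sum_sub_distrib, ite_mul, zero_mul, Finset.sum_ite_eq',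
      Finset.mem_univ, if_true, ← Finset.mul_sum, hσsum]
    ring
  have hval_c : ∀ l, l ≠ ν → (∑ l', m l' (c (p l)) * σ l') = e (p l) * (σ ν + 2 * σ l) := by
    intro l hl
    have key : ∀ l', m l' (c (p l)) = (if l' = ν then e (p l) else 0)
        + (if l' = l then e (p l) else 0) + (if l' = inv l then e (p l) else 0) := by
      intro l'
      by_cases hl' : l' = ν
      · rw [hl', hcol_c_ν]
        simp [Ne.symm hl, (hinvν l hl).symm]
      · rw [hcol_c l' hl']
        by_cases hpl : p l' = p l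
        · rcases hpp l l' hl hl' hpl.symm with h | h
          · rw [h]
            simp [hl, (hinvne l hl).symm]
          · rw [h]
            simp [hinvν l hl, hinvne l hl, (hinvp l hl).1]
        · have h1 : l' ≠ l := fun h => hpl (by rw [h])
          have h2 : l' ≠ inv l := fun h => hpl (by rw [h, (hinvp l hl).1])
          simp [hpl, hl', h1, h2]
    simp only [key, add_mul, Finset.sum_add_distrib, ite_mul, zero_mul, Finset.sum_ite_eq',
      Finset.mem_univ, if_true, hσinv]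
    ring
  -- the test function at a row `l ≠ ν`
  have hT : ∀ l, l ≠ ν →
      ∑ χ, (m l χ : ℚ) * ((∑ l', m l' χ * σ l' : ℤ) : ℚ) ^ 2 / (f χ : ℚ) =
      1 + (e (p l) : ℚ) * ((σ ν : ℚ) + 2 * σ l) ^ 2 / (f (c (p l)) : ℚ)
        + (fs i₁ : ℚ) * (1 + (σ ν : ℚ)) ^ 2 / (f (b i₁) : ℚ) := by
    intro l hl
    have h0 := row_sum (m l) triv (c (p l)) (b i₁) (e (p l)) (fs i₁) (hrow l hl)
      (fun χ => ((∑ l', m l' χ * σ l' : ℤ) : ℚ) ^ 2 / (f χ : ℚ))
    simp only [mul_div_assoc]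
    rw [h0, hval_triv, hval_c l hl, hval_β, hftriv]
    have he2 : ((e (p l) : ℤ) : ℚ) ^ 2 = 1 := by
      rcases he (p l) with h | h <;> rw [h] <;> norm_num
    have hφ2 : ((fs i₁ : ℤ) : ℚ) ^ 2 = 1 := by
      rcases hφ1 with h | h <;> rw [h] <;> norm_num
    push_cast
    rw [mul_pow, mul_pow, he2, hφ2]
    ring
  -- the degree equation at a row `l ≠ ν`
  have hD : ∀ l, l ≠ ν → 1 + e (p l) * f (c (p l)) + fs i₁ * f (b i₁) = 0 := by
    intro l hl
    have h0 := row_sum_int (m l) triv (c (p l)) (b i₁) (e (p l)) (fs i₁) (hrow l hl) f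
    rw [hdeg l, hftriv] at h0
    linarith
  have hsame : ∀ l l', l ≠ ν → l' ≠ ν →
      e (p l) = e (p l') ∧ f (c (p l)) = f (c (p l')) := by
    intro l l' hl hl'
    have h1 := hD l hl
    have h2 := hD l' hl'
    have hp1 := hf (c (p l))
    have hp2 := hf (c (p l'))
    rcases he (p l) with ha | ha <;> rcases he (p l') with hb | hb <;> rw [ha] at h1 ⊢ <;>
      rw [hb] at h2 ⊢ <;> constructor <;> linarith
  have hσeq : ∀ l l', l ≠ ν → l' ≠ ν → σ l = σ l' := by
    intro l l' hl hl'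
    have ht := htest l l'
    rw [hT l hl, hT l' hl'] at ht
    obtain ⟨h1, h2⟩ := hsame l l' hl hl'
    rw [h1, h2] at ht
    have hF : (0 : ℚ) < (f (c (p l')) : ℚ) := by exact_mod_cast hf _
    have he' : ((e (p l') : ℤ) : ℚ) ≠ 0 := by
      rcases he (p l') with h | h <;> rw [h] <;> norm_num
    have h4 : (e (p l') : ℚ) * ((σ ν : ℚ) + 2 * σ l) ^ 2 / (f (c (p l')) : ℚ) =
        (e (p l') : ℚ) * ((σ ν : ℚ) + 2 * σ l') ^ 2 / (f (c (p l')) : ℚ) := by linarith
    rw [div_left_inj' hF.ne'] at h4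
    have h3 := mul_left_cancel₀ he' h4
    rcases hσ ν with a | a <;> rcases hσ l with b' | b' <;> rcases hσ l' with c' | c' <;>
      rw [a, b', c'] at h3 <;> first | (rw [b', c']; done) | (exfalso; norm_num at h3)
  -- counting
  have hsum : ∑ l, σ l = σ ν + ((Finset.univ.erase ν).card : ℤ) * σ i₁ := by
    rw [← Finset.add_sum_erase Finset.univ σ (Finset.mem_univ ν)]
    congr 1
    rw [Finset.sum_congr rfl (fun l hl => hσeq l i₁ (Finset.ne_of_mem_erase hl) h₁),
      Finset.sum_const, nsmul_eq_mul]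
  have h3 : 3 ≤ (Finset.univ.erase ν).card := by
    have hsub : ({i₁, inv i₁, i₂} : Finset I) ⊆ Finset.univ.erase ν := by
      intro x hx
      simp only [Finset.mem_insert, Finset.mem_singleton] at hx
      rcases hx with rfl | rfl | rfl
      · simp [h₁]
      · simp [hinvν _ h₁]
      · simp [h₂]
    have hcard : ({i₁, inv i₁, i₂} : Finset I).card = 3 := by
      rw [Finset.card_insert_of_notMem, Finset.card_insert_of_notMem, Finset.card_singleton]
      · simp [Ne.symm h12b]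
      · simp [(hinvne i₁ h₁).symm, Ne.symm h12a]
    calc 3 = ({i₁, inv i₁, i₂} : Finset I).card := hcard.symm
      _ ≤ _ := Finset.card_le_card hsub
  have h3' : (3 : ℤ) ≤ ((Finset.univ.erase ν).card : ℤ) := by exact_mod_cast h3
  rw [hsum] at hσsum
  rcases hσ ν with a | a <;> rcases hσ i₁ with b' | b' <;> rw [a, b'] at hσsum <;> linarith

end Cfsg.Agent.Lib.Helper23.BSWCLATB
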