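/-
helper23: S3282 batch 2, sub-leaf LAT-G `lat_good` of helper9's split of `lattice_main`
(notes/S3282_LAT_leaves.lean): the good case - signs, degrees and `f Y₁ = f Y₂` from the degree and
test equations.
-/
import Mathlib

set_option autoImplicit false

namespace Cfsg.Agent.Lib.Helper23.BSWCLATG

variable {B I : Type*} [Fintype B] [DecidableEq B] [Fintype I] [DecidableEq I]

omit [Fintype I] [DecidableEq I] in
/-- a row `δ_t + a δ_x + a' δ_y` against a rational function -/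
theorem row3 (r : B → ℤ) (t x y : B) (a a' : ℤ)
    (hr : ∀ χ, r χ = (if χ = t then 1 else 0) + (if χ = x then a else 0)
      + (if χ = y then a' else 0))
    (g : B → ℚ) : ∑ χ, (r χ : ℚ) * g χ = g t + a * g x + a' * g y := by
  simp only [hr]
  push_cast
  simp [add_mul, Finset.sum_add_distrib, ite_mul]

omit [Fintype I] [DecidableEq I] in
theorem row3_int (r : B → ℤ) (t x y : B) (a a' : ℤ)
    (hr : ∀ χ, r χ = (if χ = t then 1 else 0) + (if χ = x then a else 0)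
      + (if χ = y then a' else 0))
    (g : B → ℤ) : ∑ χ, r χ * g χ = g t + a * g x + a' * g y := by
  simp only [hr]
  simp [add_mul, Finset.sum_add_distrib, ite_mul]

omit [Fintype I] [DecidableEq I] in
/-- a row `δ_t + a δ_x + a' δ_y + a'' δ_z` against a rational function -/
theorem row4 (r : B → ℤ) (t x y z : B) (a a' a'' : ℤ)
    (hr : ∀ χ, r χ = (if χ = t then 1 else 0) + (if χ = x then a else 0)
      + (if χ = y then a' else 0) + (if χ = z then a'' else 0))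
    (g : B → ℚ) : ∑ χ, (r χ : ℚ) * g χ = g t + a * g x + a' * g y + a'' * g z := by
  simp only [hr]
  push_cast
  simp [add_mul, Finset.sum_add_distrib, ite_mul]

omit [Fintype I] [DecidableEq I] in
theorem row4_int (r : B → ℤ) (t x y z : B) (a a' a'' : ℤ)
    (hr : ∀ χ, r χ = (if χ = t then 1 else 0) + (if χ = x then a else 0)
      + (if χ = y then a' else 0) + (if χ = z then a'' else 0))
    (g : B → ℤ) : ∑ χ, r χ * g χ = g t + a * g x + a' * g y + a'' * g z := by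
  simp only [hr]
  simp [add_mul, Finset.sum_add_distrib, ite_mul]

/-- the final arithmetic -/
theorem final_arith (ε e₂ e₃ x y₁ y₂ : ℤ) (hε : ε = 1 ∨ ε = -1) (he₂ : e₂ = 1 ∨ e₂ = -1)
    (he₃ : e₃ = 1 ∨ e₃ = -1) (hx : 0 < x) (hy₁ : 0 < y₁) (hy₂ : 0 < y₂) (hs : 0 < x + ε)
    (hD : 1 + ε * x + e₂ * y₁ + e₃ * y₂ = 0)
    (hq : -4 * ε * (y₁ * y₂) = (e₂ * y₂ + y₁ * e₃) * (x + ε)) :
    e₂ = -ε ∧ e₃ = -ε ∧ y₁ = y₂ ∧ 2 * y₁ = x + ε := by
  have hyy : 0 < y₁ * y₂ := mul_pos hy₁ hy₂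
  rcases hε with rfl | rfl <;> rcases he₂ with rfl | rfl <;> rcases he₃ with rfl | rfl
  · exfalso; linarith
  · exfalso
    have h1 : x + 1 = y₂ - y₁ := by linarith
    rw [h1] at hq
    nlinarith [mul_self_nonneg (y₂ - y₁)]
  · exfalso
    have h1 : x + 1 = y₁ - y₂ := by linarith
    rw [h1] at hq
    nlinarith [mul_self_nonneg (y₁ - y₂)]
  · have h1 : x + 1 = y₁ + y₂ := by linarith
    rw [h1] at hq
    have h0 : (y₁ - y₂) ^ 2 = 0 := by nlinarith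
    have h2 : y₁ = y₂ := sub_eq_zero.mp (pow_eq_zero_iff two_ne_zero |>.mp h0)
    refine ⟨rfl, rfl, h2, ?_⟩
    linarith
  · have h1 : x + -1 = y₁ + y₂ := by linarith
    rw [h1] at hq
    have h0 : (y₁ - y₂) ^ 2 = 0 := by nlinarith
    have h2 : y₁ = y₂ := sub_eq_zero.mp (pow_eq_zero_iff two_ne_zero |>.mp h0)
    refine ⟨by norm_num, by norm_num, h2, ?_⟩
    linarith
  · exfalso
    have h1 : x + -1 = y₁ - y₂ := by linarith
    rw [h1] at hq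
    nlinarith [mul_self_nonneg (y₁ - y₂)]
  · exfalso
    have h1 : x + -1 = y₂ - y₁ := by linarith
    rw [h1] at hq
    nlinarith [mul_self_nonneg (y₂ - y₁)]
  · exfalso; linarith

/-- **LAT-G** (the good case: all `m i`, `i ≠ ν`, and `m ν` share the signed constituent `ε X`). -/
theorem lat_good (inv : I → I) (hinv : ∀ i, inv (inv i) = i) (ν : I) (hν : ∀ i, inv i = i ↔ i = ν)
    (hI : ∃ i, i ≠ ν) (m : I → B → ℤ) (triv : B)
    (f : B → ℤ) (hf : ∀ χ, 0 < f χ) (hftriv : f triv = 1) (hdeg : ∀ i, ∑ χ, m i χ * f χ = 0)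
    (σ : I → ℤ) (hσ : ∀ i, σ i = 1 ∨ σ i = -1) (hσinv : ∀ i, σ (inv i) = σ i)
    (hσsum : ∑ i, σ i = -1)
    (htest : ∀ i j, ∑ χ, (m i χ : ℚ) * ((∑ l, m l χ * σ l : ℤ) : ℚ) ^ 2 / (f χ : ℚ) =
      ∑ χ, (m j χ : ℚ) * ((∑ l, m l χ * σ l : ℤ) : ℚ) ^ 2 / (f χ : ℚ))
    (ε e₂ e₃ : ℤ) (hε : ε = 1 ∨ ε = -1) (he₂ : e₂ = 1 ∨ e₂ = -1) (he₃ : e₃ = 1 ∨ e₃ = -1)
    (X Y₁ Y₂ : B) (hX : X ≠ triv) (hY₁ : Y₁ ≠ triv) (hY₂ : Y₂ ≠ triv) (hY₁X : Y₁ ≠ X)
    (hY₂X : Y₂ ≠ X) (hY : Y₁ ≠ Y₂)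
    (hmν : ∀ χ, m ν χ = (if χ = triv then 1 else 0) + (if χ = X then ε else 0)
        + (if χ = Y₁ then e₂ else 0) + (if χ = Y₂ then e₃ else 0))
    (b : I → B) (fs : I → ℤ)
    (hb : ∀ i, i ≠ ν → (fs i = 1 ∨ fs i = -1) ∧ b i ≠ triv ∧ b i ≠ X ∧ b i ≠ Y₁ ∧ b i ≠ Y₂ ∧
        ∀ χ, m i χ = (if χ = triv then 1 else 0) + (if χ = X then ε else 0)
          + (if χ = b i then fs i else 0))
    (hbb : ∀ i j, i ≠ ν → j ≠ ν → (b i = b j ↔ j = i ∨ j = inv i)) :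
    ∃ (ε : ℤ) (X : B) (L : I → B) (Y₁ Y₂ : B), (ε = 1 ∨ ε = -1) ∧
      (∀ i, i ≠ ν → ∀ χ, m i χ = (if χ = triv then 1 else 0) + (if χ = X then ε else 0)
        - (if χ = L i then ε else 0)) ∧
      (∀ χ, m ν χ = (if χ = triv then 1 else 0) + (if χ = X then ε else 0)
        - (if χ = Y₁ then ε else 0) - (if χ = Y₂ then ε else 0)) ∧
      X ≠ triv ∧ Y₁ ≠ Y₂ ∧ Y₁ ≠ triv ∧ Y₂ ≠ triv ∧ Y₁ ≠ X ∧ Y₂ ≠ X ∧
      (∀ i, i ≠ ν → L i ≠ triv ∧ L i ≠ X ∧ L i ≠ Y₁ ∧ L i ≠ Y₂) ∧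
      (∀ i j, i ≠ ν → j ≠ ν → (L i = L j ↔ j = i ∨ j = inv i)) ∧
      (∀ i, i ≠ ν → f (L i) = f X + ε) ∧ f Y₁ = f Y₂ ∧ 2 * f Y₁ = f X + ε := by
  classical
  obtain ⟨i₀, hi₀⟩ := hI
  have hνν : inv ν = ν := (hν ν).mpr rfl
  have hinvν : ∀ l, l ≠ ν → inv l ≠ ν := by
    intro l hl h
    apply hl
    have h' := hinv l
    rw [h, hνν] at h'
    exact h'.symm
  have hinvne : ∀ l, l ≠ ν → inv l ≠ l := fun l hl h => hl ((hν l).mp h)
  -- degree equation for the rows `i ≠ ν`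
  have hDi : ∀ i, i ≠ ν → 1 + ε * f X + fs i * f (b i) = 0 := by
    intro i hi
    have h0 := row3_int (m i) triv X (b i) ε (fs i) (hb i hi).2.2.2.2.2 f
    rw [hdeg i, hftriv] at h0
    linarith
  have hfs : ∀ i, i ≠ ν → fs i = -ε ∧ f (b i) = f X + ε := by
    intro i hi
    have h1 := hDi i hi
    have hx := hf X
    have hbi := hf (b i)
    rcases hε with h | h <;> rcases (hb i hi).1 with h' | h' <;> rw [h] at h1 ⊢ <;>
      rw [h'] at h1 ⊢ <;> constructor <;> linarith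
  -- columns
  have hcol_triv : ∀ l, m l triv = 1 := by
    intro l
    by_cases hl : l = ν
    · rw [hl, hmν]
      simp [hX.symm, hY₁.symm, hY₂.symm]
    · rw [(hb l hl).2.2.2.2.2]
      simp [hX.symm, (hb l hl).2.1.symm]
  have hcol_X : ∀ l, m l X = ε := by
    intro l
    by_cases hl : l = ν
    · rw [hl, hmν]
      simp [hX, hY₁X.symm, hY₂X.symm]
    · rw [(hb l hl).2.2.2.2.2]
      simp [hX, (hb l hl).2.2.1.symm]
  have hcol_b_ν : ∀ i, i ≠ ν → m ν (b i) = 0 := by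
    intro i hi
    rw [hmν]
    obtain ⟨-, h1, h2, h3, h4, -⟩ := hb i hi
    simp [h1, h2, h3, h4]
  have hcol_b : ∀ i, i ≠ ν → ∀ l, m l (b i) =
      (if l = i then -ε else 0) + (if l = inv i then -ε else 0) := by
    intro i hi l
    obtain ⟨-, g1, g2, -, -, -⟩ := hb i hi
    by_cases hl : l = ν
    · rw [hl, hcol_b_ν i hi]
      simp [Ne.symm hi, (hinvν i hi).symm]
    · by_cases hbl : b i = b l
      · rw [(hb l hl).2.2.2.2.2, (hfs l hl).1, ← hbl]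
        rcases (hbb i l hi hl).mp hbl with h | h
        · rw [h]
          simp [g1, g2, (hinvne i hi).symm]
        · rw [h]
          simp [g1, g2, hinvne i hi]
      · have h1 : l ≠ i := fun h => hbl (by rw [h])
        have h2 : l ≠ inv i := fun h => hbl ((hbb i l hi hl).mpr (Or.inr h))
        rw [(hb l hl).2.2.2.2.2]
        simp [g1, g2, hbl, h1, h2]
  have hcol_Y₁ : ∀ l, m l Y₁ = if l = ν then e₂ else 0 := by
    intro l
    by_cases hl : l = ν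
    · rw [hl, hmν]
      simp [hY₁, hY₁X, hY]
    · rw [(hb l hl).2.2.2.2.2]
      simp [hl, hY₁, hY₁X, (hb l hl).2.2.2.1.symm]
  have hcol_Y₂ : ∀ l, m l Y₂ = if l = ν then e₃ else 0 := by
    intro l
    by_cases hl : l = ν
    · rw [hl, hmν]
      simp [hY₂, hY₂X, hY.symm]
    · rw [(hb l hl).2.2.2.2.2]
      simp [hl, hY₂, hY₂X, (hb l hl).2.2.2.2.1.symm]
  -- values
  have hval_triv : (∑ l, m l triv * σ l) = -1 := by
    simp only [hcol_triv, one_mul]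
    exact hσsum
  have hval_X : (∑ l, m l X * σ l) = -ε := by
    simp only [hcol_X, ← Finset.mul_sum, hσsum]
    ring
  have hval_b : ∀ i, i ≠ ν → (∑ l, m l (b i) * σ l) = -2 * ε * σ i := by
    intro i hi
    simp only [hcol_b i hi, add_mul, Finset.sum_add_distrib, ite_mul, zero_mul,
      Finset.sum_ite_eq', Finset.mem_univ, if_true, hσinv]
    ring
  have hval_Y₁ : (∑ l, m l Y₁ * σ l) = e₂ * σ ν := by
    simp only [hcol_Y₁, ite_mul, zero_mul, Finset.sum_ite_eq', Finset.mem_univ, if_true]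
  have hval_Y₂ : (∑ l, m l Y₂ * σ l) = e₃ * σ ν := by
    simp only [hcol_Y₂, ite_mul, zero_mul, Finset.sum_ite_eq', Finset.mem_univ, if_true]
  have hε2 : ((ε : ℤ) : ℚ) ^ 2 = 1 := by
    rcases hε with h | h <;> rw [h] <;> norm_num
  have hσ2 : ∀ i, ((σ i : ℤ) : ℚ) ^ 2 = 1 := by
    intro i
    rcases hσ i with h | h <;> rw [h] <;> norm_num
  have he₂2 : ((e₂ : ℤ) : ℚ) ^ 2 = 1 := by
    rcases he₂ with h | h <;> rw [h] <;> norm_num
  have he₃2 : ((e₃ : ℤ) : ℚ) ^ 2 = 1 := by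
    rcases he₃ with h | h <;> rw [h] <;> norm_num
  -- the test function at `i₀` and at `ν`
  have hT0 : ∑ χ, (m i₀ χ : ℚ) * ((∑ l, m l χ * σ l : ℤ) : ℚ) ^ 2 / (f χ : ℚ) =
      1 + (ε : ℚ) / (f X : ℚ) + (-4 * (ε : ℚ)) / ((f X : ℚ) + ε) := by
    have h0 := row3 (m i₀) triv X (b i₀) ε (fs i₀) (hb i₀ hi₀).2.2.2.2.2
      (fun χ => ((∑ l, m l χ * σ l : ℤ) : ℚ) ^ 2 / (f χ : ℚ))
    simp only [mul_div_assoc]
    rw [h0, hval_triv, hval_X, hval_b i₀ hi₀, hftriv, (hfs i₀ hi₀).1, (hfs i₀ hi₀).2]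
    have hA : (((-1 : ℤ)) : ℚ) ^ 2 = 1 := by norm_num
    have hB : ((-ε : ℤ) : ℚ) ^ 2 = 1 := by
      push_cast
      rw [neg_sq]
      exact hε2
    have hC : ((-2 * ε * σ i₀ : ℤ) : ℚ) ^ 2 = 4 := by
      push_cast
      rw [mul_pow, mul_pow, hε2, hσ2]
      norm_num
    rw [hA, hB, hC]
    push_cast
    ring
  have hTν : ∑ χ, (m ν χ : ℚ) * ((∑ l, m l χ * σ l : ℤ) : ℚ) ^ 2 / (f χ : ℚ) =
      1 + (ε : ℚ) / (f X : ℚ) + ((e₂ : ℚ) / (f Y₁ : ℚ) + (e₃ : ℚ) / (f Y₂ : ℚ)) := by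
    have h0 := row4 (m ν) triv X Y₁ Y₂ ε e₂ e₃ hmν
      (fun χ => ((∑ l, m l χ * σ l : ℤ) : ℚ) ^ 2 / (f χ : ℚ))
    simp only [mul_div_assoc]
    rw [h0, hval_triv, hval_X, hval_Y₁, hval_Y₂, hftriv]
    have hA : (((-1 : ℤ)) : ℚ) ^ 2 = 1 := by norm_num
    have hB : ((-ε : ℤ) : ℚ) ^ 2 = 1 := by
      push_cast
      rw [neg_sq]
      exact hε2
    have hC : ((e₂ * σ ν : ℤ) : ℚ) ^ 2 = 1 := by
      push_cast
      rw [mul_pow, he₂2, hσ2]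
      norm_num
    have hC' : ((e₃ * σ ν : ℤ) : ℚ) ^ 2 = 1 := by
      push_cast
      rw [mul_pow, he₃2, hσ2]
      norm_num
    rw [hA, hB, hC, hC']
    push_cast
    ring
  have ht := htest i₀ ν
  rw [hT0, hTν] at ht
  have ht' : (-4 * (ε : ℚ)) / ((f X : ℚ) + ε) = (e₂ : ℚ) / (f Y₁ : ℚ) + (e₃ : ℚ) / (f Y₂ : ℚ) :=
    add_left_cancel ht
  have hs : 0 < f X + ε := by
    rw [← (hfs i₀ hi₀).2]
    exact hf _
  have hsQ : ((f X : ℚ) + ε) ≠ 0 := by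
    have : (0 : ℚ) < ((f X + ε : ℤ) : ℚ) := by exact_mod_cast hs
    push_cast at this
    exact this.ne'
  have hy1Q : (f Y₁ : ℚ) ≠ 0 := by
    have : (0 : ℚ) < (f Y₁ : ℚ) := by exact_mod_cast hf Y₁
    exact this.ne'
  have hy2Q : (f Y₂ : ℚ) ≠ 0 := by
    have : (0 : ℚ) < (f Y₂ : ℚ) := by exact_mod_cast hf Y₂
    exact this.ne'
  rw [div_add_div _ _ hy1Q hy2Q, div_eq_div_iff hsQ (mul_ne_zero hy1Q hy2Q)] at ht'
  have hq : -4 * ε * (f Y₁ * f Y₂) = (e₂ * f Y₂ + f Y₁ * e₃) * (f X + ε) := by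
    exact_mod_cast ht'
  have hDν : 1 + ε * f X + e₂ * f Y₁ + e₃ * f Y₂ = 0 := by
    have h0 := row4_int (m ν) triv X Y₁ Y₂ ε e₂ e₃ hmν f
    rw [hdeg ν, hftriv] at h0
    linarith
  obtain ⟨hE₂, hE₃, hyy, h2y⟩ :=
    final_arith ε e₂ e₃ (f X) (f Y₁) (f Y₂) hε he₂ he₃ (hf X) (hf Y₁) (hf Y₂) hs hDν hq
  refine ⟨ε, X, b, Y₁, Y₂, hε, ?_, ?_, hX, hY, hY₁, hY₂, hY₁X, hY₂X, ?_, hbb, ?_, hyy, h2y⟩
  · intro i hi χ
    rw [(hb i hi).2.2.2.2.2 χ, (hfs i hi).1]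
    split_ifs <;> ring
  · intro χ
    rw [hmν χ, hE₂, hE₃]
    split_ifs <;> ring
  · intro i hi
    obtain ⟨-, h1, h2, h3, h4, -⟩ := hb i hi
    exact ⟨h1, h2, h3, h4⟩
  · intro i hi
    exact (hfs i hi).2

end Cfsg.Agent.Lib.Helper23.BSWCLATG
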