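import Mathlib
import Cfsg.Prelude.Def_ClassicalGeometry
import Cfsg.Prelude.Def_GeometricClasses
import Cfsg.Agent.Lib.Helper5.SpMax
import Cfsg.Agent.Lib.Helper22.C3Defs
import Cfsg.Agent.Lib.Helper22.C3Tool

/-!
S5665 leaves C3E1, C3E2, C3E3 (helper23, for helper22): existence lemmas.
-/

set_option autoImplicit false

namespace Cfsg.Agent.Lib.Helper23.C3Leaf
open Cfsg Matrix Cfsg.Agent.Lib.Helper5 Cfsg.Agent.Lib.Helper5.SpMax Cfsg.Agent.Lib.Helper22.C3
  Cfsg.Agent.Lib.Helper22.C3Leaf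

variable {F : Type*} [Field F] {m : ℕ}

local notation "𝕍" => (Fin m ⊕ Fin m → F)
local notation "𝕄" => Matrix (Fin m ⊕ Fin m) (Fin m ⊕ Fin m) F

/-- `f(u, J u') = f(u', J u)` -/
lemma form_J_symm (S : CS m F) (u u' : 𝕍) :
    sympForm m F u (S.J *ᵥ u') = sympForm m F u' (S.J *ᵥ u) := by
  rw [sympForm_swap m u' (S.J *ᵥ u), S.skew, neg_neg]

/-- polarisation of `N` -/
lemma N_add (S : CS m F) (u u' : 𝕍) :
    S.N (u + u') = S.N u + S.N u' + 2 * sympForm m F u (S.J *ᵥ u') := by
  unfold CS.N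
  rw [Matrix.mulVec_add, sympForm_add_left, sympForm_add_right, sympForm_add_right,
    form_J_symm S u' u]
  ring

lemma Bform_nondegenerate : (Bform m F).Nondegenerate := by
  constructor
  · intro x hx
    by_contra hx0
    obtain ⟨a, ha⟩ := sympForm_nondeg x hx0
    exact ha (hx a)
  · intro y hy
    by_contra hy0
    obtain ⟨a, ha⟩ := sympForm_nondeg y hy0
    apply ha
    rw [sympForm_swap]
    have := hy a
    rw [Bform_apply] at this
    rw [this, neg_zero]

lemma finrank_V : Module.finrank F 𝕍 = 2 * m := by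
  rw [Module.finrank_fintype_fun_eq_card, Fintype.card_sum, Fintype.card_fin]
  ring

lemma J_injective (S : CS m F) : Function.Injective (Matrix.toLin' S.J) := by
  rw [← LinearMap.ker_eq_bot, LinearMap.ker_eq_bot']
  intro u hu
  rw [Matrix.toLin'_apply] at hu
  have h1 := S.JJ u
  rw [hu, Matrix.mulVec_zero] at h1
  exact (smul_eq_zero.mp h1.symm).resolve_left S.δ_ne_zero

/-- E1. There is a non-singular vector orthogonal to any subspace `W` of dimension at most 6. -/
theorem exists_nonsing_perp (S : CS m F) (hm : 7 ≤ m) (h2 : (2 : F) ≠ 0)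
    (W : Submodule F 𝕍) (hW : Module.finrank F W ≤ 6) :
    ∃ v : 𝕍, S.N v ≠ 0 ∧ ∀ w ∈ W, sympForm m F v w = 0 := by
  set B : LinearMap.BilinForm F 𝕍 := Bform m F with hB
  set X := LinearMap.BilinForm.orthogonal B W with hX
  have hXfr : Module.finrank F X = 2 * m - Module.finrank F W := by
    rw [hX, LinearMap.BilinForm.finrank_orthogonal Bform_nondegenerate, finrank_V]
  by_contra hcon
  push Not at hcon
  -- `N` vanishes on `X`
  have hN : ∀ v ∈ X, S.N v = 0 := by
    intro v hv
    by_contra hv0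
    obtain ⟨w, hw, hvw⟩ := hcon v hv0
    apply hvw
    have := hv w hw
    rw [sympForm_swap]
    change sympForm m F w v = 0 at this
    rw [this, neg_zero]
  -- polarise
  have hpol : ∀ u ∈ X, ∀ u' ∈ X, sympForm m F u (S.J *ᵥ u') = 0 := by
    intro u hu u' hu'
    have h := N_add S u u'
    rw [hN u hu, hN u' hu', hN (u + u') (X.add_mem hu hu'), zero_add, zero_add] at h
    exact (mul_eq_zero.mp h.symm).resolve_left h2
  -- `J X ≤ X^⊥`
  have hle : X.map (Matrix.toLin' S.J) ≤ LinearMap.BilinForm.orthogonal B X := by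
    rintro _ ⟨u', hu', rfl⟩
    intro u hu
    rw [Matrix.toLin'_apply]
    exact hpol u hu u' hu'
  have h1 := Submodule.finrank_mono hle
  rw [LinearMap.BilinForm.finrank_orthogonal Bform_nondegenerate, finrank_V,
    ← (Submodule.equivMapOfInjective (Matrix.toLin' S.J) (J_injective S) X).finrank_eq] at h1
  omega

/-- E2a. The norm form `s² - δ t²` represents every element of a finite field. -/
theorem exists_norm [Fintype F] (S : CS m F) (n : F) : ∃ s t : F, s * s - S.δ * (t * t) = n := by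
  classical
  by_cases hchar : ringChar F = 2
  · exfalso
    obtain ⟨c, hc⟩ := FiniteField.isSquare_of_char_two hchar S.δ
    exact S.nsq c hc.symm
  · have hodd := FiniteField.odd_card_of_char_ne_two hchar
    have hδ := S.δ_ne_zero
    have hf2 : (Polynomial.X ^ 2 : Polynomial F).degree = 2 := Polynomial.degree_X_pow 2
    have hg2 : (Polynomial.C (-S.δ) * Polynomial.X ^ 2 - Polynomial.C n : Polynomial F).degree = 2 := by
      rw [Polynomial.degree_sub_C (by rw [Polynomial.degree_C_mul_X_pow 2 (neg_ne_zero.mpr hδ)]; norm_num),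
        Polynomial.degree_C_mul_X_pow 2 (neg_ne_zero.mpr hδ)]
      rfl
    obtain ⟨a, b, hab⟩ := FiniteField.exists_root_sum_quadratic hf2 hg2 hodd
    refine ⟨a, b, ?_⟩
    simp only [Polynomial.eval_pow, Polynomial.eval_X, Polynomial.eval_sub, Polynomial.eval_mul,
      Polynomial.eval_C] at hab
    linear_combination hab

/-- E2b. An explicit norm-one element outside `F`. -/
theorem exists_norm_one (S : CS m F) (h2 : (2 : F) ≠ 0) :
    ∃ c d : F, c * c - S.δ * (d * d) = 1 ∧ d ≠ 0 := by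
  have h1 : (1 : F) - S.δ ≠ 0 := by
    intro h
    apply S.nsq 1
    rw [mul_one]
    linear_combination h
  refine ⟨(1 + S.δ) / (1 - S.δ), 2 / (1 - S.δ), ?_, div_ne_zero h2 h1⟩
  field_simp
  ring

/-- E3. -/
theorem exists_sing (S : CS m F) [Fintype F] (hm : 7 ≤ m) (h2 : (2 : F) ≠ 0) (x w : 𝕍) (hx : S.N x ≠ 0)
    (hw : w ≠ 0) (hwx : sympForm m F w x = 0) (hwJx : sympForm m F w (S.J *ᵥ x) = 0) :
    ∃ a : 𝕍, S.N a = 0 ∧ sympForm m F a x = 0 ∧ sympForm m F a (S.J *ᵥ x) = 0 ∧ sympForm m F w a ≠ 0 := by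
  -- a vector `u ⊥ x, J x` with `f(w, u) ≠ 0`
  obtain ⟨u₀, hu₀⟩ := sympForm_nondeg w hw
  set α := sympForm m F u₀ (S.J *ᵥ x) / S.N x with hα
  set β := -(sympForm m F u₀ x) / S.N x with hβ
  set u := u₀ - α • x - β • (S.J *ᵥ x) with hu
  have hux : sympForm m F u x = 0 := by
    rw [hu, sympForm_sub_left, sympForm_sub_left, sympForm_smul_left, sympForm_smul_left,
      sympForm_self, S.form_J_self, hβ]
    field_simp
    ring
  have huJx : sympForm m F u (S.J *ᵥ x) = 0 := by
    rw [hu, sympForm_sub_left, sympForm_sub_left, sympForm_smul_left, sympForm_smul_left,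
      S.form_JJ, sympForm_self, hα]
    have : sympForm m F x (S.J *ᵥ x) = S.N x := rfl
    rw [this]
    field_simp
    ring
  have hwu : sympForm m F w u ≠ 0 := by
    rw [hu, sympForm_sub_right, sympForm_sub_right, sympForm_smul_right, sympForm_smul_right, hwx,
      hwJx, mul_zero, mul_zero, sub_zero, sub_zero]
    exact hu₀
  by_cases hNu : S.N u = 0
  · exact ⟨u, hNu, hux, huJx, hwu⟩
  -- a non-singular `u'` orthogonal to `x, Jx, u, Ju, w, Jw`
  set W : Submodule F 𝕍 :=
    Submodule.span F (Set.range ![x, S.J *ᵥ x, u, S.J *ᵥ u, w, S.J *ᵥ w]) with hWdef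
  have hWfr : Module.finrank F W ≤ 6 := by
    have := finrank_range_le_card (R := F) ![x, S.J *ᵥ x, u, S.J *ᵥ u, w, S.J *ᵥ w]
    rw [Fintype.card_fin] at this
    exact this
  obtain ⟨u', hNu', hperp⟩ := exists_nonsing_perp S hm h2 W hWfr
  have hmem : ∀ i : Fin 6, ![x, S.J *ᵥ x, u, S.J *ᵥ u, w, S.J *ᵥ w] i ∈ W := fun i =>
    Submodule.subset_span (Set.mem_range_self i)
  have p0 : sympForm m F u' x = 0 := hperp _ (hmem 0)
  have p1 : sympForm m F u' (S.J *ᵥ x) = 0 := hperp _ (hmem 1)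
  have p2 : sympForm m F u' u = 0 := hperp _ (hmem 2)
  have p3 : sympForm m F u' (S.J *ᵥ u) = 0 := hperp _ (hmem 3)
  have p4 : sympForm m F u' w = 0 := hperp _ (hmem 4)
  have p5 : sympForm m F u' (S.J *ᵥ w) = 0 := hperp _ (hmem 5)
  -- rescale by `K`
  obtain ⟨s, t, hst⟩ := exists_norm S (-(S.N u) / S.N u')
  set u'' := S.act s t u' with hu''
  have hNu'' : S.N u'' = -(S.N u) := by
    rw [hu'', N_act, hst]
    field_simp
  have hJu'' : S.J *ᵥ u'' = s • (S.J *ᵥ u') + (t * S.δ) • u' := by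
    rw [hu'']
    unfold CS.act
    rw [Matrix.mulVec_add, Matrix.mulVec_smul, Matrix.mulVec_smul, S.JJ, smul_smul]
  have q2 : sympForm m F u u' = 0 := by rw [sympForm_swap, p2, neg_zero]
  have q3 : sympForm m F u (S.J *ᵥ u') = 0 := by rw [form_J_symm, p3]
  refine ⟨u + u'', ?_, ?_, ?_, ?_⟩
  · rw [N_add, hNu'', hJu'', sympForm_add_right, sympForm_smul_right, sympForm_smul_right, q2, q3]
    ring
  · rw [sympForm_add_left, hux, hu'']
    unfold CS.act
    rw [sympForm_add_left, sympForm_smul_left, sympForm_smul_left, p0, S.skew, p1]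
    ring
  · rw [sympForm_add_left, huJx, hu'']
    unfold CS.act
    rw [sympForm_add_left, sympForm_smul_left, sympForm_smul_left, p1, S.form_JJ, p0]
    ring
  · rw [sympForm_add_right, hu'']
    unfold CS.act
    rw [sympForm_add_right, sympForm_smul_right, sympForm_smul_right, form_J_symm S w u', p5,
      sympForm_swap m w u', p4]
    simpa using hwu

end Cfsg.Agent.Lib.Helper23.C3Leaf
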