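import Mathlib

/-!
S5666 (helper2's plan, (GT)): the `p`-group fixed point lemma.  Pure group theory; generalises
`Cfsg.Agent.Lib.Helper23.UDenseLeaf.exists_mem_closure_coset` from elements of prime order to `p`-subgroups.

`G` finite, `H ≤ G`, `P ≤ H` a `p`-group whose only fixed coset on `G ⧸ H` is `H`, `P'` a `p`-group whose only possible
fixed coset is `gH`: then `gH` lies in the `P ⊔ P'`-orbit of `H`, i.e. `g⁻¹ * x0 ∈ H` for some `x0 ∈ P ⊔ P'`.
-/

set_option autoImplicit false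

namespace Cfsg.Agent.Lib.Helper23.SOTLeaf

/-- fixed cosets of `Q.subgroupOf D` on `D ⧸ H.subgroupOf D` (for `Q ≤ D`) -/
theorem mem_fixedPoints_subgroupOf_iff {G : Type*} [Group G] (H D Q : Subgroup G) (hQD : Q ≤ D) (x : D) :
    ((x : D ⧸ H.subgroupOf D) ∈ MulAction.fixedPoints (Q.subgroupOf D) (D ⧸ H.subgroupOf D)) ↔
      ∀ t ∈ Q, (x : G)⁻¹ * t * (x : G) ∈ H := by
  rw [MulAction.mem_fixedPoints]
  constructor
  · intro h t ht
    have h' : (((⟨t, hQD ht⟩ : D) * x : D) : D ⧸ H.subgroupOf D) = (x : D ⧸ H.subgroupOf D) :=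
      h ⟨⟨t, hQD ht⟩, by rw [Subgroup.mem_subgroupOf]; exact ht⟩
    rw [QuotientGroup.eq, Subgroup.mem_subgroupOf] at h'
    have h3 : (((((⟨t, hQD ht⟩ : D) * x)⁻¹ * x : D)) : G) = ((x : G)⁻¹ * t * (x : G))⁻¹ := by
      push_cast; group
    rw [h3] at h'
    exact (Subgroup.inv_mem_iff H).mp h'
  · intro h y
    obtain ⟨y, hy⟩ := y
    rw [Subgroup.mem_subgroupOf] at hy
    change ((y * x : D) : D ⧸ H.subgroupOf D) = (x : D ⧸ H.subgroupOf D)
    rw [QuotientGroup.eq, Subgroup.mem_subgroupOf]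
    have h3 : (((y * x)⁻¹ * x : D) : G) = ((x : G)⁻¹ * (y : G) * (x : G))⁻¹ := by
      push_cast; group
    rw [h3]
    exact H.inv_mem (h _ hy)

/-- (GT) the `p`-group fixed point lemma -/
theorem exists_mem_sup_coset {G : Type*} [Group G] [Finite G] (H P P' : Subgroup G) (g : G) (p : ℕ)
    [Fact p.Prime] (hPH : P ≤ H) (hP : IsPGroup p P) (hP' : IsPGroup p P')
    (h1 : ∀ m : G, (∀ t ∈ P, m⁻¹ * t * m ∈ H) → m ∈ H)
    (h2 : ∀ m : G, (∀ t ∈ P', m⁻¹ * t * m ∈ H) → g⁻¹ * m ∈ H) :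
    ∃ x0 ∈ P ⊔ P', g⁻¹ * x0 ∈ H := by
  classical
  have hp : p.Prime := Fact.out
  set D : Subgroup G := P ⊔ P' with hD
  have hPD : P ≤ D := le_sup_left
  have hPD' : P' ≤ D := le_sup_right
  set H₀ : Subgroup D := H.subgroupOf D with hH₀
  have hP₀ : IsPGroup p (P.subgroupOf D) := hP.comap_subtype
  have hP₀' : IsPGroup p (P'.subgroupOf D) := hP'.comap_subtype
  have hfix : ∀ a : D ⧸ H₀, a ∈ MulAction.fixedPoints (P.subgroupOf D) (D ⧸ H₀) ↔
      a = ((1 : D) : D ⧸ H₀) := by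
    intro a
    induction a using QuotientGroup.induction_on with
    | H x =>
      rw [mem_fixedPoints_subgroupOf_iff H D P hPD x]
      constructor
      · intro h
        have hx : (x : G) ∈ H := h1 _ h
        symm
        rw [QuotientGroup.eq, hH₀, Subgroup.mem_subgroupOf]
        simpa using hx
      · intro h t ht
        have h' := h.symm
        rw [QuotientGroup.eq, hH₀, Subgroup.mem_subgroupOf] at h'
        have hx : (x : G) ∈ H := by simpa using h'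
        exact H.mul_mem (H.mul_mem (H.inv_mem hx) (hPH ht)) hx
  have hcard1 : Nat.card (MulAction.fixedPoints (P.subgroupOf D) (D ⧸ H₀)) = 1 := by
    rw [Nat.card_eq_one_iff_unique]
    refine ⟨⟨?_⟩, ⟨⟨((1 : D) : D ⧸ H₀), (hfix _).mpr rfl⟩⟩⟩
    intro a b
    apply Subtype.ext
    rw [(hfix a.1).mp a.2, (hfix b.1).mp b.2]
  have hmod : Nat.card (D ⧸ H₀) ≡ 1 [MOD p] := by
    have := hP₀.card_modEq_card_fixedPoints (D ⧸ H₀)
    rwa [hcard1] at this
  have hndvd : ¬ p ∣ Nat.card (D ⧸ H₀) := by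
    intro hd
    have h0 : Nat.card (D ⧸ H₀) ≡ 0 [MOD p] := (Nat.modEq_zero_iff_dvd).mpr hd
    have h10 : 1 ≡ 0 [MOD p] := hmod.symm.trans h0
    have : p ∣ 1 := (Nat.modEq_zero_iff_dvd).mp h10
    exact hp.one_lt.ne' (Nat.dvd_one.mp this)
  obtain ⟨a, ha⟩ := hP₀'.nonempty_fixed_point_of_prime_not_dvd_card (D ⧸ H₀) hndvd
  induction a using QuotientGroup.induction_on with
  | H x =>
    rw [mem_fixedPoints_subgroupOf_iff H D P' hPD' x] at ha
    exact ⟨(x : G), x.2, h2 _ ha⟩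

/-- (GT) with the primality as an explicit hypothesis -/
theorem exists_mem_sup_coset' {G : Type*} [Group G] [Finite G] (H P P' : Subgroup G) (g : G) (p : ℕ)
    (hp : p.Prime) (hPH : P ≤ H) (hP : IsPGroup p P) (hP' : IsPGroup p P')
    (h1 : ∀ m : G, (∀ t ∈ P, m⁻¹ * t * m ∈ H) → m ∈ H)
    (h2 : ∀ m : G, (∀ t ∈ P', m⁻¹ * t * m ∈ H) → g⁻¹ * m ∈ H) :
    ∃ x0 ∈ P ⊔ P', g⁻¹ * x0 ∈ H :=
  haveI : Fact p.Prime := ⟨hp⟩
  exists_mem_sup_coset H P P' g p hPH hP hP' h1 h2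

end Cfsg.Agent.Lib.Helper23.SOTLeaf
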