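import Mathlib
import Cfsg.Agent.Lib.Helper23.SOTGT

/-!
S5666 part (GA) (helper2's market), leaf GT in the `M`-RELATIVE form of notes/S5666_GA_leaves.lean:
`h1`, `h2` are only assumed for `m ∈ M`, where `P, P' ≤ M`.  Same orbit argument inside `P ⊔ P' ≤ M`.
-/

set_option autoImplicit false
set_option linter.unusedSectionVars false
set_option linter.unusedVariables false

namespace Cfsg.Agent.Lib.Helper23.SOTLeafM

open Cfsg.Agent.Lib.Helper23.SOTLeaf

/-- (GT), `M`-relative form -/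
theorem exists_mem_sup_coset {Γ : Type*} [Group Γ] [Finite Γ] (p : ℕ) [Fact p.Prime]
    (M H P P' : Subgroup Γ) (g : Γ) (hg : g ∈ M) (hPM : P ≤ M) (hP'M : P' ≤ M)
    (hP : IsPGroup p P) (hP' : IsPGroup p P') (hPH : P ≤ H)
    (h1 : ∀ m ∈ M, (∀ t ∈ P, m⁻¹ * t * m ∈ H) → m ∈ H)
    (h2 : ∀ m ∈ M, (∀ t ∈ P', m⁻¹ * t * m ∈ H) → g⁻¹ * m ∈ H) :
    ∃ x₀ ∈ P ⊔ P', g⁻¹ * x₀ ∈ H := by
  classical
  have hp : p.Prime := Fact.out
  set D : Subgroup Γ := P ⊔ P' with hD
  have hPD : P ≤ D := le_sup_left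
  have hPD' : P' ≤ D := le_sup_right
  have hDM : D ≤ M := sup_le hPM hP'M
  set H₀ : Subgroup D := H.subgroupOf D with hH₀
  have hP₀ : IsPGroup p (P.subgroupOf D) := hP.comap_subtype
  have hP₀' : IsPGroup p (P'.subgroupOf D) := hP'.comap_subtype
  have hfix : ∀ a : D ⧸ H₀, a ∈ MulAction.fixedPoints (P.subgroupOf D) (D ⧸ H₀) ↔
      a = ((1 : D) : D ⧸ H₀) := by
    intro a
    induction a using QuotientGroup.induction_on with
    | H x =>
      rw [mem_fixedPoints_subgroupOf_iff H D P hPD x]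
      constructor
      · intro h
        have hx : (x : Γ) ∈ H := h1 _ (hDM x.2) h
        symm
        rw [QuotientGroup.eq, hH₀, Subgroup.mem_subgroupOf]
        simpa using hx
      · intro h t ht
        have h' := h.symm
        rw [QuotientGroup.eq, hH₀, Subgroup.mem_subgroupOf] at h'
        have hx : (x : Γ) ∈ H := by simpa using h'
        exact H.mul_mem (H.mul_mem (H.inv_mem hx) (hPH ht)) hx
  have hcard1 : Nat.card (MulAction.fixedPoints (P.subgroupOf D) (D ⧸ H₀)) = 1 := by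
    rw [Nat.card_eq_one_iff_unique]
    refine ⟨⟨?_⟩, ⟨⟨((1 : D) : D ⧸ H₀), (hfix _).mpr rfl⟩⟩⟩
    intro a b
    apply Subtype.ext
    rw [(hfix a.1).mp a.2, (hfix b.1).mp b.2]
  have hmod : Nat.card (D ⧸ H₀) ≡ 1 [MOD p] := by
    have := hP₀.card_modEq_card_fixedPoints (D ⧸ H₀)
    rwa [hcard1] at this
  have hndvd : ¬ p ∣ Nat.card (D ⧸ H₀) := by
    intro hd
    have h0 : Nat.card (D ⧸ H₀) ≡ 0 [MOD p] := (Nat.modEq_zero_iff_dvd).mpr hd
    have h10 : 1 ≡ 0 [MOD p] := hmod.symm.trans h0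
    have : p ∣ 1 := (Nat.modEq_zero_iff_dvd).mp h10
    exact hp.one_lt.ne' (Nat.dvd_one.mp this)
  obtain ⟨a, ha⟩ := hP₀'.nonempty_fixed_point_of_prime_not_dvd_card (D ⧸ H₀) hndvd
  induction a using QuotientGroup.induction_on with
  | H x =>
    rw [mem_fixedPoints_subgroupOf_iff H D P' hPD' x] at ha
    exact ⟨(x : Γ), x.2, h2 _ (hDM x.2) ha⟩

end Cfsg.Agent.Lib.Helper23.SOTLeafM
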