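import Mathlib
import Cfsg.Prelude.Def_GeometricClasses
import Cfsg.Agent.Lib.Helper11.MonoDefs

/-!
S5634 (case `m = 1`) leaf ME (helper23, for helper11): line versus conic.
-/

set_option autoImplicit false

namespace Cfsg.Agent.Lib.Helper23.MonoLeaf
open Matrix Cfsg.Agent.Lib.Helper11.Mono

section Field
variable {F : Type*} [Field F]

/-- a quadratic function with three distinct zeros has zero constant term -/
lemma quad_three_roots {a b d x₁ x₂ x₃ : F} (h12 : x₁ ≠ x₂) (h13 : x₁ ≠ x₃) (h23 : x₂ ≠ x₃)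
    (e₁ : a * x₁ ^ 2 + b * x₁ + d = 0) (e₂ : a * x₂ ^ 2 + b * x₂ + d = 0)
    (e₃ : a * x₃ ^ 2 + b * x₃ + d = 0) : d = 0 := by
  have k12 : a * (x₁ + x₂) + b = 0 := by
    have : (x₁ - x₂) * (a * (x₁ + x₂) + b) = 0 := by linear_combination e₁ - e₂
    exact (mul_eq_zero.mp this).resolve_left (sub_ne_zero.mpr h12)
  have k13 : a * (x₁ + x₃) + b = 0 := by
    have : (x₁ - x₃) * (a * (x₁ + x₃) + b) = 0 := by linear_combination e₁ - e₃
    exact (mul_eq_zero.mp this).resolve_left (sub_ne_zero.mpr h13)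
  have ha : a = 0 := by
    have : a * (x₂ - x₃) = 0 := by linear_combination k12 - k13
    exact (mul_eq_zero.mp this).resolve_right (sub_ne_zero.mpr h23)
  have hb : b = 0 := by rw [ha] at k12; linear_combination k12
  rw [ha, hb] at e₁
  linear_combination e₁

variable [Fintype F]

/-- three distinct elements avoiding two given ones -/
lemma exists_three_avoiding (hq : 5 ≤ Fintype.card F) (u v : F) :
    ∃ x₁ x₂ x₃ : F, x₁ ≠ x₂ ∧ x₁ ≠ x₃ ∧ x₂ ≠ x₃ ∧ (x₁ ≠ u ∧ x₁ ≠ v) ∧ (x₂ ≠ u ∧ x₂ ≠ v) ∧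
      (x₃ ≠ u ∧ x₃ ≠ v) := by
  classical
  have hcard : 2 < ((Finset.univ : Finset F).erase u |>.erase v).card := by
    have h1 := Finset.card_erase_of_mem (Finset.mem_univ u)
    have h2 := Finset.pred_card_le_card_erase (s := (Finset.univ : Finset F).erase u) (a := v)
    rw [Finset.card_univ] at h1
    omega
  obtain ⟨x₁, m1, x₂, m2, x₃, m3, h12, h13, h23⟩ := Finset.two_lt_card.mp hcard
  have key : ∀ x, x ∈ ((Finset.univ : Finset F).erase u |>.erase v) → x ≠ u ∧ x ≠ v := by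
    intro x hx
    have h1 := Finset.mem_erase.mp hx
    exact ⟨(Finset.mem_erase.mp h1.2).1, h1.1⟩
  exact ⟨x₁, x₂, x₃, h12, h13, h23, key _ m1, key _ m2, key _ m3⟩

/-- the field part of (ME): on the line `c₁ x + c₂ y + c₃ z + C = 0` with `x y z ≠ 0` there is a point off
the conic `c₁ / x + c₂ / y + c₃ / z + C = 0`. -/
lemma exists_line_not_conic (hq : 5 ≤ Fintype.card F) {c₁ c₂ c₃ : F} (C : F) (h₁ : c₁ ≠ 0)
    (h₂ : c₂ ≠ 0) (h₃ : c₃ ≠ 0) :
    ∃ x y z : Fˣ, c₁ * x + c₂ * y + c₃ * z + C = 0 ∧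
      c₁ * ((x⁻¹ : Fˣ) : F) + c₂ * ((y⁻¹ : Fˣ) : F) + c₃ * ((z⁻¹ : Fˣ) : F) + C ≠ 0 := by
  -- choose `z`
  obtain ⟨z, -, -, -, -, -, ⟨hz0, hzκ⟩, -, -⟩ := exists_three_avoiding hq (0 : F) (-C / c₃)
  have hκ : C + c₃ * z ≠ 0 := by
    intro h
    apply hzκ
    field_simp
    linear_combination h
  set κ := C + c₃ * z with hκdef
  set κ' := C + c₃ * z⁻¹ with hκ'def
  obtain ⟨x₁, x₂, x₃, h12, h13, h23, ⟨a1, b1⟩, ⟨a2, b2⟩, ⟨a3, b3⟩⟩ :=
    exists_three_avoiding hq (0 : F) (-κ / c₁)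
  -- the corresponding `y`
  have hy : ∀ x : F, x ≠ -κ / c₁ → -(κ + c₁ * x) / c₂ ≠ 0 := by
    intro x hx h
    apply hx
    have h' : κ + c₁ * x = 0 := by
      have := (div_eq_zero_iff.mp h).resolve_right h₂
      linear_combination -this
    field_simp
    linear_combination h'
  -- the conic condition as a quadratic in `x`
  have key : ∀ x : F, x ≠ 0 → x ≠ -κ / c₁ →
      c₁ * x⁻¹ + c₂ * (-(κ + c₁ * x) / c₂)⁻¹ + c₃ * z⁻¹ + C = 0 →
      (κ' * (-c₁ / c₂)) * x ^ 2 + (c₁ * (-c₁ / c₂) + c₂ + κ' * (-κ / c₂)) * x + c₁ * (-κ / c₂) = 0 := by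
    intro x hx0 hx hg
    have hy0 := hy x hx
    have hk0 : κ + c₁ * x ≠ 0 := by
      intro h; apply hy0; rw [h, neg_zero, zero_div]
    have : (c₁ * x⁻¹ + c₂ * (-(κ + c₁ * x) / c₂)⁻¹ + c₃ * z⁻¹ + C) * (x * (-(κ + c₁ * x) / c₂)) = 0 := by
      rw [hg, zero_mul]
    rw [hκ'def]
    field_simp at this ⊢
    linear_combination this
  have hd : c₁ * (-κ / c₂) ≠ 0 :=
    mul_ne_zero h₁ (div_ne_zero (neg_ne_zero.mpr hκ) h₂)
  -- one of the three points works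
  have : ∃ x : F, x ≠ 0 ∧ x ≠ -κ / c₁ ∧
      c₁ * x⁻¹ + c₂ * (-(κ + c₁ * x) / c₂)⁻¹ + c₃ * z⁻¹ + C ≠ 0 := by
    by_contra hcon
    push Not at hcon
    exact hd (quad_three_roots h12 h13 h23 (key x₁ a1 b1 (hcon x₁ a1 b1))
      (key x₂ a2 b2 (hcon x₂ a2 b2)) (key x₃ a3 b3 (hcon x₃ a3 b3)))
  obtain ⟨x, hx0, hx, hg⟩ := this
  refine ⟨Units.mk0 x hx0, Units.mk0 _ (hy x hx), Units.mk0 z hz0, ?_, ?_⟩
  · simp only [Units.val_mk0]
    field_simp
    rw [hκdef]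
    ring
  · simpa only [Units.val_inv_eq_inv_val, Units.val_mk0] using hg

end Field

variable {F : Type*} [Field F] [Fintype F] {ι : Type} [Fintype ι] [DecidableEq ι]

omit [Fintype F] in
/-- the diagonal entry of `A (dg s) A⁻¹` -/
lemma conj_dg_apply (A : GL ι F) (s : ι → Fˣ) (i : ι) :
    ((A * dg s * A⁻¹ : GL ι F) : Matrix ι ι F) i i =
      ∑ l, ((A : Matrix ι ι F) i l * ((A⁻¹ : GL ι F) : Matrix ι ι F) l i) * (s l : F) := by
  rw [Units.val_mul, Units.val_mul, dg_val, Matrix.mul_apply]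
  refine Finset.sum_congr rfl (fun l _ => ?_)
  rw [Matrix.mul_diagonal]
  ring

/-- ME: line versus conic. -/
theorem asym_of_three (hq : 5 ≤ Fintype.card F) (G : Subgroup (GL ι F))
    (hD : ∀ s : ι → Fˣ, dg s ∈ G) (A : GL ι F) (hA : A ∈ G) (i l₁ l₂ l₃ : ι)
    (h12 : l₁ ≠ l₂) (h13 : l₁ ≠ l₃) (h23 : l₂ ≠ l₃)
    (hc1 : (A : Matrix ι ι F) i l₁ * ((A⁻¹ : GL ι F) : Matrix ι ι F) l₁ i ≠ 0)
    (hc2 : (A : Matrix ι ι F) i l₂ * ((A⁻¹ : GL ι F) : Matrix ι ι F) l₂ i ≠ 0)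
    (hc3 : (A : Matrix ι ι F) i l₃ * ((A⁻¹ : GL ι F) : Matrix ι ι F) l₃ i ≠ 0) :
    ∃ X : GL ι F, X ∈ G ∧ (X : Matrix ι ι F) i i = 0 ∧ ((X⁻¹ : GL ι F) : Matrix ι ι F) i i ≠ 0 := by
  set c : ι → F := fun l => (A : Matrix ι ι F) i l * ((A⁻¹ : GL ι F) : Matrix ι ι F) l i with hc
  set S : F := ∑ l, c l with hS
  obtain ⟨x, y, z, hline, hconic⟩ :=
    exists_line_not_conic hq (S - c l₁ - c l₂ - c l₃) hc1 hc2 hc3
  -- the diagonal matrix
  let s : ι → Fˣ := fun l => if l = l₁ then x else if l = l₂ then y else if l = l₃ then z else 1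
  -- a sum formula for functions that are `1` off `l₁, l₂, l₃`
  have sumf : ∀ (t : ι → F) (a b d : F), t l₁ = a → t l₂ = b → t l₃ = d →
      (∀ l, l ≠ l₁ → l ≠ l₂ → l ≠ l₃ → t l = 1) →
      ∑ l, c l * t l = c l₁ * a + c l₂ * b + c l₃ * d + (S - c l₁ - c l₂ - c l₃) := by
    intro t a b d ha hb hd hrest
    have ht : ∀ l, t l = 1 + (if l = l₁ then a - 1 else 0) + (if l = l₂ then b - 1 else 0) +
        (if l = l₃ then d - 1 else 0) := by
      intro l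
      by_cases e1 : l = l₁
      · subst e1; rw [if_pos rfl, if_neg h12, if_neg h13, ha]; ring
      by_cases e2 : l = l₂
      · subst e2; rw [if_neg e1, if_pos rfl, if_neg h23, hb]; ring
      by_cases e3 : l = l₃
      · subst e3; rw [if_neg e1, if_neg e2, if_pos rfl, hd]; ring
      rw [if_neg e1, if_neg e2, if_neg e3, hrest l e1 e2 e3]; ring
    simp only [ht, mul_add, mul_one, mul_ite, mul_zero, Finset.sum_add_distrib,
      Finset.sum_ite_eq', Finset.mem_univ, if_true]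
    rw [← hS]
    ring
  have hs1 : s l₁ = x := by simp only [s, if_pos]
  have hs2 : s l₂ = y := by simp only [s, if_neg h12.symm, if_pos]
  have hs3 : s l₃ = z := by simp only [s, if_neg h13.symm, if_neg h23.symm, if_pos]
  have hsr : ∀ l, l ≠ l₁ → l ≠ l₂ → l ≠ l₃ → s l = 1 := by
    intro l e1 e2 e3
    simp only [s, if_neg e1, if_neg e2, if_neg e3]
  refine ⟨A * dg s * A⁻¹, G.mul_mem (G.mul_mem hA (hD s)) (G.inv_mem hA), ?_, ?_⟩
  · rw [conj_dg_apply]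
    rw [sumf (fun l => (s l : F)) x y z (by simp only [hs1]) (by simp only [hs2])
      (by simp only [hs3]) (fun l e1 e2 e3 => by simp only [hsr l e1 e2 e3, Units.val_one])]
    exact hline
  · have hinv : (A * dg s * A⁻¹)⁻¹ = A * dg s⁻¹ * A⁻¹ := by
      rw [_root_.mul_inv_rev, _root_.mul_inv_rev, inv_inv, dg_inv, mul_assoc]
    rw [hinv, conj_dg_apply]
    rw [sumf (fun l => ((s⁻¹ : ι → Fˣ) l : F)) ((x⁻¹ : Fˣ) : F) ((y⁻¹ : Fˣ) : F) ((z⁻¹ : Fˣ) : F)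
      (by simp only [Pi.inv_apply, hs1]) (by simp only [Pi.inv_apply, hs2])
      (by simp only [Pi.inv_apply, hs3])
      (fun l e1 e2 e3 => by simp only [Pi.inv_apply, hsr l e1 e2 e3, inv_one, Units.val_one])]
    exact hconic

end Cfsg.Agent.Lib.Helper23.MonoLeaf
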