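import Mathlib
import Cfsg.Agent.S1012

set_option autoImplicit false
open QuaternionGroup

namespace Cfsg.Agent.Lib.Helper23.Q8Aut

/-- the quaternion group of order 8 -/
abbrev Q := QuaternionGroup 2

/-- the word map: image of an element of `Q` under the hom with `a 1 ↦ x`, `xa 0 ↦ y`. -/
def qw {H : Type*} [Monoid H] (x y : H) : Q → H
  | a i => x ^ i.val
  | xa i => y * x ^ i.val

theorem hom_eq_qw {H : Type*} [Group H] (τ : Q →* H) (g : Q) :
    τ g = qw (τ (a 1)) (τ (xa 0)) g := by
  cases g with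
  | a i =>
    show τ (a i) = τ (a 1) ^ i.val
    rw [← map_pow, a_one_pow]
    congr 2
    exact (ZMod.natCast_zmod_val i).symm
  | xa i =>
    show τ (xa i) = τ (xa 0) * τ (a 1) ^ i.val
    rw [← map_pow, ← map_mul, a_one_pow, xa_mul_a]
    congr 2
    rw [zero_add]
    exact (ZMod.natCast_zmod_val i).symm

/-- valid generator pairs -/
def Valid (x y : Q) : Prop := x ^ 4 = 1 ∧ x ^ 2 ≠ 1 ∧ y ^ 2 = x ^ 2 ∧ y * x = x⁻¹ * y

instance (x y : Q) : Decidable (Valid x y) := by unfold Valid; infer_instance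

theorem card_valid : (Finset.univ.filter (fun p : Q × Q => Valid p.1 p.2)).card = 24 := by decide

theorem qw_mul : ∀ x y : Q, Valid x y → ∀ g h : Q, qw x y (g * h) = qw x y g * qw x y h := by
  decide

theorem qw_inj : ∀ x y : Q, Valid x y → ∀ g h : Q, qw x y g = qw x y h → g = h := by decide

theorem valid_gen : Valid (a 1 : Q) (xa 0) := by decide

theorem valid_of_injective (τ : Q →* Q) (hinj : Function.Injective τ) :
    Valid (τ (a 1)) (τ (xa 0)) := by
  obtain ⟨h1, h2, h3, h4⟩ := valid_gen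
  refine ⟨?_, ?_, ?_, ?_⟩
  · rw [← map_pow, h1, map_one]
  · rw [← map_pow]
    intro h
    apply h2
    apply hinj
    rw [h, map_one]
  · rw [← map_pow, ← map_pow, h3]
  · rw [← map_inv, ← map_mul, ← map_mul, h4]

theorem valid_of_mulAut (τ : MulAut Q) : Valid (τ (a 1)) (τ (xa 0)) :=
  valid_of_injective τ.toMonoidHom τ.injective

theorem mulAut_eq_qw (τ : MulAut Q) : (τ : Q → Q) = qw (τ (a 1)) (τ (xa 0)) := by
  funext g
  exact hom_eq_qw τ.toMonoidHom g

/-- the automorphism with given valid generator images -/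
noncomputable def ofPair (x y : Q) (h : Valid x y) : MulAut Q :=
  MulEquiv.ofBijective (MonoidHom.mk' (qw x y) (qw_mul x y h))
    (Finite.injective_iff_bijective.mp (fun g k hgk => qw_inj x y h g k hgk))

theorem ofPair_apply (x y : Q) (h : Valid x y) (g : Q) : ofPair x y h g = qw x y g := rfl

theorem ofPair_a (x y : Q) (h : Valid x y) : ofPair x y h (a 1) = x := by
  rw [ofPair_apply]
  show x ^ (1 : ZMod (2 * 2)).val = x
  have : (1 : ZMod (2 * 2)).val = 1 := by decide
  rw [this, pow_one]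

theorem ofPair_xa (x y : Q) (h : Valid x y) : ofPair x y h (xa 0) = y := by
  rw [ofPair_apply]
  show y * x ^ (0 : ZMod (2 * 2)).val = y
  have : (0 : ZMod (2 * 2)).val = 0 := by decide
  rw [this, pow_zero, mul_one]

/-- automorphisms correspond to valid pairs -/
noncomputable def pairEquiv : MulAut Q ≃ {p : Q × Q // Valid p.1 p.2} where
  toFun τ := ⟨(τ (a 1), τ (xa 0)), valid_of_mulAut τ⟩
  invFun p := ofPair p.1.1 p.1.2 p.2
  left_inv τ := by
    apply MulEquiv.ext
    intro g
    rw [ofPair_apply]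
    exact (congrFun (mulAut_eq_qw τ) g).symm
  right_inv p := by
    apply Subtype.ext
    apply Prod.ext
    · exact ofPair_a _ _ p.2
    · exact ofPair_xa _ _ p.2

theorem card_mulAut : Nat.card (MulAut Q) = 24 := by
  rw [Nat.card_congr pairEquiv, Nat.card_eq_fintype_card, Fintype.card_subtype]
  exact card_valid


/-! ### concrete facts by enumeration -/

theorem center_Q : ∀ q : Q, (∀ g : Q, q * g = g * q) → q = 1 ∨ q = a 2 := by decide

theorem a_two_central : ∀ g : Q, (a 2 : Q) * g = g * a 2 := by decide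

theorem involution_Q : ∀ q : Q, q * q = 1 → q = 1 ∨ q = a 2 := by decide

theorem a_two_ne_one : (a 2 : Q) ≠ 1 := by decide

theorem a_two_mul_self : (a 2 : Q) * a 2 = 1 := by decide

theorem not_comm_Q : (a 1 : Q) * xa 0 ≠ xa 0 * a 1 := by decide

theorem qw_no_six : ∀ x y : Q, Valid x y →
    (∀ g, qw x y (qw x y (qw x y (qw x y (qw x y (qw x y g))))) = g) →
    (∀ g, qw x y (qw x y g) = g) ∨ (∀ g, qw x y (qw x y (qw x y g)) = g) := by decide

theorem qw_inverted : ∀ x y : Q, Valid x y → (∀ g, qw x y (qw x y g) = g) →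
    (∀ r : Q, ∃ g, qw x y g ≠ r * g * r⁻¹) →
    ∃ x' y' : Q, Valid x' y' ∧ (∀ g, qw x' y' (qw x' y' (qw x' y' g)) = g) ∧
      (∃ g, qw x' y' g ≠ g) ∧ (∀ g, qw x y (qw x' y' (qw x y g)) = qw x' y' (qw x' y' g)) := by
  decide

theorem qw_not_normal : ∀ x y : Q, Valid x y → (∀ g, qw x y (qw x y (qw x y g)) = g) →
    (∃ g, qw x y g ≠ g) →
    ∃ r : Q, (∃ g, r * qw x y (r⁻¹ * g * r) * r⁻¹ ≠ g) ∧
      (∃ g, r * qw x y (r⁻¹ * g * r) * r⁻¹ ≠ qw x y g) ∧
      (∃ g, r * qw x y (r⁻¹ * g * r) * r⁻¹ ≠ qw x y (qw x y g)) := by decide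

theorem orderOf_ne_six (τ : MulAut Q) : orderOf τ ≠ 6 := by
  intro h
  have h6 : τ ^ 6 = 1 := by rw [← h]; exact pow_orderOf_eq_one τ
  have hv := valid_of_mulAut τ
  have hq := mulAut_eq_qw τ
  have key := qw_no_six _ _ hv (by
    intro g
    rw [← hq]
    have := congrArg (fun f : MulAut Q => f g) h6
    simpa [pow_succ, MulAut.mul_apply] using this)
  rw [← hq] at key
  rcases key with k2 | k3
  · have : τ ^ 2 = 1 := by
      apply MulEquiv.ext
      intro g
      simpa [pow_succ, MulAut.mul_apply] using k2 g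
    have := orderOf_dvd_of_pow_eq_one this
    rw [h] at this
    omega
  · have : τ ^ 3 = 1 := by
      apply MulEquiv.ext
      intro g
      simpa [pow_succ, MulAut.mul_apply] using k3 g
    have := orderOf_dvd_of_pow_eq_one this
    rw [h] at this
    omega

/-- `Aut(Q8) ≅ S4` -/
theorem mulAut_equiv_perm : Nonempty (MulAut Q ≃* Equiv.Perm (Fin 4)) := by
  haveI : Finite (MulAut Q) := Nat.finite_of_card_ne_zero (by rw [card_mulAut]; norm_num)
  exact Cfsg.Agent.S1012.result card_mulAut orderOf_ne_six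

instance : Finite (MulAut Q) := Nat.finite_of_card_ne_zero (by rw [card_mulAut]; norm_num)

/-- an outer involutory automorphism of `Q8` inverts some automorphism of order 3. -/
theorem exists_inverted (τ : MulAut Q) (h2 : τ * τ = 1) (hout : ∀ r : Q, τ ≠ MulAut.conj r) :
    ∃ σ : MulAut Q, σ ^ 3 = 1 ∧ σ ≠ 1 ∧ τ * σ * τ⁻¹ = σ⁻¹ := by
  have hv := valid_of_mulAut τ
  have hq := mulAut_eq_qw τ
  have hinv : τ⁻¹ = τ := inv_eq_of_mul_eq_one_left h2
  obtain ⟨x', y', hv', h3, hne, hconj⟩ := qw_inverted _ _ hv (by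
      intro g
      rw [← hq]
      have := congrArg (fun f : MulAut Q => f g) h2
      simpa [MulAut.mul_apply] using this) (by
      intro r
      by_contra hcon
      rw [not_exists] at hcon
      apply hout r
      apply MulEquiv.ext
      intro g
      have := hcon g
      rw [not_not, ← hq] at this
      rw [this, MulAut.conj_apply])
  refine ⟨ofPair x' y' hv', ?_, ?_, ?_⟩
  · apply MulEquiv.ext
    intro g
    simp only [pow_succ, pow_zero, one_mul, MulAut.mul_apply, MulAut.one_apply, ofPair_apply]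
    exact h3 g
  · intro h1
    obtain ⟨g, hg⟩ := hne
    apply hg
    have := congrArg (fun f : MulAut Q => f g) h1
    simpa [ofPair_apply] using this
  · have h3' : ofPair x' y' hv' ^ 3 = 1 := by
      apply MulEquiv.ext
      intro g
      simp only [pow_succ, pow_zero, one_mul, MulAut.mul_apply, MulAut.one_apply, ofPair_apply]
      exact h3 g
    have hσinv : (ofPair x' y' hv')⁻¹ = ofPair x' y' hv' * ofPair x' y' hv' := by
      apply inv_eq_of_mul_eq_one_left
      rw [← h3', pow_succ, pow_succ, pow_one]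
    rw [hinv, hσinv]
    apply MulEquiv.ext
    intro g
    simp only [MulAut.mul_apply, ofPair_apply]
    rw [← hq] at hconj
    exact hconj g

/-- a subgroup of order 3 of `Aut(Q8)` is not normal. -/
theorem not_normal_of_card_three (S : Subgroup (MulAut Q)) (h : Nat.card S = 3) : ¬ S.Normal := by
  intro hn
  haveI : Fact (Nat.Prime 3) := ⟨Nat.prime_three⟩
  obtain ⟨σ', hσ'⟩ : ∃ σ : S, σ ≠ 1 := by
    by_contra hcon
    rw [not_exists] at hcon
    have : Subsingleton S := ⟨fun u v => by
      have hu := hcon u; have hv := hcon v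
      rw [not_not] at hu hv; rw [hu, hv]⟩
    have := Nat.card_unique (α := S)
    omega
  have hz : Subgroup.zpowers σ' = ⊤ := zpowers_eq_top_of_prime_card h hσ'
  set σ : MulAut Q := (σ' : MulAut Q) with hσdef
  have hσS : σ ∈ S := σ'.2
  have hσ1 : σ ≠ 1 := by
    intro h1
    apply hσ'
    exact Subtype.ext h1
  have hσ3 : σ ^ 3 = 1 := by
    have : σ' ^ 3 = 1 := by
      rw [← h]; exact pow_card_eq_one'
    have := congrArg (fun u : S => (u : MulAut Q)) this
    simpa using this
  have hmem : ∀ ρ ∈ S, ρ = 1 ∨ ρ = σ ∨ ρ = σ * σ := by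
    intro ρ hρ
    have : (⟨ρ, hρ⟩ : S) ∈ Subgroup.zpowers σ' := by rw [hz]; trivial
    obtain ⟨k, hk⟩ := Subgroup.mem_zpowers_iff.mp this
    have hk' : σ ^ k = ρ := by
      have := congrArg (fun u : S => (u : MulAut Q)) hk
      simpa using this
    have h3 : σ ^ (3 : ℤ) = 1 := by exact_mod_cast hσ3
    have : σ ^ k = σ ^ (k % 3) := by
      conv_lhs => rw [← Int.emod_add_mul_ediv k 3]
      rw [zpow_add, zpow_mul, h3, one_zpow, mul_one]
    rw [this] at hk'
    have hlt : k % 3 < 3 := Int.emod_lt_of_pos k (by norm_num)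
    have hge : 0 ≤ k % 3 := Int.emod_nonneg k (by norm_num)
    have : k % 3 = 0 ∨ k % 3 = 1 ∨ k % 3 = 2 := by omega
    rcases this with h0 | h0 | h0
    · left; rw [← hk', h0, zpow_zero]
    · right; left; rw [← hk', h0, zpow_one]
    · right; right; rw [← hk', h0]; exact zpow_two σ
  have hv := valid_of_mulAut σ
  have hq := mulAut_eq_qw σ
  obtain ⟨r, ⟨g1, hg1⟩, ⟨g2, hg2⟩, ⟨g3, hg3⟩⟩ := qw_not_normal _ _ hv (by
      intro g
      rw [← hq]
      have := congrArg (fun f : MulAut Q => f g) hσ3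
      simpa [pow_succ, MulAut.mul_apply] using this) (by
      by_contra hcon
      rw [not_exists] at hcon
      apply hσ1
      apply MulEquiv.ext
      intro g
      have := hcon g
      rw [not_not, ← hq] at this
      exact this)
  rw [← hq] at hg1 hg2 hg3
  have hρS : MulAut.conj r * σ * (MulAut.conj r)⁻¹ ∈ S := hn.conj_mem σ hσS (MulAut.conj r)
  have happ : ∀ g, (MulAut.conj r * σ * (MulAut.conj r)⁻¹) g = r * σ (r⁻¹ * g * r) * r⁻¹ := by
    intro g
    simp [MulAut.mul_apply, MulAut.conj_apply, MulAut.conj_inv_apply]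
  rcases hmem _ hρS with h1 | h1 | h1
  · apply hg1
    rw [← happ, h1]; rfl
  · apply hg2
    rw [← happ, h1]
  · apply hg3
    rw [← happ, h1]; rfl

end Cfsg.Agent.Lib.Helper23.Q8Aut
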