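import Mathlib

set_option autoImplicit false
open QuaternionGroup

namespace Cfsg.Agent.Lib.Helper23.QuatOdd

theorem a_pow' {m : ℕ} (j : ZMod (2 * m)) (t : ℕ) :
    (a j : QuaternionGroup m) ^ t = a ((t : ZMod (2 * m)) * j) := by
  induction t with
  | zero => rw [pow_zero, Nat.cast_zero, zero_mul, a_zero]
  | succ t ih =>
    rw [pow_succ, ih, a_mul_a]
    congr 1
    push_cast
    ring

theorem mulAut_eq_one_of_odd_aux (m n : ℕ) (hm : m = 2 ^ n) (hn : 2 ≤ n)
    (θ : MulAut (QuaternionGroup m))
    (k : ℕ) (hk : Odd k) (hθ : θ ^ k = 1) : θ = 1 := by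
  have : NeZero m := ⟨by rw [hm]; positivity⟩
  have hm4 : 4 ≤ m := by
    calc 4 = 2 ^ 2 := by norm_num
      _ ≤ 2 ^ n := Nat.pow_le_pow_right (by norm_num) hn
      _ = m := hm.symm
  have hcop : Nat.Coprime k (2 * m) := by
    rw [hm, ← pow_succ']
    apply Nat.Coprime.pow_right
    rw [Nat.coprime_comm, Nat.Prime.coprime_iff_not_dvd Nat.prime_two]
    exact hk.not_two_dvd_nat
  have hpow : ∀ (t : ℕ) (g : QuaternionGroup m), (θ ^ t) g = (⇑θ)^[t] g := by
    intro t
    induction t with
    | zero => intro g; simp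
    | succ t ih =>
      intro g
      rw [pow_succ', MulAut.mul_apply, ih, Function.iterate_succ_apply']
  -- θ (a 1) = a j
  obtain ⟨j, hj⟩ : ∃ j, θ (a 1) = a j := by
    rcases hθa : θ (a 1) with j | j
    · exact ⟨j, rfl⟩
    · exfalso
      have := MulEquiv.orderOf_eq θ (a 1 : QuaternionGroup m)
      rw [hθa, orderOf_xa, orderOf_a_one] at this
      omega
  have ha : ∀ i : ZMod (2 * m), θ (a i) = a (i * j) := by
    intro i
    have h1 : (a i : QuaternionGroup m) = (a 1) ^ i.val := by
      rw [a_one_pow, ZMod.natCast_zmod_val]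
    rw [h1, map_pow, hj, a_pow', ZMod.natCast_zmod_val]
  have hiter : ∀ t : ℕ, (⇑θ)^[t] (a 1) = a (j ^ t) := by
    intro t
    induction t with
    | zero => simp
    | succ t ih =>
      rw [Function.iterate_succ_apply', ih, ha, pow_succ]
  have hjk : j ^ k = 1 := by
    have := hpow k (a 1)
    rw [hθ, MulAut.one_apply, hiter] at this
    exact (a.inj this).symm
  have hj1 : j = 1 := by
    have hunit : IsUnit j := by
      have hk0 : k ≠ 0 := by
        rintro rfl
        exact absurd hk (by decide)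
      exact IsUnit.of_pow_eq_one hjk hk0
    obtain ⟨u, rfl⟩ := hunit
    have h1 : u ^ k = 1 := by
      apply Units.ext
      push_cast
      exact hjk
    have h2 : u ^ (2 ^ n) = 1 := by
      have := ZMod.pow_totient u
      have htot : Nat.totient (2 * m) = 2 ^ n := by
        rw [hm, ← pow_succ', Nat.totient_prime_pow Nat.prime_two (Nat.succ_pos n)]
        simp
      rwa [htot] at this
    have h3 := pow_gcd_eq_one.mpr ⟨h1, h2⟩
    have hg : Nat.gcd k (2 ^ n) = 1 := by
      apply Nat.Coprime.pow_right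
      rw [Nat.coprime_comm, Nat.Prime.coprime_iff_not_dvd Nat.prime_two]
      exact hk.not_two_dvd_nat
    rw [hg, pow_one] at h3
    rw [h3]; rfl
  have ha' : ∀ i : ZMod (2 * m), θ (a i) = a i := by
    intro i; rw [ha, hj1, mul_one]
  -- θ (xa 0) = xa l
  obtain ⟨l, hl⟩ : ∃ l, θ (xa 0) = xa l := by
    rcases hθx : θ (xa 0) with i | l
    · exfalso
      have : θ (xa 0) = θ (a i) := by rw [hθx, ha']
      have := θ.injective this
      cases this
    · exact ⟨l, rfl⟩
  have hx : ∀ i : ZMod (2 * m), θ (xa i) = xa (l + i) := by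
    intro i
    have h1 : (xa i : QuaternionGroup m) = xa 0 * a i := by rw [xa_mul_a, zero_add]
    rw [h1, map_mul, hl, ha', xa_mul_a]
  have hiterx : ∀ t : ℕ, (⇑θ)^[t] (xa 0) = xa ((t : ZMod (2 * m)) * l) := by
    intro t
    induction t with
    | zero => simp
    | succ t ih =>
      rw [Function.iterate_succ_apply', ih, hx]
      congr 1
      push_cast
      ring
  have hl0 : l = 0 := by
    have := hpow k (xa 0)
    rw [hθ, MulAut.one_apply, hiterx] at this
    have hkl : (k : ZMod (2 * m)) * l = 0 := (xa.inj this).symm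
    have hunit : IsUnit (k : ZMod (2 * m)) := (ZMod.isUnit_iff_coprime k (2 * m)).mpr hcop
    exact (hunit.mul_right_eq_zero).mp hkl
  apply MulEquiv.ext
  intro g
  cases g with
  | a i => rw [ha', MulAut.one_apply]
  | xa i => rw [hx, hl0, zero_add, MulAut.one_apply]

/-- an automorphism of odd order of a generalized quaternion group of order at least 16 is
trivial. -/
theorem mulAut_eq_one_of_odd {n : ℕ} (hn : 2 ≤ n) (θ : MulAut (QuaternionGroup (2 ^ n)))
    (k : ℕ) (hk : Odd k) (hθ : θ ^ k = 1) : θ = 1 :=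
  mulAut_eq_one_of_odd_aux (2 ^ n) n rfl hn θ k hk hθ

end Cfsg.Agent.Lib.Helper23.QuatOdd
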