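import Mathlib
import Cfsg.Agent.Lib.Helper23.HeightZeroC
import Cfsg.Agent.Lib.Helper23.RankQuot
import Cfsg.Prelude.Def_BlockRank
import Cfsg.Agent.Lib.Helper6.DefectOrder

set_option autoImplicit false

namespace Cfsg.Agent.Lib.Helper23

open Cfsg Cfsg.Agent.CharLib Cfsg.Agent.Lib.Helper24 Cfsg.Agent.Lib.Helper6
open scoped ComplexConjugate

universe u

section arith

/-- The arithmetic core of the rank-one block computation. -/
theorem rank_one_arith {ι : Type*} (s : Finset ι) (deg : ι → ℕ) (N : ι → ι → ℤ) {p : ℕ} (hp : p.Prime)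
    (a e : ℕ) (i₀ : ι) (hi₀ : i₀ ∈ s) (hdeg : ∀ i ∈ s, deg i ≠ 0)
    (R1 : ∀ i ∈ s, ∀ j ∈ s, N i j * (deg i₀ : ℤ) ^ 2 = (deg i : ℤ) * (deg j : ℤ) * N i₀ i₀)
    (E2 : ∑ j ∈ s, N i₀ j * (deg j : ℤ) = (p : ℤ) ^ a * (deg i₀ : ℤ))
    (V1 : ∀ i ∈ s, ∀ j ∈ s, (p : ℤ) ^ e ∣ N i j)
    (V2 : ¬ (p : ℤ) ^ (e + 1) ∣ N i₀ i₀) :
    ∃ (g : ℕ) (d : ι → ℕ) (n : ι → ℤ), g ≠ 0 ∧ (∀ i ∈ s, deg i = g * d i) ∧
      (g : ℤ) = ∑ i ∈ s, n i * (deg i : ℤ) ∧ e ≤ a ∧ ∑ i ∈ s, d i ^ 2 = p ^ (a - e) := by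
  classical
  set gZ : ℤ := s.gcd (fun i => (deg i : ℤ)) with hgZ
  have hgZ0 : gZ ≠ 0 := by
    intro h0
    rw [hgZ, Finset.gcd_eq_zero_iff] at h0
    have := h0 i₀ hi₀
    exact hdeg i₀ hi₀ (by exact_mod_cast this)
  have hgZnn : 0 ≤ gZ := by
    have h1 : normalize gZ = gZ := Finset.normalize_gcd
    exact Int.nonneg_of_normalize_eq_self h1
  obtain ⟨g, hg⟩ : ∃ g : ℕ, (g : ℤ) = gZ := ⟨gZ.toNat, Int.toNat_of_nonneg hgZnn⟩
  have hg0 : g ≠ 0 := by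
    rintro rfl
    exact hgZ0 hg.symm
  have hgdvd : ∀ i ∈ s, g ∣ deg i := by
    intro i hi
    have h1 : gZ ∣ (deg i : ℤ) := Finset.gcd_dvd hi
    rw [← hg] at h1
    exact_mod_cast h1
  let d : ι → ℕ := fun i => deg i / g
  have hd : ∀ i ∈ s, deg i = g * d i := fun i hi => (Nat.mul_div_cancel' (hgdvd i hi)).symm
  obtain ⟨n, hn⟩ := Finset.gcd_eq_sum_mul s (fun i => (deg i : ℤ))
  rw [← hgZ, ← hg] at hn
  have hgZ' : (g : ℤ) ≠ 0 := by exact_mod_cast hg0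
  have hbez : ∑ i ∈ s, (d i : ℤ) * n i = 1 := by
    have h1 : (g : ℤ) * 1 = (g : ℤ) * ∑ i ∈ s, (d i : ℤ) * n i := by
      rw [mul_one, Finset.mul_sum]
      conv_lhs => rw [hn]
      apply Finset.sum_congr rfl
      intro i hi
      rw [hd i hi]; push_cast; ring
    exact (mul_left_cancel₀ hgZ' h1).symm
  have hd0 : ∀ i ∈ s, d i ≠ 0 := by
    intro i hi h0
    have := hd i hi
    rw [h0, mul_zero] at this
    exact hdeg i hi this
  set S : ℕ := ∑ i ∈ s, d i ^ 2 with hS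
  have hd₀Z : (d i₀ : ℤ) ≠ 0 := by exact_mod_cast hd0 i₀ hi₀
  have hdeg₀Z : (deg i₀ : ℤ) ≠ 0 := by exact_mod_cast hdeg i₀ hi₀
  -- R2': N₀₀ * S = p^a d₀²
  have hR2 : N i₀ i₀ * (S : ℤ) = (p : ℤ) ^ a * (d i₀ : ℤ) ^ 2 := by
    have h1 : (deg i₀ : ℤ) ^ 2 * ((p : ℤ) ^ a * (deg i₀ : ℤ)) =
        (deg i₀ : ℤ) * (N i₀ i₀ * ∑ j ∈ s, (deg j : ℤ) ^ 2) := by
      rw [← E2, Finset.mul_sum, Finset.mul_sum, Finset.mul_sum]
      apply Finset.sum_congr rfl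
      intro j hj
      have := R1 i₀ hi₀ j hj
      calc (deg i₀ : ℤ) ^ 2 * (N i₀ j * (deg j : ℤ)) = (N i₀ j * (deg i₀ : ℤ) ^ 2) * (deg j : ℤ) := by ring
        _ = ((deg i₀ : ℤ) * (deg j : ℤ) * N i₀ i₀) * (deg j : ℤ) := by rw [this]
        _ = _ := by ring
    have h2 : (deg i₀ : ℤ) * ((p : ℤ) ^ a * (deg i₀ : ℤ)) = N i₀ i₀ * ∑ j ∈ s, (deg j : ℤ) ^ 2 := by
      apply mul_left_cancel₀ hdeg₀Z
      rw [← h1]; ring
    have h3 : ∑ j ∈ s, (deg j : ℤ) ^ 2 = (g : ℤ) ^ 2 * (S : ℤ) := by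
      rw [hS]; push_cast
      rw [Finset.mul_sum]
      apply Finset.sum_congr rfl
      intro j hj
      rw [hd j hj]; push_cast; ring
    rw [h3, hd i₀ hi₀] at h2
    push_cast at h2
    have h4 : (g : ℤ) ^ 2 * (N i₀ i₀ * (S : ℤ)) = (g : ℤ) ^ 2 * ((p : ℤ) ^ a * (d i₀ : ℤ) ^ 2) := by
      rw [show (g : ℤ) ^ 2 * (N i₀ i₀ * (S : ℤ)) = N i₀ i₀ * ((g : ℤ) ^ 2 * (S : ℤ)) by ring, ← h2]
      ring
    exact mul_left_cancel₀ (pow_ne_zero 2 hgZ') h4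
  -- R3
  have hR3 : ∀ i ∈ s, ∀ j ∈ s, N i j * (S : ℤ) = (p : ℤ) ^ a * ((d i : ℤ) * (d j : ℤ)) := by
    intro i hi j hj
    have h1 := R1 i hi j hj
    rw [hd i hi, hd j hj, hd i₀ hi₀] at h1
    push_cast at h1
    have h2 : N i j * (d i₀ : ℤ) ^ 2 = (d i : ℤ) * (d j : ℤ) * N i₀ i₀ := by
      apply mul_left_cancel₀ (pow_ne_zero 2 hgZ')
      rw [show (g : ℤ) ^ 2 * (N i j * (d i₀ : ℤ) ^ 2) = N i j * ((g : ℤ) * (d i₀ : ℤ)) ^ 2 by ring, h1]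
      ring
    apply mul_left_cancel₀ (pow_ne_zero 2 hd₀Z)
    calc (d i₀ : ℤ) ^ 2 * (N i j * (S : ℤ)) = (N i j * (d i₀ : ℤ) ^ 2) * (S : ℤ) := by ring
      _ = (d i : ℤ) * (d j : ℤ) * (N i₀ i₀ * (S : ℤ)) := by rw [h2]; ring
      _ = _ := by rw [hR2]; ring
  -- S * W = p^a
  set W : ℤ := ∑ i ∈ s, ∑ j ∈ s, n i * n j * N i j with hW
  have hSW : (S : ℤ) * W = (p : ℤ) ^ a := by
    have h1 : (S : ℤ) * W = ∑ i ∈ s, ∑ j ∈ s, n i * n j * ((p : ℤ) ^ a * ((d i : ℤ) * (d j : ℤ))) := by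
      rw [hW, Finset.mul_sum]
      apply Finset.sum_congr rfl
      intro i hi
      rw [Finset.mul_sum]
      apply Finset.sum_congr rfl
      intro j hj
      rw [← hR3 i hi j hj]; ring
    have h2 : ∑ i ∈ s, ∑ j ∈ s, n i * n j * ((p : ℤ) ^ a * ((d i : ℤ) * (d j : ℤ))) =
        (p : ℤ) ^ a * ((∑ i ∈ s, (d i : ℤ) * n i) * (∑ j ∈ s, (d j : ℤ) * n j)) := by
      rw [Finset.sum_mul_sum, Finset.mul_sum]
      apply Finset.sum_congr rfl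
      intro i _
      rw [Finset.mul_sum]
      apply Finset.sum_congr rfl
      intro j _
      ring
    rw [h1, h2, hbez]; ring
  have hWdvd : (p : ℤ) ^ e ∣ W := by
    apply Finset.dvd_sum
    intro i hi
    apply Finset.dvd_sum
    intro j hj
    exact Dvd.dvd.mul_left (V1 i hi j hj) _
  have hSdvd : S ∣ p ^ a := by
    have : (S : ℤ) ∣ (p : ℤ) ^ a := ⟨W, hSW.symm⟩
    exact_mod_cast this
  obtain ⟨t, hta, hSt⟩ := (Nat.dvd_prime_pow hp).mp hSdvd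
  have hte : t + e ≤ a := by
    obtain ⟨w, hw⟩ := hWdvd
    have h1 : (p : ℤ) ^ (t + e) ∣ (p : ℤ) ^ a := by
      rw [← hSW, hSt, hw, pow_add]
      push_cast
      exact ⟨w, by ring⟩
    have h2 : p ^ (t + e) ∣ p ^ a := by exact_mod_cast h1
    exact (Nat.pow_dvd_pow_iff_le_right hp.one_lt).mp h2
  have hte' : a ≤ t + e := by
    by_contra hlt
    push Not at hlt
    apply V2
    have h1 : N i₀ i₀ * (p : ℤ) ^ t = (p : ℤ) ^ t * ((p : ℤ) ^ (a - t) * (d i₀ : ℤ) ^ 2) := by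
      have := hR2
      rw [hSt] at this
      push_cast at this
      rw [this, ← mul_assoc, ← pow_add, Nat.add_sub_cancel' hta]
    have hpt0 : (p : ℤ) ^ t ≠ 0 := pow_ne_zero _ (by exact_mod_cast hp.ne_zero)
    have h2 : N i₀ i₀ = (p : ℤ) ^ (a - t) * (d i₀ : ℤ) ^ 2 := by
      apply mul_left_cancel₀ hpt0
      rw [← h1]; ring
    rw [h2]
    exact Dvd.dvd.mul_right (pow_dvd_pow _ (by omega)) _
  refine ⟨g, d, n, hg0, hd, ?_, by omega, ?_⟩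
  · rw [hn]
    apply Finset.sum_congr rfl
    intro i _
    ring
  · rw [← hS, hSt]
    congr 1
    omega

end arith

section rankone

variable {G : Type u} [Group G] [Fintype G] {M : Ideal AlgInt} {p : ℕ} [hpp : Fact p.Prime]

omit [Fintype G] in
/-- In a block of rank one all `p`-regular parts are proportional. -/
theorem pRegular_prop_of_blockRank_one {B : Set (IrrCharacter G)} (hl : blockRank p B = 1)
    {χ₀ χ : IrrCharacter G} (hχ₀ : χ₀ ∈ B) (hχ : χ ∈ B) (x : G) (hx : ¬ p ∣ orderOf x) :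
    (χ : G → ℂ) x = (χ : G → ℂ) 1 / (χ₀ : G → ℂ) 1 * (χ₀ : G → ℂ) x := by
  classical
  set V := Submodule.span ℂ ((fun χ : IrrCharacter G => pRegularPart p (χ : G → ℂ)) '' B) with hV
  have hmem : ∀ ψ ∈ B, pRegularPart p (ψ : G → ℂ) ∈ V :=
    fun ψ hψ => Submodule.subset_span ⟨ψ, hψ, rfl⟩
  have h1 : ¬ p ∣ orderOf (1 : G) := by
    rw [orderOf_one]
    exact hpp.out.one_lt.ne' ∘ Nat.dvd_one.mp
  have hχ₀1 : (χ₀ : G → ℂ) 1 ≠ 0 := irr_apply_one_ne_zero χ₀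
  let v₀ : V := ⟨_, hmem χ₀ hχ₀⟩
  have hv₀ : v₀ ≠ 0 := by
    intro h
    have h2 : (v₀ : G → ℂ) 1 = 0 := by rw [h]; rfl
    have h3 : (v₀ : G → ℂ) 1 = (χ₀ : G → ℂ) 1 := by
      show pRegularPart p (χ₀ : G → ℂ) 1 = _
      rw [pRegularPart_apply, if_pos h1]
    rw [h3] at h2
    exact hχ₀1 h2
  have hl' : Module.finrank ℂ V = 1 := hl
  obtain ⟨c, hc⟩ := (finrank_eq_one_iff_of_nonzero' v₀ hv₀).mp hl' ⟨_, hmem χ hχ⟩
  have hc' : c • pRegularPart p (χ₀ : G → ℂ) = pRegularPart p (χ : G → ℂ) :=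
    congrArg Subtype.val hc
  have e1 := congrFun hc' 1
  have ex := congrFun hc' x
  simp only [Pi.smul_apply, smul_eq_mul] at e1 ex
  rw [pRegularPart_apply, pRegularPart_apply, if_pos h1, if_pos h1] at e1
  rw [pRegularPart_apply, pRegularPart_apply, if_pos hx, if_pos hx] at ex
  rw [← ex, ← e1]
  field_simp

open Classical in
/-- **S4675** (Finset form): a block of rank one has a single Brauer character `φ` with
`χ = d_χ φ` on `p`-regular elements and `∑ d_χ² = p^d`. -/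
theorem rank_one_block [Fintype (IrrCharacter G)] (hM : IsPModular p M)
    {B : Set (IrrCharacter G)} (hB : IsPBlock M B) (hl : blockRank p B = 1) :
    ∃ (φ : G → ℂ) (d : IrrCharacter G → ℕ) (n : IrrCharacter G → ℤ),
      (∀ x : G, ¬ p ∣ orderOf x → φ x = ∑ ψ : IrrCharacter G,
        if ψ ∈ B then (n ψ : ℂ) * (ψ : G → ℂ) x else 0) ∧
      (∀ χ ∈ B, ∀ x : G, ¬ p ∣ orderOf x → (χ : G → ℂ) x = (d χ : ℂ) * φ x) ∧
      ∑ χ : IrrCharacter G, (if χ ∈ B then d χ ^ 2 else 0) = p ^ blockDefect p B := by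
  have hprime : M.IsPrime := isPrime_of_isPModular hM
  have hp : p.Prime := hpp.out
  have hne : B.Nonempty := by
    obtain ⟨χ₁, rfl⟩ := hB
    exact ⟨χ₁, mem_blockOf_self χ₁⟩
  obtain ⟨χ₀, hχ₀, hmin⟩ := exists_minVal (p := p) hne
  set e := minVal p B with he
  set a := (Nat.card G).factorization p with ha
  set s : Finset (IrrCharacter G) := Finset.univ.filter (· ∈ B) with hs
  have hmem : ∀ ψ, ψ ∈ s ↔ ψ ∈ B := fun ψ => by rw [hs]; simp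
  have hpa0 : ((p : ℂ) ^ a) ≠ 0 := pow_ne_zero _ (Nat.cast_ne_zero.mpr hp.ne_zero)
  have hχ₀1 : (χ₀ : G → ℂ) 1 ≠ 0 := irr_apply_one_ne_zero χ₀
  -- R1
  have R1 : ∀ χ ∈ s, ∀ ψ ∈ s, tildeInt p χ ψ * (charDegree (χ₀ : G → ℂ) : ℤ) ^ 2 =
      (charDegree (χ : G → ℂ) : ℤ) * (charDegree (ψ : G → ℂ) : ℤ) * tildeInt p χ₀ χ₀ := by
    intro χ hχ ψ hψ
    rw [hmem] at hχ hψ
    have h1 : (tildeInt p χ ψ : ℂ) * ((charDegree (χ₀ : G → ℂ) : ℂ)) ^ 2 =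
        (charDegree (χ : G → ℂ) : ℂ) * (charDegree (ψ : G → ℂ) : ℂ) * (tildeInt p χ₀ χ₀ : ℂ) := by
      have hd₀ : (charDegree (χ₀ : G → ℂ) : ℂ) ≠ 0 := by rw [← irr_apply_one]; exact hχ₀1
      have key : ∀ x : G, tildeFun p (χ : G → ℂ) x * conj ((ψ : G → ℂ) x) *
          ((charDegree (χ₀ : G → ℂ) : ℂ)) ^ 2 =
          (charDegree (χ : G → ℂ) : ℂ) * (charDegree (ψ : G → ℂ) : ℂ) *
            (tildeFun p (χ₀ : G → ℂ) x * conj ((χ₀ : G → ℂ) x)) := by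
        intro x
        unfold tildeFun
        by_cases hx : p ∣ orderOf x
        · rw [if_pos hx, if_pos hx]; ring
        · rw [if_neg hx, if_neg hx]
          rw [pRegular_prop_of_blockRank_one hl hχ₀ hχ x hx,
            pRegular_prop_of_blockRank_one hl hχ₀ hψ x hx]
          rw [irr_apply_one χ, irr_apply_one ψ, irr_apply_one χ₀]
          simp only [map_mul, map_div₀, Complex.conj_natCast]
          field_simp
      rw [← tildeInt_spec, ← tildeInt_spec]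
      unfold classInner
      calc ((Nat.card G : ℂ)⁻¹ * ∑ g : G, tildeFun p (χ : G → ℂ) g * conj ((ψ : G → ℂ) g)) *
            ((charDegree (χ₀ : G → ℂ) : ℂ)) ^ 2
          = (Nat.card G : ℂ)⁻¹ * ∑ g : G, tildeFun p (χ : G → ℂ) g * conj ((ψ : G → ℂ) g) *
            ((charDegree (χ₀ : G → ℂ) : ℂ)) ^ 2 := by rw [mul_assoc, Finset.sum_mul]
        _ = (Nat.card G : ℂ)⁻¹ * ∑ g : G, (charDegree (χ : G → ℂ) : ℂ) *
            (charDegree (ψ : G → ℂ) : ℂ) *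
            (tildeFun p (χ₀ : G → ℂ) g * conj ((χ₀ : G → ℂ) g)) := by
          rw [Finset.sum_congr rfl (fun x _ => key x)]
        _ = _ := by rw [← Finset.mul_sum]; ring
    exact_mod_cast h1
  -- E2
  have E2 : ∑ ψ ∈ s, tildeInt p χ₀ ψ * (charDegree (ψ : G → ℂ) : ℤ) =
      (p : ℤ) ^ a * (charDegree (χ₀ : G → ℂ) : ℤ) := by
    have h1 := congrFun (tildeFun_eq_sum (p := p) χ₀) 1
    have h2 : tildeFun p (χ₀ : G → ℂ) 1 = ((p ^ a : ℕ) : ℂ) * (charDegree (χ₀ : G → ℂ) : ℂ) := by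
      unfold tildeFun
      have : ¬ p ∣ orderOf (1 : G) := by
        rw [orderOf_one]
        exact hp.one_lt.ne' ∘ Nat.dvd_one.mp
      rw [if_neg this, irr_apply_one]
    rw [h2] at h1
    simp only [Finset.sum_apply, Pi.smul_apply, smul_eq_mul] at h1
    have h3 : ∑ ψ : IrrCharacter G, (tildeInt p χ₀ ψ : ℂ) * (ψ : G → ℂ) 1 =
        ∑ ψ ∈ s, (tildeInt p χ₀ ψ : ℂ) * (charDegree (ψ : G → ℂ) : ℂ) := by
      rw [hs, Finset.sum_filter]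
      apply Finset.sum_congr rfl
      intro ψ _
      by_cases hψ : ψ ∈ B
      · rw [if_pos hψ, irr_apply_one]
      · rw [if_neg hψ, tildeInt_eq_zero hM hB hχ₀ hψ]; simp
    rw [h3] at h1
    have h4 : ((∑ ψ ∈ s, tildeInt p χ₀ ψ * (charDegree (ψ : G → ℂ) : ℤ) : ℤ) : ℂ) =
        (((p : ℤ) ^ a * (charDegree (χ₀ : G → ℂ) : ℤ) : ℤ) : ℂ) := by
      push_cast
      rw [← h1]
      push_cast
      ring
    exact_mod_cast h4
  have V1 : ∀ χ ∈ s, ∀ ψ ∈ s, (p : ℤ) ^ e ∣ tildeInt p χ ψ := by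
    intro χ _ ψ hψ
    rw [hmem] at hψ
    exact dvd_trans (pow_dvd_pow _ (minVal_le hψ)) (pow_dvd_tildeInt hM χ ψ)
  have V2 : ¬ (p : ℤ) ^ (e + 1) ∣ tildeInt p χ₀ χ₀ := by
    have := (minimal_iff_not_dvd hM hB hχ₀ hχ₀).mp hmin
    rwa [hmin] at this
  obtain ⟨g, d, n, hg0, hd, hn, hea, hsum⟩ := rank_one_arith s
    (fun ψ => charDegree (ψ : G → ℂ)) (fun χ ψ => tildeInt p χ ψ) hp a e χ₀ ((hmem χ₀).mpr hχ₀)
    (fun ψ _ => (irr_charDegree_pos ψ).ne') R1 E2 V1 V2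
  have hgC : (g : ℂ) ≠ 0 := Nat.cast_ne_zero.mpr hg0
  refine ⟨fun x => (g : ℂ) / (χ₀ : G → ℂ) 1 * (χ₀ : G → ℂ) x, d, n, ?_, ?_, ?_⟩
  · intro x hx
    have h1 : ∑ ψ : IrrCharacter G, (if ψ ∈ B then (n ψ : ℂ) * (ψ : G → ℂ) x else 0) =
        ∑ ψ ∈ s, (n ψ : ℂ) * ((charDegree (ψ : G → ℂ) : ℂ) / (χ₀ : G → ℂ) 1 * (χ₀ : G → ℂ) x) := by
      rw [hs, Finset.sum_filter]
      apply Finset.sum_congr rfl
      intro ψ _
      by_cases hψ : ψ ∈ B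
      · rw [if_pos hψ, if_pos hψ, pRegular_prop_of_blockRank_one hl hχ₀ hψ x hx, irr_apply_one ψ]
      · rw [if_neg hψ, if_neg hψ]
    rw [h1]
    have h2 : (g : ℂ) = ∑ ψ ∈ s, (n ψ : ℂ) * (charDegree (ψ : G → ℂ) : ℂ) := by
      have := congrArg (fun z : ℤ => (z : ℂ)) hn
      push_cast at this
      exact this
    show (g : ℂ) / (χ₀ : G → ℂ) 1 * (χ₀ : G → ℂ) x = _
    rw [h2, Finset.sum_div, Finset.sum_mul]
    apply Finset.sum_congr rfl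
    intro ψ _
    ring
  · intro χ hχ x hx
    show _ = (d χ : ℂ) * ((g : ℂ) / (χ₀ : G → ℂ) 1 * (χ₀ : G → ℂ) x)
    rw [pRegular_prop_of_blockRank_one hl hχ₀ hχ x hx, irr_apply_one χ,
      hd χ ((hmem χ).mpr hχ)]
    push_cast
    field_simp
  · have h1 : ∑ χ : IrrCharacter G, (if χ ∈ B then d χ ^ 2 else 0) = ∑ χ ∈ s, d χ ^ 2 := by
      rw [hs, Finset.sum_filter]
    rw [h1, hsum]
    rfl

end rankone

end Cfsg.Agent.Lib.Helper23
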