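import Mathlib
import Cfsg.Agent.Lib.Helper24.C3lDefs

/-!
S5886 toolkit (against `Cfsg.Agent.Lib.Helper24.C3lDefs`): the `E`-dilations
`x ↦ x + ((e - 1) φ x) v` (`φ` an `E`-linear functional with `φ v = 1`): they centralise `E`, are multiplicative in
`e`, and have `F`-determinant `Algebra.norm F e`.  Consequence: the determinant is onto `Fˣ` on the centraliser of `E`.
-/

set_option autoImplicit false

namespace Cfsg.Agent.Lib.Helper23.C3lLeaf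
open Cfsg Matrix Cfsg.Agent.Lib.Helper5 Cfsg.Agent.Lib.Helper5.SpMax Cfsg.Agent.Lib.Helper24.C3l

variable {F : Type*} [Field F] {n : ℕ} {E : Type*} [Field E] [Algebra F E]

local notation "𝕍" => (Fin n → F)
local notation "𝕄" => Matrix (Fin n) (Fin n) F

/-- the matrix of the `E`-dilation `x ↦ x + ((e - 1) φ x) v` -/
noncomputable def dilMat (S : KL n F E) (φ : 𝕍 →ₗ[F] E) (v : 𝕍) (e : E) : 𝕄 :=
  1 + S.tvMat ((LinearMap.mulLeft F (e - 1)).comp φ) v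

lemma dilMat_mulVec (S : KL n F E) (φ : 𝕍 →ₗ[F] E) (v : 𝕍) (e : E) (x : 𝕍) :
    dilMat S φ v e *ᵥ x = x + S.act ((e - 1) * φ x) v := by
  unfold dilMat
  rw [Matrix.add_mulVec, Matrix.one_mulVec, KL.tvMat_mulVec]
  rfl

lemma dilMat_one (S : KL n F E) (φ : 𝕍 →ₗ[F] E) (v : 𝕍) : dilMat S φ v 1 = 1 := by
  apply mat_eq_of_mulVec
  intro x
  rw [dilMat_mulVec, sub_self, zero_mul, S.act_zero, add_zero, Matrix.one_mulVec]

lemma dilMat_mul (S : KL n F E) {φ : 𝕍 →ₗ[F] E} (hφ : S.IsEL φ) {v : 𝕍} (h1 : φ v = 1) (e e' : E) :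
    dilMat S φ v e * dilMat S φ v e' = dilMat S φ v (e * e') := by
  apply mat_eq_of_mulVec
  intro x
  rw [← Matrix.mulVec_mulVec, dilMat_mulVec, dilMat_mulVec, dilMat_mulVec, map_add, hφ, h1, mul_one,
    add_assoc, ← S.act_add]
  congr 2
  ring

/-- the `E`-dilation as an element of `GL` -/
noncomputable def dilGL (S : KL n F E) {φ : 𝕍 →ₗ[F] E} (hφ : S.IsEL φ) {v : 𝕍} (h1 : φ v = 1)
    {e : E} (he : e ≠ 0) : GL (Fin n) F :=
  ⟨dilMat S φ v e, dilMat S φ v e⁻¹,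
    by rw [dilMat_mul S hφ h1, mul_inv_cancel₀ he, dilMat_one],
    by rw [dilMat_mul S hφ h1, inv_mul_cancel₀ he, dilMat_one]⟩

lemma dilGL_val (S : KL n F E) {φ : 𝕍 →ₗ[F] E} (hφ : S.IsEL φ) {v : 𝕍} (h1 : φ v = 1)
    {e : E} (he : e ≠ 0) : ((dilGL S hφ h1 he : GL (Fin n) F) : 𝕄) = dilMat S φ v e := rfl

lemma dilGL_mulVec (S : KL n F E) {φ : 𝕍 →ₗ[F] E} (hφ : S.IsEL φ) {v : 𝕍} (h1 : φ v = 1)
    {e : E} (he : e ≠ 0) (x : 𝕍) :
    ((dilGL S hφ h1 he : GL (Fin n) F) : 𝕄) *ᵥ x = x + S.act ((e - 1) * φ x) v := by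
  rw [dilGL_val, dilMat_mulVec]

lemma dilMat_comm (S : KL n F E) {φ : 𝕍 →ₗ[F] E} (hφ : S.IsEL φ) (v : 𝕍) (e e' : E) :
    dilMat S φ v e * S.ρ e' = S.ρ e' * dilMat S φ v e := by
  apply mat_eq_of_mulVec
  intro x
  rw [← Matrix.mulVec_mulVec, ← Matrix.mulVec_mulVec, dilMat_mulVec, dilMat_mulVec, ← S.act_def,
    ← S.act_def, hφ, S.act_vadd, ← S.act_mul]
  congr 2
  ring

lemma dilGL_comm (S : KL n F E) {φ : 𝕍 →ₗ[F] E} (hφ : S.IsEL φ) {v : 𝕍} (h1 : φ v = 1)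
    {e : E} (he : e ≠ 0) (e' : E) :
    ((dilGL S hφ h1 he : GL (Fin n) F) : 𝕄) * S.ρ e' = S.ρ e' * ((dilGL S hφ h1 he : GL (Fin n) F) : 𝕄) :=
  dilMat_comm S hφ v e e'

/-- the `F`-determinant of the `E`-dilation is the norm -/
lemma det_dilMat [FiniteDimensional F E] (S : KL n F E) {φ : 𝕍 →ₗ[F] E} (hφ : S.IsEL φ) {v : 𝕍}
    (h1 : φ v = 1) (e : E) : (dilMat S φ v e).det = Algebra.norm F e := by
  classical
  set b := Module.finBasis F E with hb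
  set cLin : E →ₗ[F] 𝕍 := (S.orb v).comp (LinearMap.mulLeft F (e - 1)) with hcLin
  set Φ : Matrix (Fin (Module.finrank F E)) (Fin n) F :=
    LinearMap.toMatrix (Pi.basisFun F (Fin n)) b φ with hΦ
  set Cm : Matrix (Fin n) (Fin (Module.finrank F E)) F :=
    LinearMap.toMatrix b (Pi.basisFun F (Fin n)) cLin with hCm
  have h2 : cLin.comp φ = S.tvLin ((LinearMap.mulLeft F (e - 1)).comp φ) v := by
    ext x : 1
    rfl
  have hA : S.tvMat ((LinearMap.mulLeft F (e - 1)).comp φ) v = Cm * Φ := by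
    rw [hCm, hΦ, ← LinearMap.toMatrix_comp, h2, LinearMap.toMatrix_eq_toMatrix']
    rfl
  have h3 : φ.comp cLin = LinearMap.mulLeft F (e - 1) := by
    ext c
    show φ (S.act ((e - 1) * c) v) = (e - 1) * c
    rw [hφ, h1, mul_one]
  have hB : Φ * Cm = Algebra.leftMulMatrix b (e - 1) := by
    rw [hCm, hΦ, ← LinearMap.toMatrix_comp, h3]
    rfl
  unfold dilMat
  rw [hA, Matrix.det_one_add_mul_comm, hB, Algebra.norm_eq_matrix_det b]
  congr 1
  rw [map_sub, map_one]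
  abel

lemma det_dilGL [FiniteDimensional F E] (S : KL n F E) {φ : 𝕍 →ₗ[F] E} (hφ : S.IsEL φ) {v : 𝕍}
    (h1 : φ v = 1) {e : E} (he : e ≠ 0) :
    ((dilGL S hφ h1 he : GL (Fin n) F) : 𝕄).det = Algebra.norm F e :=
  det_dilMat S hφ h1 e

/-- the determinant is onto `Fˣ` on the centraliser of `E` (given one `E`-linear functional `φ` with `φ v = 1`) -/
theorem exists_centralizer_det_eq [Finite E] (S : KL n F E) {φ : 𝕍 →ₗ[F] E} (hφ : S.IsEL φ) {v : 𝕍}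
    (h1 : φ v = 1) (c : Fˣ) :
    ∃ g : GL (Fin n) F, (∀ e : E, (g : 𝕄) * S.ρ e = S.ρ e * (g : 𝕄)) ∧ (g : 𝕄).det = (c : F) := by
  have : FiniteDimensional F E := Module.Finite.of_finite
  obtain ⟨e, he⟩ := FiniteField.norm_surjective F E (c : F)
  have he0 : e ≠ 0 := by
    rintro rfl
    rw [Algebra.norm_zero] at he
    exact c.ne_zero he.symm
  exact ⟨dilGL S hφ h1 he0, dilGL_comm S hφ h1 he0, by rw [det_dilGL, he]⟩

end Cfsg.Agent.Lib.Helper23.C3lLeaf
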