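import Mathlib
import Cfsg.Agent.Lib.Helper24.C3lDefs
import Cfsg.Agent.Lib.Helper24.C3lEL

/-!
S5886 (helper22 market), against `Helper24.C3lDefs / C3lEL`:
* TR `exists_cen_map`: the centraliser of `E` in `SL` is transitive on the non-zero vectors (`finrank F E < n`);
* A  `exists_meet_core`: if `M` (containing that centraliser) is not inside the normaliser, some `g ∈ M` maps the base
  line `L₀` to a subspace meeting `L₀` non-trivially and different from `L₀` (core: the SK statement is a hypothesis);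
* P  `ftv_not_mem_normalizer`: an `F`-transvection does not normalise `E`.
-/

set_option autoImplicit false

namespace Cfsg.Agent.Lib.Helper23.C3lLeaf
open Cfsg Matrix Module Cfsg.Agent.Lib.Helper5 Cfsg.Agent.Lib.Helper5.SpMax Cfsg.Agent.Lib.Helper24.C3l

variable {F : Type*} [Field F] {n : ℕ} {E : Type*} [Field E] [Algebra F E]

local notation "𝕍" => (Fin n → F)
local notation "𝕄" => Matrix (Fin n) (Fin n) F

/-- a matrix commuting with `ρ e` commutes with the action of `e` -/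
lemma mulVec_act_of_comm (S : KL n F E) {s : 𝕄} {e : E} (h : s * S.ρ e = S.ρ e * s) (x : 𝕍) :
    s *ᵥ (S.act e x) = S.act e (s *ᵥ x) := by
  rw [S.act_def, S.act_def, Matrix.mulVec_mulVec, Matrix.mulVec_mulVec, h]

/-- one `E`-transvection moves `u` to any `u'` outside the line of `u` -/
lemma exists_tv_map (S : KL n F E) {u u' : 𝕍} (hu : u ≠ 0) (hu' : u' ∉ S.line u) :
    ∃ s : GL (Fin n) F, s ∈ Cfsg.Geo.specialLinear (Fin n) F ∧
      (∀ e : E, (s : 𝕄) * S.ρ e = S.ρ e * (s : 𝕄)) ∧ (s : 𝕄) *ᵥ u = u' := by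
  have hu'0 : u' ≠ 0 := by
    rintro rfl
    exact hu' (Submodule.zero_mem _)
  have hu2 : u ∉ S.line u' := by
    intro hmem
    have := S.line_eq_of_mem hmem hu
    apply hu'
    rw [this]
    exact S.self_mem_line u'
  obtain ⟨φ1, hφ1, h1a, -, h1b⟩ := S.exists_isEL_line hu2
  obtain ⟨φ2, hφ2, h2a, -, h2b⟩ := S.exists_isEL_line hu'
  have hφ : S.IsEL (φ1 + φ2) := hφ1.add S hφ2
  have hv : (φ1 + φ2) (u' - u) = 0 := by
    rw [map_sub, LinearMap.add_apply, LinearMap.add_apply, h1a, h1b, h2a, h2b]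
    ring
  refine ⟨S.tv (φ1 + φ2) (u' - u) hφ hv, S.tv_mem_specialLinear hφ hv, S.tv_comm hφ hv, ?_⟩
  rw [S.tv_mulVec, LinearMap.add_apply, h1b, h2a, add_zero, S.act_one]
  abel

/-- TR: the centraliser of `E` in `SL` is transitive on the non-zero vectors -/
theorem exists_cen_map [FiniteDimensional F E] (S : KL n F E) (hlt : finrank F E < n) {u u' : 𝕍}
    (hu : u ≠ 0) (hu' : u' ≠ 0) :
    ∃ s : GL (Fin n) F, s ∈ Cfsg.Geo.specialLinear (Fin n) F ∧
      (∀ e : E, (s : 𝕄) * S.ρ e = S.ρ e * (s : 𝕄)) ∧ (s : 𝕄) *ᵥ u = u' := by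
  by_cases hmem : u' ∈ S.line u
  · obtain ⟨w, hw⟩ := S.exists_not_mem_line hlt u
    have hw0 : w ≠ 0 := by
      rintro rfl
      exact hw (Submodule.zero_mem _)
    have hu'w : u' ∉ S.line w := by
      intro h
      have e1 := S.line_eq_of_mem h hu'
      have e2 := S.line_eq_of_mem hmem hu'
      apply hw
      rw [← e2, e1]
      exact S.self_mem_line w
    obtain ⟨s1, hs1, hc1, hm1⟩ := exists_tv_map S hu hw
    obtain ⟨s2, hs2, hc2, hm2⟩ := exists_tv_map S hw0 hu'w
    refine ⟨s2 * s1, (Cfsg.Geo.specialLinear (Fin n) F).mul_mem hs2 hs1, ?_, ?_⟩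
    · intro e
      rw [Units.val_mul, Matrix.mul_assoc, hc1 e, ← Matrix.mul_assoc, hc2 e, Matrix.mul_assoc]
    · rw [Units.val_mul, ← Matrix.mulVec_mulVec, hm1, hm2]
  · exact exists_tv_map S hu hmem

/-- A (core; the SK statement is the hypothesis `hSK`): some `g ∈ M` maps the base line to a subspace meeting it
non-trivially and different from it -/
theorem exists_meet_core [FiniteDimensional F E] (S : KL n F E) (hlt : finrank F E < n)
    (M : Subgroup (GL (Fin n) F)) (hM : S.CenLe M)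
    (hSK : ∀ g : GL (Fin n) F,
      (∀ (v : 𝕍) (e : E), ∃ e' : E, (g : 𝕄) *ᵥ (S.act e v) = S.act e' ((g : 𝕄) *ᵥ v)) →
        g ∈ Cfsg.Geo.subalgebraNormalizer S.ρ.range)
    (hnot : ¬ M ≤ Cfsg.Geo.subalgebraNormalizer S.ρ.range) {v₀ : 𝕍} (hv₀ : v₀ ≠ 0) :
    ∃ g ∈ M, S.line v₀ ⊓ img g (S.line v₀) ≠ ⊥ ∧ img g (S.line v₀) ≠ S.line v₀ := by
  obtain ⟨g, hgM, hgN⟩ := SetLike.not_le_iff_exists.mp hnot
  have hex : ∃ (v : 𝕍) (e : E), ∀ e' : E, (g : 𝕄) *ᵥ (S.act e v) ≠ S.act e' ((g : 𝕄) *ᵥ v) := by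
    by_contra hcon
    push Not at hcon
    exact hgN (hSK g hcon)
  obtain ⟨v, e, hve⟩ := hex
  have hv : v ≠ 0 := by
    rintro rfl
    apply hve 0
    rw [S.act_vzero, Matrix.mulVec_zero, S.act_vzero]
  have hgv : (g : 𝕄) *ᵥ v ≠ 0 := by
    intro h0
    apply hv
    have := inv_mul_mulVec g v
    rw [h0, Matrix.mulVec_zero] at this
    exact this.symm
  obtain ⟨s1, hs1, hc1, hm1⟩ := exists_cen_map S hlt hv₀ hv
  obtain ⟨s2, hs2, hc2, hm2⟩ := exists_cen_map S hlt hgv hv₀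
  have hs1M : s1 ∈ M := hM s1 hs1 hc1
  have hs2M : s2 ∈ M := hM s2 hs2 hc2
  have hg'v : ∀ x : 𝕍, ((s2 * g * s1 : GL (Fin n) F) : 𝕄) *ᵥ x =
      (s2 : 𝕄) *ᵥ ((g : 𝕄) *ᵥ ((s1 : 𝕄) *ᵥ x)) := by
    intro x
    rw [Units.val_mul, Units.val_mul, ← Matrix.mulVec_mulVec, ← Matrix.mulVec_mulVec]
  refine ⟨s2 * g * s1, M.mul_mem (M.mul_mem hs2M hgM) hs1M, ?_, ?_⟩
  · intro hbot
    have hmem : v₀ ∈ S.line v₀ ⊓ img (s2 * g * s1) (S.line v₀) := by
      refine ⟨S.self_mem_line v₀, mem_img.mpr ⟨v₀, S.self_mem_line v₀, ?_⟩⟩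
      rw [hg'v, hm1, hm2]
    rw [hbot, Submodule.mem_bot] at hmem
    exact hv₀ hmem
  · intro heq
    have hmem : ((s2 * g * s1 : GL (Fin n) F) : 𝕄) *ᵥ (S.act e v₀) ∈ S.line v₀ := by
      rw [← heq]
      exact mulVec_mem_img (S.act_mem_line e v₀)
    obtain ⟨e'', he''⟩ := S.mem_line.mp hmem
    apply hve e''
    have h1 : (s2 : 𝕄) *ᵥ ((g : 𝕄) *ᵥ (S.act e v)) = (s2 : 𝕄) *ᵥ (S.act e'' ((g : 𝕄) *ᵥ v)) := by
      rw [mulVec_act_of_comm S (hc2 e''), hm2, he'', hg'v, mulVec_act_of_comm S (hc1 e), hm1]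
    exact mulVec_inj s2 h1

/-- P: an `F`-transvection does not normalise `E` -/
theorem ftv_not_mem_normalizer (S : KL n F E) (hlt : finrank F E < n) (h2 : 2 ≤ finrank F E)
    {p : 𝕍} {χ : 𝕍 →ₗ[F] F} (hp : p ≠ 0) (hχ : χ ≠ 0) (h : χ p = 0) :
    ftv p χ h ∉ Cfsg.Geo.subalgebraNormalizer S.ρ.range := by
  intro hN
  -- an `e` with `e p ∉ F p`
  obtain ⟨e, he⟩ : ∃ e : E, S.act e p ∉ Submodule.span F {p} := by
    by_contra hcon
    push Not at hcon
    have hle : S.line p ≤ Submodule.span F {p} := by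
      intro x hx
      obtain ⟨e, rfl⟩ := S.mem_line.mp hx
      exact hcon e
    have h1 := Submodule.finrank_mono hle
    rw [S.finrank_line hp, finrank_span_singleton hp] at h1
    omega
  have hk : S.ρ e ∈ S.ρ.range := ⟨e, rfl⟩
  obtain ⟨e', he'⟩ := (hN (S.ρ e)).mp hk
  -- `t ρ(e) = ρ(e') t`
  have hcomm : ((ftv p χ h : GL (Fin n) F) : 𝕄) * S.ρ e =
      S.ρ e' * ((ftv p χ h : GL (Fin n) F) : 𝕄) := by
    have h2 : S.ρ e' * ((ftv p χ h : GL (Fin n) F) : 𝕄) =
        ((ftv p χ h : GL (Fin n) F) : 𝕄) * S.ρ e * (((ftv p χ h)⁻¹ : GL (Fin n) F) : 𝕄) *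
          ((ftv p χ h : GL (Fin n) F) : 𝕄) := by
      rw [← he']
      rfl
    rw [h2, Matrix.mul_assoc, ← Units.val_mul, inv_mul_cancel, Units.val_one, Matrix.mul_one]
  have happ : ∀ x : 𝕍, S.act e x + χ (S.act e x) • p = S.act e' (x + χ x • p) := by
    intro x
    have h3 := congrArg (fun A : 𝕄 => A *ᵥ x) hcomm
    simp only [← Matrix.mulVec_mulVec] at h3
    rw [ftv_mulVec, ← S.act_def, ftv_mulVec, ← S.act_def] at h3
    exact h3
  -- `e' = e + c`, `c = χ (e p)`
  set c : F := χ (S.act e p) with hc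
  have hee' : e' = e + algebraMap F E c := by
    have h4 := happ p
    rw [h, zero_smul, add_zero] at h4
    have h5 : S.act (e + algebraMap F E c - e') p = 0 := by
      rw [S.act_sub, S.act_add, S.act_algebraMap, h4, sub_self]
    rcases S.act_eq_zero h5 with h6 | h6
    · exact (sub_eq_zero.mp h6).symm
    · exact absurd h6 hp
  -- the basic identity
  have hid : ∀ x : 𝕍, χ (S.act e x) • p = c • x + χ x • S.act e p + (c * χ x) • p := by
    intro x
    have h4 := happ x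
    rw [hee', S.act_add, S.act_algebraMap, S.act_vadd, S.act_vsmul, smul_add, smul_smul] at h4
    have h5 : χ (S.act e x) • p = (S.act e x + χ (S.act e x) • p) - S.act e x := by abel
    rw [h5, h4]
    abel
  obtain ⟨x1, hx1⟩ : ∃ x1 : 𝕍, χ x1 = 1 := by
    obtain ⟨y, hy⟩ : ∃ y, χ y ≠ 0 := by
      by_contra hcon
      push Not at hcon
      exact hχ (LinearMap.ext hcon)
    exact ⟨(χ y)⁻¹ • y, by rw [map_smul, smul_eq_mul, inv_mul_cancel₀ hy]⟩
  have hc0 : c ≠ 0 := by
    intro hc0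
    apply he
    have h4 := hid x1
    rw [hc0, zero_smul, zero_mul, zero_smul, add_zero, zero_add, hx1, one_smul] at h4
    rw [← h4]
    exact Submodule.smul_mem _ _ (Submodule.mem_span_singleton_self p)
  -- everything lies in `span {p, e p}`
  have htop : (⊤ : Submodule F 𝕍) ≤ Submodule.span F {p} ⊔ Submodule.span F {S.act e p} := by
    intro x _
    have hpm : p ∈ Submodule.span F {p} ⊔ Submodule.span F {S.act e p} :=
      Submodule.mem_sup_left (Submodule.mem_span_singleton_self p)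
    have hem : S.act e p ∈ Submodule.span F {p} ⊔ Submodule.span F {S.act e p} :=
      Submodule.mem_sup_right (Submodule.mem_span_singleton_self _)
    have h4 := hid x
    have h5 : x = c⁻¹ • (χ (S.act e x) • p - χ x • S.act e p - (c * χ x) • p) := by
      rw [h4]
      have : c • x + χ x • S.act e p + (c * χ x) • p - χ x • S.act e p - (c * χ x) • p = c • x := by
        abel
      rw [this, smul_smul, inv_mul_cancel₀ hc0, one_smul]
    rw [h5]
    exact Submodule.smul_mem _ _ (Submodule.sub_mem _ (Submodule.sub_mem _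
      (Submodule.smul_mem _ _ hpm) (Submodule.smul_mem _ _ hem)) (Submodule.smul_mem _ _ hpm))
  have h6 := Submodule.finrank_mono htop
  rw [finrank_top, Module.finrank_fin_fun] at h6
  have h7 := Submodule.finrank_add_le_finrank_add_finrank (Submodule.span F {p})
    (Submodule.span F {S.act e p})
  have hsing : ∀ y : 𝕍, finrank F (Submodule.span F {y}) ≤ 1 := by
    intro y
    have := finrank_span_finset_le_card (R := F) ({y} : Finset 𝕍)
    rw [Set.finrank, Finset.coe_singleton, Finset.card_singleton] at this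
    exact this
  have h8 := hsing p
  have h9 := hsing (S.act e p)
  omega

end Cfsg.Agent.Lib.Helper23.C3lLeaf
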