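import Mathlib
import Cfsg.Agent.Lib.Helper24.C3lDefs
import Cfsg.Agent.Lib.Helper24.C3lEL
import Cfsg.Agent.Lib.Helper23.C3lDet
import Cfsg.Agent.Lib.Helper23.C3lTRA

/-!
S5886 GLUE (against `Helper24.C3lDefs`): from the core statement
`∀ M, S.CenLe M → ¬ M ≤ N → SL ≤ M` (`N` the normaliser of `E`) to
`IsCoatom N ∧ IsMaximalIn SL (N ⊓ SL)`.
Uses P (`ftv_not_mem_normalizer`) and the surjectivity of the determinant on the centraliser (`C3lDet`).
-/

set_option autoImplicit false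

namespace Cfsg.Agent.Lib.Helper23.C3lLeaf
open Cfsg Matrix Module Cfsg.Agent.Lib.Helper5 Cfsg.Agent.Lib.Helper5.SpMax Cfsg.Agent.Lib.Helper24.C3l

variable {F : Type*} [Field F] {n : ℕ} {E : Type*} [Field E] [Algebra F E]

local notation "𝕍" => (Fin n → F)
local notation "𝕄" => Matrix (Fin n) (Fin n) F

/-- the centraliser of `E` lies in the normaliser -/
lemma mem_normalizer_of_comm (S : KL n F E) {g : GL (Fin n) F}
    (hg : ∀ e : E, (g : 𝕄) * S.ρ e = S.ρ e * (g : 𝕄)) :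
    g ∈ Cfsg.Geo.subalgebraNormalizer S.ρ.range := by
  have hconj : ∀ k : 𝕄, k ∈ S.ρ.range → (g : 𝕄) * k * ((g⁻¹ : GL (Fin n) F) : 𝕄) = k := by
    rintro k ⟨e, rfl⟩
    show (g : 𝕄) * S.ρ e * ((g⁻¹ : GL (Fin n) F) : 𝕄) = S.ρ e
    rw [hg e, Matrix.mul_assoc, ← Units.val_mul, mul_inv_cancel, Units.val_one, Matrix.mul_one]
  intro k
  constructor
  · intro hk
    rw [hconj k hk]
    exact hk
  · intro hk
    have h1 := hconj _ hk
    -- `g (g k g⁻¹) g⁻¹ = g k g⁻¹` so `g k g⁻¹ = k`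
    have h2 : (g : 𝕄) * k * ((g⁻¹ : GL (Fin n) F) : 𝕄) = k := by
      have h3 : ((g⁻¹ : GL (Fin n) F) : 𝕄) *
          ((g : 𝕄) * ((g : 𝕄) * k * ((g⁻¹ : GL (Fin n) F) : 𝕄)) * ((g⁻¹ : GL (Fin n) F) : 𝕄)) *
            (g : 𝕄) = ((g⁻¹ : GL (Fin n) F) : 𝕄) *
              ((g : 𝕄) * k * ((g⁻¹ : GL (Fin n) F) : 𝕄)) * (g : 𝕄) := by
        rw [h1]
      have h4 : ∀ X : 𝕄, ((g⁻¹ : GL (Fin n) F) : 𝕄) *
          ((g : 𝕄) * X * ((g⁻¹ : GL (Fin n) F) : 𝕄)) * (g : 𝕄) = X := by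
        intro X
        rw [Matrix.mul_assoc, Matrix.mul_assoc, Matrix.mul_assoc, ← Units.val_mul, inv_mul_cancel,
          Units.val_one, Matrix.mul_one, ← Matrix.mul_assoc, ← Units.val_mul, inv_mul_cancel,
          Units.val_one, Matrix.one_mul]
      rw [h4, h4] at h3
      exact h3
    rw [← h2]
    exact hk

/-- the centraliser of `E` in `SL` lies in `M` as soon as `N ⊓ SL ≤ M` -/
lemma cenLe_of_le (S : KL n F E) {M : Subgroup (GL (Fin n) F)}
    (h : Cfsg.Geo.subalgebraNormalizer S.ρ.range ⊓ Cfsg.Geo.specialLinear (Fin n) F ≤ M) :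
    S.CenLe M :=
  fun _ hg hc => h ⟨mem_normalizer_of_comm S hc, hg⟩

/-- a non-trivial `F`-transvection exists when `2 ≤ n` -/
lemma exists_ftv (hn : 2 ≤ n) :
    ∃ (p : 𝕍) (χ : 𝕍 →ₗ[F] F) (_ : χ p = 0), p ≠ 0 ∧ χ ≠ 0 := by
  refine ⟨Pi.single ⟨0, by omega⟩ 1, LinearMap.proj ⟨1, by omega⟩, ?_, ?_, ?_⟩
  · simp [LinearMap.proj_apply]
  · intro h0
    have := congrFun h0 ⟨0, by omega⟩
    simp at this
  · intro h0
    have := LinearMap.congr_fun h0 (Pi.single ⟨1, by omega⟩ 1)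
    simp [LinearMap.proj_apply] at this

/-- GLUE: the frozen conclusion from the core statement. -/
theorem coatom_and_maximal_of_core [Finite E] (S : KL n F E) (hlt : finrank F E < n)
    (h2 : 2 ≤ finrank F E)
    (hcore : ∀ M : Subgroup (GL (Fin n) F), S.CenLe M →
      ¬ M ≤ Cfsg.Geo.subalgebraNormalizer S.ρ.range → Cfsg.Geo.specialLinear (Fin n) F ≤ M) :
    IsCoatom (Cfsg.Geo.subalgebraNormalizer S.ρ.range) ∧
      Cfsg.Geo.IsMaximalIn (Cfsg.Geo.specialLinear (Fin n) F)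
        (Cfsg.Geo.subalgebraNormalizer S.ρ.range ⊓ Cfsg.Geo.specialLinear (Fin n) F) := by
  have hn2 : 2 ≤ n := by omega
  obtain ⟨p, χ, hχp, hp, hχ⟩ := exists_ftv (F := F) hn2
  have htN : ftv p χ hχp ∉ Cfsg.Geo.subalgebraNormalizer S.ρ.range :=
    ftv_not_mem_normalizer S hlt h2 hp hχ hχp
  have htSL : ftv p χ hχp ∈ Cfsg.Geo.specialLinear (Fin n) F := ftv_mem_specialLinear hχp
  obtain ⟨φ, hφ, hφ1⟩ := S.exists_isEL_one hp
  constructor
  · -- coatom
    constructor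
    · intro htop
      apply htN
      rw [htop]
      exact Subgroup.mem_top _
    · intro M hlt'
      have hle : Cfsg.Geo.subalgebraNormalizer S.ρ.range ≤ M := le_of_lt hlt'
      have hnot : ¬ M ≤ Cfsg.Geo.subalgebraNormalizer S.ρ.range := not_le_of_gt hlt'
      have hSL : Cfsg.Geo.specialLinear (Fin n) F ≤ M :=
        hcore M (cenLe_of_le S (le_trans inf_le_left hle)) hnot
      rw [eq_top_iff]
      intro x _
      -- `c = det x`
      have hdet : IsUnit (x : 𝕄).det := by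
        rw [← Matrix.isUnit_iff_isUnit_det]
        exact x.isUnit
      obtain ⟨c, hc⟩ := hdet
      obtain ⟨g, hgc, hgd⟩ := exists_centralizer_det_eq S hφ hφ1 c
      have hgM : g ∈ M := hle (mem_normalizer_of_comm S hgc)
      have hgx : g⁻¹ * x ∈ Cfsg.Geo.specialLinear (Fin n) F := by
        rw [mem_specialLinear, Units.val_mul, Matrix.det_mul, Matrix.coe_units_inv,
          Matrix.det_nonsing_inv, hgd, hc, Ring.inverse_mul_cancel _ ⟨c, hc⟩]
      have : x = g * (g⁻¹ * x) := by group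
      rw [this]
      exact M.mul_mem hgM (hSL hgx)
  · -- maximal in `SL`
    constructor
    · refine lt_of_le_of_ne inf_le_right ?_
      intro heq
      apply htN
      have : ftv p χ hχp ∈ Cfsg.Geo.subalgebraNormalizer S.ρ.range ⊓
          Cfsg.Geo.specialLinear (Fin n) F := by
        rw [heq]
        exact htSL
      exact this.1
    · intro M hle hMS
      by_cases hMN : M ≤ Cfsg.Geo.subalgebraNormalizer S.ρ.range
      · left
        exact le_antisymm (le_inf hMN hMS) hle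
      · right
        exact le_antisymm hMS (hcore M (cenLe_of_le S hle) hMN)

end Cfsg.Agent.Lib.Helper23.C3lLeaf
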