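import Mathlib
import Cfsg.Agent.Lib.Helper23.C3lL0
import Cfsg.Agent.Lib.Helper23.C3lGlue

/-!
S5886: the frozen conclusion (for a field subalgebra `K` of prime degree `r < n`) from the core statement about
`KL` structures: `L0` + `GLUE`.
-/

set_option autoImplicit false

namespace Cfsg.Agent.Lib.Helper23.C3lLeaf
open Cfsg Matrix Module Cfsg.Agent.Lib.Helper24.C3l

universe u

/-- the frozen conclusion of S5886 from the core statement -/
theorem frozen_of_core {F : Type u} [Field F] [Fintype F] (n r : ℕ) (hr : r.Prime) (hlt : r < n)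
    (K : Subalgebra F (Matrix (Fin n) (Fin n) F)) (hK : Cfsg.Geo.IsFieldSubalgebra r K)
    (hcore : ∀ (E : Type u) [Field E] [Algebra F E] (S : KL n F E), finrank F E = r →
      ∀ M : Subgroup (GL (Fin n) F), S.CenLe M →
        ¬ M ≤ Cfsg.Geo.subalgebraNormalizer S.ρ.range → Cfsg.Geo.specialLinear (Fin n) F ≤ M) :
    IsCoatom (Cfsg.Geo.subalgebraNormalizer K) ∧
      Cfsg.Geo.IsMaximalIn (Cfsg.Geo.specialLinear (Fin n) F)
        (Cfsg.Geo.subalgebraNormalizer K ⊓ Cfsg.Geo.specialLinear (Fin n) F) := by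
  obtain ⟨E, instE, instA, S, hS, hrE⟩ := exists_KL (by omega) r K hK
  have hfd : FiniteDimensional F E := Module.finite_of_finrank_pos (by rw [hrE]; exact hr.pos)
  have hfin : Finite E := Module.finite_of_finite F
  have := coatom_and_maximal_of_core S (by rw [hrE]; exact hlt) (by rw [hrE]; exact hr.two_le)
    (hcore E S hrE)
  rw [hS] at this
  exact this

end Cfsg.Agent.Lib.Helper23.C3lLeaf
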