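import Mathlib
import Cfsg.Prelude.Def_GeometricClasses
import Cfsg.Agent.Lib.Helper18.ReidxDefs

/-!
REINDEX / TRANSPORT block (helper18's market), packet P3: tensor, wreath, subfield groups (helper23).
-/

set_option autoImplicit false
set_option linter.unusedSectionVars false
set_option linter.unusedVariables false

namespace Cfsg.Agent.Lib.Helper23.ReidxLeaf
open Matrix Cfsg Cfsg.Geo Cfsg.Agent.Lib.Helper18.Reidx
open scoped Kronecker

variable {F : Type*} [Field F] {ι κ : Type} [Fintype ι] [DecidableEq ι] [Fintype κ] [DecidableEq κ]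

/-- pushing a conjugate: `rg e (H^P) = (rg e H)^(glReindex e P)` -/
theorem rg_map_conj (e : ι ≃ κ) (H : Subgroup (GL ι F)) (P : GL ι F) :
    rg e (H.map (MulAut.conj P).toMonoidHom) =
      (rg e H).map (MulAut.conj (glReindex e P)).toMonoidHom := by
  unfold rg
  rw [Subgroup.map_map, Subgroup.map_map]
  congr 1
  ext g : 1
  simp only [MonoidHom.coe_comp, Function.comp_apply, MulEquiv.coe_toMonoidHom, MulAut.conj_apply,
    map_mul, map_inv]

/-- composing two reindexings -/
theorem glReindex_trans {μ : Type} [Fintype μ] [DecidableEq μ] (e₁ : ι ≃ κ) (e₂ : κ ≃ μ) (g : GL ι F) :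
    glReindex e₂ (glReindex e₁ g) = glReindex (e₁.trans e₂) g := by
  apply Units.ext
  ext a b
  rfl

/-- pushing a reindexed group -/
theorem rg_map_glReindex {μ : Type} [Fintype μ] [DecidableEq μ] (e₀ : ι ≃ κ) (e : ι ≃ μ)
    (S : Subgroup (GL μ F)) :
    rg e₀ (S.map (glReindex e.symm).toMonoidHom) =
      S.map (glReindex (e₀.symm.trans e).symm).toMonoidHom := by
  unfold rg
  rw [Subgroup.map_map]
  congr 1

theorem rg_tensorProductSubgroup (e₀ : ι ≃ κ) (n₁ n₂ : ℕ) (e : ι ≃ Fin n₁ × Fin n₂) (P : GL ι F) :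
    rg e₀ (tensorProductSubgroup n₁ n₂ e P) = tensorProductSubgroup n₁ n₂ (e₀.symm.trans e) (glReindex e₀ P) := by
  unfold tensorProductSubgroup
  rw [rg_map_conj, rg_map_glReindex]

theorem rg_tensorWreathSubgroup (e₀ : ι ≃ κ) (m t : ℕ) (e : ι ≃ (Fin t → Fin m)) (P : GL ι F) :
    rg e₀ (tensorWreathSubgroup m t e P) = tensorWreathSubgroup m t (e₀.symm.trans e) (glReindex e₀ P) := by
  unfold tensorWreathSubgroup
  rw [rg_map_conj, rg_map_glReindex]

/-- pushing the scalars (local copy; the market's `rg_scalars` is in packet P4) -/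
theorem rg_scalars_p3 (e : ι ≃ κ) : rg e (scalars ι F) = scalars κ F := by
  ext g
  rw [mem_rg]
  constructor
  · rintro ⟨h, hh, rfl⟩
    rw [mem_scalars_iff] at hh ⊢
    obtain ⟨c, hc⟩ := hh
    refine ⟨c, ?_⟩
    rw [glReindex_val, hc]
    ext a b
    simp only [rm_apply, Matrix.smul_apply, Matrix.one_apply, EmbeddingLike.apply_eq_iff_eq]
  · intro hg
    rw [mem_scalars_iff] at hg
    obtain ⟨c, hc⟩ := hg
    refine ⟨(glReindex e).symm g, ?_, MulEquiv.apply_symm_apply _ _⟩
    rw [mem_scalars_iff]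
    refine ⟨c, ?_⟩
    have h1 : ((glReindex e).symm g : Matrix ι ι F) = rm e.symm (g : Matrix κ κ F) := rfl
    rw [h1, hc]
    ext a b
    simp only [rm_apply, Matrix.smul_apply, Matrix.one_apply, EmbeddingLike.apply_eq_iff_eq]

/-- pushing the group of invertible matrices with entries in `F₀` -/
theorem rg_range_map_subtype (e : ι ≃ κ) (F₀ : Subfield F) :
    rg e (Matrix.GeneralLinearGroup.map (n := ι) (F₀.subtype : F₀ →+* F)).range =
      (Matrix.GeneralLinearGroup.map (n := κ) (F₀.subtype : F₀ →+* F)).range := by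
  ext g
  rw [mem_rg]
  constructor
  · rintro ⟨h, ⟨x, rfl⟩, rfl⟩
    refine ⟨glReindex e x, ?_⟩
    apply Units.ext
    ext a b
    rfl
  · rintro ⟨x, rfl⟩
    refine ⟨_, ⟨(glReindex e).symm x, rfl⟩, ?_⟩
    apply Units.ext
    ext a b
    change (F₀.subtype) (((glReindex e).symm x : Matrix ι ι F₀) (e.symm a) (e.symm b)) = _
    have h1 : ((glReindex e).symm x : Matrix ι ι F₀) = rm e.symm (x : Matrix κ κ F₀) := rfl
    rw [h1]
    simp only [rm_apply, Equiv.symm_symm, Equiv.apply_symm_apply]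
    rfl

theorem rg_subfieldSubgroup (e : ι ≃ κ) (F₀ : Subfield F) (P : GL ι F) :
    rg e (subfieldSubgroup F₀ P) = subfieldSubgroup F₀ (glReindex e P) := by
  unfold subfieldSubgroup
  rw [rg_map_conj]
  congr 1
  have : rg e ((Matrix.GeneralLinearGroup.map (n := ι) (F₀.subtype : F₀ →+* F)).range ⊔ scalars ι F) =
      rg e (Matrix.GeneralLinearGroup.map (n := ι) (F₀.subtype : F₀ →+* F)).range ⊔ rg e (scalars ι F) := by
    unfold rg
    exact Subgroup.map_sup _ _ _
  rw [this, rg_range_map_subtype, rg_scalars_p3]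

end Cfsg.Agent.Lib.Helper23.ReidxLeaf
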