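import Mathlib
import Cfsg.Prelude.Def_GeometricClasses
import Cfsg.Agent.Lib.Helper18.ReidxDefs

/-!
REINDEX / TRANSPORT block (helper18's market), packet P8: tensor form structures and rational structures (helper23).
-/

set_option autoImplicit false
set_option linter.unusedSectionVars false
set_option linter.unusedVariables false

namespace Cfsg.Agent.Lib.Helper23.ReidxLeaf
open Matrix Cfsg Cfsg.Geo Cfsg.Agent.Lib.Helper18.Reidx
open scoped Kronecker

variable {F : Type*} [Field F] {ι κ : Type} [Fintype ι] [DecidableEq ι] [Fintype κ] [DecidableEq κ]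

/-- a coordinate vector read through the composite bijection is the pushed vector -/
theorem comp_trans_eq_rv {μ : Type} (e₀ : ι ≃ κ) (e : ι ≃ μ) (x : μ → F) :
    x ∘ (e₀.symm.trans e) = rv e₀ (x ∘ e) := by
  ext k
  rfl

/-- the pushed matrix applied to a vector, pulled back -/
theorem rv_symm_rm_mulVec (e : ι ≃ κ) (M : Matrix ι ι F) (u : κ → F) :
    (rv e).symm (rm e M *ᵥ u) = M *ᵥ (rv e).symm u := by
  have h := rm_mulVec e M ((rv e).symm u)
  rw [LinearEquiv.apply_symm_apply] at h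
  rw [h, LinearEquiv.symm_apply_apply]

theorem isTensorFormStructure_r (e₀ : ι ≃ κ) {σ : F → F} {f : (ι → F) → (ι → F) → F} {n₁ n₂ : ℕ}
    {f₁ : (Fin n₁ → F) → (Fin n₁ → F) → F} {f₂ : (Fin n₂ → F) → (Fin n₂ → F) → F}
    {e : ι ≃ Fin n₁ × Fin n₂} {P : GL ι F} (h : IsTensorFormStructure σ f f₁ f₂ e P) :
    IsTensorFormStructure σ (rf e₀ f) f₁ f₂ (e₀.symm.trans e) (glReindex e₀ P) := by
  obtain ⟨c, hc, hxy⟩ := h
  refine ⟨c, hc, fun x y => ?_⟩
  rw [glReindex_val, comp_trans_eq_rv, comp_trans_eq_rv, rm_mulVec, rm_mulVec, rf_rv]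
  exact hxy x y

theorem isTensorPowerFormStructure_r (e₀ : ι ≃ κ) {σ : F → F} {f : (ι → F) → (ι → F) → F} {k t : ℕ}
    {f₁ : (Fin k → F) → (Fin k → F) → F} {e : ι ≃ (Fin t → Fin k)} {P : GL ι F}
    (h : IsTensorPowerFormStructure σ f f₁ e P) :
    IsTensorPowerFormStructure σ (rf e₀ f) f₁ (e₀.symm.trans e) (glReindex e₀ P) := by
  obtain ⟨c, hc, hxy⟩ := h
  refine ⟨c, hc, fun x y => ?_⟩
  rw [glReindex_val, comp_trans_eq_rv, comp_trans_eq_rv, rm_mulVec, rm_mulVec, rf_rv]
  exact hxy x y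

theorem isFormRationalStructure_r (e : ι ≃ κ) {f : (ι → F) → (ι → F) → F} {F₀ : Subfield F} {ζ : F} {P : GL ι F}
    (h : IsFormRationalStructure f F₀ ζ P) : IsFormRationalStructure (rf e f) F₀ ζ (glReindex e P) := by
  intro u v hu hv
  rw [glReindex_val]
  unfold rf
  rw [rv_symm_rm_mulVec, rv_symm_rm_mulVec]
  refine h _ _ (fun i => ?_) (fun i => ?_)
  · rw [rv_symm_apply]; exact hu _
  · rw [rv_symm_apply]; exact hv _

theorem isQuadFormRationalStructure_r (e : ι ≃ κ) {Q : (ι → F) → F} {F₀ : Subfield F} {P : GL ι F}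
    (h : IsQuadFormRationalStructure Q F₀ P) : IsQuadFormRationalStructure (rq e Q) F₀ (glReindex e P) := by
  intro u hu
  rw [glReindex_val]
  unfold rq
  rw [rv_symm_rm_mulVec]
  refine h _ (fun i => ?_)
  rw [rv_symm_apply]; exact hu _

end Cfsg.Agent.Lib.Helper23.ReidxLeaf
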