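/-
helper23: if the central character of a block B with defect group P is nonzero mod M at g, some conjugate
of g centralizes P and has p-part in Z(P) (`conj_centralizes_defectGroup`); blocks of defect zero vanish
at p-singular elements; normal defect group => central character supported on p-regular cosets.
-/
import Mathlib
import Cfsg.Agent.Lib.Helper6.FirstMain
import Cfsg.Agent.Lib.Helper6.PRegular
import Cfsg.Agent.Lib.Helper23.QuotDefectP
import Cfsg.Agent.Lib.Helper23.DefectZeroIrr
import Cfsg.Agent.Lib.Helper23.DefectRadical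
import Cfsg.Agent.Lib.Helper25.Inflate

set_option autoImplicit false
open Cfsg Cfsg.Agent.CharLib Cfsg.Agent.Lib.Helper24 Cfsg.Agent.Lib.Helper6 Cfsg.Agent.Lib.Helper25
open scoped ComplexConjugate

namespace Cfsg.Agent.Lib.Helper23

universe u

section dz

variable {G : Type u} [Group G] [Finite G]

/-- Members of a block of defect zero vanish at `p`-singular elements. -/
theorem irr_vanish_of_blockDefect_zero {p : ℕ} [hpp : Fact p.Prime] (B : Set (IrrCharacter G))
    (hB0 : blockDefect p B = 0) (β : IrrCharacter G) (hβ : β ∈ B) (y : G) (hy : p ∣ orderOf y) :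
    (β : G → ℂ) y = 0 := by
  have hp : p.Prime := hpp.out
  unfold blockDefect at hB0
  have h1 := Nat.sub_eq_zero_iff_le.mp hB0
  have h2 : sInf ((fun χ : IrrCharacter G => (charDegree (χ : G → ℂ)).factorization p) '' B) ≤
      (charDegree (β : G → ℂ)).factorization p := Nat.sInf_le ⟨β, hβ, rfl⟩
  have h3 : p ^ (Nat.card G).factorization p ∣ charDegree (β : G → ℂ) :=
    (hp.pow_dvd_iff_le_factorization (irr_charDegree_pos β).ne').mpr (h1.trans h2)
  exact irr_eq_zero_of_defect_zero β p hp h3 y hy

/-- The `p`-part of `x` is `x` times the inverse of a power of `x`. -/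
theorem IsPPart.eq_mul_inv_pow {p : ℕ} [hpp : Fact p.Prime] {x a : G} (h : IsPPart p x a) :
    ∃ c : ℕ, a = x * (x ^ c)⁻¹ := by
  obtain ⟨_, _, _, c, d, k, hc, _, _⟩ := IsPPart.exists_pow h
  refine ⟨c, ?_⟩
  rw [hc]
  group

end dz

section main

variable {G : Type u} [Group G] [Finite G] {M : Ideal AlgInt}

/-- In a group `N` with a normal `p`-subgroup `Q` that is a defect group of the block `b`: if the
central character of `b` does not vanish modulo the ideal at `h`, the image of `h` in `N ⧸ Q` is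
`p`-regular. -/
theorem pRegular_mk_of_normal_defectGroup {p : ℕ} [hpp : Fact p.Prime] (hM : IsPModular p M)
    (Q : Subgroup G) [Q.Normal] (hQ : IsPGroup p Q) (b : Set (IrrCharacter G)) (hb : IsPBlock M b)
    (hQb : IsDefectGroup p M b Q) (h : G)
    (hh : ∃ ξ ∈ b, ¬ MemLocalIdeal M (centralChar (ξ : G → ℂ) h)) :
    ¬ p ∣ orderOf (h : G ⧸ Q) := by
  classical
  have hprime : M.IsPrime := isPrime_of_isPModular hM
  obtain ⟨Bbar, hBbar, hsub, hdef⟩ := normal_p_subgroup_quotient_block p hM Q hQ b hb
  have hbot : IsDefectGroup p M Bbar ⊥ := by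
    rw [hdef]
    refine ⟨Q, hQb, ?_⟩
    symm
    rw [eq_bot_iff]
    rintro _ ⟨n, hn, rfl⟩
    rw [Subgroup.mem_bot]
    exact (QuotientGroup.eq_one_iff n).mpr hn
  have hcard := card_defectGroup_eq hM Bbar hBbar ⊥ hbot
  have hd0 : blockDefect p Bbar = 0 := by
    rw [Subgroup.card_bot] at hcard
    by_contra hne
    have h2 : 1 < p ^ blockDefect p Bbar := Nat.one_lt_pow hne hpp.out.one_lt
    omega
  obtain ⟨β, hβ⟩ : ∃ β : IrrCharacter (G ⧸ Q), β ∈ Bbar := by
    obtain ⟨β₀, rfl⟩ := hBbar
    exact ⟨β₀, mem_blockOf_self β₀⟩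
  have hξb : inflateIrr Q β ∈ b := hsub β hβ (inflateIrr Q β) rfl
  obtain ⟨ξ, hξ, hξh⟩ := hh
  -- transfer to the inflated character
  have hsame : SameBlock M (ξ : G → ℂ) ((inflateIrr Q β : IrrCharacter G) : G → ℂ) := by
    obtain ⟨ξ₀, rfl⟩ := hb
    exact sameBlock_trans (sameBlock_symm hξ) hξb
  intro hdiv
  apply hξh
  have h0 : centralChar ((inflateIrr Q β : IrrCharacter G) : G → ℂ) h = 0 := by
    unfold centralChar
    rw [inflateIrr_apply, irr_vanish_of_blockDefect_zero Bbar hd0 β hβ _ hdiv, mul_zero, zero_div]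
  have h1 := hsame h
  rw [h0, sub_zero] at h1
  exact h1

/-- If the central character of a block `B` with defect group `P` does not vanish modulo the ideal
at `g`, some conjugate of `g` centralizes `P` and has its `p`-part in `Z(P)`. -/
theorem conj_centralizes_defectGroup (p : ℕ) [hpp : Fact p.Prime] (hM : Cfsg.IsPModular p M)
    (B : Set (Cfsg.IrrCharacter G)) (hB : Cfsg.IsPBlock M B) (P : Subgroup G)
    (hP : Cfsg.IsDefectGroup p M B P) (g : G)
    (hg : ∃ χ ∈ B, ¬ Cfsg.MemLocalIdeal M (Cfsg.centralChar (χ : G → ℂ) g)) :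
    ∃ x : G, IsConj g x ∧ x ∈ Subgroup.centralizer (P : Set G) ∧
      ∀ z : G, Cfsg.IsPPart p x z → z ∈ P ∧ ∀ w ∈ P, z * w = w * z := by
  classical
  let _ := Fintype.ofFinite G
  let _ : Fintype (Subgroup.normalizer (P : Set G)) := Fintype.ofFinite _
  let _ : Fintype (ConjClasses (Subgroup.normalizer (P : Set G))) := Fintype.ofFinite _
  have hprime : M.IsPrime := isPrime_of_isPModular hM
  have hPp : IsPGroup p P := isPGroup_of_isDefectGroup' p M B P hP
  obtain ⟨b, hb, hbP, hind⟩ := exists_block_normalizer hM P hPp B hB hP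
  obtain ⟨χ, hχ, hχg⟩ := hg
  obtain ⟨ξ, hξ⟩ : ∃ ξ : IrrCharacter (Subgroup.normalizer (P : Set G)), ξ ∈ b := by
    obtain ⟨ξ₀, rfl⟩ := hb
    exact ⟨ξ₀, mem_blockOf_self ξ₀⟩
  -- the Brauer central character at `g` is nonzero
  have h1 : ¬ MemLocalIdeal M (inducedCentralChar (Subgroup.normalizer (P : Set G))
      (ξ : Subgroup.normalizer (P : Set G) → ℂ) g) := by
    intro hc
    apply hχg
    have h2 := hind.2.2 ξ hξ χ hχ g
    have h3 := memLocalIdeal_sub hc h2
    rwa [sub_sub_cancel] at h3
  have h2 : ¬ MemLocalIdeal M (brauerCentralChar P (Subgroup.normalizer (P : Set G))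
      (ξ : Subgroup.normalizer (P : Set G) → ℂ) g) := by
    intro hc
    apply h1
    have h3 := memLocalIdeal_inducedCentralChar_sub_brauerCentralChar hM P
      (Subgroup.normalizer (P : Set G)) hPp Subgroup.le_normalizer le_rfl ξ g
    have h4 := memLocalIdeal_add h3 hc
    rwa [sub_add_cancel] at h4
  rw [brauerCentralChar_eq_omegaFun, omegaFun_eq_sum_conjClasses ξ
    (brFun_isClassFunction P _ le_rfl (classInd_isClassFunction g))] at h2
  obtain ⟨C, hC⟩ : ∃ C : ConjClasses (Subgroup.normalizer (P : Set G)), ¬ MemLocalIdeal M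
      (brFun P (Subgroup.normalizer (P : Set G)) (classInd g) (Quotient.out C) *
        centralChar (ξ : Subgroup.normalizer (P : Set G) → ℂ) (Quotient.out C)) := by
    by_contra hcon
    push Not at hcon
    exact h2 (sum_memLocalIdeal _ _ (fun C _ => hcon C))
  set h := Quotient.out C with hh
  have hhC : (h : G) ∈ Subgroup.centralizer (P : Set G) := by
    by_contra hne
    apply hC
    rw [brFun_of_not_mem P _ _ hne, zero_mul]
    exact memLocalIdeal_zero hprime.one_notMem
  have hconj : IsConj g (h : G) := by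
    by_contra hne
    apply hC
    rw [brFun_of_mem P _ _ hhC]
    unfold classInd
    rw [if_neg hne, zero_mul]
    exact memLocalIdeal_zero hprime.one_notMem
  have hωh : ¬ MemLocalIdeal M
      (centralChar (ξ : Subgroup.normalizer (P : Set G) → ℂ) h) := by
    intro hc
    apply hC
    exact memLocalIdeal_mul_left (brFun_memLocalRing P _ (memLocalRing_classInd g) h) hc
  -- the image of `h` modulo `P` is `p`-regular
  have hnorm : (P.subgroupOf (Subgroup.normalizer (P : Set G))).Normal :=
    Subgroup.normal_in_normalizer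
  have hreg := pRegular_mk_of_normal_defectGroup hM
    (P.subgroupOf (Subgroup.normalizer (P : Set G))) hPp.comap_subtype b hb hbP h ⟨ξ, hξ, hωh⟩
  refine ⟨(h : G), hconj, hhC, ?_⟩
  intro z hz
  obtain ⟨c, hzc⟩ := IsPPart.eq_mul_inv_pow hz
  have hzcomm : ∀ w ∈ P, z * w = w * z := by
    intro w hw
    have h3 : Commute w (h : G) := (Subgroup.mem_centralizer_iff.mp hhC w hw)
    have h4 : Commute w z := by
      rw [hzc]
      exact h3.mul_right (h3.pow_right c).inv_right
    exact h4.eq.symm
  refine ⟨?_, hzcomm⟩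
  -- `z ∈ N`, and its image in `N ⧸ P` is trivial
  have hzN : z ∈ Subgroup.normalizer (P : Set G) := by
    rw [hzc]
    exact Subgroup.mul_mem _ h.2 (Subgroup.inv_mem _ (Subgroup.pow_mem _ h.2 c))
  set z' : Subgroup.normalizer (P : Set G) := ⟨z, hzN⟩ with hz'
  have hz'eq : z' = h * (h ^ c)⁻¹ := by
    apply Subtype.ext
    simp only [hz', Subgroup.coe_mul, Subgroup.coe_inv, Subgroup.coe_pow]
    exact hzc
  obtain ⟨y, hxy, hcomm, ⟨k, hk⟩, hy⟩ := hz
  have ho1 : orderOf ((z' : Subgroup.normalizer (P : Set G)) :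
      Subgroup.normalizer (P : Set G) ⧸ P.subgroupOf (Subgroup.normalizer (P : Set G))) ∣ p ^ k := by
    have h3 := orderOf_map_dvd (QuotientGroup.mk' (P.subgroupOf (Subgroup.normalizer (P : Set G)))) z'
    have h4 : orderOf z' = orderOf z := by
      rw [← Subgroup.orderOf_coe]
    rw [h4, hk] at h3
    exact h3
  have ho2 : orderOf ((z' : Subgroup.normalizer (P : Set G)) :
      Subgroup.normalizer (P : Set G) ⧸ P.subgroupOf (Subgroup.normalizer (P : Set G))) ∣
      orderOf ((h : Subgroup.normalizer (P : Set G)) :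
        Subgroup.normalizer (P : Set G) ⧸ P.subgroupOf (Subgroup.normalizer (P : Set G))) := by
    rw [hz'eq, QuotientGroup.mk_mul, QuotientGroup.mk_inv, QuotientGroup.mk_pow]
    apply orderOf_dvd_of_pow_eq_one
    set q := ((h : Subgroup.normalizer (P : Set G)) :
      Subgroup.normalizer (P : Set G) ⧸ P.subgroupOf (Subgroup.normalizer (P : Set G))) with hq
    have h5 : Commute q ((q ^ c)⁻¹) := (Commute.refl q).pow_right c |>.inv_right
    rw [h5.mul_pow, pow_orderOf_eq_one, one_mul, inv_pow, ← pow_mul, mul_comm, pow_mul,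
      pow_orderOf_eq_one, one_pow, inv_one]
  have ho3 : orderOf ((z' : Subgroup.normalizer (P : Set G)) :
      Subgroup.normalizer (P : Set G) ⧸ P.subgroupOf (Subgroup.normalizer (P : Set G))) = 1 := by
    obtain ⟨j, -, hj⟩ := (Nat.dvd_prime_pow hpp.out).mp ho1
    rcases Nat.eq_zero_or_pos j with rfl | hj0
    · rw [hj, pow_zero]
    · exfalso
      apply hreg
      refine dvd_trans ?_ ho2
      rw [hj]
      exact dvd_pow_self p hj0.ne'
  rw [orderOf_eq_one_iff, QuotientGroup.eq_one_iff] at ho3
  exact Subgroup.mem_subgroupOf.mp ho3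

end main

end Cfsg.Agent.Lib.Helper23
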