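import Mathlib
import Cfsg.Agent.Lib.Helper6.PDDefs
import Cfsg.Agent.Lib.Helper5.PrimeDeg

/-!
# S3611 market "PD", leaf PDCOORD (helper23, twin)

A Sylow `p`-subgroup of a transitive faithful group of prime degree `p` is generated by an element
acting as `j ↦ j + 1` in suitable coordinates.
-/

set_option autoImplicit false

namespace Cfsg.Agent.Lib.Helper23.PDCOORD

open Module MulAction Cfsg.Agent.Lib.Helper6.PD

/-- `p²` does not divide `p!` -/
theorem not_sq_dvd_factorial' {p : ℕ} (hp : p.Prime) : ¬ p * p ∣ p.factorial := by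
  intro h
  have h1 : p.factorial = p * (p - 1).factorial := by
    rw [Nat.mul_factorial_pred hp.ne_zero]
  rw [h1] at h
  have h2 : p ∣ (p - 1).factorial := Nat.dvd_of_mul_dvd_mul_left hp.pos h
  have h3 := (hp.dvd_factorial).mp h2
  have := hp.pos
  omega

/-- **PDCOORD**.  A Sylow `p`-subgroup is generated by an element acting as `j ↦ j + 1` in suitable
coordinates. -/
theorem PDCOORD {G Ω : Type*} [Group G] [Finite G] [MulAction G Ω] [FaithfulSMul G Ω] [Fintype Ω]
    [DecidableEq Ω] {p : ℕ} [Fact p.Prime] (hΩ : Fintype.card Ω = p)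
    (htrans : MulAction.IsPretransitive G Ω) (P : Sylow p G) :
    ∃ (x : G) (e : ZMod p ≃ Ω), x ∈ (P : Subgroup G) ∧
      (∀ y ∈ (P : Subgroup G), ∃ k : ℕ, y = x ^ k) ∧ ∀ j : ZMod p, x • e j = e (j + 1) := by
  classical
  have hp : p.Prime := Fact.out
  obtain ⟨a₀⟩ : Nonempty Ω := Fintype.card_pos_iff.mp (by rw [hΩ]; exact hp.pos)
  have hinj : Function.Injective (MulAction.toPermHom G Ω) := MulAction.toPerm_injective
  have hGdvd : Nat.card G ∣ p.factorial := by
    have := Subgroup.card_dvd_of_injective (MulAction.toPermHom G Ω) hinj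
    rwa [Nat.card_eq_fintype_card (α := Equiv.Perm Ω), Fintype.card_perm, hΩ] at this
  have hpG : p ∣ Nat.card G := by
    have hidx : (stabilizer G a₀).index = p := by
      rw [index_stabilizer_of_transitive, Nat.card_eq_fintype_card, hΩ]
    rw [← hidx]
    exact Subgroup.index_dvd_card _
  have hPcard : Nat.card P = p := by
    rw [Sylow.card_eq_multiplicity]
    have h1 : (Nat.card G).factorization p = 1 := by
      have hpos : Nat.card G ≠ 0 := Nat.card_pos.ne'
      have h1 : 1 ≤ (Nat.card G).factorization p :=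
        (hp.dvd_iff_one_le_factorization hpos).mp hpG
      have h2 : ¬ 2 ≤ (Nat.card G).factorization p := by
        intro h
        have := (hp.pow_dvd_iff_le_factorization hpos).mpr h
        apply not_sq_dvd_factorial' hp
        rw [← sq]
        exact dvd_trans this hGdvd
      omega
    rw [h1, pow_one]
  obtain ⟨x', hx'⟩ := exists_prime_orderOf_dvd_card' (G := P) p (by rw [hPcard])
  have hx'1 : x' ≠ 1 := by
    intro h
    rw [h, orderOf_one] at hx'
    exact hp.one_lt.ne hx'
  have hxP : (x' : G) ∈ (P : Subgroup G) := x'.2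
  have hx : orderOf (x' : G) = p := by rw [Subgroup.orderOf_coe, hx']
  have hσ : orderOf (MulAction.toPermHom G Ω (x' : G)) = p := by
    rw [orderOf_injective _ hinj, hx]
  obtain ⟨e, he⟩ := Cfsg.Agent.Lib.Helper5.PrimeDeg.exists_equiv hΩ _ hσ
  refine ⟨(x' : G), e, hxP, ?_, ?_⟩
  · intro y hy
    have hmem : (⟨y, hy⟩ : P) ∈ Submonoid.powers x' := mem_powers_of_prime_card hPcard hx'1
    obtain ⟨k, hk⟩ := hmem
    refine ⟨k, ?_⟩
    have := congrArg (fun z : P => (z : G)) hk
    simpa using this.symm
  · intro j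
    rw [he j]
    rfl

end Cfsg.Agent.Lib.Helper23.PDCOORD
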