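import Mathlib
import Cfsg.Agent.Lib.Helper6.PDDefs

/-!
# S3611 market "PD", leaf PDORB (helper23)

The space of `H`-invariant functions `Ω → K` has dimension the number of `H`-orbits.
-/

set_option autoImplicit false

namespace Cfsg.Agent.Lib.Helper23.PDORB

open Module MulAction Cfsg.Agent.Lib.Helper6.PD

/-- **PDORB**.  The space of `H`-invariant functions has dimension the number of `H`-orbits. -/
theorem PDORB {G Ω : Type*} [Group G] [MulAction G Ω] [Fintype Ω] (K : Type*) [Field K]
    (H : Subgroup G) (U : Submodule K (Ω → K))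
    (hU : ∀ f : Ω → K, f ∈ U ↔ ∀ h ∈ H, ∀ a, f (h • a) = f a) :
    finrank K U = Nat.card (MulAction.orbitRel.Quotient H Ω) := by
  classical
  haveI : Finite (MulAction.orbitRel.Quotient H Ω) := Quotient.finite _
  haveI : Fintype (MulAction.orbitRel.Quotient H Ω) := Fintype.ofFinite _
  have hsurj : Function.Surjective
      (Quotient.mk'' : Ω → MulAction.orbitRel.Quotient H Ω) := Quotient.mk''_surjective
  have hinj : Function.Injective
      (LinearMap.funLeft K K (Quotient.mk'' : Ω → MulAction.orbitRel.Quotient H Ω)) :=
    LinearMap.funLeft_injective_of_surjective _ _ _ hsurj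
  have hrange : LinearMap.range
      (LinearMap.funLeft K K (Quotient.mk'' : Ω → MulAction.orbitRel.Quotient H Ω)) = U := by
    ext f
    rw [hU f, LinearMap.mem_range]
    constructor
    · rintro ⟨g, rfl⟩ h hh a
      simp only [LinearMap.funLeft_apply]
      congr 1
      apply Quotient.sound'
      exact ⟨⟨h, hh⟩, rfl⟩
    · intro hf
      refine ⟨Quotient.lift f ?_, ?_⟩
      · rintro a b ⟨⟨h, hh⟩, rfl⟩
        exact hf h hh b
      · ext a
        rfl
  rw [← hrange, LinearMap.finrank_range_of_inj hinj, Module.finrank_fintype_fun_eq_card,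
    Nat.card_eq_fintype_card]

end Cfsg.Agent.Lib.Helper23.PDORB
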