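import Mathlib
import Cfsg.Agent.Lib.Helper11.Sp2Calc

/-! Helper23 leaves for S2142 (helper11): counting in the abstract `Sp_2m(2)` setting.
P1 `card_mul_card_orthogonal`, P2 `orthogonal_orthogonal_eq`, P3 `card_perp_inf`, P4 `two_mul_card_perp`. -/

set_option autoImplicit false

open Cfsg.Agent.Lib.Helper11.Sp2 MulAction

namespace Cfsg.Agent.Lib.Helper23.Sp2Leaf

variable {F V G : Type*} [Field F] [AddCommGroup V] [Module F V] [Group G] [DistribMulAction G V]
  (S : Setting F V G)

include S in
theorem finite_F : Finite F := by
  have h : (Set.univ : Set F) ⊆ {0, 1} := by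
    intro a _
    rcases S.h01 a with h | h
    · simp [h]
    · simp [h]
  exact Set.finite_univ_iff.mp ((Set.toFinite ({0, 1} : Set F)).subset h)

include S in
theorem natCard_F : Nat.card F = 2 := by
  rw [Nat.card_eq_two_iff]
  refine ⟨0, 1, zero_ne_one, ?_⟩
  ext a
  rcases S.h01 a with h | h
  · simp [h]
  · simp [h]

theorem nondegenerate_B : S.B.Nondegenerate := by
  refine ⟨?_, ?_⟩
  · intro x hx
    exact S.nondeg x hx
  · intro y hy
    apply S.nondeg y
    intro x
    rw [S.B_symm]
    exact hy x

theorem isRefl_B : S.B.IsRefl := by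
  intro x y h
  rw [S.B_symm]
  exact h

theorem card_mul_card_orthogonal [Finite V] (U : Submodule F V) :
    Nat.card U * Nat.card (S.B.orthogonal U) = Nat.card V := by
  haveI : Finite F := finite_F S
  haveI : Module.Finite F V := Module.Finite.of_finite
  have h1 := LinearMap.BilinForm.finrank_orthogonal (nondegenerate_B S) U
  have h2 : Module.finrank F U ≤ Module.finrank F V := Submodule.finrank_le U
  rw [Module.natCard_eq_pow_finrank (K := F) (V := U),
    Module.natCard_eq_pow_finrank (K := F) (V := S.B.orthogonal U),
    Module.natCard_eq_pow_finrank (K := F) (V := V), h1, ← pow_add]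
  congr 1
  omega

theorem orthogonal_orthogonal_eq [Finite V] (U : Submodule F V) :
    S.B.orthogonal (S.B.orthogonal U) = U := by
  haveI : Finite F := finite_F S
  haveI : Module.Finite F V := Module.Finite.of_finite
  exact LinearMap.BilinForm.orthogonal_orthogonal (nondegenerate_B S) (isRefl_B S) U

theorem card_perp_inf [Finite V] (U : Submodule F V) (a : V) :
    Nat.card U ≤ 2 * Nat.card {u : V // u ∈ U ∧ S.B a u = 0} := by
  classical
  haveI : Finite F := finite_F S
  by_cases hall : ∀ u ∈ U, S.B a u = 0
  · have : Nat.card U ≤ Nat.card {u : V // u ∈ U ∧ S.B a u = 0} := by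
      apply Nat.card_le_card_of_injective (fun u : U => (⟨u.1, u.2, hall u.1 u.2⟩ :
        {u : V // u ∈ U ∧ S.B a u = 0}))
      intro x y hxy
      have := congrArg Subtype.val hxy
      exact Subtype.ext this
    omega
  · push Not at hall
    obtain ⟨u0, hu0U, hu0⟩ := hall
    have hu01 : S.B a u0 = 1 := S.eq_one_of_ne_zero hu0
    have hinj : Function.Injective (fun u : U =>
        ((⟨u.1 + S.B a u.1 • u0, U.add_mem u.2 (U.smul_mem _ hu0U), by
          rw [S.Badd_right, S.Bsmul_right, hu01, mul_one, S.fadd_self]⟩ :
          {u : V // u ∈ U ∧ S.B a u = 0}), S.B a u.1)) := by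
      intro x y hxy
      have h1 := congrArg (fun p => (p.1 : V)) hxy
      have h2 := congrArg Prod.snd hxy
      simp only at h1 h2
      apply Subtype.ext
      rw [h2] at h1
      exact add_right_cancel h1
    have := Nat.card_le_card_of_injective _ hinj
    rw [Nat.card_prod, natCard_F S] at this
    omega

theorem two_mul_card_perp [Finite V] {v : V} (hv : v ≠ 0) :
    2 * Nat.card {z : V // S.B v z = 0} = Nat.card V := by
  classical
  haveI : Finite F := finite_F S
  obtain ⟨z0, hz0⟩ := S.exists_B_eq_one hv
  have hz0' : S.B v z0 = 1 := by rw [S.B_symm]; exact hz0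
  let e : V ≃ {z : V // S.B v z = 0} × F :=
    { toFun := fun z => (⟨z + S.B v z • z0, by
        rw [S.Badd_right, S.Bsmul_right, hz0', mul_one, S.fadd_self]⟩, S.B v z)
      invFun := fun p => p.1.1 + p.2 • z0
      left_inv := by
        intro z
        simp only
        rw [add_assoc, ← add_smul, S.fadd_self, zero_smul, add_zero]
      right_inv := by
        rintro ⟨⟨w, hw⟩, c⟩
        have hc : S.B v (w + c • z0) = c := by
          rw [S.Badd_right, S.Bsmul_right, hz0', mul_one, hw, zero_add]
        apply Prod.ext
        · apply Subtype.ext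
          simp only
          rw [hc, add_assoc, ← add_smul, S.fadd_self, zero_smul, add_zero]
        · simp only
          exact hc }
  rw [Nat.card_congr e, Nat.card_prod, natCard_F S, mul_comm]

end Cfsg.Agent.Lib.Helper23.Sp2Leaf
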