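import Mathlib
import Cfsg.Agent.Lib.Helper11.Sp2Calc
import Cfsg.Agent.Lib.Helper23.Sp2P

/-! Helper23 leaf Z for S2142 (helper11): the Gauss-sum bound for the number of zeros of `γ_v` on `v^⊥`
at a point of type B. -/

set_option autoImplicit false

open Cfsg.Agent.Lib.Helper11.Sp2 MulAction

namespace Cfsg.Agent.Lib.Helper23.Sp2Leaf

variable {F V G : Type*} [Field F] [AddCommGroup V] [Module F V] [Group G] [DistribMulAction G V]
  (S : Setting F V G)

open Classical in
/-- the sign character of the two-element field -/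
noncomputable def chi (a : F) : ℤ := if a = 0 then 1 else -1

include S in
theorem chi_add (a b : F) : chi (a + b) = chi a * chi b := by
  unfold chi
  rcases S.h01 a with ha | ha <;> rcases S.h01 b with hb | hb
  · simp [ha, hb]
  · simp [ha, hb]
  · simp [ha, hb]
  · have : (1 : F) + 1 = 0 := S.one_add_one
    simp [ha, hb, this]

theorem chi_zero : chi (0 : F) = 1 := by simp [chi]

theorem chi_sq (a : F) : chi a * chi a = 1 := by
  unfold chi
  split_ifs <;> norm_num

/-- `v^⊥` as a submodule -/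
def perp (v : V) : Submodule F V := LinearMap.ker (S.B v)

theorem mem_perp {v a : V} : a ∈ perp S v ↔ S.B v a = 0 := LinearMap.mem_ker

/-- character sum of a linear functional `B u ·` on `v^⊥`: `|v^⊥|` if `u ∈ {0, v}` -/
theorem sum_chi_B_of {v : V} [Fintype (perp S v)] (u : perp S v) (h : u.1 = 0 ∨ u.1 = v) :
    ∑ w : perp S v, chi (S.B u.1 w.1) = (Fintype.card (perp S v) : ℤ) := by
  classical
  have : ∀ w : perp S v, chi (S.B u.1 w.1) = 1 := by
    intro w
    rcases h with h | h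
    · rw [h, S.Bzero_left, chi_zero]
    · rw [h, (mem_perp S).mp w.2, chi_zero]
  rw [Finset.sum_congr rfl (fun w _ => this w)]
  simp

/-- character sum of a linear functional `B u ·` on `v^⊥`: `0` if `u ∉ {0, v}` -/
theorem sum_chi_B_of_not {v : V} [Fintype (perp S v)] (u : perp S v) (h : ¬ (u.1 = 0 ∨ u.1 = v)) :
    ∑ w : perp S v, chi (S.B u.1 w.1) = 0 := by
  classical
  have hex : ∃ z, S.B v z = 0 ∧ S.B z u.1 ≠ 0 := by
    by_contra hcon
    push Not at hcon
    exact h (S.eq_zero_or_eq_of_perp hcon)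
  obtain ⟨w0, hw0, hne⟩ := hex
  have h1 : S.B u.1 w0 = 1 := by
    rw [S.B_symm]; exact S.eq_one_of_ne_zero hne
  let w0' : perp S v := ⟨w0, (mem_perp S).mpr hw0⟩
  have hre : ∑ w : perp S v, chi (S.B u.1 w.1) = ∑ w : perp S v, chi (S.B u.1 (w + w0').1) :=
    (Equiv.sum_comp (Equiv.addRight w0') (fun w : perp S v => chi (S.B u.1 w.1))).symm
  have hneg : ∀ w : perp S v, chi (S.B u.1 (w + w0').1) = - chi (S.B u.1 w.1) := by
    intro w
    have : ((w + w0' : perp S v) : V) = w.1 + w0 := rfl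
    rw [this, S.Badd_right, h1, chi_add S]
    simp [chi]
  rw [Finset.sum_congr rfl (fun w _ => hneg w), Finset.sum_neg_distrib] at hre
  linarith

theorem gauss_sq (H : Subgroup G) {v : V} [Fintype (perp S v)] (hB : S.IsB H v) :
    (∑ w : perp S v, chi (S.gam H v w.1)) * (∑ w : perp S v, chi (S.gam H v w.1)) =
      2 * (Fintype.card (perp S v) : ℤ) := by
  classical
  rw [Finset.sum_mul_sum]
  -- reindex the inner sum
  have h1 : ∀ w : perp S v, ∑ w' : perp S v, chi (S.gam H v w.1) * chi (S.gam H v w'.1) =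
      ∑ u : perp S v, chi (S.gam H v u.1) * chi (S.B u.1 w.1) := by
    intro w
    rw [← Equiv.sum_comp (Equiv.addLeft w) (fun w' : perp S v => chi (S.gam H v w.1) * chi (S.gam H v w'.1))]
    apply Finset.sum_congr rfl
    intro u _
    have hc : ((Equiv.addLeft w u : perp S v) : V) = w.1 + u.1 := rfl
    rw [hc, S.gam_add hB ((mem_perp S).mp w.2) ((mem_perp S).mp u.2), ← chi_add S, ← chi_add S]
    congr 1
    have := S.fadd_self (S.gam H v w.1)
    calc S.gam H v w.1 + (S.gam H v w.1 + S.gam H v u.1 + S.B u.1 w.1)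
        = (S.gam H v w.1 + S.gam H v w.1) + (S.gam H v u.1 + S.B u.1 w.1) := by ring
      _ = S.gam H v u.1 + S.B u.1 w.1 := by rw [this, zero_add]
  rw [Finset.sum_congr rfl (fun w _ => h1 w), Finset.sum_comm]
  have h2 : ∀ u : perp S v, ∑ w : perp S v, chi (S.gam H v u.1) * chi (S.B u.1 w.1) =
      chi (S.gam H v u.1) * ∑ w : perp S v, chi (S.B u.1 w.1) := by
    intro u
    rw [← Finset.mul_sum]
  rw [Finset.sum_congr rfl (fun u _ => h2 u)]
  let u0 : perp S v := ⟨0, (perp S v).zero_mem⟩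
  let uv : perp S v := ⟨v, (mem_perp S).mpr (S.alt v)⟩
  have hne : u0 ≠ uv := by
    intro h
    have := congrArg Subtype.val h
    exact hB.1 this.symm
  rw [Finset.sum_eq_add u0 uv hne]
  · have e0 : (u0 : V) = 0 := rfl
    have ev : (uv : V) = v := rfl
    rw [sum_chi_B_of S u0 (Or.inl e0), sum_chi_B_of S uv (Or.inr ev), e0, ev, S.gam_zero hB,
      S.gam_self hB, chi_zero]
    ring
  · intro c _ hc
    have : ¬ (c.1 = 0 ∨ c.1 = v) := by
      rintro (h | h)
      · exact hc.1 (Subtype.ext h)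
      · exact hc.2 (Subtype.ext h)
    rw [sum_chi_B_of_not S c this, mul_zero]
  · intro h; exact absurd (Finset.mem_univ _) h
  · intro h; exact absurd (Finset.mem_univ _) h

theorem card_gam_zeros_ge [Finite V] {m : ℕ} (hV : Nat.card V = 2 ^ (2 * m)) (hm : 1 ≤ m)
    (H : Subgroup G) {v : V} (hB : S.IsB H v) :
    2 ^ (2 * m - 2) - 2 ^ (m - 1) ≤ Nat.card {a : V // S.B v a = 0 ∧ S.gam H v a = 0} := by
  classical
  haveI : Fintype V := Fintype.ofFinite V
  haveI : Fintype (perp S v) := Fintype.ofFinite _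
  -- cardinality of v^⊥
  have hcardU : 2 * Fintype.card (perp S v) = 2 ^ (2 * m) := by
    have := two_mul_card_perp S hB.1
    rw [hV] at this
    rw [← this, Fintype.card_eq_nat_card]
    congr 1
  -- the zero count
  set Z0 : ℕ := (Finset.univ.filter (fun w : perp S v => S.gam H v w.1 = 0)).card with hZ0
  have hZ : Nat.card {a : V // S.B v a = 0 ∧ S.gam H v a = 0} = Z0 := by
    rw [hZ0, ← Fintype.card_subtype, Fintype.card_eq_nat_card]
    apply Nat.card_congr
    exact
      { toFun := fun a => ⟨⟨a.1, (mem_perp S).mpr a.2.1⟩, a.2.2⟩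
        invFun := fun a => ⟨a.1.1, (mem_perp S).mp a.1.2, a.2⟩
        left_inv := fun a => rfl
        right_inv := fun a => rfl }
  rw [hZ]
  -- the sum in terms of Z0
  have hT : (∑ w : perp S v, chi (S.gam H v w.1)) = 2 * (Z0 : ℤ) - Fintype.card (perp S v) := by
    have h1 : ∀ w : perp S v, chi (S.gam H v w.1) =
        2 * (if S.gam H v w.1 = 0 then (1 : ℤ) else 0) - 1 := by
      intro w
      unfold chi
      split_ifs <;> norm_num
    rw [Finset.sum_congr rfl (fun w _ => h1 w), Finset.sum_sub_distrib, ← Finset.mul_sum,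
      Finset.sum_boole]
    simp [hZ0]
  have hsq := gauss_sq S H hB
  rw [hT] at hsq
  -- arithmetic
  obtain ⟨k, rfl⟩ : ∃ k, m = k + 1 := ⟨m - 1, by omega⟩
  have e1 : 2 * (k + 1) - 2 = 2 * k := by omega
  have e2 : k + 1 - 1 = k := by omega
  rw [e1, e2]
  have hU : (Fintype.card (perp S v) : ℤ) = 2 * 2 ^ (2 * k) := by
    have : 2 * Fintype.card (perp S v) = 2 * (2 * 2 ^ (2 * k)) := by
      rw [hcardU]; ring
    have := Nat.eq_of_mul_eq_mul_left (by norm_num) this
    rw [this]; push_cast; ring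
  rw [hU] at hsq
  -- (2 Z0 - 2 A)^2 = 4 A with A = 2^(2k) = B^2, B = 2^k
  have hA : ((2 : ℤ) ^ (2 * k)) = (2 ^ k) * (2 ^ k) := by
    rw [pow_mul', sq]
  set A : ℤ := 2 ^ (2 * k) with hAdef
  set Bk : ℤ := 2 ^ k with hBdef
  have hBpos : 0 < Bk := by positivity
  have key : ((Z0 : ℤ) - A) * ((Z0 : ℤ) - A) = Bk * Bk := by
    have : (2 * (Z0 : ℤ) - 2 * A) * (2 * (Z0 : ℤ) - 2 * A) = 2 * (2 * A) := hsq
    nlinarith [this, hA]
  have hge : (A : ℤ) - Bk ≤ Z0 := by
    by_contra hlt
    push Not at hlt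
    have h1 : (Z0 : ℤ) - A < - Bk := by linarith
    nlinarith [key]
  have : ((2 ^ (2 * k) - 2 ^ k : ℕ) : ℤ) ≤ (Z0 : ℤ) := by
    have hle : 2 ^ k ≤ 2 ^ (2 * k) := Nat.pow_le_pow_right (by norm_num) (by omega)
    rw [Nat.cast_sub hle]
    push_cast
    exact hge
  exact_mod_cast this

end Cfsg.Agent.Lib.Helper23.Sp2Leaf
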