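import Mathlib
import Cfsg.Prelude.Def_GeometricClasses
import Cfsg.Agent.Lib.Helper25.SpTDefs
import Cfsg.Agent.Lib.Helper27.SpTGDefs

/-!
S5704 Stage III (G) (helper27's sub-market), the S-block: symplectic geometry of the standard form `sf`
on `Fin n → F` (S1, S2, S3, S3', S4, S5, S6, S7).
-/

set_option autoImplicit false
set_option linter.unusedSectionVars false
set_option linter.unusedVariables false

namespace Cfsg.Agent.Lib.Helper23.SpTGLeaf
open Matrix QuadraticMap Module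
open Cfsg.Agent.Lib.Helper25.Tens Cfsg.Agent.Lib.Helper25.SpT Cfsg.Agent.Lib.Helper19.OSub
  Cfsg.Agent.Lib.Helper27.SpTG

variable {F : Type*} [Field F] {n : ℕ}

/-- the functional `sf v ·` -/
def sfL (v : Fin n → F) : (Fin n → F) →ₗ[F] F where
  toFun w := sf v w
  map_add' w w' := sf_add_right v w w'
  map_smul' c w := by
    simp only [RingHom.id_apply, smul_eq_mul]
    exact sf_smul_right c v w

@[simp] lemma sfL_apply (v w : Fin n → F) : sfL v w = sf v w := rfl

/-- a vector in the common kernel of two functionals outside a small subspace -/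
lemma exists_ker_not_mem (f₁ f₂ : (Fin n → F) →ₗ[F] F) (U : Submodule F (Fin n → F))
    (hU : finrank F U + 2 < n) : ∃ v, f₁ v = 0 ∧ f₂ v = 0 ∧ v ∉ U := by
  by_contra hcon
  push Not at hcon
  have hle : LinearMap.ker (f₁.prod f₂) ≤ U := by
    intro v hv
    rw [LinearMap.mem_ker, LinearMap.prod_apply, Prod.mk_eq_zero] at hv
    exact hcon v hv.1 hv.2
  have h1 := LinearMap.finrank_range_add_finrank_ker (f₁.prod f₂)
  rw [Module.finrank_fin_fun] at h1
  have h2 : finrank F (LinearMap.range (f₁.prod f₂)) ≤ 2 := by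
    have := Submodule.finrank_le (LinearMap.range (f₁.prod f₂))
    rw [Module.finrank_prod, Module.finrank_self] at this
    exact this
  have h3 := Submodule.finrank_mono hle
  omega

/-- S1: a hyperbolic partner. -/
theorem exists_sf_eq_one (hn : Even n) {x : Fin n → F} (hx : x ≠ 0) :
    ∃ y : Fin n → F, sf x y = 1 := by
  obtain ⟨y0, hy0⟩ := exists_sf_ne_zero hn hx
  exact ⟨(sf x y0)⁻¹ • y0, by rw [sf_smul_right, inv_mul_cancel₀ hy0]⟩

/-- S2: for independent `y, y'` some `w ⊥ y` is not perpendicular to `y'`. -/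
theorem exists_perp_not_perp (hn : Even n) {y y' : Fin n → F}
    (h : LinearIndependent F ![y, y']) : ∃ w : Fin n → F, sf y w = 0 ∧ sf y' w ≠ 0 := by
  have hpair := LinearIndependent.pair_iff.mp h
  have hy' : y' ≠ 0 := by
    rintro rfl
    have := hpair 0 1 (by simp)
    exact one_ne_zero this.2
  obtain ⟨w₀, hw₀⟩ := exists_sf_ne_zero hn hy'
  by_cases h0 : sf y w₀ = 0
  · exact ⟨w₀, h0, hw₀⟩
  · set t : F := sf y' w₀ / sf y w₀ with ht
    have hy'' : y' - t • y ≠ 0 := by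
      intro hz
      have := hpair (-t) 1 (by rw [neg_smul, one_smul, ← hz]; abel)
      exact one_ne_zero this.2
    obtain ⟨w₁, hw₁⟩ := exists_sf_ne_zero hn hy''
    refine ⟨w₁ - (sf y w₁ / sf y w₀) • w₀, ?_, ?_⟩
    · rw [sf_sub_right, sf_smul_right, div_mul_cancel₀ _ h0, sub_self]
    · rw [sf_sub_right, sf_smul_right]
      rw [sf_sub_left, sf_smul_left] at hw₁
      intro hz
      apply hw₁
      rw [ht]
      field_simp
      field_simp at hz
      linear_combination hz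

/-- S3: `τ_{z,μ}` preserves `sf`. -/
theorem sf_tva (z : Fin n → F) (μ : F) (x x' : Fin n → F) :
    sf (tva z μ x) (tva z μ x') = sf x x' := by
  unfold tva
  rw [sf_add_left, sf_add_right, sf_add_right, sf_smul_left, sf_smul_left, sf_smul_right,
    sf_smul_right, sf_self, sf_skew z x']
  ring

/-- S3': `τ_{z,-μ}` inverts `τ_{z,μ}`. -/
theorem tva_neg_tva (z : Fin n → F) (μ : F) (x : Fin n → F) : tva z (-μ) (tva z μ x) = x := by
  unfold tva
  rw [sf_add_left, sf_smul_left, sf_self, mul_zero, add_zero, add_assoc, ← add_smul]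
  have : μ * sf x z + -μ * sf x z = 0 := by ring
  rw [this, zero_smul, add_zero]

/-- S4: a hyperbolic pair perpendicular to one given vector (`n ≥ 4`). -/
theorem exists_hyp_pair_perp1 (hn : Even n) (h4 : 4 ≤ n) (x : Fin n → F) :
    ∃ x₁ x₂ : Fin n → F, sf x x₁ = 0 ∧ sf x x₂ = 0 ∧ sf x₁ x₂ = 1 := by
  have hU : finrank F (Submodule.span F {x}) + 2 < n := by
    have := finrank_span_finset_le_card (R := F) ({x} : Finset (Fin n → F))
    rw [Set.finrank, Finset.coe_singleton, Finset.card_singleton] at this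
    omega
  obtain ⟨x₁, h1, -, hx₁⟩ := exists_ker_not_mem (sfL x) (sfL x) _ hU
  rw [sfL_apply] at h1
  have hx₁0 : x₁ ≠ 0 := by
    rintro rfl
    exact hx₁ (Submodule.zero_mem _)
  by_cases hx : x = 0
  · obtain ⟨x₂, hx₂⟩ := exists_sf_eq_one hn hx₁0
    exact ⟨x₁, x₂, h1, by rw [hx, sf_zero_left], hx₂⟩
  · have hli : LinearIndependent F ![x, x₁] := by
      rw [LinearIndependent.pair_iff' hx]
      intro a ha
      apply hx₁
      rw [← ha]
      exact Submodule.smul_mem _ _ (Submodule.mem_span_singleton_self x)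
    obtain ⟨w, hw1, hw2⟩ := exists_perp_not_perp hn hli
    exact ⟨x₁, (sf x₁ w)⁻¹ • w, h1, by rw [sf_smul_right, hw1, mul_zero],
      by rw [sf_smul_right, inv_mul_cancel₀ hw2]⟩

/-- S5: a hyperbolic pair perpendicular to two given vectors (`n ≥ 6`). -/
theorem exists_hyp_pair_perp2 (hn : Even n) (h6 : 6 ≤ n) (y y₁ : Fin n → F) :
    ∃ y₂ y₃ : Fin n → F, sf y₂ y₃ = 1 ∧ sf y y₂ = 0 ∧ sf y y₃ = 0 ∧ sf y₁ y₂ = 0 ∧ sf y₁ y₃ = 0 := by
  have hU : finrank F (Submodule.span F (Set.range ![y, y₁])) + 2 < n := by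
    have := finrank_range_le_card (R := F) ![y, y₁]
    rw [Set.finrank, Fintype.card_fin] at this
    omega
  obtain ⟨y₂, h1, h2, hy₂⟩ := exists_ker_not_mem (sfL y) (sfL y₁) _ hU
  rw [sfL_apply] at h1 h2
  -- some `y₃` in the common kernel with `sf y₂ y₃ ≠ 0`
  have hex : ∃ y₃ : Fin n → F, sf y y₃ = 0 ∧ sf y₁ y₃ = 0 ∧ sf y₂ y₃ ≠ 0 := by
    by_contra hcon
    push Not at hcon
    apply hy₂
    have hker : ⨅ i, LinearMap.ker ((![sfL y, sfL y₁] : Fin 2 → (Fin n → F) →ₗ[F] F) i) ≤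
        LinearMap.ker (sfL y₂) := by
      intro w hw
      rw [Submodule.mem_iInf] at hw
      have hw0 := hw 0
      have hw1 := hw 1
      simp only [Matrix.cons_val_zero, Matrix.cons_val_one, LinearMap.mem_ker, sfL_apply] at hw0 hw1
      rw [LinearMap.mem_ker, sfL_apply]
      exact hcon w hw0 hw1
    have hmem := mem_span_of_iInf_ker_le_ker hker
    obtain ⟨c, hc⟩ := (Submodule.mem_span_range_iff_exists_fun F).mp hmem
    rw [Fin.sum_univ_two] at hc
    simp only [Matrix.cons_val_zero, Matrix.cons_val_one] at hc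
    -- `y₂ = c 0 • y + c 1 • y₁`
    have hz : y₂ - (c 0 • y + c 1 • y₁) = 0 := by
      by_contra hne
      obtain ⟨w, hw⟩ := exists_sf_ne_zero hn hne
      apply hw
      have := LinearMap.congr_fun hc w
      simp only [LinearMap.add_apply, LinearMap.smul_apply, sfL_apply, smul_eq_mul] at this
      rw [sf_sub_left, sf_add_left, sf_smul_left, sf_smul_left, this, sub_self]
    rw [(Submodule.mem_span_range_iff_exists_fun F)]
    refine ⟨c, ?_⟩
    rw [Fin.sum_univ_two]
    simp only [Matrix.cons_val_zero, Matrix.cons_val_one]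
    exact (sub_eq_zero.mp hz).symm
  obtain ⟨y₃, h3, h4, h5⟩ := hex
  exact ⟨y₂, (sf y₂ y₃)⁻¹ • y₃, by rw [sf_smul_right, inv_mul_cancel₀ h5], h1,
    by rw [sf_smul_right, h3, mul_zero], h2, by rw [sf_smul_right, h4, mul_zero]⟩

/-- S6: for a hyperbolic pair `y, y'`: `y₃ ⊥ y, y'` and `y₂ ⊥ y` with `sf y₂ y₃ = 1` (`n ≥ 4`). -/
theorem exists_pair_of_ne (hn : Even n) (h4 : 4 ≤ n) {y y' : Fin n → F} (h : sf y y' ≠ 0) :
    ∃ y₂ y₃ : Fin n → F, sf y y₃ = 0 ∧ sf y' y₃ = 0 ∧ sf y y₂ = 0 ∧ sf y₂ y₃ = 1 := by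
  have hU : finrank F (⊥ : Submodule F (Fin n → F)) + 2 < n := by
    rw [finrank_bot]
    omega
  obtain ⟨y₃, h1, h2, hy₃⟩ := exists_ker_not_mem (sfL y) (sfL y') _ hU
  rw [sfL_apply] at h1 h2
  rw [Submodule.mem_bot] at hy₃
  have hy : y ≠ 0 := by
    rintro rfl
    exact h (sf_zero_left y')
  have hli : LinearIndependent F ![y, y₃] := by
    rw [LinearIndependent.pair_iff' hy]
    intro a ha
    rw [← ha, sf_smul_right] at h2
    rcases mul_eq_zero.mp h2 with h0 | h0
    · apply hy₃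
      rw [← ha, h0, zero_smul]
    · apply h
      rw [sf_skew, h0, neg_zero]
  obtain ⟨w, hw1, hw2⟩ := exists_perp_not_perp hn hli
  have hw3 : sf w y₃ ≠ 0 := by
    rw [sf_skew]
    exact neg_ne_zero.mpr hw2
  exact ⟨(sf w y₃)⁻¹ • w, y₃, h1, h2, by rw [sf_smul_right, hw1, mul_zero],
    by rw [sf_smul_left, inv_mul_cancel₀ hw3]⟩

/-- one symplectic transvection moves `x` to `x'` when `sf x x' ≠ 0` -/
lemma tva_map {x x' : Fin n → F} (h : sf x x' ≠ 0) : tva (x' - x) (sf x x')⁻¹ x = x' := by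
  unfold tva
  rw [sf_sub_right, sf_self, sub_zero, inv_mul_cancel₀ h, one_smul]
  abel

/-- S7: transitivity of the symplectic transvections on nonzero vectors, in invariant-predicate form. -/
theorem forall_of_tva_invariant (hn : Even n) (Φ : (Fin n → F) → Prop)
    (hinv : ∀ (z : Fin n → F) (μ : F) (x : Fin n → F), Φ x → Φ (tva z μ x))
    {x₀ : Fin n → F} (hx₀ : x₀ ≠ 0) (h0 : Φ x₀) : ∀ x : Fin n → F, x ≠ 0 → Φ x := by
  have step : ∀ x x' : Fin n → F, sf x x' ≠ 0 → Φ x → Φ x' := by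
    intro x x' h hx
    have := hinv (x' - x) (sf x x')⁻¹ x hx
    rwa [tva_map h] at this
  intro x hx
  by_cases h : sf x₀ x = 0
  · -- go through `z` with `sf x₀ z ≠ 0 ≠ sf z x`
    obtain ⟨z₁, hz₁⟩ := exists_sf_ne_zero hn hx₀
    obtain ⟨z₂, hz₂⟩ := exists_sf_ne_zero hn hx
    have hex : ∃ z, sf x₀ z ≠ 0 ∧ sf x z ≠ 0 := by
      by_cases h1 : sf x z₁ = 0
      · by_cases h2 : sf x₀ z₂ = 0
        · refine ⟨z₁ + z₂, ?_, ?_⟩
          · rw [sf_add_right, h2, add_zero]; exact hz₁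
          · rw [sf_add_right, h1, zero_add]; exact hz₂
        · exact ⟨z₂, h2, hz₂⟩
      · exact ⟨z₁, hz₁, h1⟩
    obtain ⟨z, hz1, hz2⟩ := hex
    have hz3 : sf z x ≠ 0 := by
      rw [sf_skew]
      exact neg_ne_zero.mpr hz2
    exact step z x hz3 (step x₀ z hz1 h0)
  · exact step x₀ x h h0

end Cfsg.Agent.Lib.Helper23.SpTGLeaf
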