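import Mathlib
import Cfsg.Agent.Lib.Helper8.TW.Defs
import Cfsg.Agent.Lib.Helper20.AschA89WR
import Cfsg.Agent.Lib.Helper20.AschA89F2J
import Cfsg.Agent.Lib.Helper6.TWT1

/-!
S5641 (C7), block (T) toolkit leaves (helper8's market, `notes/S5641_T_leaves.lean`), exact signatures:
TG1 `slotGL_mem_G`, TG2 `ptens_mem_G`, TG3 `fpermGL_mem_G`, TG5 `scalars_le_G` (helper23).
-/

set_option autoImplicit false
set_option linter.unusedSectionVars false
set_option linter.unusedVariables false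

namespace Cfsg.Agent.Lib.Helper23.TWLeaf
open Matrix Cfsg.Geo Cfsg.Agent.Lib.Helper18.AschA89 Cfsg.Agent.Lib.Helper20.AschLeaf Cfsg.Agent.Lib.Helper8.TW

variable {F : Type*} [Field F] {t m : ℕ}

/-- TG2 (S) -/
theorem ptens_mem_G (gs : Fin t → GL (Fin m) F) (g : GL (Idx t m) F)
    (hg : (g : Matrix (Idx t m) (Idx t m) F) = ptens m t (fun j => ((gs j : GL (Fin m) F) : Matrix (Fin m) (Fin m) F))) :
    g ∈ Gstd t m F := by
  apply Subgroup.subset_closure
  left
  refine ⟨gs, fun x y => ?_⟩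
  rw [hg, ptens_apply]

/-- TG1 (S) -/
theorem slotGL_mem_G (i : Fin t) (α : GL (Fin m) F) : slotGL i α ∈ Gstd t m F := by
  apply ptens_mem_G (Function.update (fun _ => (1 : GL (Fin m) F)) i α)
  rw [slotGL_val, ← Cfsg.Agent.Lib.Helper6.TWLeaf.ptens_update_one]
  congr 1
  funext j
  by_cases hj : j = i
  · subst hj
    rw [Function.update_self, Function.update_self]
  · rw [Function.update_of_ne hj, Function.update_of_ne hj]
    rfl

/-- TG3 (S) -/
theorem fpermGL_mem_G (σ : Equiv.Perm (Fin t)) : wrFpermGL (F := F) m t σ ∈ Gstd t m F := by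
  apply Subgroup.subset_closure
  right
  exact ⟨σ, fun x y => rfl⟩

/-- the unit `c • 1` -/
def scalGL (c : Fˣ) : GL (Fin m) F :=
  ⟨(c : F) • (1 : Matrix (Fin m) (Fin m) F), ((c⁻¹ : Fˣ) : F) • (1 : Matrix (Fin m) (Fin m) F),
    by rw [Matrix.smul_mul, Matrix.mul_smul, mul_one, smul_smul, ← Units.val_mul, mul_inv_cancel, Units.val_one, one_smul],
    by rw [Matrix.smul_mul, Matrix.mul_smul, mul_one, smul_smul, ← Units.val_mul, inv_mul_cancel, Units.val_one, one_smul]⟩

lemma scalGL_val (c : Fˣ) : ((scalGL (m := m) c : GL (Fin m) F) : Matrix (Fin m) (Fin m) F) = (c : F) • 1 := rfl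

/-- TG5 (S) scalars lie in `G` (`t ≥ 1`) -/
theorem scalars_le_G (ht : 0 < t) : Cfsg.Geo.scalars (Idx t m) F ≤ Gstd t m F := by
  intro g hg
  rw [Cfsg.Geo.mem_scalars_iff] at hg
  obtain ⟨c, hc⟩ := hg
  have : g = slotGL ⟨0, ht⟩ (scalGL c) := by
    apply Units.ext
    rw [hc, slotGL_val, scalGL_val, slot_smul, slot_one]
  rw [this]
  exact slotGL_mem_G _ _

end Cfsg.Agent.Lib.Helper23.TWLeaf
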