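import Mathlib
import Cfsg.Agent.Lib.Helper8.TW.Defs
import Cfsg.Agent.Lib.Helper20.AschA89WR
import Cfsg.Agent.Lib.Helper20.AschA89F2J
import Cfsg.Agent.Lib.Helper6.TWT1

/-!
S5641 (C7), block (T) toolkit leaves (helper8's market, `notes/S5641_T_leaves.lean`), exact signatures:
TG6 `G_act_slot_fib`, TG7 `G_act_RD` (helper23).
-/

set_option autoImplicit false
set_option linter.unusedSectionVars false
set_option linter.unusedVariables false
set_option linter.unusedSimpArgs false

namespace Cfsg.Agent.Lib.Helper23.TWLeaf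
open Matrix Cfsg.Geo Cfsg.Agent.Lib.Helper18.AschA89 Cfsg.Agent.Lib.Helper20.AschLeaf Cfsg.Agent.Lib.Helper8.TW

variable {F : Type*} [Field F] {t m : ℕ}

/-! ### local copies of TS13a/b, TS8 -/

lemma g6_ptens_mul_slot (gs : Fin t → Matrix (Fin m) (Fin m) F) (i : Fin t) (A : Matrix (Fin m) (Fin m) F) :
    ptens m t gs * slot m t i A = ptens m t (Function.update gs i (gs i * A)) := by
  rw [← Cfsg.Agent.Lib.Helper6.TWLeaf.ptens_update_one, ptens_mul]
  congr 1
  funext j
  by_cases hj : j = i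
  · subst hj
    rw [Function.update_self, Function.update_self]
  · rw [Function.update_of_ne hj, Function.update_of_ne hj, mul_one]

lemma g6_slot_mul_ptens (gs : Fin t → Matrix (Fin m) (Fin m) F) (i : Fin t) (A : Matrix (Fin m) (Fin m) F) :
    slot m t i A * ptens m t gs = ptens m t (Function.update gs i (A * gs i)) := by
  rw [← Cfsg.Agent.Lib.Helper6.TWLeaf.ptens_update_one, ptens_mul]
  congr 1
  funext j
  by_cases hj : j = i
  · subst hj
    rw [Function.update_self, Function.update_self]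
  · rw [Function.update_of_ne hj, Function.update_of_ne hj, one_mul]

lemma g6_fperm_mulVec (σ : Equiv.Perm (Fin t)) (v : Idx t m → F) (x : Idx t m) :
    (fperm (F := F) m t σ *ᵥ v) x = v (x ∘ σ) := by
  simp only [Matrix.mulVec, dotProduct, fperm_apply]
  rw [Finset.sum_eq_single (x ∘ σ)]
  · rw [if_pos rfl, one_mul]
  · intro y _ hy
    rw [if_neg hy, zero_mul]
  · intro h
    exact absurd (Finset.mem_univ _) h

/-! ### slices of `fperm σ *ᵥ v` and of `ptens gs *ᵥ v` -/

lemma g6_fperm_slice (σ : Equiv.Perm (Fin t)) (i : Fin t) (x : Idx t m) (v : Idx t m → F) :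
    slice (σ i) x (fperm (F := F) m t σ *ᵥ v) = slice i (x ∘ σ) v := by
  funext a
  unfold slice
  rw [g6_fperm_mulVec]
  congr 1
  funext j
  by_cases hj : j = i
  · subst hj
    simp
  · rw [Function.comp_apply, Function.update_of_ne hj, Function.update_of_ne]
    · rfl
    · intro h
      exact hj (σ.injective h)

lemma g6_fperm_fib (σ : Equiv.Perm (Fin t)) (i : Fin t) (S : Submodule F (Fin m → F)) {v : Idx t m → F}
    (hv : v ∈ fib i S) : fperm (F := F) m t σ *ᵥ v ∈ fib (σ i) S := by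
  intro x
  rw [g6_fperm_slice]
  exact hv _

/-- a pure tensor with the identity at position `i`: its `i`-slices are combinations of the `i`-slices of `v` -/
lemma g6_ptens_slice_one (hs : Fin t → Matrix (Fin m) (Fin m) F) (i : Fin t) (hi : hs i = 1)
    (x : Idx t m) (v : Idx t m → F) :
    slice i x (ptens m t hs *ᵥ v) =
      ∑ z ∈ Finset.univ.filter (fun z : Idx t m => z i = x i), ptens m t hs x z • slice i z v := by
  classical
  funext a
  rw [Finset.sum_apply]
  unfold slice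
  simp only [Matrix.mulVec, dotProduct, Pi.smul_apply, smul_eq_mul]
  -- restrict the left sum to `w i = a`
  rw [← Finset.sum_subset (Finset.subset_univ (Finset.univ.filter (fun w : Idx t m => w i = a)))]
  · refine Finset.sum_bij' (fun w _ => Function.update w i (x i)) (fun z _ => Function.update z i a) ?_ ?_ ?_ ?_ ?_
    · intro w hw
      rw [Finset.mem_filter] at hw ⊢
      exact ⟨Finset.mem_univ _, Function.update_self _ _ _⟩
    · intro z hz
      rw [Finset.mem_filter] at hz ⊢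
      exact ⟨Finset.mem_univ _, Function.update_self _ _ _⟩
    · intro w hw
      rw [Finset.mem_filter] at hw
      rw [Function.update_idem, ← hw.2, Function.update_eq_self]
    · intro z hz
      rw [Finset.mem_filter] at hz
      rw [Function.update_idem, ← hz.2, Function.update_eq_self]
    · intro w hw
      rw [Finset.mem_filter] at hw
      have hwa : Function.update (Function.update w i (x i)) i a = w := by
        rw [Function.update_idem, ← hw.2, Function.update_eq_self]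
      rw [hwa]
      congr 1
      rw [ptens_apply, ptens_apply]
      refine Finset.prod_congr rfl (fun j _ => ?_)
      by_cases hj : j = i
      · subst hj
        rw [hi, Function.update_self, Function.update_self, hw.2, Matrix.one_apply_eq, Matrix.one_apply_eq]
      · rw [Function.update_of_ne hj, Function.update_of_ne hj]
  · intro w _ hw
    rw [Finset.mem_filter] at hw
    have hwa : ¬ w i = a := fun h => hw ⟨Finset.mem_univ _, h⟩
    rw [ptens_apply, Finset.prod_eq_zero (Finset.mem_univ i), zero_mul]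
    rw [hi, Function.update_self, Matrix.one_apply_ne]
    exact fun h => hwa h.symm

lemma g6_ptens_fib_one (hs : Fin t → Matrix (Fin m) (Fin m) F) (i : Fin t) (hi : hs i = 1)
    (S : Submodule F (Fin m → F)) {v : Idx t m → F} (hv : v ∈ fib i S) :
    ptens m t hs *ᵥ v ∈ fib i S := by
  intro x
  rw [g6_ptens_slice_one hs i hi]
  exact S.sum_mem (fun z _ => S.smul_mem _ (hv z))

lemma g6_ptens_fib (gs : Fin t → Matrix (Fin m) (Fin m) F) (i : Fin t)
    (S : Submodule F (Fin m → F)) {v : Idx t m → F} (hv : v ∈ fib i S) :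
    ptens m t gs *ᵥ v ∈ fib i (S.map (Matrix.toLin' (gs i))) := by
  have hdec : ptens m t gs = slot m t i (gs i) * ptens m t (Function.update gs i 1) := by
    rw [g6_slot_mul_ptens, Function.update_self, mul_one, Function.update_idem, Function.update_eq_self]
  intro x
  rw [hdec, ← Matrix.mulVec_mulVec, Cfsg.Agent.Lib.Helper6.TWLeaf.slot_mulVec_slice]
  rw [Submodule.mem_map]
  refine ⟨_, g6_ptens_fib_one (Function.update gs i 1) i (Function.update_self _ _ _) S hv x, ?_⟩
  rw [Matrix.toLin'_apply]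

/-! ### TG6 -/

/-- TG6 (M) ACTION OF `G` ON THE SLOT ALGEBRAS AND ON THE FIBRES -/
theorem G_act_slot_fib (g : GL (Idx t m) F) (hg : g ∈ Gstd t m F) (i : Fin t) :
    ∃ (i' : Fin t) (α : GL (Fin m) F),
      (∀ A : Matrix (Fin m) (Fin m) F,
        (g : Matrix (Idx t m) (Idx t m) F) * slot m t i A * ((g⁻¹ : GL (Idx t m) F) : Matrix (Idx t m) (Idx t m) F) =
          slot m t i' ((α : Matrix (Fin m) (Fin m) F) * A * ((α⁻¹ : GL (Fin m) F) : Matrix (Fin m) (Fin m) F))) ∧
      ∀ S : Submodule F (Fin m → F),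
        img g (fib i S) = fib i' (S.map (Matrix.toLin' (α : Matrix (Fin m) (Fin m) F))) := by
  obtain ⟨σ, gs, hgv⟩ := Cfsg.Agent.Lib.Helper6.TWLeaf.G_normal_form g hg
  set gm : Fin t → Matrix (Fin m) (Fin m) F := fun j => ((gs j : GL (Fin m) F) : Matrix (Fin m) (Fin m) F) with hgm
  set gi : Fin t → Matrix (Fin m) (Fin m) F :=
    fun j => (((gs j)⁻¹ : GL (Fin m) F) : Matrix (Fin m) (Fin m) F) with hgi
  have hmi : ptens m t gm * ptens m t gi = 1 := by
    rw [ptens_mul]
    have : (fun j => gm j * gi j) = fun _ => (1 : Matrix (Fin m) (Fin m) F) := by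
      funext j
      simp only [hgm, hgi]
      rw [← Units.val_mul, mul_inv_cancel, Units.val_one]
    rw [this, ptens_one]
  refine ⟨σ i, gs i, ?_, ?_⟩
  · intro A
    set B : Matrix (Fin m) (Fin m) F := ((gs i : GL (Fin m) F) : Matrix (Fin m) (Fin m) F) * A *
      (((gs i)⁻¹ : GL (Fin m) F) : Matrix (Fin m) (Fin m) F) with hB
    have hsw : slot m t (σ i) B * fperm (F := F) m t σ = fperm m t σ * slot m t i B := by
      rw [← wr_fperm_conj_slot m t σ i B, Matrix.mul_assoc, wr_fperm_inv_mul, mul_one]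
    have hcomm : (g : Matrix (Idx t m) (Idx t m) F) * slot m t i A = slot m t (σ i) B * (g : Matrix (Idx t m) (Idx t m) F) := by
      rw [hgv, Matrix.mul_assoc, g6_ptens_mul_slot, ← Matrix.mul_assoc, hsw, Matrix.mul_assoc, g6_slot_mul_ptens]
      congr 2
      simp only [hgm, hB]
      rw [Matrix.mul_assoc, Matrix.mul_assoc, ← Units.val_mul, inv_mul_cancel, Units.val_one, mul_one]
    rw [hcomm, Matrix.mul_assoc, ← Units.val_mul, mul_inv_cancel, Units.val_one, mul_one]
  · intro S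
    apply le_antisymm
    · rintro w ⟨v, hv, rfl⟩
      rw [Matrix.toLin'_apply, hgv, ← Matrix.mulVec_mulVec]
      exact g6_fperm_fib σ i _ (g6_ptens_fib gm i S hv)
    · intro w hw
      -- `u = fperm σ⁻¹ w ∈ fib i (S.map α)`, `v = ptens gs⁻¹ u ∈ fib i S`, `g v = w`
      have hu : fperm (F := F) m t σ⁻¹ *ᵥ w ∈ fib i (S.map (Matrix.toLin' (gm i))) := by
        have := g6_fperm_fib (σ⁻¹) (σ i) _ hw
        have h1 : σ⁻¹ (σ i) = i := Equiv.Perm.inv_eq_iff_eq.mpr rfl
        rwa [h1] at this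
      have hv := g6_ptens_fib gi i _ hu
      have hmap : (S.map (Matrix.toLin' (gm i))).map (Matrix.toLin' (gi i)) = S := by
        rw [← Submodule.map_comp, ← Matrix.toLin'_mul]
        have : gi i * gm i = 1 := by
          simp only [hgm, hgi]
          rw [← Units.val_mul, inv_mul_cancel, Units.val_one]
        rw [this, Matrix.toLin'_one]
        exact Submodule.map_id S
      rw [hmap] at hv
      refine ⟨_, hv, ?_⟩
      rw [Matrix.toLin'_apply, hgv, ← Matrix.mulVec_mulVec]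
      have h2 : ptens m t gm *ᵥ (ptens m t gi *ᵥ (fperm (F := F) m t σ⁻¹ *ᵥ w)) = fperm (F := F) m t σ⁻¹ *ᵥ w := by
        rw [Matrix.mulVec_mulVec, hmi, Matrix.one_mulVec]
      rw [h2, Matrix.mulVec_mulVec, wr_fperm_mul_inv, Matrix.one_mulVec]

/-! ### TG7 -/

lemma g7_conj_vecMulVec (α : GL (Fin m) F) (y η : Fin m → F) :
    (α : Matrix (Fin m) (Fin m) F) * Matrix.vecMulVec y η * ((α⁻¹ : GL (Fin m) F) : Matrix (Fin m) (Fin m) F) =
      Matrix.vecMulVec ((α : Matrix (Fin m) (Fin m) F) *ᵥ y)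
        (η ᵥ* ((α⁻¹ : GL (Fin m) F) : Matrix (Fin m) (Fin m) F)) := by
  ext a b
  simp only [Matrix.mul_apply, Matrix.vecMulVec_apply, Matrix.mulVec, Matrix.vecMul, dotProduct]
  rw [Finset.sum_mul_sum]
  rw [Finset.sum_comm]
  refine Finset.sum_congr rfl (fun k _ => ?_)
  rw [Finset.sum_mul]
  refine Finset.sum_congr rfl (fun l _ => ?_)
  ring

lemma g7_map_span (α : GL (Fin m) F) (y : Fin m → F) :
    (F ∙ y).map (Matrix.toLin' (α : Matrix (Fin m) (Fin m) F)) = F ∙ ((α : Matrix (Fin m) (Fin m) F) *ᵥ y) := by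
  rw [Submodule.map_span, Set.image_singleton, Matrix.toLin'_apply]

lemma g7_inv_mulVec (α : GL (Fin m) F) (a : Fin m → F) :
    ((α⁻¹ : GL (Fin m) F) : Matrix (Fin m) (Fin m) F) *ᵥ ((α : Matrix (Fin m) (Fin m) F) *ᵥ a) = a := by
  rw [Matrix.mulVec_mulVec, ← Units.val_mul, inv_mul_cancel, Units.val_one, Matrix.one_mulVec]

lemma g7_mulVec_inv (α : GL (Fin m) F) (a : Fin m → F) :
    (α : Matrix (Fin m) (Fin m) F) *ᵥ (((α⁻¹ : GL (Fin m) F) : Matrix (Fin m) (Fin m) F) *ᵥ a) = a := by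
  rw [Matrix.mulVec_mulVec, ← Units.val_mul, mul_inv_cancel, Units.val_one, Matrix.one_mulVec]

lemma g7_map_kerF (α : GL (Fin m) F) (η : Fin m → F) :
    (kerF η).map (Matrix.toLin' (α : Matrix (Fin m) (Fin m) F)) =
      kerF (η ᵥ* ((α⁻¹ : GL (Fin m) F) : Matrix (Fin m) (Fin m) F)) := by
  ext a
  rw [Submodule.mem_map, mem_kerF]
  constructor
  · rintro ⟨b, hb, rfl⟩
    rw [mem_kerF] at hb
    rw [Matrix.toLin'_apply, ← Matrix.dotProduct_mulVec, g7_inv_mulVec]
    exact hb
  · intro ha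
    refine ⟨((α⁻¹ : GL (Fin m) F) : Matrix (Fin m) (Fin m) F) *ᵥ a, ?_, ?_⟩
    · rw [mem_kerF, Matrix.dotProduct_mulVec]
      exact ha
    · rw [Matrix.toLin'_apply, g7_mulVec_inv]

/-- TG7 (M) ACTION OF `G` ON ROOT DATA -/
theorem G_act_RD (g : GL (Idx t m) F) (hg : g ∈ Gstd t m F) (r : RD t m F) :
    ∃ r' : RD t m F, img g r.W = r'.W ∧ img g r.C = r'.C ∧ conjG g r.grp = r'.grp ∧
      (g : Matrix (Idx t m) (Idx t m) F) * r.N * ((g⁻¹ : GL (Idx t m) F) : Matrix (Idx t m) (Idx t m) F) = r'.N := by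
  obtain ⟨i', α, hA, hS⟩ := G_act_slot_fib g hg r.i
  have hy' : (α : Matrix (Fin m) (Fin m) F) *ᵥ r.y ≠ 0 := by
    intro h
    apply r.hy
    rw [← g7_inv_mulVec α r.y, h, Matrix.mulVec_zero]
  have hη' : r.η ᵥ* ((α⁻¹ : GL (Fin m) F) : Matrix (Fin m) (Fin m) F) ≠ 0 := by
    intro h
    apply r.hη
    have : (r.η ᵥ* ((α⁻¹ : GL (Fin m) F) : Matrix (Fin m) (Fin m) F)) ᵥ* (α : Matrix (Fin m) (Fin m) F) = r.η := by
      rw [Matrix.vecMul_vecMul, ← Units.val_mul, inv_mul_cancel, Units.val_one, Matrix.vecMul_one]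
    rw [← this, h, Matrix.zero_vecMul]
  have h0' : (r.η ᵥ* ((α⁻¹ : GL (Fin m) F) : Matrix (Fin m) (Fin m) F)) ⬝ᵥ ((α : Matrix (Fin m) (Fin m) F) *ᵥ r.y) = 0 := by
    rw [← Matrix.dotProduct_mulVec, g7_inv_mulVec]
    exact r.h0
  set r' : RD t m F := ⟨i', (α : Matrix (Fin m) (Fin m) F) *ᵥ r.y,
    r.η ᵥ* ((α⁻¹ : GL (Fin m) F) : Matrix (Fin m) (Fin m) F), hy', hη', h0'⟩ with hr'
  have hN : (g : Matrix (Idx t m) (Idx t m) F) * r.N * ((g⁻¹ : GL (Idx t m) F) : Matrix (Idx t m) (Idx t m) F) = r'.N := by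
    change (g : Matrix (Idx t m) (Idx t m) F) * slot m t r.i (Matrix.vecMulVec r.y r.η) *
      ((g⁻¹ : GL (Idx t m) F) : Matrix (Idx t m) (Idx t m) F) = slot m t i' (Matrix.vecMulVec _ _)
    rw [hA, g7_conj_vecMulVec]
  refine ⟨r', ?_, ?_, ?_, hN⟩
  · change img g (fib r.i (F ∙ r.y)) = fib i' (F ∙ ((α : Matrix (Fin m) (Fin m) F) *ᵥ r.y))
    rw [hS, g7_map_span]
  · change img g (fib r.i (kerF r.η)) = fib i' (kerF (r.η ᵥ* ((α⁻¹ : GL (Fin m) F) : Matrix (Fin m) (Fin m) F)))
    rw [hS, g7_map_kerF]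
  · have helt : ∀ c : F, g * r.elt c * g⁻¹ = r'.elt c := by
      intro c
      apply Units.ext
      rw [Units.val_mul, Units.val_mul, RD.elt_val, RD.elt_val, mul_add, add_mul, mul_one, ← Units.val_mul,
        mul_inv_cancel, Units.val_one, Matrix.mul_smul, Matrix.smul_mul, hN]
    ext h
    rw [mem_conjG]
    constructor
    · rintro ⟨x, ⟨c, rfl⟩, rfl⟩
      exact ⟨c, helt c⟩
    · rintro ⟨c, rfl⟩
      exact ⟨r.elt c, ⟨c, rfl⟩, helt c⟩

end Cfsg.Agent.Lib.Helper23.TWLeaf
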