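import Mathlib
import Cfsg.Agent.Lib.Helper8.TW.Defs
import Cfsg.Agent.Lib.Helper8.TW.StageIDefs
import Cfsg.Agent.Lib.Helper23.SOTGTM
import Cfsg.Agent.Lib.Helper16.TWImg
import Cfsg.Agent.Lib.Helper16.TWRootA
import Cfsg.Agent.Lib.Helper16.TWRootB
import Cfsg.Agent.Lib.Helper23.TWG6

/-!
S5641 (C7), STAGE I leaves (helper8's market 2, `notes/S5641_I_leaves.lean`), exact signatures:
I0 `nonempty_RD`, I1 `G0_props`, I2 `exists_x`, I3 `key` (helper23).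
-/

set_option autoImplicit false
set_option linter.unusedSectionVars false
set_option linter.unusedVariables false

namespace Cfsg.Agent.Lib.Helper23.TWLeaf
open Matrix Cfsg.Geo Cfsg.Agent.Lib.Helper18.AschA89 Cfsg.Agent.Lib.Helper8.TW

variable {F : Type*} [Field F] [Fintype F] {t m : ℕ}

/-- I0 (S) -/
theorem nonempty_RD (hm : 2 ≤ m) (ht : 0 < t) : Nonempty (RD t m F) := by
  have hy : (Pi.single (⟨0, by omega⟩ : Fin m) (1 : F) : Fin m → F) ≠ 0 := by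
    intro h
    have := congrFun h ⟨0, by omega⟩
    rw [Pi.single_eq_same] at this
    exact one_ne_zero this
  obtain ⟨r, -, -⟩ := Cfsg.Agent.Lib.Helper16.TWLeaf.exists_RD_of_y (F := F) hm (⟨0, ht⟩ : Fin t) _ hy
  exact ⟨r⟩

/-! ### I1 -/

lemma i1_mv_one (v : Idx t m → F) : mv (1 : GL (Idx t m) F) v = v := by
  unfold mv
  rw [Units.val_one, Matrix.one_mulVec]

lemma i1_mv_add (x : GL (Idx t m) F) (v w : Idx t m → F) : mv x (v + w) = mv x v + mv x w := by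
  unfold mv
  rw [Matrix.mulVec_add]

lemma i1_mv_sub (x : GL (Idx t m) F) (v w : Idx t m → F) : mv x (v - w) = mv x v - mv x w := by
  unfold mv
  rw [Matrix.mulVec_sub]

lemma i1_mv_smul (x : GL (Idx t m) F) (c : F) (v : Idx t m → F) : mv x (c • v) = c • mv x v := by
  unfold mv
  rw [Matrix.mulVec_smul]

lemma i1_mv_inv_mv (x : GL (Idx t m) F) (v : Idx t m → F) : mv x⁻¹ (mv x v) = v := by
  rw [← Cfsg.Agent.Lib.Helper16.TWLeaf.mv_mul, inv_mul_cancel, i1_mv_one]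

lemma i1_mv_mv_inv (x : GL (Idx t m) F) (v : Idx t m → F) : mv x (mv x⁻¹ v) = v := by
  rw [← Cfsg.Agent.Lib.Helper16.TWLeaf.mv_mul, mul_inv_cancel, i1_mv_one]

lemma i1_mv_mem_img (x : GL (Idx t m) F) (S : Submodule F (Idx t m → F)) {v : Idx t m → F} (hv : v ∈ S) :
    mv x v ∈ img x S := by
  unfold img mv
  rw [← Matrix.toLin'_apply]
  exact Submodule.mem_map_of_mem hv

/-- the subgroup of the elements which are `1` modulo `U` and fix `D` pointwise -/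
def i1_sub (U D : Submodule F (Idx t m → F)) : Subgroup (GL (Idx t m) F) where
  carrier := {x | (∀ v, mv x v - v ∈ U) ∧ (∀ v ∈ D, mv x v = v)}
  one_mem' := by
    refine ⟨fun v => ?_, fun v _ => i1_mv_one v⟩
    rw [i1_mv_one, sub_self]
    exact U.zero_mem
  mul_mem' := by
    rintro x y ⟨hx1, hx2⟩ ⟨hy1, hy2⟩
    refine ⟨fun v => ?_, fun v hv => ?_⟩
    · rw [Cfsg.Agent.Lib.Helper16.TWLeaf.mv_mul]
      have : mv x (mv y v) - v = (mv x (mv y v) - mv y v) + (mv y v - v) := by abel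
      rw [this]
      exact U.add_mem (hx1 _) (hy1 _)
    · rw [Cfsg.Agent.Lib.Helper16.TWLeaf.mv_mul, hy2 v hv, hx2 v hv]
  inv_mem' := by
    rintro x ⟨hx1, hx2⟩
    refine ⟨fun v => ?_, fun v hv => ?_⟩
    · have h := hx1 (mv x⁻¹ v)
      rw [i1_mv_mv_inv] at h
      have : mv x⁻¹ v - v = -(v - mv x⁻¹ v) := by abel
      rw [this]
      exact U.neg_mem h
    · have := hx2 v hv
      calc mv x⁻¹ v = mv x⁻¹ (mv x v) := by rw [this]
        _ = v := i1_mv_inv_mv x v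

lemma i1_mem_sub {U D : Submodule F (Idx t m → F)} {x : GL (Idx t m) F} :
    x ∈ i1_sub U D ↔ (∀ v, mv x v - v ∈ U) ∧ (∀ v ∈ D, mv x v = v) := Iff.rfl

/-- I1 (M) -/
theorem G0_props (g : GL (Idx t m) F) (r₁ r₂ : RD t m F) (x : GL (Idx t m) F)
    (hx : x ∈ r₁.grp ⊔ conjG g r₂.grp) :
    (∀ v, mv x v - v ∈ r₁.W ⊔ img g r₂.W) ∧ (∀ v ∈ r₁.C ⊓ img g r₂.C, mv x v = v) := by
  have hle : r₁.grp ⊔ conjG g r₂.grp ≤ i1_sub (r₁.W ⊔ img g r₂.W) (r₁.C ⊓ img g r₂.C) := by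
    apply sup_le
    · rintro a ⟨c, rfl⟩
      rw [i1_mem_sub]
      refine ⟨fun v => ?_, fun v hv => ?_⟩
      · rw [Cfsg.Agent.Lib.Helper16.TWLeaf.RD_elt_mv, add_sub_cancel_left]
        apply Submodule.mem_sup_left
        apply Submodule.smul_mem
        rw [← Cfsg.Agent.Lib.Helper16.TWLeaf.RD_range_N, ← Matrix.toLin'_apply]
        exact LinearMap.mem_range_self _ _
      · rw [Cfsg.Agent.Lib.Helper16.TWLeaf.RD_elt_mv]
        have h1 : v ∈ r₁.C := hv.1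
        rw [← Cfsg.Agent.Lib.Helper16.TWLeaf.RD_ker_N, LinearMap.mem_ker, Matrix.toLin'_apply] at h1
        rw [h1, smul_zero, add_zero]
    · intro b hb
      rw [mem_conjG] at hb
      obtain ⟨a, ⟨c, rfl⟩, rfl⟩ := hb
      rw [i1_mem_sub]
      have hmv : ∀ v, mv (g * r₂.elt c * g⁻¹) v = v + c • mv g (r₂.N *ᵥ mv g⁻¹ v) := by
        intro v
        rw [Cfsg.Agent.Lib.Helper16.TWLeaf.mv_mul, Cfsg.Agent.Lib.Helper16.TWLeaf.mv_mul,
          Cfsg.Agent.Lib.Helper16.TWLeaf.RD_elt_mv, i1_mv_add, i1_mv_mv_inv, i1_mv_smul]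
      refine ⟨fun v => ?_, fun v hv => ?_⟩
      · rw [hmv, add_sub_cancel_left]
        apply Submodule.mem_sup_right
        apply Submodule.smul_mem
        apply i1_mv_mem_img
        rw [← Cfsg.Agent.Lib.Helper16.TWLeaf.RD_range_N, ← Matrix.toLin'_apply]
        exact LinearMap.mem_range_self _ _
      · rw [hmv]
        have h1 : v ∈ img g r₂.C := hv.2
        rw [Cfsg.Agent.Lib.Helper16.TWLeaf.mem_img_iff, ← Cfsg.Agent.Lib.Helper16.TWLeaf.RD_ker_N, LinearMap.mem_ker,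
          Matrix.toLin'_apply] at h1
        rw [h1]
        have : mv g (0 : Idx t m → F) = 0 := by
          unfold mv
          rw [Matrix.mulVec_zero]
        rw [this, smul_zero, add_zero]
  exact i1_mem_sub.1 (hle hx)

/-! ### I2 -/

/-- I2 (M) FIXED POINT TRICK -/
theorem exists_x {X : Subgroup (GL (Idx t m) F)} (c : Ctx X) (g : GL (Idx t m) F) (hgX : g ∈ X)
    (r₁ r₂ : RD t m F) :
    ∃ x ∈ r₁.grp ⊔ conjG g r₂.grp, x⁻¹ * g ∈ Gstd t m F := by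
  classical
  have : Fact (ringChar F).Prime := ⟨CharP.char_is_prime F (ringChar F)⟩
  have : CharP F (ringChar F) := ringChar.charP F
  have hgrpH : ∀ r : RD t m F, r.grp ≤ Hstd t m F := by
    rintro r a ⟨c', rfl⟩
    exact Cfsg.Agent.Lib.Helper16.TWLeaf.RD_elt_mem_H r c'
  have hPM : r₁.grp ≤ X := (hgrpH r₁).trans c.hHX
  have hP'M : conjG g r₂.grp ≤ X := by
    intro b hb
    rw [mem_conjG] at hb
    obtain ⟨a, ha, rfl⟩ := hb
    exact X.mul_mem (X.mul_mem hgX ((hgrpH r₂).trans c.hHX ha)) (X.inv_mem hgX)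
  have hP : IsPGroup (ringChar F) r₁.grp := Cfsg.Agent.Lib.Helper16.TWLeaf.RD_isPGroup (ringChar F) r₁
  have hP' : IsPGroup (ringChar F) (conjG g r₂.grp) := by
    unfold conjG
    exact (Cfsg.Agent.Lib.Helper16.TWLeaf.RD_isPGroup (ringChar F) r₂).map _
  have hPH : r₁.grp ≤ Gstd t m F := fun a ha => (hgrpH r₁ ha).1
  obtain ⟨x₀, hx₀, hx₀G⟩ := Cfsg.Agent.Lib.Helper23.SOTLeafM.exists_mem_sup_coset (ringChar F) X (Gstd t m F)
    r₁.grp (conjG g r₂.grp) g hgX hPM hP'M hP hP' hPH (fun m' hm' h => c.fc r₁ m' hm' h)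
    (fun m' hm' h => by
      apply c.fc r₂ (g⁻¹ * m') (X.mul_mem (X.inv_mem hgX) hm')
      intro u hu
      have h1 : g * u * g⁻¹ ∈ conjG g r₂.grp := mem_conjG.2 ⟨u, hu, rfl⟩
      have h2 := h _ h1
      have h3 : (g⁻¹ * m')⁻¹ * u * (g⁻¹ * m') = m'⁻¹ * (g * u * g⁻¹) * m' := by group
      rw [h3]
      exact h2)
  refine ⟨x₀, hx₀, ?_⟩
  have : x₀⁻¹ * g = (g⁻¹ * x₀)⁻¹ := by group
  rw [this]
  exact (Gstd t m F).inv_mem hx₀G

/-! ### I3 -/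

/-- I3 (M) THE KEY -/
theorem key {X : Subgroup (GL (Idx t m) F)} (c : Ctx X) (g : GL (Idx t m) F) (hgX : g ∈ X)
    (r₁ r₂ : RD t m F) :
    ∃ (x : GL (Idx t m) F) (r₃ : RD t m F), Key g r₁ r₂ x r₃ := by
  obtain ⟨x, hx, hh⟩ := exists_x c g hgX r₁ r₂
  obtain ⟨r₃, hW3, hC3, hT3, -⟩ := G_act_RD (x⁻¹ * g) hh r₂
  have hxg : x * (x⁻¹ * g) = g := by group
  have hxi : x⁻¹ ∈ r₁.grp ⊔ conjG g r₂.grp := Subgroup.inv_mem _ hx
  obtain ⟨hx1, hx2⟩ := G0_props g r₁ r₂ x hx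
  obtain ⟨hxi1, hxi2⟩ := G0_props g r₁ r₂ x⁻¹ hxi
  -- `r₃.W = x⁻¹ W'`, `r₃.C = x⁻¹ C'`
  have hW3' : r₃.W = img x⁻¹ (img g r₂.W) := by
    rw [← hW3, Cfsg.Agent.Lib.Helper16.TWLeaf.img_mul]
  have hC3' : r₃.C = img x⁻¹ (img g r₂.C) := by
    rw [← hC3, Cfsg.Agent.Lib.Helper16.TWLeaf.img_mul]
  have hWC' : img g r₂.W ≤ img g r₂.C :=
    (Cfsg.Agent.Lib.Helper16.TWLeaf.img_le_img_iff g _ _).2 (Cfsg.Agent.Lib.Helper16.TWLeaf.RD_W_le_C r₂)
  refine ⟨x, r₃, ⟨hx, hh, ?_, ?_, ?_, ?_, ?_, ?_, hx1, hx2⟩⟩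
  · rw [← hW3, ← Cfsg.Agent.Lib.Helper16.TWLeaf.img_mul, hxg]
  · rw [← hC3, ← Cfsg.Agent.Lib.Helper16.TWLeaf.img_mul, hxg]
  · rw [← hT3, ← Cfsg.Agent.Lib.Helper16.TWLeaf.conjG_mul, hxg]
  · intro w hw
    rw [hW3', Cfsg.Agent.Lib.Helper16.TWLeaf.mem_img_iff, inv_inv] at hw
    -- `w = x⁻¹ w'`, `w' = x w ∈ W'`
    have h1 := hxi1 (mv x w)
    rw [i1_mv_inv_mv] at h1
    have : w = mv x w + (w - mv x w) := by abel
    rw [this]
    exact Submodule.add_mem _ (Submodule.mem_sup_right hw) h1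
  · intro v hv
    have hvD : v ∈ r₁.C ⊓ img g r₂.C := ⟨hv.2, hWC' hv.1⟩
    have hfix := hxi2 v hvD
    rw [hW3', ← hfix]
    exact i1_mv_mem_img x⁻¹ _ hv.1
  · intro v hv
    have hfix := hxi2 v hv
    rw [hC3', ← hfix]
    exact i1_mv_mem_img x⁻¹ _ hv.2

end Cfsg.Agent.Lib.Helper23.TWLeaf
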