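import Mathlib
import Cfsg.Agent.Lib.Helper8.TW.Defs

/-!
S5672 (C7 unitary, owner helper5), block (Q') = rigidity + fusion control (sub-planner helper23): FORM-FREE definitions.

`iso` = "isotropic" predicate on `A = F^m`; `R` = the admissible root data (for the unitary case: `r.y` isotropic and `r.η = r.y†`);
`S` = the admissible scalars (`c + c^q = 0`).  The unitary layer instantiates them.
-/

set_option autoImplicit false
set_option linter.unusedSectionVars false
set_option linter.unusedVariables false

namespace Cfsg.Agent.Lib.Helper23.TWUQ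
open Matrix Cfsg.Geo Cfsg.Agent.Lib.Helper18.AschA89 Cfsg.Agent.Lib.Helper8.TW

variable {F : Type*} [Field F] {t m : ℕ}

/-- NS relative to an isotropy predicate: every element of `X` mapping an isotropic fibre onto an isotropic fibre lies in `G` -/
def NSp (iso : (Fin m → F) → Prop) (X : Subgroup (GL (Idx t m) F)) : Prop :=
  ∀ g ∈ X, (∃ (i i' : Fin t) (y y' : Fin m → F), y ≠ 0 ∧ y' ≠ 0 ∧ iso y ∧ iso y' ∧ img g (Wf i y) = Wf i' y') →
    g ∈ Gstd t m F

/-- FC relative to a class `R` of root data and a set `S` of scalars: an element of `X` conjugating the root elements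
`r.elt c` (`R r`, `c ∈ S`) into `G` lies in `G` -/
def FCp (R : RD t m F → Prop) (S : Set F) (X : Subgroup (GL (Idx t m) F)) : Prop :=
  ∀ (r : RD t m F), R r → ∀ g ∈ X, (∀ c ∈ S, g⁻¹ * r.elt c * g ∈ Gstd t m F) → g ∈ Gstd t m F

end Cfsg.Agent.Lib.Helper23.TWUQ
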