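import Mathlib
import Cfsg.Agent.Lib.Helper8.TW.Defs
import Cfsg.Agent.Lib.Helper6.TWQMain
import Cfsg.Agent.Lib.Helper23.TWUQDefs

/-!
S5672 (C7 unitary), block (Q') (sub-planner helper23), leaf (QU1) `rootlike_is_root_two`: helper6's Lemma Q'(a)
(`Helper6.TWQ.rootlike_is_root`) with TWO members `1 + N`, `1 + c N` (`c ≠ 0, 1`) of the family only.  The proof is helper6's,
verbatim, with the weaker hypothesis.
-/

set_option autoImplicit false
set_option linter.unusedSectionVars false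
set_option linter.unusedVariables false

namespace Cfsg.Agent.Lib.Helper23.TWUQLeaf
open Matrix Cfsg.Geo Cfsg.Agent.Lib.Helper18.AschA89 Cfsg.Agent.Lib.Helper20.AschLeaf
open Cfsg.Agent.Lib.Helper6.TWQ

section core
variable {F : Type*} [Field F] [Fintype F] {m t : ℕ}

open Cfsg.Agent.Lib.Helper28.SLMLeaf in
/-- a root-like family `{1 + c N}` inside `G` (`q ≥ 3`) moves every pure vector in at most one position -/
theorem atMostOne_of_two
    (N : Matrix (Fin t → Fin m) (Fin t → Fin m) F) (c : F) (hc0 : c ≠ 0) (hc1 : c ≠ 1)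
    (hG : ∃ g ∈ tensorWreathStandard m t F,
      (g : Matrix (Fin t → Fin m) (Fin t → Fin m) F) = 1 + c • N)
    (σ : Equiv.Perm (Fin t)) (α : Fin t → GL (Fin m) F)
    (hnf : 1 + N = fperm m t σ * ptens m t
      (fun i => ((α i : GL (Fin m) F) : Matrix (Fin m) (Fin m) F))) : AtMostOne σ α := by
  intro xs hxs j₁ j₂ hne h₁ h₂
  obtain ⟨g, hg, hgv⟩ := hG
  have hdec : (g : Matrix (Fin t → Fin m) (Fin t → Fin m) F) *ᵥ pv xs ∈ DecT m t F :=
    (tensorWreathStandard_le_stab m t hg (pv xs)).2 ⟨xs, rfl⟩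
  obtain ⟨cs, hcs⟩ := hdec
  set ys : Fin t → Fin m → F := fun j =>
    ((α (σ.symm j) : GL (Fin m) F) : Matrix (Fin m) (Fin m) F) *ᵥ xs (σ.symm j) with hys
  have hNv : N *ᵥ pv xs = pv ys - pv xs := by
    have h3 := nf_mulVec_pv σ (fun i => ((α i : GL (Fin m) F) : Matrix (Fin m) (Fin m) F)) xs
    rw [← hnf, Matrix.add_mulVec, Matrix.one_mulVec] at h3
    rw [← h3]
    abel
  have hline : (1 - c) • pv xs + c • pv ys = pv cs := by
    have h4 : (g : Matrix (Fin t → Fin m) (Fin t → Fin m) F) *ᵥ pv xs = pv cs := hcs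
    rw [← h4, hgv, Matrix.add_mulVec, Matrix.one_mulVec, Matrix.smul_mulVec, hNv]
    module
  refine pure_line xs ys cs (1 - c) c (sub_ne_zero.2 (Ne.symm hc1)) hc0 hxs ?_ hline hne h₁ h₂
  intro j
  exact GL_mulVec_ne_zero _ (hxs _)

/-- LEMMA Q'(a): for `q ≥ 3`, a root-like family `{1 + c N}` inside `G = tensorWreathStandard m t F` consists of root
elements: `N = slot j (z ζᵀ)` with `ζ·z = 0`. -/
theorem rootlike_is_root_two' (hm : 2 ≤ m)
    (N : Matrix (Fin t → Fin m) (Fin t → Fin m) F) (hN0 : N ≠ 0) (hNN : N * N = 0)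
    (hrk : N.rank ≤ m ^ (t - 1)) (c : F) (hc0 : c ≠ 0) (hc1 : c ≠ 1)
    (h1 : ∃ g ∈ tensorWreathStandard m t F,
      (g : Matrix (Fin t → Fin m) (Fin t → Fin m) F) = 1 + N)
    (hG : ∃ g ∈ tensorWreathStandard m t F,
      (g : Matrix (Fin t → Fin m) (Fin t → Fin m) F) = 1 + c • N) :
    ∃ (j : Fin t) (z ζ : Fin m → F), z ≠ 0 ∧ ζ ≠ 0 ∧ ζ ⬝ᵥ z = 0 ∧
      N = slot m t j (Matrix.vecMulVec z ζ) := by
  obtain ⟨g, hg, hgv⟩ := h1
  obtain ⟨σ, α, hnf⟩ := exists_fperm_ptens g hg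
  rw [hgv] at hnf
  have hAMO := atMostOne_of_two N c hc0 hc1 hG σ α hnf
  have hσ : σ = 1 := perm_eq_one_of_atMostOne hm hAMO
  subst hσ
  rw [wr_fperm_one, one_mul] at hnf
  -- some factor is not scalar
  obtain ⟨j, hj⟩ : ∃ j, ¬ ∃ c : F, ((α j : GL (Fin m) F) : Matrix (Fin m) (Fin m) F) = c • 1 := by
    by_contra hc
    push Not at hc
    choose cs hcs using hc
    have h1 : (fun i => ((α i : GL (Fin m) F) : Matrix (Fin m) (Fin m) F)) =
        fun i => cs i • (1 : Matrix (Fin m) (Fin m) F) := funext hcs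
    rw [h1, ptens_smul, ptens_one] at hnf
    have hN : N = ((∏ i, cs i) - 1) • (1 : Matrix (Fin t → Fin m) (Fin t → Fin m) F) := by
      rw [sub_smul, one_smul, ← hnf]
      abel
    rw [hN, Matrix.smul_mul, Matrix.mul_smul, Matrix.one_mul, smul_smul] at hNN
    have h0 : ((∏ i, cs i) - 1) * ((∏ i, cs i) - 1) = 0 := by
      by_contra hne
      have h5 := congrFun (congrFun hNN (fun _ => ⟨0, by omega⟩)) (fun _ => ⟨0, by omega⟩)
      rw [Matrix.smul_apply, Matrix.one_apply_eq, smul_eq_mul, mul_one, Matrix.zero_apply] at h5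
      exact hne h5
    have h6 : (∏ i, cs i) - 1 = 0 := by
      rcases mul_eq_zero.1 h0 with h | h <;> exact h
    apply hN0
    rw [hN, h6, zero_smul]
  -- all other factors are scalar
  have hothers : ∀ i, i ≠ j → ∃ c : F, ((α i : GL (Fin m) F) : Matrix (Fin m) (Fin m) F) = c • 1 :=
    fun i hi => scalar_of_atMostOne hm hAMO (Ne.symm hi) hj
  choose cs hcs using hothers
  let d : Fin t → F := fun i => if h : i = j then 1 else cs i h
  have h1 : (fun i => ((α i : GL (Fin m) F) : Matrix (Fin m) (Fin m) F)) =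
      fun i => d i • Function.update (fun _ => (1 : Matrix (Fin m) (Fin m) F)) j
        ((α j : GL (Fin m) F) : Matrix (Fin m) (Fin m) F) i := by
    funext i
    by_cases hi : i = j
    · subst hi
      simp only [d, dif_pos, Function.update_self, one_smul]
    · simp only [d, dif_neg hi, Function.update_of_ne hi]
      exact hcs i hi
  rw [h1, ptens_smul, ← slot_eq_ptens, ← slot_smul] at hnf
  set A : Matrix (Fin m) (Fin m) F :=
    (∏ i, d i) • ((α j : GL (Fin m) F) : Matrix (Fin m) (Fin m) F) with hA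
  have hN : N = slot m t j (A - 1) := by
    rw [slot_sub, slot_one, ← hnf]
    abel
  have hm0 : 0 < m := by omega
  have hB0 : A - 1 ≠ 0 := by
    intro h
    apply hN0
    rw [hN, h, slot_zero]
  have hBB : (A - 1) * (A - 1) = 0 := by
    apply slot_injective hm0 j
    rw [slot_mul, ← hN, hNN, slot_zero]
  have hBr : (A - 1).rank ≤ 1 := by
    rw [hN, rank_slot] at hrk
    have hpos : 0 < m ^ (t - 1) := pow_pos hm0 _
    by_contra hc
    push Not at hc
    have : 2 * m ^ (t - 1) ≤ (A - 1).rank * m ^ (t - 1) := Nat.mul_le_mul_right _ hc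
    omega
  obtain ⟨z, ζ, hz, hζ, hB⟩ := exists_vecMulVec_of_rank_le_one hB0 hBr
  refine ⟨j, z, ζ, hz, hζ, ?_, by rw [hN, hB]⟩
  rw [hB, vecMulVec_mul_self] at hBB
  rcases smul_eq_zero.1 hBB with h | h
  · exact h
  · exact absurd (hB.trans h) hB0


end core

/-- (QU1) exact signature of `notes/S5672_Q_leaves.lean` -/
theorem rootlike_is_root_two {F : Type*} [Field F] {t m : ℕ} [Fintype F] (hm : 2 ≤ m)
    (N : Matrix (Cfsg.Agent.Lib.Helper8.TW.Idx t m) (Cfsg.Agent.Lib.Helper8.TW.Idx t m) F) (hN0 : N ≠ 0)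
    (hNN : N * N = 0) (hrk : N.rank ≤ m ^ (t - 1)) (c : F) (hc0 : c ≠ 0) (hc1 : c ≠ 1)
    (h1 : ∃ g ∈ Cfsg.Agent.Lib.Helper8.TW.Gstd t m F,
      (g : Matrix (Cfsg.Agent.Lib.Helper8.TW.Idx t m) (Cfsg.Agent.Lib.Helper8.TW.Idx t m) F) = 1 + N)
    (hc : ∃ g ∈ Cfsg.Agent.Lib.Helper8.TW.Gstd t m F,
      (g : Matrix (Cfsg.Agent.Lib.Helper8.TW.Idx t m) (Cfsg.Agent.Lib.Helper8.TW.Idx t m) F) = 1 + c • N) :
    ∃ (j : Fin t) (z ζ : Fin m → F), z ≠ 0 ∧ ζ ≠ 0 ∧ ζ ⬝ᵥ z = 0 ∧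
      N = Cfsg.Agent.Lib.Helper8.TW.rootN j z ζ :=
  rootlike_is_root_two' hm N hN0 hNN hrk c hc0 hc1 h1 hc

end Cfsg.Agent.Lib.Helper23.TWUQLeaf
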