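import Mathlib
import Cfsg.Agent.Lib.Helper8.TW.Defs
import Cfsg.Agent.Lib.Helper6.TWQMain
import Cfsg.Agent.Lib.Helper23.TWUQDefs
import Cfsg.Agent.Lib.Helper23.TWUQ1
import Cfsg.Agent.Lib.Helper19.TWUQInvolutionNfSq

/-!
# S5672 (C7 unitary; owner helper5) — block (Q') = RIGIDITY + FUSION CONTROL: final assembly (helper23)

`rigid` : `g⁻¹ (r.elt c) g ∈ G` for the admissible scalars ⟹ `g` maps some fibre `Wf j z` onto `Wf r.i r.y`;
`fcp_of_nsp : NSp iso X → FCp R S X`.  FORM-FREE (see `notes/S5672_Q_leaves.lean`).  Leaves: `Helper23.TWUQ1`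
(`rootlike_is_root_two`), `Helper19.TWUQInvolutionNfSq` (`involution_nf_sq`); (PG) = `Helper8.TWUQPg.pg_of_fcp`,
(CM) = `cm_of_fcp` (helper4); the scalar hypothesis for the unitary case = `Helper23.TWUQSc.hS_unitary`.
-/

set_option autoImplicit false
set_option linter.unusedSectionVars false
set_option linter.unusedVariables false

namespace Cfsg.Agent.Lib.Helper23.TWUQFinal
open Matrix Cfsg.Geo Cfsg.Agent.Lib.Helper18.AschA89 Cfsg.Agent.Lib.Helper20.AschLeaf Cfsg.Agent.Lib.Helper8.TW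
open Cfsg.Agent.Lib.Helper23.TWUQ
open Cfsg.Agent.Lib.Helper6.TWQLeaf (nf_unique swap_rank_bound)
open Cfsg.Agent.Lib.Helper22.TWQLeaf (slot_of_pure_rank)
open Cfsg.Agent.Lib.Helper19.TWQLeaf (normalise_involution)
open Cfsg.Agent.Lib.Helper6.TWQFinal (root_of_slot rootN_ne_zero)
open Cfsg.Agent.Lib.Helper23.TWUQLeaf (rootlike_is_root_two)
open Cfsg.Agent.Lib.Helper19.TWUQLeaf (involution_nf_sq)

variable {F : Type*} [Field F] {t m : ℕ}

/-! ## ASSEMBLY (helper23) -/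

section Assembly
variable [Fintype F]

/-- (QU3) an involution `1 + N` of `G` with `N² = 0` of rank at most `m^(t-1)` is a root element (char 2, perfect, `m ≥ 4`) -/
theorem rootlike_invol (h2 : (2 : F) = 0) (hsq : ∀ x : F, ∃ y, y * y = x) (hm : 4 ≤ m)
    (N : Matrix (Idx t m) (Idx t m) F) (hN0 : N ≠ 0) (hNN : N * N = 0) (hrk : N.rank ≤ m ^ (t - 1))
    (h1 : ∃ g ∈ Gstd t m F, (g : Matrix (Idx t m) (Idx t m) F) = 1 + N) :
    ∃ (j : Fin t) (z ζ : Fin m → F), z ≠ 0 ∧ ζ ≠ 0 ∧ ζ ⬝ᵥ z = 0 ∧ N = rootN j z ζ := by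
  have hm0 : 0 < m := by omega
  obtain ⟨g, hg, hgv⟩ := h1
  obtain ⟨σ, α, hnf⟩ := Cfsg.Agent.Lib.Helper6.TWLeaf.G_normal_form g hg
  rw [hgv] at hnf
  by_cases hσ : σ = 1
  · subst hσ
    rw [wr_fperm_one, one_mul] at hnf
    have h1 : ptens m t (fun i => ((α i : GL (Fin m) F) : Matrix (Fin m) (Fin m) F)) ≠ 1 := by
      intro h
      apply hN0
      rw [h] at hnf
      exact add_left_cancel (a := (1 : Matrix (Idx t m) (Idx t m) F)) (b := N) (c := 0) (by rw [add_zero]; exact hnf)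
    have hrk2 : (ptens m t (fun i => ((α i : GL (Fin m) F) : Matrix (Fin m) (Fin m) F)) - 1).rank ≤ m ^ (t - 1) := by
      rw [← hnf, add_sub_cancel_left]
      exact hrk
    obtain ⟨j, A, hA⟩ := slot_of_pure_rank (by omega) α h1 hrk2
    have hNs : N = slot m t j (A - 1) := by
      rw [Cfsg.Agent.Lib.Helper6.TWQ.slot_sub, Cfsg.Agent.Lib.Helper8.TW.slot_one, ← hA, ← hnf, add_sub_cancel_left]
    obtain ⟨z, ζ, hz, hζ, h0, hN⟩ := root_of_slot hm0 N hN0 hNN hrk j (A - 1) hNs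
    exact ⟨j, z, ζ, hz, hζ, h0, hN⟩
  · exfalso
    have hh2 : (fperm m t σ * ptens m t (fun i => ((α i : GL (Fin m) F) : Matrix (Fin m) (Fin m) F))) *
        (fperm m t σ * ptens m t (fun i => ((α i : GL (Fin m) F) : Matrix (Fin m) (Fin m) F))) = 1 := by
      have : N + N = 0 := by rw [← two_smul F N, h2, zero_smul]
      rw [← hnf]
      calc (1 + N) * (1 + N) = 1 + (N + N) + N * N := by
            rw [add_mul, mul_add, mul_add, mul_one, one_mul, mul_one]; abel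
        _ = 1 := by rw [this, hNN, add_zero, add_zero]
    obtain ⟨hσσ, α₁, hα₁, hα₁1⟩ := involution_nf_sq h2 hsq (by omega) σ α hh2
    obtain ⟨β, α', hα'1, hnorm⟩ := normalise_involution σ α₁ hσσ hα₁1
    -- the pure element `k₀ = ptens β`
    have hβ1 : ptens m t (fun i => ((β i : GL (Fin m) F) : Matrix (Fin m) (Fin m) F)) *
        ptens m t (fun i => (((β i)⁻¹ : GL (Fin m) F) : Matrix (Fin m) (Fin m) F)) = 1 := by
      rw [ptens_mul]
      have : (fun i : Fin t => ((β i : GL (Fin m) F) : Matrix (Fin m) (Fin m) F) *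
          (((β i)⁻¹ : GL (Fin m) F) : Matrix (Fin m) (Fin m) F)) = fun _ => 1 := by
        funext i
        rw [← Units.val_mul, mul_inv_cancel, Units.val_one]
      rw [this, ptens_one]
    have hβ2 : ptens m t (fun i => (((β i)⁻¹ : GL (Fin m) F) : Matrix (Fin m) (Fin m) F)) *
        ptens m t (fun i => ((β i : GL (Fin m) F) : Matrix (Fin m) (Fin m) F)) = 1 := by
      rw [ptens_mul]
      have : (fun i : Fin t => (((β i)⁻¹ : GL (Fin m) F) : Matrix (Fin m) (Fin m) F) *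
          ((β i : GL (Fin m) F) : Matrix (Fin m) (Fin m) F)) = fun _ => 1 := by
        funext i
        rw [← Units.val_mul, inv_mul_cancel, Units.val_one]
      rw [this, ptens_one]
    obtain ⟨k₀, hk₀v, hk₀i⟩ : ∃ k₀ : GL (Idx t m) F,
        (k₀ : Matrix (Idx t m) (Idx t m) F) =
          ptens m t (fun i => ((β i : GL (Fin m) F) : Matrix (Fin m) (Fin m) F)) ∧
        ((k₀⁻¹ : GL (Idx t m) F) : Matrix (Idx t m) (Idx t m) F) =
          ptens m t (fun i => (((β i)⁻¹ : GL (Fin m) F) : Matrix (Fin m) (Fin m) F)) :=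
      ⟨⟨_, _, hβ1, hβ2⟩, rfl, rfl⟩
    obtain ⟨j₁, hj₁⟩ : ∃ j₁, σ j₁ ≠ j₁ := by
      by_contra hc
      push Not at hc
      exact hσ (Equiv.ext hc)
    have hrk' : (fperm m t σ * ptens m t (fun i => ((α' i : GL (Fin m) F) : Matrix (Fin m) (Fin m) F)) - 1).rank ≤
        m ^ (t - 1) := by
      have e1 : fperm m t σ * ptens m t (fun i => ((α' i : GL (Fin m) F) : Matrix (Fin m) (Fin m) F)) - 1 =
          ((k₀⁻¹ : GL (Idx t m) F) : Matrix (Idx t m) (Idx t m) F) *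
            (fperm m t σ * ptens m t (fun i => ((α₁ i : GL (Fin m) F) : Matrix (Fin m) (Fin m) F)) - 1) *
            (k₀ : Matrix (Idx t m) (Idx t m) F) := by
        rw [mul_sub, sub_mul, mul_one, ← Units.val_mul, inv_mul_cancel, Units.val_one, hk₀v, hk₀i, hnorm]
      rw [e1]
      have hdet1 : IsUnit ((k₀ : Matrix (Idx t m) (Idx t m) F)).det :=
        (Matrix.isUnit_iff_isUnit_det _).1 (k₀.isUnit)
      have hdet2 : IsUnit (((k₀⁻¹ : GL (Idx t m) F) : Matrix (Idx t m) (Idx t m) F)).det :=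
        (Matrix.isUnit_iff_isUnit_det _).1 ((k₀⁻¹).isUnit)
      rw [Matrix.rank_mul_eq_left_of_isUnit_det _ _ hdet1, Matrix.rank_mul_eq_right_of_isUnit_det _ _ hdet2, hα₁,
        ← hnf, add_sub_cancel_left]
      exact hrk
    obtain ⟨hm3, -⟩ := swap_rank_bound (by omega) σ α' hσσ j₁ (σ j₁) (Ne.symm hj₁) rfl hα'1 hrk'
    omega

/-- (QU4) RIGIDITY, fibre form: `g` maps some fibre onto the fibre of `r` -/
theorem rigid (hm : 3 ≤ m) (S : Set F)
    (hS : (∃ c₁ ∈ S, ∃ c₂ ∈ S, c₁ ≠ 0 ∧ c₂ ≠ 0 ∧ c₁ ≠ c₂) ∨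
      ((2 : F) = 0 ∧ (∀ x : F, ∃ y, y * y = x) ∧ 4 ≤ m ∧ ∃ c ∈ S, c ≠ 0))
    (r : RD t m F) (g : GL (Idx t m) F) (hconj : ∀ c ∈ S, g⁻¹ * r.elt c * g ∈ Gstd t m F) :
    ∃ (j : Fin t) (z : Fin m → F), z ≠ 0 ∧ img g (Wf j z) = Wf r.i r.y := by
  set G : Matrix (Idx t m) (Idx t m) F := (g : Matrix (Idx t m) (Idx t m) F) with hGdef
  set Gi : Matrix (Idx t m) (Idx t m) F := ((g⁻¹ : GL (Idx t m) F) : Matrix (Idx t m) (Idx t m) F) with hGidef
  have hGGi : G * Gi = 1 := by rw [hGdef, hGidef, ← Units.val_mul, mul_inv_cancel, Units.val_one]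
  have hGiG : Gi * G = 1 := by rw [hGdef, hGidef, ← Units.val_mul, inv_mul_cancel, Units.val_one]
  have hval : ∀ c : F, ((g⁻¹ * r.elt c * g : GL (Idx t m) F) : Matrix (Idx t m) (Idx t m) F) =
      1 + c • (Gi * r.N * G) := by
    intro c
    rw [Units.val_mul, Units.val_mul, RD.elt_val, mul_add, add_mul, mul_one]
    change Gi * G + Gi * (c • r.N) * G = _
    rw [hGiG, Matrix.mul_smul, Matrix.smul_mul]
  have hN0 : Gi * r.N * G ≠ 0 := by
    intro h0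
    apply rootN_ne_zero r.i r.hy r.hη
    change r.N = 0
    have : G * (Gi * r.N * G) * Gi = r.N := by
      rw [← mul_assoc, ← mul_assoc, hGGi, one_mul, mul_assoc, hGGi, mul_one]
    rw [← this, h0, mul_zero, zero_mul]
  have hNN : (Gi * r.N * G) * (Gi * r.N * G) = 0 := by
    have : (Gi * r.N * G) * (Gi * r.N * G) = Gi * (r.N * r.N) * G := by
      calc Gi * r.N * G * (Gi * r.N * G) = Gi * r.N * (G * Gi) * r.N * G := by simp only [mul_assoc]
        _ = Gi * (r.N * r.N) * G := by rw [hGGi]; simp only [mul_one, mul_assoc]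
    rw [this, r.N_sq, mul_zero, zero_mul]
  have hrk : (Gi * r.N * G).rank ≤ m ^ (t - 1) := by
    have hdet1 : IsUnit G.det := (Matrix.isUnit_iff_isUnit_det _).1 (g.isUnit)
    have hdet2 : IsUnit Gi.det := (Matrix.isUnit_iff_isUnit_det _).1 ((g⁻¹).isUnit)
    rw [Matrix.rank_mul_eq_left_of_isUnit_det _ _ hdet1, Matrix.rank_mul_eq_right_of_isUnit_det _ _ hdet2]
    change (slot m t r.i (Matrix.vecMulVec r.y r.η)).rank ≤ _
    rw [Cfsg.Agent.Lib.Helper6.TWQ.rank_slot]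
    calc (Matrix.vecMulVec r.y r.η).rank * m ^ (t - 1) ≤ 1 * m ^ (t - 1) :=
          Nat.mul_le_mul_right _ (Matrix.rank_vecMulVec_le _ _)
      _ = m ^ (t - 1) := one_mul _
  -- a non-zero multiple `c₁ N'` is a root nilpotent
  have key : ∃ (c₁ : F) (j : Fin t) (z ζ : Fin m → F), c₁ ≠ 0 ∧ z ≠ 0 ∧ ζ ≠ 0 ∧
      c₁ • (Gi * r.N * G) = rootN j z ζ := by
    have hsm0 : ∀ c₁ : F, c₁ ≠ 0 → c₁ • (Gi * r.N * G) ≠ 0 := by
      intro c₁ hc₁ h
      rcases smul_eq_zero.1 h with h | h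
      · exact hc₁ h
      · exact hN0 h
    have hsmNN : ∀ c₁ : F, (c₁ • (Gi * r.N * G)) * (c₁ • (Gi * r.N * G)) = 0 := by
      intro c₁
      rw [Matrix.smul_mul, Matrix.mul_smul, hNN, smul_zero, smul_zero]
    have hsmrk : ∀ c₁ : F, (c₁ • (Gi * r.N * G)).rank ≤ m ^ (t - 1) := by
      intro c₁
      by_cases hc₁ : c₁ = 0
      · rw [hc₁, zero_smul, Matrix.rank_zero]; exact Nat.zero_le _
      · have : (c₁ • (Gi * r.N * G)).rank = (Gi * r.N * G).rank := by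
          have hu : IsUnit c₁ := isUnit_iff_ne_zero.2 hc₁
          have e : c₁ • (Gi * r.N * G) = (c₁ • (1 : Matrix (Idx t m) (Idx t m) F)) * (Gi * r.N * G) := by
            rw [Matrix.smul_mul, Matrix.one_mul]
          rw [e]
          apply Matrix.rank_mul_eq_right_of_isUnit_det
          rw [Matrix.det_smul, Matrix.det_one, mul_one]
          exact hu.pow _
        rw [this]; exact hrk
    rcases hS with ⟨c₁, hc₁S, c₂, hc₂S, hc₁, hc₂, hne⟩ | ⟨h2, hsq, hm4, c₁, hc₁S, hc₁⟩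
    · have hdiv0 : c₂ / c₁ ≠ 0 := div_ne_zero hc₂ hc₁
      have hdiv1 : c₂ / c₁ ≠ 1 := by
        intro h
        apply hne
        rw [div_eq_one_iff_eq hc₁] at h
        exact h.symm
      obtain ⟨j, z, ζ, hz, hζ, -, hN⟩ := rootlike_is_root_two (by omega) _ (hsm0 c₁ hc₁) (hsmNN c₁) (hsmrk c₁)
        (c₂ / c₁) hdiv0 hdiv1 ⟨_, hconj c₁ hc₁S, hval c₁⟩
        ⟨_, hconj c₂ hc₂S, by rw [hval c₂, smul_smul, div_mul_cancel₀ _ hc₁]⟩
      exact ⟨c₁, j, z, ζ, hc₁, hz, hζ, hN⟩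
    · obtain ⟨j, z, ζ, hz, hζ, -, hN⟩ := rootlike_invol h2 hsq hm4 _ (hsm0 c₁ hc₁) (hsmNN c₁) (hsmrk c₁)
        ⟨_, hconj c₁ hc₁S, hval c₁⟩
      exact ⟨c₁, j, z, ζ, hc₁, hz, hζ, hN⟩
  obtain ⟨c₁, j, z, ζ, hc₁, hz, hζ, hN'⟩ := key
  refine ⟨j, z, hz, ?_⟩
  have h1 := Cfsg.Agent.Lib.Helper6.TWLeaf.range_conj g (rootN j z ζ)
  rw [← hN'] at h1
  have h3 : G * (c₁ • (Gi * r.N * G)) * Gi = c₁ • r.N := by
    rw [Matrix.mul_smul, Matrix.smul_mul, ← mul_assoc, ← mul_assoc, hGGi, one_mul, mul_assoc, hGGi, mul_one]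
  rw [h3, hN', Cfsg.Agent.Lib.Helper6.TWLeaf.range_rootN j z ζ hζ] at h1
  have h4 : LinearMap.range (Matrix.toLin' (c₁ • r.N)) = Wf r.i r.y := by
    have e : c₁ • r.N = rootN r.i r.y (c₁ • r.η) := by
      change c₁ • slot m t r.i (Matrix.vecMulVec r.y r.η) = slot m t r.i (Matrix.vecMulVec r.y (c₁ • r.η))
      rw [← Cfsg.Agent.Lib.Helper8.TW.slot_smul]
      congr 1
      ext a b
      simp only [Matrix.smul_apply, Matrix.vecMulVec_apply, Pi.smul_apply, smul_eq_mul]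
      ring
    rw [e]
    exact Cfsg.Agent.Lib.Helper6.TWLeaf.range_rootN r.i r.y (c₁ • r.η) (smul_ne_zero hc₁ r.hη)
  rw [h4] at h1
  exact h1.symm

/-- **(QU5) FUSION CONTROL** (deliverable of the block) -/
theorem fcp_of_nsp (hm : 3 ≤ m) (iso : (Fin m → F) → Prop) (R : RD t m F → Prop) (S : Set F)
    (X : Subgroup (GL (Idx t m) F))
    (hS : (∃ c₁ ∈ S, ∃ c₂ ∈ S, c₁ ≠ 0 ∧ c₂ ≠ 0 ∧ c₁ ≠ c₂) ∨
      ((2 : F) = 0 ∧ (∀ x : F, ∃ y, y * y = x) ∧ 4 ≤ m ∧ ∃ c ∈ S, c ≠ 0))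
    (hR : ∀ r, R r → iso r.y)
    (hiso : ∀ g ∈ X, ∀ r, R r → ∀ (j : Fin t) (z : Fin m → F), z ≠ 0 → img g (Wf j z) = Wf r.i r.y → iso z)
    (hNS : NSp iso X) : FCp R S X := by
  intro r hr g hgX hconj
  obtain ⟨j, z, hz, himg⟩ := rigid hm S hS r g hconj
  exact hNS g hgX ⟨j, r.i, z, r.y, hz, r.hy, hiso g hgX r hr j z hz himg, hR r hr, himg⟩

end Assembly

end Cfsg.Agent.Lib.Helper23.TWUQFinal
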