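import Mathlib
import Cfsg.Agent.Lib.Helper4.SUMT

/-!
S5672 (C7 unitary), block (Q') (helper23): the scalar hypothesis `hS` of `rigid` / `fcp_of_nsp` for the unitary case
`S = {c | c + c ^ q = 0}`, `|F| = q²`.
-/

set_option autoImplicit false
set_option linter.unusedSectionVars false
set_option linter.unusedVariables false

namespace Cfsg.Agent.Lib.Helper23.TWUQ

variable {F : Type*} [Field F] [Fintype F] {q : ℕ}

/-- the skew scalars -/
def skewS (F : Type*) [Field F] (q : ℕ) : Set F := {c | c + c ^ q = 0}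

lemma mem_skewS {c : F} : c ∈ skewS F q ↔ c + c ^ q = 0 := Iff.rfl

lemma two_le_q (hF : Fintype.card F = q ^ 2) : 2 ≤ q := by
  have h1 : 1 < Fintype.card F := Fintype.one_lt_card
  rw [hF] at h1
  by_contra h
  push Not at h
  interval_cases q <;> simp at h1

/-- a fixed scalar `s ≠ 0, 1` (`q ≥ 3`) -/
lemma exists_fixed (hF : Fintype.card F = q ^ 2) (hq : 3 ≤ q) : ∃ s : F, s ^ q = s ∧ s ≠ 0 ∧ s ≠ 1 := by
  classical
  -- some `x ≠ 0` with `x ^ (q + 1) ≠ 1`
  have hex : ∃ x : F, x ≠ 0 ∧ x ^ (q + 1) ≠ 1 := by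
    by_contra hcon
    push Not at hcon
    -- all non-zero elements are roots of `X ^ (q+1) - 1`
    have hpoly : (Polynomial.X ^ (q + 1) - 1 : Polynomial F) ≠ 0 :=
      Polynomial.X_pow_sub_C_ne_zero (Nat.succ_pos q) (1 : F)
    have hsub : (Finset.univ.filter fun x : F => x ≠ 0) ⊆ (Polynomial.X ^ (q + 1) - 1 : Polynomial F).roots.toFinset := by
      intro x hx
      rw [Finset.mem_filter] at hx
      rw [Multiset.mem_toFinset, Polynomial.mem_roots hpoly, Polynomial.IsRoot.def, Polynomial.eval_sub,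
        Polynomial.eval_pow, Polynomial.eval_X, Polynomial.eval_one, hcon x hx.2, sub_self]
    have h1 := Finset.card_le_card hsub
    have h2 : (Polynomial.X ^ (q + 1) - 1 : Polynomial F).roots.toFinset.card ≤ q + 1 := by
      calc _ ≤ Multiset.card (Polynomial.X ^ (q + 1) - 1 : Polynomial F).roots := Multiset.toFinset_card_le _
        _ ≤ (Polynomial.X ^ (q + 1) - 1 : Polynomial F).natDegree := Polynomial.card_roots' _
        _ = q + 1 := by
          have : (Polynomial.X ^ (q + 1) - 1 : Polynomial F) = Polynomial.X ^ (q + 1) - Polynomial.C 1 := by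
            rw [Polynomial.C_1]
          rw [this, Polynomial.natDegree_X_pow_sub_C]
    have h3 : (Finset.univ.filter fun x : F => x ≠ 0).card = q ^ 2 - 1 := by
      have : (Finset.univ.filter fun x : F => x ≠ 0) = Finset.univ.erase 0 := by
        ext x; simp
      rw [this, Finset.card_erase_of_mem (Finset.mem_univ _), Finset.card_univ, hF]
    rw [h3] at h1
    have h4 : 3 * q ≤ q * q := Nat.mul_le_mul_right q hq
    have h5 : q ^ 2 = q * q := sq q
    omega
  obtain ⟨x, hx0, hx1⟩ := hex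
  refine ⟨x ^ (q + 1), ?_, pow_ne_zero _ hx0, hx1⟩
  have hxq : x ^ (q ^ 2) = x := by rw [← hF]; exact FiniteField.pow_card x
  calc (x ^ (q + 1)) ^ q = x ^ (q ^ 2) * x ^ q := by rw [← pow_mul, ← pow_add]; congr 1; ring
    _ = x ^ (q + 1) := by rw [hxq, pow_succ]; ring

/-- **the scalar hypothesis of `rigid` in the unitary case** -/
theorem hS_unitary (hF : Fintype.card F = q ^ 2) {k : ℕ} (hk : 3 ≤ k) (hex : ¬ (q = 2 ∧ k = 3)) :
    (∃ c₁ ∈ skewS F q, ∃ c₂ ∈ skewS F q, c₁ ≠ 0 ∧ c₂ ≠ 0 ∧ c₁ ≠ c₂) ∨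
      ((2 : F) = 0 ∧ (∀ x : F, ∃ y, y * y = x) ∧ 4 ≤ k ∧ ∃ c ∈ skewS F q, c ≠ 0) := by
  have hq2 := two_le_q hF
  obtain ⟨c₁, hc₁0, hc₁⟩ := Cfsg.Agent.Lib.Helper4.SUMLeaf.exists_skew hF
  have hc₁S : c₁ ∈ skewS F q := by rw [mem_skewS, hc₁, add_neg_cancel]
  by_cases hq : 3 ≤ q
  · left
    obtain ⟨s, hs, hs0, hs1⟩ := exists_fixed hF hq
    refine ⟨c₁, hc₁S, s * c₁, ?_, hc₁0, mul_ne_zero hs0 hc₁0, ?_⟩
    · rw [mem_skewS, mul_pow, hs, hc₁]; ring
    · intro h
      apply hs1
      have : (s - 1) * c₁ = 0 := by rw [sub_mul, one_mul, ← h, sub_self]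
      rcases mul_eq_zero.1 this with h' | h'
      · exact sub_eq_zero.1 h'
      · exact absurd h' hc₁0
  · right
    have hq' : q = 2 := by omega
    subst hq'
    have hcard : Fintype.card F = 4 := by rw [hF]; norm_num
    have h2 : (2 : F) = 0 := by
      have hchar : CharP F 2 := by
        obtain ⟨p, hp⟩ := CharP.exists F
        have hpp : p.Prime := CharP.char_is_prime F p
        have hdvd : p ∣ Fintype.card F := by
          have := FiniteField.card F p
          obtain ⟨n, -, hn⟩ := this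
          rw [hn]
          exact dvd_pow_self p (PNat.ne_zero n)
        rw [hcard] at hdvd
        have : p ∣ 2 ^ 2 := by norm_num; exact hdvd
        have hp2 : p = 2 := (Nat.prime_dvd_prime_iff_eq hpp Nat.prime_two).1 (hpp.dvd_of_dvd_pow this)
        rw [← hp2]; exact hp
      exact CharP.cast_eq_zero F 2
    refine ⟨h2, fun x => ⟨x ^ 2, ?_⟩, by omega, c₁, hc₁S, hc₁0⟩
    have := FiniteField.pow_card x
    rw [hcard] at this
    calc x ^ 2 * x ^ 2 = x ^ 4 := by ring
      _ = x := this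

end Cfsg.Agent.Lib.Helper23.TWUQ
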