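import Mathlib
import Cfsg.Agent.Lib.Helper5.TWU.Defs
import Cfsg.Agent.Lib.Helper23.TWUQSc
import Cfsg.Agent.Lib.Helper23.TWUQMain
import Cfsg.Agent.Lib.Helper26.TWFibA

/-!
S5672 (C7 unitary, owner helper5), block (Q') in the UNITARY LAYER `Helper5.TWU` (sub-planner helper23):

* `ti_Wf` : a fibre `W(i,y)` with `y` isotropic is totally isotropic for the standard form `hv q` of the model;
* `iso_of_ti_Wf` : conversely, `W(j,z)` totally isotropic (diagonal suffices) forces `z` isotropic;
* `iso_of_img` : a SIMILITUDE mapping the fibre `W(j,z)` onto an isotropic fibre: `z` is isotropic (the `hiso` hypothesis);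
* **`fcu_of_nsu`** : `X ≤ DUV`, `NSU q X` ⟹ `FCU q X`  (fusion control in the unitary layer), and the rigidity statement
  **`rigidU`** in unitary clothing.
-/

set_option autoImplicit false
set_option linter.unusedSectionVars false
set_option linter.unusedVariables false

namespace Cfsg.Agent.Lib.Helper23.TWUQU
open Matrix Cfsg.Geo Cfsg.Agent.Lib.Helper18.AschA89 Cfsg.Agent.Lib.Helper8.TW
open Cfsg.Agent.Lib.Helper20.UT (hv)
open Cfsg.Agent.Lib.Helper5.TWU Cfsg.Agent.Lib.Helper23.TWUQ

variable {F : Type*} [Field F] {t k : ℕ} {q : ℕ}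

/-- `Sk q` (helper5) is `skewS F q` (helper23) -/
lemma Sk_eq_skewS : (Sk q : Set F) = skewS F q := by
  ext c
  show c ^ q = -c ↔ c + c ^ q = 0
  constructor
  · intro h; rw [h, add_neg_cancel]
  · intro h; exact (eq_neg_of_add_eq_zero_right h)

/-- summation over `Idx t k` by lines in direction `i` -/
lemma sum_split (i : Fin t) (f : Idx t k → F) :
    ∑ x, f x = ∑ r : ({j // j ≠ i} → Fin k), ∑ a : Fin k, f ((Equiv.funSplitAt i (Fin k)).symm (a, r)) := by
  rw [← Equiv.sum_comp (Equiv.funSplitAt i (Fin k)).symm f, Fintype.sum_prod_type, Finset.sum_comm]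

lemma split_apply_self (i : Fin t) (a : Fin k) (r : {j // j ≠ i} → Fin k) :
    (Equiv.funSplitAt i (Fin k)).symm (a, r) i = a := by
  simp [Equiv.funSplitAt, Equiv.piSplitAt]

lemma split_update (i : Fin t) (a b : Fin k) (r : {j // j ≠ i} → Fin k) :
    Function.update ((Equiv.funSplitAt i (Fin k)).symm (a, r)) i b = (Equiv.funSplitAt i (Fin k)).symm (b, r) := by
  funext j
  by_cases hj : j = i
  · subst hj
    rw [Function.update_self, split_apply_self]
  · rw [Function.update_of_ne hj]
    simp [Equiv.funSplitAt, Equiv.piSplitAt, hj]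

/-- entries of a vector of the fibre `W(i,y)`: `u x = c * y (x i)` with `c` constant along the `i`-lines -/
lemma Wf_entries (i : Fin t) (y : Fin k → F) {u : Idx t k → F} (hu : u ∈ Wf i y) (r : {j // j ≠ i} → Fin k) :
    ∃ c : F, ∀ a : Fin k, u ((Equiv.funSplitAt i (Fin k)).symm (a, r)) = c * y a := by
  by_cases hk : Nonempty (Fin k)
  · obtain ⟨a₀⟩ := hk
    have h := hu ((Equiv.funSplitAt i (Fin k)).symm (a₀, r))
    rw [Submodule.mem_span_singleton] at h
    obtain ⟨c, hc⟩ := h
    refine ⟨c, fun a => ?_⟩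
    have := congrFun hc a
    simp only [slice, Pi.smul_apply, smul_eq_mul] at this
    rw [split_update] at this
    exact this.symm
  · exact ⟨0, fun a => (hk ⟨a⟩).elim⟩

/-- a fibre over an isotropic vector is totally isotropic -/
theorem ti_Wf (i : Fin t) (y : Fin k → F) (hy : hv q y y = 0) {u v : Idx t k → F}
    (hu : u ∈ Wf i y) (hv' : v ∈ Wf i y) : hv q u v = 0 := by
  unfold Cfsg.Agent.Lib.Helper20.UT.hv
  rw [sum_split i]
  apply Finset.sum_eq_zero
  intro r _
  obtain ⟨c, hc⟩ := Wf_entries i y hu r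
  obtain ⟨d, hd⟩ := Wf_entries i y hv' r
  have : ∀ a : Fin k, u ((Equiv.funSplitAt i (Fin k)).symm (a, r)) * v ((Equiv.funSplitAt i (Fin k)).symm (a, r)) ^ q
      = (c * d ^ q) * (y a * y a ^ q) := by
    intro a
    rw [hc a, hd a, mul_pow]; ring
  simp only [this]
  rw [← Finset.mul_sum]
  have hy' : ∑ a, y a * y a ^ q = 0 := hy
  rw [hy', mul_zero]

/-- the vector `e_{x₀} ⊗ z` (`z` at position `j`, the basis vector of `x₀` elsewhere) -/
def wv (j : Fin t) (x₀ : Idx t k) (z : Fin k → F) : Idx t k → F :=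
  fun x => if (∀ l, l ≠ j → x₀ l = x l) then z (x j) else 0

lemma wv_mem (j : Fin t) (x₀ : Idx t k) (z : Fin k → F) : wv j x₀ z ∈ Wf j z := by
  intro x
  by_cases h : ∀ l, l ≠ j → x₀ l = x l
  · have : slice j x (wv j x₀ z) = z := by
      funext a
      simp only [slice, wv]
      rw [if_pos]
      · rw [Function.update_self]
      · intro l hl
        rw [Function.update_of_ne hl]; exact h l hl
    rw [this]
    exact Submodule.mem_span_singleton_self z
  · have : slice j x (wv j x₀ z) = 0 := by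
      funext a
      simp only [slice, wv]
      rw [if_neg]
      · rfl
      · intro h'
        apply h
        intro l hl
        have := h' l hl
        rwa [Function.update_of_ne hl] at this
    rw [this]
    exact Submodule.zero_mem _

lemma hv_wv (hq : q ≠ 0) (j : Fin t) (x₀ : Idx t k) (z : Fin k → F) :
    hv q (wv j x₀ z) (wv j x₀ z) = hv q z z := by
  unfold Cfsg.Agent.Lib.Helper20.UT.hv
  have h1 : ∀ x : Idx t k, wv j x₀ z x * wv j x₀ z x ^ q =
      if (∀ l, l ≠ j → x₀ l = x l) then z (x j) * z (x j) ^ q else 0 := by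
    intro x
    unfold wv
    split_ifs
    · rfl
    · rw [zero_pow hq, mul_zero]
  simp only [h1]
  rw [Cfsg.Agent.Lib.Helper26.TWLeaf.sum_line26 j x₀ (fun x => z (x j) * z (x j) ^ q)]
  simp only [Function.update_self]

/-- a totally isotropic fibre lies over an isotropic vector -/
theorem iso_of_ti_Wf (hq : q ≠ 0) (ht : 0 < k) (j : Fin t) (z : Fin k → F)
    (h : ∀ u ∈ Wf j z, hv q u u = 0) : hv q z z = 0 := by
  have x₀ : Idx t k := fun _ => ⟨0, ht⟩
  rw [← hv_wv hq j x₀ z]
  exact h _ (wv_mem j x₀ z)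

/-- **(hiso)** a similitude mapping the fibre `W(j,z)` onto a fibre over an isotropic vector: `z` is isotropic -/
theorem iso_of_img (hq : q ≠ 0) {g : GL (Idx t k) F} (hg : g ∈ DUV t k q F) (i j : Fin t) (y z : Fin k → F)
    (hz : z ≠ 0) (hy : hv q y y = 0) (himg : img g (Wf j z) = Wf i y) : Iso q z := by
  have hk : 0 < k := by
    rcases Nat.eq_zero_or_pos k with h | h
    · subst h
      exfalso; apply hz; funext a; exact a.elim0
    · exact h
  obtain ⟨c, hc⟩ := mem_DUV.1 hg
  apply iso_of_ti_Wf hq hk j z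
  intro u hu
  have hgu : mv g u ∈ Wf i y := by
    rw [← himg]
    exact ⟨u, hu, rfl⟩
  have h1 := hc u u
  rw [ti_Wf i y hy hgu hgu] at h1
  rcases mul_eq_zero.1 h1.symm with h | h
  · exact absurd h c.ne_zero
  · exact h

section Final
variable [Fintype F]

lemma q_ne_zero (hF : Fintype.card F = q ^ 2) : q ≠ 0 := by
  rintro rfl
  have : 2 ≤ Fintype.card F := Fintype.one_lt_card
  omega

/-- **RIGIDITY in the unitary layer**: an element conjugating the unitary root elements `r.elt c` (`c ∈ Sk q`) into `G`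
maps some fibre onto the fibre of `r` -/
theorem rigidU (hF : Fintype.card F = q ^ 2) (hk : 3 ≤ k) (hex : ¬ (q = 2 ∧ k = 3)) (r : RD t k F)
    (g : GL (Idx t k) F) (hconj : ∀ c ∈ (Sk q : Set F), g⁻¹ * r.elt c * g ∈ Gstd t k F) :
    ∃ (j : Fin t) (z : Fin k → F), z ≠ 0 ∧ img g (Wf j z) = Wf r.i r.y :=
  Cfsg.Agent.Lib.Helper23.TWUQFinal.rigid hk (Sk q)
    (by rw [Sk_eq_skewS]; exact hS_unitary hF hk hex) r g hconj

/-- **FUSION CONTROL in the unitary layer**: `X` inside the similitudes with `NSU` has `FCU` -/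
theorem fcu_of_nsu (hF : Fintype.card F = q ^ 2) (hk : 3 ≤ k) (hex : ¬ (q = 2 ∧ k = 3))
    (X : Subgroup (GL (Idx t k) F)) (hX : X ≤ DUV t k q F) (hNS : NSU q X) : FCU q X :=
  Cfsg.Agent.Lib.Helper23.TWUQFinal.fcp_of_nsp hk (Iso q) (RU q) (Sk q) X
    (by rw [Sk_eq_skewS]; exact hS_unitary hF hk hex)
    (fun r hr => hr.1)
    (fun g hg r hr j z hz himg => iso_of_img (q_ne_zero hF) (hX hg) r.i j r.y z hz hr.1 himg)
    hNS

end Final

end Cfsg.Agent.Lib.Helper23.TWUQU
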