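import Mathlib
import Cfsg.Agent.Lib.Helper5.TWU.Defs
import Cfsg.Agent.Lib.Helper26.TWFibA
import Cfsg.Agent.Lib.Helper16.TWRootB
import Cfsg.Agent.Lib.Helper16.TWImg
import Cfsg.Agent.Lib.Helper23.TWUQU

/-!
S5672 (C7 unitary, owner helper5): FORM-LEVEL unitary toolkit in the layer `Helper5.TWU` (helper23).

* `hv_pt`            : `hv q (pt v) (pt w) = ∏ j, hv q (v j) (w j)`;
* `adjM`, `hv_mulVec_left/right` : the adjoint (conjugate transpose) for the standard hermitian form, any index type;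
* `adjM_slot`        : `adjM (slot i A) = slot i (adjM A)`;   `adjM_rootN_dag` : `rootN i y (dag y)` is self-adjoint;
* `hv_nondeg_left/right`;
* `elt_mem_GUV`, `elt_mem_SUV`, `elt_mem_HU` : the admissible root elements are in `HU`;
* `perpU_Wf`         : `perpU q (Wf i y) = Cf i (dag q y)`;   `perpU_Cf` : `perpU q (Cf i (dag q y)) = Wf i y`;
* `img_perpU`        : similitudes commute with `perpU`.
-/

set_option autoImplicit false
set_option linter.unusedSectionVars false
set_option linter.unusedVariables false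

namespace Cfsg.Agent.Lib.Helper23.TWUT
open Matrix Cfsg.Geo Cfsg.Agent.Lib.Helper18.AschA89 Cfsg.Agent.Lib.Helper8.TW
open Cfsg.Agent.Lib.Helper20.UT (hv cj)
open Cfsg.Agent.Lib.Helper5.TWU

variable {F : Type*} [Field F] {t k : ℕ} {q : ℕ}

/-! ### pure tensors -/

/-- the standard form of the model on pure tensors -/
theorem hv_pt (v w : Fin t → Fin k → F) : hv q (pt v) (pt w) = ∏ j, hv q (v j) (w j) := by
  unfold Cfsg.Agent.Lib.Helper20.UT.hv pt
  rw [Finset.prod_univ_sum]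
  rw [Fintype.piFinset_univ]
  apply Finset.sum_congr rfl
  intro x _
  rw [← Finset.prod_pow, ← Finset.prod_mul_distrib]

/-! ### adjoints -/

/-- the adjoint of a matrix for the standard hermitian form: conjugate transpose -/
def adjM {κ : Type} (q : ℕ) (A : Matrix κ κ F) : Matrix κ κ F := fun a b => (A b a) ^ q

@[simp] lemma adjM_apply {κ : Type} (A : Matrix κ κ F) (a b : κ) : adjM q A a b = (A b a) ^ q := rfl

section fin
variable [Fintype F]

lemma q_ne_zero (hF : Fintype.card F = q ^ 2) : q ≠ 0 := by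
  rintro rfl
  have : 2 ≤ Fintype.card F := Fintype.one_lt_card
  omega

/-- `hv q (A u) w = hv q u (A† w)` -/
theorem hv_mulVec_left {κ : Type} [Fintype κ] (hF : Fintype.card F = q ^ 2) (A : Matrix κ κ F) (u w : κ → F) :
    hv q (A *ᵥ u) w = hv q u (adjM q A *ᵥ w) := by
  unfold Cfsg.Agent.Lib.Helper20.UT.hv
  simp only [Matrix.mulVec, dotProduct, adjM_apply]
  have h1 : ∀ b : κ, (∑ a, A a b ^ q * w a) ^ q = ∑ a, A a b * w a ^ q := by
    intro b
    rw [Cfsg.Agent.Lib.Helper20.UT.sum_pow_q hF]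
    apply Finset.sum_congr rfl
    intro a _
    rw [mul_pow, Cfsg.Agent.Lib.Helper20.UT.pow_q_pow_q' hF]
  simp only [h1]
  simp only [Finset.sum_mul, Finset.mul_sum]
  rw [Finset.sum_comm]
  apply Finset.sum_congr rfl
  intro b _
  apply Finset.sum_congr rfl
  intro a _
  ring

lemma adjM_adjM {κ : Type} (hF : Fintype.card F = q ^ 2) (A : Matrix κ κ F) : adjM q (adjM q A) = A := by
  funext a b
  simp only [adjM_apply]
  exact Cfsg.Agent.Lib.Helper20.UT.pow_q_pow_q' hF _

/-- `hv q u (A w) = hv q (A† u) w` -/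
theorem hv_mulVec_right {κ : Type} [Fintype κ] (hF : Fintype.card F = q ^ 2) (A : Matrix κ κ F) (u w : κ → F) :
    hv q u (A *ᵥ w) = hv q (adjM q A *ᵥ u) w := by
  rw [hv_mulVec_left hF, adjM_adjM hF]

/-- the adjoint commutes with `slot` -/
theorem adjM_slot (hq : q ≠ 0) (i : Fin t) (A : Matrix (Fin k) (Fin k) F) :
    adjM q (slot k t i A) = slot k t i (adjM q A) := by
  funext x x'
  simp only [adjM_apply, slot_apply]
  by_cases h : ∀ j, j ≠ i → x j = x' j
  · rw [if_pos h, if_pos (fun j hj => (h j hj).symm)]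
  · rw [if_neg h, if_neg (fun h' => h (fun j hj => (h' j hj).symm)), zero_pow hq]

/-- `y y†` is self-adjoint -/
lemma adjM_vecMulVec_dag (hF : Fintype.card F = q ^ 2) (y : Fin k → F) :
    adjM q (Matrix.vecMulVec y (dag q y)) = Matrix.vecMulVec y (dag q y) := by
  funext a b
  simp only [adjM_apply, Matrix.vecMulVec_apply, Cfsg.Agent.Lib.Helper20.UT.cj]
  rw [mul_pow, Cfsg.Agent.Lib.Helper20.UT.pow_q_pow_q' hF, mul_comm]

/-- the admissible root nilpotent `N(i,y) = slot i (y y†)` is self-adjoint -/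
theorem adjM_rootN_dag (hF : Fintype.card F = q ^ 2) (i : Fin t) (y : Fin k → F) :
    adjM q (rootN i y (dag q y)) = rootN i y (dag q y) := by
  unfold rootN
  rw [adjM_slot (q_ne_zero hF), adjM_vecMulVec_dag hF]

/-- self-adjointness of the admissible root nilpotent, in terms of the form -/
theorem hv_rootN (hF : Fintype.card F = q ^ 2) (i : Fin t) (y : Fin k → F) (u w : Idx t k → F) :
    hv q (rootN i y (dag q y) *ᵥ u) w = hv q u (rootN i y (dag q y) *ᵥ w) := by
  rw [hv_mulVec_left hF, adjM_rootN_dag hF]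

end fin

/-! ### nondegeneracy -/

lemma hv_single_right {κ : Type} [Fintype κ] [DecidableEq κ] (hq : q ≠ 0) (v : κ → F) (a : κ) :
    hv q v (Pi.single a 1) = v a := by
  unfold Cfsg.Agent.Lib.Helper20.UT.hv
  rw [Finset.sum_eq_single a]
  · rw [Pi.single_eq_same, one_pow, mul_one]
  · intro b _ hb
    rw [Pi.single_eq_of_ne hb, zero_pow hq, mul_zero]
  · intro h; exact absurd (Finset.mem_univ a) h

/-- nondegeneracy (left radical) -/
theorem hv_nondeg_left {κ : Type} [Fintype κ] (hq : q ≠ 0) {v : κ → F} (h : ∀ w, hv q v w = 0) : v = 0 := by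
  classical
  funext a
  rw [← hv_single_right hq v a]
  exact h _

/-! ### general facts on `perpU` -/

theorem perpU_anti {κ : Type} [Fintype κ] {W W' : Submodule F (κ → F)} (h : W ≤ W') : perpU q W' ≤ perpU q W :=
  fun v hv' w hw => hv' w (h hw)

section fin2
variable [Fintype F]

theorem perpU_sup {κ : Type} [Fintype κ] (hF : Fintype.card F = q ^ 2) (W W' : Submodule F (κ → F)) :
    perpU q (W ⊔ W') = perpU q W ⊓ perpU q W' := by
  apply le_antisymm
  · exact le_inf (perpU_anti le_sup_left) (perpU_anti le_sup_right)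
  · rintro v ⟨h1, h2⟩ w hw
    obtain ⟨a, ha, b, hb, rfl⟩ := Submodule.mem_sup.1 hw
    rw [Cfsg.Agent.Lib.Helper20.UT.hv_add_right hF, h1 a ha, h2 b hb, add_zero]

/-- nondegeneracy (right radical) -/
theorem hv_nondeg_right {κ : Type} [Fintype κ] (hF : Fintype.card F = q ^ 2) {w : κ → F} (h : ∀ v, hv q v w = 0) :
    w = 0 := by
  apply hv_nondeg_left (q_ne_zero hF)
  intro v
  exact Cfsg.Agent.Lib.Helper20.UT.hv_symm_zero hF (h v)

/-! ### the admissible root elements are unitary -/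

lemma RD_N_eq {r : RD t k F} (hr : RU q r) : r.N = rootN r.i r.y (dag q r.y) := by
  unfold RD.N
  rw [hr.2]

/-- `hv q ((1 + cN) u) ((1 + cN) w) = hv q u w` for admissible `r` and `c ∈ Sk q` -/
theorem elt_mem_GUV (hF : Fintype.card F = q ^ 2) {r : RD t k F} (hr : RU q r) {c : F} (hc : c ∈ (Sk q : Set F)) :
    r.elt c ∈ GUV t k q F := by
  rw [mem_GUV]
  intro u w
  have hN : r.N = rootN r.i r.y (dag q r.y) := RD_N_eq hr
  have hval : ∀ x : Idx t k → F, mv (r.elt c) x = x + c • (r.N *ᵥ x) := by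
    intro x
    unfold mv RD.elt
    rw [unip_val, Matrix.add_mulVec, Matrix.one_mulVec, Matrix.smul_mulVec]
  rw [hval, hval]
  rw [Cfsg.Agent.Lib.Helper20.UT.hv_add_left, Cfsg.Agent.Lib.Helper20.UT.hv_add_right hF,
    Cfsg.Agent.Lib.Helper20.UT.hv_add_right hF, Cfsg.Agent.Lib.Helper20.UT.hv_smul_left,
    Cfsg.Agent.Lib.Helper20.UT.hv_smul_left, Cfsg.Agent.Lib.Helper20.UT.hv_smul_right,
    Cfsg.Agent.Lib.Helper20.UT.hv_smul_right]
  have h1 : hv q (r.N *ᵥ u) (r.N *ᵥ w) = 0 := by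
    rw [hN, hv_rootN hF, Matrix.mulVec_mulVec, ← hN, r.N_sq, Matrix.zero_mulVec]
    exact Cfsg.Agent.Lib.Helper20.UT.hv_zero_right hF u
  have h2 : hv q u (r.N *ᵥ w) = hv q (r.N *ᵥ u) w := by
    rw [hN, hv_rootN hF]
  have hc' : c ^ q = -c := hc
  rw [h1, h2, hc']
  ring

/-- the admissible root elements lie in `SU(V)` -/
theorem elt_mem_SUV (hF : Fintype.card F = q ^ 2) {r : RD t k F} (hr : RU q r) {c : F} (hc : c ∈ (Sk q : Set F)) :
    r.elt c ∈ SUV t k q F :=
  ⟨elt_mem_GUV hF hr hc, (Cfsg.Agent.Lib.Helper16.TWLeaf.RD_elt_mem_H r c).2⟩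

/-- the admissible root elements lie in `H = G ∩ SU(V)` -/
theorem elt_mem_HU (hF : Fintype.card F = q ^ 2) {r : RD t k F} (hr : RU q r) {c : F} (hc : c ∈ (Sk q : Set F)) :
    r.elt c ∈ HU t k q F :=
  ⟨(Cfsg.Agent.Lib.Helper16.TWLeaf.RD_elt_mem_H r c).1, elt_mem_SUV hF hr hc⟩

/-! ### perps of fibres -/

/-- `W(i,y)^⊥ = C(i,y†)` -/
theorem perpU_Wf (hF : Fintype.card F = q ^ 2) (i : Fin t) (y : Fin k → F) (hy : y ≠ 0) :
    perpU q (Wf i y) = Cf i (dag q y) := by
  have hη : dag q y ≠ 0 := dag_ne_zero hy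
  ext v
  rw [mem_perpU, ← Cfsg.Agent.Lib.Helper26.TWLeaf.ker_rootN i y (dag q y) hy, LinearMap.mem_ker,
    Matrix.toLin'_apply]
  constructor
  · intro h
    apply hv_nondeg_left (q_ne_zero hF)
    intro w
    rw [hv_rootN hF]
    apply h
    rw [← Cfsg.Agent.Lib.Helper26.TWLeaf.range_rootN i y (dag q y) hη]
    exact ⟨w, by rw [Matrix.toLin'_apply]⟩
  · intro h w hw
    rw [← Cfsg.Agent.Lib.Helper26.TWLeaf.range_rootN i y (dag q y) hη] at hw
    obtain ⟨w', rfl⟩ := hw
    rw [Matrix.toLin'_apply, ← hv_rootN hF, h]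
    exact Cfsg.Agent.Lib.Helper20.UT.hv_zero_left q w'

/-- `C(i,y†)^⊥ = W(i,y)` -/
theorem perpU_Cf (hF : Fintype.card F = q ^ 2) (i : Fin t) (y : Fin k → F) (hy : y ≠ 0) :
    perpU q (Cf i (dag q y)) = Wf i y := by
  have hη : dag q y ≠ 0 := dag_ne_zero hy
  apply le_antisymm
  · -- `P = slot i (a₀ η)` with `η a₀ = 1` projects along `ker N`; `v ⊥ ker N` gives `v = P† v ∈ range (slot i (y a₀†)) = W`
    intro v hv'
    rw [mem_perpU] at hv'
    obtain ⟨a₀, ha₀⟩ := Cfsg.Agent.Lib.Helper26.TWLeaf.exists_dot_one26 (dag q y) hη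
    have ha₀0 : a₀ ≠ 0 := by
      rintro rfl
      rw [dotProduct_zero] at ha₀
      exact zero_ne_one ha₀
    set P : Matrix (Idx t k) (Idx t k) F := slot k t i (Matrix.vecMulVec a₀ (dag q y)) with hP
    have hNP : rootN i y (dag q y) * P = rootN i y (dag q y) := by
      rw [hP]
      unfold rootN
      rw [slot_mul, Matrix.vecMulVec_mul_vecMulVec, ha₀, one_smul]
    have hker : ∀ w : Idx t k → F, w - P *ᵥ w ∈ Cf i (dag q y) := by
      intro w
      rw [← Cfsg.Agent.Lib.Helper26.TWLeaf.ker_rootN i y (dag q y) hy, LinearMap.mem_ker, Matrix.toLin'_apply,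
        Matrix.mulVec_sub, Matrix.mulVec_mulVec, hNP, sub_self]
    have hadj : adjM q P = rootN i y (dag q a₀) := by
      rw [hP, adjM_slot (q_ne_zero hF)]
      unfold rootN
      congr 1
      funext a b
      simp only [adjM_apply, Matrix.vecMulVec_apply, Cfsg.Agent.Lib.Helper20.UT.cj]
      rw [mul_pow, Cfsg.Agent.Lib.Helper20.UT.pow_q_pow_q' hF, mul_comm]
    have hfix : v - adjM q P *ᵥ v = 0 := by
      apply hv_nondeg_left (q_ne_zero hF)
      intro w
      rw [Cfsg.Agent.Lib.Helper20.UT.hv_sub_left, ← hv_mulVec_right hF, sub_eq_zero]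
      have := hv' _ (hker w)
      rw [Cfsg.Agent.Lib.Helper20.UT.hv_sub_right hF, sub_eq_zero] at this
      exact this
    have hv2 : v = rootN i y (dag q a₀) *ᵥ v := by
      rw [← hadj]; exact sub_eq_zero.1 hfix
    rw [← Cfsg.Agent.Lib.Helper26.TWLeaf.range_rootN i y (dag q a₀) (dag_ne_zero ha₀0)]
    exact ⟨v, by rw [Matrix.toLin'_apply]; exact hv2.symm⟩
  · intro v hvW
    rw [mem_perpU]
    intro w hw
    have hw' : w ∈ perpU q (Wf i y) := by rw [perpU_Wf hF i y hy]; exact hw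
    exact Cfsg.Agent.Lib.Helper20.UT.hv_symm_zero hF (hw' v hvW)

/-- a fibre over an isotropic vector is totally isotropic (`TI` form of `TWUQU.ti_Wf`) -/
theorem TI_Wf (i : Fin t) (y : Fin k → F) (hy : hv q y y = 0) : TI q (Wf i y) :=
  fun u hu w hw => Cfsg.Agent.Lib.Helper23.TWUQU.ti_Wf i y hy hu hw

/-- `W ≤ W^⊥ = C` for an isotropic fibre -/
theorem Wf_le_Cf_dag (hF : Fintype.card F = q ^ 2) (i : Fin t) (y : Fin k → F) (hy0 : y ≠ 0) (hy : hv q y y = 0) :
    Wf i y ≤ Cf i (dag q y) := by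
  rw [← perpU_Wf hF i y hy0]
  intro u hu w hw
  exact Cfsg.Agent.Lib.Helper23.TWUQU.ti_Wf i y hy hu hw

/-! ### similitudes and perps -/

/-- similitudes commute with `perpU` -/
theorem img_perpU {g : GL (Idx t k) F} (hg : g ∈ DUV t k q F) (W : Submodule F (Idx t k → F)) :
    img g (perpU q W) = perpU q (img g W) := by
  obtain ⟨c, hc⟩ := mem_DUV.1 hg
  ext v
  rw [Cfsg.Agent.Lib.Helper16.TWLeaf.mem_img_iff, mem_perpU, mem_perpU]
  constructor
  · intro h w hw
    rw [Cfsg.Agent.Lib.Helper16.TWLeaf.mem_img_iff] at hw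
    have := hc (mv g⁻¹ v) (mv g⁻¹ w)
    rw [h _ hw, mul_zero] at this
    have e1 : mv g (mv g⁻¹ v) = v := by
      unfold mv; rw [Matrix.mulVec_mulVec, ← Units.val_mul, mul_inv_cancel, Units.val_one, Matrix.one_mulVec]
    have e2 : mv g (mv g⁻¹ w) = w := by
      unfold mv; rw [Matrix.mulVec_mulVec, ← Units.val_mul, mul_inv_cancel, Units.val_one, Matrix.one_mulVec]
    rwa [e1, e2] at this
  · intro h w hw
    have hgw : mv g w ∈ img g W := ⟨w, hw, rfl⟩
    have := hc (mv g⁻¹ v) w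
    have e1 : mv g (mv g⁻¹ v) = v := by
      unfold mv; rw [Matrix.mulVec_mulVec, ← Units.val_mul, mul_inv_cancel, Units.val_one, Matrix.one_mulVec]
    rw [e1, h _ hgw] at this
    rcases mul_eq_zero.1 this.symm with h0 | h0
    · exact absurd h0 c.ne_zero
    · exact h0

end fin2

end Cfsg.Agent.Lib.Helper23.TWUT
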