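import Mathlib
import Cfsg.Agent.Lib.Helper23.TWUT

/-!
S5672 (C7 unitary, owner helper5): form-level unitary toolkit, part 2 (helper23), generic index type `κ`:

* `finrank_perpU` : `finrank (perpU q W) + finrank W = card κ`;
* `perpU_perpU`   : `perpU q (perpU q W) = W`;   `perpU_inf`, `perpU_le_iff`, `perpU_top`, `perpU_bot`;
* `TI_iff_le_perpU`, `finrank_le_of_TI` : a totally isotropic subspace has `2 * finrank ≤ card κ`.
-/

set_option autoImplicit false
set_option linter.unusedSectionVars false
set_option linter.unusedVariables false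

namespace Cfsg.Agent.Lib.Helper23.TWUT
open Matrix Cfsg.Geo Cfsg.Agent.Lib.Helper8.TW
open Cfsg.Agent.Lib.Helper20.UT (hv cj)
open Cfsg.Agent.Lib.Helper5.TWU

variable {F : Type*} [Field F] [Fintype F] {q : ℕ} {κ : Type} [Fintype κ]

lemma cj_cj (hF : Fintype.card F = q ^ 2) (w : κ → F) : cj q (cj q w) = w := by
  funext i
  exact Cfsg.Agent.Lib.Helper20.UT.pow_q_pow_q' hF (w i)

/-- the conjugate subspace `{w̄ : w ∈ W}` -/
def cjS (hF : Fintype.card F = q ^ 2) (W : Submodule F (κ → F)) : Submodule F (κ → F) where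
  carrier := {w | cj q w ∈ W}
  add_mem' := by
    intro a b ha hb
    have : cj q (a + b) = cj q a + cj q b := by
      funext i
      exact Cfsg.Agent.Lib.Helper20.UT.add_pow_q hF (a i) (b i)
    show cj q (a + b) ∈ W
    rw [this]
    exact W.add_mem ha hb
  zero_mem' := by
    have : cj q (0 : κ → F) = 0 := by
      funext i
      exact zero_pow (q_ne_zero hF)
    show cj q (0 : κ → F) ∈ W
    rw [this]
    exact W.zero_mem
  smul_mem' := by
    intro c a ha
    have : cj q (c • a) = c ^ q • cj q a := by
      funext i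
      exact mul_pow c (a i) q
    show cj q (c • a) ∈ W
    rw [this]
    exact W.smul_mem _ ha

lemma mem_cjS (hF : Fintype.card F = q ^ 2) (W : Submodule F (κ → F)) (w : κ → F) :
    w ∈ cjS hF W ↔ cj q w ∈ W := Iff.rfl

lemma finrank_cjS (hF : Fintype.card F = q ^ 2) (W : Submodule F (κ → F)) :
    Module.finrank F (cjS hF W) = Module.finrank F W := by
  classical
  have e : ↥(cjS hF W) ≃ ↥W :=
    { toFun := fun w => ⟨cj q w.1, w.2⟩
      invFun := fun w => ⟨cj q w.1, by rw [mem_cjS, cj_cj hF]; exact w.2⟩
      left_inv := fun w => Subtype.ext (cj_cj hF w.1)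
      right_inv := fun w => Subtype.ext (cj_cj hF w.1) }
  have h1 : Nat.card ↥(cjS hF W) = Nat.card ↥W := Nat.card_congr e
  rw [Module.natCard_eq_pow_finrank (K := F) (V := ↥(cjS hF W)),
    Module.natCard_eq_pow_finrank (K := F) (V := ↥W)] at h1
  have hF2 : 1 < Nat.card F := by
    rw [Nat.card_eq_fintype_card]; exact Fintype.one_lt_card
  exact Nat.pow_right_injective hF2 h1

variable [DecidableEq κ]

lemma map_perpU (hF : Fintype.card F = q ^ 2) (W : Submodule F (κ → F)) :
    (perpU q W).map (dotProductEquiv F κ).toLinearMap = (cjS hF W).dualAnnihilator := by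
  ext φ
  rw [Submodule.mem_map, Submodule.mem_dualAnnihilator]
  constructor
  · rintro ⟨v, hv', rfl⟩ w hw
    rw [LinearEquiv.coe_coe, dotProductEquiv_apply_apply]
    have := hv' _ hw
    unfold Cfsg.Agent.Lib.Helper20.UT.hv at this
    simp only [Cfsg.Agent.Lib.Helper20.UT.cj] at this
    have h2 : ∀ i, (w i ^ q) ^ q = w i := fun i => Cfsg.Agent.Lib.Helper20.UT.pow_q_pow_q' hF (w i)
    simp only [h2] at this
    exact this
  · intro h
    refine ⟨(dotProductEquiv F κ).symm φ, ?_, by simp⟩
    intro w hw
    have hw' : cj q w ∈ cjS hF W := by rw [mem_cjS, cj_cj hF]; exact hw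
    have := h _ hw'
    have e : φ = dotProductEquiv F κ ((dotProductEquiv F κ).symm φ) := by simp
    rw [e, dotProductEquiv_apply_apply] at this
    exact this

/-- **dimension of the perp** -/
theorem finrank_perpU (hF : Fintype.card F = q ^ 2) (W : Submodule F (κ → F)) :
    Module.finrank F (perpU q W) + Module.finrank F W = Fintype.card κ := by
  have h1 : Module.finrank F ((perpU q W).map (dotProductEquiv F κ).toLinearMap) =
      Module.finrank F (perpU q W) := LinearEquiv.finrank_map_eq (dotProductEquiv F κ) (perpU q W)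
  rw [map_perpU hF] at h1
  have h2 := Subspace.finrank_add_finrank_dualAnnihilator_eq (cjS hF W)
  rw [finrank_cjS hF, h1, Module.finrank_pi] at h2
  omega

lemma le_perpU_perpU (hF : Fintype.card F = q ^ 2) (W : Submodule F (κ → F)) : W ≤ perpU q (perpU q W) := by
  intro w hw v hv'
  exact Cfsg.Agent.Lib.Helper20.UT.hv_symm_zero hF (hv' w hw)

/-- **double perp** -/
theorem perpU_perpU (hF : Fintype.card F = q ^ 2) (W : Submodule F (κ → F)) : perpU q (perpU q W) = W := by
  symm
  apply Submodule.eq_of_le_of_finrank_eq (le_perpU_perpU hF W)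
  have h1 := finrank_perpU hF W
  have h2 := finrank_perpU hF (perpU q W)
  omega

theorem perpU_le_iff (hF : Fintype.card F = q ^ 2) (W W' : Submodule F (κ → F)) :
    perpU q W ≤ perpU q W' ↔ W' ≤ W := by
  constructor
  · intro h
    have := perpU_anti (q := q) h
    rwa [perpU_perpU hF, perpU_perpU hF] at this
  · exact perpU_anti

theorem perpU_inf (hF : Fintype.card F = q ^ 2) (W W' : Submodule F (κ → F)) :
    perpU q (W ⊓ W') = perpU q W ⊔ perpU q W' := by
  have h := perpU_sup hF (perpU q W) (perpU q W')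
  rw [perpU_perpU hF, perpU_perpU hF] at h
  rw [← h, perpU_perpU hF]

theorem perpU_bot (hF : Fintype.card F = q ^ 2) : perpU q (⊥ : Submodule F (κ → F)) = ⊤ := by
  rw [eq_top_iff]
  intro v _ w hw
  rw [Submodule.mem_bot] at hw
  subst hw
  exact Cfsg.Agent.Lib.Helper20.UT.hv_zero_right hF v

theorem perpU_top (hF : Fintype.card F = q ^ 2) : perpU q (⊤ : Submodule F (κ → F)) = ⊥ := by
  rw [← perpU_bot hF, perpU_perpU hF]

/-- totally isotropic = contained in its perp -/
theorem TI_iff_le_perpU (W : Submodule F (κ → F)) : TI q W ↔ W ≤ perpU q W :=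
  ⟨fun h v hv' w hw => h v hv' w hw, fun h v hv' w hw => h hv' w hw⟩

/-- a totally isotropic subspace has dimension at most half -/
theorem finrank_le_of_TI (hF : Fintype.card F = q ^ 2) {W : Submodule F (κ → F)} (h : TI q W) :
    2 * Module.finrank F W ≤ Fintype.card κ := by
  have h1 := finrank_perpU hF W
  have h2 := Submodule.finrank_mono ((TI_iff_le_perpU W).1 h)
  omega

end Cfsg.Agent.Lib.Helper23.TWUT
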