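import Mathlib
import Cfsg.Agent.Lib.Helper23.TWUT2
import Cfsg.Agent.Lib.Helper22.TWQStab

/-!
S5672 (C7 unitary, owner helper5): form-level unitary toolkit, part 3 (helper23): the ADJOINT CRITERION and the
standard elements of `G` which are isometries / similitudes.

* `sim_iff_adjM`   : `(∀ u v, hv q (A u) (A v) = c * hv q u v) ↔ adjM q A * A = c • 1` (any index type);
* `mem_GUV_iff`, `mem_DUV_iff`, `mem_GUA_iff`, `mem_DUA_iff` : the groups by the adjoint;
* `adjM_mul`, `adjM_one`, `adjM_smul`, `adjM_ptens`, `adjM_fperm`;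
* `slotGL_mem_GUV`, `slotGL_mem_DUV`, `ptensGL_mem_GUV`, `ptensGL_mem_DUV`, `wrFpermGL_mem_GUV`.
-/

set_option autoImplicit false
set_option linter.unusedSectionVars false
set_option linter.unusedVariables false

namespace Cfsg.Agent.Lib.Helper23.TWUT
open Matrix Cfsg.Geo Cfsg.Agent.Lib.Helper18.AschA89 Cfsg.Agent.Lib.Helper20.AschLeaf Cfsg.Agent.Lib.Helper8.TW
open Cfsg.Agent.Lib.Helper20.UT (hv cj)
open Cfsg.Agent.Lib.Helper5.TWU

variable {F : Type*} [Field F] [Fintype F] {q : ℕ} {t k : ℕ}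

section generic
variable {κ : Type} [Fintype κ] [DecidableEq κ]

lemma adjM_one (hq : q ≠ 0) : adjM q (1 : Matrix κ κ F) = 1 := by
  funext a b
  simp only [adjM_apply, Matrix.one_apply]
  by_cases h : a = b
  · subst h; simp
  · rw [if_neg h, if_neg (Ne.symm h), zero_pow hq]

lemma adjM_smul (c : F) (A : Matrix κ κ F) : adjM q (c • A) = c ^ q • adjM q A := by
  funext a b
  simp only [adjM_apply, Matrix.smul_apply, smul_eq_mul, mul_pow]

lemma adjM_mul (hF : Fintype.card F = q ^ 2) (A B : Matrix κ κ F) : adjM q (A * B) = adjM q B * adjM q A := by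
  funext a b
  simp only [adjM_apply, Matrix.mul_apply]
  rw [Cfsg.Agent.Lib.Helper20.UT.sum_pow_q hF]
  apply Finset.sum_congr rfl
  intro j _
  rw [mul_pow, mul_comm]

/-- **the adjoint criterion** for similitudes of the standard hermitian form -/
theorem sim_iff_adjM (hF : Fintype.card F = q ^ 2) (A : Matrix κ κ F) (c : F) :
    (∀ u v, hv q (A *ᵥ u) (A *ᵥ v) = c * hv q u v) ↔ adjM q A * A = c ^ q • 1 := by
  constructor
  · intro h
    -- `hv u (A†A v) = hv u (c^q v)` for all `u`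
    have h1 : ∀ v : κ → F, (adjM q A * A) *ᵥ v = (c ^ q • (1 : Matrix κ κ F)) *ᵥ v := by
      intro v
      rw [← sub_eq_zero]
      apply hv_nondeg_right hF
      intro u
      rw [Cfsg.Agent.Lib.Helper20.UT.hv_sub_right hF, sub_eq_zero, ← Matrix.mulVec_mulVec,
        ← hv_mulVec_left hF, h, Matrix.smul_mulVec, Matrix.one_mulVec,
        Cfsg.Agent.Lib.Helper20.UT.hv_smul_right, Cfsg.Agent.Lib.Helper20.UT.pow_q_pow_q' hF]
    apply Matrix.toLin'.injective
    apply LinearMap.ext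
    intro v
    rw [Matrix.toLin'_apply, Matrix.toLin'_apply]
    exact h1 v
  · intro h u v
    rw [hv_mulVec_left hF, Matrix.mulVec_mulVec, h, Matrix.smul_mulVec, Matrix.one_mulVec,
      Cfsg.Agent.Lib.Helper20.UT.hv_smul_right, Cfsg.Agent.Lib.Helper20.UT.pow_q_pow_q' hF]

theorem isom_iff_adjM (hF : Fintype.card F = q ^ 2) (A : Matrix κ κ F) :
    (∀ u v, hv q (A *ᵥ u) (A *ᵥ v) = hv q u v) ↔ adjM q A * A = 1 := by
  have := sim_iff_adjM hF A 1
  simp only [one_mul, one_pow, one_smul] at this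
  exact this

end generic

/-! ### the groups by the adjoint -/

theorem mem_GUV_iff (hF : Fintype.card F = q ^ 2) (g : GL (Idx t k) F) :
    g ∈ GUV t k q F ↔ adjM q (g : Matrix (Idx t k) (Idx t k) F) * (g : Matrix (Idx t k) (Idx t k) F) = 1 := by
  rw [mem_GUV]
  exact isom_iff_adjM hF _

theorem mem_DUV_iff (hF : Fintype.card F = q ^ 2) (g : GL (Idx t k) F) :
    g ∈ DUV t k q F ↔ ∃ c : Fˣ, adjM q (g : Matrix (Idx t k) (Idx t k) F) * (g : Matrix (Idx t k) (Idx t k) F) =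
      (c : F) • 1 := by
  rw [mem_DUV]
  constructor
  · rintro ⟨c, hc⟩
    refine ⟨c ^ q, ?_⟩
    rw [Units.val_pow_eq_pow_val]
    exact (sim_iff_adjM hF _ _).1 hc
  · rintro ⟨c, hc⟩
    refine ⟨c ^ q, ?_⟩
    rw [Units.val_pow_eq_pow_val]
    apply (sim_iff_adjM hF _ _).2
    rw [Cfsg.Agent.Lib.Helper20.UT.pow_q_pow_q' hF]
    exact hc

lemma mem_GUA {g : GL (Fin k) F} :
    g ∈ GUA k q F ↔ ∀ u v, hv q ((g : Matrix (Fin k) (Fin k) F) *ᵥ u) ((g : Matrix (Fin k) (Fin k) F) *ᵥ v) = hv q u v :=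
  Iff.rfl

lemma mem_DUA {g : GL (Fin k) F} :
    g ∈ DUA k q F ↔ ∃ c : Fˣ, ∀ u v,
      hv q ((g : Matrix (Fin k) (Fin k) F) *ᵥ u) ((g : Matrix (Fin k) (Fin k) F) *ᵥ v) = (c : F) * hv q u v :=
  Iff.rfl

theorem mem_GUA_iff (hF : Fintype.card F = q ^ 2) (g : GL (Fin k) F) :
    g ∈ GUA k q F ↔ adjM q (g : Matrix (Fin k) (Fin k) F) * (g : Matrix (Fin k) (Fin k) F) = 1 := by
  rw [mem_GUA]
  exact isom_iff_adjM hF _

theorem mem_DUA_iff (hF : Fintype.card F = q ^ 2) (g : GL (Fin k) F) :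
    g ∈ DUA k q F ↔ ∃ c : Fˣ, adjM q (g : Matrix (Fin k) (Fin k) F) * (g : Matrix (Fin k) (Fin k) F) =
      (c : F) • 1 := by
  rw [mem_DUA]
  constructor
  · rintro ⟨c, hc⟩
    refine ⟨c ^ q, ?_⟩
    rw [Units.val_pow_eq_pow_val]
    exact (sim_iff_adjM hF _ _).1 hc
  · rintro ⟨c, hc⟩
    refine ⟨c ^ q, ?_⟩
    rw [Units.val_pow_eq_pow_val]
    apply (sim_iff_adjM hF _ _).2
    rw [Cfsg.Agent.Lib.Helper20.UT.pow_q_pow_q' hF]
    exact hc

/-! ### standard elements -/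

lemma adjM_ptens (gs : Fin t → Matrix (Fin k) (Fin k) F) :
    adjM q (ptens k t gs) = ptens k t (fun j => adjM q (gs j)) := by
  funext x x'
  simp only [adjM_apply, ptens_apply, Finset.prod_pow]

lemma adjM_fperm (hq : q ≠ 0) (σ : Equiv.Perm (Fin t)) :
    adjM q (fperm (F := F) k t σ) = fperm k t σ⁻¹ := by
  funext x x'
  simp only [adjM_apply, fperm_apply]
  have : (x = x' ∘ σ) ↔ (x' = x ∘ ((σ⁻¹ : Equiv.Perm (Fin t)) : Fin t → Fin t)) := by
    constructor
    · rintro rfl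
      funext j
      simp
    · intro h
      rw [h]
      funext j
      simp
  by_cases h : x = x' ∘ σ
  · rw [if_pos h, if_pos (this.1 h), one_pow]
  · rw [if_neg h, if_neg (fun h' => h (this.2 h')), zero_pow hq]

theorem slotGL_mem_GUV (hF : Fintype.card F = q ^ 2) (i : Fin t) {α : GL (Fin k) F} (hα : α ∈ GUA k q F) :
    slotGL i α ∈ GUV t k q F := by
  rw [mem_GUV_iff hF, slotGL_val, adjM_slot (q_ne_zero hF), slot_mul, (mem_GUA_iff hF α).1 hα, slot_one]

theorem slotGL_mem_DUV (hF : Fintype.card F = q ^ 2) (i : Fin t) {α : GL (Fin k) F} (hα : α ∈ DUA k q F) :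
    slotGL i α ∈ DUV t k q F := by
  obtain ⟨c, hc⟩ := (mem_DUA_iff hF α).1 hα
  rw [mem_DUV_iff hF]
  refine ⟨c, ?_⟩
  rw [slotGL_val, adjM_slot (q_ne_zero hF), slot_mul, hc, slot_smul, slot_one]

theorem ptensGL_mem_GUV (hF : Fintype.card F = q ^ 2) {gs : Fin t → GL (Fin k) F} (h : ∀ j, gs j ∈ GUA k q F) :
    Cfsg.Agent.Lib.Helper22.TWQLeaf.ptensGL gs ∈ GUV t k q F := by
  rw [mem_GUV_iff hF, Cfsg.Agent.Lib.Helper22.TWQLeaf.ptensGL_val, adjM_ptens, ptens_mul]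
  have : (fun i => adjM q ((gs i : GL (Fin k) F) : Matrix (Fin k) (Fin k) F) *
      ((gs i : GL (Fin k) F) : Matrix (Fin k) (Fin k) F)) = fun _ => (1 : Matrix (Fin k) (Fin k) F) := by
    funext i
    exact (mem_GUA_iff hF (gs i)).1 (h i)
  rw [this, ptens_one]

theorem wrFpermGL_mem_GUV (hF : Fintype.card F = q ^ 2) (σ : Equiv.Perm (Fin t)) :
    (wrFpermGL k t σ : GL (Idx t k) F) ∈ GUV t k q F := by
  rw [mem_GUV_iff hF]
  show adjM q (fperm k t σ) * fperm k t σ = 1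
  rw [adjM_fperm (q_ne_zero hF), wr_fperm_inv_mul]

/-- any unit whose matrix is a factor permutation is an isometry -/
theorem mem_GUV_of_val_fperm (hF : Fintype.card F = q ^ 2) (σ : Equiv.Perm (Fin t)) {g : GL (Idx t k) F}
    (hg : (g : Matrix (Idx t k) (Idx t k) F) = fperm k t σ) : g ∈ GUV t k q F := by
  rw [mem_GUV_iff hF, hg, adjM_fperm (q_ne_zero hF), wr_fperm_inv_mul]

end Cfsg.Agent.Lib.Helper23.TWUT
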