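import Mathlib
import Cfsg.Agent.Lib.Helper5.TWU.Defs
import Cfsg.Agent.Lib.Helper5.TWU.StageIDefs
import Cfsg.Agent.Lib.Helper26.TWFibA
import Cfsg.Agent.Lib.Helper26.TWFibB
import Cfsg.Agent.Lib.Helper22.TWExtBasic
import Cfsg.Agent.Lib.Helper23.TWUT3

/-!
S5672-I (owner helper5) leaves UT1' `hv_tens`, UT1'' `hv_tens_right`, UT5⁗ `perpU_fib` (helper23), exact signatures of
`notes/S5672_I_leaves.lean`.
-/

set_option autoImplicit false
set_option linter.unusedSectionVars false
set_option linter.unusedVariables false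

namespace Cfsg.Agent.Lib.Helper23.TWULeaf
open Matrix Cfsg.Geo Cfsg.Agent.Lib.Helper18.AschA89 Cfsg.Agent.Lib.Helper8.TW Cfsg.Agent.Lib.Helper5.TWU
open Cfsg.Agent.Lib.Helper20.UT (hv)
open Cfsg.Agent.Lib.Helper23.TWUQ (NSp FCp)

variable {F : Type*} [Field F] [Fintype F] {t k q : ℕ}

/-- UT1' (M) the form splits at position `i` -/
theorem hv_tens (i : Fin (t + 1)) (b b' : Idx t k → F) (a a' : Fin k → F) :
    hv q (tens i b a) (tens i b' a') = hv q b b' * hv q a a' := by
  unfold Cfsg.Agent.Lib.Helper20.UT.hv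
  rw [sum_ins i, Finset.sum_comm, Finset.sum_mul_sum]
  apply Finset.sum_congr rfl
  intro u _
  apply Finset.sum_congr rfl
  intro c _
  unfold tens
  simp only [ins_same, ins_succAbove]
  rw [mul_pow]
  ring

/-- UT1'' (M) contraction with `a†` -/
theorem hv_tens_right (i : Fin (t + 1)) (v : Idx (t + 1) k → F) (b : Idx t k → F) (a : Fin k → F) :
    hv q v (tens i b a) = hv q (ctr i (dag q a) v) b := by
  unfold Cfsg.Agent.Lib.Helper20.UT.hv
  rw [sum_ins i, Finset.sum_comm]
  apply Finset.sum_congr rfl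
  intro u _
  unfold ctr tens
  rw [Finset.sum_mul]
  apply Finset.sum_congr rfl
  intro c _
  simp only [ins_same, ins_succAbove, Cfsg.Agent.Lib.Helper20.UT.cj]
  rw [mul_pow]
  ring

/-- slices by `funSplitAt` -/
lemma slice_split (i : Fin t) (a : Fin k) (r : {j // j ≠ i} → Fin k) (v : Idx t k → F) :
    slice i ((Equiv.funSplitAt i (Fin k)).symm (a, r)) v =
      fun b => v ((Equiv.funSplitAt i (Fin k)).symm (b, r)) := by
  funext b
  unfold slice
  rw [Cfsg.Agent.Lib.Helper23.TWUQU.split_update]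

/-- UT5⁗ (S) perp of a fibre -/
theorem perpU_fib (hF : Fintype.card F = q ^ 2) (i : Fin t) (S : Submodule F (Fin k → F)) :
    perpU q (fib i S) = fib i (perpU q S) := by
  classical
  have hle : fib i (perpU q S) ≤ perpU q (fib i S) := by
    intro v hv' w hw
    unfold Cfsg.Agent.Lib.Helper20.UT.hv
    rw [Cfsg.Agent.Lib.Helper23.TWUQU.sum_split i]
    apply Finset.sum_eq_zero
    intro r _
    by_cases hk : Nonempty (Fin k)
    · obtain ⟨a₀⟩ := hk
      have h1 := hv' ((Equiv.funSplitAt i (Fin k)).symm (a₀, r))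
      have h2 := hw ((Equiv.funSplitAt i (Fin k)).symm (a₀, r))
      rw [slice_split] at h1 h2
      exact h1 _ h2
    · rw [not_nonempty_iff] at hk
      exact Finset.sum_of_isEmpty _
  symm
  apply Submodule.eq_of_le_of_finrank_eq hle
  have h1 := Cfsg.Agent.Lib.Helper23.TWUT.finrank_perpU hF (fib i S)
  have h2 := Cfsg.Agent.Lib.Helper23.TWUT.finrank_perpU hF S
  rw [Cfsg.Agent.Lib.Helper26.TWLeaf.finrank_fib] at h1 ⊢
  have hcard : Fintype.card (Idx t k) = k ^ (t - 1) * k := by
    rw [Fintype.card_fun, Fintype.card_fin, Fintype.card_fin, ← pow_succ]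
    congr 1
    have : 0 < t := Fin.pos i
    omega
  rw [Fintype.card_fin] at h2
  rw [hcard] at h1
  have h3 : k ^ (t - 1) * k = k ^ (t - 1) * Module.finrank F ↥(perpU q S) + k ^ (t - 1) * Module.finrank F ↥S := by
    rw [← mul_add, h2]
  omega

end Cfsg.Agent.Lib.Helper23.TWULeaf
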