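import Mathlib
import Cfsg.Agent.Lib.Helper5.TWU.Defs
import Cfsg.Agent.Lib.Helper23.TWUT
import Cfsg.Agent.Lib.Helper23.TWUT3
import Cfsg.Agent.Lib.Helper23.TWUIUT1
import Cfsg.Agent.Lib.Helper23.TWUQMain
import Cfsg.Agent.Lib.Helper23.TWUQSc
import Cfsg.Agent.Lib.Helper22.TWExtBasic
import Cfsg.Agent.Lib.Helper22.TWExtMore
import Cfsg.Agent.Lib.Helper14.TWIIDefs
import Cfsg.Agent.Lib.Helper19.TWGrow
import Cfsg.Agent.Lib.Helper19.TWU3Defs
import Cfsg.Agent.Lib.Helper19.TWU3Tool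

/-!
S5672-III (sub-planner helper19) leaves A1 `hA_of_HU`, A3a `HU_le_KB`, A3b `KB_le_DUV`, A11 `hB_of_KB`, A13 `RG_of_XTU_univ`
(helper23), exact signatures of `notes/S5672_III_leaves.lean`.
-/

set_option autoImplicit false
set_option linter.unusedSectionVars false
set_option linter.unusedVariables false

namespace Cfsg.Agent.Lib.Helper23.TWU3Leaf
open Matrix Cfsg.Geo Cfsg.Agent.Lib.Helper18.AschA89 Cfsg.Agent.Lib.Helper20.AschLeaf Cfsg.Agent.Lib.Helper8.TW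
open Cfsg.Agent.Lib.Helper5.TWU Cfsg.Agent.Lib.Helper19.TWU3
open Cfsg.Agent.Lib.Helper20.UT (hv)
open Cfsg.Agent.Lib.Helper23.TWUT (adjM)

variable {F : Type*} [Field F] [Fintype F] {t k q : ℕ}

/-- A1 (S) the root elements of `H` -/
theorem hA_of_HU (hF : Fintype.card F = q ^ 2) (X : Subgroup (GL (Idx t k) F)) (hHX : HU t k q F ≤ X) (j : Fin t)
    (x : Fin k → F) (c : F) (hx : hv q x x = 0) (hc : c ^ q = -c) :
    InM X (slot k t j (1 + c • vv q x x)) := by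
  by_cases hx0 : x = 0
  · subst hx0
    have : vv q (0 : Fin k → F) 0 = 0 := by
      ext a b
      rw [vv_apply]
      simp
    rw [this, smul_zero, add_zero, slot_one]
    exact ⟨1, X.one_mem, rfl⟩
  · refine ⟨(urd q j x hx0 hx).elt c, hHX (Cfsg.Agent.Lib.Helper23.TWUT.elt_mem_HU hF (urd_RU q j x hx0 hx) hc), ?_⟩
    rw [RD.elt_val, slot_add, slot_one, slot_smul]
    rfl

/-- the adjoint commutes with `ext` -/
lemma adjM_ext (hq : q ≠ 0) (j : Fin (t + 1)) (γ : Matrix (Idx t k) (Idx t k) F) :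
    adjM q (ext j γ) = ext j (adjM q γ) := by
  funext x x'
  simp only [Cfsg.Agent.Lib.Helper23.TWUT.adjM_apply, Cfsg.Agent.Lib.Helper22.TWLeaf.ext_apply]
  by_cases h : x j = x' j
  · rw [if_pos h, if_pos h.symm]
  · rw [if_neg h, if_neg (fun h' => h h'.symm), zero_pow hq]

/-- A3a (M) -/
theorem HU_le_KB (hF : Fintype.card F = q ^ 2) (X : Subgroup (GL (Idx (t + 1) k) F)) (hHX : HU (t + 1) k q F ≤ X)
    (j : Fin (t + 1)) : HU t k q F ≤ KB X j := by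
  rintro γ ⟨hγG, hγU, hγS⟩
  rw [mem_KB]
  apply hHX
  have hγU' : γ ∈ GUV t k q F := hγU
  have hγS' : γ ∈ Cfsg.Geo.specialLinear (Idx t k) F := hγS
  refine ⟨Cfsg.Agent.Lib.Helper22.TWLeaf.extGL_mem_G j γ hγG, ?_, ?_⟩
  · change extGL j γ ∈ GUV (t + 1) k q F
    rw [Cfsg.Agent.Lib.Helper23.TWUT.mem_GUV_iff hF, extGL_val, adjM_ext (Cfsg.Agent.Lib.Helper23.TWUT.q_ne_zero hF),
      ext_mul, (Cfsg.Agent.Lib.Helper23.TWUT.mem_GUV_iff hF γ).1 hγU', ext_one]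
  · change extGL j γ ∈ Cfsg.Geo.specialLinear (Idx (t + 1) k) F
    unfold Cfsg.Geo.specialLinear at hγS' ⊢
    rw [MonoidHom.mem_ker] at hγS' ⊢
    have h1 : ((γ : GL (Idx t k) F) : Matrix (Idx t k) (Idx t k) F).det = 1 := by
      have := congrArg Units.val hγS'
      rwa [Matrix.GeneralLinearGroup.val_det_apply, Units.val_one] at this
    apply Units.ext
    rw [Matrix.GeneralLinearGroup.val_det_apply, extGL_val, Cfsg.Agent.Lib.Helper22.TWLeaf.det_ext, h1, one_pow,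
      Units.val_one]

/-- A3b (M) -/
theorem KB_le_DUV (hF : Fintype.card F = q ^ 2) (hk : 0 < k) (X : Subgroup (GL (Idx (t + 1) k) F))
    (hXG : X ≤ GUV (t + 1) k q F) (j : Fin (t + 1)) : KB X j ≤ DUV t k q F := by
  intro γ hγ
  rw [mem_KB] at hγ
  have h1 := mem_GUV.1 (hXG hγ)
  apply GUV_le_DUV
  rw [mem_GUV]
  intro u v
  set e₀ : Fin k → F := Pi.single ⟨0, hk⟩ 1 with he₀
  have he : hv q e₀ e₀ = 1 := by
    rw [he₀, Cfsg.Agent.Lib.Helper23.TWUT.hv_single_right (Cfsg.Agent.Lib.Helper23.TWUT.q_ne_zero hF), Pi.single_eq_same]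
  have h2 := h1 (tens j u e₀) (tens j v e₀)
  unfold mv at h2 ⊢
  rw [extGL_val, Cfsg.Agent.Lib.Helper22.TWLeaf.ext_mulVec_tens, Cfsg.Agent.Lib.Helper22.TWLeaf.ext_mulVec_tens,
    Cfsg.Agent.Lib.Helper23.TWULeaf.hv_tens, Cfsg.Agent.Lib.Helper23.TWULeaf.hv_tens, he, mul_one, mul_one] at h2
  exact h2

/-- A11 (S-M) -/
theorem hB_of_KB (hF : Fintype.card F = q ^ 2) (X : Subgroup (GL (Idx (t + 1) k) F)) (j : Fin (t + 1))
    (hK : SUV t k q F ≤ KB X j) (y : Idx t k → F) (c : F) (hy : hv q y y = 0) (hc : c ^ q = -c) :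
    InM X (ext j (1 + c • vv q y y)) := by
  have hsq : vv q y y * vv q y y = 0 := by
    rw [Cfsg.Agent.Lib.Helper19.TWU3Leaf.vv_mul_vv, hy, zero_smul]
  have hadj : adjM q (vv q y y) = vv q y y := Cfsg.Agent.Lib.Helper19.TWU3Leaf.adjM_vv hF y y
  have h : (c • vv q y y) * (c • vv q y y) = 0 := by
    rw [Matrix.smul_mul, Matrix.mul_smul, hsq, smul_zero, smul_zero]
  have hmem := hK (Cfsg.Agent.Lib.Helper19.TWU3Leaf.unip_mem_SUV hF (vv q y y) hsq hadj c hc h)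
  rw [mem_KB] at hmem
  exact ⟨_, hmem, by rw [extGL_val, unip_val]⟩

/-- A13 (S) -/
theorem RG_of_XTU_univ (X : Subgroup (GL (Idx t k) F)) (h : XTU q X Finset.univ) (ys : Fin t → Fin k → F)
    (hys : ∀ i, ys i ≠ 0 ∧ hv q (ys i) (ys i) = 0) : RG q X (pt ys) := by
  intro c hc
  have h1 := h ys c (fun j _ => hys j) hc
  have h2 : nilU q Finset.univ ys = vv q (pt ys) (pt ys) := by
    rw [Cfsg.Agent.Lib.Helper19.TWU3Leaf.nilU_eq_ptens, Cfsg.Agent.Lib.Helper19.TWU3Leaf.vv_pt]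
    congr 1
    funext i
    unfold famU
    rw [if_pos (Finset.mem_univ i)]
  rw [h2] at h1
  exact h1

end Cfsg.Agent.Lib.Helper23.TWU3Leaf
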