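import Mathlib
import Cfsg.Agent.Lib.Helper5.TWU.Defs
import Cfsg.Agent.Lib.Helper5.TWU.StageIDefs
import Cfsg.Agent.Lib.Helper23.TWG6
import Cfsg.Agent.Lib.Helper16.TWImg
import Cfsg.Agent.Lib.Helper16.TWRootA
import Cfsg.Agent.Lib.Helper16.TWRootB
import Cfsg.Agent.Lib.Helper6.TWT1
import Cfsg.Agent.Lib.Helper6.TWQMain
import Cfsg.Agent.Lib.Helper23.TWUT3
import Cfsg.Agent.Lib.Helper26.TWFibA
import Cfsg.Agent.Lib.Helper26.TWFibB

/-!
S5672-I (owner helper5) leaf UT7 `G_act_RU` (helper23), exact signature of `notes/S5672_I_leaves.lean`: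
`G ∩ Δ` acts on the admissible root data, with their UNITARY root groups.
By-products: `adjM_conj` (a similitude conjugates self-adjoint matrices to self-adjoint matrices),
`eta_of_selfadj` (a self-adjoint root nilpotent `rootN i y η` has `η = a • y†`), `ugrp_eq_of_W` (two admissible root data with the
same fibre have the same unitary root group).
-/

set_option autoImplicit false
set_option linter.unusedSectionVars false
set_option linter.unusedVariables false

namespace Cfsg.Agent.Lib.Helper23.TWULeaf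
open Matrix Cfsg.Geo Cfsg.Agent.Lib.Helper18.AschA89 Cfsg.Agent.Lib.Helper8.TW Cfsg.Agent.Lib.Helper5.TWU
open Cfsg.Agent.Lib.Helper20.UT (hv)
open Cfsg.Agent.Lib.Helper23.TWUQ (NSp FCp)
open Cfsg.Agent.Lib.Helper23.TWUT

variable {F : Type*} [Field F] [Fintype F] {t k q : ℕ}

/-- conjugation by a similitude preserves self-adjointness -/
lemma adjM_conj (hF : Fintype.card F = q ^ 2) (g : GL (Idx t k) F) (hg : g ∈ DUV t k q F)
    (N : Matrix (Idx t k) (Idx t k) F) (hN : adjM q N = N) :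
    adjM q ((g : Matrix (Idx t k) (Idx t k) F) * N * ((g⁻¹ : GL (Idx t k) F) : Matrix (Idx t k) (Idx t k) F)) =
      (g : Matrix (Idx t k) (Idx t k) F) * N * ((g⁻¹ : GL (Idx t k) F) : Matrix (Idx t k) (Idx t k) F) := by
  obtain ⟨c, hc⟩ := (mem_DUV_iff hF g).1 hg
  set G : Matrix (Idx t k) (Idx t k) F := (g : Matrix (Idx t k) (Idx t k) F) with hG
  set Gi : Matrix (Idx t k) (Idx t k) F := ((g⁻¹ : GL (Idx t k) F) : Matrix (Idx t k) (Idx t k) F) with hGi
  have hGGi : G * Gi = 1 := by rw [hG, hGi, ← Units.val_mul, mul_inv_cancel, Units.val_one]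
  have hGiG : Gi * G = 1 := by rw [hG, hGi, ← Units.val_mul, inv_mul_cancel, Units.val_one]
  have h1 : adjM q G = (c : F) • Gi := by
    calc adjM q G = adjM q G * (G * Gi) := by rw [hGGi, Matrix.mul_one]
      _ = (adjM q G * G) * Gi := by rw [Matrix.mul_assoc]
      _ = (c : F) • Gi := by rw [hc, Matrix.smul_mul, Matrix.one_mul]
  have h2 : adjM q Gi * adjM q G = 1 := by
    rw [← adjM_mul hF, hGGi, adjM_one (q_ne_zero hF)]
  have h3 : adjM q Gi = ((c : F))⁻¹ • G := by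
    have h4 : adjM q Gi * Gi = ((c : F))⁻¹ • 1 := by
      rw [h1, Matrix.mul_smul] at h2
      rw [← h2, smul_smul, inv_mul_cancel₀ c.ne_zero, one_smul]
    calc adjM q Gi = adjM q Gi * (Gi * G) := by rw [hGiG, Matrix.mul_one]
      _ = (adjM q Gi * Gi) * G := by rw [Matrix.mul_assoc]
      _ = ((c : F))⁻¹ • G := by rw [h4, Matrix.smul_mul, Matrix.one_mul]
  rw [adjM_mul hF, adjM_mul hF, hN, h1, h3]
  rw [Matrix.smul_mul, Matrix.mul_smul, Matrix.mul_smul, smul_smul, inv_mul_cancel₀ c.ne_zero, one_smul,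
    Matrix.mul_assoc]

/-- a self-adjoint root nilpotent `slot i (y ηᵀ)` has `η = a • y†` -/
lemma eta_of_selfadj (hF : Fintype.card F = q ^ 2) (i : Fin t) (y η : Fin k → F) (hy : y ≠ 0) (hη : η ≠ 0)
    (h : adjM q (rootN i y η) = rootN i y η) : ∃ a : F, a ≠ 0 ∧ η = a • dag q y := by
  unfold rootN at h
  rw [adjM_slot (q_ne_zero hF)] at h
  have h1 := Cfsg.Agent.Lib.Helper6.TWLeaf.slot_injective i _ _ h
  obtain ⟨a₀, ha₀⟩ : ∃ a, y a ≠ 0 := by
    by_contra hh
    push Not at hh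
    exact hy (funext hh)
  have h2 : ∀ b, η b = ((η a₀) ^ q * (y a₀)⁻¹) * (y b) ^ q := by
    intro b
    have := congrFun (congrFun h1 a₀) b
    simp only [adjM_apply, Matrix.vecMulVec_apply] at this
    rw [mul_pow] at this
    field_simp
    linear_combination -this
  refine ⟨(η a₀) ^ q * (y a₀)⁻¹, ?_, ?_⟩
  · intro h0
    apply hη
    funext b
    rw [h2 b, h0, zero_mul]
    rfl
  · funext b
    rw [h2 b]
    rfl

lemma rootN_smul_right (i : Fin t) (y η : Fin k → F) (a : F) : rootN i y (a • η) = a • rootN i y η := by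
  unfold rootN
  rw [← slot_smul]
  congr 1
  funext b c
  simp only [Matrix.vecMulVec_apply, Matrix.smul_apply, Pi.smul_apply, smul_eq_mul]
  ring

lemma kerF_smul (η : Fin k → F) {a : F} (ha : a ≠ 0) : kerF (a • η) = kerF η := by
  ext v
  rw [mem_kerF, mem_kerF, smul_dotProduct, smul_eq_mul]
  constructor
  · intro h
    rcases mul_eq_zero.1 h with h | h
    · exact absurd h ha
    · exact h
  · intro h
    rw [h, mul_zero]

/-- UT7 (M) `G ∩ Δ` acts on admissible root data, with their UNITARY root groups -/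
theorem G_act_RU (hF : Fintype.card F = q ^ 2) (hk : 2 ≤ k) (g : GL (Idx t k) F) (hgG : g ∈ Gstd t k F)
    (hgD : g ∈ DUV t k q F) (r : RD t k F) (hr : RU q r) :
    ∃ r' : RD t k F, RU q r' ∧ img g r.W = r'.W ∧ img g r.C = r'.C ∧ conjG g (ugrp hF r) = ugrp hF r' := by
  obtain ⟨r₀, hW, hC, -, hN⟩ := Cfsg.Agent.Lib.Helper23.TWLeaf.G_act_RD g hgG r
  -- `r₀.N` is self-adjoint
  have hrN : r.N = rootN r.i r.y (dag q r.y) := RD_N_eq hr
  have hsa : adjM q r₀.N = r₀.N := by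
    rw [← hN]
    apply adjM_conj hF g hgD
    rw [hrN]
    exact adjM_rootN_dag hF r.i r.y
  obtain ⟨a, ha0, haη⟩ := eta_of_selfadj hF r₀.i r₀.y r₀.η r₀.hy r₀.hη hsa
  -- `r₀.y` is isotropic
  have hiso : hv q r₀.y r₀.y = 0 := by
    have h0 := r₀.h0
    rw [haη, smul_dotProduct, smul_eq_mul] at h0
    rcases mul_eq_zero.1 h0 with h | h
    · exact absurd h ha0
    · rw [Cfsg.Agent.Lib.Helper20.UT.hv_eq_dot]; exact h
  set r' : RD t k F := urd q r₀.i r₀.y r₀.hy hiso with hr'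
  have hN' : r₀.N = a • r'.N := by
    show rootN r₀.i r₀.y r₀.η = a • rootN r₀.i r₀.y (dag q r₀.y)
    rw [haη, rootN_smul_right]
  have hN'0 : r'.N ≠ 0 :=
    Cfsg.Agent.Lib.Helper6.TWQFinal.rootN_ne_zero r₀.i r₀.hy (dag_ne_zero r₀.hy)
  -- `a ∈ F₀`
  have haq : a ^ q = a := by
    have h1 : adjM q (a • r'.N) = a ^ q • r'.N := by
      rw [adjM_smul]
      congr 1
      exact adjM_rootN_dag hF r₀.i r₀.y
    rw [← hN', hsa, hN'] at h1
    have h2 : (a - a ^ q) • r'.N = 0 := by rw [sub_smul, ← h1, sub_self]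
    rcases smul_eq_zero.1 h2 with h | h
    · exact (sub_eq_zero.1 h).symm
    · exact absurd h hN'0
  have hconj : ∀ c : F, g * r.elt c * g⁻¹ = r'.elt (a * c) := by
    intro c
    apply Units.ext
    rw [Units.val_mul, Units.val_mul]
    unfold RD.elt
    rw [unip_val, unip_val, Matrix.mul_add, Matrix.add_mul, Matrix.mul_one, ← Units.val_mul, mul_inv_cancel,
      Units.val_one, Matrix.mul_smul, Matrix.smul_mul, hN, hN', smul_smul, mul_comm]
  refine ⟨r', urd_RU q r₀.i r₀.y r₀.hy hiso, hW, ?_, ?_⟩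
  · rw [hC]
    show Cf r₀.i r₀.η = Cf r₀.i (dag q r₀.y)
    unfold Cf
    rw [haη, kerF_smul _ ha0]
  · ext x
    rw [mem_conjG, mem_ugrp]
    constructor
    · rintro ⟨u, ⟨c, hc, rfl⟩, rfl⟩
      refine ⟨a * c, ?_, hconj c⟩
      rw [mul_pow, haq, hc]; ring
    · rintro ⟨d, hd, rfl⟩
      refine ⟨r.elt (a⁻¹ * d), ⟨a⁻¹ * d, ?_, rfl⟩, ?_⟩
      · rw [mul_pow, inv_pow, haq, hd]; ring
      · rw [hconj, ← mul_assoc, mul_inv_cancel₀ ha0, one_mul]

lemma rootN_smul_left (i : Fin t) (y η : Fin k → F) (a : F) : rootN i (a • y) η = a • rootN i y η := by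
  unfold rootN
  rw [← slot_smul]
  congr 1
  funext b c
  simp only [Matrix.vecMulVec_apply, Matrix.smul_apply, Pi.smul_apply, smul_eq_mul]
  ring

/-- equal fibres: same position (`k ≥ 2`) and proportional vectors -/
theorem Wf_eq_Wf (hk : 2 ≤ k) (i i' : Fin t) (y y' : Fin k → F) (hy : y ≠ 0) (hy' : y' ≠ 0)
    (h : Wf i y = Wf i' y') : i = i' ∧ ∃ a : F, a ≠ 0 ∧ y' = a • y := by
  have hi : i = i' := by
    by_contra hne
    have h1 := Cfsg.Agent.Lib.Helper26.TWLeaf.finrank_fib_inf_fib (F := F) i i' hne (F ∙ y) (F ∙ y')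
    have h2 : (fib i (F ∙ y) ⊓ fib i' (F ∙ y') : Submodule F (Idx t k → F)) = fib i (F ∙ y) := by
      have : fib i' (F ∙ y') = fib i (F ∙ y) := h.symm
      rw [this, inf_idem]
    rw [h2, Cfsg.Agent.Lib.Helper26.TWLeaf.finrank_fib, finrank_span_singleton hy,
      finrank_span_singleton hy'] at h1
    have ht : 2 ≤ t := by
      have h3 : (i : ℕ) ≠ (i' : ℕ) := fun h' => hne (Fin.ext h')
      have := i.2
      have := i'.2
      omega
    have h4 : k ^ (t - 1) = k ^ (t - 2) * k := by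
      rw [← pow_succ]
      congr 1
      omega
    rw [h4] at h1
    have hpos : 0 < k ^ (t - 2) := Nat.pow_pos (by omega)
    nlinarith
  subst hi
  refine ⟨rfl, ?_⟩
  have h1 : (F ∙ y' : Submodule F (Fin k → F)) ≤ F ∙ y := by
    rw [← Cfsg.Agent.Lib.Helper26.TWLeaf.fib_le_iff i]
    exact h.symm.le
  have h2 : y' ∈ (F ∙ y : Submodule F (Fin k → F)) := h1 (Submodule.mem_span_singleton_self y')
  obtain ⟨a, ha⟩ := Submodule.mem_span_singleton.1 h2
  refine ⟨a, ?_, ha.symm⟩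
  rintro rfl
  rw [zero_smul] at ha
  exact hy' ha.symm

/-- two admissible root data with the same fibre have the same unitary root group -/
theorem ugrp_eq_of_W (hF : Fintype.card F = q ^ 2) (hk : 2 ≤ k) (r r' : RD t k F) (hr : RU q r) (hr' : RU q r')
    (hW : r.W = r'.W) : ugrp hF r = ugrp hF r' := by
  obtain ⟨hi, a, ha0, hya⟩ := Wf_eq_Wf hk r.i r'.i r.y r'.y r.hy r'.hy hW
  have hN : r'.N = (a * a ^ q) • r.N := by
    rw [RD_N_eq hr, RD_N_eq hr', ← hi, hya]
    have : dag q (a • r.y) = a ^ q • dag q r.y := by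
      funext b
      exact mul_pow a (r.y b) q
    rw [this, rootN_smul_left, rootN_smul_right, smul_smul]
  have hb : (a * a ^ q) ^ q = a * a ^ q := by
    rw [mul_pow, Cfsg.Agent.Lib.Helper20.UT.pow_q_pow_q' hF, mul_comm]
  have hb0 : a * a ^ q ≠ 0 := mul_ne_zero ha0 (pow_ne_zero q ha0)
  have helt : ∀ c : F, r'.elt c = r.elt ((a * a ^ q) * c) := by
    intro c
    apply Units.ext
    unfold RD.elt
    rw [unip_val, unip_val, hN, smul_smul, mul_comm]
  ext x
  rw [mem_ugrp, mem_ugrp]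
  constructor
  · rintro ⟨c, hc, rfl⟩
    refine ⟨(a * a ^ q)⁻¹ * c, ?_, ?_⟩
    · rw [mul_pow, inv_pow, hb, hc]; ring
    · rw [helt, ← mul_assoc, mul_inv_cancel₀ hb0, one_mul]
  · rintro ⟨c, hc, rfl⟩
    refine ⟨(a * a ^ q) * c, ?_, (helt c)⟩
    rw [mul_pow, hb, hc]; ring

end Cfsg.Agent.Lib.Helper23.TWULeaf
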