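import Mathlib
import Cfsg.Agent.Lib.Helper20.UTDefs
import Cfsg.Agent.Lib.Helper5.UForm

/-!
S5670 (helper20's Stage I market), the G-block: unitary geometry on `Fin n → F` with `hv q`
(G1 exists_skew, G2 exists_iso_mem, G3 exists_iso_perp_two, G4 exists_iso_perp_ne, G5 exists_iso_ct_eq_zero).
-/

set_option autoImplicit false
set_option linter.unusedSectionVars false
set_option linter.unusedVariables false

namespace Cfsg.Agent.Lib.Helper23.UTLeaf
open Matrix Module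
open Cfsg.Agent.Lib.Helper25.Tens Cfsg.Agent.Lib.Helper25.TensLeaf Cfsg.Agent.Lib.Helper20.UT
open Cfsg.Agent.Lib.Helper5 Cfsg.Agent.Lib.Helper5.HermBridge
open scoped Kronecker

variable {F : Type*} [Field F] [Fintype F] {a b q : ℕ}

/-- G1: a non-zero trace-zero scalar -/
theorem exists_skew (hF : Fintype.card F = q ^ 2) : ∃ c : F, c ≠ 0 ∧ c ^ q = -c := by
  have hf := hv_unitary (n := 1) hF
  obtain ⟨c, hc0, hc⟩ := UForm.exists_skew hf.involutive hf.ne_refl
  exact ⟨c, hc0, hc⟩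

/-- G2: every subspace of dimension ≥ 2 contains a non-zero isotropic vector -/
theorem exists_iso_mem {n : ℕ} (hF : Fintype.card F = q ^ 2) (U : Submodule F (Fin n → F))
    (hU : 2 ≤ Module.finrank F U) : ∃ y ∈ U, y ≠ 0 ∧ hv q y y = 0 := by
  have hf := hv_unitary (n := n) hF
  by_cases hND : UForm.ND (hv q) U
  · exact UForm.exists_iso hf hND hU
  · unfold UForm.ND at hND
    push Not at hND
    obtain ⟨u, huU, hu0, hu⟩ := hND
    exact ⟨u, huU, hu0, hu u huU⟩

/-- the perp of two vectors has finrank at least `n - 2` -/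
lemma finrank_pp_pp {n : ℕ} (hF : Fintype.card F = q ^ 2) (y₁ y₂ : Fin n → F) :
    n ≤ Module.finrank F ↥((⊤ : Submodule F (Fin n → F)) ⊓ UForm.pp (hv_unitary (n := n) hF) y₁ ⊓
      UForm.pp (hv_unitary (n := n) hF) y₂) + 2 := by
  have hf := hv_unitary (n := n) hF
  have h1 := UForm.finrank_inf_pp hf (⊤ : Submodule F (Fin n → F)) y₁
  have h2 := UForm.finrank_inf_pp hf ((⊤ : Submodule F (Fin n → F)) ⊓ UForm.pp hf y₁) y₂
  rw [finrank_top, Module.finrank_fin_fun] at h1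
  omega

/-- G3: a non-zero isotropic vector perpendicular to two given vectors (`n ≥ 4`) -/
theorem exists_iso_perp_two {n : ℕ} (hF : Fintype.card F = q ^ 2) (hn : 4 ≤ n) (y₁ y₂ : Fin n → F) :
    ∃ y₃ : Fin n → F, y₃ ≠ 0 ∧ hv q y₃ y₃ = 0 ∧ hv q y₁ y₃ = 0 ∧ hv q y₂ y₃ = 0 := by
  have hf := hv_unitary (n := n) hF
  have hfin := finrank_pp_pp hF y₁ y₂
  obtain ⟨y₃, hmem, h0, hiso⟩ := exists_iso_mem hF
    ((⊤ : Submodule F (Fin n → F)) ⊓ UForm.pp hf y₁ ⊓ UForm.pp hf y₂) (by omega)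
  obtain ⟨hm1, hm2⟩ := Submodule.mem_inf.mp hmem
  obtain ⟨-, hm3⟩ := Submodule.mem_inf.mp hm1
  rw [UForm.mem_pp] at hm2 hm3
  exact ⟨y₃, h0, hiso, UForm.u_symm_zero hf hm3, UForm.u_symm_zero hf hm2⟩

/-- G4: an isotropic vector perpendicular to the isotropic `y` and not a multiple of `y` (`n ≥ 4`) -/
theorem exists_iso_perp_ne {n : ℕ} (hF : Fintype.card F = q ^ 2) (hn : 4 ≤ n) {y : Fin n → F}
    (hy0 : y ≠ 0) (hy : hv q y y = 0) :
    ∃ y₂ : Fin n → F, y₂ ≠ 0 ∧ hv q y₂ y₂ = 0 ∧ hv q y y₂ = 0 ∧ ∀ c : F, y₂ ≠ c • y := by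
  have hf := hv_unitary (n := n) hF
  obtain ⟨w, hw⟩ := (hf.nondegenerate y hy0).1
  have hfin := finrank_pp_pp hF y w
  obtain ⟨y₂, hmem, h0, hiso⟩ := exists_iso_mem hF
    ((⊤ : Submodule F (Fin n → F)) ⊓ UForm.pp hf y ⊓ UForm.pp hf w) (by omega)
  obtain ⟨hm1, hm2⟩ := Submodule.mem_inf.mp hmem
  obtain ⟨-, hm3⟩ := Submodule.mem_inf.mp hm1
  rw [UForm.mem_pp] at hm2 hm3
  refine ⟨y₂, h0, hiso, UForm.u_symm_zero hf hm3, ?_⟩
  intro c hc
  rw [hc, hf.smul_left] at hm2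
  rcases mul_eq_zero.mp hm2 with h | h
  · apply h0
    rw [hc, h, zero_smul]
  · -- `hw : hv q w y ≠ 0` or `hv q y w ≠ 0`
    first
      | exact hw h
      | exact hw (UForm.u_symm_zero hf h)

/-- the linear map `y ↦ (Σ_l (w (i,l))^q * y l)_i` -/
def ctq (q : ℕ) (w : Idx a b → F) : (Fin b → F) →ₗ[F] (Fin a → F) where
  toFun y := fun i => ∑ l, (w (i, l)) ^ q * y l
  map_add' y y' := by
    ext i
    simp only [Pi.add_apply, mul_add, Finset.sum_add_distrib]
  map_smul' c y := by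
    ext i
    simp only [Pi.smul_apply, smul_eq_mul, RingHom.id_apply, Finset.mul_sum]
    apply Finset.sum_congr rfl
    intro l _
    ring

/-- G5: `b ≥ a + 2`: every `w` is killed by the contraction with some non-zero isotropic `y` -/
theorem exists_iso_ct_eq_zero (hF : Fintype.card F = q ^ 2) (hab : a + 2 ≤ b) (w : Idx a b → F) :
    ∃ y : Fin b → F, y ≠ 0 ∧ hv q y y = 0 ∧ ct (cj q y) w = 0 := by
  have hq : q ≠ 0 := by
    rintro rfl
    have : 2 ≤ Fintype.card F := Fintype.one_lt_card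
    omega
  have h1 := LinearMap.finrank_range_add_finrank_ker (ctq (F := F) q w)
  rw [Module.finrank_fin_fun] at h1
  have h2 : finrank F (LinearMap.range (ctq (F := F) q w)) ≤ a := by
    have := Submodule.finrank_le (LinearMap.range (ctq (F := F) q w))
    rwa [Module.finrank_fin_fun] at this
  obtain ⟨y, hmem, h0, hiso⟩ := exists_iso_mem hF (LinearMap.ker (ctq (F := F) q w))
    (by omega)
  refine ⟨y, h0, hiso, ?_⟩
  rw [LinearMap.mem_ker] at hmem
  ext i
  have hi := congrFun hmem i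
  have h3 : (∑ l, (w (i, l)) ^ q * y l) ^ q = ct (cj q y) w i := by
    rw [sum_pow_q hF]
    simp only [ct, cj]
    apply Finset.sum_congr rfl
    intro l _
    rw [mul_pow, pow_q_pow_q' hF]
  rw [← h3]
  have hi' : ∑ l, (w (i, l)) ^ q * y l = 0 := hi
  rw [hi', zero_pow hq]
  rfl

end Cfsg.Agent.Lib.Helper23.UTLeaf
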