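import Mathlib
import Cfsg.Agent.Lib.Lead.SecondMain10
import Cfsg.Agent.S0907

/-!
helper23: contributions of a subsection `(z, e)` of a block `B`: the trace identity
`∑_{χ, ψ ∈ B} |μ_{χψ}|² = l(e)`.
-/

set_option autoImplicit false

namespace Cfsg.Agent.Lib.Helper23.Subsec

open Cfsg Cfsg.Agent.CharLib Cfsg.Agent.Lib.Helper24 Cfsg.Agent.Lib.Helper6
open scoped ComplexConjugate

universe u

section trace

variable {G : Type u} [Group G] [Fintype G] {M : Ideal AlgInt} {p : ℕ} [hpp : Fact p.Prime]

/-- The generalized decomposition function of `χ` at the subsection `(z, e)`. -/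
noncomputable def decFun (C : Subgroup G) (e : Set (IrrCharacter C)) (z : G) (χ : IrrCharacter G) :
    C → ℂ :=
  blockPart e (fun c : C => (χ : G → ℂ) (z * (c : G)))

/-- The contribution `μ_{χψ}` of the subsection `(z, e)`. -/
noncomputable def contrib (p : ℕ) (C : Subgroup G) [Fintype C] (e : Set (IrrCharacter C)) (z : G)
    (χ ψ : IrrCharacter G) : ℂ :=
  (Nat.card C : ℂ)⁻¹ * ∑ s : C, if p ∣ orderOf s then 0 else decFun C e z χ s * conj (decFun C e z ψ s)

/-- The kernel `E(s,t) = ∑_{ζ ∈ e} ζ(s) conj ζ(t)`. -/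
noncomputable def kerFun {C : Type u} [Group C] (e : Set (IrrCharacter C)) (s t : C) : ℂ :=
  ∑ᶠ ζ ∈ e, (ζ : C → ℂ) s * conj ((ζ : C → ℂ) t)

theorem kerFun_conj {C : Type u} [Group C] [Finite C] (e : Set (IrrCharacter C)) (s t : C) :
    conj (kerFun e s t) = kerFun e t s := by
  classical
  let _ : Fintype (IrrCharacter C) := Fintype.ofFinite _
  unfold kerFun
  rw [finsum_mem_eq_sum_ite, finsum_mem_eq_sum_ite, map_sum]
  apply Finset.sum_congr rfl
  intro ζ _
  split_ifs
  · rw [map_mul, Complex.conj_conj, mul_comm]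
  · rw [map_zero]

/-- Reproducing property of the kernel on `p`-regular elements. -/
theorem sum_kerFun_mul {C : Type u} [Group C] [Fintype C] (hM : IsPModular p M)
    (e : Set (IrrCharacter C)) (he : IsPBlock M e) (s : C) (hs : ¬ p ∣ orderOf s) :
    ∑ t : C, (if p ∣ orderOf t then 0 else kerFun e s t * kerFun e t s) =
      (Nat.card C : ℂ) * kerFun e s s := by
  classical
  let _ : Fintype (IrrCharacter C) := Fintype.ofFinite _
  -- drop the regularity restriction
  have h1 : ∀ t : C, (if p ∣ orderOf t then 0 else kerFun e s t * kerFun e t s) =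
      kerFun e s t * kerFun e t s := by
    intro t
    split_ifs with ht
    · have h0 : kerFun e s t = 0 := Cfsg.Agent.S0907.result p M hM e he s t hs ht
      rw [h0, zero_mul]
    · rfl
  simp_rw [h1]
  have h2 : ∀ t : C, kerFun e s t * kerFun e t s =
      ∑ ζ : IrrCharacter C, ∑ ζ' : IrrCharacter C,
        (if ζ ∈ e then (if ζ' ∈ e then
          (ζ : C → ℂ) s * conj ((ζ' : C → ℂ) s) *
            ((ζ' : C → ℂ) t * conj ((ζ : C → ℂ) t)) else 0) else 0) := by
    intro t
    unfold kerFun
    rw [finsum_mem_eq_sum_ite, finsum_mem_eq_sum_ite, Finset.sum_mul_sum]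
    apply Finset.sum_congr rfl
    intro ζ _
    apply Finset.sum_congr rfl
    intro ζ' _
    by_cases h : ζ ∈ e
    · by_cases h' : ζ' ∈ e
      · rw [if_pos h, if_pos h', if_pos h, if_pos h']; ring
      · rw [if_pos h, if_neg h', if_pos h, if_neg h', mul_zero]
    · rw [if_neg h, if_neg h, zero_mul]
  simp_rw [h2]
  rw [Finset.sum_comm]
  have h3 : ∀ ζ : IrrCharacter C, ∑ t : C, ∑ ζ' : IrrCharacter C,
      (if ζ ∈ e then (if ζ' ∈ e then
          (ζ : C → ℂ) s * conj ((ζ' : C → ℂ) s) *
            ((ζ' : C → ℂ) t * conj ((ζ : C → ℂ) t)) else 0) else 0) =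
      (Nat.card C : ℂ) * (if ζ ∈ e then (ζ : C → ℂ) s * conj ((ζ : C → ℂ) s) else 0) := by
    intro ζ
    by_cases h : ζ ∈ e
    · simp only [if_pos h]
      rw [Finset.sum_comm]
      rw [Finset.sum_eq_single ζ]
      · simp only [if_pos h]
        rw [← Finset.mul_sum]
        have horth : ∑ t : C, (ζ : C → ℂ) t * conj ((ζ : C → ℂ) t) = (Nat.card C : ℂ) := by
          have := classInner_irr' ζ ζ
          rw [if_pos rfl] at this
          unfold classInner at this
          have hC0 : (Nat.card C : ℂ) ≠ 0 := Nat.cast_ne_zero.mpr Nat.card_pos.ne'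
          field_simp at this
          rw [this]
        rw [horth]; ring
      · intro ζ' _ hne
        by_cases h' : ζ' ∈ e
        · simp only [if_pos h']
          rw [← Finset.mul_sum]
          have horth : ∑ t : C, (ζ' : C → ℂ) t * conj ((ζ : C → ℂ) t) = 0 := by
            have := classInner_irr' ζ' ζ
            rw [if_neg hne] at this
            unfold classInner at this
            have hC0 : (Nat.card C : ℂ) ≠ 0 := Nat.cast_ne_zero.mpr Nat.card_pos.ne'
            rcases mul_eq_zero.mp this with h0 | h0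
            · exact absurd (inv_eq_zero.mp h0) hC0
            · exact h0
          rw [horth, mul_zero]
        · simp only [if_neg h']
          exact Finset.sum_const_zero
      · intro h0; exact absurd (Finset.mem_univ _) h0
    · simp only [if_neg h, Finset.sum_const_zero, mul_zero]
  rw [Finset.sum_congr rfl (fun ζ _ => h3 ζ), ← Finset.mul_sum]
  congr 1
  unfold kerFun
  rw [finsum_mem_eq_sum_ite]

/-- The diagonal sum of the kernel over the `p`-regular elements. -/
theorem sum_kerFun_diag {C : Type u} [Group C] [Fintype C] (hM : IsPModular p M)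
    (e : Set (IrrCharacter C)) (he : IsPBlock M e) :
    ∑ s : C, (if p ∣ orderOf s then 0 else kerFun e s s) =
      (Nat.card C : ℂ) * (blockRank p e : ℂ) := by
  classical
  rw [Cfsg.Agent.S4667.result' p M hM e he]
  apply Finset.sum_congr rfl
  intro s _
  unfold kerFun
  by_cases hs : p ∣ orderOf s
  · rw [if_pos hs]
    symm
    apply finsum_mem_eq_zero_of_forall_eq_zero
    intro ζ _
    rw [Cfsg.Agent.S4667.pRegularPart_of_singular p _ (by unfold IsPRegular; exact not_not.mpr hs),
      zero_mul]
  · rw [if_neg hs]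
    apply finsum_mem_congr rfl
    intro ζ _
    rw [Cfsg.Agent.S4667.pRegularPart_of_regular p _ (show IsPRegular p s from hs),
      IsCharacter.apply_inv (IsIrrCharacter.isCharacter ζ.2)]

/-- **Trace identity** for the contributions of a subsection. -/
theorem trace_identity (hM : IsPModular p M) (z : G) (hz : ∃ k : ℕ, orderOf z = p ^ k)
    (C : Subgroup G) [Fintype C] (hC : C = Subgroup.centralizer ({z} : Set G))
    (B : Set (IrrCharacter G)) (hB : IsPBlock M B) (ψ₀ : IrrCharacter C)
    (hind : IsInducedBlock M C (blockOf M (ψ₀ : C → ℂ)) B) [Fintype (IrrCharacter G)]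
    [DecidablePred (· ∈ B)] :
    ∑ χ ∈ Finset.univ.filter (· ∈ B), ∑ ψ ∈ Finset.univ.filter (· ∈ B),
      contrib p C (blockOf M (ψ₀ : C → ℂ)) z χ ψ *
        conj (contrib p C (blockOf M (ψ₀ : C → ℂ)) z χ ψ) =
      (blockRank p (blockOf M (ψ₀ : C → ℂ)) : ℂ) := by
  classical
  set e := blockOf M (ψ₀ : C → ℂ) with he
  set Bf := Finset.univ.filter (fun χ : IrrCharacter G => χ ∈ B) with hBf
  have he' : IsPBlock M e := ⟨ψ₀, rfl⟩
  set c : ℂ := (Nat.card C : ℂ) with hc
  have hc0 : c ≠ 0 := Nat.cast_ne_zero.mpr Nat.card_pos.ne'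
  set D := fun (χ : IrrCharacter G) (s : C) => decFun C e z χ s with hD
  -- the orthogonality relation of the section
  have hsec : ∀ s t : C, ¬ p ∣ orderOf s → ¬ p ∣ orderOf t →
      ∑ χ ∈ Bf, D χ s * conj (D χ t) = kerFun e s t := by
    intro s t hs ht
    have h1 := sum_block_section hM z hz C hC B hB ψ₀ hind s hs t ht
    rw [finsum_mem_eq_sum_ite, ← Finset.sum_filter] at h1
    exact h1
  -- expand the product
  have hprod : ∀ χ ψ : IrrCharacter G,
      contrib p C e z χ ψ * conj (contrib p C e z χ ψ) =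
        c⁻¹ * c⁻¹ * ∑ s : C, ∑ t : C,
          (if p ∣ orderOf s then 0 else if p ∣ orderOf t then 0 else
            (D χ s * conj (D χ t)) * (D ψ t * conj (D ψ s))) := by
    intro χ ψ
    unfold contrib
    rw [map_mul, map_inv₀, Complex.conj_natCast, map_sum]
    rw [show (Nat.card C : ℂ)⁻¹ * (∑ s : C, if p ∣ orderOf s then 0 else
        decFun C e z χ s * conj (decFun C e z ψ s)) *
        ((Nat.card C : ℂ)⁻¹ * ∑ t : C, conj (if p ∣ orderOf t then 0 else
          decFun C e z χ t * conj (decFun C e z ψ t))) =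
      c⁻¹ * c⁻¹ * ((∑ s : C, if p ∣ orderOf s then 0 else
        decFun C e z χ s * conj (decFun C e z ψ s)) *
        (∑ t : C, conj (if p ∣ orderOf t then 0 else
          decFun C e z χ t * conj (decFun C e z ψ t)))) by ring]
    rw [Finset.sum_mul_sum]
    congr 1
    apply Finset.sum_congr rfl
    intro s _
    apply Finset.sum_congr rfl
    intro t _
    by_cases hs : p ∣ orderOf s
    · rw [if_pos hs, if_pos hs, zero_mul]
    · rw [if_neg hs, if_neg hs]
      by_cases ht : p ∣ orderOf t
      · rw [if_pos ht, if_pos ht, map_zero, mul_zero]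
      · rw [if_neg ht, if_neg ht, map_mul, Complex.conj_conj]
        ring
  simp_rw [hprod]
  simp_rw [← Finset.mul_sum]
  -- interchange the sums
  have hswap : ∑ χ ∈ Bf, ∑ ψ ∈ Bf, ∑ s : C, ∑ t : C,
      (if p ∣ orderOf s then 0 else if p ∣ orderOf t then 0 else
        (D χ s * conj (D χ t)) * (D ψ t * conj (D ψ s))) =
      ∑ s : C, ∑ t : C, (if p ∣ orderOf s then 0 else if p ∣ orderOf t then 0 else
        kerFun e s t * kerFun e t s) := by
    have h1 : ∀ χ ∈ Bf, ∑ ψ ∈ Bf, ∑ s : C, ∑ t : C,
        (if p ∣ orderOf s then 0 else if p ∣ orderOf t then 0 else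
          (D χ s * conj (D χ t)) * (D ψ t * conj (D ψ s))) =
        ∑ s : C, ∑ t : C, ∑ ψ ∈ Bf,
          (if p ∣ orderOf s then 0 else if p ∣ orderOf t then 0 else
            (D χ s * conj (D χ t)) * (D ψ t * conj (D ψ s))) := by
      intro χ _
      rw [Finset.sum_comm]
      apply Finset.sum_congr rfl
      intro s _
      rw [Finset.sum_comm]
    rw [Finset.sum_congr rfl h1, Finset.sum_comm]
    apply Finset.sum_congr rfl
    intro s _
    rw [Finset.sum_comm]
    apply Finset.sum_congr rfl
    intro t _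
    by_cases hs : p ∣ orderOf s
    · simp only [if_pos hs, Finset.sum_const_zero]
    · simp only [if_neg hs]
      by_cases ht : p ∣ orderOf t
      · simp only [if_pos ht, Finset.sum_const_zero]
      · simp only [if_neg ht]
        rw [← hsec s t hs ht, ← hsec t s ht hs, Finset.sum_mul_sum]
  rw [hswap]
  have hinner : ∀ s : C, ∑ t : C, (if p ∣ orderOf s then 0 else if p ∣ orderOf t then 0 else
        kerFun e s t * kerFun e t s) = if p ∣ orderOf s then 0 else c * kerFun e s s := by
    intro s
    by_cases hs : p ∣ orderOf s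
    · simp only [if_pos hs, Finset.sum_const_zero]
    · simp only [if_neg hs]
      exact sum_kerFun_mul hM e he' s hs
  rw [Finset.sum_congr rfl (fun s _ => hinner s)]
  have hfin : ∑ s : C, (if p ∣ orderOf s then 0 else c * kerFun e s s) =
      c * ∑ s : C, (if p ∣ orderOf s then 0 else kerFun e s s) := by
    rw [Finset.mul_sum]
    apply Finset.sum_congr rfl
    intro s _
    split_ifs
    · rw [mul_zero]
    · rfl
  rw [hfin, sum_kerFun_diag hM e he', ← hc]
  field_simp

end trace

end Cfsg.Agent.Lib.Helper23.Subsec
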