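import Mathlib
import Cfsg.Agent.Lib.Helper23.SubsecA
import Cfsg.Agent.Lib.Helper6.BrouePuig
import Cfsg.Agent.Lib.Helper23.HeightZeroH

/-!
helper23: contributions of a subsection in terms of the integers `[ζ̃, ζ']` of the centralizer.
-/

set_option autoImplicit false
set_option linter.unusedSectionVars false

namespace Cfsg.Agent.Lib.Helper23.Subsec

open Cfsg Cfsg.Agent.CharLib Cfsg.Agent.Lib.Helper24 Cfsg.Agent.Lib.Helper6 Cfsg.Agent.Lib.Helper23
open scoped ComplexConjugate

universe u

section defs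

variable {G : Type u} [Group G] [Fintype G] (C : Subgroup G) [Fintype C]

/-- The central character of `ζ ∈ Irr(C)` as a homomorphism on the centre. -/
noncomputable def centHom (ζ : IrrCharacter C) : Subgroup.center C →* ℂ :=
  (IsIrrCharacter.exists_central_hom ζ.2).choose

theorem centHom_spec (ζ : IrrCharacter C) (w : Subgroup.center C) (g : C) :
    (ζ : C → ℂ) ((w : C) * g) = centHom C ζ w * (ζ : C → ℂ) g :=
  (IsIrrCharacter.exists_central_hom ζ.2).choose_spec.1 w g

theorem centHom_norm (ζ : IrrCharacter C) (w : Subgroup.center C) : ‖centHom C ζ w‖ = 1 :=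
  (IsIrrCharacter.exists_central_hom ζ.2).choose_spec.2 w

theorem centHom_conj (ζ : IrrCharacter C) (w : Subgroup.center C) :
    conj (centHom C ζ w) = centHom C ζ w⁻¹ := by
  have h1 : centHom C ζ w * centHom C ζ w⁻¹ = 1 := by
    rw [← map_mul, mul_inv_cancel, map_one]
  have h2 : centHom C ζ w * conj (centHom C ζ w) = 1 := by
    rw [Complex.mul_conj, Complex.normSq_eq_norm_sq, centHom_norm]
    norm_num
  have h0 : centHom C ζ w ≠ 0 := by
    intro h
    rw [h, zero_mul] at h1
    exact zero_ne_one h1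
  exact mul_left_cancel₀ h0 (h2.trans h1.symm)

variable [Fintype (IrrCharacter C)]

/-- Multiplicities of the restriction of `χ` to `C`. -/
noncomputable def resMult (χ : IrrCharacter G) : IrrCharacter C → ℕ :=
  (IsCharacter.exists_decomp_sum (isCharacter_resFun C (IsIrrCharacter.isCharacter χ.2))).choose

theorem res_eq_sum (χ : IrrCharacter G) :
    resFun C (χ : G → ℂ) = ∑ ζ : IrrCharacter C, resMult C χ ζ • (ζ : C → ℂ) :=
  (IsCharacter.exists_decomp_sum
    (isCharacter_resFun C (IsIrrCharacter.isCharacter χ.2))).choose_spec.1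

/-- The coefficient of `ζ` in the generalized decomposition function of `χ`. -/
noncomputable def decCoeff (e : Set (IrrCharacter C)) [DecidablePred (· ∈ e)]
    (w : Subgroup.center C) (χ : IrrCharacter G) (ζ : IrrCharacter C) : ℂ :=
  if ζ ∈ e then (resMult C χ ζ : ℂ) * centHom C ζ w else 0

/-- Expansion of the generalized decomposition function. -/
theorem decFun_eq (e : Set (IrrCharacter C)) [DecidablePred (· ∈ e)] (w : Subgroup.center C)
    (χ : IrrCharacter G) (s : C) :
    decFun C e (((w : C) : G)) χ s = ∑ ζ : IrrCharacter C, decCoeff C e w χ ζ * (ζ : C → ℂ) s := by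
  classical
  set ϑ : C → ℂ := fun c : C => (χ : G → ℂ) (((w : C) : G) * (c : G)) with hϑdef
  have hϑ : ϑ = ∑ ξ : IrrCharacter C, ((resMult C χ ξ : ℂ) * centHom C ξ w) • (ξ : C → ℂ) := by
    funext c
    have h1 : ϑ c = resFun C (χ : G → ℂ) ((w : C) * c) := rfl
    rw [h1, res_eq_sum, Finset.sum_apply, Finset.sum_apply]
    apply Finset.sum_congr rfl
    intro ξ _
    simp only [Pi.smul_apply, smul_eq_mul, nsmul_eq_mul]
    rw [centHom_spec]
    ring
  have hinner : ∀ ψ : IrrCharacter C,
      classInner ϑ (ψ : C → ℂ) = (resMult C χ ψ : ℂ) * centHom C ψ w := by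
    intro ψ
    rw [hϑ, classInner_sum_left]
    simp only [classInner_smul_left, classInner_irr']
    rw [Finset.sum_eq_single ψ]
    · rw [if_pos rfl, mul_one]
    · intro ξ _ hne
      rw [if_neg hne, mul_zero]
    · intro h
      exact absurd (Finset.mem_univ ψ) h
  unfold decFun
  rw [blockPart_apply, finsum_mem_eq_sum_ite]
  apply Finset.sum_congr rfl
  intro ζ _
  unfold decCoeff
  by_cases hζ : ζ ∈ e
  · rw [if_pos hζ, if_pos hζ, hinner]
  · rw [if_neg hζ, if_neg hζ, zero_mul]

variable {p : ℕ} [hpp : Fact p.Prime]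

/-- The sum over the `p`-regular elements of `ζ conj ζ'` in terms of the integer `[ζ̃, ζ']`. -/
theorem sum_regular_eq_tildeInt (ζ ζ' : IrrCharacter C) :
    (Nat.card C : ℂ)⁻¹ * ∑ s : C, (if p ∣ orderOf s then 0 else
      (ζ : C → ℂ) s * conj ((ζ' : C → ℂ) s)) =
      (tildeInt p ζ ζ' : ℂ) / ((p ^ (Nat.card C).factorization p : ℕ) : ℂ) := by
  have hp0 : ((p ^ (Nat.card C).factorization p : ℕ) : ℂ) ≠ 0 :=
    Nat.cast_ne_zero.mpr (pow_pos hpp.out.pos _).ne'
  rw [← tildeInt_spec, eq_div_iff hp0]
  unfold classInner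
  rw [mul_assoc, Finset.sum_mul]
  congr 1
  apply Finset.sum_congr rfl
  intro s _
  unfold tildeFun
  by_cases hs : p ∣ orderOf s
  · rw [if_pos hs, if_pos hs, zero_mul, zero_mul]
  · rw [if_neg hs, if_neg hs]
    ring

/-- **The contribution in terms of the integers `[ζ̃, ζ']`**. -/
theorem contrib_eq (e : Set (IrrCharacter C)) [DecidablePred (· ∈ e)] (w : Subgroup.center C)
    (χ ψ : IrrCharacter G) :
    contrib p C e (((w : C) : G)) χ ψ =
      (∑ ζ : IrrCharacter C, ∑ ζ' : IrrCharacter C,
        decCoeff C e w χ ζ * conj (decCoeff C e w ψ ζ') * (tildeInt p ζ ζ' : ℂ)) /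
        ((p ^ (Nat.card C).factorization p : ℕ) : ℂ) := by
  unfold contrib
  have h1 : ∀ s : C, (if p ∣ orderOf s then (0 : ℂ) else
      decFun C e (((w : C) : G)) χ s * conj (decFun C e (((w : C) : G)) ψ s)) =
      ∑ ζ : IrrCharacter C, ∑ ζ' : IrrCharacter C,
        decCoeff C e w χ ζ * conj (decCoeff C e w ψ ζ') *
          (if p ∣ orderOf s then 0 else (ζ : C → ℂ) s * conj ((ζ' : C → ℂ) s)) := by
    intro s
    by_cases hs : p ∣ orderOf s
    · simp only [if_pos hs, mul_zero, Finset.sum_const_zero]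
    · simp only [if_neg hs]
      rw [decFun_eq, decFun_eq, map_sum, Finset.sum_mul_sum]
      apply Finset.sum_congr rfl
      intro ζ _
      apply Finset.sum_congr rfl
      intro ζ' _
      rw [map_mul]
      ring
  simp_rw [h1]
  rw [Finset.sum_comm]
  simp_rw [Finset.sum_comm (s := (Finset.univ : Finset C))]
  simp_rw [← Finset.mul_sum]
  rw [Finset.mul_sum, Finset.sum_div]
  apply Finset.sum_congr rfl
  intro ζ _
  rw [Finset.mul_sum, Finset.sum_div]
  apply Finset.sum_congr rfl
  intro ζ' _
  rw [mul_div_assoc, ← sum_regular_eq_tildeInt]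
  ring

end defs

end Cfsg.Agent.Lib.Helper23.Subsec
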