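import Mathlib
import Cfsg.Agent.Lib.Helper23.SubsecB

/-!
helper23: the contributions of a subsection between characters of height zero are local units.
-/

set_option autoImplicit false
set_option linter.unusedSectionVars false

namespace Cfsg.Agent.Lib.Helper23.Subsec

open Cfsg Cfsg.Agent.CharLib Cfsg.Agent.Lib.Helper24 Cfsg.Agent.Lib.Helper6 Cfsg.Agent.Lib.Helper23
open scoped ComplexConjugate

universe u

section rankone

variable {C : Type u} [Group C] [Fintype C] {M : Ideal AlgInt} {p : ℕ} [hpp : Fact p.Prime]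

/-- The degree of a member of `e` divided by the least `p`-part of a degree is a local integer. -/
theorem memLocalRing_degree_div (hM : IsPModular p M) (e : Set (IrrCharacter C))
    {ζ : IrrCharacter C} (hζ : ζ ∈ e) :
    MemLocalRing M ((charDegree (ζ : C → ℂ) : ℂ) / ((p : ℂ) ^ minVal p e)) := by
  have hp : p.Prime := hpp.out
  have h1 := (memLocalRing_intCast_div_natCast_iff hM (n := (charDegree (ζ : C → ℂ) : ℤ))
    (d := p ^ minVal p e) (pow_pos hp.pos _).ne').mpr (by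
      rw [Nat.Prime.factorization_pow hp]
      simp only [Finsupp.single_eq_same]
      have h2 : p ^ minVal p e ∣ charDegree (ζ : C → ℂ) :=
        dvd_trans (pow_dvd_pow p (minVal_le hζ)) (Nat.ordProj_dvd _ p)
      exact_mod_cast h2)
  simpa using h1

/-- **Rank one structure** of the integers `[ζ̃, ζ']` of a block modulo the local ideal. -/
theorem exists_rank_one (hM : IsPModular p M) (e : Set (IrrCharacter C)) (he : IsPBlock M e) :
    ∃ (ψ₁ : IrrCharacter C) (c₀ : ℂ), ψ₁ ∈ e ∧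
      MemLocalRing M c₀ ∧ ¬ MemLocalIdeal M c₀ ∧
      (∀ ζ ∈ e, MemLocalIdeal M ((tildeInt p ζ ψ₁ : ℂ) / (charDegree (ψ₁ : C → ℂ) : ℂ) -
        c₀ * ((charDegree (ζ : C → ℂ) : ℂ) / ((p : ℂ) ^ minVal p e)))) ∧
      (∀ ζ ∈ e, ∀ ζ' ∈ e, MemLocalIdeal M ((tildeInt p ζ ζ' : ℂ) / ((p : ℂ) ^ minVal p e) -
        c₀ * ((charDegree (ζ : C → ℂ) : ℂ) / ((p : ℂ) ^ minVal p e)) *
          ((charDegree (ζ' : C → ℂ) : ℂ) / ((p : ℂ) ^ minVal p e)))) := by
  classical
  have hprime : M.IsPrime := isPrime_of_isPModular hM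
  have hp : p.Prime := hpp.out
  have hne : e.Nonempty := by
    obtain ⟨χ₁, rfl⟩ := he
    exact ⟨χ₁, mem_blockOf_self χ₁⟩
  obtain ⟨ψ₁, hψ₁, hmin⟩ := exists_minVal (p := p) hne
  set m := minVal p e with hm
  set d₁ := charDegree (ψ₁ : C → ℂ) with hd₁
  have hd₁pos : 0 < d₁ := irr_charDegree_pos ψ₁
  have hd₁0 : (d₁ : ℂ) ≠ 0 := Nat.cast_ne_zero.mpr hd₁pos.ne'
  have hpm0 : ((p : ℂ) ^ m) ≠ 0 := pow_ne_zero _ (Nat.cast_ne_zero.mpr hp.ne_zero)
  -- `d₁ = p^m δ₁` with `p ∤ δ₁`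
  set δ₁ := d₁ / p ^ m with hδ₁
  have hd₁eq : p ^ m * δ₁ = d₁ := by
    rw [hδ₁, ← hmin]; exact Nat.ordProj_mul_ordCompl_eq_self d₁ p
  have hδ₁p : ¬ p ∣ δ₁ := by
    rw [hδ₁, ← hmin]; exact Nat.not_dvd_ordCompl hp hd₁pos.ne'
  have hδ₁0 : (δ₁ : ℂ) ≠ 0 := by
    have : δ₁ ≠ 0 := by rintro h0; rw [h0] at hδ₁p; exact hδ₁p (dvd_zero p)
    exact_mod_cast this
  have hd₁c : (d₁ : ℂ) = (p : ℂ) ^ m * (δ₁ : ℂ) := by rw [← hd₁eq]; push_cast; ring
  set κ : ℂ := (tildeInt p ψ₁ ψ₁ : ℂ) / (d₁ : ℂ) with hκ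
  have hκR : MemLocalRing M κ := memLocalRing_tildeInt_div hM ψ₁ ψ₁
  have hκU : ¬ MemLocalIdeal M κ := by
    rw [hκ, memLocalIdeal_intCast_div_natCast_iff hM hd₁pos.ne']
    exact (minimal_iff_not_dvd hM he hψ₁ hψ₁).mp hmin
  set u : ℂ := ((1 : ℕ) : ℂ) / (δ₁ : ℂ) with hu
  obtain ⟨huR, huU⟩ := natCast_div_unit hM (k := 1) (c := δ₁)
    (by rw [Nat.dvd_one]; exact hp.one_lt.ne') hδ₁p
  have hu' : u = (p : ℂ) ^ m / (d₁ : ℂ) := by
    rw [hu, hd₁c, Nat.cast_one]; field_simp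
  refine ⟨ψ₁, κ * u, hψ₁, memLocalRing_mul hκR huR, not_memLocalIdeal_mul hκR huR hκU huU, ?_, ?_⟩
  · intro ζ hζ
    have h1 := memLocalIdeal_tildeInt_div_sub hM ψ₁ ζ ψ₁ (sameBlock_of_mem hM he hζ hψ₁)
    have hdζ0 : (charDegree (ζ : C → ℂ) : ℂ) ≠ 0 :=
      Nat.cast_ne_zero.mpr (irr_charDegree_pos ζ).ne'
    have h2 : (tildeInt p ζ ψ₁ : ℂ) / (d₁ : ℂ) -
        κ * u * ((charDegree (ζ : C → ℂ) : ℂ) / ((p : ℂ) ^ m)) =
        ((tildeInt p ψ₁ ζ : ℂ) / (charDegree (ζ : C → ℂ) : ℂ) -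
          (tildeInt p ψ₁ ψ₁ : ℂ) / (charDegree (ψ₁ : C → ℂ) : ℂ)) *
          ((charDegree (ζ : C → ℂ) : ℂ) / ((p : ℂ) ^ m) * u) := by
      rw [tildeInt_symm ζ ψ₁, hκ, hu', ← hd₁]
      field_simp
    rw [h2]
    exact memLocalIdeal_mul_right h1 (memLocalRing_mul (memLocalRing_degree_div hM e hζ) huR)
  · intro ζ hζ ζ' hζ'
    have h1 := memLocalIdeal_tildeInt_div_sub hM ζ ζ' ψ₁ (sameBlock_of_mem hM he hζ' hψ₁)
    have h0 := memLocalIdeal_tildeInt_div_sub hM ψ₁ ζ ψ₁ (sameBlock_of_mem hM he hζ hψ₁)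
    have hdζ0 : (charDegree (ζ : C → ℂ) : ℂ) ≠ 0 :=
      Nat.cast_ne_zero.mpr (irr_charDegree_pos ζ).ne'
    have hdζ'0 : (charDegree (ζ' : C → ℂ) : ℂ) ≠ 0 :=
      Nat.cast_ne_zero.mpr (irr_charDegree_pos ζ').ne'
    have h2 : (tildeInt p ζ ζ' : ℂ) / ((p : ℂ) ^ m) -
        κ * u * ((charDegree (ζ : C → ℂ) : ℂ) / ((p : ℂ) ^ m)) *
          ((charDegree (ζ' : C → ℂ) : ℂ) / ((p : ℂ) ^ m)) =
        ((tildeInt p ζ ζ' : ℂ) / (charDegree (ζ' : C → ℂ) : ℂ) -
          (tildeInt p ζ ψ₁ : ℂ) / (charDegree (ψ₁ : C → ℂ) : ℂ)) *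
          ((charDegree (ζ' : C → ℂ) : ℂ) / ((p : ℂ) ^ m)) +
        ((tildeInt p ψ₁ ζ : ℂ) / (charDegree (ζ : C → ℂ) : ℂ) -
          (tildeInt p ψ₁ ψ₁ : ℂ) / (charDegree (ψ₁ : C → ℂ) : ℂ)) *
          ((charDegree (ζ : C → ℂ) : ℂ) / ((p : ℂ) ^ m) * u *
            ((charDegree (ζ' : C → ℂ) : ℂ) / ((p : ℂ) ^ m))) := by
      rw [tildeInt_symm ζ ψ₁, hκ, hu', ← hd₁]
      field_simp
      ring
    rw [h2]
    apply memLocalIdeal_add
    · exact memLocalIdeal_mul_right h1 (memLocalRing_degree_div hM e hζ')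
    · exact memLocalIdeal_mul_right h0 (memLocalRing_mul
        (memLocalRing_mul (memLocalRing_degree_div hM e hζ) huR) (memLocalRing_degree_div hM e hζ'))

end rankone

section unit

variable {G : Type u} [Group G] [Fintype G] {M : Ideal AlgInt} {p : ℕ} [hpp : Fact p.Prime]

/-- A value of the central character at a `p`-element is a local integer congruent to one. -/
theorem centHom_local (hM : IsPModular p M) (C : Subgroup G) [Fintype C] (ζ : IrrCharacter C)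
    (w : Subgroup.center C) (hw : ∃ k : ℕ, w ^ (p ^ k) = 1) :
    MemLocalRing M (centHom C ζ w) ∧ MemLocalIdeal M (centHom C ζ w - 1) := by
  have hprime : M.IsPrime := isPrime_of_isPModular hM
  obtain ⟨k, hk⟩ := hw
  have h1 : centHom C ζ w ^ (p ^ k) = 1 := by rw [← map_pow, hk, map_one]
  have hint : IsIntegral ℤ (centHom C ζ w) := by
    apply IsIntegral.of_pow (pow_pos hpp.out.pos k)
    rw [h1]
    exact isIntegral_one
  exact ⟨memLocalRing_of_algInt (M := M) ⟨_, hint⟩ hprime.one_notMem,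
    BrouePuig.memLocalIdeal_sub_one_of_pow_eq_one hM h1⟩

/-- **Contributions between height zero characters are local units.** -/
theorem contrib_unit (hM : IsPModular p M) (C : Subgroup G) [Fintype C]
    (e : Set (IrrCharacter C)) (B : Set (IrrCharacter G)) (hind : IsInducedBlock M C e B)
    (w : Subgroup.center C) (hw : ∃ k : ℕ, w ^ (p ^ k) = 1)
    (χ ψ : IrrCharacter G) (hχ : χ ∈ B) (hχ0 : blockHeight p B (χ : G → ℂ) = 0)
    (hψ : ψ ∈ B) (hψ0 : blockHeight p B (ψ : G → ℂ) = 0) :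
    MemLocalRing M (((p : ℂ) ^ blockDefect p e) * contrib p C e (((w : C) : G)) χ ψ) ∧
      ¬ MemLocalIdeal M (((p : ℂ) ^ blockDefect p e) * contrib p C e (((w : C) : G)) χ ψ) := by
  classical
  let _ := fintypeIrr C
  have hprime : M.IsPrime := isPrime_of_isPModular hM
  have hp : p.Prime := hpp.out
  have he : IsPBlock M e := hind.1
  have hne : e.Nonempty := by
    obtain ⟨χ₁, h⟩ := he
    exact ⟨χ₁, by rw [h]; exact mem_blockOf_self χ₁⟩
  obtain ⟨ψ₁, c₀, hψ₁, hc₀R, hc₀U, hr1, hr2⟩ := exists_rank_one hM e he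
  set m := minVal p e with hm
  set a := (Nat.card C).factorization p with ha
  have hma : m ≤ a := minVal_le_factorization_card hne
  have hq : blockDefect p e = a - m := blockDefect_eq e
  have hpm0 : ((p : ℂ) ^ m) ≠ 0 := pow_ne_zero _ (Nat.cast_ne_zero.mpr hp.ne_zero)
  set δ : IrrCharacter C → ℂ := fun ζ => (charDegree (ζ : C → ℂ) : ℂ) / ((p : ℂ) ^ m) with hδ
  have hδR : ∀ ζ ∈ e, MemLocalRing M (δ ζ) := fun ζ hζ => memLocalRing_degree_div hM e hζ
  -- the integer `U_χ`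
  set U : IrrCharacter G → ℂ := fun χ =>
    ∑ ζ : IrrCharacter C, (if ζ ∈ e then (resMult C χ ζ : ℂ) * δ ζ else 0) with hU
  have hUR : ∀ χ : IrrCharacter G, MemLocalRing M (U χ) := by
    intro χ
    apply sum_memLocalRing
    intro ζ _
    split_ifs with hζ
    · exact memLocalRing_mul (memLocalRing_natCast _) (hδR ζ hζ)
    · exact memLocalRing_zero
  -- `c₀ U_χ` is a unit for `χ` of height zero
  have hUunit : ∀ χ : IrrCharacter G, χ ∈ B → blockHeight p B (χ : G → ℂ) = 0 →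
      ¬ MemLocalIdeal M (c₀ * U χ) := by
    intro χ hχ hχ0 hcon
    have crit := (induced_restriction_criterion hM C hind χ hψ₁).2 hχ hχ0
    apply crit
    have e3 := Blau.classInner_tildeFun_char (p := p) (resMult C χ) (res_eq_sum C χ) ψ₁
    have e4 : classInner (tildeFun p (fun h : C => (χ : G → ℂ) h)) (ψ₁ : C → ℂ) /
        (ψ₁ : C → ℂ) 1 - c₀ * U χ =
        ∑ ξ : IrrCharacter C, ((resMult C χ ξ : ℂ) * (tildeInt p ξ ψ₁ : ℂ) /
          (charDegree (ψ₁ : C → ℂ) : ℂ) -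
            c₀ * (if ξ ∈ e then (resMult C χ ξ : ℂ) * δ ξ else 0)) := by
      have : (fun h : C => (χ : G → ℂ) h) = resFun C (χ : G → ℂ) := rfl
      rw [this, e3, hU, irr_apply_one, Finset.sum_div, Finset.mul_sum, ← Finset.sum_sub_distrib]
    have e5 : MemLocalIdeal M (classInner (tildeFun p (fun h : C => (χ : G → ℂ) h))
        (ψ₁ : C → ℂ) / (ψ₁ : C → ℂ) 1 - c₀ * U χ) := by
      rw [e4]
      apply Blau.memLocalIdeal_finset_sum
      intro ξ _
      by_cases hξ : ξ ∈ e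
      · rw [if_pos hξ]
        have h5 : (resMult C χ ξ : ℂ) * (tildeInt p ξ ψ₁ : ℂ) / (charDegree (ψ₁ : C → ℂ) : ℂ) -
            c₀ * ((resMult C χ ξ : ℂ) * δ ξ) =
            (resMult C χ ξ : ℂ) * ((tildeInt p ξ ψ₁ : ℂ) / (charDegree (ψ₁ : C → ℂ) : ℂ) -
              c₀ * δ ξ) := by ring
        rw [h5]
        exact memLocalIdeal_mul_left (memLocalRing_natCast _) (hr1 ξ hξ)
      · rw [if_neg hξ]
        have hz0 : tildeInt p ξ ψ₁ = 0 := by
          rw [tildeInt_symm]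
          exact tildeInt_eq_zero hM he hψ₁ hξ
        rw [hz0]
        simp only [Int.cast_zero, mul_zero, zero_div, sub_zero]
        exact memLocalIdeal_zero hprime.one_notMem
    have := memLocalIdeal_add e5 hcon
    rwa [sub_add_cancel] at this
  have hUχ : ¬ MemLocalIdeal M (U ψ) := by
    intro h
    exact hUunit ψ hψ hψ0 (memLocalIdeal_mul_left hc₀R h)
  -- the congruence
  have hT : ∀ ζ ∈ e, ∀ ζ' ∈ e, MemLocalRing M ((tildeInt p ζ ζ' : ℂ) / ((p : ℂ) ^ m)) := by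
    intro ζ hζ ζ' hζ'
    have h1 := hr2 ζ hζ ζ' hζ'
    have h2 : MemLocalRing M (c₀ * δ ζ * δ ζ') :=
      memLocalRing_mul (memLocalRing_mul hc₀R (hδR ζ hζ)) (hδR ζ' hζ')
    have := memLocalRing_add (memLocalRing_of_memLocalIdeal h1) h2
    rwa [sub_add_cancel] at this
  have hpq : ((p : ℂ) ^ blockDefect p e) / ((p ^ a : ℕ) : ℂ) = 1 / ((p : ℂ) ^ m) := by
    have hpa : ((p ^ a : ℕ) : ℂ) = (p : ℂ) ^ (a - m) * (p : ℂ) ^ m := by
      rw [← pow_add, Nat.sub_add_cancel hma]; push_cast; ring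
    rw [hq, hpa]
    have : ((p : ℂ) ^ (a - m)) ≠ 0 := pow_ne_zero _ (Nat.cast_ne_zero.mpr hp.ne_zero)
    field_simp
  have hmain : MemLocalIdeal M (((p : ℂ) ^ blockDefect p e) *
      contrib p C e (((w : C) : G)) χ ψ - c₀ * U χ * U ψ) := by
    have e1 : ((p : ℂ) ^ blockDefect p e) * contrib p C e (((w : C) : G)) χ ψ - c₀ * U χ * U ψ =
        ∑ ζ : IrrCharacter C, ∑ ζ' : IrrCharacter C,
          (decCoeff C e w χ ζ * conj (decCoeff C e w ψ ζ') *
            ((tildeInt p ζ ζ' : ℂ) / ((p : ℂ) ^ m)) -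
          c₀ * (if ζ ∈ e then (resMult C χ ζ : ℂ) * δ ζ else 0) *
            (if ζ' ∈ e then (resMult C ψ ζ' : ℂ) * δ ζ' else 0)) := by
      rw [contrib_eq, ← ha]
      rw [show ((p : ℂ) ^ blockDefect p e) * ((∑ ζ : IrrCharacter C, ∑ ζ' : IrrCharacter C,
          decCoeff C e w χ ζ * conj (decCoeff C e w ψ ζ') * (tildeInt p ζ ζ' : ℂ)) /
          ((p ^ a : ℕ) : ℂ)) =
        (((p : ℂ) ^ blockDefect p e) / ((p ^ a : ℕ) : ℂ)) * (∑ ζ : IrrCharacter C,
          ∑ ζ' : IrrCharacter C,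
          decCoeff C e w χ ζ * conj (decCoeff C e w ψ ζ') * (tildeInt p ζ ζ' : ℂ)) by ring]
      rw [hpq, hU]
      simp only []
      rw [mul_assoc c₀, Finset.sum_mul_sum, Finset.mul_sum, Finset.mul_sum,
        ← Finset.sum_sub_distrib]
      apply Finset.sum_congr rfl
      intro ζ _
      rw [Finset.mul_sum, Finset.mul_sum, ← Finset.sum_sub_distrib]
      apply Finset.sum_congr rfl
      intro ζ' _
      ring
    rw [e1]
    apply Blau.memLocalIdeal_finset_sum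
    intro ζ _
    apply Blau.memLocalIdeal_finset_sum
    intro ζ' _
    unfold decCoeff
    by_cases hζ : ζ ∈ e
    · by_cases hζ' : ζ' ∈ e
      · rw [if_pos hζ, if_pos hζ', if_pos hζ, if_pos hζ']
        obtain ⟨hcR, hcI⟩ := centHom_local hM C ζ w hw
        have hw' : ∃ k : ℕ, w⁻¹ ^ (p ^ k) = 1 := by
          obtain ⟨k, hk⟩ := hw
          exact ⟨k, by rw [inv_pow, hk, inv_one]⟩
        obtain ⟨hcR', hcI'⟩ := centHom_local hM C ζ' w⁻¹ hw'
        rw [map_mul, Complex.conj_natCast, centHom_conj]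
        have e2 : (resMult C χ ζ : ℂ) * centHom C ζ w *
            ((resMult C ψ ζ' : ℂ) * centHom C ζ' w⁻¹) *
            ((tildeInt p ζ ζ' : ℂ) / ((p : ℂ) ^ m)) -
            c₀ * ((resMult C χ ζ : ℂ) * δ ζ) * ((resMult C ψ ζ' : ℂ) * δ ζ') =
            (resMult C χ ζ : ℂ) * (resMult C ψ ζ' : ℂ) *
              (((centHom C ζ w - 1) * centHom C ζ' w⁻¹ + (centHom C ζ' w⁻¹ - 1)) *
                ((tildeInt p ζ ζ' : ℂ) / ((p : ℂ) ^ m)) +
              ((tildeInt p ζ ζ' : ℂ) / ((p : ℂ) ^ m) - c₀ * δ ζ * δ ζ')) := by ring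
        rw [e2]
        apply memLocalIdeal_mul_left
          (memLocalRing_mul (memLocalRing_natCast _) (memLocalRing_natCast _))
        apply memLocalIdeal_add
        · apply memLocalIdeal_mul_right _ (hT ζ hζ ζ' hζ')
          exact memLocalIdeal_add (memLocalIdeal_mul_right hcI hcR') hcI'
        · exact hr2 ζ hζ ζ' hζ'
      · simp only [if_neg hζ', map_zero, mul_zero, zero_mul, sub_zero]
        exact memLocalIdeal_zero hprime.one_notMem
    · simp only [if_neg hζ, zero_mul, mul_zero, sub_zero]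
      exact memLocalIdeal_zero hprime.one_notMem
  have hprodR : MemLocalRing M (c₀ * U χ * U ψ) :=
    memLocalRing_mul (memLocalRing_mul hc₀R (hUR χ)) (hUR ψ)
  have hprodU : ¬ MemLocalIdeal M (c₀ * U χ * U ψ) :=
    not_memLocalIdeal_mul (memLocalRing_mul hc₀R (hUR χ)) (hUR ψ) (hUunit χ hχ hχ0) hUχ
  constructor
  · have := memLocalRing_add (memLocalRing_of_memLocalIdeal hmain) hprodR
    rwa [sub_add_cancel] at this
  · intro hcon
    apply hprodU
    have := memLocalIdeal_sub hcon hmain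
    rwa [sub_sub_cancel] at this

end unit

end Cfsg.Agent.Lib.Helper23.Subsec
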