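import Mathlib
import Cfsg.Agent.Lib.Helper23.SubsecC
import Cfsg.Agent.Lib.Lead.GalChar

/-!
helper23: the Galois norm argument for local units, and the cyclotomic lift of the contributions.
-/

set_option autoImplicit false
set_option linter.unusedSectionVars false

namespace Cfsg.Agent.Lib.Helper23.Subsec

open Cfsg Cfsg.Agent.CharLib Cfsg.Agent.Lib.Helper24 Cfsg.Agent.Lib.Helper6 Cfsg.Agent.Lib.Helper23
open scoped ComplexConjugate

universe u w

section norm

variable {M : Ideal AlgInt} {p : ℕ} [hpp : Fact p.Prime]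

theorem prod_memLocalRing [hp : M.IsPrime] {ι : Type*} (s : Finset ι) (f : ι → ℂ)
    (hf : ∀ i ∈ s, MemLocalRing M (f i)) : MemLocalRing M (∏ i ∈ s, f i) := by
  classical
  induction s using Finset.induction_on with
  | empty => rw [Finset.prod_empty]; exact memLocalRing_one
  | insert a s ha ih =>
    rw [Finset.prod_insert ha]
    exact memLocalRing_mul (hf a (Finset.mem_insert_self a s))
      (ih fun i hi => hf i (Finset.mem_insert_of_mem hi))

/-- For a nonzero algebraic integer `y` of a finite Galois extension `K/ℚ` such that all the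
conjugates of `y / p^j` are local integers at `M`, the sum of `|φ(σ y)/p^j|²` over the Galois group
is at least the order of the Galois group. -/
theorem card_gal_le_sum_norm_sq_local (hM : IsPModular p M) (K : Type w) [Field K] [Algebra ℚ K]
    [FiniteDimensional ℚ K] [IsGalois ℚ K] (φ : K →+* ℂ) (y : K) (hy : IsIntegral ℤ y)
    (hy0 : y ≠ 0) (j : ℕ)
    (hloc : ∀ σ : K ≃ₐ[ℚ] K, MemLocalRing M (φ (σ y) / (p : ℂ) ^ j)) :
    (Fintype.card (K ≃ₐ[ℚ] K) : ℝ) ≤ ∑ σ : K ≃ₐ[ℚ] K, ‖φ (σ y) / (p : ℂ) ^ j‖ ^ 2 := by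
  have hprime : M.IsPrime := isPrime_of_isPModular hM
  have hp : p.Prime := hpp.out
  have hpj0 : ((p : ℂ) ^ j) ≠ 0 := pow_ne_zero _ (Nat.cast_ne_zero.mpr hp.ne_zero)
  apply card_le_sum_sq_of_one_le_prod
  · intro σ
    rw [norm_pos_iff]
    intro h
    rw [div_eq_zero_iff] at h
    rcases h with h | h
    · have h1 : σ y = 0 := φ.injective (by rw [h, map_zero])
      exact hy0 ((map_eq_zero_iff σ σ.injective).mp h1)
    · exact hpj0 h
  · have hn := Algebra.norm_eq_prod_automorphisms ℚ y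
    have hint : IsIntegral ℤ (Algebra.norm ℚ y) := Algebra.isIntegral_norm ℚ hy
    obtain ⟨n, hn'⟩ := IsIntegrallyClosed.isIntegral_iff.mp hint
    have hn0 : Algebra.norm ℚ y ≠ 0 := Algebra.norm_ne_zero_iff.mpr hy0
    have hm0 : n ≠ 0 := by
      intro h
      rw [h] at hn'
      simp at hn'
      exact hn0 hn'.symm
    have h1 : ∏ σ : K ≃ₐ[ℚ] K, φ (σ y) = (n : ℂ) := by
      rw [← map_prod, ← hn, ← hn']
      simp
    set f := Fintype.card (K ≃ₐ[ℚ] K) with hf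
    have h2 : ∏ σ : K ≃ₐ[ℚ] K, (φ (σ y) / (p : ℂ) ^ j) = (n : ℂ) / ((p ^ (j * f) : ℕ) : ℂ) := by
      rw [Finset.prod_div_distrib, h1, Finset.prod_const, Finset.card_univ, ← hf]
      push_cast
      rw [← pow_mul]
    have h3 : MemLocalRing M ((n : ℂ) / ((p ^ (j * f) : ℕ) : ℂ)) := by
      rw [← h2]
      exact prod_memLocalRing _ _ (fun σ _ => hloc σ)
    have h4 : (p : ℤ) ^ (j * f) ∣ n := by
      have := (memLocalRing_intCast_div_natCast_iff hM (pow_pos hp.pos _).ne').mp h3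
      rw [Nat.Prime.factorization_pow hp] at this
      simpa using this
    have h5 : (p : ℤ) ^ (j * f) ≤ |n| := by
      have h6 : (p : ℤ) ^ (j * f) ∣ |n| := (dvd_abs _ _).mpr h4
      exact Int.le_of_dvd (abs_pos.mpr hm0) h6
    rw [← norm_prod, h2, norm_div]
    have h7 : ‖((p ^ (j * f) : ℕ) : ℂ)‖ = ((p : ℝ) ^ (j * f)) := by
      rw [Complex.norm_natCast]; push_cast; rfl
    have h8 : ‖(n : ℂ)‖ = |(n : ℝ)| := by
      rw [← Complex.ofReal_intCast, Complex.norm_real, Real.norm_eq_abs]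
    have hppos : (0 : ℝ) < (p : ℝ) ^ (j * f) := pow_pos (Nat.cast_pos.mpr hp.pos) _
    rw [h7, h8, le_div_iff₀ hppos, one_mul]
    have : ((p : ℤ) ^ (j * f) : ℝ) ≤ ((|n| : ℤ) : ℝ) := by exact_mod_cast h5
    simpa using this

end norm

section lift

variable {G : Type u} [Group G] [Fintype G] {p : ℕ} [hpp : Fact p.Prime]

theorem conj_eq_pow_of_pow_eq_one {c : ℂ} {N : ℕ} (hN : 0 < N) (hc : c ^ N = 1) (hnorm : ‖c‖ = 1) :
    conj c = c ^ (N - 1) := by
  have h0 : c ≠ 0 := by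
    intro h
    rw [h, norm_zero] at hnorm
    exact zero_ne_one hnorm
  have h1 : c * conj c = 1 := by
    rw [Complex.mul_conj, Complex.normSq_eq_norm_sq, hnorm]; norm_num
  have h2 : c * c ^ (N - 1) = 1 := by
    rw [← pow_succ', Nat.sub_add_cancel hN, hc]
  exact mul_left_cancel₀ h0 (h1.trans h2.symm)

/-- **Cyclotomic lift of the contributions**: an algebraic integer of the cyclotomic field whose
Galois conjugates are the contributions of the subsections `(z^k, e)`. -/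
theorem exists_lift (N : ℕ) [NeZero N] (K : Type w) [Field K] [Algebra ℚ K]
    [IsCyclotomicExtension {N} ℚ K] (φ : K →+* ℂ)
    (C : Subgroup G) [Fintype C] [Fintype (IrrCharacter C)] (e : Set (IrrCharacter C))
    [DecidablePred (· ∈ e)] (w : Subgroup.center C) (hwN : w ^ N = 1) (χ ψ : IrrCharacter G) :
    ∃ y : K, IsIntegral ℤ y ∧ ∀ σ : K ≃ₐ[ℚ] K,
      φ (σ y) = ((p ^ (Nat.card C).factorization p : ℕ) : ℂ) *
        contrib p C e ((((w ^ galExp N K σ : Subgroup.center C) : C) : G)) χ ψ := by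
  classical
  set ζK := IsCyclotomicExtension.zeta N ℚ K with hζKdef
  have hζ : IsPrimitiveRoot ζK N := IsCyclotomicExtension.zeta_spec N ℚ K
  have hζc : IsPrimitiveRoot (φ ζK) N := hζ.map_of_injective φ.injective
  have hNpos : 0 < N := NeZero.pos N
  have hcN : ∀ ξ : IrrCharacter C, centHom C ξ w ^ N = 1 := by
    intro ξ
    rw [← map_pow, hwN, map_one]
  have hex : ∀ ξ : IrrCharacter C, ∃ j, j < N ∧ (φ ζK) ^ j = centHom C ξ w :=
    fun ξ => hζc.eq_pow_of_pow_eq_one (hcN ξ)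
  choose j hj1 hj2 using hex
  set A : IrrCharacter C → IrrCharacter C → ℤ := fun ζ ζ' =>
    (if ζ ∈ e then (resMult C χ ζ : ℤ) else 0) * (if ζ' ∈ e then (resMult C ψ ζ' : ℤ) else 0) *
      tildeInt p ζ ζ' with hA
  refine ⟨∑ ζ : IrrCharacter C, ∑ ζ' : IrrCharacter C,
    ((A ζ ζ' : ℤ) : K) * (ζK ^ (j ζ) * (ζK ^ (j ζ')) ^ (N - 1)), ?_, ?_⟩
  · apply IsIntegral.sum
    intro ζ _
    apply IsIntegral.sum
    intro ζ' _
    apply IsIntegral.mul
    · exact isIntegral_algebraMap (R := ℤ) (A := K) (x := A ζ ζ') |> fun h => by simpa using h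
    · exact ((hζ.isIntegral hNpos).pow _).mul (((hζ.isIntegral hNpos).pow _).pow _)
  · intro σ
    set k := galExp N K σ with hk
    have hσζ : σ ζK = ζK ^ k := galExp_spec N K σ
    have hpa0 : ((p ^ (Nat.card C).factorization p : ℕ) : ℂ) ≠ 0 :=
      Nat.cast_ne_zero.mpr (pow_pos hpp.out.pos _).ne'
    rw [contrib_eq, mul_div_cancel₀ _ hpa0, map_sum, map_sum]
    apply Finset.sum_congr rfl
    intro ζ _
    rw [map_sum, map_sum]
    apply Finset.sum_congr rfl
    intro ζ' _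
    simp only [map_mul, map_pow, map_intCast, hσζ]
    have hck : ∀ ξ : IrrCharacter C, (φ ζK ^ k) ^ j ξ = centHom C ξ (w ^ k) := by
      intro ξ
      rw [← pow_mul, mul_comm, pow_mul, hj2, map_pow]
    rw [hck ζ, hck ζ']
    have hnorm : ‖centHom C ζ' (w ^ k)‖ = 1 := centHom_norm C ζ' (w ^ k)
    have hpow : centHom C ζ' (w ^ k) ^ N = 1 := by
      rw [← map_pow, ← pow_mul, mul_comm, pow_mul, hwN, one_pow, map_one]
    rw [← conj_eq_pow_of_pow_eq_one hNpos hpow hnorm]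
    unfold decCoeff
    rw [hA]
    simp only []
    by_cases hζe : ζ ∈ e
    · by_cases hζe' : ζ' ∈ e
      · rw [if_pos hζe, if_pos hζe', if_pos hζe, if_pos hζe', map_mul, Complex.conj_natCast]
        push_cast
        ring
      · rw [if_neg hζe', if_neg hζe']
        simp
    · rw [if_neg hζe, if_neg hζe]
      simp

end lift

section final

variable {G : Type u} [Group G] [Fintype G] {M : Ideal AlgInt} {p : ℕ} [hpp : Fact p.Prime]

theorem centralizer_pow_eq (z : G) (k : ℕ) (hk : k.Coprime (orderOf z)) :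
    Subgroup.centralizer ({z ^ k} : Set G) = Subgroup.centralizer ({z} : Set G) := by
  ext g
  rw [Subgroup.mem_centralizer_singleton_iff, Subgroup.mem_centralizer_singleton_iff]
  constructor
  · intro h
    obtain ⟨t, ht⟩ := exists_pow_eq_self_of_coprime hk
    have h1 : Commute g (z ^ k) := h
    have h2 : Commute g ((z ^ k) ^ t) := h1.pow_right t
    rw [ht] at h2
    exact h2
  · intro h
    have h1 : Commute g z := h
    exact h1.pow_right k

/-- **Broué-type inequality**: for a subsection `(z, b)` of `B`, the number `k₀(B)` of characters of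
height zero satisfies `k₀(B)² ≤ p^{2q} l(b)`, where `q` is the defect of `b`. -/
theorem heightZero_sq_le (hM : IsPModular p M) (z : G) (hz : ∃ k : ℕ, orderOf z = p ^ k)
    (B : Set (IrrCharacter G)) (hB : IsPBlock M B)
    (b : Set (IrrCharacter (Subgroup.centralizer ({z} : Set G))))
    (hind : IsInducedBlock M (Subgroup.centralizer ({z} : Set G)) b B)
    [Fintype (IrrCharacter G)] (B₀ : Finset (IrrCharacter G))
    (hB₀ : ∀ χ ∈ B₀, χ ∈ B ∧ blockHeight p B (χ : G → ℂ) = 0) :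
    ((B₀.card : ℝ)) ^ 2 ≤ (p : ℝ) ^ (2 * blockDefect p b) * (blockRank p b : ℝ) := by
  classical
  have hprime : M.IsPrime := isPrime_of_isPModular hM
  have hp : p.Prime := hpp.out
  set C := Subgroup.centralizer ({z} : Set G) with hCdef
  let _ : Fintype C := Fintype.ofFinite C
  let _ := fintypeIrr C
  obtain ⟨ψ₀, hb⟩ := hind.1
  subst hb
  set e := blockOf M (ψ₀ : C → ℂ) with he
  set N := Nat.card G with hN
  have : NeZero N := ⟨Nat.card_pos.ne'⟩
  obtain ⟨K, _, _, _, ⟨φ⟩⟩ := exists_cyclotomic_field N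
  have : FiniteDimensional ℚ K := IsCyclotomicExtension.finiteDimensional {N} ℚ K
  have : IsGalois ℚ K := IsCyclotomicExtension.isGalois {N} ℚ K
  -- the central element
  have hzC : z ∈ C := Subgroup.mem_centralizer_singleton_iff.mpr rfl
  set zC : C := ⟨z, hzC⟩ with hzCdef
  have hcen : zC ∈ Subgroup.center C := by
    rw [Subgroup.mem_center_iff]
    intro g
    apply Subtype.ext
    have := Subgroup.mem_centralizer_singleton_iff.mp g.2
    exact this
  set w : Subgroup.center C := ⟨zC, hcen⟩ with hw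
  have hwcoe : ∀ k : ℕ, ((((w ^ k : Subgroup.center C) : C) : G)) = z ^ k := by
    intro k
    simp [hw, hzCdef]
  have hwN : w ^ N = 1 := by
    apply Subtype.ext
    apply Subtype.ext
    rw [hwcoe]
    simp only [OneMemClass.coe_one]
    rw [hN]
    exact pow_card_eq_one'
  obtain ⟨k₀, hk₀⟩ := hz
  have hwp : ∀ k : ℕ, ∃ j : ℕ, (w ^ k) ^ (p ^ j) = 1 := by
    intro k
    refine ⟨k₀, ?_⟩
    apply Subtype.ext
    apply Subtype.ext
    rw [← pow_mul, hwcoe]
    simp only [OneMemClass.coe_one]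
    rw [mul_comm, pow_mul, ← hk₀, pow_orderOf_eq_one, one_pow]
  set Bf := Finset.univ.filter (fun χ : IrrCharacter G => χ ∈ B) with hBf
  have hsub : B₀ ⊆ Bf := by
    intro χ hχ
    rw [hBf, Finset.mem_filter]
    exact ⟨Finset.mem_univ _, (hB₀ χ hχ).1⟩
  set q := blockDefect p e with hq
  set m := minVal p e with hm
  set a := (Nat.card C).factorization p with ha
  have hne : e.Nonempty := ⟨ψ₀, mem_blockOf_self ψ₀⟩
  have hma : m ≤ a := minVal_le_factorization_card hne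
  have hqam : q = a - m := blockDefect_eq e
  set F : (K ≃ₐ[ℚ] K) → IrrCharacter G → IrrCharacter G → ℝ := fun σ χ ψ =>
    ‖(p : ℂ) ^ q * contrib p C e (z ^ galExp N K σ) χ ψ‖ ^ 2 with hF
  set f := Fintype.card (K ≃ₐ[ℚ] K) with hf
  have hfpos : 0 < f := Fintype.card_pos
  -- lower bound for each pair of height zero characters
  have hlow : ∀ χ ∈ B₀, ∀ ψ ∈ B₀, (f : ℝ) ≤ ∑ σ : K ≃ₐ[ℚ] K, F σ χ ψ := by
    intro χ hχ ψ hψ
    obtain ⟨y, hyint, hyσ⟩ := exists_lift (p := p) N K φ C e w hwN χ ψ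
    have hval : ∀ σ : K ≃ₐ[ℚ] K, φ (σ y) / (p : ℂ) ^ m =
        (p : ℂ) ^ q * contrib p C e (z ^ galExp N K σ) χ ψ := by
      intro σ
      rw [hyσ σ, hwcoe, ← ha]
      have hpm0 : ((p : ℂ) ^ m) ≠ 0 := pow_ne_zero _ (Nat.cast_ne_zero.mpr hp.ne_zero)
      have hpa : ((p ^ a : ℕ) : ℂ) = (p : ℂ) ^ q * (p : ℂ) ^ m := by
        rw [hqam, ← pow_add, Nat.sub_add_cancel hma]; push_cast; ring
      rw [hpa]
      field_simp
    have hunit : ∀ σ : K ≃ₐ[ℚ] K,
        MemLocalRing M ((p : ℂ) ^ q * contrib p C e (z ^ galExp N K σ) χ ψ) ∧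
        ¬ MemLocalIdeal M ((p : ℂ) ^ q * contrib p C e (z ^ galExp N K σ) χ ψ) := by
      intro σ
      have := contrib_unit hM C e B hind (w ^ galExp N K σ) (hwp _) χ ψ (hB₀ χ hχ).1 (hB₀ χ hχ).2
        (hB₀ ψ hψ).1 (hB₀ ψ hψ).2
      rw [hwcoe] at this
      exact this
    have hy0 : y ≠ 0 := by
      intro h0
      have h1 := hval AlgEquiv.refl
      rw [h0] at h1
      simp only [map_zero, zero_div] at h1
      apply (hunit AlgEquiv.refl).2
      rw [← h1]
      exact memLocalIdeal_zero hprime.one_notMem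
    have h2 := card_gal_le_sum_norm_sq_local hM K φ y hyint hy0 m (fun σ => by
      rw [hval σ]; exact (hunit σ).1)
    refine le_trans h2 (le_of_eq ?_)
    apply Finset.sum_congr rfl
    intro σ _
    rw [hval σ]
  -- upper bound from the trace identity
  have hup : ∀ σ : K ≃ₐ[ℚ] K, ∑ χ ∈ Bf, ∑ ψ ∈ Bf, F σ χ ψ =
      (p : ℝ) ^ (2 * q) * (blockRank p e : ℝ) := by
    intro σ
    set k := galExp N K σ with hk
    have hcop : k.Coprime (orderOf z) :=
      Nat.Coprime.coprime_dvd_right (orderOf_dvd_natCard z) (galExp_coprime N K σ)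
    have hzk : ∃ j : ℕ, orderOf (z ^ k) = p ^ j := by
      have h1 : orderOf (z ^ k) ∣ p ^ k₀ := by rw [← hk₀]; exact orderOf_pow_dvd k
      obtain ⟨j, -, hj⟩ := (Nat.dvd_prime_pow hp).mp h1
      exact ⟨j, hj⟩
    have hCk : C = Subgroup.centralizer ({z ^ k} : Set G) := (centralizer_pow_eq z k hcop).symm
    have htr := trace_identity hM (z ^ k) hzk C hCk B hB ψ₀ hind
    have h1 : ∀ χ ψ : IrrCharacter G, ((F σ χ ψ : ℝ) : ℂ) =
        ((p : ℂ) ^ (2 * q)) * (contrib p C e (z ^ k) χ ψ * conj (contrib p C e (z ^ k) χ ψ)) := by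
      intro χ ψ
      rw [hF]
      simp only []
      rw [Complex.mul_conj, Complex.normSq_eq_norm_sq, norm_mul, norm_pow, Complex.norm_natCast]
      push_cast
      ring
    have h2 : ((∑ χ ∈ Bf, ∑ ψ ∈ Bf, F σ χ ψ : ℝ) : ℂ) =
        (((p : ℝ) ^ (2 * q) * (blockRank p e : ℝ) : ℝ) : ℂ) := by
      push_cast
      simp_rw [h1]
      simp_rw [← Finset.mul_sum]
      rw [htr]
    exact_mod_cast h2
  -- combine
  have h1 : (B₀.card : ℝ) ^ 2 * (f : ℝ) ≤ ∑ χ ∈ B₀, ∑ ψ ∈ B₀, ∑ σ : K ≃ₐ[ℚ] K, F σ χ ψ := by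
    have : (B₀.card : ℝ) ^ 2 * (f : ℝ) = ∑ χ ∈ B₀, ∑ ψ ∈ B₀, (f : ℝ) := by
      simp only [Finset.sum_const, nsmul_eq_mul]
      ring
    rw [this]
    apply Finset.sum_le_sum
    intro χ hχ
    apply Finset.sum_le_sum
    intro ψ hψ
    exact hlow χ hχ ψ hψ
  have hFnn : ∀ σ χ ψ, 0 ≤ F σ χ ψ := fun σ χ ψ => by rw [hF]; positivity
  have h2 : ∑ χ ∈ B₀, ∑ ψ ∈ B₀, ∑ σ : K ≃ₐ[ℚ] K, F σ χ ψ ≤
      ∑ χ ∈ Bf, ∑ ψ ∈ Bf, ∑ σ : K ≃ₐ[ℚ] K, F σ χ ψ := by
    apply le_trans (Finset.sum_le_sum (fun χ _ => Finset.sum_le_sum_of_subset_of_nonneg hsub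
      (fun ψ _ _ => Finset.sum_nonneg (fun σ _ => hFnn σ χ ψ))))
    apply Finset.sum_le_sum_of_subset_of_nonneg hsub
    intro χ _ _
    exact Finset.sum_nonneg (fun ψ _ => Finset.sum_nonneg (fun σ _ => hFnn σ χ ψ))
  have h3 : ∑ χ ∈ Bf, ∑ ψ ∈ Bf, ∑ σ : K ≃ₐ[ℚ] K, F σ χ ψ =
      (f : ℝ) * ((p : ℝ) ^ (2 * q) * (blockRank p e : ℝ)) := by
    have : ∑ χ ∈ Bf, ∑ ψ ∈ Bf, ∑ σ : K ≃ₐ[ℚ] K, F σ χ ψ =
        ∑ σ : K ≃ₐ[ℚ] K, ∑ χ ∈ Bf, ∑ ψ ∈ Bf, F σ χ ψ := by
      calc ∑ χ ∈ Bf, ∑ ψ ∈ Bf, ∑ σ : K ≃ₐ[ℚ] K, F σ χ ψ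
          = ∑ χ ∈ Bf, ∑ σ : K ≃ₐ[ℚ] K, ∑ ψ ∈ Bf, F σ χ ψ :=
            Finset.sum_congr rfl (fun χ _ => Finset.sum_comm)
        _ = ∑ σ : K ≃ₐ[ℚ] K, ∑ χ ∈ Bf, ∑ ψ ∈ Bf, F σ χ ψ := Finset.sum_comm
    rw [this, Finset.sum_congr rfl (fun σ _ => hup σ)]
    simp only [Finset.sum_const, Finset.card_univ, nsmul_eq_mul]
    rw [← hf]
  have h4 : (B₀.card : ℝ) ^ 2 * (f : ℝ) ≤ (f : ℝ) * ((p : ℝ) ^ (2 * q) * (blockRank p e : ℝ)) :=
    le_trans h1 (le_trans h2 (le_of_eq h3))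
  have hfpos' : (0 : ℝ) < (f : ℝ) := by exact_mod_cast hfpos
  rw [mul_comm] at h4
  exact le_of_mul_le_mul_left h4 hfpos'

end final

end Cfsg.Agent.Lib.Helper23.Subsec
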