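import Mathlib
import Cfsg.Agent.Lib.Helper23.SubsecA

/-!
helper23: the matrix of contributions of a subsection is hermitian and idempotent, with trace
`l(e)`.
-/

set_option autoImplicit false
set_option linter.unusedSectionVars false

namespace Cfsg.Agent.Lib.Helper23.Subsec

open Cfsg Cfsg.Agent.CharLib Cfsg.Agent.Lib.Helper24 Cfsg.Agent.Lib.Helper6
open scoped ComplexConjugate

universe u

section idem

variable {G : Type u} [Group G] [Fintype G] {M : Ideal AlgInt} {p : ℕ} [hpp : Fact p.Prime]

theorem contrib_conj (C : Subgroup G) [Fintype C] (e : Set (IrrCharacter C)) (z : G)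
    (χ ψ : IrrCharacter G) : conj (contrib p C e z χ ψ) = contrib p C e z ψ χ := by
  unfold contrib
  rw [map_mul, map_inv₀, Complex.conj_natCast, map_sum]
  congr 1
  apply Finset.sum_congr rfl
  intro s _
  split_ifs
  · rw [map_zero]
  · rw [map_mul, Complex.conj_conj, mul_comm]

/-- Reproducing property of the kernel on functions in the span of `e`. -/
theorem sum_mul_kerFun {C : Type u} [Group C] [Fintype C] (hM : IsPModular p M)
    (e : Set (IrrCharacter C)) (he : IsPBlock M e) (ϑ : C → ℂ) (t : C) (ht : ¬ p ∣ orderOf t) :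
    ∑ s : C, (if p ∣ orderOf s then 0 else blockPart e ϑ s * kerFun e t s) =
      (Nat.card C : ℂ) * blockPart e ϑ t := by
  classical
  let _ : Fintype (IrrCharacter C) := Fintype.ofFinite _
  have h1 : ∀ s : C, (if p ∣ orderOf s then 0 else blockPart e ϑ s * kerFun e t s) =
      blockPart e ϑ s * kerFun e t s := by
    intro s
    split_ifs with hs
    · have h0 : kerFun e t s = 0 := Cfsg.Agent.S0907.result p M hM e he t s ht hs
      rw [h0, mul_zero]
    · rfl
  simp_rw [h1]
  have h2 : ∀ s : C, blockPart e ϑ s * kerFun e t s =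
      ∑ ζ : IrrCharacter C, ∑ ζ' : IrrCharacter C,
        (if ζ ∈ e then (if ζ' ∈ e then
          classInner ϑ (ζ : C → ℂ) * (ζ' : C → ℂ) t *
            ((ζ : C → ℂ) s * conj ((ζ' : C → ℂ) s)) else 0) else 0) := by
    intro s
    unfold kerFun
    rw [blockPart_apply, finsum_mem_eq_sum_ite, finsum_mem_eq_sum_ite, Finset.sum_mul_sum]
    apply Finset.sum_congr rfl
    intro ζ _
    apply Finset.sum_congr rfl
    intro ζ' _
    by_cases h : ζ ∈ e
    · by_cases h' : ζ' ∈ e
      · rw [if_pos h, if_pos h', if_pos h, if_pos h']; ring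
      · rw [if_pos h, if_neg h', if_pos h, if_neg h', mul_zero]
    · rw [if_neg h, if_neg h, zero_mul]
  simp_rw [h2]
  rw [Finset.sum_comm]
  have h3 : ∀ ζ : IrrCharacter C, ∑ s : C, ∑ ζ' : IrrCharacter C,
      (if ζ ∈ e then (if ζ' ∈ e then
          classInner ϑ (ζ : C → ℂ) * (ζ' : C → ℂ) t *
            ((ζ : C → ℂ) s * conj ((ζ' : C → ℂ) s)) else 0) else 0) =
      (Nat.card C : ℂ) * (if ζ ∈ e then classInner ϑ (ζ : C → ℂ) * (ζ : C → ℂ) t else 0) := by
    intro ζ
    by_cases h : ζ ∈ e
    · simp only [if_pos h]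
      rw [Finset.sum_comm]
      rw [Finset.sum_eq_single ζ]
      · simp only [if_pos h]
        rw [← Finset.mul_sum]
        have horth : ∑ s : C, (ζ : C → ℂ) s * conj ((ζ : C → ℂ) s) = (Nat.card C : ℂ) := by
          have := classInner_irr' ζ ζ
          rw [if_pos rfl] at this
          unfold classInner at this
          have hC0 : (Nat.card C : ℂ) ≠ 0 := Nat.cast_ne_zero.mpr Nat.card_pos.ne'
          field_simp at this
          rw [this]
        rw [horth]; ring
      · intro ζ' _ hne
        by_cases h' : ζ' ∈ e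
        · simp only [if_pos h']
          rw [← Finset.mul_sum]
          have horth : ∑ s : C, (ζ : C → ℂ) s * conj ((ζ' : C → ℂ) s) = 0 := by
            have := classInner_irr' ζ ζ'
            rw [if_neg (Ne.symm hne)] at this
            unfold classInner at this
            have hC0 : (Nat.card C : ℂ) ≠ 0 := Nat.cast_ne_zero.mpr Nat.card_pos.ne'
            rcases mul_eq_zero.mp this with h0 | h0
            · exact absurd (inv_eq_zero.mp h0) hC0
            · exact h0
          rw [horth, mul_zero]
        · simp only [if_neg h']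
          exact Finset.sum_const_zero
      · intro h0; exact absurd (Finset.mem_univ _) h0
    · simp only [if_neg h, Finset.sum_const_zero, mul_zero]
  rw [Finset.sum_congr rfl (fun ζ _ => h3 ζ), ← Finset.mul_sum]
  congr 1
  rw [blockPart_apply, finsum_mem_eq_sum_ite]

/-- **The matrix of contributions is idempotent.** -/
theorem contrib_idem (hM : IsPModular p M) (z : G) (hz : ∃ k : ℕ, orderOf z = p ^ k)
    (C : Subgroup G) [Fintype C] (hC : C = Subgroup.centralizer ({z} : Set G))
    (B : Set (IrrCharacter G)) (hB : IsPBlock M B) (ψ₀ : IrrCharacter C)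
    (hind : IsInducedBlock M C (blockOf M (ψ₀ : C → ℂ)) B) [Fintype (IrrCharacter G)]
    [DecidablePred (· ∈ B)] (χ η : IrrCharacter G) :
    ∑ ψ ∈ Finset.univ.filter (· ∈ B),
      contrib p C (blockOf M (ψ₀ : C → ℂ)) z χ ψ * contrib p C (blockOf M (ψ₀ : C → ℂ)) z ψ η =
      contrib p C (blockOf M (ψ₀ : C → ℂ)) z χ η := by
  classical
  set e := blockOf M (ψ₀ : C → ℂ) with he
  set Bf := Finset.univ.filter (fun χ : IrrCharacter G => χ ∈ B) with hBf
  have he' : IsPBlock M e := ⟨ψ₀, rfl⟩
  set c : ℂ := (Nat.card C : ℂ) with hc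
  have hc0 : c ≠ 0 := Nat.cast_ne_zero.mpr Nat.card_pos.ne'
  set D := fun (χ : IrrCharacter G) (s : C) => decFun C e z χ s with hD
  have hsec : ∀ s t : C, ¬ p ∣ orderOf s → ¬ p ∣ orderOf t →
      ∑ χ ∈ Bf, D χ s * conj (D χ t) = kerFun e s t := by
    intro s t hs ht
    have h1 := sum_block_section hM z hz C hC B hB ψ₀ hind s hs t ht
    rw [finsum_mem_eq_sum_ite, ← Finset.sum_filter] at h1
    exact h1
  have hprod : ∀ ψ : IrrCharacter G,
      contrib p C e z χ ψ * contrib p C e z ψ η =
        c⁻¹ * c⁻¹ * ∑ t : C, ∑ s : C,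
          (if p ∣ orderOf t then 0 else if p ∣ orderOf s then 0 else
            (D χ s * conj (D η t)) * (D ψ t * conj (D ψ s))) := by
    intro ψ
    unfold contrib
    rw [show (Nat.card C : ℂ)⁻¹ * (∑ s : C, if p ∣ orderOf s then 0 else
        decFun C e z χ s * conj (decFun C e z ψ s)) *
        ((Nat.card C : ℂ)⁻¹ * ∑ t : C, (if p ∣ orderOf t then 0 else
          decFun C e z ψ t * conj (decFun C e z η t))) =
      c⁻¹ * c⁻¹ * ((∑ t : C, (if p ∣ orderOf t then 0 else
          decFun C e z ψ t * conj (decFun C e z η t))) *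
        (∑ s : C, if p ∣ orderOf s then 0 else
        decFun C e z χ s * conj (decFun C e z ψ s))) by ring]
    rw [Finset.sum_mul_sum]
    congr 1
    apply Finset.sum_congr rfl
    intro t _
    apply Finset.sum_congr rfl
    intro s _
    by_cases ht : p ∣ orderOf t
    · rw [if_pos ht, if_pos ht, zero_mul]
    · rw [if_neg ht, if_neg ht]
      by_cases hs : p ∣ orderOf s
      · rw [if_pos hs, if_pos hs, mul_zero]
      · rw [if_neg hs, if_neg hs]
        ring
  simp_rw [hprod]
  rw [← Finset.mul_sum]
  have hswap : ∑ ψ ∈ Bf, ∑ t : C, ∑ s : C,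
      (if p ∣ orderOf t then 0 else if p ∣ orderOf s then 0 else
        (D χ s * conj (D η t)) * (D ψ t * conj (D ψ s))) =
      ∑ t : C, ∑ s : C, (if p ∣ orderOf t then 0 else if p ∣ orderOf s then 0 else
        (D χ s * conj (D η t)) * kerFun e t s) := by
    rw [Finset.sum_comm]
    apply Finset.sum_congr rfl
    intro t _
    rw [Finset.sum_comm]
    apply Finset.sum_congr rfl
    intro s _
    by_cases ht : p ∣ orderOf t
    · simp only [if_pos ht, Finset.sum_const_zero]
    · simp only [if_neg ht]
      by_cases hs : p ∣ orderOf s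
      · simp only [if_pos hs, Finset.sum_const_zero]
      · simp only [if_neg hs]
        rw [← hsec t s ht hs, Finset.mul_sum]
  rw [hswap]
  have hinner : ∀ t : C, ∑ s : C, (if p ∣ orderOf t then 0 else if p ∣ orderOf s then 0 else
        (D χ s * conj (D η t)) * kerFun e t s) =
      if p ∣ orderOf t then 0 else c * (D χ t * conj (D η t)) := by
    intro t
    by_cases ht : p ∣ orderOf t
    · simp only [if_pos ht, Finset.sum_const_zero]
    · simp only [if_neg ht]
      have h1 := sum_mul_kerFun hM e he' (fun c : C => (χ : G → ℂ) (z * (c : G))) t ht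
      have h2 : ∑ s : C, (if p ∣ orderOf s then 0 else (D χ s * conj (D η t)) * kerFun e t s) =
          conj (D η t) * ∑ s : C, (if p ∣ orderOf s then 0 else
            blockPart e (fun c : C => (χ : G → ℂ) (z * (c : G))) s * kerFun e t s) := by
        rw [Finset.mul_sum]
        apply Finset.sum_congr rfl
        intro s _
        split_ifs
        · rw [mul_zero]
        · rw [hD]
          simp only [decFun]
          ring
      rw [h2, h1, hD]
      simp only [decFun]
      ring
  rw [Finset.sum_congr rfl (fun t _ => hinner t)]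
  unfold contrib
  rw [← hc]
  have hfin : ∑ t : C, (if p ∣ orderOf t then 0 else c * (D χ t * conj (D η t))) =
      c * ∑ t : C, (if p ∣ orderOf t then 0 else D χ t * conj (D η t)) := by
    rw [Finset.mul_sum]
    apply Finset.sum_congr rfl
    intro t _
    split_ifs
    · rw [mul_zero]
    · rfl
  rw [hfin]
  field_simp
  rfl

/-- The diagonal contributions are the sums of the squared norms of the rows. -/
theorem sum_contrib_normSq (hM : IsPModular p M) (z : G) (hz : ∃ k : ℕ, orderOf z = p ^ k)
    (C : Subgroup G) [Fintype C] (hC : C = Subgroup.centralizer ({z} : Set G))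
    (B : Set (IrrCharacter G)) (hB : IsPBlock M B) (ψ₀ : IrrCharacter C)
    (hind : IsInducedBlock M C (blockOf M (ψ₀ : C → ℂ)) B) [Fintype (IrrCharacter G)]
    [DecidablePred (· ∈ B)] (χ : IrrCharacter G) :
    ((∑ ψ ∈ Finset.univ.filter (· ∈ B),
      ‖contrib p C (blockOf M (ψ₀ : C → ℂ)) z χ ψ‖ ^ 2 : ℝ) : ℂ) =
      contrib p C (blockOf M (ψ₀ : C → ℂ)) z χ χ := by
  rw [← contrib_idem hM z hz C hC B hB ψ₀ hind χ χ]
  push_cast
  apply Finset.sum_congr rfl
  intro ψ _
  rw [← contrib_conj C _ z χ ψ, Complex.mul_conj, Complex.normSq_eq_norm_sq]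
  push_cast
  rfl

/-- The trace of the matrix of contributions. -/
theorem sum_contrib_diag (hM : IsPModular p M) (z : G) (hz : ∃ k : ℕ, orderOf z = p ^ k)
    (C : Subgroup G) [Fintype C] (hC : C = Subgroup.centralizer ({z} : Set G))
    (B : Set (IrrCharacter G)) (hB : IsPBlock M B) (ψ₀ : IrrCharacter C)
    (hind : IsInducedBlock M C (blockOf M (ψ₀ : C → ℂ)) B) [Fintype (IrrCharacter G)]
    [DecidablePred (· ∈ B)] :
    ∑ χ ∈ Finset.univ.filter (· ∈ B), contrib p C (blockOf M (ψ₀ : C → ℂ)) z χ χ =
      (blockRank p (blockOf M (ψ₀ : C → ℂ)) : ℂ) := by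
  rw [← trace_identity hM z hz C hC B hB ψ₀ hind]
  apply Finset.sum_congr rfl
  intro χ _
  rw [← contrib_idem hM z hz C hC B hB ψ₀ hind χ χ]
  apply Finset.sum_congr rfl
  intro ψ _
  rw [contrib_conj]

end idem

end Cfsg.Agent.Lib.Helper23.Subsec
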