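import Mathlib

/-!
helper23: sums of powers of a `2`-power root of unity over the units of `ZMod N`.
-/

set_option autoImplicit false

namespace Cfsg.Agent.Lib.Helper23.Subsec

theorem pow_mod_of_pow_eq_one {ε : ℂ} {N : ℕ} (hεN : ε ^ N = 1) (x : ℕ) : ε ^ (x % N) = ε ^ x := by
  conv_rhs => rw [← Nat.div_add_mod x N, pow_add, pow_mul, hεN, one_pow, one_mul]

/-- The value `1`, `-1`, `0` attached to a `2`-power root of unity. -/
noncomputable def rVal (ε : ℂ) : ℤ := by
  classical
  exact if ε = 1 then 1 else if ε = -1 then -1 else 0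

theorem rVal_conj (ε : ℂ) : rVal ((starRingEnd ℂ) ε) = rVal ε := by
  classical
  unfold rVal
  have h1 : (starRingEnd ℂ) ε = 1 ↔ ε = 1 := by
    constructor
    · intro h
      have := congrArg (starRingEnd ℂ) h
      simpa using this
    · intro h; rw [h, map_one]
  have h2 : (starRingEnd ℂ) ε = -1 ↔ ε = -1 := by
    constructor
    · intro h
      have := congrArg (starRingEnd ℂ) h
      simpa using this
    · intro h; rw [h, map_neg, map_one]
  simp only [h1, h2]

theorem rVal_one : rVal 1 = 1 := by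
  classical
  unfold rVal
  simp

/-- **Ramanujan-type sum** for a `2`-power root of unity. -/
theorem sum_units_pow_two (N : ℕ) [NeZero N] (ε : ℂ) (hεN : ε ^ N = 1)
    (hε2 : ∃ t : ℕ, ε ^ (2 ^ t) = 1) :
    ∑ u : (ZMod N)ˣ, ε ^ ((u : ZMod N).val) = (Fintype.card (ZMod N)ˣ : ℂ) * (rVal ε : ℂ) := by
  classical
  unfold rVal
  by_cases h1 : ε = 1
  · rw [if_pos h1, h1]
    simp
  rw [if_neg h1]
  -- `N` is even
  have hNeven : Even N := by
    by_contra hodd
    rw [Nat.not_even_iff_odd] at hodd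
    obtain ⟨t, ht⟩ := hε2
    have h2 := pow_gcd_eq_one.mpr ⟨ht, hεN⟩
    have h3 : Nat.gcd (2 ^ t) N = 1 := by
      apply Nat.Coprime.pow_left
      exact Nat.coprime_two_left.mpr hodd
    rw [h3, pow_one] at h2
    exact h1 h2
  have hodd : ∀ u : (ZMod N)ˣ, Odd ((u : ZMod N).val) := by
    intro u
    have hc := ZMod.val_coe_unit_coprime u
    by_contra hev
    rw [Nat.not_odd_iff_even] at hev
    have h2 : 2 ∣ Nat.gcd ((u : ZMod N).val) N :=
      Nat.dvd_gcd hev.two_dvd hNeven.two_dvd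
    rw [hc] at h2
    omega
  by_cases h2 : ε = -1
  · rw [if_pos h2, h2]
    have : ∀ u : (ZMod N)ˣ, (-1 : ℂ) ^ ((u : ZMod N).val) = -1 := fun u => (hodd u).neg_one_pow
    simp_rw [this]
    simp
  rw [if_neg h2]
  simp only [Int.cast_zero, mul_zero]
  -- minimal `t`
  have ht := Nat.find_spec hε2
  set t := Nat.find hε2 with htdef
  have ht0 : t ≠ 0 := by
    intro h0
    rw [h0, pow_zero, pow_one] at ht
    exact h1 ht
  have ht1 : t ≠ 1 := by
    intro h0
    rw [h0, pow_one] at ht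
    have : (ε - 1) * (ε + 1) = 0 := by ring_nf; rw [ht]; ring
    rcases mul_eq_zero.mp this with h | h
    · exact h1 (sub_eq_zero.mp h)
    · exact h2 (eq_neg_of_add_eq_zero_left h)
  obtain ⟨s, hs⟩ : ∃ s, t = s + 1 := ⟨t - 1, by omega⟩
  have hs1 : 1 ≤ s := by omega
  have hεs : ε ^ (2 ^ s) = -1 := by
    have hne : ε ^ (2 ^ s) ≠ 1 := by
      have := Nat.find_min hε2 (m := s) (by omega)
      exact this
    have hsq : (ε ^ (2 ^ s) - 1) * (ε ^ (2 ^ s) + 1) = 0 := by
      have : ε ^ (2 ^ s) * ε ^ (2 ^ s) = 1 := by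
        rw [← pow_add, ← two_mul, ← pow_succ', ← hs]; exact ht
      ring_nf
      rw [show ε ^ (2 ^ s * 2) = ε ^ (2 ^ s) * ε ^ (2 ^ s) by rw [← pow_add]; ring_nf, this]
      ring
    rcases mul_eq_zero.mp hsq with h | h
    · exact absurd (sub_eq_zero.mp h) hne
    · exact eq_neg_of_add_eq_zero_left h
  -- the odd part of `N`
  set a := N.factorization 2 with ha
  set N' := N / 2 ^ a with hN'
  have hNN' : 2 ^ a * N' = N := Nat.ordProj_mul_ordCompl_eq_self N 2
  have hN'odd : Odd N' := by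
    have : ¬ 2 ∣ N' := Nat.not_dvd_ordCompl Nat.prime_two (NeZero.ne N)
    exact Nat.odd_iff.mpr (Nat.two_dvd_ne_zero.mp this)
  set g' := 1 + 2 ^ s * N' with hg'
  have hg'odd : Odd g' := by
    rw [hg']
    have : Even (2 ^ s * N') := by
      apply Even.mul_right
      exact (Nat.even_pow' (by omega)).mpr even_two
    exact Even.one_add this
  have hcop : Nat.Coprime g' N := by
    rw [← hNN']
    apply Nat.Coprime.mul_right
    · apply Nat.Coprime.pow_right
      exact Nat.coprime_two_right.mpr hg'odd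
    · rw [hg']
      rw [Nat.coprime_add_mul_right_left]
      exact Nat.coprime_one_left N'
  set g : (ZMod N)ˣ := ZMod.unitOfCoprime g' hcop with hg
  have hkey : ∀ u : (ZMod N)ˣ, ε ^ (((u * g : (ZMod N)ˣ) : ZMod N).val) =
      - ε ^ ((u : ZMod N).val) := by
    intro u
    have h3 : ((u * g : (ZMod N)ˣ) : ZMod N) = (((u : ZMod N).val * g' : ℕ) : ZMod N) := by
      rw [Units.val_mul, hg, ZMod.coe_unitOfCoprime]
      push_cast
      rw [ZMod.natCast_zmod_val]
    rw [h3, ZMod.val_natCast, pow_mod_of_pow_eq_one hεN, hg', mul_add, mul_one, pow_add]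
    have h4 : ε ^ ((u : ZMod N).val * (2 ^ s * N')) = -1 := by
      rw [show (u : ZMod N).val * (2 ^ s * N') = 2 ^ s * ((u : ZMod N).val * N') by ring,
        pow_mul, hεs]
      exact (Odd.mul (hodd u) hN'odd).neg_one_pow
    rw [h4]
    ring
  have hsum : ∑ u : (ZMod N)ˣ, ε ^ ((u : ZMod N).val) =
      ∑ u : (ZMod N)ˣ, ε ^ (((u * g : (ZMod N)ˣ) : ZMod N).val) :=
    (Equiv.sum_comp (Equiv.mulRight g) (fun u : (ZMod N)ˣ => ε ^ ((u : ZMod N).val))).symm
  simp_rw [hkey] at hsum
  rw [Finset.sum_neg_distrib] at hsum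
  have : (2 : ℂ) * ∑ u : (ZMod N)ˣ, ε ^ ((u : ZMod N).val) = 0 := by linear_combination hsum
  rcases mul_eq_zero.mp this with h | h
  · norm_num at h
  · exact h

end Cfsg.Agent.Lib.Helper23.Subsec
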