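import Mathlib
import Cfsg.Agent.Lib.Helper23.SubsecD
import Cfsg.Agent.Lib.Helper23.SubsecE
import Cfsg.Agent.Lib.Helper23.SubsecF

/-!
helper23: for `p = 2`, the Galois trace of a diagonal contribution `2^q μ_{χχ}` of a height zero
character is an odd multiple of the order of the Galois group.
-/

set_option autoImplicit false
set_option linter.unusedSectionVars false

namespace Cfsg.Agent.Lib.Helper23.Subsec

open Cfsg Cfsg.Agent.CharLib Cfsg.Agent.Lib.Helper24 Cfsg.Agent.Lib.Helper6 Cfsg.Agent.Lib.Helper23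
open scoped ComplexConjugate

universe u w

section galsum

variable (N : ℕ) [NeZero N] (K : Type w) [Field K] [Algebra ℚ K] [IsCyclotomicExtension {N} ℚ K]

/-- Sums over the Galois group of a cyclotomic field in terms of the units of `ZMod N`. -/
theorem sum_gal_eq_sum_units [Fintype (K ≃ₐ[ℚ] K)] (F : ℕ → ℂ) :
    ∑ σ : K ≃ₐ[ℚ] K, F (galExp N K σ) = ∑ u : (ZMod N)ˣ, F ((u : ZMod N).val) := by
  unfold galExp
  exact Equiv.sum_comp (IsCyclotomicExtension.autEquivPow K
    (irreducible_cyclotomic_rat_lead N)).toEquiv (fun u : (ZMod N)ˣ => F ((u : ZMod N).val))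

theorem card_gal_eq_card_units [Fintype (K ≃ₐ[ℚ] K)] :
    Fintype.card (K ≃ₐ[ℚ] K) = Fintype.card (ZMod N)ˣ :=
  Fintype.card_congr (IsCyclotomicExtension.autEquivPow K
    (irreducible_cyclotomic_rat_lead N)).toEquiv

end galsum

section parity

/-- A symmetric integer-valued function vanishing on the diagonal has even total sum. -/
theorem even_sum_of_symm {ι : Type*} [Fintype ι] [DecidableEq ι] (g : ι → ι → ℤ)
    (hsymm : ∀ i j, g i j = g j i) (hdiag : ∀ i, g i i = 0) :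
    Even (∑ i : ι, ∑ j : ι, g i j) := by
  have h1 : ((∑ i : ι, ∑ j : ι, g i j : ℤ) : ZMod 2) = 0 := by
    push_cast
    rw [← Finset.sum_product']
    apply Finset.sum_involution (fun (x : ι × ι) _ => (x.2, x.1))
    · intro x _
      have : ((g x.1 x.2 : ℤ) : ZMod 2) + ((g x.2 x.1 : ℤ) : ZMod 2) = 0 := by
        rw [hsymm x.2 x.1, ← two_mul]
        have : (2 : ZMod 2) = 0 := rfl
        rw [this, zero_mul]
      exact this
    · intro x _ hx hfix
      apply hx
      have h2 : x.1 = x.2 := by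
        have := congrArg Prod.fst hfix
        simpa using this.symm
      have : g x.1 x.2 = 0 := by rw [h2]; exact hdiag x.2
      rw [this]; simp
    · intro x _
      exact Finset.mem_product.mpr ⟨Finset.mem_univ _, Finset.mem_univ _⟩
    · intro x _
      rfl
  rw [← Int.cast_zero, ZMod.intCast_eq_intCast_iff_dvd_sub] at h1
  simp only [zero_sub, dvd_neg, Nat.cast_ofNat] at h1
  exact even_iff_two_dvd.mpr h1

end parity

section trace2

variable {G : Type u} [Group G] [Fintype G] {M : Ideal AlgInt}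

/-- **Odd Galois trace**: for `p = 2`, the sum over the Galois group of the scaled diagonal
contributions `2^q μ_{χχ}` of a character of height zero is an odd multiple of the order of the
Galois group. -/
theorem exists_odd_trace (hM : IsPModular 2 M) (N : ℕ) [NeZero N] (K : Type w) [Field K]
    [Algebra ℚ K] [IsCyclotomicExtension {N} ℚ K] [Fintype (K ≃ₐ[ℚ] K)]
    (C : Subgroup G) [Fintype C] (e : Set (IrrCharacter C)) (B : Set (IrrCharacter G))
    (hind : IsInducedBlock M C e B) (w : Subgroup.center C) (hwN : w ^ N = 1)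
    (hw2 : ∃ j : ℕ, w ^ (2 ^ j) = 1) (χ : IrrCharacter G) (hχ : χ ∈ B)
    (hχ0 : blockHeight 2 B (χ : G → ℂ) = 0) :
    ∃ x : ℤ, Odd x ∧ ∑ σ : K ≃ₐ[ℚ] K, ((2 : ℂ) ^ blockDefect 2 e) *
        contrib 2 C e ((((w ^ galExp N K σ : Subgroup.center C) : C) : G)) χ χ =
      (Fintype.card (K ≃ₐ[ℚ] K) : ℂ) * (x : ℂ) := by
  classical
  let _ := fintypeIrr C
  have hprime : M.IsPrime := isPrime_of_isPModular hM
  have hp : (2 : ℕ).Prime := Nat.prime_two
  have he : IsPBlock M e := hind.1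
  have hne : e.Nonempty := by
    obtain ⟨χ₁, h⟩ := he
    exact ⟨χ₁, by rw [h]; exact mem_blockOf_self χ₁⟩
  set m := minVal 2 e with hm
  set a := (Nat.card C).factorization 2 with ha
  have hma : m ≤ a := minVal_le_factorization_card hne
  have hq : blockDefect 2 e = a - m := blockDefect_eq e
  have h2m0 : ((2 : ℂ) ^ m) ≠ 0 := pow_ne_zero _ two_ne_zero
  -- divisibility of the integers `[ζ̃, ζ']`
  have hTdiv : ∀ ζ ∈ e, ∀ ζ' ∈ e, (2 : ℤ) ^ m ∣ tildeInt 2 ζ ζ' := by
    intro ζ _ ζ' hζ'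
    have h1 := pow_dvd_tildeInt hM ζ ζ'
    exact dvd_trans (pow_dvd_pow _ (minVal_le hζ')) (by exact_mod_cast h1)
  set A' : IrrCharacter C → IrrCharacter C → ℤ := fun ζ ζ' =>
    if ζ ∈ e ∧ ζ' ∈ e then ((resMult C χ ζ : ℤ) * (resMult C χ ζ' : ℤ)) * (tildeInt 2 ζ ζ' / 2 ^ m)
    else 0 with hA'
  set eps : IrrCharacter C → IrrCharacter C → ℂ := fun ζ ζ' =>
    centHom C ζ w * conj (centHom C ζ' w) with heps
  have hpq : ((2 : ℂ) ^ blockDefect 2 e) / (((2 : ℕ) ^ a : ℕ) : ℂ) = 1 / ((2 : ℂ) ^ m) := by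
    have hpa : (((2 : ℕ) ^ a : ℕ) : ℂ) = (2 : ℂ) ^ (a - m) * (2 : ℂ) ^ m := by
      rw [← pow_add, Nat.sub_add_cancel hma]; push_cast; ring
    rw [hq, hpa]
    have : ((2 : ℂ) ^ (a - m)) ≠ 0 := pow_ne_zero _ two_ne_zero
    field_simp
  -- the formula for the scaled diagonal contributions
  have hformula : ∀ k : ℕ, ((2 : ℂ) ^ blockDefect 2 e) *
      contrib 2 C e ((((w ^ k : Subgroup.center C) : C) : G)) χ χ =
      ∑ ζ : IrrCharacter C, ∑ ζ' : IrrCharacter C, (A' ζ ζ' : ℂ) * eps ζ ζ' ^ k := by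
    intro k
    rw [contrib_eq, ← ha]
    rw [show ((2 : ℂ) ^ blockDefect 2 e) * ((∑ ζ : IrrCharacter C, ∑ ζ' : IrrCharacter C,
        decCoeff C e (w ^ k) χ ζ * conj (decCoeff C e (w ^ k) χ ζ') * (tildeInt 2 ζ ζ' : ℂ)) /
        (((2 : ℕ) ^ a : ℕ) : ℂ)) =
      (((2 : ℂ) ^ blockDefect 2 e) / (((2 : ℕ) ^ a : ℕ) : ℂ)) * (∑ ζ : IrrCharacter C,
        ∑ ζ' : IrrCharacter C,
        decCoeff C e (w ^ k) χ ζ * conj (decCoeff C e (w ^ k) χ ζ') * (tildeInt 2 ζ ζ' : ℂ)) by
      ring]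
    rw [hpq, Finset.mul_sum]
    apply Finset.sum_congr rfl
    intro ζ _
    rw [Finset.mul_sum]
    apply Finset.sum_congr rfl
    intro ζ' _
    unfold decCoeff
    rw [hA', heps]
    simp only []
    by_cases hζ : ζ ∈ e
    · by_cases hζ' : ζ' ∈ e
      · rw [if_pos hζ, if_pos hζ', if_pos ⟨hζ, hζ'⟩]
        obtain ⟨t, ht⟩ := hTdiv ζ hζ ζ' hζ'
        rw [ht, Int.mul_ediv_cancel_left _ (pow_ne_zero _ two_ne_zero)]
        rw [map_mul, Complex.conj_natCast, map_pow, map_pow, mul_pow, map_pow]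
        push_cast
        field_simp
      · have hn : ¬ (ζ ∈ e ∧ ζ' ∈ e) := fun h => hζ' h.2
        rw [if_neg hζ', if_neg hn]
        simp
    · have hn : ¬ (ζ ∈ e ∧ ζ' ∈ e) := fun h => hζ h.1
      rw [if_neg hζ, if_neg hn]
      simp
  -- the roots of unity
  have hepsN : ∀ ζ ζ' : IrrCharacter C, eps ζ ζ' ^ N = 1 := by
    intro ζ ζ'
    rw [heps]
    simp only []
    rw [mul_pow, ← map_pow, ← map_pow, ← map_pow, hwN, map_one, map_one, one_mul, map_one]
  have heps2 : ∀ ζ ζ' : IrrCharacter C, ∃ t : ℕ, eps ζ ζ' ^ (2 ^ t) = 1 := by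
    intro ζ ζ'
    obtain ⟨j, hj⟩ := hw2
    refine ⟨j, ?_⟩
    rw [heps]
    simp only []
    rw [mul_pow, ← map_pow, ← map_pow, ← map_pow, hj, map_one, map_one, one_mul, map_one]
  have heps_symm : ∀ ζ ζ' : IrrCharacter C, eps ζ' ζ = conj (eps ζ ζ') := by
    intro ζ ζ'
    rw [heps]
    simp only []
    rw [map_mul, Complex.conj_conj, mul_comm]
  have heps_diag : ∀ ζ : IrrCharacter C, eps ζ ζ = 1 := by
    intro ζ
    rw [heps]
    simp only []
    rw [Complex.mul_conj, Complex.normSq_eq_norm_sq, centHom_norm]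
    norm_num
  -- the two integers
  set x : ℤ := ∑ ζ : IrrCharacter C, ∑ ζ' : IrrCharacter C, A' ζ ζ' * rVal (eps ζ ζ') with hx
  set y : ℤ := ∑ ζ : IrrCharacter C, ∑ ζ' : IrrCharacter C, A' ζ ζ' with hy
  have hA'symm : ∀ ζ ζ' : IrrCharacter C, A' ζ ζ' = A' ζ' ζ := by
    intro ζ ζ'
    rw [hA']
    simp only []
    by_cases h : ζ ∈ e ∧ ζ' ∈ e
    · rw [if_pos h, if_pos ⟨h.2, h.1⟩, tildeInt_symm ζ ζ']
      ring
    · have hn : ¬ (ζ' ∈ e ∧ ζ ∈ e) := fun h' => h ⟨h'.2, h'.1⟩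
      rw [if_neg h, if_neg hn]
  -- `y` is odd
  have hyodd : Odd y := by
    have h1 := hformula 0
    have h2 := contrib_unit hM C e B hind (w ^ 0) ⟨0, by simp⟩ χ χ hχ hχ0 hχ hχ0
    have h3 : ((2 : ℂ) ^ blockDefect 2 e) *
        contrib 2 C e ((((w ^ 0 : Subgroup.center C) : C) : G)) χ χ = (y : ℂ) := by
      rw [h1, hy]
      push_cast
      apply Finset.sum_congr rfl
      intro ζ _
      apply Finset.sum_congr rfl
      intro ζ' _
      rw [pow_zero, mul_one]
    have h4 : ¬ MemLocalIdeal M (y : ℂ) := by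
      rw [← h3]
      have := h2.2
      simpa using this
    by_contra hev
    rw [Int.not_odd_iff_even] at hev
    obtain ⟨t, ht⟩ := hev
    apply h4
    rw [ht]
    push_cast
    rw [← two_mul]
    apply memLocalIdeal_mul_right _ (memLocalRing_intCast t)
    have := memLocalIdeal_natCast_of_dvd hM (dvd_refl 2)
    simpa using this
  -- `x - y` is even
  have hxy : Even (x - y) := by
    have h1 : x - y = ∑ ζ : IrrCharacter C, ∑ ζ' : IrrCharacter C,
        A' ζ ζ' * (rVal (eps ζ ζ') - 1) := by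
      rw [hx, hy, ← Finset.sum_sub_distrib]
      apply Finset.sum_congr rfl
      intro ζ _
      rw [← Finset.sum_sub_distrib]
      apply Finset.sum_congr rfl
      intro ζ' _
      ring
    rw [h1]
    apply even_sum_of_symm
    · intro ζ ζ'
      rw [hA'symm ζ ζ', heps_symm ζ ζ', rVal_conj]
    · intro ζ
      rw [heps_diag, rVal_one, sub_self, mul_zero]
  have hxodd : Odd x := by
    have : x = (x - y) + y := by ring
    rw [this]
    exact Even.add_odd hxy hyodd
  refine ⟨x, hxodd, ?_⟩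
  simp_rw [hformula]
  rw [Finset.sum_comm]
  simp_rw [Finset.sum_comm (s := (Finset.univ : Finset (K ≃ₐ[ℚ] K)))]
  simp_rw [← Finset.mul_sum]
  have hR : ∀ ζ ζ' : IrrCharacter C, ∑ σ : K ≃ₐ[ℚ] K, eps ζ ζ' ^ galExp N K σ =
      (Fintype.card (K ≃ₐ[ℚ] K) : ℂ) * (rVal (eps ζ ζ') : ℂ) := by
    intro ζ ζ'
    rw [sum_gal_eq_sum_units N K (fun k => eps ζ ζ' ^ k), card_gal_eq_card_units N K]
    exact sum_units_pow_two N (eps ζ ζ') (hepsN ζ ζ') (heps2 ζ ζ')
  simp_rw [hR]
  rw [hx]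
  push_cast
  rw [Finset.mul_sum]
  apply Finset.sum_congr rfl
  intro ζ _
  rw [Finset.mul_sum]
  apply Finset.sum_congr rfl
  intro ζ' _
  ring

end trace2

end Cfsg.Agent.Lib.Helper23.Subsec
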