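/-
helper23: S4539 leaves (OM1-4).  The contributions `μ_{χψ}` of a subsection `(z, e)`:
`μ_{χψ} |G| / ψ(1)` and `μ_{χψ} |G| / χ(1)` are values of central characters on class functions with
locally integral values (supported on the `p`-section of `z`), hence local integers whose residues
only depend on the block of `ψ` (resp. `χ`).
-/
import Mathlib
import Cfsg.Agent.Lib.Helper23.SubsecD

set_option autoImplicit false
set_option linter.unusedSectionVars false

namespace Cfsg.Agent.Lib.Helper23.MajSubOM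

open Cfsg Cfsg.Agent.CharLib Cfsg.Agent.Lib.Helper24 Cfsg.Agent.Lib.Helper6 Cfsg.Agent.Lib.Helper23
open Cfsg.Agent.Lib.Helper23.Subsec
open scoped ComplexConjugate

universe u

/-! ## the class function of `G` on the `p`-section of `z` attached to a class function of `C` -/
section secfun

variable {G : Type u} [Group G] [Fintype G] {M : Ideal AlgInt} {p : ℕ} [hpp : Fact p.Prime]

/-- The class function of `G` supported on the `p`-section of `z` with value `F s` at `z s`
(`s ∈ C` a `p`-regular element). -/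
noncomputable def secFun (p : ℕ) (z : G) (C : Subgroup G) [Fintype C] (F : C → ℂ) : G → ℂ :=
  open Classical in
  fun g => (Nat.card C : ℂ)⁻¹ * ∑ x : G, ∑ s : C,
    if (¬ p ∣ orderOf s ∧ g = x * (z * (s : G)) * x⁻¹) then F s else 0

theorem secFun_isClassFunction (z : G) (C : Subgroup G) [Fintype C] (F : C → ℂ) :
    IsClassFunction G (secFun p z C F) := by
  classical
  intro g h
  unfold secFun
  congr 1
  rw [← Equiv.sum_comp (Equiv.mulLeft h)]
  apply Finset.sum_congr rfl
  intro x _
  apply Finset.sum_congr rfl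
  intro s _
  have hiff : (h * g * h⁻¹ = (Equiv.mulLeft h x) * (z * (s : G)) * (Equiv.mulLeft h x)⁻¹) ↔
      g = x * (z * (s : G)) * x⁻¹ := by
    simp only [Equiv.coe_mulLeft, mul_inv_rev]
    constructor
    · intro h1
      have h2 : g = h⁻¹ * (h * g * h⁻¹) * h := by group
      rw [h2, h1]; group
    · intro h1
      rw [h1]; group
  simp only [hiff]

theorem sum_secFun_mul (z : G) (C : Subgroup G) [Fintype C] (F : C → ℂ) (Φ : G → ℂ)
    (hΦ : IsClassFunction G Φ) :
    ∑ g : G, secFun p z C F g * Φ g =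
      (Nat.card G : ℂ) * ((Nat.card C : ℂ)⁻¹ *
        ∑ s : C, if p ∣ orderOf s then 0 else F s * Φ (z * (s : G))) := by
  classical
  unfold secFun
  have h1 : ∀ g : G, ((Nat.card C : ℂ)⁻¹ * ∑ x : G, ∑ s : C,
      (if (¬ p ∣ orderOf s ∧ g = x * (z * (s : G)) * x⁻¹) then F s else 0)) * Φ g =
      (Nat.card C : ℂ)⁻¹ * ∑ x : G, ∑ s : C,
        (if (¬ p ∣ orderOf s ∧ g = x * (z * (s : G)) * x⁻¹) then F s * Φ g else 0) := by
    intro g
    rw [mul_assoc, Finset.sum_mul]
    congr 1
    apply Finset.sum_congr rfl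
    intro x _
    rw [Finset.sum_mul]
    apply Finset.sum_congr rfl
    intro s _
    split_ifs
    · rfl
    · rw [zero_mul]
  rw [Finset.sum_congr rfl (fun g _ => h1 g), ← Finset.mul_sum, Finset.sum_comm]
  have h2 : ∀ x : G, ∑ g : G, ∑ s : C,
      (if (¬ p ∣ orderOf s ∧ g = x * (z * (s : G)) * x⁻¹) then F s * Φ g else 0) =
      ∑ s : C, if p ∣ orderOf s then 0 else F s * Φ (z * (s : G)) := by
    intro x
    rw [Finset.sum_comm]
    apply Finset.sum_congr rfl
    intro s _
    by_cases hs : p ∣ orderOf s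
    · rw [if_pos hs]
      apply Finset.sum_eq_zero
      intro g _
      rw [if_neg]
      intro h
      exact h.1 hs
    · rw [if_neg hs, Finset.sum_eq_single (x * (z * (s : G)) * x⁻¹)]
      · rw [if_pos ⟨hs, rfl⟩, hΦ]
      · intro g _ hg
        rw [if_neg]
        intro h
        exact hg h.2
      · intro h
        exact absurd (Finset.mem_univ _) h
  rw [Finset.sum_congr rfl (fun x _ => h2 x), Finset.sum_const, Finset.card_univ, nsmul_eq_mul,
    ← Nat.card_eq_fintype_card]
  ring

theorem sum_ite_mem_subgroup (C : Subgroup G) [Fintype C] (c : ℂ) :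
    (open Classical in ∑ y : G, if y ∈ C then c else 0) = (Nat.card C : ℂ) * c := by
  classical
  rw [← Finset.sum_filter, Finset.sum_const, nsmul_eq_mul]
  congr 2
  rw [Nat.card_eq_fintype_card, Fintype.card_subtype]

theorem secFun_eq_of_conj (z : G) (hz : ∃ k : ℕ, orderOf z = p ^ k)
    (C : Subgroup G) [Fintype C] (hC : C = Subgroup.centralizer ({z} : Set G)) (F : C → ℂ)
    (hF : IsClassFunction C F) (x₀ : G) (s₀ : C) (hs₀ : ¬ p ∣ orderOf s₀) :
    secFun p z C F (x₀ * (z * (s₀ : G)) * x₀⁻¹) = F s₀ := by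
  classical
  have hcomm : ∀ c : G, c ∈ C ↔ c * z = z * c := by
    intro c
    rw [hC, Subgroup.mem_centralizer_singleton_iff]
  unfold secFun
  rw [← Equiv.sum_comp (Equiv.mulLeft x₀)]
  have hinner : ∀ y : G, (∑ s : C,
      if (¬ p ∣ orderOf s ∧ x₀ * (z * (s₀ : G)) * x₀⁻¹ =
        (Equiv.mulLeft x₀ y) * (z * (s : G)) * (Equiv.mulLeft x₀ y)⁻¹) then F s else 0) =
      if y ∈ C then F s₀ else 0 := by
    intro y
    have hcancel : ∀ s : C, (x₀ * (z * (s₀ : G)) * x₀⁻¹ =
        (Equiv.mulLeft x₀ y) * (z * (s : G)) * (Equiv.mulLeft x₀ y)⁻¹) ↔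
        z * (s₀ : G) = y * (z * (s : G)) * y⁻¹ := by
      intro s
      simp only [Equiv.coe_mulLeft, mul_inv_rev]
      constructor
      · intro h1
        have h2 : z * (s₀ : G) = x₀⁻¹ * (x₀ * (z * (s₀ : G)) * x₀⁻¹) * x₀ := by group
        rw [h2, h1]; group
      · intro h1
        rw [h1]; group
    simp only [hcancel]
    by_cases hy : y ∈ C
    · rw [if_pos hy]
      have hyz : y * z = z * y := (hcomm y).mp hy
      set c : C := ⟨y, hy⟩ with hc
      rw [Finset.sum_eq_single (c⁻¹ * s₀ * c)]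
      · have hord : orderOf (c⁻¹ * s₀ * c) = orderOf s₀ := by
          have := orderOf_injective (MulAut.conj c⁻¹).toMonoidHom (MulAut.conj c⁻¹).injective s₀
          simpa using this
        have heq : z * (s₀ : G) = y * (z * ((c⁻¹ * s₀ * c : C) : G)) * y⁻¹ := by
          have h3 : ((c⁻¹ * s₀ * c : C) : G) = y⁻¹ * (s₀ : G) * y := by
            simp [hc]
          rw [h3]
          have h4 : y * (z * (y⁻¹ * (s₀ : G) * y)) * y⁻¹ = (y * z) * y⁻¹ * (s₀ : G) := by group
          rw [h4, hyz]; group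
        rw [if_pos ⟨by rw [hord]; exact hs₀, heq⟩]
        have := hF s₀ c⁻¹
        rw [inv_inv] at this
        exact this
      · intro s _ hne
        rw [if_neg]
        rintro ⟨_, h1⟩
        apply hne
        apply Subtype.ext
        have h3 : ((c⁻¹ * s₀ * c : C) : G) = y⁻¹ * (s₀ : G) * y := by
          simp [hc]
        rw [h3]
        have h5 : y * (z * (s : G)) * y⁻¹ = z * (y * (s : G) * y⁻¹) := by
          have : y * (z * (s : G)) * y⁻¹ = (y * z) * (s : G) * y⁻¹ := by group
          rw [this, hyz]; group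
        rw [h5] at h1
        have h6 : (s₀ : G) = y * (s : G) * y⁻¹ := mul_left_cancel h1
        rw [h6]; group
      · intro h
        exact absurd (Finset.mem_univ _) h
    · rw [if_neg hy]
      apply Finset.sum_eq_zero
      intro s _
      rw [if_neg]
      rintro ⟨hs, h1⟩
      apply hy
      rw [hcomm]
      -- `p`-part uniqueness
      have hs₀C : (s₀ : G) * z = z * (s₀ : G) := (hcomm _).mp s₀.2
      have hsC : (s : G) * z = z * (s : G) := (hcomm _).mp s.2
      have hP1 : IsPPart p (z * (s₀ : G)) z := by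
        refine ⟨(s₀ : G), rfl, hs₀C.symm, hz, ?_⟩
        rw [Subgroup.orderOf_coe]; exact hs₀
      have hP2 : IsPPart p (z * (s₀ : G)) (y * z * y⁻¹) := by
        refine ⟨y * (s : G) * y⁻¹, ?_, ?_, ?_, ?_⟩
        · rw [h1]; group
        · show (y * z * y⁻¹) * (y * (s : G) * y⁻¹) = (y * (s : G) * y⁻¹) * (y * z * y⁻¹)
          have e1 : (y * z * y⁻¹) * (y * (s : G) * y⁻¹) = y * (z * (s : G)) * y⁻¹ := by group
          have e2 : (y * (s : G) * y⁻¹) * (y * z * y⁻¹) = y * ((s : G) * z) * y⁻¹ := by group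
          rw [e1, e2, hsC]
        · obtain ⟨k, hk⟩ := hz
          refine ⟨k, ?_⟩
          have := orderOf_injective (MulAut.conj y).toMonoidHom (MulAut.conj y).injective z
          simp only [MulEquiv.coe_toMonoidHom, MulAut.conj_apply] at this
          rw [this, hk]
        · have := orderOf_injective (MulAut.conj y).toMonoidHom (MulAut.conj y).injective (s : G)
          simp only [MulEquiv.coe_toMonoidHom, MulAut.conj_apply] at this
          rw [this, Subgroup.orderOf_coe]; exact hs
      have h7 := isPPart_unique hP1 hP2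
      have : y * z = (y * z * y⁻¹) * y := by group
      rw [this, ← h7]
  rw [Finset.sum_congr rfl (fun y _ => hinner y), sum_ite_mem_subgroup]
  have hC0 : (Nat.card C : ℂ) ≠ 0 := Nat.cast_ne_zero.mpr Nat.card_pos.ne'
  field_simp

theorem secFun_eq_zero (z : G) (C : Subgroup G) [Fintype C] (F : C → ℂ) (g : G)
    (hg : ¬ ∃ x : G, ∃ s : C, ¬ p ∣ orderOf s ∧ g = x * (z * (s : G)) * x⁻¹) :
    secFun p z C F g = 0 := by
  classical
  unfold secFun
  rw [Finset.sum_eq_zero, mul_zero]
  intro x _
  apply Finset.sum_eq_zero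
  intro s _
  rw [if_neg]
  intro h
  exact hg ⟨x, s, h⟩

theorem memLocalRing_secFun (hM : IsPModular p M) (z : G) (hz : ∃ k : ℕ, orderOf z = p ^ k)
    (C : Subgroup G) [Fintype C] (hC : C = Subgroup.centralizer ({z} : Set G)) (F : C → ℂ)
    (hF : IsClassFunction C F) (hFR : ∀ s : C, ¬ p ∣ orderOf s → MemLocalRing M (F s)) (g : G) :
    MemLocalRing M (secFun p z C F g) := by
  have hprime : M.IsPrime := isPrime_of_isPModular hM
  by_cases hex : ∃ x : G, ∃ s : C, ¬ p ∣ orderOf s ∧ g = x * (z * (s : G)) * x⁻¹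
  · obtain ⟨x₀, s₀, hs₀, rfl⟩ := hex
    rw [secFun_eq_of_conj z hz C hC F hF x₀ s₀ hs₀]
    exact hFR s₀ hs₀
  · rw [secFun_eq_zero z C F g hex]
    exact memLocalRing_zero

end secfun

/-! ## block parts: local integrality and the regular inner product -/
section blockpart

variable {X : Type u} [Group X] [Fintype X] {M : Ideal AlgInt} {p : ℕ} [hpp : Fact p.Prime]

/-- The block part of a class function with locally integral values has locally integral values
(Osima). -/
theorem memLocalRing_blockPart (hM : IsPModular p M) (e : Set (IrrCharacter X))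
    (he : IsPBlock M e) (θ : X → ℂ) (hθ : IsClassFunction X θ)
    (hθR : ∀ x, MemLocalRing M (θ x)) (y : X) : MemLocalRing M (blockPart e θ y) := by
  have hprime : M.IsPrime := isPrime_of_isPModular hM
  obtain ⟨ψ₀, rfl⟩ := he
  rw [blockPart_eq_sum_blockCoeff _ hθ]
  exact sum_memLocalRing _ _ (fun k _ =>
    memLocalRing_mul (memLocalRing_blockCoeff_blockOf ψ₀ k) (hθR _))

/-- Block orthogonality on the `p`-regular elements. -/
theorem sum_regular_irr_eq_zero (hM : IsPModular p M) (e : Set (IrrCharacter X))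
    (he : IsPBlock M e) {ζ ζ' : IrrCharacter X} (hζ : ζ ∈ e) (hζ' : ζ' ∉ e) :
    ∑ s : X, (if p ∣ orderOf s then 0 else (ζ : X → ℂ) s * conj ((ζ' : X → ℂ) s)) = 0 := by
  classical
  obtain ⟨ψ₀, rfl⟩ := he
  have h1 := sum_regular_eq_zero_of_not_mem_block hM ψ₀ ζ' hζ' ζ hζ
  have h2 : ∑ s : X, (if p ∣ orderOf s then 0 else (ζ : X → ℂ) s * conj ((ζ' : X → ℂ) s)) =
      conj (∑ x : X, (if ¬ p ∣ orderOf x then (ζ' : X → ℂ) x * conj ((ζ : X → ℂ) x) else 0)) := by
    rw [map_sum]
    apply Finset.sum_congr rfl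
    intro s _
    by_cases hs : p ∣ orderOf s
    · rw [if_pos hs, if_neg (not_not.mpr hs), map_zero]
    · rw [if_neg hs, if_pos hs, map_mul, Complex.conj_conj, mul_comm]
  rw [h2, h1, map_zero]

/-- In the regular inner product of a block part with a class function, the class function may be
replaced by its block part. -/
theorem sum_regular_blockPart_conj (hM : IsPModular p M) (e : Set (IrrCharacter X))
    (he : IsPBlock M e) (θ₁ θ₂ : X → ℂ) (hθ₂ : IsClassFunction X θ₂) :
    ∑ s : X, (if p ∣ orderOf s then 0 else blockPart e θ₁ s * conj (blockPart e θ₂ s)) =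
      ∑ s : X, (if p ∣ orderOf s then 0 else blockPart e θ₁ s * conj (θ₂ s)) := by
  classical
  let _ := fintypeIrr X
  set d : IrrCharacter X → ℂ := fun ζ => if ζ ∈ e then classInner θ₁ (ζ : X → ℂ) else 0 with hd
  set c : IrrCharacter X → ℂ := fun ζ => classInner θ₂ (ζ : X → ℂ) with hc
  set c' : IrrCharacter X → ℂ := fun ζ => if ζ ∈ e then 0 else classInner θ₂ (ζ : X → ℂ) with hc'
  have hexp2 : ∀ s, θ₂ s = ∑ ζ : IrrCharacter X, c ζ * (ζ : X → ℂ) s := by
    intro s
    have h1 := congrFun (classFunction_eq_sum hθ₂) s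
    rw [Finset.sum_apply] at h1
    rw [h1]
    apply Finset.sum_congr rfl
    intro ζ _
    rw [Pi.smul_apply, smul_eq_mul]
  have hb1 : ∀ s, blockPart e θ₁ s = ∑ ζ : IrrCharacter X, d ζ * (ζ : X → ℂ) s := by
    intro s
    rw [blockPart_apply, finsum_mem_eq_sum_ite]
    apply Finset.sum_congr rfl
    intro ζ _
    rw [hd]
    by_cases hζ : ζ ∈ e
    · simp only [if_pos hζ]
    · simp only [if_neg hζ, zero_mul]
  have hdiff : ∀ s, θ₂ s - blockPart e θ₂ s = ∑ ζ : IrrCharacter X, c' ζ * (ζ : X → ℂ) s := by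
    intro s
    rw [hexp2 s, blockPart_apply, finsum_mem_eq_sum_ite, ← Finset.sum_sub_distrib]
    apply Finset.sum_congr rfl
    intro ζ _
    rw [hc', hc]
    by_cases hζ : ζ ∈ e
    · simp only [if_pos hζ, sub_self, zero_mul]
    · simp only [if_neg hζ, sub_zero]
  rw [← sub_eq_zero, ← Finset.sum_sub_distrib]
  have hterm : ∀ s : X, ((if p ∣ orderOf s then (0 : ℂ) else
      blockPart e θ₁ s * conj (blockPart e θ₂ s)) -
      (if p ∣ orderOf s then 0 else blockPart e θ₁ s * conj (θ₂ s))) =
      - ∑ ζ : IrrCharacter X, ∑ ζ' : IrrCharacter X, d ζ * conj (c' ζ') *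
        (if p ∣ orderOf s then 0 else (ζ : X → ℂ) s * conj ((ζ' : X → ℂ) s)) := by
    intro s
    by_cases hs : p ∣ orderOf s
    · simp only [if_pos hs, sub_self, mul_zero, Finset.sum_const_zero, neg_zero]
    · simp only [if_neg hs]
      rw [← mul_sub, ← map_sub, ← neg_sub (θ₂ s), hdiff s, hb1 s, map_neg, mul_neg, map_sum,
        Finset.sum_mul_sum]
      congr 1
      apply Finset.sum_congr rfl
      intro ζ _
      apply Finset.sum_congr rfl
      intro ζ' _
      rw [map_mul]
      ring
  rw [Finset.sum_congr rfl (fun s _ => hterm s), Finset.sum_neg_distrib, neg_eq_zero,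
    Finset.sum_comm]
  apply Finset.sum_eq_zero
  intro ζ _
  rw [Finset.sum_comm]
  apply Finset.sum_eq_zero
  intro ζ' _
  rw [← Finset.mul_sum]
  by_cases hζ : ζ ∈ e
  · by_cases hζ' : ζ' ∈ e
    · rw [hc']
      simp only [if_pos hζ', map_zero, mul_zero, zero_mul]
    · rw [sum_regular_irr_eq_zero hM e he hζ hζ', mul_zero]
  · rw [hd]
    simp only [if_neg hζ, zero_mul]

/-- The same with the class function in the first place. -/
theorem sum_regular_conj_blockPart (hM : IsPModular p M) (e : Set (IrrCharacter X))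
    (he : IsPBlock M e) (θ₁ θ₂ : X → ℂ) (hθ₁ : IsClassFunction X θ₁) :
    ∑ s : X, (if p ∣ orderOf s then 0 else blockPart e θ₁ s * conj (blockPart e θ₂ s)) =
      ∑ s : X, (if p ∣ orderOf s then 0 else θ₁ s * conj (blockPart e θ₂ s)) := by
  have h := sum_regular_blockPart_conj hM e he θ₂ θ₁ hθ₁
  have h2 := congrArg (starRingEnd ℂ) h
  rw [map_sum, map_sum] at h2
  have e1 : ∀ s : X, conj (if p ∣ orderOf s then (0 : ℂ) else
      blockPart e θ₂ s * conj (blockPart e θ₁ s)) =
      (if p ∣ orderOf s then 0 else blockPart e θ₁ s * conj (blockPart e θ₂ s)) := by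
    intro s
    split_ifs
    · rw [map_zero]
    · rw [map_mul, Complex.conj_conj, mul_comm]
  have e2 : ∀ s : X, conj (if p ∣ orderOf s then (0 : ℂ) else
      blockPart e θ₂ s * conj (θ₁ s)) =
      (if p ∣ orderOf s then 0 else θ₁ s * conj (blockPart e θ₂ s)) := by
    intro s
    split_ifs
    · rw [map_zero]
    · rw [map_mul, Complex.conj_conj, mul_comm]
  rw [Finset.sum_congr rfl (fun s _ => e1 s), Finset.sum_congr rfl (fun s _ => e2 s)] at h2
  exact h2

end blockpart

/-! ## the contributions as values of central characters -/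
section om

variable {G : Type u} [Group G] [Fintype G] {M : Ideal AlgInt} {p : ℕ} [hpp : Fact p.Prime]

/-- The twist `c ↦ χ (z c)` is a class function of `C` when `z` commutes with `C`. -/
theorem twist_isClassFunction (z : G) (C : Subgroup G) (hcomm : ∀ c ∈ C, c * z = z * c)
    (χ : IrrCharacter G) : IsClassFunction C (fun c : C => (χ : G → ℂ) (z * (c : G))) := by
  intro g h
  show (χ : G → ℂ) (z * ((h * g * h⁻¹ : C) : G)) = (χ : G → ℂ) (z * (g : G))
  have h1 : z * ((h * g * h⁻¹ : C) : G) = (h : G) * (z * (g : G)) * (h : G)⁻¹ := by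
    have h2 := hcomm h h.2
    have h3 : ((h * g * h⁻¹ : C) : G) = (h : G) * (g : G) * (h : G)⁻¹ := by simp
    rw [h3]
    have h4 : (h : G) * (z * (g : G)) * (h : G)⁻¹ = ((h : G) * z) * (g : G) * (h : G)⁻¹ := by group
    rw [h4, h2]; group
  rw [h1, irr_conj]

theorem memLocalRing_twist (hM : IsPModular p M) (z : G) (C : Subgroup G) (χ : IrrCharacter G)
    (c : C) : MemLocalRing M ((χ : G → ℂ) (z * (c : G))) := by
  have hprime : M.IsPrime := isPrime_of_isPModular hM
  exact memLocalRing_of_algInt ⟨_, irr_isIntegral χ _⟩ hprime.one_notMem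

/-- The generalized decomposition function has locally integral values. -/
theorem memLocalRing_decFun (hM : IsPModular p M) (z : G) (C : Subgroup G) [Fintype C]
    (hcomm : ∀ c ∈ C, c * z = z * c) (e : Set (IrrCharacter C)) (he : IsPBlock M e)
    (χ : IrrCharacter G) (s : C) : MemLocalRing M (decFun C e z χ s) := by
  unfold decFun
  exact memLocalRing_blockPart hM e he _ (twist_isClassFunction z C hcomm χ)
    (fun c => memLocalRing_twist hM z C χ c) s

/-- ... and so has its complex conjugate. -/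
theorem memLocalRing_conj_decFun (hM : IsPModular p M) (z : G) (C : Subgroup G) [Fintype C]
    (hcomm : ∀ c ∈ C, c * z = z * c) (e : Set (IrrCharacter C)) (he : IsPBlock M e)
    (χ : IrrCharacter G) (s : C) : MemLocalRing M (conj (decFun C e z χ s)) := by
  have hprime : M.IsPrime := isPrime_of_isPModular hM
  unfold decFun
  rw [← blockPart_conj_inv]
  have hcls := twist_isClassFunction z C hcomm χ
  apply memLocalRing_blockPart hM e he
  · intro g h
    show conj ((χ : G → ℂ) (z * (((h * g * h⁻¹)⁻¹ : C) : G))) =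
      conj ((χ : G → ℂ) (z * ((g⁻¹ : C) : G)))
    have h1 : (h * g * h⁻¹)⁻¹ = h * g⁻¹ * h⁻¹ := by group
    rw [h1]
    exact congrArg _ (hcls g⁻¹ h)
  · intro c
    show MemLocalRing M (conj ((χ : G → ℂ) (z * ((c⁻¹ : C) : G))))
    rw [← irr_apply_inv]
    exact memLocalRing_of_algInt ⟨_, irr_isIntegral χ _⟩ hprime.one_notMem

/-- The contribution, with the second generalized decomposition function replaced by the twist. -/
theorem contrib_eq_sum_right (hM : IsPModular p M) (z : G) (C : Subgroup G) [Fintype C]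
    (hcomm : ∀ c ∈ C, c * z = z * c) (e : Set (IrrCharacter C)) (he : IsPBlock M e)
    (χ ψ : IrrCharacter G) :
    contrib p C e z χ ψ = (Nat.card C : ℂ)⁻¹ * ∑ s : C,
      if p ∣ orderOf s then 0 else decFun C e z χ s * conj ((ψ : G → ℂ) (z * (s : G))) := by
  unfold contrib decFun
  congr 1
  exact sum_regular_blockPart_conj hM e he _ _ (twist_isClassFunction z C hcomm ψ)

/-- The contribution, with the first generalized decomposition function replaced by the twist. -/
theorem contrib_eq_sum_left (hM : IsPModular p M) (z : G) (C : Subgroup G) [Fintype C]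
    (hcomm : ∀ c ∈ C, c * z = z * c) (e : Set (IrrCharacter C)) (he : IsPBlock M e)
    (χ ψ : IrrCharacter G) :
    contrib p C e z χ ψ = (Nat.card C : ℂ)⁻¹ * ∑ s : C,
      if p ∣ orderOf s then 0 else (χ : G → ℂ) (z * (s : G)) * conj (decFun C e z ψ s) := by
  unfold contrib decFun
  congr 1
  exact sum_regular_conj_blockPart hM e he _ _ (twist_isClassFunction z C hcomm χ)

/-- `μ_{χψ} |G| / ψ(1) = ω_ψ(a)` for a class function `a` with locally integral values, independent
of `ψ`. -/
theorem exists_omegaFun_right (hM : IsPModular p M) (z : G) (hz : ∃ k : ℕ, orderOf z = p ^ k)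
    (C : Subgroup G) [Fintype C] (hC : C = Subgroup.centralizer ({z} : Set G))
    (e : Set (IrrCharacter C)) (he : IsPBlock M e) (χ : IrrCharacter G) :
    ∃ a : G → ℂ, IsClassFunction G a ∧ (∀ x, MemLocalRing M (a x)) ∧ ∀ ψ : IrrCharacter G,
      contrib p C e z χ ψ * (Nat.card G : ℂ) / (charDegree (ψ : G → ℂ) : ℂ) =
        omegaFun (ψ : G → ℂ) a := by
  have hcomm : ∀ c ∈ C, c * z = z * c := by
    intro c hc
    rw [hC, Subgroup.mem_centralizer_singleton_iff] at hc
    exact hc
  set F : C → ℂ := decFun C e z χ with hF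
  have hFcls : IsClassFunction C F := blockPart_isClassFunction e _
  refine ⟨fun g => secFun p z C F g⁻¹, ?_, ?_, ?_⟩
  · intro g h
    show secFun p z C F (h * g * h⁻¹)⁻¹ = secFun p z C F g⁻¹
    have h1 : (h * g * h⁻¹)⁻¹ = h * g⁻¹ * h⁻¹ := by group
    rw [h1, secFun_isClassFunction z C F g⁻¹ h]
  · intro x
    exact memLocalRing_secFun hM z hz C hC F hFcls
      (fun s _ => memLocalRing_decFun hM z C hcomm e he χ s) x⁻¹
  · intro ψ
    unfold omegaFun
    rw [irr_apply_one]
    congr 1
    have h1 : ∑ g : G, secFun p z C F g⁻¹ * (ψ : G → ℂ) g =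
        ∑ g : G, secFun p z C F g * conj ((ψ : G → ℂ) g) := by
      rw [← Equiv.sum_comp (Equiv.inv G)]
      apply Finset.sum_congr rfl
      intro g _
      simp only [Equiv.inv_apply, inv_inv]
      rw [irr_apply_inv]
    have hΦ : IsClassFunction G (fun g => conj ((ψ : G → ℂ) g)) := by
      intro g h
      show conj ((ψ : G → ℂ) (h * g * h⁻¹)) = conj ((ψ : G → ℂ) g)
      rw [irr_conj]
    rw [h1, sum_secFun_mul z C F (fun g => conj ((ψ : G → ℂ) g)) hΦ,
      contrib_eq_sum_right hM z C hcomm e he χ ψ]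
    ring

/-- `μ_{χψ} |G| / χ(1) = ω_χ(a)` for a class function `a` with locally integral values, independent
of `χ`. -/
theorem exists_omegaFun_left (hM : IsPModular p M) (z : G) (hz : ∃ k : ℕ, orderOf z = p ^ k)
    (C : Subgroup G) [Fintype C] (hC : C = Subgroup.centralizer ({z} : Set G))
    (e : Set (IrrCharacter C)) (he : IsPBlock M e) (ψ : IrrCharacter G) :
    ∃ a : G → ℂ, IsClassFunction G a ∧ (∀ x, MemLocalRing M (a x)) ∧ ∀ χ : IrrCharacter G,
      contrib p C e z χ ψ * (Nat.card G : ℂ) / (charDegree (χ : G → ℂ) : ℂ) =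
        omegaFun (χ : G → ℂ) a := by
  have hcomm : ∀ c ∈ C, c * z = z * c := by
    intro c hc
    rw [hC, Subgroup.mem_centralizer_singleton_iff] at hc
    exact hc
  set F : C → ℂ := fun s => conj (decFun C e z ψ s) with hF
  have hFcls : IsClassFunction C F := by
    intro g h
    show conj (decFun C e z ψ (h * g * h⁻¹)) = conj (decFun C e z ψ g)
    have := blockPart_isClassFunction e (fun c : C => (ψ : G → ℂ) (z * (c : G))) g h
    unfold decFun
    rw [this]
  refine ⟨secFun p z C F, secFun_isClassFunction z C F, ?_, ?_⟩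
  · intro x
    exact memLocalRing_secFun hM z hz C hC F hFcls
      (fun s _ => memLocalRing_conj_decFun hM z C hcomm e he ψ s) x
  · intro χ
    unfold omegaFun
    rw [irr_apply_one]
    congr 1
    have hΦ : IsClassFunction G (χ : G → ℂ) := fun g h => irr_conj χ g h
    rw [sum_secFun_mul z C F (χ : G → ℂ) hΦ, contrib_eq_sum_left hM z C hcomm e he χ ψ]
    have h2 : ∀ s : C, (if p ∣ orderOf s then (0 : ℂ) else F s * (χ : G → ℂ) (z * (s : G))) =
        (if p ∣ orderOf s then 0 else (χ : G → ℂ) (z * (s : G)) * conj (decFun C e z ψ s)) := by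
      intro s
      split_ifs
      · rfl
      · rw [hF]; ring
    rw [Finset.sum_congr rfl (fun s _ => h2 s)]
    ring

/-- (OM1) `μ_{χψ} |G| / ψ(1)` is a local integer. -/
theorem contrib_div_right (hM : IsPModular p M) (z : G) (hz : ∃ k : ℕ, orderOf z = p ^ k)
    (C : Subgroup G) [Fintype C] (hC : C = Subgroup.centralizer ({z} : Set G))
    (e : Set (IrrCharacter C)) (he : IsPBlock M e) (χ ψ : IrrCharacter G) :
    MemLocalRing M (contrib p C e z χ ψ * (Nat.card G : ℂ) / (charDegree (ψ : G → ℂ) : ℂ)) := by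
  have hprime : M.IsPrime := isPrime_of_isPModular hM
  obtain ⟨a, ha, haR, hval⟩ := exists_omegaFun_right hM z hz C hC e he χ
  rw [hval ψ]
  exact memLocalRing_omegaFun ψ ha haR

/-- (OM2) its residue depends only on the block of `ψ`. -/
theorem contrib_div_right_sub (hM : IsPModular p M) (z : G) (hz : ∃ k : ℕ, orderOf z = p ^ k)
    (C : Subgroup G) [Fintype C] (hC : C = Subgroup.centralizer ({z} : Set G))
    (e : Set (IrrCharacter C)) (he : IsPBlock M e) (χ ψ ξ : IrrCharacter G)
    (h : SameBlock M (ψ : G → ℂ) (ξ : G → ℂ)) :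
    MemLocalIdeal M (contrib p C e z χ ψ * (Nat.card G : ℂ) / (charDegree (ψ : G → ℂ) : ℂ) -
      contrib p C e z χ ξ * (Nat.card G : ℂ) / (charDegree (ξ : G → ℂ) : ℂ)) := by
  have hprime : M.IsPrime := isPrime_of_isPModular hM
  obtain ⟨a, ha, haR, hval⟩ := exists_omegaFun_right hM z hz C hC e he χ
  rw [hval ψ, hval ξ]
  exact memLocalIdeal_omegaFun_sub ψ ξ h ha haR

/-- (OM3) the same in the first index. -/
theorem contrib_div_left (hM : IsPModular p M) (z : G) (hz : ∃ k : ℕ, orderOf z = p ^ k)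
    (C : Subgroup G) [Fintype C] (hC : C = Subgroup.centralizer ({z} : Set G))
    (e : Set (IrrCharacter C)) (he : IsPBlock M e) (χ ψ : IrrCharacter G) :
    MemLocalRing M (contrib p C e z χ ψ * (Nat.card G : ℂ) / (charDegree (χ : G → ℂ) : ℂ)) := by
  have hprime : M.IsPrime := isPrime_of_isPModular hM
  obtain ⟨a, ha, haR, hval⟩ := exists_omegaFun_left hM z hz C hC e he ψ
  rw [hval χ]
  exact memLocalRing_omegaFun χ ha haR

/-- (OM4) -/
theorem contrib_div_left_sub (hM : IsPModular p M) (z : G) (hz : ∃ k : ℕ, orderOf z = p ^ k)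
    (C : Subgroup G) [Fintype C] (hC : C = Subgroup.centralizer ({z} : Set G))
    (e : Set (IrrCharacter C)) (he : IsPBlock M e) (χ ξ ψ : IrrCharacter G)
    (h : SameBlock M (χ : G → ℂ) (ξ : G → ℂ)) :
    MemLocalIdeal M (contrib p C e z χ ψ * (Nat.card G : ℂ) / (charDegree (χ : G → ℂ) : ℂ) -
      contrib p C e z ξ ψ * (Nat.card G : ℂ) / (charDegree (ξ : G → ℂ) : ℂ)) := by
  have hprime : M.IsPrime := isPrime_of_isPModular hM
  obtain ⟨a, ha, haR, hval⟩ := exists_omegaFun_left hM z hz C hC e he ψ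
  rw [hval χ, hval ξ]
  exact memLocalIdeal_omegaFun_sub χ ξ h ha haR

end om

end Cfsg.Agent.Lib.Helper23.MajSubOM
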