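/-
helper23: S4539 leaf (H5): Brauer's (5H) for a major subsection `(z, e)` of `B`: for `χ ∈ B` of height
zero and every `ψ ∈ B`, `p^d μ_{χψ} / p^{ht ψ}` and `p^d μ_{ψχ} / p^{ht ψ}` are local units.
-/
import Mathlib
import Cfsg.Agent.Lib.Helper27.MajSubDefs
import Cfsg.Agent.Lib.Helper23.MajSubOM

set_option autoImplicit false
set_option linter.unusedSectionVars false

namespace Cfsg.Agent.Lib.Helper23.MajSubH5

open Cfsg Cfsg.Agent.CharLib Cfsg.Agent.Lib.Helper24 Cfsg.Agent.Lib.Helper6 Cfsg.Agent.Lib.Helper23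
open Cfsg.Agent.Lib.Helper23.Subsec Cfsg.Agent.Lib.Helper27.MajSub
open Cfsg.Agent.Lib.Helper23.MajSubOM
open scoped ComplexConjugate

universe u

section h5

variable {G : Type u} [Group G] [Fintype G] {M : Ideal AlgInt} {p : ℕ} [hpp : Fact p.Prime]

theorem locUnit_mul (hM : IsPModular p M) {a b : ℂ} (ha : LocUnit M a) (hb : LocUnit M b) :
    LocUnit M (a * b) := by
  have hprime : M.IsPrime := isPrime_of_isPModular hM
  exact ⟨memLocalRing_mul ha.1 hb.1, not_memLocalIdeal_mul ha.1 hb.1 ha.2 hb.2⟩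

theorem locUnit_of_sub (hM : IsPModular p M) {a b : ℂ} (ha : LocUnit M a)
    (hb : MemLocalRing M b) (hab : MemLocalIdeal M (b - a)) : LocUnit M b := by
  have hprime : M.IsPrime := isPrime_of_isPModular hM
  refine ⟨hb, ?_⟩
  intro hcon
  apply ha.2
  have := memLocalIdeal_sub hcon hab
  rwa [sub_sub_cancel] at this

/-- `p^d μ / p^{ht φ} = (μ |G| / φ(1)) u` with `u` a local unit, for `φ ∈ B`. -/
theorem exists_unit_ratio (hM : IsPModular p M) (B : Set (IrrCharacter G)) (φ : IrrCharacter G)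
    (hφ : φ ∈ B) :
    ∃ u : ℂ, LocUnit M u ∧ ∀ μ : ℂ,
      (p : ℂ) ^ blockDefect p B * μ / (p : ℂ) ^ blockHeight p B (φ : G → ℂ) =
        (μ * (Nat.card G : ℂ) / (charDegree (φ : G → ℂ) : ℂ)) * u := by
  have hp : p.Prime := hpp.out
  have hp0 : (p : ℂ) ≠ 0 := Nat.cast_ne_zero.mpr hp.ne_zero
  set a := (Nat.card G).factorization p with ha
  set m := minVal p B with hm
  set ν := (charDegree (φ : G → ℂ)).factorization p with hν
  have hma : m ≤ a := minVal_le_factorization_card ⟨φ, hφ⟩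
  have hmν : m ≤ ν := minVal_le hφ
  have hd : blockDefect p B = a - m := blockDefect_eq B
  have hh : blockHeight p B (φ : G → ℂ) = ν - m := rfl
  have hdpos : 0 < charDegree (φ : G → ℂ) := irr_charDegree_pos φ
  set G' := Nat.card G / p ^ a with hG'
  set φ' := charDegree (φ : G → ℂ) / p ^ ν with hφ'
  have hG1 : p ^ a * G' = Nat.card G := Nat.ordProj_mul_ordCompl_eq_self _ p
  have hφ1 : p ^ ν * φ' = charDegree (φ : G → ℂ) := Nat.ordProj_mul_ordCompl_eq_self _ p
  have hG'p : ¬ p ∣ G' := Nat.not_dvd_ordCompl hp Nat.card_pos.ne'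
  have hφ'p : ¬ p ∣ φ' := Nat.not_dvd_ordCompl hp hdpos.ne'
  have hG'0 : (G' : ℂ) ≠ 0 := by
    have : G' ≠ 0 := by rintro h0; rw [h0] at hG'p; exact hG'p (dvd_zero p)
    exact_mod_cast this
  have hφ'0 : (φ' : ℂ) ≠ 0 := by
    have : φ' ≠ 0 := by rintro h0; rw [h0] at hφ'p; exact hφ'p (dvd_zero p)
    exact_mod_cast this
  refine ⟨(φ' : ℂ) / (G' : ℂ), natCast_div_unit hM hφ'p hG'p, ?_⟩
  intro μ
  have hGc : (Nat.card G : ℂ) = (p : ℂ) ^ m * (p : ℂ) ^ (a - m) * (G' : ℂ) := by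
    rw [← pow_add, Nat.add_sub_cancel' hma, ← hG1]; push_cast; ring
  have hφc : (charDegree (φ : G → ℂ) : ℂ) = (p : ℂ) ^ m * (p : ℂ) ^ (ν - m) * (φ' : ℂ) := by
    rw [← pow_add, Nat.add_sub_cancel' hmν, ← hφ1]; push_cast; ring
  rw [hd, hh, hGc, hφc]
  have h1 : ((p : ℂ) ^ m) ≠ 0 := pow_ne_zero _ hp0
  have h2 : ((p : ℂ) ^ (ν - m)) ≠ 0 := pow_ne_zero _ hp0
  field_simp

/-- (H5) Brauer's (5H) for a major subsection, all heights, both index orders. -/
theorem contrib_5H (hM : IsPModular p M) (z : G) (hz : ∃ k : ℕ, orderOf z = p ^ k)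
    (C : Subgroup G) [Fintype C] (hC : C = Subgroup.centralizer ({z} : Set G))
    (B : Set (IrrCharacter G)) (e : Set (IrrCharacter C)) (hind : IsInducedBlock M C e B)
    (hdef : blockDefect p e = blockDefect p B) (χ ψ : IrrCharacter G) (hχ : χ ∈ B)
    (hχ0 : blockHeight p B (χ : G → ℂ) = 0) (hψ : ψ ∈ B) :
    LocUnit M ((p : ℂ) ^ blockDefect p B * contrib p C e z χ ψ /
        (p : ℂ) ^ blockHeight p B (ψ : G → ℂ)) ∧
      LocUnit M ((p : ℂ) ^ blockDefect p B * contrib p C e z ψ χ /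
        (p : ℂ) ^ blockHeight p B (ψ : G → ℂ)) := by
  have hprime : M.IsPrime := isPrime_of_isPModular hM
  have hp : p.Prime := hpp.out
  have he : IsPBlock M e := hind.1
  have hB : IsPBlock M B := hind.2.1
  -- the central element
  have hzC : z ∈ C := by
    rw [hC]; exact Subgroup.mem_centralizer_singleton_iff.mpr rfl
  have hcommC : ∀ c : G, c ∈ C → c * z = z * c := by
    intro c hc
    rw [hC, Subgroup.mem_centralizer_singleton_iff] at hc
    exact hc
  have hcen : (⟨z, hzC⟩ : C) ∈ Subgroup.center C := by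
    rw [Subgroup.mem_center_iff]
    intro g
    apply Subtype.ext
    exact hcommC g g.2
  set w : Subgroup.center C := ⟨⟨z, hzC⟩, hcen⟩ with hw
  have hwz : (((w : C) : G)) = z := rfl
  have hwp : ∃ k : ℕ, w ^ (p ^ k) = 1 := by
    obtain ⟨k₀, hk₀⟩ := hz
    refine ⟨k₀, ?_⟩
    apply Subtype.ext
    apply Subtype.ext
    simp only [hw, SubmonoidClass.mk_pow, OneMemClass.coe_one]
    rw [← hk₀, pow_orderOf_eq_one]
  -- the diagonal contribution is a unit
  have hdiag := contrib_unit hM C e B hind w hwp χ χ hχ hχ0 hχ hχ0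
  rw [hwz, hdef] at hdiag
  obtain ⟨uχ, huχ, hrχ⟩ := exists_unit_ratio hM B χ hχ
  obtain ⟨uψ, huψ, hrψ⟩ := exists_unit_ratio hM B ψ hψ
  -- `U = μ_{χχ} |G| / χ(1)` is a unit
  have hU : LocUnit M (contrib p C e z χ χ * (Nat.card G : ℂ) / (charDegree (χ : G → ℂ) : ℂ)) := by
    have h1 := hrχ (contrib p C e z χ χ)
    rw [hχ0, pow_zero, div_one] at h1
    -- `p^d μ = U uχ`, so `U = p^d μ uχ⁻¹`
    have huχ0 : uχ ≠ 0 := by
      intro h0
      apply huχ.2
      rw [h0]; exact memLocalIdeal_zero hprime.one_notMem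
    have hinvR : MemLocalRing M uχ⁻¹ := memLocalRing_inv huχ.1 huχ.2
    have hinvU : ¬ MemLocalIdeal M uχ⁻¹ := by
      intro hcon
      have := memLocalIdeal_mul_right hcon huχ.1
      rw [inv_mul_cancel₀ huχ0] at this
      exact not_memLocalIdeal_one this
    have h2 : contrib p C e z χ χ * (Nat.card G : ℂ) / (charDegree (χ : G → ℂ) : ℂ) =
        ((p : ℂ) ^ blockDefect p B * contrib p C e z χ χ) * uχ⁻¹ := by
      rw [h1, mul_assoc, mul_inv_cancel₀ huχ0, mul_one]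
    rw [h2]
    exact locUnit_mul hM ⟨hdiag.1, hdiag.2⟩ ⟨hinvR, hinvU⟩
  have hsame : SameBlock M (ψ : G → ℂ) (χ : G → ℂ) := sameBlock_of_mem hM hB hψ hχ
  constructor
  · rw [hrψ]
    apply locUnit_mul hM _ huψ
    exact locUnit_of_sub hM hU (contrib_div_right hM z hz C hC e he χ ψ)
      (contrib_div_right_sub hM z hz C hC e he χ ψ χ hsame)
  · rw [hrψ]
    apply locUnit_mul hM _ huψ
    exact locUnit_of_sub hM hU (contrib_div_left hM z hz C hC e he ψ χ)
      (contrib_div_left_sub hM z hz C hC e he ψ χ χ hsame)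

end h5

end Cfsg.Agent.Lib.Helper23.MajSubH5
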