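import Mathlib
import Cfsg.Agent.Lib.Helper23.SubsecG

/-!
helper23: the refined inequalities for the number of height zero characters of a `2`-block in terms
of a subsection.
-/

set_option autoImplicit false
set_option linter.unusedSectionVars false

namespace Cfsg.Agent.Lib.Helper23.Subsec

open Cfsg Cfsg.Agent.CharLib Cfsg.Agent.Lib.Helper24 Cfsg.Agent.Lib.Helper6 Cfsg.Agent.Lib.Helper23
open scoped ComplexConjugate

universe u w

section low

variable {G : Type u} [Group G] [Fintype G] {M : Ideal AlgInt} {p : ℕ} [hpp : Fact p.Prime]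

/-- The Galois sum of the squared norms of a scaled contribution between height zero characters is
at least the order of the Galois group. -/
theorem card_gal_le_sum_contrib (hM : IsPModular p M) (N : ℕ) [NeZero N] (K : Type w) [Field K]
    [Algebra ℚ K] [IsCyclotomicExtension {N} ℚ K] [FiniteDimensional ℚ K] [IsGalois ℚ K]
    (φ : K →+* ℂ) (C : Subgroup G) [Fintype C] (e : Set (IrrCharacter C))
    (B : Set (IrrCharacter G)) (hind : IsInducedBlock M C e B) (w : Subgroup.center C)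
    (hwN : w ^ N = 1) (hwp : ∃ j : ℕ, w ^ (p ^ j) = 1) (χ ψ : IrrCharacter G)
    (hχ : χ ∈ B) (hχ0 : blockHeight p B (χ : G → ℂ) = 0)
    (hψ : ψ ∈ B) (hψ0 : blockHeight p B (ψ : G → ℂ) = 0) :
    (Fintype.card (K ≃ₐ[ℚ] K) : ℝ) ≤ ∑ σ : K ≃ₐ[ℚ] K,
      ‖(p : ℂ) ^ blockDefect p e *
        contrib p C e ((((w ^ galExp N K σ : Subgroup.center C) : C) : G)) χ ψ‖ ^ 2 := by
  classical
  let _ := fintypeIrr C
  have hprime : M.IsPrime := isPrime_of_isPModular hM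
  have hp : p.Prime := hpp.out
  have he : IsPBlock M e := hind.1
  have hne : e.Nonempty := by
    obtain ⟨χ₁, h⟩ := he
    exact ⟨χ₁, by rw [h]; exact mem_blockOf_self χ₁⟩
  set q := blockDefect p e with hq
  set m := minVal p e with hm
  set a := (Nat.card C).factorization p with ha
  have hma : m ≤ a := minVal_le_factorization_card hne
  have hqam : q = a - m := blockDefect_eq e
  obtain ⟨y, hyint, hyσ⟩ := exists_lift (p := p) N K φ C e w hwN χ ψ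
  have hval : ∀ σ : K ≃ₐ[ℚ] K, φ (σ y) / (p : ℂ) ^ m =
      (p : ℂ) ^ q * contrib p C e ((((w ^ galExp N K σ : Subgroup.center C) : C) : G)) χ ψ := by
    intro σ
    rw [hyσ σ, ← ha]
    have hpm0 : ((p : ℂ) ^ m) ≠ 0 := pow_ne_zero _ (Nat.cast_ne_zero.mpr hp.ne_zero)
    have hpa : ((p ^ a : ℕ) : ℂ) = (p : ℂ) ^ q * (p : ℂ) ^ m := by
      rw [hqam, ← pow_add, Nat.sub_add_cancel hma]; push_cast; ring
    rw [hpa]
    field_simp
  have hunit : ∀ σ : K ≃ₐ[ℚ] K,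
      MemLocalRing M ((p : ℂ) ^ q *
        contrib p C e ((((w ^ galExp N K σ : Subgroup.center C) : C) : G)) χ ψ) ∧
      ¬ MemLocalIdeal M ((p : ℂ) ^ q *
        contrib p C e ((((w ^ galExp N K σ : Subgroup.center C) : C) : G)) χ ψ) := by
    intro σ
    obtain ⟨j, hj⟩ := hwp
    exact contrib_unit hM C e B hind (w ^ galExp N K σ)
      ⟨j, by rw [← pow_mul, mul_comm, pow_mul, hj, one_pow]⟩ χ ψ hχ hχ0 hψ hψ0
  have hy0 : y ≠ 0 := by
    intro h0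
    have h1 := hval AlgEquiv.refl
    rw [h0] at h1
    simp only [map_zero, zero_div] at h1
    apply (hunit AlgEquiv.refl).2
    rw [← h1]
    exact memLocalIdeal_zero hprime.one_notMem
  have h2 := card_gal_le_sum_norm_sq_local hM K φ y hyint hy0 m (fun σ => by
    rw [hval σ]; exact (hunit σ).1)
  refine le_trans h2 (le_of_eq ?_)
  apply Finset.sum_congr rfl
  intro σ _
  rw [hval σ]

end low

section two

variable {G : Type u} [Group G] [Fintype G] {M : Ideal AlgInt}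

/-- **Refined inequalities for `p = 2`**: for a subsection `(z, b)` of the `2`-block `B` and a
nonempty set `B₀` of characters of height zero of `B` there is an odd natural number `x` with
`|B₀| x ≤ 2^q l(b)` and `|B₀| + x² ≤ 2^q x + 1`, where `q` is the defect of `b`. -/
theorem two_heightZero_bounds (hM : IsPModular 2 M) (z : G) (hz : ∃ k : ℕ, orderOf z = 2 ^ k)
    (B : Set (IrrCharacter G)) (hB : IsPBlock M B)
    (b : Set (IrrCharacter (Subgroup.centralizer ({z} : Set G))))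
    (hind : IsInducedBlock M (Subgroup.centralizer ({z} : Set G)) b B)
    [Fintype (IrrCharacter G)] (B₀ : Finset (IrrCharacter G))
    (hB₀ : ∀ χ ∈ B₀, χ ∈ B ∧ blockHeight 2 B (χ : G → ℂ) = 0) (hne₀ : B₀.Nonempty) :
    ∃ x : ℕ, Odd x ∧ B₀.card * x ≤ 2 ^ blockDefect 2 b * blockRank 2 b ∧
      B₀.card + x ^ 2 ≤ 2 ^ blockDefect 2 b * x + 1 := by
  classical
  have hprime : M.IsPrime := isPrime_of_isPModular hM
  have hp : (2 : ℕ).Prime := Nat.prime_two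
  set C := Subgroup.centralizer ({z} : Set G) with hCdef
  let _ : Fintype C := Fintype.ofFinite C
  let _ := fintypeIrr C
  obtain ⟨ψ₀, hb⟩ := hind.1
  subst hb
  set e := blockOf M (ψ₀ : C → ℂ) with he
  set N := Nat.card G with hN
  have : NeZero N := ⟨Nat.card_pos.ne'⟩
  obtain ⟨K, _, _, _, ⟨φ⟩⟩ := exists_cyclotomic_field N
  have : FiniteDimensional ℚ K := IsCyclotomicExtension.finiteDimensional {N} ℚ K
  have : IsGalois ℚ K := IsCyclotomicExtension.isGalois {N} ℚ K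
  -- the central element
  have hzC : z ∈ C := Subgroup.mem_centralizer_singleton_iff.mpr rfl
  set zC : C := ⟨z, hzC⟩ with hzCdef
  have hcen : zC ∈ Subgroup.center C := by
    rw [Subgroup.mem_center_iff]
    intro g
    apply Subtype.ext
    have := Subgroup.mem_centralizer_singleton_iff.mp g.2
    exact this
  set w : Subgroup.center C := ⟨zC, hcen⟩ with hw
  have hwcoe : ∀ k : ℕ, ((((w ^ k : Subgroup.center C) : C) : G)) = z ^ k := by
    intro k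
    simp [hw, hzCdef]
  have hwN : w ^ N = 1 := by
    apply Subtype.ext
    apply Subtype.ext
    rw [hwcoe]
    simp only [OneMemClass.coe_one]
    rw [hN]
    exact pow_card_eq_one'
  obtain ⟨k₀, hk₀⟩ := hz
  have hwp : ∃ j : ℕ, w ^ (2 ^ j) = 1 := by
    refine ⟨k₀, ?_⟩
    apply Subtype.ext
    apply Subtype.ext
    rw [hwcoe]
    simp only [OneMemClass.coe_one]
    rw [← hk₀, pow_orderOf_eq_one]
  set Bf := Finset.univ.filter (fun χ : IrrCharacter G => χ ∈ B) with hBf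
  have hsub : B₀ ⊆ Bf := by
    intro χ hχ
    rw [hBf, Finset.mem_filter]
    exact ⟨Finset.mem_univ _, (hB₀ χ hχ).1⟩
  set q := blockDefect 2 e with hq
  set l := blockRank 2 e with hl
  set f := Fintype.card (K ≃ₐ[ℚ] K) with hf
  have hfpos : (0 : ℝ) < (f : ℝ) := by exact_mod_cast (Fintype.card_pos : 0 < f)
  have h2q : (0 : ℝ) < (2 : ℝ) ^ q := by positivity
  set μ : (K ≃ₐ[ℚ] K) → IrrCharacter G → IrrCharacter G → ℂ := fun σ χ ψ =>
    contrib 2 C e (z ^ galExp N K σ) χ ψ with hμ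
  set dd : (K ≃ₐ[ℚ] K) → IrrCharacter G → ℝ := fun σ χ => ∑ ψ ∈ Bf, ‖μ σ χ ψ‖ ^ 2 with hdd
  have hddnn : ∀ σ χ, 0 ≤ dd σ χ := fun σ χ => Finset.sum_nonneg (fun ψ _ => by positivity)
  -- data for the powers of `z`
  have hzk : ∀ σ : K ≃ₐ[ℚ] K, ∃ j : ℕ, orderOf (z ^ galExp N K σ) = 2 ^ j := by
    intro σ
    have h1 : orderOf (z ^ galExp N K σ) ∣ 2 ^ k₀ := by rw [← hk₀]; exact orderOf_pow_dvd _
    obtain ⟨j, -, hj⟩ := (Nat.dvd_prime_pow hp).mp h1
    exact ⟨j, hj⟩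
  have hCk : ∀ σ : K ≃ₐ[ℚ] K, C = Subgroup.centralizer ({z ^ galExp N K σ} : Set G) := by
    intro σ
    have hcop : (galExp N K σ).Coprime (orderOf z) :=
      Nat.Coprime.coprime_dvd_right (orderOf_dvd_natCard z) (galExp_coprime N K σ)
    exact (centralizer_pow_eq z _ hcop).symm
  have hddc : ∀ σ χ, ((dd σ χ : ℝ) : ℂ) = μ σ χ χ := by
    intro σ χ
    exact sum_contrib_normSq hM (z ^ galExp N K σ) (hzk σ) C (hCk σ) B hB ψ₀ hind χ
  have hnorm : ∀ σ χ, ‖μ σ χ χ‖ = dd σ χ := by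
    intro σ χ
    rw [← hddc, Complex.norm_real, Real.norm_eq_abs, abs_of_nonneg (hddnn σ χ)]
  have htrace : ∀ σ, ∑ χ ∈ Bf, dd σ χ = (l : ℝ) := by
    intro σ
    have h1 := sum_contrib_diag hM (z ^ galExp N K σ) (hzk σ) C (hCk σ) B hB ψ₀ hind
    have h2 : ((∑ χ ∈ Bf, dd σ χ : ℝ) : ℂ) = ((l : ℝ) : ℂ) := by
      push_cast
      simp_rw [hddc]
      exact h1
    exact_mod_cast h2
  -- the odd integers
  have hxex : ∀ χ : IrrCharacter G, ∃ x : ℤ, χ ∈ B₀ → (Odd x ∧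
      (2 : ℝ) ^ q * ∑ σ : K ≃ₐ[ℚ] K, dd σ χ = (f : ℝ) * (x : ℝ)) := by
    intro χ
    by_cases hχ : χ ∈ B₀
    · obtain ⟨x, hxodd, hx⟩ := exists_odd_trace hM N K C e B hind w hwN hwp χ (hB₀ χ hχ).1
        (hB₀ χ hχ).2
      refine ⟨x, fun _ => ⟨hxodd, ?_⟩⟩
      have h2 : (((2 : ℝ) ^ q * ∑ σ : K ≃ₐ[ℚ] K, dd σ χ : ℝ) : ℂ) = (((f : ℝ) * (x : ℝ) : ℝ) : ℂ) := by
        push_cast
        rw [← hx, Finset.mul_sum]
        apply Finset.sum_congr rfl
        intro σ _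
        rw [hwcoe, hddc]
      exact_mod_cast h2
    · exact ⟨0, fun h => absurd h hχ⟩
  choose xf hxf using hxex
  -- lower bounds for the off-diagonal contributions
  have hoff : ∀ χ ∈ B₀, ∀ ψ ∈ B₀, (f : ℝ) ≤ ((2 : ℝ) ^ q) ^ 2 * ∑ σ : K ≃ₐ[ℚ] K, ‖μ σ χ ψ‖ ^ 2 := by
    intro χ hχ ψ hψ
    have h1 := card_gal_le_sum_contrib hM N K φ C e B hind w hwN hwp χ ψ (hB₀ χ hχ).1 (hB₀ χ hχ).2
      (hB₀ ψ hψ).1 (hB₀ ψ hψ).2
    refine le_trans h1 (le_of_eq ?_)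
    rw [Finset.mul_sum]
    apply Finset.sum_congr rfl
    intro σ _
    rw [hwcoe, norm_mul, mul_pow, norm_pow]
    simp only [Nat.cast_ofNat, Complex.norm_ofNat]
    rfl
  -- the row inequality
  have hrow : ∀ σ, ∀ χ ∈ B₀, (dd σ χ) ^ 2 + ∑ ψ ∈ B₀.erase χ, ‖μ σ χ ψ‖ ^ 2 ≤ dd σ χ := by
    intro σ χ hχ
    have h1 : ∑ ψ ∈ B₀, ‖μ σ χ ψ‖ ^ 2 ≤ dd σ χ :=
      Finset.sum_le_sum_of_subset_of_nonneg hsub (fun ψ _ _ => by positivity)
    rw [← Finset.add_sum_erase B₀ _ hχ, hnorm] at h1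
    exact h1
  -- the main inequality for each `χ ∈ B₀`
  have hmain : ∀ χ ∈ B₀, ((B₀.card : ℝ) - 1) + (xf χ : ℝ) ^ 2 ≤ (2 : ℝ) ^ q * (xf χ : ℝ) := by
    intro χ hχ
    obtain ⟨-, hx⟩ := hxf χ hχ
    set D := ∑ σ : K ≃ₐ[ℚ] K, dd σ χ with hD
    have h1 : ∑ σ : K ≃ₐ[ℚ] K, (dd σ χ) ^ 2 +
        ∑ ψ ∈ B₀.erase χ, ∑ σ : K ≃ₐ[ℚ] K, ‖μ σ χ ψ‖ ^ 2 ≤ D := by
      rw [Finset.sum_comm, ← Finset.sum_add_distrib]
      exact Finset.sum_le_sum (fun σ _ => hrow σ χ hχ)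
    have h2 : D ^ 2 ≤ (f : ℝ) * ∑ σ : K ≃ₐ[ℚ] K, (dd σ χ) ^ 2 := by
      have := sq_sum_le_card_mul_sum_sq (s := (Finset.univ : Finset (K ≃ₐ[ℚ] K)))
        (f := fun σ => dd σ χ)
      simpa [Finset.card_univ, hf] using this
    have h3 : ((B₀.card : ℝ) - 1) * (f : ℝ) ≤
        ((2 : ℝ) ^ q) ^ 2 * ∑ ψ ∈ B₀.erase χ, ∑ σ : K ≃ₐ[ℚ] K, ‖μ σ χ ψ‖ ^ 2 := by
      rw [Finset.mul_sum]
      have h4 : ((B₀.card : ℝ) - 1) * (f : ℝ) = ∑ ψ ∈ B₀.erase χ, (f : ℝ) := by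
        rw [Finset.sum_const, Finset.card_erase_of_mem hχ, nsmul_eq_mul]
        have : 1 ≤ B₀.card := Finset.card_pos.mpr ⟨χ, hχ⟩
        push_cast [Nat.cast_sub this]
        ring
      rw [h4]
      apply Finset.sum_le_sum
      intro ψ hψ
      exact hoff χ hχ ψ (Finset.mem_of_mem_erase hψ)
    -- combine: `D = f x / 2^q`
    have hDx : (2 : ℝ) ^ q * D = (f : ℝ) * (xf χ : ℝ) := hx
    have h5 : ((2 : ℝ) ^ q) ^ 2 * D ≥
        ((2 : ℝ) ^ q) ^ 2 * ∑ σ : K ≃ₐ[ℚ] K, (dd σ χ) ^ 2 + ((B₀.card : ℝ) - 1) * (f : ℝ) := by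
      have := mul_le_mul_of_nonneg_left h1 (by positivity : (0 : ℝ) ≤ ((2 : ℝ) ^ q) ^ 2)
      rw [mul_add] at this
      linarith
    have h6 : ((2 : ℝ) ^ q) ^ 2 * D ^ 2 ≤ (f : ℝ) * (((2 : ℝ) ^ q) ^ 2 *
        ∑ σ : K ≃ₐ[ℚ] K, (dd σ χ) ^ 2) := by
      have := mul_le_mul_of_nonneg_left h2 (by positivity : (0 : ℝ) ≤ ((2 : ℝ) ^ q) ^ 2)
      linarith
    -- substitute
    have h7 : ((2 : ℝ) ^ q) ^ 2 * D ^ 2 = ((f : ℝ) * (xf χ : ℝ)) ^ 2 := by
      rw [← hDx]; ring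
    have h8 : ((2 : ℝ) ^ q) ^ 2 * D = (2 : ℝ) ^ q * ((f : ℝ) * (xf χ : ℝ)) := by
      rw [← hDx]; ring
    rw [h7] at h6
    rw [h8] at h5
    -- `f x² ≤ 2^{2q} Σ dd²` and `2^q f x ≥ 2^{2q} Σ dd² + (k₀ - 1) f`
    have h9 : (f : ℝ) * ((xf χ : ℝ) ^ 2 + ((B₀.card : ℝ) - 1)) ≤
        (f : ℝ) * ((2 : ℝ) ^ q * (xf χ : ℝ)) := by
      have h10 : (f : ℝ) * ((f : ℝ) * (xf χ : ℝ) ^ 2) ≤ (f : ℝ) * (((2 : ℝ) ^ q) ^ 2 *
          ∑ σ : K ≃ₐ[ℚ] K, (dd σ χ) ^ 2) := by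
        calc (f : ℝ) * ((f : ℝ) * (xf χ : ℝ) ^ 2) = ((f : ℝ) * (xf χ : ℝ)) ^ 2 := by ring
          _ ≤ _ := h6
      have h11 := le_of_mul_le_mul_left h10 hfpos
      nlinarith
    have h12 := le_of_mul_le_mul_left h9 hfpos
    linarith
  -- the sum of the `x`'s
  have hsumx : ∑ χ ∈ B₀, (xf χ : ℝ) ≤ (2 : ℝ) ^ q * (l : ℝ) := by
    have h1 : ∑ χ ∈ B₀, ∑ σ : K ≃ₐ[ℚ] K, dd σ χ ≤ (f : ℝ) * (l : ℝ) := by
      rw [Finset.sum_comm]
      have : (f : ℝ) * (l : ℝ) = ∑ σ : K ≃ₐ[ℚ] K, (l : ℝ) := by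
        rw [Finset.sum_const, Finset.card_univ, nsmul_eq_mul]
      rw [this]
      apply Finset.sum_le_sum
      intro σ _
      rw [← htrace σ]
      exact Finset.sum_le_sum_of_subset_of_nonneg hsub (fun χ _ _ => hddnn σ χ)
    have h2 : (f : ℝ) * ∑ χ ∈ B₀, (xf χ : ℝ) = (2 : ℝ) ^ q * ∑ χ ∈ B₀, ∑ σ : K ≃ₐ[ℚ] K, dd σ χ := by
      rw [Finset.mul_sum, Finset.mul_sum]
      apply Finset.sum_congr rfl
      intro χ hχ
      exact ((hxf χ hχ).2).symm
    have h3 : (f : ℝ) * ∑ χ ∈ B₀, (xf χ : ℝ) ≤ (f : ℝ) * ((2 : ℝ) ^ q * (l : ℝ)) := by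
      rw [h2]
      have := mul_le_mul_of_nonneg_left h1 h2q.le
      linarith
    exact le_of_mul_le_mul_left h3 hfpos
  -- nonnegativity of the `x`'s
  have hxnn : ∀ χ ∈ B₀, 0 ≤ xf χ := by
    intro χ hχ
    obtain ⟨-, hx⟩ := hxf χ hχ
    have h1 : 0 ≤ (2 : ℝ) ^ q * ∑ σ : K ≃ₐ[ℚ] K, dd σ χ :=
      mul_nonneg h2q.le (Finset.sum_nonneg (fun σ _ => hddnn σ χ))
    rw [hx] at h1
    have h2 : (0 : ℝ) ≤ (xf χ : ℝ) := by
      by_contra hneg
      push Not at hneg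
      have := mul_neg_of_pos_of_neg hfpos hneg
      linarith
    exact_mod_cast h2
  -- the minimal `x`
  obtain ⟨χ₀, hχ₀, hmin⟩ := Finset.exists_min_image B₀ xf hne₀
  obtain ⟨hodd, -⟩ := hxf χ₀ hχ₀
  have hx0 := hxnn χ₀ hχ₀
  refine ⟨(xf χ₀).toNat, ?_, ?_, ?_⟩
  · have : ((xf χ₀).toNat : ℤ) = xf χ₀ := Int.toNat_of_nonneg hx0
    rw [← Int.odd_coe_nat, this]
    exact hodd
  · have h1 : (B₀.card : ℝ) * (xf χ₀ : ℝ) ≤ ∑ χ ∈ B₀, (xf χ : ℝ) := by
      have : (B₀.card : ℝ) * (xf χ₀ : ℝ) = ∑ χ ∈ B₀, (xf χ₀ : ℝ) := by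
        rw [Finset.sum_const, nsmul_eq_mul]
      rw [this]
      apply Finset.sum_le_sum
      intro χ hχ
      exact_mod_cast hmin χ hχ
    have h2 := le_trans h1 hsumx
    have h3 : ((xf χ₀).toNat : ℝ) = (xf χ₀ : ℝ) := by
      have : ((xf χ₀).toNat : ℤ) = xf χ₀ := Int.toNat_of_nonneg hx0
      exact_mod_cast this
    have h4 : ((B₀.card * (xf χ₀).toNat : ℕ) : ℝ) ≤ ((2 ^ q * l : ℕ) : ℝ) := by
      push_cast
      rw [h3]
      exact h2
    exact_mod_cast h4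
  · have h1 := hmain χ₀ hχ₀
    have h3 : ((xf χ₀).toNat : ℝ) = (xf χ₀ : ℝ) := by
      have : ((xf χ₀).toNat : ℤ) = xf χ₀ := Int.toNat_of_nonneg hx0
      exact_mod_cast this
    have h4 : ((B₀.card + (xf χ₀).toNat ^ 2 : ℕ) : ℝ) ≤ ((2 ^ q * (xf χ₀).toNat + 1 : ℕ) : ℝ) := by
      push_cast
      rw [h3]
      linarith
    exact_mod_cast h4

end two

/-- The arithmetic behind the refined bounds for `p = 2`. -/
theorem two_subsec_arith (k x Q l s : ℕ) (hs1 : s * s ≤ l) (hs2 : l < (s + 1) * (s + 1))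
    (hx : Odd x) (hA : k * x ≤ Q * l) (hB : k + x ^ 2 ≤ Q * x + 1) :
    (Odd s → k ≤ s * Q) ∧ (¬ Odd s → (s + 1) * k ≤ l * Q) ∧ (l ≤ 3 → k ≤ Q) := by
  have hx1 : 1 ≤ x := hx.pos
  have hkQx : k ≤ Q * x := by nlinarith
  have hodd : Odd s → k ≤ s * Q := by
    intro hs
    rcases le_or_gt x s with hxs | hxs
    · calc k ≤ Q * x := hkQx
        _ ≤ Q * s := Nat.mul_le_mul_left _ hxs
        _ = s * Q := Nat.mul_comm _ _
    · have hx2 : s + 2 ≤ x := by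
        obtain ⟨a, ha⟩ := hx
        obtain ⟨c, hc⟩ := hs
        omega
      have h1 : k * (s + 2) ≤ Q * l := le_trans (Nat.mul_le_mul_left _ hx2) hA
      have h2 : l + 1 ≤ (s + 1) * (s + 1) := hs2
      have h3 : Q * l ≤ Q * (s * (s + 2)) := by
        apply Nat.mul_le_mul_left
        nlinarith
      have h4 : k * (s + 2) ≤ (s * Q) * (s + 2) := by
        calc k * (s + 2) ≤ Q * l := h1
          _ ≤ Q * (s * (s + 2)) := h3
          _ = (s * Q) * (s + 2) := by ring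
      exact Nat.le_of_mul_le_mul_right h4 (by omega)
  refine ⟨hodd, ?_, ?_⟩
  · intro hs
    rcases le_or_gt (s + 1) x with hxs | hxs
    · calc (s + 1) * k ≤ x * k := Nat.mul_le_mul_right _ hxs
        _ = k * x := Nat.mul_comm _ _
        _ ≤ Q * l := hA
        _ = l * Q := Nat.mul_comm _ _
    · have hs' : Even s := Nat.not_odd_iff_even.mp hs
      have hx2 : x + 1 ≤ s := by
        obtain ⟨a, ha⟩ := hx
        obtain ⟨c, hc⟩ := hs'
        omega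
      obtain ⟨t, rfl⟩ : ∃ t, s = t + 1 := ⟨s - 1, by omega⟩
      have hxt : x ≤ t := by omega
      have h1 : k ≤ Q * t := le_trans hkQx (Nat.mul_le_mul_left _ hxt)
      have h2 : (t + 1 + 1) * k ≤ (t + 1 + 1) * (Q * t) := Nat.mul_le_mul_left _ h1
      have h3 : (t + 1 + 1) * (Q * t) ≤ l * Q := by
        have : t * (t + 2) ≤ l := by nlinarith
        calc (t + 1 + 1) * (Q * t) = (t * (t + 2)) * Q := by ring
          _ ≤ l * Q := Nat.mul_le_mul_right _ this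
      exact le_trans h2 h3
  · intro hl
    rcases Nat.eq_zero_or_pos l with h0 | hpos
    · subst h0
      have : k * x = 0 := by simpa using hA
      rcases Nat.mul_eq_zero.mp this with h | h
      · omega
      · omega
    · have hs1' : s = 1 := by
        have h1 : s < 2 := by
          by_contra h
          push Not at h
          nlinarith
        have h2 : 0 < s := by
          by_contra h
          push Not at h
          have : s = 0 := by omega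
          subst this
          omega
        omega
      have := hodd (by rw [hs1']; exact odd_one)
      rw [hs1', one_mul] at this
      exact this

end Cfsg.Agent.Lib.Helper23.Subsec
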