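/-
helper23: consequences of Brauer's (5H) for a major subsection `(z, e)` of `B`:
* (LI) for `ψ ∈ B` of positive height and every `ψ' ∈ B`, `p^d μ_{ψψ'} / p^{ht ψ'}` and
  `p^d μ_{ψ'ψ} / p^{ht ψ'}` lie in the local ideal (in particular `p^d μ_{ψψ} / p^{ht ψ}`);
* (GB) for `χ₀ ∈ B` of height zero and `ψ ∈ B`: the Galois sum of `|p^d μ_{χ₀ψ}|²` over the subsections
  `(z^k, e)` is at least `|Gal| p^{2 ht ψ}`.
-/
import Mathlib
import Cfsg.Agent.Lib.Helper23.MajSubH5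

set_option autoImplicit false
set_option linter.unusedSectionVars false

namespace Cfsg.Agent.Lib.Helper23.MajSubLI

open Cfsg Cfsg.Agent.CharLib Cfsg.Agent.Lib.Helper24 Cfsg.Agent.Lib.Helper6 Cfsg.Agent.Lib.Helper23
open Cfsg.Agent.Lib.Helper23.Subsec Cfsg.Agent.Lib.Helper27.MajSub
open Cfsg.Agent.Lib.Helper23.MajSubOM Cfsg.Agent.Lib.Helper23.MajSubH5
open scoped ComplexConjugate

universe u w

section li

variable {G : Type u} [Group G] [Fintype G] {M : Ideal AlgInt} {p : ℕ} [hpp : Fact p.Prime]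

/-- A block contains a character of height zero. -/
theorem exists_heightZero (B : Set (IrrCharacter G)) (hne : B.Nonempty) :
    ∃ χ₀ ∈ B, blockHeight p B (χ₀ : G → ℂ) = 0 := by
  obtain ⟨χ₀, hχ₀, hmin⟩ := exists_minVal (p := p) hne
  exact ⟨χ₀, hχ₀, (blockHeight_eq_zero_iff hχ₀).mpr hmin⟩

theorem memLocalIdeal_pow_of_pos (hM : IsPModular p M) {h : ℕ} (hh : 0 < h) :
    MemLocalIdeal M ((p : ℂ) ^ h) := by
  have hprime : M.IsPrime := isPrime_of_isPModular hM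
  obtain ⟨k, rfl⟩ : ∃ k, h = k + 1 := ⟨h - 1, by omega⟩
  rw [pow_succ]
  apply memLocalIdeal_mul_left _ (memLocalIdeal_natCast_prime hM)
  have : ((p : ℂ) ^ k) = ((p ^ k : ℕ) : ℂ) := by push_cast; rfl
  rw [this]
  exact memLocalRing_natCast _

/-- (LI), general form. -/
theorem contrib_height_memLocalIdeal (hM : IsPModular p M) (z : G)
    (hz : ∃ k : ℕ, orderOf z = p ^ k)
    (C : Subgroup G) [Fintype C] (hC : C = Subgroup.centralizer ({z} : Set G))
    (B : Set (IrrCharacter G)) (e : Set (IrrCharacter C)) (hind : IsInducedBlock M C e B)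
    (hdef : blockDefect p e = blockDefect p B) (ψ ψ' : IrrCharacter G) (hψ : ψ ∈ B)
    (hh : 0 < blockHeight p B (ψ : G → ℂ)) (hψ' : ψ' ∈ B) :
    MemLocalIdeal M ((p : ℂ) ^ blockDefect p B * contrib p C e z ψ ψ' /
        (p : ℂ) ^ blockHeight p B (ψ' : G → ℂ)) ∧
      MemLocalIdeal M ((p : ℂ) ^ blockDefect p B * contrib p C e z ψ' ψ /
        (p : ℂ) ^ blockHeight p B (ψ' : G → ℂ)) := by
  have hprime : M.IsPrime := isPrime_of_isPModular hM
  have hp : p.Prime := hpp.out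
  have hp0 : (p : ℂ) ≠ 0 := Nat.cast_ne_zero.mpr hp.ne_zero
  have he : IsPBlock M e := hind.1
  have hB : IsPBlock M B := hind.2.1
  obtain ⟨χ₀, hχ₀, hχ₀0⟩ := exists_heightZero (p := p) B ⟨ψ, hψ⟩
  obtain ⟨u', hu', hr'⟩ := exists_unit_ratio hM B ψ' hψ'
  obtain ⟨u₀, hu₀, hr₀⟩ := exists_unit_ratio hM B χ₀ hχ₀
  have hu₀0 : u₀ ≠ 0 := by
    intro h0
    apply hu₀.2
    rw [h0]; exact memLocalIdeal_zero hprime.one_notMem
  have hinvR : MemLocalRing M u₀⁻¹ := memLocalRing_inv hu₀.1 hu₀.2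
  have h5 := contrib_5H hM z hz C hC B e hind hdef χ₀ ψ hχ₀ hχ₀0 hψ
  have hsame : SameBlock M (ψ' : G → ℂ) (χ₀ : G → ℂ) := sameBlock_of_mem hM hB hψ' hχ₀
  set h := blockHeight p B (ψ : G → ℂ) with hhdef
  have hph0 : ((p : ℂ) ^ h) ≠ 0 := pow_ne_zero _ hp0
  have hphI : MemLocalIdeal M ((p : ℂ) ^ h) := memLocalIdeal_pow_of_pos hM hh
  -- `μ |G| / χ₀(1)` lies in the ideal when `p^d μ / p^h` is a local integer
  have key : ∀ μ : ℂ, MemLocalRing M ((p : ℂ) ^ blockDefect p B * μ / (p : ℂ) ^ h) →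
      MemLocalIdeal M (μ * (Nat.card G : ℂ) / (charDegree (χ₀ : G → ℂ) : ℂ)) := by
    intro μ hμ
    have h1 := hr₀ μ
    rw [hχ₀0, pow_zero, div_one] at h1
    have h2 : μ * (Nat.card G : ℂ) / (charDegree (χ₀ : G → ℂ) : ℂ) =
        (p : ℂ) ^ h * (((p : ℂ) ^ blockDefect p B * μ / (p : ℂ) ^ h) * u₀⁻¹) := by
      have h3 : (p : ℂ) ^ h * (((p : ℂ) ^ blockDefect p B * μ / (p : ℂ) ^ h) * u₀⁻¹) =
          ((p : ℂ) ^ blockDefect p B * μ) * u₀⁻¹ := by
        field_simp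
      rw [h3, h1, mul_assoc, mul_inv_cancel₀ hu₀0, mul_one]
    rw [h2]
    exact memLocalIdeal_mul_right hphI (memLocalRing_mul hμ hinvR)
  constructor
  · rw [hr']
    apply memLocalIdeal_mul_right _ hu'.1
    have h1 := contrib_div_right_sub hM z hz C hC e he ψ ψ' χ₀ hsame
    have h2 := key (contrib p C e z ψ χ₀) h5.2.1
    have := memLocalIdeal_add h1 h2
    rwa [sub_add_cancel] at this
  · rw [hr']
    apply memLocalIdeal_mul_right _ hu'.1
    have h1 := contrib_div_left_sub hM z hz C hC e he ψ' χ₀ ψ hsame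
    have h2 := key (contrib p C e z χ₀ ψ) h5.1.1
    have := memLocalIdeal_add h1 h2
    rwa [sub_add_cancel] at this

/-- (LI) `p^d μ_{ψψ} / p^{ht ψ}` lies in the local ideal for `ψ` of positive height. -/
theorem contrib_diag_memLocalIdeal (hM : IsPModular p M) (z : G)
    (hz : ∃ k : ℕ, orderOf z = p ^ k)
    (C : Subgroup G) [Fintype C] (hC : C = Subgroup.centralizer ({z} : Set G))
    (B : Set (IrrCharacter G)) (e : Set (IrrCharacter C)) (hind : IsInducedBlock M C e B)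
    (hdef : blockDefect p e = blockDefect p B) (ψ : IrrCharacter G) (hψ : ψ ∈ B)
    (hh : 0 < blockHeight p B (ψ : G → ℂ)) :
    MemLocalIdeal M ((p : ℂ) ^ blockDefect p B * contrib p C e z ψ ψ /
        (p : ℂ) ^ blockHeight p B (ψ : G → ℂ)) :=
  (contrib_height_memLocalIdeal hM z hz C hC B e hind hdef ψ ψ hψ hh hψ).1

end li

section gb

variable {G : Type u} [Group G] [Fintype G] {M : Ideal AlgInt} {p : ℕ} [hpp : Fact p.Prime]

/-- (GB) for `χ` of height zero and `ψ ∈ B`, the Galois sum of the squared norms of the scaled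
contributions `p^d μ_{χψ}` of the subsections `(z^k, e)` is at least `|Gal| p^{2 ht ψ}`; the same for
`μ_{ψχ}`. -/
theorem card_gal_mul_pow_le_sum_contrib (hM : IsPModular p M) (N : ℕ) [NeZero N] (K : Type w)
    [Field K] [Algebra ℚ K] [IsCyclotomicExtension {N} ℚ K] [FiniteDimensional ℚ K]
    [IsGalois ℚ K] (φ : K →+* ℂ) (z : G) (hz : ∃ k : ℕ, orderOf z = p ^ k) (hzN : z ^ N = 1)
    (C : Subgroup G) [Fintype C] (hC : C = Subgroup.centralizer ({z} : Set G))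
    (B : Set (IrrCharacter G)) (e : Set (IrrCharacter C)) (hind : IsInducedBlock M C e B)
    (hdef : blockDefect p e = blockDefect p B) (χ ψ : IrrCharacter G) (hχ : χ ∈ B)
    (hχ0 : blockHeight p B (χ : G → ℂ) = 0) (hψ : ψ ∈ B) :
    (Fintype.card (K ≃ₐ[ℚ] K) : ℝ) * (p : ℝ) ^ (2 * blockHeight p B (ψ : G → ℂ)) ≤
        ∑ σ : K ≃ₐ[ℚ] K,
          ‖(p : ℂ) ^ blockDefect p B * contrib p C e (z ^ galExp N K σ) χ ψ‖ ^ 2 ∧
      (Fintype.card (K ≃ₐ[ℚ] K) : ℝ) * (p : ℝ) ^ (2 * blockHeight p B (ψ : G → ℂ)) ≤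
        ∑ σ : K ≃ₐ[ℚ] K,
          ‖(p : ℂ) ^ blockDefect p B * contrib p C e (z ^ galExp N K σ) ψ χ‖ ^ 2 := by
  classical
  let _ := fintypeIrr C
  have hprime : M.IsPrime := isPrime_of_isPModular hM
  have hp : p.Prime := hpp.out
  have hp0 : (p : ℂ) ≠ 0 := Nat.cast_ne_zero.mpr hp.ne_zero
  have he : IsPBlock M e := hind.1
  have hne : e.Nonempty := by
    obtain ⟨χ₁, h⟩ := he
    exact ⟨χ₁, by rw [h]; exact mem_blockOf_self χ₁⟩
  set d := blockDefect p B with hd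
  set h := blockHeight p B (ψ : G → ℂ) with hh
  set m := minVal p e with hm
  set a := (Nat.card C).factorization p with ha
  have hma : m ≤ a := minVal_le_factorization_card hne
  have hdam : d = a - m := by rw [← hdef]; exact blockDefect_eq e
  -- the central element
  have hcommC : ∀ c : G, c ∈ C → c * z = z * c := by
    intro c hc
    rw [hC, Subgroup.mem_centralizer_singleton_iff] at hc
    exact hc
  have hzC : z ∈ C := by
    rw [hC]; exact Subgroup.mem_centralizer_singleton_iff.mpr rfl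
  have hcen : (⟨z, hzC⟩ : C) ∈ Subgroup.center C := by
    rw [Subgroup.mem_center_iff]
    intro g
    apply Subtype.ext
    exact hcommC g g.2
  set w : Subgroup.center C := ⟨⟨z, hzC⟩, hcen⟩ with hw
  have hwcoe : ∀ k : ℕ, ((((w ^ k : Subgroup.center C) : C) : G)) = z ^ k := by
    intro k
    simp [hw]
  have hwN : w ^ N = 1 := by
    apply Subtype.ext
    apply Subtype.ext
    rw [hwcoe]
    simp only [OneMemClass.coe_one]
    exact hzN
  obtain ⟨k₀, hk₀⟩ := hz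
  have hordN : orderOf z ∣ N := orderOf_dvd_of_pow_eq_one hzN
  -- the hypotheses of (5H) for the powers of `z`
  have h5 : ∀ σ : K ≃ₐ[ℚ] K,
      LocUnit M ((p : ℂ) ^ d * contrib p C e (z ^ galExp N K σ) χ ψ / (p : ℂ) ^ h) ∧
      LocUnit M ((p : ℂ) ^ d * contrib p C e (z ^ galExp N K σ) ψ χ / (p : ℂ) ^ h) := by
    intro σ
    set k := galExp N K σ with hk
    have hcop : k.Coprime (orderOf z) :=
      Nat.Coprime.coprime_dvd_right hordN (galExp_coprime N K σ)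
    have hzk : ∃ j : ℕ, orderOf (z ^ k) = p ^ j := by
      have h1 : orderOf (z ^ k) ∣ p ^ k₀ := by rw [← hk₀]; exact orderOf_pow_dvd k
      obtain ⟨j, -, hj⟩ := (Nat.dvd_prime_pow hp).mp h1
      exact ⟨j, hj⟩
    have hCk : C = Subgroup.centralizer ({z ^ k} : Set G) := by
      rw [centralizer_pow_eq z k hcop]; exact hC
    exact contrib_5H hM (z ^ k) hzk C hCk B e hind hdef χ ψ hχ hχ0 hψ
  have hpow : ((p ^ a : ℕ) : ℂ) = (p : ℂ) ^ d * (p : ℂ) ^ m := by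
    rw [hdam, ← pow_add, Nat.sub_add_cancel hma]; push_cast; ring
  have hpm0 : ((p : ℂ) ^ m) ≠ 0 := pow_ne_zero _ hp0
  have hph0 : ((p : ℂ) ^ h) ≠ 0 := pow_ne_zero _ hp0
  -- the common argument
  have main : ∀ χ₁ χ₂ : IrrCharacter G,
      (∀ σ : K ≃ₐ[ℚ] K,
        LocUnit M ((p : ℂ) ^ d * contrib p C e (z ^ galExp N K σ) χ₁ χ₂ / (p : ℂ) ^ h)) →
      (Fintype.card (K ≃ₐ[ℚ] K) : ℝ) * (p : ℝ) ^ (2 * h) ≤
        ∑ σ : K ≃ₐ[ℚ] K, ‖(p : ℂ) ^ d * contrib p C e (z ^ galExp N K σ) χ₁ χ₂‖ ^ 2 := by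
    intro χ₁ χ₂ hunit
    obtain ⟨y, hyint, hyσ⟩ := exists_lift (p := p) N K φ C e w hwN χ₁ χ₂
    have hval : ∀ σ : K ≃ₐ[ℚ] K, φ (σ y) / (p : ℂ) ^ (m + h) =
        (p : ℂ) ^ d * contrib p C e (z ^ galExp N K σ) χ₁ χ₂ / (p : ℂ) ^ h := by
      intro σ
      rw [hyσ σ, hwcoe, ← ha, hpow, pow_add]
      field_simp
    have hy0 : y ≠ 0 := by
      intro h0
      have h1 := hval AlgEquiv.refl
      rw [h0] at h1
      simp only [map_zero, zero_div] at h1
      apply (hunit AlgEquiv.refl).2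
      rw [← h1]
      exact memLocalIdeal_zero hprime.one_notMem
    have h2 := card_gal_le_sum_norm_sq_local hM K φ y hyint hy0 (m + h) (fun σ => by
      rw [hval σ]; exact (hunit σ).1)
    have h3 : ∑ σ : K ≃ₐ[ℚ] K, ‖φ (σ y) / (p : ℂ) ^ (m + h)‖ ^ 2 =
        (∑ σ : K ≃ₐ[ℚ] K, ‖(p : ℂ) ^ d * contrib p C e (z ^ galExp N K σ) χ₁ χ₂‖ ^ 2) /
          (p : ℝ) ^ (2 * h) := by
      rw [Finset.sum_div]
      apply Finset.sum_congr rfl
      intro σ _
      rw [hval σ, norm_div, div_pow, norm_pow, Complex.norm_natCast, ← pow_mul, mul_comm h 2]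
    rw [h3] at h2
    have hpos : (0 : ℝ) < (p : ℝ) ^ (2 * h) := pow_pos (by exact_mod_cast hp.pos) _
    rwa [le_div_iff₀ hpos] at h2
  exact ⟨main χ ψ (fun σ => (h5 σ).1), main ψ χ (fun σ => (h5 σ).2)⟩

end gb

end Cfsg.Agent.Lib.Helper23.MajSubLI
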