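/-
helper23: S4540 leaves (LI) `contrib_diag_memLocalIdeal` and (BL) `card_units_mul_four_pow_le`
(exact names + binders of `notes/S4540_leaves.lean`), wrappers of `Cfsg.Agent.Lib.Helper23.MajSubLI`.
-/
import Mathlib
import Cfsg.Agent.Lib.Helper23.MajSubLI
import Cfsg.Agent.Lib.Helper23.SubsecH

set_option autoImplicit false
set_option linter.unusedSectionVars false

namespace Cfsg.Agent.Lib.Helper23.TwoMajLI

open Cfsg Cfsg.Agent.CharLib Cfsg.Agent.Lib.Helper24 Cfsg.Agent.Lib.Helper6 Cfsg.Agent.Lib.Helper23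
open Cfsg.Agent.Lib.Helper23.Subsec Cfsg.Agent.Lib.Helper27.MajSub
open scoped ComplexConjugate

universe u w

section GC

variable {G : Type u} [Group G] [Fintype G] {M : Ideal AlgInt}

/-- (LI) -/
theorem contrib_diag_memLocalIdeal {p : ℕ} [hpp : Fact p.Prime] (hM : IsPModular p M) (z : G)
    (hz : ∃ k : ℕ, orderOf z = p ^ k) (C : Subgroup G) [Fintype C]
    (hC : C = Subgroup.centralizer ({z} : Set G)) (B : Set (IrrCharacter G))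
    (e : Set (IrrCharacter C)) (hind : IsInducedBlock M C e B)
    (hdef : blockDefect p e = blockDefect p B) (ψ : IrrCharacter G) (hψ : ψ ∈ B)
    (hψ1 : 1 ≤ blockHeight p B (ψ : G → ℂ)) :
    MemLocalIdeal M ((p : ℂ) ^ blockDefect p B * contrib p C e z ψ ψ /
      (p : ℂ) ^ blockHeight p B (ψ : G → ℂ)) :=
  Cfsg.Agent.Lib.Helper23.MajSubLI.contrib_diag_memLocalIdeal hM z hz C hC B e hind hdef ψ hψ
    (Nat.lt_of_lt_of_le Nat.zero_lt_one hψ1)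

/-- (BL) -/
theorem card_units_mul_four_pow_le (hM : IsPModular 2 M) (z : G)
    (hz : ∃ k : ℕ, orderOf z = 2 ^ k) (N : ℕ) [NeZero N] (hzN : z ^ N = 1)
    (C : Subgroup G) [Fintype C] (hC : C = Subgroup.centralizer ({z} : Set G))
    (B : Set (IrrCharacter G)) (e : Set (IrrCharacter C)) (hind : IsInducedBlock M C e B)
    (hdef : blockDefect 2 e = blockDefect 2 B) (χ₀ ψ : IrrCharacter G) (hχ₀ : χ₀ ∈ B)
    (h0 : blockHeight 2 B (χ₀ : G → ℂ) = 0) (hψ : ψ ∈ B) :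
    (Fintype.card (ZMod N)ˣ : ℝ) * (4 : ℝ) ^ blockHeight 2 B (ψ : G → ℂ) ≤
      ∑ u : (ZMod N)ˣ,
        ‖(2 : ℂ) ^ blockDefect 2 e * contrib 2 C e (z ^ (u : ZMod N).val) χ₀ ψ‖ ^ 2 := by
  obtain ⟨K, _, _, _, ⟨φ⟩⟩ := exists_cyclotomic_field N
  have : FiniteDimensional ℚ K := IsCyclotomicExtension.finiteDimensional {N} ℚ K
  have : IsGalois ℚ K := IsCyclotomicExtension.isGalois {N} ℚ K
  have h1 := (Cfsg.Agent.Lib.Helper23.MajSubLI.card_gal_mul_pow_le_sum_contrib (p := 2) hM N K φ z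
    hz hzN C hC B e hind hdef χ₀ ψ hχ₀ h0 hψ).1
  have h2 := sum_gal_eq_sum_units N K (fun k : ℕ =>
    (((‖(2 : ℂ) ^ blockDefect 2 e * contrib 2 C e (z ^ k) χ₀ ψ‖ ^ 2 : ℝ)) : ℂ))
  have h3 : ∑ σ : K ≃ₐ[ℚ] K,
      ‖(2 : ℂ) ^ blockDefect 2 e * contrib 2 C e (z ^ galExp N K σ) χ₀ ψ‖ ^ 2 =
      ∑ u : (ZMod N)ˣ,
        ‖(2 : ℂ) ^ blockDefect 2 e * contrib 2 C e (z ^ (u : ZMod N).val) χ₀ ψ‖ ^ 2 := by
    have h4 : ((∑ σ : K ≃ₐ[ℚ] K,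
        ‖(2 : ℂ) ^ blockDefect 2 e * contrib 2 C e (z ^ galExp N K σ) χ₀ ψ‖ ^ 2 : ℝ) : ℂ) =
        ((∑ u : (ZMod N)ˣ,
          ‖(2 : ℂ) ^ blockDefect 2 e * contrib 2 C e (z ^ (u : ZMod N).val) χ₀ ψ‖ ^ 2 : ℝ) : ℂ) := by
      push_cast
      push_cast at h2
      exact h2
    exact_mod_cast h4
  rw [← h3, ← card_gal_eq_card_units N K]
  have h5 : (4 : ℝ) ^ blockHeight 2 B (ψ : G → ℂ) =
      ((2 : ℕ) : ℝ) ^ (2 * blockHeight 2 B (ψ : G → ℂ)) := by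
    rw [pow_mul]; norm_num
  rw [h5, hdef]
  have h6 : ∀ σ : K ≃ₐ[ℚ] K,
      ‖(2 : ℂ) ^ blockDefect 2 B * contrib 2 C e (z ^ galExp N K σ) χ₀ ψ‖ =
      ‖((2 : ℕ) : ℂ) ^ blockDefect 2 B * contrib 2 C e (z ^ galExp N K σ) χ₀ ψ‖ := by
    intro σ
    norm_num
  simp_rw [h6]
  exact h1

end GC

end Cfsg.Agent.Lib.Helper23.TwoMajLI
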