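import Mathlib

/-!
S5655 (helper18 market, dense case), leaf K2b: Sylow / fixed-point count.  Pure group theory.
NOTE: the blueprint signature lacked `hzN : z ∈ N` (without it the statement is false); added here.
-/

set_option autoImplicit false

namespace Cfsg.Agent.Lib.Helper23.UDenseLeaf

/-- `zpowers z` is an `r`-group when `z ^ r = 1`. -/
lemma isPGroup_zpowers_of_pow_eq_one {G : Type*} [Group G] (z : G) (r : ℕ)
    (hz : z ^ r = 1) : IsPGroup r (Subgroup.zpowers z) := by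
  intro x
  obtain ⟨x, hx⟩ := x
  obtain ⟨k, rfl⟩ := Subgroup.mem_zpowers_iff.mp hx
  refine ⟨1, ?_⟩
  apply Subtype.ext
  rw [pow_one, Subgroup.coe_pow, Subgroup.coe_one]
  show (z ^ k) ^ r = 1
  rw [← zpow_natCast, ← zpow_mul, mul_comm, zpow_mul, zpow_natCast, hz, one_zpow]

/-- K2b SYLOW / FIXED POINTS (pure group theory), with the necessary extra hypothesis `z ∈ N`. -/
theorem exists_mem_closure_coset {G : Type*} [Group G] [Finite G] (N : Subgroup G) (z z' g : G) (r : ℕ)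
    (hr : r.Prime) (hz : z ^ r = 1) (hz' : z' ^ r = 1) (hzN : z ∈ N)
    (h1 : ∀ h : G, h⁻¹ * z * h ∈ N → h ∈ N) (h2 : ∀ h : G, h⁻¹ * z' * h ∈ N → g⁻¹ * h ∈ N) :
    ∃ x ∈ Subgroup.closure ({z, z'} : Set G), g⁻¹ * x ∈ N := by
  classical
  have : Fact r.Prime := ⟨hr⟩
  set G₀ : Subgroup G := Subgroup.closure ({z, z'} : Set G) with hG₀
  have hzG : z ∈ G₀ := Subgroup.subset_closure (by simp)
  have hzG' : z' ∈ G₀ := Subgroup.subset_closure (by simp)
  set N₀ : Subgroup G₀ := N.subgroupOf G₀ with hN₀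
  set z₀ : G₀ := ⟨z, hzG⟩ with hz₀
  set z₀' : G₀ := ⟨z', hzG'⟩ with hz₀'
  have hz₀r : z₀ ^ r = 1 := by
    apply Subtype.ext
    rw [Subgroup.coe_pow, Subgroup.coe_one]; exact hz
  have hz₀r' : z₀' ^ r = 1 := by
    apply Subtype.ext
    rw [Subgroup.coe_pow, Subgroup.coe_one]; exact hz'
  have hP : IsPGroup r (Subgroup.zpowers z₀) := isPGroup_zpowers_of_pow_eq_one z₀ r hz₀r
  have hP' : IsPGroup r (Subgroup.zpowers z₀') := isPGroup_zpowers_of_pow_eq_one z₀' r hz₀r'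
  -- fixed points of `zpowers z₀` on `G₀ ⧸ N₀`: exactly the trivial coset
  have key : ∀ (w : G₀) (x : G₀),
      ((x : G₀ ⧸ N₀) ∈ MulAction.fixedPoints (Subgroup.zpowers w) (G₀ ⧸ N₀)) ↔
        ((x : G)⁻¹ * (w : G) * (x : G) ∈ N) := by
    intro w x
    rw [MulAction.mem_fixedPoints]
    constructor
    · intro h
      have := h ⟨w, Subgroup.mem_zpowers w⟩
      have h' : ((w * x : G₀) : G₀ ⧸ N₀) = (x : G₀ ⧸ N₀) := this
      rw [QuotientGroup.eq] at h'
      rw [hN₀, Subgroup.mem_subgroupOf] at h'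
      have h'' : ((w * x)⁻¹ * x : G₀) = (x⁻¹ * w⁻¹ * x : G₀) := by group
      rw [h''] at h'
      have h3 : ((x⁻¹ * w⁻¹ * x : G₀) : G) = ((x : G)⁻¹ * (w : G) * (x : G))⁻¹ := by
        push_cast; group
      rw [h3] at h'
      exact (Subgroup.inv_mem_iff N).mp h'
    · intro h y
      obtain ⟨y, hy⟩ := y
      obtain ⟨k, rfl⟩ := Subgroup.mem_zpowers_iff.mp hy
      show ((w ^ k * x : G₀) : G₀ ⧸ N₀) = (x : G₀ ⧸ N₀)
      rw [QuotientGroup.eq, hN₀, Subgroup.mem_subgroupOf]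
      have h4 : ((x : G)⁻¹ * (w : G) * (x : G)) ^ k = (x : G)⁻¹ * (w : G) ^ k * (x : G) := by
        have := conj_zpow (a := (x : G)⁻¹) (b := (w : G)) (i := k)
        simpa using this
      have h3 : (((w ^ k * x)⁻¹ * x : G₀) : G) = (((x : G)⁻¹ * (w : G) * (x : G)) ^ k)⁻¹ := by
        rw [h4]
        push_cast; group
      rw [h3]
      exact N.inv_mem (N.zpow_mem h k)
  have hfix : ∀ a : G₀ ⧸ N₀, a ∈ MulAction.fixedPoints (Subgroup.zpowers z₀) (G₀ ⧸ N₀) ↔
      a = ((1 : G₀) : G₀ ⧸ N₀) := by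
    intro a
    induction a using QuotientGroup.induction_on with
    | H x =>
      rw [key]
      constructor
      · intro h
        have hx : (x : G) ∈ N := h1 _ h
        symm
        rw [QuotientGroup.eq, hN₀, Subgroup.mem_subgroupOf]
        simpa using hx
      · intro h
        have h' := h.symm
        rw [QuotientGroup.eq, hN₀, Subgroup.mem_subgroupOf] at h'
        have hx : (x : G) ∈ N := by simpa using h'
        exact N.mul_mem (N.mul_mem (N.inv_mem hx) hzN) hx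
  have hcard1 : Nat.card (MulAction.fixedPoints (Subgroup.zpowers z₀) (G₀ ⧸ N₀)) = 1 := by
    rw [Nat.card_eq_one_iff_unique]
    refine ⟨⟨?_⟩, ⟨⟨((1 : G₀) : G₀ ⧸ N₀), (hfix _).mpr rfl⟩⟩⟩
    intro a b
    apply Subtype.ext
    rw [(hfix a.1).mp a.2, (hfix b.1).mp b.2]
  have hmod : Nat.card (G₀ ⧸ N₀) ≡ 1 [MOD r] := by
    have := hP.card_modEq_card_fixedPoints (G₀ ⧸ N₀)
    rwa [hcard1] at this
  have hndvd : ¬ r ∣ Nat.card (G₀ ⧸ N₀) := by
    intro hd
    have h0 : Nat.card (G₀ ⧸ N₀) ≡ 0 [MOD r] := (Nat.modEq_zero_iff_dvd).mpr hd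
    have h10 : 1 ≡ 0 [MOD r] := hmod.symm.trans h0
    have : r ∣ 1 := (Nat.modEq_zero_iff_dvd).mp h10
    exact hr.one_lt.ne' (Nat.dvd_one.mp this)
  obtain ⟨a, ha⟩ := hP'.nonempty_fixed_point_of_prime_not_dvd_card (G₀ ⧸ N₀) hndvd
  induction a using QuotientGroup.induction_on with
  | H x =>
    rw [key] at ha
    exact ⟨(x : G), x.2, h2 _ ha⟩

end Cfsg.Agent.Lib.Helper23.UDenseLeaf
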