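import Mathlib
import Cfsg.Agent.Lib.Helper20.AschDefs

/-!
S5630 (Aschbacher), sub-block TS: leaf KR `kron_one_injective` (exact signature of `notes/S5630_TS_leaves.lean`).
-/

set_option autoImplicit false
set_option linter.unusedSectionVars false
set_option linter.unusedVariables false

namespace Cfsg.Agent.Lib.Helper23.AschLeaf
open Matrix Cfsg.Geo Cfsg.Agent.Lib.Helper20.Asch
open scoped Kronecker

variable {F : Type*} [Field F] [Fintype F] {n : ℕ}

/-- KR: `A ⊗ 1 = B ⊗ 1` implies `A = B` (for `k > 0`). -/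
theorem kron_one_injective {s k : ℕ} (hk : 0 < k) {A B : Matrix (Fin s) (Fin s) F}
    (h : A ⊗ₖ (1 : Matrix (Fin k) (Fin k) F) = B ⊗ₖ (1 : Matrix (Fin k) (Fin k) F)) : A = B := by
  ext i j
  have h1 := congrFun (congrFun h (i, ⟨0, hk⟩)) (j, ⟨0, hk⟩)
  simpa [Matrix.kroneckerMap_apply] using h1

end Cfsg.Agent.Lib.Helper23.AschLeaf
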