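import Mathlib
import Cfsg.Agent.Lib.Helper20.AschDefs

/-!
S5630 (Aschbacher), sub-block TS: leaf SCH `cen_isField_of_irr` (exact signature of `notes/S5630_TS_leaves.lean`):
Schur's lemma + little Wedderburn: the centraliser algebra of an irreducible matrix group over a finite field is a field.
-/

set_option autoImplicit false
set_option linter.unusedSectionVars false
set_option linter.unusedVariables false

namespace Cfsg.Agent.Lib.Helper23.AschLeaf
open Matrix Cfsg.Geo Cfsg.Agent.Lib.Helper20.Asch
open scoped Kronecker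

variable {F : Type*} [Field F] [Fintype F] {n : ℕ}

/-- Schur: a non-zero element of the centraliser algebra of an irreducible group has non-zero determinant. -/
theorem cen_det_ne_zero_of_irr {s : ℕ} {R : Subgroup (GL (Fin s) F)} (h : Irr R)
    {T : Matrix (Fin s) (Fin s) F} (hT : T ∈ Cen R) (hT0 : T ≠ 0) : T.det ≠ 0 := by
  classical
  -- the kernel of `T` is `R`-invariant
  have hker : ∀ x ∈ matrixSet R, (LinearMap.ker (Matrix.toLin' T)).map (Matrix.toLin' x) ≤
      LinearMap.ker (Matrix.toLin' T) := by
    rintro _ ⟨x, hx, rfl⟩ w hw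
    obtain ⟨v, hv, rfl⟩ := hw
    have hv' : T *ᵥ v = 0 := by simpa [LinearMap.mem_ker] using hv
    have hc := (mem_Cen.mp hT) x hx
    rw [LinearMap.mem_ker, Matrix.toLin'_apply, Matrix.toLin'_apply, Matrix.mulVec_mulVec, ← hc,
      ← Matrix.mulVec_mulVec, hv', Matrix.mulVec_zero]
  rcases h _ hker with hbot | htop
  · -- injective ⇒ unit
    have hinj : Function.Injective (T.mulVec) := by
      have := LinearMap.ker_eq_bot.mp hbot
      intro v w hvw
      apply this
      simpa [Matrix.toLin'_apply] using hvw
    have hu : IsUnit T := Matrix.mulVec_injective_iff_isUnit.mp hinj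
    exact ((Matrix.isUnit_iff_isUnit_det T).mp hu).ne_zero
  · exfalso
    apply hT0
    have h0 : Matrix.toLin' T = 0 := LinearMap.ker_eq_top.mp htop
    have : Matrix.toLin' T = Matrix.toLin' (0 : Matrix (Fin s) (Fin s) F) := by
      rw [h0, map_zero]
    exact Matrix.toLin'.injective this

/-- SCH: Schur + Wedderburn: the centraliser algebra of an irreducible group over a finite field is a field. -/
theorem cen_isField_of_irr {s : ℕ} {R : Subgroup (GL (Fin s) F)} (hs : 0 < s) (h : Irr R) :
    IsFieldSubalgebra (Module.finrank F (Cen R)) (Cen R) := by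
  classical
  have : Nonempty (Fin s) := ⟨⟨0, hs⟩⟩
  have : Nontrivial (Matrix (Fin s) (Fin s) F) := inferInstance
  have : Nontrivial (Cen R) := inferInstance
  have : NoZeroDivisors (Cen R) := by
    refine ⟨?_⟩
    intro a b hab
    by_cases ha : a = 0
    · exact Or.inl ha
    · right
      have ha' : (a : Matrix (Fin s) (Fin s) F) ≠ 0 := fun h0 => ha (Subtype.ext h0)
      have hd := cen_det_ne_zero_of_irr h a.2 ha'
      have hab' : (a : Matrix (Fin s) (Fin s) F) * (b : Matrix (Fin s) (Fin s) F) = 0 := by
        have := congrArg Subtype.val hab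
        simpa using this
      have hdu : IsUnit (a : Matrix (Fin s) (Fin s) F).det := isUnit_iff_ne_zero.mpr hd
      have h1 : (a : Matrix (Fin s) (Fin s) F)⁻¹ * ((a : Matrix (Fin s) (Fin s) F) *
          (b : Matrix (Fin s) (Fin s) F)) = (b : Matrix (Fin s) (Fin s) F) := by
        rw [← Matrix.mul_assoc, Matrix.nonsing_inv_mul _ hdu, Matrix.one_mul]
      rw [hab', Matrix.mul_zero] at h1
      exact Subtype.ext h1.symm
  have : IsDomain (Cen R) := NoZeroDivisors.to_isDomain _
  have : Finite (Cen R) := inferInstance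
  have hfld : IsField (Cen R) := Finite.isDomain_to_isField _
  refine ⟨?_, ?_, rfl⟩
  · intro x hx y hy
    have := hfld.mul_comm ⟨x, hx⟩ ⟨y, hy⟩
    exact congrArg Subtype.val this
  · intro x hx hx0
    have hx0' : (⟨x, hx⟩ : Cen R) ≠ 0 := fun h0 => hx0 (congrArg Subtype.val h0)
    obtain ⟨y, hy⟩ := hfld.mul_inv_cancel hx0'
    exact ⟨y.1, y.2, congrArg Subtype.val hy⟩

end Cfsg.Agent.Lib.Helper23.AschLeaf
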