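import Mathlib

set_option autoImplicit false

namespace Cfsg.Agent.Lib.Helper23.TWSUCC

open MulAction

/-- **TWSUCC**.  `n`-transitive, and the pointwise stabilizer of every injective `n`-tuple is
transitive on the points outside it ⟹ `(n+1)`-transitive. -/
theorem TWSUCC {G Ω : Type*} [Group G] [MulAction G Ω] (n : ℕ)
    (hn : MulAction.IsMultiplyPretransitive G Ω n)
    (h : ∀ x₀ : Fin n ↪ Ω, ∀ y y' : Ω, y ∉ Set.range x₀ → y' ∉ Set.range x₀ →
      ∃ g : G, (∀ i : Fin n, g • x₀ i = x₀ i) ∧ g • y = y') :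
    MulAction.IsMultiplyPretransitive G Ω (n + 1) := by
  refine ⟨fun u v => ?_⟩
  set u' : Fin n ↪ Ω := (Fin.castSuccEmb).trans u with hu'
  set v' : Fin n ↪ Ω := (Fin.castSuccEmb).trans v with hv'
  have hu'a : ∀ i : Fin n, u' i = u (Fin.castSucc i) := fun i => rfl
  have hv'a : ∀ i : Fin n, v' i = v (Fin.castSucc i) := fun i => rfl
  obtain ⟨g₁, hg₁⟩ := hn.exists_smul_eq u' v'
  have hg₁a : ∀ i : Fin n, g₁ • u (Fin.castSucc i) = v (Fin.castSucc i) := by
    intro i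
    have := DFunLike.congr_fun hg₁ i
    rw [Function.Embedding.smul_apply] at this
    rw [← hu'a, this, hv'a]
  have hy : g₁ • u (Fin.last n) ∉ Set.range v' := by
    rintro ⟨i, hi⟩
    rw [hv'a, ← hg₁a i] at hi
    have h2 := u.injective (smul_left_cancel g₁ hi)
    exact (Fin.castSucc_lt_last i).ne h2
  have hy' : v (Fin.last n) ∉ Set.range v' := by
    rintro ⟨i, hi⟩
    rw [hv'a] at hi
    have h2 := v.injective hi
    exact (Fin.castSucc_lt_last i).ne h2
  obtain ⟨g₂, hg₂, hg₂y⟩ := h v' _ _ hy hy'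
  refine ⟨g₂ * g₁, ?_⟩
  ext i
  rw [Function.Embedding.smul_apply, mul_smul]
  rcases Fin.eq_castSucc_or_eq_last i with ⟨j, rfl⟩ | rfl
  · rw [hg₁a j, ← hv'a, hg₂ j]
  · exact hg₂y

end Cfsg.Agent.Lib.Helper23.TWSUCC
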