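/-
helper23: S3385 market "SIMS" (`notes/S3385_leaves.lean`), auxiliary element calculus for the interval subgroups `Hx x i j`
(used by my leaves L2, L7A, L7C).
-/
import Mathlib
import Cfsg.Agent.Lib.Helper18.Sims3Defs

set_option autoImplicit false

namespace Cfsg.Agent.Lib.Helper23.SIMSAux

open Cfsg Cfsg.Agent.Lib.Helper29.TWPair Cfsg.Agent.Lib.Helper18.Sims3 MulAction

variable {G : Type*} [Group G]

theorem mem_Hx (x : ℕ → G) {i j k : ℕ} (h1 : i ≤ k) (h2 : k ≤ j) : x k ∈ Hx x i j :=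
  Subgroup.subset_closure ⟨k, ⟨h1, h2⟩, rfl⟩

theorem Hx_mono (x : ℕ → G) {i j i' j' : ℕ} (h1 : i' ≤ i) (h2 : j ≤ j') : Hx x i j ≤ Hx x i' j' := by
  apply Subgroup.closure_mono
  apply Set.image_mono
  exact Set.Icc_subset_Icc h1 h2

theorem Hx_le_iff (x : ℕ → G) (i j : ℕ) (K : Subgroup G) :
    Hx x i j ≤ K ↔ ∀ k, i ≤ k → k ≤ j → x k ∈ K := by
  unfold Hx
  rw [Subgroup.closure_le]
  constructor
  · intro h k h1 h2
    exact h ⟨k, ⟨h1, h2⟩, rfl⟩
  · rintro h _ ⟨k, ⟨h1, h2⟩, rfl⟩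
    exact h k h1 h2

/-- `g^i x_k g^{-i} = x_{i+k}` -/
theorem shift_pow {g : G} {x : ℕ → G} (hs : ∀ i, g * x i * g⁻¹ = x (i + 1)) (i k : ℕ) :
    g ^ i * x k * (g ^ i)⁻¹ = x (i + k) := by
  induction i with
  | zero => simp
  | succ i ih =>
    have : g ^ (i + 1) * x k * (g ^ (i + 1))⁻¹ = g * (g ^ i * x k * (g ^ i)⁻¹) * g⁻¹ := by
      rw [pow_succ']
      group
    rw [this, ih, hs]
    congr 1
    omega

/-- conjugation by `g^i` shifts the interval subgroups (one inclusion) -/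
theorem conj_pow_mem_Hx {g : G} {x : ℕ → G} (hs : ∀ i, g * x i * g⁻¹ = x (i + 1)) (i a b : ℕ) {y : G}
    (hy : y ∈ Hx x a b) : g ^ i * y * (g ^ i)⁻¹ ∈ Hx x (i + a) (i + b) := by
  unfold Hx at hy
  induction hy using Subgroup.closure_induction with
  | mem y hy =>
    obtain ⟨k, ⟨h1, h2⟩, rfl⟩ := hy
    rw [shift_pow hs]
    exact mem_Hx x (by omega) (by omega)
  | one => simp
  | mul y z _ _ hy hz =>
    have : g ^ i * (y * z) * (g ^ i)⁻¹ = (g ^ i * y * (g ^ i)⁻¹) * (g ^ i * z * (g ^ i)⁻¹) := by group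
    rw [this]
    exact mul_mem hy hz
  | inv y _ hy =>
    have : g ^ i * y⁻¹ * (g ^ i)⁻¹ = (g ^ i * y * (g ^ i)⁻¹)⁻¹ := by group
    rw [this]
    exact inv_mem hy

/-- commutators are shifted by conjugation -/
theorem cm_shift {g : G} {x : ℕ → G} (hs : ∀ i, g * x i * g⁻¹ = x (i + 1)) (i a b : ℕ) :
    cm (x (i + a)) (x (i + b)) = g ^ i * cm (x a) (x b) * (g ^ i)⁻¹ := by
  rw [← shift_pow hs i a, ← shift_pow hs i b]
  unfold cm
  group

theorem commute_shift {g : G} {x : ℕ → G} (hs : ∀ i, g * x i * g⁻¹ = x (i + 1)) (i a b : ℕ)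
    (h : Commute (x a) (x b)) : Commute (x (i + a)) (x (i + b)) := by
  rw [← shift_pow hs i a, ← shift_pow hs i b]
  have h' : x a * x b = x b * x a := h
  show g ^ i * x a * (g ^ i)⁻¹ * (g ^ i * x b * (g ^ i)⁻¹) = g ^ i * x b * (g ^ i)⁻¹ * (g ^ i * x a * (g ^ i)⁻¹)
  have e1 : g ^ i * x a * (g ^ i)⁻¹ * (g ^ i * x b * (g ^ i)⁻¹) = g ^ i * (x a * x b) * (g ^ i)⁻¹ := by group
  have e2 : g ^ i * x b * (g ^ i)⁻¹ * (g ^ i * x a * (g ^ i)⁻¹) = g ^ i * (x b * x a) * (g ^ i)⁻¹ := by group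
  rw [e1, e2, h']

theorem inv_eq_of_sq {a : G} (h : a * a = 1) : a⁻¹ = a := by
  exact inv_eq_of_mul_eq_one_left h

theorem cm_eq_one_iff (a b : G) : cm a b = 1 ↔ Commute a b := by
  unfold cm
  constructor
  · intro h
    show a * b = b * a
    have : a * b * a⁻¹ * b⁻¹ * b * a = 1 * b * a := by rw [h]
    simpa [mul_assoc] using this
  · intro h
    have h' : a * b = b * a := h
    rw [h']
    group

/-- `a b a⁻¹ = [a, b] b` -/
theorem conj_eq_cm_mul (a b : G) : a * b * a⁻¹ = cm a b * b := by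
  unfold cm
  group

theorem cm_inv (a b : G) : cm b a = (cm a b)⁻¹ := by
  unfold cm
  group

/-- an involution `a` with `a S a⁻¹ ⊆ ⟨S⟩` normalizes `⟨S⟩` -/
theorem mem_normalizer_closure_of_invol {S : Set G} {a : G} (ha : a * a = 1)
    (h : ∀ s ∈ S, a * s * a⁻¹ ∈ Subgroup.closure S) :
    a ∈ Subgroup.normalizer (Subgroup.closure S : Set G) := by
  have hinv : a⁻¹ = a := inv_eq_of_sq ha
  have hfw : ∀ n ∈ Subgroup.closure S, a * n * a⁻¹ ∈ Subgroup.closure S := by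
    intro n hn
    induction hn using Subgroup.closure_induction with
    | mem y hy => exact h y hy
    | one => simp
    | mul y z _ _ hy hz =>
      have : a * (y * z) * a⁻¹ = (a * y * a⁻¹) * (a * z * a⁻¹) := by group
      rw [this]
      exact mul_mem hy hz
    | inv y _ hy =>
      have : a * y⁻¹ * a⁻¹ = (a * y * a⁻¹)⁻¹ := by group
      rw [this]
      exact inv_mem hy
  rw [Subgroup.mem_normalizer_iff]
  intro n
  constructor
  · exact hfw n
  · intro hn
    have h2 := hfw _ hn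
    have e : a * (a * n * a⁻¹) * a⁻¹ = n := by
      rw [hinv]
      calc a * (a * n * a) * a = (a * a) * n * (a * a) := by group
        _ = n := by rw [ha]; simp
    rw [e] at h2
    exact h2

/-- `x k ≠ 1` from the order of `⟨x k⟩` -/
theorem x_ne_one {g : G} {x : ℕ → G} {n : ℕ} (h : TSData g x n) (h1 : 1 ≤ n) (k : ℕ) : x k ≠ 1 := by
  intro hk
  have hc := h.card k k le_rfl (by omega)
  have : Hx x k k = ⊥ := by
    rw [eq_bot_iff, Hx_le_iff]
    intro j h1 h2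
    have : j = k := by omega
    rw [this, hk]
    exact one_mem _
  rw [this] at hc
  simp at hc

end Cfsg.Agent.Lib.Helper23.SIMSAux
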