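/-
helper23: S3385 market "SIMS" (`notes/S3385_leaves.lean`), leaf L2: the parameter `l` (least index with `x 0`, `x l` not
commuting) exists, `1 ≤ l ≤ n`, and `x i` commutes with `x (i+k)` for `k < l`.
-/
import Mathlib
import Cfsg.Agent.Lib.Helper18.Sims3Defs
import Cfsg.Agent.Lib.Helper23.SIMSAux

set_option autoImplicit false

namespace Cfsg.Agent.Lib.Helper23.SIMSL2

open Cfsg Cfsg.Agent.Lib.Helper29.TWPair Cfsg.Agent.Lib.Helper18.Sims3 MulAction
open Cfsg.Agent.Lib.Helper23.SIMSAux

variable {G : Type*} [Group G]

/-- a subgroup generated by pairwise commuting involutions is a 2-group -/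
theorem isPGroup_two_closure {S : Set G} (hcomm : ∀ a ∈ S, ∀ b ∈ S, a * b = b * a)
    (hsq : ∀ a ∈ S, a * a = 1) : IsPGroup 2 ↥(Subgroup.closure S) := by
  let _ : CommGroup ↥(Subgroup.closure S) := Subgroup.closureCommGroupOfComm hcomm
  have hall : ∀ y : ↥(Subgroup.closure S), y * y = 1 := by
    rintro ⟨y, hy⟩
    apply Subtype.ext
    show y * y = 1
    induction hy using Subgroup.closure_induction with
    | mem y hy => exact hsq y hy
    | one => simp
    | mul y z hy hz hy2 hz2 =>
      have hc : y * z = z * y := by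
        have := mul_comm (⟨y, hy⟩ : ↥(Subgroup.closure S)) ⟨z, hz⟩
        exact congrArg Subtype.val this
      calc y * z * (y * z) = y * (z * y) * z := by group
        _ = y * (y * z) * z := by rw [hc]
        _ = (y * y) * (z * z) := by group
        _ = 1 := by rw [hy2, hz2, one_mul]
    | inv y _ hy2 =>
      have : y⁻¹ = y := inv_eq_of_sq hy2
      rw [this, hy2]
  intro y
  refine ⟨1, ?_⟩
  rw [pow_one, pow_two]
  exact hall y

/-- LEAF L2 (the parameter lambda exists). -/
theorem exists_lam {g : G} {x : ℕ → G} {n : ℕ} (h : TSData g x n) (h1 : 1 ≤ n) :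
    ∃ l, 1 ≤ l ∧ l ≤ n ∧ CommLt x l ∧ ¬ Commute (x 0) (x l) := by
  classical
  -- the generators are involutions
  have hsq : ∀ i, x i * x i = 1 := by
    intro i
    have hc := h.card i i le_rfl (by omega)
    have hzp : Hx x i i = Subgroup.zpowers (x i) := by
      unfold Hx
      rw [Set.Icc_self, Set.image_singleton, Subgroup.zpowers_eq_closure]
    rw [hzp, Nat.card_zpowers] at hc
    have : i - i + 1 = 1 := by omega
    rw [this, pow_one] at hc
    rw [← pow_two, ← hc]
    exact pow_orderOf_eq_one (x i)
  -- some `x l`, `1 ≤ l ≤ n`, does not commute with `x 0`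
  have hex : ∃ l, ¬ Commute (x 0) (x l) ∧ l ≤ n := by
    by_contra hcon
    have hcon' : ∀ l, l ≤ n → Commute (x 0) (x l) := by
      intro l hl
      by_contra hc
      exact hcon ⟨l, hc, hl⟩
    apply h.notTwo
    unfold Hx
    apply isPGroup_two_closure
    · rintro _ ⟨a, ⟨-, ha⟩, rfl⟩ _ ⟨b, ⟨-, hb⟩, rfl⟩
      rcases le_total a b with hab | hab
      · have := commute_shift h.shift a 0 (b - a) (hcon' (b - a) (by omega))
        have e : a + (b - a) = b := by omega
        rw [add_zero, e] at this
        exact this
      · have := commute_shift h.shift b 0 (a - b) (hcon' (a - b) (by omega))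
        have e : b + (a - b) = a := by omega
        rw [add_zero, e] at this
        exact this.symm
    · rintro _ ⟨a, -, rfl⟩
      exact hsq a
  have hex' : ∃ l, ¬ Commute (x 0) (x l) := ⟨hex.choose, hex.choose_spec.1⟩
  refine ⟨Nat.find hex', ?_, ?_, ?_, Nat.find_spec hex'⟩
  · by_contra hlt
    have h0 : Nat.find hex' = 0 := by omega
    have := Nat.find_spec hex'
    rw [h0] at this
    exact this (Commute.refl _)
  · obtain ⟨l, hl, hln⟩ := hex
    exact le_trans (Nat.find_min' hex' hl) hln
  · intro i k hk
    have hck : Commute (x 0) (x k) := by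
      by_contra hnc
      exact absurd (Nat.find_min' hex' hnc) (by omega)
    have := commute_shift h.shift i 0 k hck
    rwa [add_zero] at this

end Cfsg.Agent.Lib.Helper23.SIMSL2
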