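/-
helper23: S3685 market "SIMS2" (`notes/S3685_leaves.lean`), leaf LAM (twin): the value of lambda for `n ≤ 4`.
-/
import Mathlib
import Cfsg.Agent.Lib.Helper18.Sims3Defs
import Cfsg.Agent.Lib.Helper23.SIMSAux
import Cfsg.Agent.Lib.Helper23.SIMSL2
import Cfsg.Agent.Lib.Helper5.SIMSL3
import Cfsg.Agent.Lib.Helper1.SIMSL4
import Cfsg.Agent.Lib.Helper18.SIMSL1

set_option autoImplicit false

namespace Cfsg.Agent.Lib.Helper23.SIMS2LAM

open Cfsg Cfsg.Agent.Lib.Helper29.TWPair Cfsg.Agent.Lib.Helper18.Sims3 MulAction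
open Cfsg.Agent.Lib.Helper23.SIMSAux

variable {G : Type*} [Group G]

/-- for `n ≥ 2` the generators `x 0`, `x 1` commute (`⟨x 0, x 1⟩` has order 4). -/
theorem commute_zero_one {g : G} {x : ℕ → G} {n : ℕ} (h : TSData g x n) (h2 : 2 ≤ n) :
    Commute (x 0) (x 1) := by
  have hc := h.card 0 1 (by omega) (by omega)
  have hc' : Nat.card ↥(Hx x 0 1) = 2 ^ 2 := by rw [hc]
  haveI : Fact (Nat.Prime 2) := ⟨Nat.prime_two⟩
  have hcomm := IsPGroup.commutative_of_card_eq_prime_sq hc'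
    ⟨x 0, mem_Hx x (le_refl 0) (by omega)⟩ ⟨x 1, mem_Hx x (by omega) (le_refl 1)⟩
  have := congrArg (fun y : ↥(Hx x 0 1) => (y : G)) hcomm
  exact this

/-- LEAF LAM (the value of lambda). -/
theorem lam_eq {g : G} {x : ℕ → G} {n : ℕ} (h : TSData g x n) (h1 : 1 ≤ n) (h4 : n ≤ 4) :
    ∃ l, CommLt x l ∧ ¬ Commute (x 0) (x l) ∧
      (n = 1 → l = 1) ∧ (n = 2 → l = 2) ∧ (n = 3 → l = 2) ∧ (n = 4 → l = 3) := by
  obtain ⟨l, hl1, hln, hl, hnc⟩ := Cfsg.Agent.Lib.Helper23.SIMSL2.exists_lam h h1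
  have h2l := Cfsg.Agent.Lib.Helper5.SIMSL3.two_mul_le h h1 l hl
  obtain ⟨hsq, _, hcm, _⟩ := Cfsg.Agent.Lib.Helper18.SIMSL1.tsdata_basic h h1
  have hne1 : 2 ≤ n → l ≠ 1 := by
    intro h2 hl1'
    rw [hl1'] at hnc
    exact hnc (commute_zero_one h h2)
  have hne2 : n = 4 → l ≠ 2 := by
    intro hn hl2
    subst hl2
    have hc : cm (x 0) (x 2) ∈ Hx x 1 1 := by
      have := hcm 0 2 (by omega) (by omega)
      simpa using this
    have hc1 : cm (x 0) (x 2) ≠ 1 := by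
      intro h'
      exact hnc ((cm_eq_one_iff _ _).mp h')
    have hbot : Hx x 2 1 = ⊥ := by
      unfold Hx
      rw [Set.Icc_eq_empty (by omega), Set.image_empty, Subgroup.closure_empty]
    have hc' : cm (x 0) (x 2) ∉ Hx x (1 + 1) (2 - 1) := by
      show cm (x 0) (x 2) ∉ Hx x 2 1
      rw [hbot, Subgroup.mem_bot]
      exact hc1
    have := Cfsg.Agent.Lib.Helper1.SIMSL4.le_add_mu h hsq hcm 2 (le_refl 2) (by omega) hl hnc 1
      (le_refl 1) (by omega) hc hc'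
    omega
  refine ⟨l, hl, hnc, ?_, ?_, ?_, ?_⟩
  · intro hn; omega
  · intro hn
    have := hne1 (by omega)
    omega
  · intro hn
    have := hne1 (by omega)
    omega
  · intro hn
    have := hne1 (by omega)
    have := hne2 hn
    omega

end Cfsg.Agent.Lib.Helper23.SIMS2LAM
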