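/-
helper23: S2524 leaf LVW (helper10's market, `notes/S2524_leaves.lean`): the Levi factor permutes the
weight spaces of the Siegel radical.
-/
import Mathlib
import Cfsg.Agent.Lib.Helper10.WGDefs

set_option autoImplicit false

namespace Cfsg.Agent.Lib.Helper23.WGLVW

open Matrix Cfsg.Agent.Lib.Helper11.LS Cfsg.Agent.Lib.Helper10.WG

universe u

variable {F : Type*} [Field F] [Fintype F] [DecidableEq F]

section weights

variable {n : ℕ} {V V' : Type u} [AddCommGroup V] [Module ℂ V] [AddCommGroup V'] [Module ℂ V']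

/-- `Xs S * LvG g = LvG g * Xs (g⁻¹ S g⁻ᵀ)` -/
theorem Xs_mul_LvG (g : GL (Fin n) F) (S : Matrix (Fin n) (Fin n) F) (hS : Sᵀ = S) :
    (Xs S hS : SpG F n) * LvG g = LvG g *
      Xs (((g⁻¹ : GL (Fin n) F) : Matrix (Fin n) (Fin n) F) * S *
          ((g⁻¹ : GL (Fin n) F) : Matrix (Fin n) (Fin n) F)ᵀ)
        (by rw [transpose_mul, transpose_mul, transpose_transpose, hS, Matrix.mul_assoc]) := by
  have hg : (g : Matrix (Fin n) (Fin n) F) * ((g⁻¹ : GL (Fin n) F) : Matrix (Fin n) (Fin n) F) = 1 := by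
    rw [← Units.val_mul, mul_inv_cancel, Units.val_one]
  apply Subtype.ext
  show fromBlocks 1 S 0 1 * fromBlocks (g : Matrix (Fin n) (Fin n) F) 0 0
      ((g⁻¹ : GL (Fin n) F) : Matrix (Fin n) (Fin n) F)ᵀ =
    fromBlocks (g : Matrix (Fin n) (Fin n) F) 0 0
      ((g⁻¹ : GL (Fin n) F) : Matrix (Fin n) (Fin n) F)ᵀ * fromBlocks 1
        (((g⁻¹ : GL (Fin n) F) : Matrix (Fin n) (Fin n) F) * S *
          ((g⁻¹ : GL (Fin n) F) : Matrix (Fin n) (Fin n) F)ᵀ) 0 1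
  rw [fromBlocks_multiply, fromBlocks_multiply]
  have h1 : (g : Matrix (Fin n) (Fin n) F) * (((g⁻¹ : GL (Fin n) F) : Matrix (Fin n) (Fin n) F) * S *
      ((g⁻¹ : GL (Fin n) F) : Matrix (Fin n) (Fin n) F)ᵀ) =
      S * ((g⁻¹ : GL (Fin n) F) : Matrix (Fin n) (Fin n) F)ᵀ := by
    rw [Matrix.mul_assoc, ← Matrix.mul_assoc, hg, Matrix.one_mul]
  simp only [Matrix.one_mul, Matrix.mul_one, Matrix.zero_mul, Matrix.mul_zero, add_zero, zero_add, h1]

/-- (WD) the Levi factor permutes the weight spaces: `g . B = g^{-T} B g^{-1}`. -/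
theorem LvG_mem_wt (ψ : AddChar F ℂ) (ρ : Representation ℂ (SpG F n) V) (g : GL (Fin n) F)
    (B : Matrix (Fin n) (Fin n) F) (v : V) (hv : v ∈ wt ψ ρ B) :
    ρ (LvG g) v ∈ wt ψ ρ (((g⁻¹ : GL (Fin n) F) : Matrix (Fin n) (Fin n) F)ᵀ * B *
      ((g⁻¹ : GL (Fin n) F) : Matrix (Fin n) (Fin n) F)) := by
  intro S hS
  have h1 : ρ (Xs S hS) (ρ (LvG g) v) = ρ (Xs S hS * LvG g) v := by
    rw [map_mul]; rfl
  rw [h1, Xs_mul_LvG, map_mul]
  show ρ (LvG g) (ρ (Xs _ _) v) = _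
  rw [hv _ _, map_smul]
  congr 2
  rw [← Matrix.mul_assoc, ← Matrix.mul_assoc, Matrix.trace_mul_comm, ← Matrix.mul_assoc,
    ← Matrix.mul_assoc]

end weights

end Cfsg.Agent.Lib.Helper23.WGLVW
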