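/-
helper23: S2524 leaf INV (helper10's market, `notes/S2524_leaves.lean`): `C = iota (Sp_{2k})` and `T_1`
preserve the eigenspaces of the long root group `Z`; `T_1` commutes with `C`.
-/
import Mathlib
import Cfsg.Agent.Lib.Helper10.WGDefs
import Cfsg.Agent.Lib.Helper23.WGLVW

set_option autoImplicit false

namespace Cfsg.Agent.Lib.Helper23.WGINV

open Matrix Cfsg.Agent.Lib.Helper11.LS Cfsg.Agent.Lib.Helper10.WG

universe u

variable {F : Type*} [Field F] [Fintype F] [DecidableEq F]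

section mats

variable {n : ℕ}

theorem bd_zero_zero_eq : bd (0 : F) (0 : Matrix (Fin n) (Fin n) F) = 0 := by
  ext i j
  refine Fin.cases ?_ (fun i' => ?_) i <;> refine Fin.cases ?_ (fun j' => ?_) j <;> simp

theorem single_zero_zero_eq_bd (c : F) :
    (single 0 0 c : Matrix (Fin (n + 1)) (Fin (n + 1)) F) = bd c 0 := by
  ext i j
  refine Fin.cases ?_ (fun i' => ?_) i <;> refine Fin.cases ?_ (fun j' => ?_) j <;>
    simp [Matrix.single_apply, Fin.succ_ne_zero, (Fin.succ_ne_zero _).symm]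

theorem Xs_congr {S S' : Matrix (Fin n) (Fin n) F} (hS : Sᵀ = S) (hS' : S'ᵀ = S') (h : S = S') :
    (Xs S hS : SpG F n) = Xs S' hS' := by
  subst h; rfl

/-- `xZ c` commutes with the block embedding. -/
theorem xZ_mul_iota (ι : SpG F n →* SpG F (n + 1)) (hι : IsIota ι) (c : F) (g : SpG F n) :
    (xZ c : SpG F (n + 1)) * ι g = ι g * xZ c := by
  apply Subtype.ext
  show fromBlocks 1 (single 0 0 c) 0 1 * (ι g).1 = (ι g).1 * fromBlocks 1 (single 0 0 c) 0 1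
  rw [hι g, iotaMat, fromBlocks_multiply, fromBlocks_multiply, single_zero_zero_eq_bd]
  simp only [Matrix.one_mul, Matrix.mul_one, Matrix.zero_mul, Matrix.mul_zero, add_zero, zero_add,
    bd_mul, mul_zero, zero_mul, mul_one, one_mul, bd_zero_zero_eq]
  rw [add_comm (bd 0 _) (bd c 0)]

theorem t1G_val (t : Fˣ) : ((t1G t : GL (Fin (n + 1)) F) : Matrix (Fin (n + 1)) (Fin (n + 1)) F) =
    bd (t : F) 1 := by
  show diagonal (fun i => ((Fin.cons t (fun _ => 1) : Fin (n + 1) → Fˣ) i : F)) = _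
  ext i j
  refine Fin.cases ?_ (fun i' => ?_) i <;> refine Fin.cases ?_ (fun j' => ?_) j <;>
    simp [Matrix.diagonal_apply, Matrix.one_apply, Fin.succ_ne_zero, (Fin.succ_ne_zero _).symm]

theorem t1G_inv_val (t : Fˣ) :
    (((t1G t)⁻¹ : GL (Fin (n + 1)) F) : Matrix (Fin (n + 1)) (Fin (n + 1)) F) =
    bd ((t⁻¹ : Fˣ) : F) 1 := by
  have h : (t1G t : GL (Fin (n + 1)) F) * t1G t⁻¹ = 1 := by
    apply Units.ext
    rw [Units.val_mul, t1G_val, t1G_val, bd_mul, Matrix.one_mul, ← Units.val_mul, mul_inv_cancel,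
      Units.val_one, bd_one, Units.val_one]
  rw [inv_eq_of_mul_eq_one_right h, t1G_val]

end mats

section struct

variable {k : ℕ} {V V' : Type u} [AddCommGroup V] [Module ℂ V] [AddCommGroup V'] [Module ℂ V']

/-- (INV) `C` and `T_1` preserve the eigenspaces of `Z` (`C` centralises `Z`; `T_1` maps the `l`-eigenspace
to the `l t^{-2}`-eigenspace, in particular it preserves `Ysp`). -/
theorem iota_mem_zsp (ψ : AddChar F ℂ) (ι : SpG F k →* SpG F (k + 1)) (hι : IsIota ι)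
    (ρ : Representation ℂ (SpG F (k + 1)) V) (g : SpG F k) (l : F) (v : V) (hv : v ∈ zsp ψ ρ l) :
    ρ (ι g) v ∈ zsp ψ ρ l := by
  intro c
  have h1 : ρ (xZ c) (ρ (ι g) v) = ρ (xZ c * ι g) v := by rw [map_mul]; rfl
  rw [h1, xZ_mul_iota ι hι, map_mul]
  show ρ (ι g) (ρ (xZ c) v) = _
  rw [hv c, map_smul]

theorem iota_mem_Ysp (ι : SpG F k →* SpG F (k + 1)) (hι : IsIota ι)
    (ρ : Representation ℂ (SpG F (k + 1)) V) (g : SpG F k) (v : V) (hv : v ∈ Ysp ρ) :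
    ρ (ι g) v ∈ Ysp ρ := by
  intro c
  have h1 : ρ (xZ c) (ρ (ι g) v) = ρ (xZ c * ι g) v := by rw [map_mul]; rfl
  rw [h1, xZ_mul_iota ι hι, map_mul]
  show ρ (ι g) (ρ (xZ c) v) = _
  rw [hv c]

theorem t1G_mem_Ysp (ρ : Representation ℂ (SpG F (k + 1)) V) (t : Fˣ) (v : V) (hv : v ∈ Ysp ρ) :
    ρ (LvG (t1G t)) v ∈ Ysp ρ := by
  intro c
  have h1 : ρ (xZ c) (ρ (LvG (t1G t)) v) = ρ (xZ c * LvG (t1G t)) v := by rw [map_mul]; rfl
  have h2 : (xZ c : SpG F (k + 1)) * LvG (t1G t) =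
      LvG (t1G t) * xZ (((t⁻¹ : Fˣ) : F) * c * ((t⁻¹ : Fˣ) : F)) := by
    show Xs _ _ * _ = _
    rw [WGLVW.Xs_mul_LvG]
    congr 1
    apply Xs_congr
    rw [t1G_inv_val, single_zero_zero_eq_bd, single_zero_zero_eq_bd, bd_transpose, bd_mul, bd_mul,
      Matrix.mul_zero, Matrix.zero_mul]
  rw [h1, h2, map_mul]
  show ρ (LvG (t1G t)) (ρ (xZ _) v) = _
  rw [hv _]

/-- (INV) `T_1` commutes with `C`. -/
theorem t1G_comm_iota (ι : SpG F k →* SpG F (k + 1)) (hι : IsIota ι) (t : Fˣ) (g : SpG F k) :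
    (LvG (t1G t) : SpG F (k + 1)) * ι g = ι g * LvG (t1G t) := by
  apply Subtype.ext
  show fromBlocks ((t1G t : GL (Fin (k + 1)) F) : Matrix (Fin (k + 1)) (Fin (k + 1)) F) 0 0
      (((t1G t)⁻¹ : GL (Fin (k + 1)) F) : Matrix (Fin (k + 1)) (Fin (k + 1)) F)ᵀ * (ι g).1 =
    (ι g).1 * fromBlocks ((t1G t : GL (Fin (k + 1)) F) : Matrix (Fin (k + 1)) (Fin (k + 1)) F) 0 0
      (((t1G t)⁻¹ : GL (Fin (k + 1)) F) : Matrix (Fin (k + 1)) (Fin (k + 1)) F)ᵀ
  rw [hι g, iotaMat, t1G_val, t1G_inv_val, fromBlocks_multiply, fromBlocks_multiply, bd_transpose,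
    transpose_one]
  simp only [Matrix.one_mul, Matrix.mul_one, Matrix.zero_mul, Matrix.mul_zero, add_zero, zero_add,
    bd_mul, mul_zero, zero_mul, mul_one, one_mul]

end struct

end Cfsg.Agent.Lib.Helper23.WGINV
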