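/-
helper23: S2524 leaf F1 (helper10's market, `notes/S2524_leaves.lean`): the Heisenberg radical acts trivially
on `Ysp = C_V(Z)` for a (W)-module.
-/
import Mathlib
import Cfsg.Agent.Lib.Helper10.WGDefs
import Cfsg.Agent.Lib.Helper17.WGWD
import Cfsg.Agent.Lib.Helper17.WGZD
import Cfsg.Agent.Lib.Helper23.WGINV

set_option autoImplicit false

namespace Cfsg.Agent.Lib.Helper23.WGF1

open Matrix Cfsg.Agent.Lib.Helper11.LS Cfsg.Agent.Lib.Helper10.WG

universe u

variable {F : Type*} [Field F] [Fintype F] [DecidableEq F]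

section mats

variable {n : ℕ}

/-- `xZ c` commutes with the reflection `s_m`, `m ≠ 0`. -/
theorem xZ_mul_sw (c : F) (m : Fin (n + 1)) (hm : m ≠ 0) :
    (xZ c : SpG F (n + 1)) * sw m = sw m * xZ c := by
  apply Subtype.ext
  show fromBlocks 1 (single 0 0 c) 0 1 *
      fromBlocks (1 - single m m 1) (- single m m 1) (single m m 1) (1 - single m m 1) =
    fromBlocks (1 - single m m 1) (- single m m 1) (single m m 1) (1 - single m m (1 : F)) *
      fromBlocks 1 (single 0 0 c) 0 1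
  rw [fromBlocks_multiply, fromBlocks_multiply]
  have e1 : (single 0 0 c : Matrix (Fin (n + 1)) (Fin (n + 1)) F) * single m m 1 = 0 :=
    single_mul_single_of_ne _ _ _ _ (Ne.symm hm) _
  have e2 : (single m m 1 : Matrix (Fin (n + 1)) (Fin (n + 1)) F) * single 0 0 c = 0 :=
    single_mul_single_of_ne _ _ _ _ hm _
  simp only [Matrix.one_mul, Matrix.mul_one, Matrix.zero_mul, Matrix.mul_zero, add_zero, zero_add,
    Matrix.mul_sub, Matrix.sub_mul, e1, e2, sub_zero]
  congr 1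
  abel

theorem tvG_val (i j : Fin n) (hij : i ≠ j) (c : F) :
    ((tvG i j hij c : GL (Fin n) F) : Matrix (Fin n) (Fin n) F) = 1 + single i j c := rfl

theorem tvG_inv_val (i j : Fin n) (hij : i ≠ j) (c : F) :
    (((tvG i j hij c)⁻¹ : GL (Fin n) F) : Matrix (Fin n) (Fin n) F) = 1 - single i j c := by
  have h : (tvG i j hij c : GL (Fin n) F) * tvG i j hij (-c) = 1 := by
    apply Units.ext
    rw [Units.val_mul, tvG_val, tvG_val, Units.val_one]
    have := transvection_mul_transvection_same (R := F) i j hij c (-c)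
    rw [transvection, transvection, transvection, add_neg_cancel, single_zero, add_zero] at this
    exact this
  rw [inv_eq_of_mul_eq_one_right h, tvG_val, ← single_neg, sub_eq_add_neg]

/-- `s_m A_m(-c) = U'_m(c) s_m` -/
theorem sw_mul_xA (j : Fin n) (c : F) :
    (sw j.succ : SpG F (n + 1)) * xA j (-c) = uP j c * sw j.succ := by
  have hm : j.succ ≠ 0 := Fin.succ_ne_zero j
  apply Subtype.ext
  show fromBlocks (1 - single j.succ j.succ 1) (- single j.succ j.succ 1) (single j.succ j.succ 1)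
        (1 - single j.succ j.succ (1 : F)) *
      fromBlocks 1 (single 0 j.succ (-c) + single j.succ 0 (-c)) 0 1 =
    fromBlocks ((tvG 0 j.succ hm.symm c : GL (Fin (n + 1)) F) : Matrix (Fin (n + 1)) (Fin (n + 1)) F)
        0 0 (((tvG 0 j.succ hm.symm c)⁻¹ : GL (Fin (n + 1)) F) :
          Matrix (Fin (n + 1)) (Fin (n + 1)) F)ᵀ *
      fromBlocks (1 - single j.succ j.succ 1) (- single j.succ j.succ 1) (single j.succ j.succ 1)
        (1 - single j.succ j.succ (1 : F))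
  rw [fromBlocks_multiply, fromBlocks_multiply, tvG_val, tvG_inv_val, transpose_sub, transpose_one,
    transpose_single]
  rw [← single_neg 0 j.succ c, ← single_neg j.succ 0 c]
  have e1 : (single j.succ j.succ 1 : Matrix (Fin (n + 1)) (Fin (n + 1)) F) * single 0 j.succ c = 0 :=
    single_mul_single_of_ne _ _ _ _ hm _
  have e2 : (single j.succ j.succ 1 : Matrix (Fin (n + 1)) (Fin (n + 1)) F) *
      single j.succ (0 : Fin (n + 1)) c = single j.succ 0 c := by
    rw [single_mul_single_same, one_mul]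
  have e3 : (single 0 j.succ c : Matrix (Fin (n + 1)) (Fin (n + 1)) F) * single j.succ j.succ 1 =
      single 0 j.succ c := by
    rw [single_mul_single_same, mul_one]
  have e4 : (single j.succ 0 c : Matrix (Fin (n + 1)) (Fin (n + 1)) F) * single j.succ j.succ 1 = 0 :=
    single_mul_single_of_ne _ _ _ _ hm.symm _
  simp only [Matrix.one_mul, Matrix.mul_one, Matrix.zero_mul, Matrix.mul_zero, add_zero, zero_add,
    Matrix.mul_sub, Matrix.sub_mul, Matrix.mul_add, Matrix.add_mul, Matrix.mul_neg, Matrix.neg_mul,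
    e1, e2, e3, e4, sub_zero]
  congr 1 <;> abel

end mats

section struct

variable {k : ℕ} {V V' : Type u} [AddCommGroup V] [Module ℂ V] [AddCommGroup V'] [Module ℂ V']

/-- `Ysp` is invariant under `Xs S`. -/
theorem Xs_mem_Ysp (ρ : Representation ℂ (SpG F (k + 1)) V)
    (S : Matrix (Fin (k + 1)) (Fin (k + 1)) F) (hS : Sᵀ = S) (v : V) (hv : v ∈ Ysp ρ) :
    ρ (Xs S hS) v ∈ Ysp ρ := by
  intro c
  have h1 : ρ (xZ c) (ρ (Xs S hS) v) = ρ (xZ c * Xs S hS) v := by rw [map_mul]; rfl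
  have h2 : (xZ c : SpG F (k + 1)) * Xs S hS = Xs S hS * xZ c := by
    show Xs _ _ * Xs S hS = Xs S hS * Xs _ _
    rw [Helper17.WGWD.Xs_mul_Xs, Helper17.WGWD.Xs_mul_Xs]
    exact Helper17.WGWD.Xs_congr (add_comm _ _) _ _
  rw [h1, h2, map_mul]
  show ρ (Xs S hS) (ρ (xZ c) v) = _
  rw [hv c]

/-- `Ysp` is invariant under the weight projectors. -/
theorem wtProj_mem_Ysp (ψ : AddChar F ℂ) (ρ : Representation ℂ (SpG F (k + 1)) V)
    (B : Matrix (Fin (k + 1)) (Fin (k + 1)) F) (v : V) (hv : v ∈ Ysp ρ) :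
    wtProj ψ ρ B v ∈ Ysp ρ := by
  rw [wtProj, LinearMap.smul_apply, LinearMap.sum_apply]
  refine Submodule.smul_mem _ _ (Submodule.sum_mem _ (fun S _ => ?_))
  rw [LinearMap.smul_apply]
  exact Submodule.smul_mem _ _ (Xs_mem_Ysp ρ S.1 S.2 v hv)

/-- a nonzero vector of `Ysp` of weight `B` has `B 0 0 = 0`. -/
theorem wt_Ysp_zero_zero (ψ : AddChar F ℂ) (hψ : ψ.IsPrimitive)
    (ρ : Representation ℂ (SpG F (k + 1)) V) (B : Matrix (Fin (k + 1)) (Fin (k + 1)) F)
    (v : V) (hv : v ∈ Ysp ρ) (hvB : v ∈ wt ψ ρ B) (hv0 : v ≠ 0) : B 0 0 = 0 := by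
  by_contra hB
  have h1 := hψ hB
  apply h1
  ext c
  have h2 := Helper17.WGZD.wt_le_zsp ψ ρ B hvB c
  rw [hv c] at h2
  have h3 : ((1 : ℂ) - ψ (B 0 0 * c)) • v = 0 := by
    rw [sub_smul, one_smul, ← h2, sub_self]
  rcases smul_eq_zero.mp h3 with h | h
  · rw [AddChar.mulShift_apply, AddChar.one_apply]
    exact (sub_eq_zero.mp h).symm
  · exact absurd h hv0

/-- the first row of a rank one weight with `B 0 0 = 0` vanishes -/
theorem row_zero_of_rank_one (B : Matrix (Fin (k + 1)) (Fin (k + 1)) F) (a : F) (w : Fin (k + 1) → F)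
    (hB : B = a • vecMulVec w w) (h00 : B 0 0 = 0) (j : Fin (k + 1)) : B 0 j = 0 ∧ B j 0 = 0 := by
  subst hB
  simp only [Matrix.smul_apply, vecMulVec_apply, smul_eq_mul] at h00 ⊢
  rcases mul_eq_zero.mp h00 with h | h
  · simp [h]
  · rcases mul_eq_zero.mp h with h | h <;> simp [h]

/-- (F1), the `A`-part on a weight vector -/
theorem xA_fixed_wt (ψ : AddChar F ℂ) (hψ : ψ.IsPrimitive)
    (ρ : Representation ℂ (SpG F (k + 1)) V) (hW : IsW ψ ρ)
    (B : Matrix (Fin (k + 1)) (Fin (k + 1)) F) (hB : Bᵀ = B)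
    (v : V) (hv : v ∈ Ysp ρ) (hvB : v ∈ wt ψ ρ B) (j : Fin k) (c : F) : ρ (xA j c) v = v := by
  by_cases hv0 : v = 0
  · rw [hv0, map_zero]
  have hne : wt ψ ρ B ≠ ⊥ := fun h => hv0 ((Submodule.mem_bot ℂ).mp (h ▸ hvB))
  obtain ⟨a, w, hBw⟩ := hW B hB hne
  have h00 := wt_Ysp_zero_zero ψ hψ ρ B v hv hvB hv0
  have hrow := row_zero_of_rank_one B a w hBw h00 j.succ
  have h1 := hvB (single 0 j.succ c + single j.succ 0 c)
    (by rw [transpose_add, transpose_single, transpose_single]; exact add_comm _ _)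
  rw [Matrix.mul_add, trace_add, Helper17.WGWD.trace_mul_single', Helper17.WGWD.trace_mul_single',
    hrow.1, hrow.2, zero_mul, add_zero, AddChar.map_zero_eq_one, one_smul] at h1
  exact h1

/-- (F1) the Heisenberg radical `Q_1 = Z A U'` acts trivially on `Ysp = C_V(Z)`: `A` by weights
(`B_00 = 0` + rank at most one => first row of `B` zero), `U'_j = s_j A_j s_j⁻¹` with `s_j = sw j.succ` in
`C`, and `Ysp` is `C`-invariant. -/
theorem Ysp_fixed (h2 : (2 : F) ≠ 0) (ψ : AddChar F ℂ) (hψ : ψ.IsPrimitive)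
    (ρ : Representation ℂ (SpG F (k + 1)) V) (hW : IsW ψ ρ) (v : V) (hv : v ∈ Ysp ρ) :
    (∀ (j : Fin k) (c : F), ρ (xA j c) v = v) ∧ (∀ (j : Fin k) (c : F), ρ (uP j c) v = v) := by
  have hA : ∀ (v : V), v ∈ Ysp ρ → ∀ (j : Fin k) (c : F), ρ (xA j c) v = v := by
    intro v hv j c
    conv_lhs => rw [← Helper17.WGWD.sum_wtProj h2 ψ hψ ρ v]
    conv_rhs => rw [← Helper17.WGWD.sum_wtProj h2 ψ hψ ρ v]
    rw [map_sum]
    refine Finset.sum_congr rfl (fun B _ => ?_)
    exact xA_fixed_wt ψ hψ ρ hW B.1 B.2 _ (wtProj_mem_Ysp ψ ρ B.1 v hv)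
      (Helper17.WGWD.wtProj_mem ψ ρ B.1 v) j c
  refine ⟨hA v hv, ?_⟩
  intro j c
  -- `uP j c = s * xA j (-c) * s⁻¹`
  have hm : j.succ ≠ 0 := Fin.succ_ne_zero j
  have hs : ∀ u : V, u ∈ Ysp ρ → ρ ((sw j.succ)⁻¹) u ∈ Ysp ρ := by
    intro u hu c'
    have e : (xZ c' : SpG F (k + 1)) * (sw j.succ)⁻¹ = (sw j.succ)⁻¹ * xZ c' := by
      rw [eq_inv_mul_iff_mul_eq, ← mul_assoc, ← xZ_mul_sw c' j.succ hm, mul_assoc, mul_inv_cancel,
        mul_one]
    have h1 : ρ (xZ c') (ρ ((sw j.succ)⁻¹) u) = ρ (xZ c' * (sw j.succ)⁻¹) u := by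
      rw [map_mul]; rfl
    rw [h1, e, map_mul]
    show ρ ((sw j.succ)⁻¹) (ρ (xZ c') u) = _
    rw [hu c']
  have e : (uP j c : SpG F (k + 1)) = sw j.succ * xA j (-c) * (sw j.succ)⁻¹ := by
    rw [sw_mul_xA, mul_assoc, mul_inv_cancel, mul_one]
  rw [e, map_mul, map_mul]
  show ρ (sw j.succ) (ρ (xA j (-c)) (ρ ((sw j.succ)⁻¹) v)) = v
  rw [hA _ (hs v hv)]
  show (ρ (sw j.succ) * ρ ((sw j.succ)⁻¹)) v = v
  rw [← map_mul, mul_inv_cancel, map_one]
  rfl

end struct

end Cfsg.Agent.Lib.Helper23.WGF1
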