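/-
helper23: S2524 leaf F3 (helper10's market, `notes/S2524_leaves.lean`): `U''` acts trivially on the weight
space of `a E_00`.  This is (F1) "at the point `e_m`": the proof of `WGF1.Ysp_fixed` with the index `0`
replaced by an arbitrary index `i` (and `m ≠ i`).
-/
import Mathlib
import Cfsg.Agent.Lib.Helper10.WGDefs
import Cfsg.Agent.Lib.Helper17.WGWD
import Cfsg.Agent.Lib.Helper17.WGZD
import Cfsg.Agent.Lib.Helper23.WGF1

set_option autoImplicit false

namespace Cfsg.Agent.Lib.Helper23.WGF3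

open Matrix Cfsg.Agent.Lib.Helper11.LS Cfsg.Agent.Lib.Helper10.WG

universe u

variable {F : Type*} [Field F] [Fintype F] [DecidableEq F]

section mats

variable {n : ℕ}

/-- the long root element at the index `i` -/
def xZi (i : Fin n) (c : F) : SpG F n := Xs (single i i c) (by simp)

/-- `xZi i c` commutes with the reflection `s_m`, `m ≠ i`. -/
theorem xZi_mul_sw (i : Fin n) (c : F) (m : Fin n) (hm : m ≠ i) :
    (xZi i c : SpG F n) * sw m = sw m * xZi i c := by
  apply Subtype.ext
  show fromBlocks 1 (single i i c) 0 1 *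
      fromBlocks (1 - single m m 1) (- single m m 1) (single m m 1) (1 - single m m 1) =
    fromBlocks (1 - single m m 1) (- single m m 1) (single m m 1) (1 - single m m (1 : F)) *
      fromBlocks 1 (single i i c) 0 1
  rw [fromBlocks_multiply, fromBlocks_multiply]
  have e1 : (single i i c : Matrix (Fin n) (Fin n) F) * single m m 1 = 0 :=
    single_mul_single_of_ne _ _ _ _ (Ne.symm hm) _
  have e2 : (single m m 1 : Matrix (Fin n) (Fin n) F) * single i i c = 0 :=
    single_mul_single_of_ne _ _ _ _ hm _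
  simp only [Matrix.one_mul, Matrix.mul_one, Matrix.zero_mul, Matrix.mul_zero, add_zero, zero_add,
    Matrix.mul_sub, Matrix.sub_mul, e1, e2, sub_zero]
  congr 1
  abel

/-- `s_m A_{im}(-c) = U_{im}(c) s_m` -/
theorem sw_mul_xAi (i m : Fin n) (him : i ≠ m) (c : F) :
    (sw m : SpG F n) * Xs (single i m (-c) + single m i (-c))
        (by rw [transpose_add, transpose_single, transpose_single]; exact add_comm _ _) =
      LvG (tvG i m him c) * sw m := by
  have hm : m ≠ i := him.symm
  apply Subtype.ext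
  show fromBlocks (1 - single m m 1) (- single m m 1) (single m m 1)
        (1 - single m m (1 : F)) *
      fromBlocks 1 (single i m (-c) + single m i (-c)) 0 1 =
    fromBlocks ((tvG i m him c : GL (Fin n) F) : Matrix (Fin n) (Fin n) F)
        0 0 (((tvG i m him c)⁻¹ : GL (Fin n) F) : Matrix (Fin n) (Fin n) F)ᵀ *
      fromBlocks (1 - single m m 1) (- single m m 1) (single m m 1)
        (1 - single m m (1 : F))
  rw [fromBlocks_multiply, fromBlocks_multiply, WGF1.tvG_val, WGF1.tvG_inv_val, transpose_sub,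
    transpose_one, transpose_single]
  rw [← single_neg i m c, ← single_neg m i c]
  have e1 : (single m m 1 : Matrix (Fin n) (Fin n) F) * single i m c = 0 :=
    single_mul_single_of_ne _ _ _ _ hm _
  have e2 : (single m m 1 : Matrix (Fin n) (Fin n) F) * single m i c = single m i c := by
    rw [single_mul_single_same, one_mul]
  have e3 : (single i m c : Matrix (Fin n) (Fin n) F) * single m m 1 = single i m c := by
    rw [single_mul_single_same, mul_one]
  have e4 : (single m i c : Matrix (Fin n) (Fin n) F) * single m m 1 = 0 :=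
    single_mul_single_of_ne _ _ _ _ hm.symm _
  simp only [Matrix.one_mul, Matrix.mul_one, Matrix.zero_mul, Matrix.mul_zero, add_zero, zero_add,
    Matrix.mul_sub, Matrix.sub_mul, Matrix.mul_add, Matrix.add_mul, Matrix.mul_neg, Matrix.neg_mul,
    e1, e2, e3, e4, sub_zero]
  congr 1 <;> abel

end mats

section struct

variable {n : ℕ} {V V' : Type u} [AddCommGroup V] [Module ℂ V] [AddCommGroup V'] [Module ℂ V']

/-- the fixed points of the long root group at the index `i` -/
def Yi (ρ : Representation ℂ (SpG F n) V) (i : Fin n) : Submodule ℂ V where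
  carrier := {v | ∀ c : F, ρ (xZi i c) v = v}
  add_mem' := by
    intro a b ha hb c
    rw [map_add, ha c, hb c]
  zero_mem' := by
    intro c
    rw [map_zero]
  smul_mem' := by
    intro t a ha c
    rw [map_smul, ha c]

/-- `Yi` is invariant under `Xs S`. -/
theorem Xs_mem_Yi (ρ : Representation ℂ (SpG F n) V) (i : Fin n)
    (S : Matrix (Fin n) (Fin n) F) (hS : Sᵀ = S) (v : V) (hv : v ∈ Yi ρ i) :
    ρ (Xs S hS) v ∈ Yi ρ i := by
  intro c
  have h1 : ρ (xZi i c) (ρ (Xs S hS) v) = ρ (xZi i c * Xs S hS) v := by rw [map_mul]; rfl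
  have h2 : (xZi i c : SpG F n) * Xs S hS = Xs S hS * xZi i c := by
    show Xs _ _ * Xs S hS = Xs S hS * Xs _ _
    rw [Helper17.WGWD.Xs_mul_Xs, Helper17.WGWD.Xs_mul_Xs]
    exact Helper17.WGWD.Xs_congr (add_comm _ _) _ _
  rw [h1, h2, map_mul]
  show ρ (Xs S hS) (ρ (xZi i c) v) = _
  rw [hv c]

/-- `Yi` is invariant under the weight projectors. -/
theorem wtProj_mem_Yi (ψ : AddChar F ℂ) (ρ : Representation ℂ (SpG F n) V) (i : Fin n)
    (B : Matrix (Fin n) (Fin n) F) (v : V) (hv : v ∈ Yi ρ i) :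
    wtProj ψ ρ B v ∈ Yi ρ i := by
  rw [wtProj, LinearMap.smul_apply, LinearMap.sum_apply]
  refine Submodule.smul_mem _ _ (Submodule.sum_mem _ (fun S _ => ?_))
  rw [LinearMap.smul_apply]
  exact Submodule.smul_mem _ _ (Xs_mem_Yi ρ i S.1 S.2 v hv)

/-- a nonzero vector of `Yi` of weight `B` has `B i i = 0`. -/
theorem wt_Yi_diag_zero (ψ : AddChar F ℂ) (hψ : ψ.IsPrimitive)
    (ρ : Representation ℂ (SpG F n) V) (i : Fin n) (B : Matrix (Fin n) (Fin n) F)
    (v : V) (hv : v ∈ Yi ρ i) (hvB : v ∈ wt ψ ρ B) (hv0 : v ≠ 0) : B i i = 0 := by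
  by_contra hB
  have h1 := hψ hB
  apply h1
  ext c
  have h2 := hvB (single i i c) (by simp)
  rw [Helper17.WGWD.trace_mul_single'] at h2
  have h2' : ρ (xZi i c) v = ψ (B i i * c) • v := h2
  rw [hv c] at h2'
  have h3 : ((1 : ℂ) - ψ (B i i * c)) • v = 0 := by
    rw [sub_smul, one_smul, ← h2', sub_self]
  rcases smul_eq_zero.mp h3 with h | h
  · rw [AddChar.mulShift_apply, AddChar.one_apply]
    exact (sub_eq_zero.mp h).symm
  · exact absurd h hv0

/-- the `i`-th row of a rank one weight with `B i i = 0` vanishes -/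
theorem row_zero_of_rank_one (B : Matrix (Fin n) (Fin n) F) (a : F) (w : Fin n → F)
    (hB : B = a • vecMulVec w w) (i : Fin n) (h00 : B i i = 0) (j : Fin n) :
    B i j = 0 ∧ B j i = 0 := by
  subst hB
  simp only [Matrix.smul_apply, vecMulVec_apply, smul_eq_mul] at h00 ⊢
  rcases mul_eq_zero.mp h00 with h | h
  · simp [h]
  · rcases mul_eq_zero.mp h with h | h <;> simp [h]

/-- the `A`-part on a weight vector -/
theorem xAi_fixed_wt (ψ : AddChar F ℂ) (hψ : ψ.IsPrimitive)
    (ρ : Representation ℂ (SpG F n) V) (hW : IsW ψ ρ) (i : Fin n)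
    (B : Matrix (Fin n) (Fin n) F) (hB : Bᵀ = B)
    (v : V) (hv : v ∈ Yi ρ i) (hvB : v ∈ wt ψ ρ B) (m : Fin n) (c : F) :
    ρ (Xs (single i m c + single m i c)
      (by rw [transpose_add, transpose_single, transpose_single]; exact add_comm _ _)) v = v := by
  by_cases hv0 : v = 0
  · rw [hv0, map_zero]
  have hne : wt ψ ρ B ≠ ⊥ := fun h => hv0 ((Submodule.mem_bot ℂ).mp (h ▸ hvB))
  obtain ⟨a, w, hBw⟩ := hW B hB hne
  have h00 := wt_Yi_diag_zero ψ hψ ρ i B v hv hvB hv0
  have hrow := row_zero_of_rank_one B a w hBw i h00 m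
  have h1 := hvB (single i m c + single m i c)
    (by rw [transpose_add, transpose_single, transpose_single]; exact add_comm _ _)
  rw [Matrix.mul_add, trace_add, Helper17.WGWD.trace_mul_single', Helper17.WGWD.trace_mul_single',
    hrow.1, hrow.2, zero_mul, add_zero, AddChar.map_zero_eq_one, one_smul] at h1
  exact h1

/-- (F1) at the index `i`: the fixed points of the long root group at `i` are fixed by the Levi
transvections `LvG (1 + c E_im)`. -/
theorem Yi_fixed (h2 : (2 : F) ≠ 0) (ψ : AddChar F ℂ) (hψ : ψ.IsPrimitive)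
    (ρ : Representation ℂ (SpG F n) V) (hW : IsW ψ ρ) (i : Fin n) (v : V) (hv : v ∈ Yi ρ i)
    (m : Fin n) (him : i ≠ m) (c : F) : ρ (LvG (tvG i m him c)) v = v := by
  have hA : ∀ (v : V), v ∈ Yi ρ i → ∀ (c : F), ρ (Xs (single i m c + single m i c)
      (by rw [transpose_add, transpose_single, transpose_single]; exact add_comm _ _)) v = v := by
    intro v hv c
    conv_lhs => rw [← Helper17.WGWD.sum_wtProj h2 ψ hψ ρ v]
    conv_rhs => rw [← Helper17.WGWD.sum_wtProj h2 ψ hψ ρ v]
    rw [map_sum]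
    refine Finset.sum_congr rfl (fun B _ => ?_)
    exact xAi_fixed_wt ψ hψ ρ hW i B.1 B.2 _ (wtProj_mem_Yi ψ ρ i B.1 v hv)
      (Helper17.WGWD.wtProj_mem ψ ρ B.1 v) m c
  have hm : m ≠ i := him.symm
  have hs : ∀ u : V, u ∈ Yi ρ i → ρ ((sw m)⁻¹) u ∈ Yi ρ i := by
    intro u hu c'
    have e : (xZi i c' : SpG F n) * (sw m)⁻¹ = (sw m)⁻¹ * xZi i c' := by
      rw [eq_inv_mul_iff_mul_eq, ← mul_assoc, ← xZi_mul_sw i c' m hm, mul_assoc, mul_inv_cancel,
        mul_one]
    have h1 : ρ (xZi i c') (ρ ((sw m)⁻¹) u) = ρ (xZi i c' * (sw m)⁻¹) u := by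
      rw [map_mul]; rfl
    rw [h1, e, map_mul]
    show ρ ((sw m)⁻¹) (ρ (xZi i c') u) = _
    rw [hu c']
  have e : (LvG (tvG i m him c) : SpG F n) = sw m * Xs (single i m (-c) + single m i (-c))
      (by rw [transpose_add, transpose_single, transpose_single]; exact add_comm _ _) *
        (sw m)⁻¹ := by
    rw [sw_mul_xAi, mul_assoc, mul_inv_cancel, mul_one]
  rw [e, map_mul, map_mul]
  show ρ (sw m) (ρ (Xs _ _) (ρ ((sw m)⁻¹) v)) = v
  rw [hA _ (hs v hv)]
  show (ρ (sw m) * ρ ((sw m)⁻¹)) v = v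
  rw [← map_mul, mul_inv_cancel, map_one]
  rfl

end struct

section F3

variable {k : ℕ} {V V' : Type u} [AddCommGroup V] [Module ℂ V] [AddCommGroup V'] [Module ℂ V']

/-- (F3) `U''` acts trivially on the weight space of `a E_00` ((F1) at the point `e_j`, i.e. conjugated by
the permutation matrix of `(0 j)`: `(a E_00)_jj = 0`). -/
theorem lower_fixed_wt_single (h2 : (2 : F) ≠ 0) (ψ : AddChar F ℂ) (hψ : ψ.IsPrimitive)
    (ρ : Representation ℂ (SpG F (k + 1)) V) (hW : IsW ψ ρ) (a : F) (v : V)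
    (hv : v ∈ wt ψ ρ (single 0 0 a)) (j : Fin k) (c : F) :
    ρ (uPP j c) v = v := by
  have hm : j.succ ≠ (0 : Fin (k + 1)) := Fin.succ_ne_zero j
  have hY : v ∈ Yi ρ j.succ := by
    intro c'
    have h1 := hv (single j.succ j.succ c') (by simp)
    rw [Helper17.WGWD.trace_mul_single', single_apply_of_row_ne hm.symm, zero_mul,
      AddChar.map_zero_eq_one, one_smul] at h1
    exact h1
  exact Yi_fixed h2 ψ hψ ρ hW j.succ v hY 0 hm c

end F3

end Cfsg.Agent.Lib.Helper23.WGF3
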