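import Mathlib
import Cfsg.Agent.Lib.Helper25.WeilDefs

/-!
# S2347 leaf WC (for helper25): the commutant of a group of implementing operators which is
transitive on the nonzero vectors is spanned by `1` and `E`.
-/

set_option autoImplicit false

open Cfsg.Agent.Lib.Helper25.Weil Module

namespace Cfsg.Agent.Lib.Helper23.WeilLeaf

variable {F V : Type*} [Field F] [AddCommGroup V] [Module F V] {S : Setting F V}
variable {M : Type*} [AddCommGroup M] [Module ℂ M]

/-- WC -/
theorem commutant [Fintype V] (𝒲 : S.Weyl M) (hli : LinearIndependent ℂ 𝒲.W)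
    (hspan : ∀ T : Module.End ℂ M, ∃ c : V → ℂ, T = ∑ v, c v • 𝒲.W v)
    {G : Type*} [Group G] [DistribMulAction G V]
    (htrans : ∀ u v : V, u ≠ 0 → v ≠ 0 → ∃ g : G, g • u = v)
    (ω : G → Module.End ℂ M) (hω : ∀ g, 𝒲.Impl (fun v => g • v) (ω g)) (hu : ∀ g, IsUnit (ω g))
    (T : Module.End ℂ M) (hT : ∀ g, T * ω g = ω g * T) :
    ∃ a b : ℂ, T = a • 1 + b • 𝒲.E := by
  classical
  obtain ⟨c, hc⟩ := hspan T
  have hω' : ∀ g v, ω g * 𝒲.W v = 𝒲.W (g • v) * ω g := fun g v => hω g v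
  -- the coefficients are `G`-invariant
  have hinv : ∀ (g : G) (v : V), c (g • v) = c v := by
    intro g v
    obtain ⟨U, hU⟩ := hu g
    have h1 : ω g * T = (∑ v, c v • 𝒲.W (g • v)) * ω g := by
      rw [hc, Finset.mul_sum, Finset.sum_mul]
      refine Finset.sum_congr rfl (fun v _ => ?_)
      rw [mul_smul_comm, hω' g v, smul_mul_assoc]
    have h2 : T = ∑ v, c v • 𝒲.W (g • v) := by
      have h3 : T * ω g = (∑ v, c v • 𝒲.W (g • v)) * ω g := by rw [hT g, h1]
      rw [← hU] at h3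
      exact (Units.mul_left_inj U).mp h3
    have h4 : T = ∑ v, c (g • v) • 𝒲.W (g • v) := by
      rw [hc]
      exact (Fintype.sum_equiv (MulAction.toPerm g) _ _ (fun v => rfl)).symm
    have h5 : ∑ v, (c (g • v) - c v) • 𝒲.W (g • v) = 0 := by
      simp_rw [sub_smul]
      rw [Finset.sum_sub_distrib, ← h4, ← h2, sub_self]
    have hli' : LinearIndependent ℂ (fun v => 𝒲.W (g • v)) :=
      hli.comp _ (MulAction.injective g)
    have h6 := Fintype.linearIndependent_iff.mp hli' _ h5 v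
    exact sub_eq_zero.mp h6
  by_cases hex : ∃ v₀ : V, v₀ ≠ 0
  · obtain ⟨v₀, hv₀⟩ := hex
    have hconst : ∀ v : V, v ≠ 0 → c v = c v₀ := by
      intro v hv
      obtain ⟨g, hg⟩ := htrans v v₀ hv hv₀
      rw [← hg, hinv]
    refine ⟨c 0 - c v₀, c v₀, ?_⟩
    have hterm : ∀ v : V, c v • 𝒲.W v =
        (if v = 0 then (c 0 - c v₀) • (1 : Module.End ℂ M) else 0) + c v₀ • 𝒲.W v := by
      intro v
      by_cases hv : v = 0
      · rw [if_pos hv, hv, 𝒲.W_zero, ← add_smul, sub_add_cancel]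
      · rw [if_neg hv, zero_add, hconst v hv]
    rw [hc]
    unfold Setting.Weyl.E
    simp_rw [hterm]
    rw [Finset.sum_add_distrib, Finset.sum_ite_eq', if_pos (Finset.mem_univ _), Finset.smul_sum]
  · push Not at hex
    refine ⟨c 0, 0, ?_⟩
    rw [hc, zero_smul, add_zero, Finset.sum_eq_single (0 : V)]
    · rw [𝒲.W_zero]
    · intro v _ hv; exact absurd (hex v) hv
    · intro h; exact absurd (Finset.mem_univ _) h

end Cfsg.Agent.Lib.Helper23.WeilLeaf
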