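import Mathlib
import Cfsg.Agent.Lib.Helper25.WeilDefs

/-!
# S2347 leaf WF (for helper25): the transvections are implemented by Gauss-type operators
`T = ∑ s, ψ (α s²) W (s w)`, `α = (2c)⁻¹`.
-/

set_option autoImplicit false

open Cfsg.Agent.Lib.Helper25.Weil Module

namespace Cfsg.Agent.Lib.Helper23.WeilLeaf

variable {F V : Type*} [Field F] [AddCommGroup V] [Module F V] {S : Setting F V}
variable {M : Type*} [AddCommGroup M] [Module ℂ M]

/-- the Gauss-type operator `∑ s, ψ (a s²) W (s w)` -/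
noncomputable def gaussOp [Fintype F] (𝒲 : S.Weyl M) (w : V) (a : F) : Module.End ℂ M :=
  ∑ s : F, S.ψ (a * (s * s)) • 𝒲.W (s • w)

theorem W_smul_mul_smul (𝒲 : S.Weyl M) (w : V) (s t : F) :
    𝒲.W (s • w) * 𝒲.W (t • w) = 𝒲.W ((s + t) • w) := by
  rw [𝒲.W_mul_of_B_eq_zero, add_smul]
  simp only [map_smul, LinearMap.smul_apply, S.alt, smul_zero]

theorem gaussOp_mul_neg [Fintype F] (𝒲 : S.Weyl M) (w : V) {a : F} (ha : a ≠ 0) :
    gaussOp 𝒲 w a * gaussOp 𝒲 w (-a) = (Fintype.card F : ℂ) • (1 : Module.End ℂ M) := by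
  classical
  unfold gaussOp
  rw [Finset.sum_mul]
  simp_rw [Finset.mul_sum, smul_mul_smul_comm, W_smul_mul_smul]
  have h1 : ∀ s : F, ∑ t : F, (S.ψ (a * (s * s)) * S.ψ (-a * (t * t))) • 𝒲.W ((s + t) • w) =
      ∑ r : F, (S.ψ (-a * (r * r)) * S.ψ ((2 * a * r) * s)) • 𝒲.W (r • w) := by
    intro s
    refine Fintype.sum_equiv (Equiv.addLeft s) _ _ (fun t => ?_)
    show _ = (S.ψ (-a * ((s + t) * (s + t))) * S.ψ ((2 * a * (s + t)) * s)) • 𝒲.W ((s + t) • w)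
    congr 1
    rw [← AddChar.map_add_eq_mul, ← AddChar.map_add_eq_mul]
    congr 1
    ring
  simp_rw [h1]
  rw [Finset.sum_comm]
  simp_rw [← Finset.sum_smul, ← Finset.mul_sum]
  rw [Finset.sum_eq_single (0 : F)]
  · simp only [mul_zero, zero_mul, AddChar.map_zero_eq_one, one_mul, Finset.sum_const,
      Finset.card_univ, nsmul_eq_mul, mul_one, zero_smul, 𝒲.W_zero]
  · intro r _ hr
    have h2 : 2 * a * r ≠ 0 := mul_ne_zero (mul_ne_zero S.two_ne ha) hr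
    rw [S.sum_ψ_mul h2, mul_zero, zero_smul]
  · intro h; exact absurd (Finset.mem_univ _) h

theorem gaussOp_impl [Fintype F] (𝒲 : S.Weyl M) (w : V) {c : F} (hc : c ≠ 0) (v : V) :
    gaussOp 𝒲 w (2 * c)⁻¹ * 𝒲.W v =
      𝒲.W (v + (c * S.B v w) • w) * gaussOp 𝒲 w (2 * c)⁻¹ := by
  classical
  have h2 : (2 : F) ≠ 0 := S.two_ne
  set b : F := S.B v w with hb
  -- both sides equal `W v * ∑ s, ψ (α s² - s b) • W (s w)`
  have hL : gaussOp 𝒲 w (2 * c)⁻¹ * 𝒲.W v =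
      𝒲.W v * ∑ s : F, S.ψ ((2 * c)⁻¹ * (s * s) + -(s * b)) • 𝒲.W (s • w) := by
    unfold gaussOp
    rw [Finset.sum_mul, Finset.mul_sum]
    refine Finset.sum_congr rfl (fun s _ => ?_)
    rw [smul_mul_assoc, 𝒲.W_comm, smul_smul, mul_smul_comm, AddChar.map_add_eq_mul]
    congr 2
    unfold Setting.β
    rw [map_smul, LinearMap.smul_apply, smul_eq_mul, S.B_swap w v, ← hb, mul_neg]
  have hχ : S.χ v ((c * b) • w) ≠ 0 := S.χ_ne_zero _ _
  have hW : 𝒲.W (v + (c * b) • w) = (S.χ v ((c * b) • w))⁻¹ • (𝒲.W v * 𝒲.W ((c * b) • w)) := by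
    rw [𝒲.W_mul, smul_smul, inv_mul_cancel₀ hχ, one_smul]
  have hR : 𝒲.W (v + (c * b) • w) * gaussOp 𝒲 w (2 * c)⁻¹ =
      𝒲.W v * ∑ s : F, S.ψ ((2 * c)⁻¹ * (s * s) + -(s * b)) • 𝒲.W (s • w) := by
    rw [hW, smul_mul_assoc, mul_assoc, ← mul_smul_comm]
    congr 1
    unfold gaussOp
    rw [Finset.mul_sum, Finset.smul_sum]
    refine Fintype.sum_equiv (Equiv.addLeft (c * b)) _ _ (fun s => ?_)
    show _ = S.ψ ((2 * c)⁻¹ * ((c * b + s) * (c * b + s)) + -((c * b + s) * b)) • 𝒲.W ((c * b + s) • w)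
    rw [mul_smul_comm, W_smul_mul_smul, smul_smul]
    congr 1
    unfold Setting.χ
    rw [map_smul, smul_eq_mul, ← hb, ← AddChar.map_neg_eq_inv, ← AddChar.map_add_eq_mul]
    congr 1
    field_simp
    ring
  rw [hL, hR]

/-- WF, first half -/
theorem exists_impl_transvection [Fintype F] (𝒲 : S.Weyl M) (w : V) (c : F) :
    ∃ T : (Module.End ℂ M)ˣ, 𝒲.Impl (fun x => x + (c * S.B x w) • w) (T : Module.End ℂ M) := by
  by_cases hc : c = 0
  · refine ⟨1, fun v => ?_⟩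
    simp only [hc, zero_mul, zero_smul, add_zero, Units.val_one, one_mul, mul_one]
  · have hα : (2 * c)⁻¹ ≠ 0 := inv_ne_zero (mul_ne_zero S.two_ne hc)
    have hq : (Fintype.card F : ℂ) ≠ 0 := Nat.cast_ne_zero.mpr Fintype.card_ne_zero
    refine ⟨⟨gaussOp 𝒲 w (2 * c)⁻¹, (Fintype.card F : ℂ)⁻¹ • gaussOp 𝒲 w (-(2 * c)⁻¹), ?_, ?_⟩,
      fun v => gaussOp_impl 𝒲 w hc v⟩
    · rw [mul_smul_comm, gaussOp_mul_neg 𝒲 w hα, smul_smul, inv_mul_cancel₀ hq, one_smul]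
    · rw [smul_mul_assoc]
      have h := gaussOp_mul_neg 𝒲 w (neg_ne_zero.mpr hα)
      rw [neg_neg] at h
      rw [h, smul_smul, inv_mul_cancel₀ hq, one_smul]

/-- WF, second half -/
theorem exists_impl [Fintype F] (𝒲 : S.Weyl M) {G : Type*} [Group G] [MulAction G V]
    (hgen : Subgroup.closure {g : G | ∃ (w : V) (c : F), ∀ x : V, g • x = x + (c * S.B x w) • w} = ⊤)
    (g : G) : ∃ T : (Module.End ℂ M)ˣ, (g, T) ∈ 𝒲.implGroup G := by
  have h : Subgroup.closure {g : G | ∃ (w : V) (c : F), ∀ x : V, g • x = x + (c * S.B x w) • w} ≤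
      (𝒲.implGroup G).map (MonoidHom.fst G (Module.End ℂ M)ˣ) := by
    rw [Subgroup.closure_le]
    rintro g ⟨w, c, hg⟩
    obtain ⟨T, hT⟩ := exists_impl_transvection 𝒲 w c
    refine ⟨(g, T), ?_, rfl⟩
    rw [SetLike.mem_coe, Setting.Weyl.mem_implGroup]
    have h1 : (fun v => g • v) = (fun x => x + (c * S.B x w) • w) := funext hg
    show 𝒲.Impl (fun v => g • v) (T : Module.End ℂ M)
    rw [h1]; exact hT
  rw [hgen] at h
  obtain ⟨⟨g', T⟩, hmem, hfst⟩ := h (Subgroup.mem_top g)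
  have h2 : g' = g := hfst
  subst h2
  exact ⟨T, hmem⟩

end Cfsg.Agent.Lib.Helper23.WeilLeaf
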