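import Mathlib
import Cfsg.Agent.Lib.Helper20.UTNDefs
import Cfsg.Agent.Lib.Helper20.UTS
import Cfsg.Agent.Lib.Helper5.SUMax
import Cfsg.Agent.Lib.Helper23.UTG

/-!
S5670 part (N) = Stage II (helper20's sub-market), the NG block: geometry of `(Fin b → F, hv q)`
(NG1 exists_partner, NG2 exists_su_map, NG3 kel_mem_GUI + kel_mem_GS, NG4 perp_induction, NG5 exists_hyp_perp).
-/

set_option autoImplicit false
set_option linter.unusedSectionVars false
set_option linter.unusedVariables false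

namespace Cfsg.Agent.Lib.Helper23.UTNLeaf
open Matrix
open Cfsg.Agent.Lib.Helper25.Tens Cfsg.Agent.Lib.Helper25.TensLeaf Cfsg.Agent.Lib.Helper25.TensLeaves
open Cfsg.Agent.Lib.Helper20.UT Cfsg.Agent.Lib.Helper20.UTLeaf Cfsg.Agent.Lib.Helper20.UTN
open Cfsg.Agent.Lib.Helper5 Cfsg.Agent.Lib.Helper5.HermBridge
open scoped Kronecker

variable {F : Type*} [Field F] [Fintype F] {a b q : ℕ} {M : Subgroup (GL (Idx a b) F)}

/-- NG1 -/
theorem exists_partner (hF : Fintype.card F = q ^ 2) {y : Fin b → F} (hy0 : y ≠ 0)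
    (hy : hv q y y = 0) : ∃ ys : Fin b → F, hv q ys ys = 0 ∧ hv q ys y = 1 ∧ hv q y ys = 1 := by
  have hf := hv_unitary (n := b) hF
  obtain ⟨ys, -, h1, h2⟩ := UForm.exists_partner hf (UForm.ND_top hf)
    (Submodule.mem_top : y ∈ (⊤ : Submodule F (Fin b → F))) hy0 hy
  refine ⟨ys, h1, ?_, h2⟩
  rw [hf.herm, h2, map_one]

/-- NG2 -/
theorem exists_su_map (hF : Fintype.card F = q ^ 2) (hb : 3 ≤ b) {y y' : Fin b → F} (hy0 : y ≠ 0)
    (hy'0 : y' ≠ 0) (hy : hv q y y = 0) (hy' : hv q y' y' = 0) :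
    ∃ β : GL (Fin b) F, (∀ u v, hv q (mv β u) (mv β v) = hv q u v) ∧
      (β : Matrix (Fin b) (Fin b) F).det = 1 ∧ mv β y = y' := by
  have hf := hv_unitary (n := b) hF
  have hd : 3 ≤ Module.finrank F (⊤ : Submodule F (Fin b → F)) := by
    rw [finrank_top, Module.finrank_fin_fun]; exact hb
  obtain ⟨t, -, ht⟩ := SUGen.T0 hF (U := (⊤ : Submodule F (Fin b → F))) (UForm.ND_top hf) hd
    Submodule.mem_top Submodule.mem_top hy0 hy'0 hy hy'
  refine ⟨SUMax.emb b F q t, ?_, ?_, ?_⟩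
  · intro u v
    exact SUGen.av_iso t u v
  · exact (mem_SLG_iff _).1 (SUMax.emb_mem t).2
  · exact ht

/-- induction over sums of pure tensors -/
theorem utn_pt_induction {p : (Idx a b → F) → Prop} (h0 : p 0)
    (hadd : ∀ v w, p v → p w → p (v + w)) (hpt : ∀ (x : Fin a → F) (y : Fin b → F), p (pt x y)) :
    ∀ v, p v := by
  intro v
  rw [eq_sum_pt v]
  apply Finset.sum_induction _ p hadd h0
  intro i _
  apply Finset.sum_induction _ p hadd h0
  intro l _
  rw [← pt_smul_left]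
  exact hpt _ _

/-- NG3 -/
theorem kel_mem_GUI (hF : Fintype.card F = q ^ 2) (α : GL (Fin a) F) (β : GL (Fin b) F)
    (hα : ∀ u v, hv q (mv α u) (mv α v) = hv q u v)
    (hβ : ∀ u v, hv q (mv β u) (mv β v) = hv q u v) : kel α β ∈ GUI a b q F := by
  rw [mem_GUI]
  have hpt : ∀ (x : Fin a → F) (y : Fin b → F),
      mv (kel α β : GL (Idx a b) F) (pt x y) = pt (mv α x) (mv β y) := fun x y => kel_mulVec_pt α β x y
  have key : ∀ u : Idx a b → F, ∀ (x' : Fin a → F) (y' : Fin b → F),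
      hv q (mv (kel α β : GL (Idx a b) F) u) (mv (kel α β : GL (Idx a b) F) (pt x' y')) =
        hv q u (pt x' y') := by
    intro u x' y'
    induction u using utn_pt_induction with
    | h0 => rw [mv_zero, hv_zero_left, hv_zero_left]
    | hadd v w hv' hw' => rw [mv_add, hv_add_left, hv_add_left, hv', hw']
    | hpt x y => rw [hpt, hpt, hv_pt, hv_pt, hα, hβ]
  intro u v
  induction v using utn_pt_induction with
  | h0 => rw [mv_zero, hv_zero_right hF, hv_zero_right hF]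
  | hadd v w hv' hw' => rw [mv_add, hv_add_right hF, hv_add_right hF, hv', hw']
  | hpt x y => exact key u x y

theorem kel_mem_GS (hF : Fintype.card F = q ^ 2) (α : GL (Fin a) F) (β : GL (Fin b) F)
    (hα : ∀ u v, hv q (mv α u) (mv α v) = hv q u v)
    (hβ : ∀ u v, hv q (mv β u) (mv β v) = hv q u v)
    (hdet : (α : Matrix (Fin a) (Fin a) F).det ^ b * (β : Matrix (Fin b) (Fin b) F).det ^ a = 1) :
    kel α β ∈ KG a b F ⊓ GS a b q F :=
  ⟨kel_mem_KG α β, kel_mem_GUI hF α β hα hβ, (kel_mem α β hdet).2⟩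

/-- in a non-degenerate subspace of dimension at least two, a non-isotropic vector is non-perpendicular to some
isotropic vector of the subspace -/
theorem exists_iso_not_perp_mem {n : ℕ} (hF : Fintype.card F = q ^ 2) {U : Submodule F (Fin n → F)}
    (hU : UForm.ND (hv q) U) (hd : 2 ≤ Module.finrank F U) {x : Fin n → F} (hxU : x ∈ U)
    (hx : hv q x x ≠ 0) : ∃ w ∈ U, hv q w w = 0 ∧ hv q x w ≠ 0 := by
  have hf := hv_unitary (n := n) hF
  obtain ⟨e, heU, he0, hee⟩ := UForm.exists_iso hf hU hd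
  by_cases h1 : hv q x e ≠ 0
  · exact ⟨e, heU, hee, h1⟩
  rw [not_not] at h1
  obtain ⟨e', he'U, he'e', hee'⟩ := UForm.exists_partner hf hU heU he0 hee
  by_cases h2 : hv q x e' ≠ 0
  · exact ⟨e', he'U, he'e', h2⟩
  rw [not_not] at h2
  obtain ⟨g, hg⟩ := UForm.tr_surj hf.involutive hf.ne_refl (-(hv q x x))
    (by rw [map_neg, UForm.u_self_fixed hf])
  have he'e : hv q e' e = 1 := by rw [hf.herm, hee', map_one]
  have hex : hv q e x = 0 := UForm.u_symm_zero hf h1
  have he'x : hv q e' x = 0 := UForm.u_symm_zero hf h2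
  refine ⟨x + g • e + e', U.add_mem (U.add_mem hxU (U.smul_mem _ heU)) he'U, ?_, ?_⟩
  · rw [hf.add_left, hf.add_left, UForm.u_add_right hf, UForm.u_add_right hf, UForm.u_add_right hf,
      UForm.u_add_right hf, UForm.u_add_right hf, UForm.u_add_right hf, hf.smul_left, hf.smul_left,
      hf.smul_left, UForm.u_smul_right hf, UForm.u_smul_right hf, UForm.u_smul_right hf, hee, hee', he'e',
      he'e, h1, h2, hex, he'x]
    linear_combination hg
  · rw [UForm.u_add_right hf, UForm.u_add_right hf, UForm.u_smul_right hf, h1, h2, mul_zero, add_zero,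
      add_zero]
    exact hx

/-- the non-degenerate complement `⟨y, ys⟩^⊥` of a hyperbolic pair -/
theorem perp_pair_data (hF : Fintype.card F = q ^ 2) (hb : 4 ≤ b) {y ys : Fin b → F}
    (hy : hv q y y = 0) (hys : hv q ys ys = 0) (h1 : hv q y ys = 1) :
    UForm.ND (hv q) ((⊤ : Submodule F (Fin b → F)) ⊓ UForm.pp (hv_unitary (n := b) hF) y ⊓
      UForm.pp (hv_unitary (n := b) hF) ys) ∧
    2 ≤ Module.finrank F ↥((⊤ : Submodule F (Fin b → F)) ⊓ UForm.pp (hv_unitary (n := b) hF) y ⊓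
      UForm.pp (hv_unitary (n := b) hF) ys) ∧
    ∀ d ∈ (⊤ : Submodule F (Fin b → F)) ⊓ UForm.pp (hv_unitary (n := b) hF) y ⊓
      UForm.pp (hv_unitary (n := b) hF) ys, hv q d y = 0 ∧ hv q d ys = 0 := by
  have hf := hv_unitary (n := b) hF
  refine ⟨UForm.ND_hyp hf (UForm.ND_top hf) Submodule.mem_top Submodule.mem_top hy hys h1, ?_, ?_⟩
  · have := Cfsg.Agent.Lib.Helper23.UTLeaf.finrank_pp_pp hF y ys
    omega
  · intro d hd
    obtain ⟨hm1, hm2⟩ := Submodule.mem_inf.mp hd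
    obtain ⟨-, hm3⟩ := Submodule.mem_inf.mp hm1
    rw [UForm.mem_pp] at hm2 hm3
    exact ⟨hm3, hm2⟩

/-- NG4 -/
theorem perp_induction (hF : Fintype.card F = q ^ 2) (hb : 4 ≤ b) {y : Fin b → F} (hy0 : y ≠ 0)
    (hy : hv q y y = 0) (P : (Fin b → F) → Prop) (hadd : ∀ z z', P z → P z' → P (z + z'))
    (hiso : ∀ z, hv q z y = 0 → hv q z z = 0 → P z) : ∀ z, hv q z y = 0 → P z := by
  have hf := hv_unitary (n := b) hF
  obtain ⟨ys, hys, hysy, hyys⟩ := exists_partner hF hy0 hy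
  obtain ⟨hND, hfin, hperp⟩ := perp_pair_data hF hb hy hys hyys
  intro z hz
  have hz₁D : z - hv q z ys • y ∈ (⊤ : Submodule F (Fin b → F)) ⊓ UForm.pp hf y ⊓ UForm.pp hf ys := by
    refine Submodule.mem_inf.mpr ⟨Submodule.mem_inf.mpr ⟨Submodule.mem_top, ?_⟩, ?_⟩
    · rw [UForm.mem_pp, UForm.u_sub_left hf, hf.smul_left, hy, mul_zero, sub_zero]
      exact hz
    · rw [UForm.mem_pp, UForm.u_sub_left hf, hf.smul_left, hyys, mul_one, sub_self]
  have hP2 : P (hv q z ys • y) := by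
    apply hiso
    · rw [hf.smul_left, hy, mul_zero]
    · rw [hf.smul_left, UForm.u_smul_right hf, hy, mul_zero, mul_zero]
  have hP1 : P (z - hv q z ys • y) := by
    by_cases hiso₁ : hv q (z - hv q z ys • y) (z - hv q z ys • y) = 0
    · exact hiso _ (hperp _ hz₁D).1 hiso₁
    · obtain ⟨w, hwD, hww, hxw⟩ := exists_iso_not_perp_mem hF hND hfin hz₁D hiso₁
      obtain ⟨m, hm⟩ := UForm.exists_iso_add hf hww hxw 0 (map_zero _)
      have hsplit : z - hv q z ys • y = (z - hv q z ys • y + m • w) + (-m) • w := by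
        rw [neg_smul, add_neg_cancel_right]
      rw [hsplit]
      apply hadd
      · apply hiso _ _ hm
        exact (hperp _ (Submodule.add_mem _ hz₁D (Submodule.smul_mem _ _ hwD))).1
      · apply hiso
        · exact (hperp _ (Submodule.smul_mem _ _ hwD)).1
        · rw [hf.smul_left, UForm.u_smul_right hf, hww, mul_zero, mul_zero]
  have := hadd _ _ hP1 hP2
  rwa [sub_add_cancel] at this

/-- NG5 -/
theorem exists_hyp_perp (hF : Fintype.card F = q ^ 2) (hb : 4 ≤ b) {y : Fin b → F} (hy0 : y ≠ 0)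
    (hy : hv q y y = 0) : ∃ y₂ y₃ : Fin b → F, hv q y₂ y = 0 ∧ hv q y₃ y = 0 ∧ hv q y₂ y₂ = 0 ∧
      hv q y₃ y₃ = 0 ∧ hv q y₂ y₃ = 1 ∧ hv q y₃ y₂ = 1 := by
  have hf := hv_unitary (n := b) hF
  obtain ⟨ys, hys, hysy, hyys⟩ := exists_partner hF hy0 hy
  obtain ⟨hND, hfin, hperp⟩ := perp_pair_data hF hb hy hys hyys
  obtain ⟨e, heD, e', he'D, hee, he'e', h1⟩ := UForm.exists_hyp hf hND hfin
  refine ⟨e, e', (hperp _ heD).1, (hperp _ he'D).1, hee, he'e', h1, ?_⟩
  rw [hf.herm, h1, map_one]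

end Cfsg.Agent.Lib.Helper23.UTNLeaf
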