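import Mathlib

set_option autoImplicit false

namespace Cfsg.Agent.Lib.Helper23.RankOne

/-- a subgroup of order two is generated by an involution -/
theorem exists_gen_of_card_two {D : Type*} [Group D] (H : Subgroup D) (hH : Nat.card H = 2) :
    ∃ h : D, h ≠ 1 ∧ h * h = 1 ∧ H = Subgroup.zpowers h := by
  have : Finite H := Nat.finite_of_card_ne_zero (by rw [hH]; norm_num)
  have hne : H ≠ ⊥ := by
    intro h
    rw [h, Subgroup.card_bot] at hH
    norm_num at hH
  obtain ⟨⟨h, hhH⟩, hh1⟩ := (Subgroup.ne_bot_iff_exists_ne_one).mp hne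
  have h1 : h ≠ 1 := fun h0 => hh1 (Subtype.ext h0)
  have h2 : h ^ 2 = 1 := by
    have := pow_card_eq_one' (x := (⟨h, hhH⟩ : H))
    rw [hH] at this
    exact congrArg Subtype.val this
  have hord : orderOf h = 2 := orderOf_eq_prime h2 h1
  refine ⟨h, h1, by rw [← sq]; exact h2, ?_⟩
  symm
  apply Subgroup.eq_of_le_of_card_ge
  · rw [Subgroup.zpowers_le]; exact hhH
  · rw [Nat.card_zpowers, hord, hH]

theorem subgroup_unique_of_involution_unique {D : Type*} [Group D] (c : D)
    (hc : ∀ h : D, h * h = 1 → h ≠ 1 → h = c) (H K : Subgroup D) (hH : Nat.card H = 2)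
    (hK : Nat.card K = 2) : H = K := by
  obtain ⟨h, h1, h2, rfl⟩ := exists_gen_of_card_two H hH
  obtain ⟨k, k1, k2, rfl⟩ := exists_gen_of_card_two K hK
  rw [hc h h2 h1, hc k k2 k1]

/-- in a 2-group of 2-rank at most 1 there is at most one involution -/
theorem involution_unique_of_rank {D : Type*} [Group D] [Finite D] (hD : IsPGroup 2 D)
    (hr : ∀ A : Subgroup D, (∀ a ∈ A, ∀ b ∈ A, a * b = b * a) → (∀ a ∈ A, a * a = 1) →
      Nat.card A ≤ 2) :
    ∃ c : D, ∀ h : D, h * h = 1 → h ≠ 1 → h = c := by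
  rcases subsingleton_or_nontrivial D with hs | hn
  · exact ⟨1, fun h _ h1 => absurd (Subsingleton.elim h 1) h1⟩
  · have hZ : Nontrivial (Subgroup.center D) := hD.center_nontrivial
    have h2 : 2 ∣ Nat.card (Subgroup.center D) := by
      obtain ⟨k, hk⟩ := IsPGroup.iff_card.mp (hD.to_subgroup (Subgroup.center D))
      rw [hk]
      have hk0 : k ≠ 0 := by
        rintro rfl
        rw [pow_zero] at hk
        have := Finite.one_lt_card (α := Subgroup.center D)
        omega
      exact dvd_pow_self 2 hk0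
    obtain ⟨c, hc⟩ := exists_prime_orderOf_dvd_card' 2 h2
    have hc1 : (c : D) ≠ 1 := by
      intro h
      have : c = 1 := Subtype.ext h
      rw [this, orderOf_one] at hc
      norm_num at hc
    have hcc : (c : D) * c = 1 := by
      have := pow_orderOf_eq_one c
      rw [hc, sq] at this
      exact congrArg Subtype.val this
    have hcz : ∀ g : D, g * (c : D) = c * g := fun g => Subgroup.mem_center_iff.mp c.2 g
    refine ⟨(c : D), fun h hh h1 => ?_⟩
    by_contra hne
    set k : Set D := {(c : D), h} with hk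
    have hkcomm : ∀ x ∈ k, ∀ y ∈ k, x * y = y * x := by
      intro x hx y hy
      rcases hx with rfl | hx
      · exact (hcz y).symm
      · rcases hy with rfl | hy
        · exact hcz x
        · rw [Set.mem_singleton_iff] at hx hy
          rw [hx, hy]
    set A := Subgroup.closure k with hA
    have hcomm : ∀ a ∈ A, ∀ b ∈ A, a * b = b * a := fun a ha b hb =>
      Set.centralizer_centralizer_comm_of_comm hkcomm a
        (Subgroup.closure_le_centralizer_centralizer k ha) b
        (Subgroup.closure_le_centralizer_centralizer k hb)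
    have hexp : ∀ a ∈ A, a * a = 1 := by
      intro a ha
      refine Subgroup.closure_induction (p := fun x _ => x * x = 1) ?_ ?_ ?_ ?_ ha
      · intro x hx
        rcases hx with rfl | rfl
        · exact hcc
        · exact hh
      · exact one_mul 1
      · intro x y hx hy hxx hyy
        calc x * y * (x * y) = x * (y * x) * y := by group
          _ = x * (x * y) * y := by rw [hcomm y hy x hx]
          _ = (x * x) * (y * y) := by group
          _ = 1 := by rw [hxx, hyy, one_mul]
      · intro x hx hxx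
        rw [← mul_inv_rev, hxx, inv_one]
    have hle := hr A hcomm hexp
    have hcA : (c : D) ∈ A := Subgroup.subset_closure (Set.mem_insert _ _)
    have hhA : h ∈ A := Subgroup.subset_closure (Set.mem_insert_of_mem _ rfl)
    have : 2 < Nat.card A := by
      have := Fintype.ofFinite A
      rw [Nat.card_eq_fintype_card, Fintype.two_lt_card_iff]
      refine ⟨⟨1, one_mem _⟩, ⟨c, hcA⟩, ⟨h, hhA⟩, ?_, ?_, ?_⟩
      · intro e; exact hc1 (congrArg Subtype.val e).symm
      · intro e; exact h1 (congrArg Subtype.val e).symm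
      · intro e; exact hne (congrArg Subtype.val e).symm
    omega

/-- if the odd-order automorphisms of a self-centralizing normal 2-subgroup are trivial, the group
is a 2-group. -/
theorem isPGroup_of_odd_aut_trivial {X : Type*} [Group X] [Finite X] (R : Subgroup X) [R.Normal]
    (hR : IsPGroup 2 R) (hC : Subgroup.centralizer (R : Set X) ≤ R)
    (hodd : ∀ θ : MulAut R, ∀ k : ℕ, Odd k → θ ^ k = 1 → θ = 1) : IsPGroup 2 X := by
  intro g
  obtain ⟨a, m, hm, hgm⟩ := Nat.exists_eq_two_pow_mul_odd (orderOf_pos g).ne'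
  refine ⟨a, ?_⟩
  set y := g ^ (2 ^ a) with hy
  have hym : y ^ m = 1 := by rw [hy, ← pow_mul, ← hgm, pow_orderOf_eq_one]
  let φ : X →* MulAut R := MulAut.conjNormal
  have h1 : φ y = 1 := hodd (φ y) m hm (by rw [← map_pow, hym, map_one])
  have hyR : y ∈ R := by
    apply hC
    rw [Subgroup.mem_centralizer_iff]
    intro q hq
    have h1' : φ y ⟨q, hq⟩ = ⟨q, hq⟩ := by rw [h1]; rfl
    have h2 : y * q * y⁻¹ = q := by
      have := congrArg Subtype.val h1'
      simpa [φ, MulAut.conjNormal_apply] using this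
    calc q * y = (y * q * y⁻¹) * y := by rw [h2]
      _ = y * q := by group
  obtain ⟨b, hb⟩ := hR ⟨y, hyR⟩
  have hb' : y ^ (2 ^ b) = 1 := by
    have := congrArg Subtype.val hb
    simpa using this
  have hd1 : orderOf y ∣ m := orderOf_dvd_of_pow_eq_one hym
  have hd2 : orderOf y ∣ 2 ^ b := orderOf_dvd_of_pow_eq_one hb'
  have hcop : Nat.Coprime m (2 ^ b) := Nat.Coprime.pow_right b hm.coprime_two_right
  have : orderOf y = 1 := Nat.eq_one_of_dvd_coprimes hcop hd1 hd2
  exact orderOf_eq_one_iff.mp this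

/-- odd-order automorphisms of cyclic 2-groups are trivial -/
theorem cyclic_odd_aut {R : Type*} [Group R] [Finite R] [IsCyclic R] (hR : IsPGroup 2 R)
    (θ : MulAut R) (k : ℕ) (hk : Odd k) (hθ : θ ^ k = 1) : θ = 1 := by
  obtain ⟨a, ha⟩ := IsPGroup.iff_card.mp hR
  have h1 : orderOf θ ∣ Nat.card (MulAut R) := orderOf_dvd_natCard θ
  rw [IsCyclic.card_mulAut, ha] at h1
  have h2 : orderOf θ ∣ 2 ^ a := by
    rcases Nat.eq_zero_or_pos a with h0 | hpos
    · rw [h0, pow_zero] at h1 ⊢
      simpa using h1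
    · rw [Nat.totient_prime_pow Nat.prime_two hpos] at h1
      have h2 : 2 ^ (a - 1) * (2 - 1) ∣ 2 ^ a := by
        rw [show (2 - 1 : ℕ) = 1 by norm_num, mul_one]
        exact pow_dvd_pow 2 (Nat.sub_le a 1)
      exact h1.trans h2
  have h3 : orderOf θ ∣ k := orderOf_dvd_of_pow_eq_one hθ
  have hcop : Nat.Coprime k (2 ^ a) := Nat.Coprime.pow_right a hk.coprime_two_right
  have : orderOf θ = 1 := Nat.eq_one_of_dvd_coprimes hcop h3 h2
  exact orderOf_eq_one_iff.mp this

/-- transfer of the odd-automorphism property across an isomorphism -/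
theorem odd_aut_congr {R Y : Type*} [Group R] [Group Y] (ε : R ≃* Y)
    (hY : ∀ θ : MulAut Y, ∀ k : ℕ, Odd k → θ ^ k = 1 → θ = 1) :
    ∀ θ : MulAut R, ∀ k : ℕ, Odd k → θ ^ k = 1 → θ = 1 := by
  intro θ k hk hθ
  have h1 : (MulAut.congr ε θ) ^ k = 1 := by rw [← map_pow, hθ, map_one]
  have h2 := hY _ k hk h1
  apply (MulAut.congr ε).injective
  rw [h2, map_one]

/-- a finite 2-group has only one Sylow 2-subgroup -/
theorem sylow_eq_of_isPGroup {X : Type*} [Group X] (hX : IsPGroup 2 X) (S T : Sylow 2 X) :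
    S = T := by
  have htop : IsPGroup 2 (⊤ : Subgroup X) := hX.to_subgroup ⊤
  have hS : (S : Subgroup X) = ⊤ := (S.is_maximal' htop le_top).symm
  have hT : (T : Subgroup X) = ⊤ := (T.is_maximal' htop le_top).symm
  exact Sylow.ext (hS.trans hT.symm)

end Cfsg.Agent.Lib.Helper23.RankOne
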