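import Mathlib
import Cfsg.Agent.Lib.Helper29.FrDefs
import Cfsg.Agent.Lib.Helper29.FrStdDefs
import Cfsg.Agent.Lib.Helper25.SpinAll
import Cfsg.Agent.Lib.Helper25.SpinForms
import Cfsg.Agent.Lib.Helper25.OmegaNonMax

/-!
S5696 part 2 (helper29's market), leaves S6a `ext_mem_omega` and S6b `mem_omega_of_ext`:
`1 ⊕ y ∈ Ω(stdQ ι c) ↔ y ∈ Ω(stdQ {a // a ≠ j} c)`.  The same word of reflections on both sides
(`extGL j (reflM v) = reflM (incl j v)`), `mem_omega_iff` on both sides.
-/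

set_option autoImplicit false
set_option linter.unusedSectionVars false
set_option linter.unusedVariables false

namespace Cfsg.Agent.Lib.Helper23.Fr2Leaf
open Matrix Cfsg.Agent.Lib.Helper11.Mono
  Cfsg.Agent.Lib.Helper29.Fr Cfsg.Agent.Lib.Helper29.FrStd
  Cfsg.Agent.Lib.Helper25.Spin Cfsg.Agent.Lib.Helper25.CD Cfsg.Agent.Lib.Helper25.Fam

section aux

variable {F : Type*} [Field F] {ι : Type} [Fintype ι] [DecidableEq ι]

/-- the polar form of `c Σ x_i²` is nondegenerate (`2 ≠ 0`, `c ≠ 0`) -/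
theorem stdQ_nondeg_aux (h2 : (2 : F) ≠ 0) {c : F} (hc : c ≠ 0) :
    (QuadraticMap.polarBilin (stdQ ι F c)).Nondegenerate := by
  have key : ∀ x : ι → F, (∀ y, QuadraticMap.polar (stdQ ι F c) x y = 0) → x = 0 := by
    intro x hx
    funext i
    have h := hx (Pi.single i 1)
    rw [polar_stdQ] at h
    have h1 : ∑ k, x k * (Pi.single i (1 : F) : ι → F) k = x i := by
      rw [Finset.sum_eq_single i]
      · rw [Pi.single_eq_same, mul_one]
      · intro b _ hb
        rw [Pi.single_eq_of_ne hb, mul_zero]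
      · intro hi
        exact absurd (Finset.mem_univ i) hi
    rw [h1] at h
    have h3 : (2 : F) * c ≠ 0 := mul_ne_zero h2 hc
    rcases mul_eq_zero.1 h with h | h
    · exact absurd h h3
    · exact h
  constructor
  · intro x hx
    apply key x
    intro y
    have := hx y
    rwa [QuadraticMap.polarBilin_apply_apply] at this
  · intro y hy
    apply key y
    intro x
    have := hy x
    rw [QuadraticMap.polarBilin_apply_apply] at this
    rw [QuadraticMap.polar_comm]
    exact this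

theorem incl_same (j : ι) (v : {a : ι // a ≠ j} → F) : incl j v j = 0 := by
  unfold incl
  rw [dif_pos rfl]

theorem incl_ne (j : ι) (v : {a : ι // a ≠ j} → F) {a : ι} (ha : a ≠ j) : incl j v a = v ⟨a, ha⟩ := by
  unfold incl
  rw [dif_neg ha]

/-- a sum over `ι` of a function vanishing at `j` is the sum over `{a // a ≠ j}` -/
theorem sum_eq_sum_ne (j : ι) (f : ι → F) (hf : f j = 0) :
    ∑ a, f a = ∑ a : {a : ι // a ≠ j}, f a.1 := by
  rw [← Finset.sum_subtype (Finset.univ.filter (fun a => a ≠ j)) (by intro x; simp) f]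
  rw [Finset.sum_filter]
  apply Finset.sum_congr rfl
  intro a _
  by_cases ha : a = j
  · rw [if_neg (not_not.2 ha), ha, hf]
  · rw [if_pos ha]

theorem stdQ_incl (c : F) (j : ι) (v : {a : ι // a ≠ j} → F) :
    stdQ ι F c (incl j v) = stdQ {a : ι // a ≠ j} F c v := by
  rw [stdQ_apply, stdQ_apply]
  congr 1
  rw [sum_eq_sum_ne j (fun a => incl j v a * incl j v a) (by simp only [incl_same, mul_zero])]
  apply Finset.sum_congr rfl
  intro a _
  simp only [incl_ne j v a.2]

theorem polarVec_stdQ (c : F) (v : ι → F) (b : ι) :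
    Cfsg.polarVec ⇑(stdQ ι F c) v b = 2 * c * v b := by
  unfold Cfsg.polarVec
  rw [polar_stdQ]
  congr 1
  rw [Finset.sum_eq_single b]
  · rw [Pi.single_eq_same, mul_one]
  · intro k _ hk
    rw [Pi.single_eq_of_ne hk, mul_zero]
  · intro hi
    exact absurd (Finset.mem_univ b) hi

theorem reflectionMatrix_stdQ_apply (c : F) (v : ι → F) (a b : ι) :
    Cfsg.reflectionMatrix ⇑(stdQ ι F c) v a b =
      (1 : Matrix ι ι F) a b - (stdQ ι F c v)⁻¹ * (v a * (2 * c * v b)) := by
  unfold Cfsg.reflectionMatrix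
  rw [Matrix.sub_apply, Matrix.smul_apply, Matrix.vecMulVec_apply, polarVec_stdQ, smul_eq_mul]

/-- `1 ⊕ r_v = r_{incl v}` -/
theorem extGL_reflM (c : F) (j : ι) (v : {a : ι // a ≠ j} → F) :
    extGL j ((reflM (stdQ {a : ι // a ≠ j} F c) v : GL {a : ι // a ≠ j} F)) =
      ((reflM (stdQ ι F c) (incl j v) : GL ι F)) := by
  apply Units.ext
  ext a b
  rw [reflM_coe, reflectionMatrix_stdQ_apply, stdQ_incl]
  by_cases ha : a = j
  · subst ha
    rw [incl_same, zero_mul, mul_zero, sub_zero]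
    by_cases hb : b = a
    · subst hb
      rw [extGL_same_same, Matrix.one_apply_eq]
    · rw [extGL_same_ne _ _ hb, Matrix.one_apply_ne (Ne.symm hb)]
  · by_cases hb : b = j
    · subst hb
      rw [incl_same, mul_zero, mul_zero, mul_zero, sub_zero, extGL_ne_same _ _ ha,
        Matrix.one_apply_ne ha]
    · rw [extGL_ne_ne _ _ ha hb, reflM_coe, reflectionMatrix_stdQ_apply, incl_ne j v ha, incl_ne j v hb]
      congr 1
      by_cases hab : a = b
      · subst hab
        rw [Matrix.one_apply_eq, Matrix.one_apply_eq]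
      · rw [Matrix.one_apply_ne hab, Matrix.one_apply_ne]
        intro h
        exact hab (congrArg Subtype.val h)

/-- `1 ⊕ (word vs) = word (vs.map incl)` -/
theorem extGL_wordG (c : F) (j : ι) (vs : List ({a : ι // a ≠ j} → F)) :
    extGL j ((wordG (stdQ {a : ι // a ≠ j} F c) vs : GL {a : ι // a ≠ j} F)) =
      ((wordG (stdQ ι F c) (vs.map (incl j)) : GL ι F)) := by
  induction vs with
  | nil =>
    rw [List.map_nil, wordG_nil, wordG_nil]
    exact map_one _
  | cons v vs ih =>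
    rw [List.map_cons, wordG_cons, wordG_cons, Subgroup.coe_mul, Subgroup.coe_mul, map_mul, ih,
      extGL_reflM]

theorem normProd_map_incl (c : F) (j : ι) (vs : List ({a : ι // a ≠ j} → F)) :
    normProd (stdQ ι F c) (vs.map (incl j)) = normProd (stdQ {a : ι // a ≠ j} F c) vs := by
  unfold normProd
  rw [List.map_map]
  congr 1
  apply List.map_congr_left
  intro v _
  exact stdQ_incl c j v

theorem extGL_injective (j : ι) : Function.Injective (extGL (F := F) j) := by
  intro x y hxy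
  apply Units.ext
  ext a b
  have h : ((extGL j x : GL ι F) : Matrix ι ι F) a.1 b.1 =
      ((extGL j y : GL ι F) : Matrix ι ι F) a.1 b.1 := by rw [hxy]
  rw [extGL_ne_ne j x a.2 b.2, extGL_ne_ne j y a.2 b.2] at h
  exact h

end aux

section main

variable {F : Type*} [Field F] [Fintype F] {ι : Type} [Fintype ι] [DecidableEq ι]

theorem card_ne_two_of_two_ne_zero (h2 : (2 : F) ≠ 0) : Fintype.card F ≠ 2 := by
  intro h
  apply h2
  have := Nat.cast_card_eq_zero F
  rw [h] at this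
  exact_mod_cast this

/-- S6a -/
theorem ext_mem_omega (h2 : (2 : F) ≠ 0) {c : F} (hc : c ≠ 0) (j : ι) (y : GL {a : ι // a ≠ j} F)
    (hy : y ∈ Cfsg.Geo.omegaGL ⇑(stdQ {a : ι // a ≠ j} F c)) :
    extGL j y ∈ Cfsg.Geo.omegaGL ⇑(stdQ ι F c) := by
  obtain ⟨g, hg, rfl⟩ := (mem_omegaGL_iff (stdQ {a : ι // a ≠ j} F c)).1 hy
  obtain ⟨vs, hvs, rfl⟩ := exists_word' (stdQ {a : ι // a ≠ j} F c) (stdQ_nondeg_aux h2 hc)
    (Or.inl (card_ne_two_of_two_ne_zero h2)) g
  rw [mem_omega_iff (stdQ {a : ι // a ≠ j} F c) h2 (stdQ_nondeg_aux h2 hc) hvs] at hg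
  rw [extGL_wordG, mem_omegaGL_iff]
  refine ⟨wordG (stdQ ι F c) (vs.map (incl j)), ?_, rfl⟩
  rw [mem_omega_iff (stdQ ι F c) h2 (stdQ_nondeg_aux h2 hc)]
  · rw [List.length_map, normProd_map_incl]
    exact hg
  · intro v hv
    obtain ⟨w, hw, rfl⟩ := List.mem_map.1 hv
    rw [stdQ_incl]
    exact hvs w hw

theorem incl_mulVec (j : ι) (y : GL {a : ι // a ≠ j} F) (v : {a : ι // a ≠ j} → F) :
    ((extGL j y : GL ι F) : Matrix ι ι F) *ᵥ incl j v =
      incl j ((y : Matrix {a : ι // a ≠ j} {a : ι // a ≠ j} F) *ᵥ v) := by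
  funext a
  rw [Matrix.mulVec, dotProduct]
  by_cases ha : a = j
  · subst ha
    rw [incl_same]
    apply Finset.sum_eq_zero
    intro b _
    by_cases hb : b = a
    · subst hb
      rw [incl_same, mul_zero]
    · rw [extGL_same_ne _ _ hb, zero_mul]
  · rw [incl_ne j _ ha, Matrix.mulVec, dotProduct,
      sum_eq_sum_ne j (fun b => ((extGL j y : GL ι F) : Matrix ι ι F) a b * incl j v b)
        (by simp only [incl_same, mul_zero])]
    apply Finset.sum_congr rfl
    intro b _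
    simp only [incl_ne j v b.2, extGL_ne_ne j y ha b.2]

/-- S6b -/
theorem mem_omega_of_ext (h2 : (2 : F) ≠ 0) {c : F} (hc : c ≠ 0) (j : ι) (y : GL {a : ι // a ≠ j} F)
    (h : extGL j y ∈ Cfsg.Geo.omegaGL ⇑(stdQ ι F c)) :
    y ∈ Cfsg.Geo.omegaGL ⇑(stdQ {a : ι // a ≠ j} F c) := by
  obtain ⟨g, hg, hgy⟩ := (mem_omegaGL_iff (stdQ ι F c)).1 h
  have hyiso : y ∈ Cfsg.isometryGroup F ⇑(stdQ {a : ι // a ≠ j} F c) := by
    intro u _
    change stdQ {a : ι // a ≠ j} F c ((y : Matrix _ _ F) *ᵥ u) = stdQ {a : ι // a ≠ j} F c u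
    rw [← stdQ_incl c j, ← incl_mulVec, ← stdQ_incl c j u, ← hgy]
    exact g.2 (incl j u) (incl j u)
  obtain ⟨vs, hvs, hw⟩ := exists_word' (stdQ {a : ι // a ≠ j} F c) (stdQ_nondeg_aux h2 hc)
    (Or.inl (card_ne_two_of_two_ne_zero h2)) ⟨y, hyiso⟩
  have hy' : y = ((wordG (stdQ {a : ι // a ≠ j} F c) vs : GL {a : ι // a ≠ j} F)) := by
    rw [hw]
  have hvs' : ∀ v ∈ vs.map (incl j), stdQ ι F c v ≠ 0 := by
    intro v hv
    obtain ⟨w, hw, rfl⟩ := List.mem_map.1 hv
    rw [stdQ_incl]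
    exact hvs w hw
  have hg' : g = wordG (stdQ ι F c) (vs.map (incl j)) := by
    apply Subtype.ext
    rw [hgy, hy', extGL_wordG]
  rw [hg', mem_omega_iff (stdQ ι F c) h2 (stdQ_nondeg_aux h2 hc) hvs', List.length_map,
    normProd_map_incl] at hg
  rw [hy', mem_omegaGL_iff]
  refine ⟨wordG (stdQ {a : ι // a ≠ j} F c) vs, ?_, rfl⟩
  rw [mem_omega_iff (stdQ {a : ι // a ≠ j} F c) h2 (stdQ_nondeg_aux h2 hc) hvs]
  exact hg

end main

end Cfsg.Agent.Lib.Helper23.Fr2Leaf
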