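import Mathlib
import Cfsg.Agent.Lib.Helper29.FrDefs

/-!
S5696 (helper29 market, dense world for the torus `{±1}`), leaf FM: minimal column weight.
Either (D_4) holds or some non-monomial element of `L` has a column of weight exactly 2.
-/

set_option autoImplicit false

namespace Cfsg.Agent.Lib.Helper23.FrLeaf
open Matrix Cfsg.Agent.Lib.Helper11.Mono Cfsg.Agent.Lib.Helper15.MonoLeaf Cfsg.Agent.Lib.Helper2.MonoLeaf
  Cfsg.Agent.Lib.Helper29.Fr

variable {F : Type*} [Field F] {ι : Type} [Fintype ι] [DecidableEq ι]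

/-- FM MINIMAL WEIGHT. -/
theorem colDenseK_or_weight_two (L : Subgroup (GL ι F)) (hO : IsOrth L) (hW : WorldW L) (hE : SignDich L) :
    ColDenseK 4 L ∨ ∃ B ∈ L, ¬ IsMono (B : Matrix ι ι F) ∧ ∃ j, (suppCol (B : Matrix ι ι F) j).card = 2 := by
  classical
  by_cases hD : ColDenseK 4 L
  · exact Or.inl hD
  right
  unfold ColDenseK at hD
  push Not at hD
  obtain ⟨y, hyL, hynm, j0, hj0⟩ := hD
  let P : ℕ → Prop := fun w =>
    ∃ B ∈ L, ¬ IsMono (B : Matrix ι ι F) ∧ ∃ j, (suppCol (B : Matrix ι ι F) j).card = w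
  have hex : ∃ w, P w := ⟨_, y, hyL, hynm, j0, rfl⟩
  have hPw : P (Nat.find hex) := Nat.find_spec hex
  have hmin : ∀ w', P w' → Nat.find hex ≤ w' := fun w' h => Nat.find_min' hex h
  generalize Nat.find hex = w at hPw hmin
  obtain ⟨B, hB, hnm, j, hj⟩ := hPw
  -- `w ≤ n - 5`
  have hwle : w + 5 ≤ Fintype.card ι := by
    have h1 := hmin _ ⟨y, hyL, hynm, j0, rfl⟩
    have h2 := card_zerosCol_add_card_suppCol (y : Matrix ι ι F) j0
    omega
  -- `w ≥ 2`
  have hw2 : 2 ≤ w := by
    by_contra hlt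
    push Not at hlt
    have : Nonempty ι := ⟨j⟩
    have hle1 : (suppCol (B : Matrix ι ι F) j).card ≤ 1 := by omega
    obtain ⟨i, hi⟩ := Finset.card_le_one_iff_subset_singleton.mp hle1
    apply hnm
    apply hW B hB
    refine ⟨j, i, fun k hk => ?_⟩
    by_contra hne
    have : k ∈ suppCol (B : Matrix ι ι F) j := (mem_suppCol _ _ _).mpr hne
    exact hk (Finset.mem_singleton.mp (hi this))
  by_cases hw2' : w = 2
  · exact ⟨B, hB, hnm, j, by rw [hj, hw2']⟩
  exfalso
  have hw3 : 3 ≤ w := by omega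
  set Z := zerosCol (B : Matrix ι ι F) j with hZ
  have hZcard : Z.card + w = Fintype.card ι := by
    have := card_zerosCol_add_card_suppCol (B : Matrix ι ι F) j
    rw [hj] at this
    exact this
  have hZ5 : 5 ≤ Z.card := by omega
  -- columns `m ≠ j` meet `Z` in at most one row
  have hcol : ∀ m, m ≠ j → (Z.filter (fun c => (B : Matrix ι ι F) c m ≠ 0)).card ≤ 1 := by
    intro m hm
    have hfe : Z.filter (fun c => (B : Matrix ι ι F) c m ≠ 0) = Z ∩ suppCol (B : Matrix ι ι F) m := by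
      ext c
      rw [Finset.mem_filter, Finset.mem_inter, mem_suppCol]
    rw [hfe]
    rcases hE B hB hnm j hZ5 m hm with h1 | ⟨-, h2⟩
    · exact h1
    · exfalso
      have := hmin _ ⟨B, hB, hnm, m, rfl⟩
      omega
  have hcolj : (Z.filter (fun c => (B : Matrix ι ι F) c j ≠ 0)).card = 0 := by
    rw [Finset.card_eq_zero, Finset.filter_eq_empty_iff]
    intro c hc
    rw [hZ, mem_zerosCol] at hc
    rw [not_not]
    exact hc
  -- rows have weight at least `w`
  have hBinv : B⁻¹ ∈ L := L.inv_mem hB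
  have hnm' : ¬ IsMono ((B⁻¹ : GL ι F) : Matrix ι ι F) := fun h => hnm (by
    have := isMono_inv B⁻¹ h
    simpa using this)
  have hrow : ∀ c, w ≤ (Finset.univ.filter (fun m => (B : Matrix ι ι F) c m ≠ 0)).card := by
    intro c
    have hfe : Finset.univ.filter (fun m => (B : Matrix ι ι F) c m ≠ 0) =
        suppCol ((B⁻¹ : GL ι F) : Matrix ι ι F) c := by
      ext m
      rw [Finset.mem_filter, mem_suppCol, hO.inv_apply hB]
      simp
    rw [hfe]
    exact hmin _ ⟨B⁻¹, hBinv, hnm', c, rfl⟩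
  -- double counting
  have hdc := Finset.sum_card_bipartiteAbove_eq_sum_card_bipartiteBelow
    (s := Z) (t := (Finset.univ : Finset ι)) (fun c m => (B : Matrix ι ι F) c m ≠ 0)
  have hlow : Z.card * w ≤ ∑ c ∈ Z, ((Finset.univ : Finset ι).bipartiteAbove
      (fun c m => (B : Matrix ι ι F) c m ≠ 0) c).card := by
    have := Finset.card_nsmul_le_sum Z (fun c => ((Finset.univ : Finset ι).bipartiteAbove
      (fun c m => (B : Matrix ι ι F) c m ≠ 0) c).card) w (fun c _ => hrow c)
    simpa [smul_eq_mul] using this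
  have hup : ∑ m ∈ (Finset.univ : Finset ι), (Z.bipartiteBelow
      (fun c m => (B : Matrix ι ι F) c m ≠ 0) m).card ≤ Fintype.card ι - 1 := by
    rw [← Finset.add_sum_erase Finset.univ _ (Finset.mem_univ j)]
    have h0 : (Z.bipartiteBelow (fun c m => (B : Matrix ι ι F) c m ≠ 0) j).card = 0 := hcolj
    rw [h0, zero_add]
    have := Finset.sum_le_card_nsmul ((Finset.univ : Finset ι).erase j)
      (fun m => (Z.bipartiteBelow (fun c m => (B : Matrix ι ι F) c m ≠ 0) m).card) 1
      (fun m hm => hcol m (Finset.ne_of_mem_erase hm))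
    rw [Finset.card_erase_of_mem (Finset.mem_univ j), Finset.card_univ, smul_eq_mul, mul_one] at this
    exact this
  have hfin : Z.card * w ≤ Fintype.card ι - 1 := by
    calc Z.card * w ≤ _ := hlow
      _ = _ := hdc
      _ ≤ _ := hup
  -- arithmetic: `(z - 1) (w - 1) > 0`
  have h1 : 5 * 3 ≤ Z.card * w := Nat.mul_le_mul hZ5 hw3
  have h2 : (Z.card - 1) * (w - 1) + Z.card + w = Z.card * w + 1 := by
    obtain ⟨z', hz'⟩ : ∃ z', Z.card = z' + 1 := ⟨Z.card - 1, by omega⟩
    obtain ⟨w', hw'⟩ : ∃ w', w = w' + 1 := ⟨w - 1, by omega⟩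
    rw [hz', hw']
    simp only [Nat.add_sub_cancel]
    ring
  have h3 : 1 ≤ (Z.card - 1) * (w - 1) := Nat.mul_pos (by omega) (by omega)
  omega

end Cfsg.Agent.Lib.Helper23.FrLeaf
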