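/-
S5813 (omega7 geometric, planner helper20), SUBFIELD block leaves L0a `rat_dep` and L0b `coeff_rat` (helper23).
Full names: `Cfsg.Agent.Lib.Helper20.Om7S.Cfsg.Agent.Lib.Helper23.Om7SLeaf.rat_dep / coeff_rat`.
-/
import Mathlib
import Cfsg.Prelude.Def_ClassicalGeometry
import Cfsg.Prelude.Def_GeometricClasses
import Cfsg.Agent.Lib.Helper13.DkGen
import Cfsg.Agent.Lib.Helper20.Om7S.Wrap
import Cfsg.Agent.Lib.Helper20.Om7S.KDefs

set_option linter.dupNamespace false
set_option linter.ambiguousOpen false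

namespace Cfsg.Agent.Lib.Helper20.Om7S

set_option autoImplicit false
set_option linter.unusedSectionVars false
set_option linter.unusedVariables false

open Cfsg Matrix QuadraticMap Module Cfsg.Agent.Lib.Helper25.Siegel Cfsg.Agent.Lib.Helper19.OSub
open _root_.Cfsg _root_.Cfsg.Agent.Lib.Helper25.Siegel
open Cfsg.Agent.Lib.Helper26.OSubLeaf
open S7

namespace Cfsg.Agent.Lib.Helper23.Om7SLeaf

variable {ι : Type} [Fintype ι] [DecidableEq ι] {F : Type*} [Field F] [Fintype F]
  {F₀ : Subfield F} {Q : QuadraticForm F (ι → F)} {M : Subgroup (GL ι F)}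

/-- L0a: rational vectors which are linearly dependent over `F` are linearly dependent over `F₀`. -/
theorem rat_dep {k : ℕ} {w : Fin k → (ι → F)} (hw : ∀ i, RatV F₀ (w i)) {c : Fin k → F}
    (hc : ∑ i, c i • w i = 0) {i₀ : Fin k} (hi₀ : c i₀ ≠ 0) :
    ∃ c₀ : Fin k → F, (∀ i, c₀ i ∈ F₀) ∧ (∃ i, c₀ i ≠ 0) ∧ ∑ i, c₀ i • w i = 0 := by
  classical
  obtain ⟨φ, hφ⟩ : ∃ φ : Module.Dual F₀ F, φ (c i₀) ≠ 0 := by
    by_contra hcon
    push Not at hcon
    exact hi₀ ((Module.forall_dual_apply_eq_zero_iff F₀ (c i₀)).1 hcon)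
  refine ⟨fun i => ((φ (c i) : F₀) : F), fun i => (φ (c i)).2, ⟨i₀, ?_⟩, ?_⟩
  · intro h0
    apply hφ
    exact Subtype.ext h0
  · funext j
    have hj : ∑ i, c i * w i j = 0 := by
      have := congrFun hc j
      simpa [Finset.sum_apply, Pi.smul_apply, smul_eq_mul] using this
    have h1 : φ (∑ i, c i * w i j) = 0 := by rw [hj]; exact map_zero φ
    rw [map_sum] at h1
    have h2 : ∀ i, φ (c i * w i j) = (⟨w i j, hw i j⟩ : F₀) * φ (c i) := by
      intro i
      have : c i * w i j = (⟨w i j, hw i j⟩ : F₀) • c i := by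
        rw [Subfield.smul_def]; simp [mul_comm]
      rw [this, map_smul, smul_eq_mul]
    simp only [h2] at h1
    have h3 := congrArg (fun x : F₀ => (x : F)) h1
    simp only [Finset.sum_apply, Pi.smul_apply, smul_eq_mul, Pi.zero_apply]
    simp only [AddSubmonoidClass.coe_finsetSum, Subfield.coe_mul, ZeroMemClass.coe_zero] at h3
    rw [← h3]
    refine Finset.sum_congr rfl fun i _ => ?_
    ring

/-- L0b: coordinates of a rational vector in an independent rational pair are rational -/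
theorem coeff_rat {r₁ r₂ : ι → F} (h₁ : RatV F₀ r₁) (h₂ : RatV F₀ r₂)
    (hli : LinearIndependent F ![r₁, r₂]) {α β : F} (hr : RatV F₀ (α • r₁ + β • r₂)) :
    α ∈ F₀ ∧ β ∈ F₀ := by
  classical
  have hpair := LinearIndependent.pair_iff.1 hli
  have hw : ∀ i : Fin 3, RatV F₀ ((![α • r₁ + β • r₂, r₁, r₂] : Fin 3 → (ι → F)) i) := by
    intro i; fin_cases i <;> simp <;> assumption
  have hc : ∑ i : Fin 3, (![1, -α, -β] : Fin 3 → F) i • (![α • r₁ + β • r₂, r₁, r₂] : Fin 3 → (ι → F)) i = 0 := by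
    simp [Fin.sum_univ_three]
  obtain ⟨c₀, hc₀, ⟨i, hi⟩, hsum⟩ := rat_dep (F₀ := F₀) hw hc (i₀ := 0) (by simp)
  simp only [Fin.sum_univ_three, Matrix.cons_val_zero, Matrix.cons_val_one, Matrix.cons_val_two,
    Matrix.head_cons, Matrix.tail_cons] at hsum
  have hsum' : (c₀ 0 * α + c₀ 1) • r₁ + (c₀ 0 * β + c₀ 2) • r₂ = 0 := by
    rw [← hsum]
    simp only [smul_add, add_smul, mul_smul]
    abel
  have hli' := LinearIndependent.pair_iff.1 hli _ _ hsum'
  have h0 : c₀ 0 ≠ 0 := by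
    intro h0
    have e1 : c₀ 1 = 0 := by simpa [h0] using hli'.1
    have e2 : c₀ 2 = 0 := by simpa [h0] using hli'.2
    fin_cases i
    · exact hi h0
    · exact hi e1
    · exact hi e2
  constructor
  · have : α = -(c₀ 1) * (c₀ 0)⁻¹ := by
      have := hli'.1
      field_simp
      linear_combination this
    rw [this]
    exact F₀.mul_mem (F₀.neg_mem (hc₀ 1)) (F₀.inv_mem (hc₀ 0))
  · have : β = -(c₀ 2) * (c₀ 0)⁻¹ := by
      have := hli'.2
      field_simp
      linear_combination this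
    rw [this]
    exact F₀.mul_mem (F₀.neg_mem (hc₀ 2)) (F₀.inv_mem (hc₀ 0))

end Cfsg.Agent.Lib.Helper23.Om7SLeaf

end Cfsg.Agent.Lib.Helper20.Om7S
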