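import Mathlib
import Cfsg.Agent.Lib.Helper5.UTGDefs
import Cfsg.Agent.Lib.Helper23.UTG

/-!
S5670 part (G) (helper5's sub-market), the GA block: unitary geometry on `Fin n → F` with `hv q`
(GA1 exists_iso_link, GA2 exists_hyp_noniso, GA3 exists_hyp_repr, GA4 exists_theta).
-/

set_option autoImplicit false
set_option linter.unusedSectionVars false
set_option linter.unusedVariables false

namespace Cfsg.Agent.Lib.Helper23.UTGLeaf
open Matrix
open Cfsg.Agent.Lib.Helper25.Tens Cfsg.Agent.Lib.Helper25.TensLeaf Cfsg.Agent.Lib.Helper20.UT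
open Cfsg.Agent.Lib.Helper5.UTG Cfsg.Agent.Lib.Helper5.SUGen Cfsg.Agent.Lib.Helper5.SUMax
open Cfsg.Agent.Lib.Helper5 Cfsg.Agent.Lib.Helper5.HermBridge
open scoped Kronecker

variable {F : Type*} [Field F] [Fintype F] {a b q : ℕ}

/-- GA1 -/
theorem exists_iso_link {n : ℕ} (hF : Fintype.card F = q ^ 2) (hn : 2 ≤ n) {y₀ y : Fin n → F}
    (hy₀0 : y₀ ≠ 0) (hy0 : y ≠ 0) (hy₀ : hv q y₀ y₀ = 0) (hy : hv q y y = 0) :
    (∃ c : F, y = c • y₀) ∨ hv q y₀ y ≠ 0 ∨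
      ∃ y₂ : Fin n → F, hv q y₂ y₂ = 0 ∧ hv q y₀ y₂ ≠ 0 ∧ hv q y₂ y ≠ 0 := by
  have hf := hv_unitary (n := n) hF
  by_cases hne : hv q y₀ y ≠ 0
  · exact Or.inr (Or.inl hne)
  rw [not_not] at hne
  by_cases h3 : 3 ≤ n
  · right; right
    have hd : 3 ≤ Module.finrank F (⊤ : Submodule F (Fin n → F)) := by
      rw [finrank_top, Module.finrank_fin_fun]; exact h3
    obtain ⟨x₁, hx₁⟩ := (hf.nondegenerate y₀ hy₀0).1
    obtain ⟨x₂, hx₂⟩ := (hf.nondegenerate y hy0).1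
    obtain ⟨w, -, hww, hw1, hw2⟩ := UForm.exists_iso_ne2 hf (UForm.ND_top hf) hd y₀ y
      ⟨x₁, Submodule.mem_top, hx₁⟩ ⟨x₂, Submodule.mem_top, hx₂⟩
    exact ⟨w, hww, UForm.u_symm_ne hf hw1, hw2⟩
  · left
    have hn2 : n = 2 := by omega
    -- `pp y₀` has finrank one
    obtain ⟨x₁, hx₁⟩ := (hf.nondegenerate y₀ hy₀0).1
    have hrk := LinearMap.finrank_range_add_finrank_ker (UForm.uL hf y₀)
    rw [Module.finrank_fin_fun] at hrk
    have hr1 : Module.finrank F ↥(LinearMap.range (UForm.uL hf y₀)) = 1 := by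
      have hle : Module.finrank F ↥(LinearMap.range (UForm.uL hf y₀)) ≤ 1 := by
        have := Submodule.finrank_le (LinearMap.range (UForm.uL hf y₀))
        rwa [Module.finrank_self] at this
      have hpos : 0 < Module.finrank F ↥(LinearMap.range (UForm.uL hf y₀)) := by
        rw [Module.finrank_pos_iff_exists_ne_zero]
        refine ⟨⟨UForm.uL hf y₀ x₁, LinearMap.mem_range_self _ _⟩, ?_⟩
        intro h0
        apply hx₁
        have := congrArg Subtype.val h0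
        simpa [UForm.uL_apply] using this
      omega
    have hk1 : Module.finrank F ↥(UForm.pp hf y₀) = 1 := by
      have h5 : Module.finrank F ↥(UForm.pp hf y₀) =
          Module.finrank F ↥(LinearMap.ker (UForm.uL hf y₀)) := rfl
      omega
    have hm0 : y₀ ∈ UForm.pp hf y₀ := by rw [UForm.mem_pp]; exact hy₀
    have hm : y ∈ UForm.pp hf y₀ := by rw [UForm.mem_pp]; exact UForm.u_symm_zero hf hne
    have hne0 : (⟨y₀, hm0⟩ : ↥(UForm.pp hf y₀)) ≠ 0 := by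
      intro h0
      exact hy₀0 (congrArg Subtype.val h0)
    obtain ⟨c, hc⟩ := exists_smul_eq_of_finrank_eq_one hk1 hne0 ⟨y, hm⟩
    refine ⟨c, ?_⟩
    have := congrArg Subtype.val hc
    simpa using this.symm

/-- GA2 -/
theorem exists_hyp_noniso {n : ℕ} (hF : Fintype.card F = q ^ 2) (hn : 3 ≤ n) {y : Fin n → F}
    (hy0 : y ≠ 0) (hy : hv q y y = 0) :
    ∃ z d : Fin n → F, hv q z z = 0 ∧ hv q y z = 1 ∧ hv q d y = 0 ∧ hv q d z = 0 ∧
      hv q d d ≠ 0 := by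
  have hf := hv_unitary (n := n) hF
  obtain ⟨z, -, hzz, hyz⟩ := UForm.exists_partner hf (UForm.ND_top hf)
    (Submodule.mem_top : y ∈ (⊤ : Submodule F (Fin n → F))) hy0 hy
  have hND := UForm.ND_hyp hf (UForm.ND_top hf) (Submodule.mem_top : y ∈ (⊤ : Submodule F (Fin n → F)))
    (Submodule.mem_top : z ∈ (⊤ : Submodule F (Fin n → F))) hy hzz hyz
  have hfin := Cfsg.Agent.Lib.Helper23.UTLeaf.finrank_pp_pp hF y z
  obtain ⟨d₀, hd₀D, hd₀0⟩ := UForm.exists_mem_ne_zero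
    (U := (⊤ : Submodule F (Fin n → F)) ⊓ UForm.pp hf y ⊓ UForm.pp hf z) (by omega)
  have hperp : ∀ d ∈ (⊤ : Submodule F (Fin n → F)) ⊓ UForm.pp hf y ⊓ UForm.pp hf z,
      hv q d y = 0 ∧ hv q d z = 0 := by
    intro d hd
    obtain ⟨hm1, hm2⟩ := Submodule.mem_inf.mp hd
    obtain ⟨-, hm3⟩ := Submodule.mem_inf.mp hm1
    rw [UForm.mem_pp] at hm2 hm3
    exact ⟨hm3, hm2⟩
  by_cases hd₀ : hv q d₀ d₀ = 0
  · obtain ⟨d₁, hd₁D, hd₁⟩ := hND d₀ hd₀D hd₀0
    obtain ⟨l, hl⟩ := UForm.exists_iso_add hf hd₀ hd₁ 1 (map_one _)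
    have hmem : d₁ + l • d₀ ∈ (⊤ : Submodule F (Fin n → F)) ⊓ UForm.pp hf y ⊓ UForm.pp hf z :=
      Submodule.add_mem _ hd₁D (Submodule.smul_mem _ _ hd₀D)
    refine ⟨z, d₁ + l • d₀, hzz, hyz, (hperp _ hmem).1, (hperp _ hmem).2, ?_⟩
    rw [hl]
    exact one_ne_zero
  · exact ⟨z, d₀, hzz, hyz, (hperp _ hd₀D).1, (hperp _ hd₀D).2, hd₀⟩

/-- an isotropic vector not perpendicular to a given non-isotropic vector (`n ≥ 2`) -/
theorem exists_iso_not_perp {n : ℕ} (hF : Fintype.card F = q ^ 2) (hn : 2 ≤ n) {x : Fin n → F}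
    (hx : hv q x x ≠ 0) : ∃ w : Fin n → F, hv q w w = 0 ∧ hv q x w ≠ 0 := by
  have hf := hv_unitary (n := n) hF
  have hd : 2 ≤ Module.finrank F (⊤ : Submodule F (Fin n → F)) := by
    rw [finrank_top, Module.finrank_fin_fun]; exact hn
  obtain ⟨e, -, he0, hee⟩ := UForm.exists_iso hf (UForm.ND_top hf) hd
  by_cases h1 : hv q x e ≠ 0
  · exact ⟨e, hee, h1⟩
  rw [not_not] at h1
  obtain ⟨e', -, he'e', hee'⟩ := UForm.exists_partner hf (UForm.ND_top hf)
    (Submodule.mem_top : e ∈ (⊤ : Submodule F (Fin n → F))) he0 hee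
  by_cases h2 : hv q x e' ≠ 0
  · exact ⟨e', he'e', h2⟩
  rw [not_not] at h2
  obtain ⟨g, hg⟩ := UForm.tr_surj hf.involutive hf.ne_refl (-(hv q x x))
    (by rw [map_neg, UForm.u_self_fixed hf])
  have he'e : hv q e' e = 1 := by rw [hf.herm, hee', map_one]
  have hex : hv q e x = 0 := UForm.u_symm_zero hf h1
  have he'x : hv q e' x = 0 := UForm.u_symm_zero hf h2
  refine ⟨x + g • e + e', ?_, ?_⟩
  · rw [hf.add_left, hf.add_left, UForm.u_add_right hf, UForm.u_add_right hf, UForm.u_add_right hf,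
      UForm.u_add_right hf, UForm.u_add_right hf, UForm.u_add_right hf, hf.smul_left, hf.smul_left,
      hf.smul_left, UForm.u_smul_right hf, UForm.u_smul_right hf, UForm.u_smul_right hf, hee, hee', he'e',
      he'e, h1, h2, hex, he'x]
    linear_combination hg
  · rw [UForm.u_add_right hf, UForm.u_add_right hf, UForm.u_smul_right hf, h1, h2, mul_zero, add_zero,
      add_zero]
    exact hx

/-- GA3 -/
theorem exists_hyp_repr {n : ℕ} (hF : Fintype.card F = q ^ 2) (hn : 2 ≤ n) {x : Fin n → F}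
    (hx : hv q x x ≠ 0) :
    ∃ (x₁ x₂ : Fin n → F) (β : F), hv q x₁ x₁ = 0 ∧ hv q x₂ x₂ = 0 ∧ hv q x₁ x₂ = 1 ∧
      x = x₁ + β • x₂ := by
  have hf := hv_unitary (n := n) hF
  obtain ⟨w, hww, hxw⟩ := exists_iso_not_perp hF hn hx
  obtain ⟨m, hm⟩ := UForm.exists_iso_add hf hww hxw 0 (map_zero _)
  have hη : hv q (x + m • w) w = hv q x w := by
    rw [hf.add_left, hf.smul_left, hww, mul_zero, add_zero]
  have hση : (frobQ hF) (hv q x w) ≠ 0 := by rwa [Ne, map_eq_zero]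
  refine ⟨x + m • w, ((frobQ hF) (hv q x w))⁻¹ • w, -m * (frobQ hF) (hv q x w), hm, ?_, ?_, ?_⟩
  · rw [hf.smul_left, UForm.u_smul_right hf, hww, mul_zero, mul_zero]
  · rw [UForm.u_smul_right hf, hη, map_inv₀, hf.involutive, inv_mul_cancel₀ hxw]
  · rw [smul_smul, mul_assoc, mul_inv_cancel₀ hση, mul_one, neg_smul, add_neg_cancel_right]

/-- GA4 -/
theorem exists_theta (hF : Fintype.card F = q ^ 2) : ∃ θ : F, θ + θ ^ q = 1 ∧ θ ^ q ≠ θ := by
  have hf := hv_unitary (n := 1) hF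
  obtain ⟨θ₀, hθ₀⟩ := UForm.tr_surj hf.involutive hf.ne_refl (1 : F) (map_one _)
  rw [frobQ_apply] at hθ₀
  by_cases h : θ₀ ^ q ≠ θ₀
  · exact ⟨θ₀, hθ₀, h⟩
  rw [not_not] at h
  obtain ⟨c, hc0, hc⟩ := UForm.exists_skew hf.involutive hf.ne_refl
  rw [frobQ_apply] at hc
  have hadd : (θ₀ + c) ^ q = θ₀ ^ q + c ^ q := by
    have := map_add (frobQ hF) θ₀ c
    rwa [frobQ_apply, frobQ_apply, frobQ_apply] at this
  refine ⟨θ₀ + c, ?_, ?_⟩
  · rw [hadd, hc]
    linear_combination hθ₀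
  · rw [hadd, hc, h]
    intro h1
    have h2 : (2 : F) * c = 0 := by linear_combination -h1
    rcases mul_eq_zero.mp h2 with h3 | h3
    · rw [h] at hθ₀
      have : (1 : F) = 0 := by
        rw [← hθ₀]
        linear_combination θ₀ * h3
      exact one_ne_zero this
    · exact hc0 h3

end Cfsg.Agent.Lib.Helper23.UTGLeaf
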