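import Mathlib
import Cfsg.Agent.Lib.Helper20.UTNDefs
import Cfsg.Agent.Lib.Helper20.UTS
import Cfsg.Agent.Lib.Helper5.SUMax
import Cfsg.Agent.Lib.Helper23.UTGGA

/-!
S5670 part (N) (helper20's sub-market): the pure algebra behind N3h `scalar_of_conj_tv` and N5a `lemmaAH`.
`α = tvU q x c = 1 + c N`, `N = rk1 q x`: `(α ζ α⁻¹ - ζ) v = c (h(ζ v, x) x - h(v, x) ζ x) - c² s h(v, x) x`, `s = h(ζ x, x)`;
a matrix all of whose isotropic vectors are eigenvectors is scalar.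
-/

set_option autoImplicit false
set_option linter.unusedSectionVars false
set_option linter.unusedVariables false

namespace Cfsg.Agent.Lib.Helper23.UTNLeaf
open Matrix
open Cfsg.Agent.Lib.Helper25.Tens Cfsg.Agent.Lib.Helper25.TensLeaf Cfsg.Agent.Lib.Helper25.TensLeaves
open Cfsg.Agent.Lib.Helper20.UT Cfsg.Agent.Lib.Helper20.UTLeaf Cfsg.Agent.Lib.Helper20.UTN
open Cfsg.Agent.Lib.Helper5 Cfsg.Agent.Lib.Helper5.HermBridge
open scoped Kronecker

variable {F : Type*} [Field F] [Fintype F] {a b q : ℕ}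

theorem utn_mat_ext {A B : Matrix (Fin a) (Fin a) F} (h : ∀ v, A *ᵥ v = B *ᵥ v) : A = B := by
  apply Matrix.toLin'.injective
  apply LinearMap.ext
  intro v
  rw [Matrix.toLin'_apply, Matrix.toLin'_apply]
  exact h v

theorem tvU_mulVec' (x : Fin a → F) (c : F) (hx : hv q x x = 0) (v : Fin a → F) :
    ((tvU q x c hx : GL (Fin a) F) : Matrix (Fin a) (Fin a) F) *ᵥ v = v + (c * hv q v x) • x :=
  tvU_mulVec q x c hx v

theorem tvU_inv_mulVec (x : Fin a → F) (c : F) (hx : hv q x x = 0) (v : Fin a → F) :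
    (((tvU q x c hx)⁻¹ : GL (Fin a) F) : Matrix (Fin a) (Fin a) F) *ᵥ v = v - (c * hv q v x) • x := by
  unfold tvU
  rw [tv_inv_val, Matrix.sub_mulVec, Matrix.one_mulVec, Matrix.vecMulVec_mulVec, smul_dotProduct,
    ← hv_eq_dot, smul_eq_mul]
  congr 1
  ext i
  simp [mul_comm]

/-- the action of `α ζ α⁻¹ - ζ` -/
theorem conj_tv_sub_mulVec (x : Fin a → F) (c : F) (hx : hv q x x = 0) (ζ : Matrix (Fin a) (Fin a) F)
    (v : Fin a → F) :
    (((tvU q x c hx : GL (Fin a) F) : Matrix (Fin a) (Fin a) F) * ζ *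
        (((tvU q x c hx)⁻¹ : GL (Fin a) F) : Matrix (Fin a) (Fin a) F) - ζ) *ᵥ v =
      c • (hv q (ζ *ᵥ v) x • x - hv q v x • (ζ *ᵥ x)) -
        (c * c * hv q (ζ *ᵥ x) x * hv q v x) • x := by
  rw [Matrix.sub_mulVec, ← Matrix.mulVec_mulVec, ← Matrix.mulVec_mulVec, tvU_inv_mulVec,
    Matrix.mulVec_sub, Matrix.mulVec_smul, tvU_mulVec', hv_sub_left, hv_smul_left]
  module

/-- every vector is a combination of at most two isotropic vectors (`2 ≤ a`) -/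
theorem exists_iso_pair_repr (hF : Fintype.card F = q ^ 2) (ha : 2 ≤ a) (v : Fin a → F) :
    ∃ (x₁ x₂ : Fin a → F) (β : F), hv q x₁ x₁ = 0 ∧ hv q x₂ x₂ = 0 ∧ v = x₁ + β • x₂ := by
  by_cases hv0 : hv q v v = 0
  · exact ⟨v, 0, 0, hv0, by simp [hv], by simp⟩
  · obtain ⟨x₁, x₂, β, h1, h2, -, h3⟩ := Cfsg.Agent.Lib.Helper23.UTGLeaf.exists_hyp_repr hF ha hv0
    exact ⟨x₁, x₂, β, h1, h2, h3⟩

/-- a matrix for which every isotropic vector is an eigenvector is scalar -/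
theorem scalar_of_iso_eigen (hF : Fintype.card F = q ^ 2) (ha : 2 ≤ a) (ζ : Matrix (Fin a) (Fin a) F)
    (h : ∀ x : Fin a → F, x ≠ 0 → hv q x x = 0 → ∃ l : F, ζ *ᵥ x = l • x) : IsScalarMat ζ := by
  have hf := hv_unitary (n := a) hF
  -- two non-perpendicular isotropic vectors have the same eigenvalue
  have hstep : ∀ (x₁ x₂ : Fin a → F) (l₁ l₂ : F), hv q x₁ x₁ = 0 → hv q x₂ x₂ = 0 → hv q x₁ x₂ ≠ 0 →
      ζ *ᵥ x₁ = l₁ • x₁ → ζ *ᵥ x₂ = l₂ • x₂ → l₁ = l₂ := by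
    intro x₁ x₂ l₁ l₂ h1 h2 h12 he1 he2
    have hx₁0 : x₁ ≠ 0 := by
      rintro rfl
      exact h12 (hv_zero_left q x₂)
    obtain ⟨l, hl0, hl⟩ := UForm.exists_iso_comb hf h1 h2
    have hne : x₁ + l • x₂ ≠ 0 := by
      intro h0
      have : hv q (x₁ + l • x₂) x₂ = hv q x₁ x₂ := by
        rw [hv_add_left, hv_smul_left, h2, mul_zero, add_zero]
      rw [h0, hv_zero_left] at this
      exact h12 this.symm
    obtain ⟨μ, hμ⟩ := h _ hne hl
    rw [Matrix.mulVec_add, Matrix.mulVec_smul, he1, he2] at hμ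
    -- `(l₁ - μ) x₁ + l (l₂ - μ) x₂ = 0`; pair with `x₂` and `x₁`
    have hz : (l₁ - μ) • x₁ + (l * (l₂ - μ)) • x₂ = 0 := by
      have : (l₁ - μ) • x₁ + (l * (l₂ - μ)) • x₂ = l₁ • x₁ + l • l₂ • x₂ - μ • (x₁ + l • x₂) := by
        module
      rw [this, hμ, sub_self]
    have e1 := congrArg (fun w => hv q w x₂) hz
    simp only [hv_add_left, hv_smul_left, h2, mul_zero, add_zero, hv_zero_left] at e1
    have e2 := congrArg (fun w => hv q w x₁) hz
    simp only [hv_add_left, hv_smul_left, h1, mul_zero, zero_add, hv_zero_left] at e2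
    have h21 : hv q x₂ x₁ ≠ 0 := UForm.u_symm_ne hf h12
    have a1 : l₁ - μ = 0 := (mul_eq_zero.1 e1).resolve_right h12
    have a2 : l₂ - μ = 0 := by
      rcases mul_eq_zero.1 e2 with h3 | h3
      · exact (mul_eq_zero.1 h3).resolve_left hl0
      · exact absurd h3 h21
    rw [sub_eq_zero] at a1 a2
    rw [a1, a2]
  -- a reference isotropic vector
  have hd : 2 ≤ Module.finrank F (⊤ : Submodule F (Fin a → F)) := by
    rw [finrank_top, Module.finrank_fin_fun]; exact ha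
  obtain ⟨e, -, he0, hee⟩ := UForm.exists_iso hf (UForm.ND_top hf) hd
  obtain ⟨l₀, hl₀⟩ := h e he0 hee
  have hall : ∀ x : Fin a → F, hv q x x = 0 → ζ *ᵥ x = l₀ • x := by
    intro x hxx
    by_cases hx0 : x = 0
    · rw [hx0, Matrix.mulVec_zero, smul_zero]
    obtain ⟨l, hl⟩ := h x hx0 hxx
    rcases Cfsg.Agent.Lib.Helper23.UTGLeaf.exists_iso_link hF ha he0 hx0 hee hxx with
      ⟨c, hc⟩ | hne | ⟨y₂, hy₂, h1, h2⟩
    · rw [hc, Matrix.mulVec_smul, hl₀, smul_comm]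
    · rw [hl, ← hstep e x l₀ l hee hxx hne hl₀ hl]
    · have hy₂0 : y₂ ≠ 0 := by
        rintro rfl
        exact h2 (hv_zero_left q x)
      obtain ⟨l₂, hl₂⟩ := h y₂ hy₂0 hy₂
      have e1 := hstep e y₂ l₀ l₂ hee hy₂ h1 hl₀ hl₂
      have e2 := hstep y₂ x l₂ l hy₂ hxx h2 hl₂ hl
      rw [hl, ← e2, ← e1]
  refine ⟨l₀, ?_⟩
  apply utn_mat_ext
  intro v
  obtain ⟨x₁, x₂, β, h1, h2, rfl⟩ := exists_iso_pair_repr hF ha v
  rw [Matrix.mulVec_add, Matrix.mulVec_smul, hall x₁ h1, hall x₂ h2, Matrix.smul_mulVec,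
    Matrix.one_mulVec]
  module

end Cfsg.Agent.Lib.Helper23.UTNLeaf
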