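import Mathlib
import Cfsg.Agent.Lib.Helper20.UTNDefs
import Cfsg.Agent.Lib.Helper20.UTS
import Cfsg.Agent.Lib.Helper5.SUMax
import Cfsg.Agent.Lib.Helper23.UTNAlg

/-!
S5670 part (N) (helper20's sub-market), leaf N3h `scalar_of_conj_tv` (CLAIM C, pure algebra).
-/

set_option autoImplicit false
set_option linter.unusedSectionVars false
set_option linter.unusedVariables false

namespace Cfsg.Agent.Lib.Helper23.UTNLeaf
open Matrix
open Cfsg.Agent.Lib.Helper25.Tens Cfsg.Agent.Lib.Helper25.TensLeaf Cfsg.Agent.Lib.Helper25.TensLeaves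
open Cfsg.Agent.Lib.Helper20.UT Cfsg.Agent.Lib.Helper20.UTLeaf Cfsg.Agent.Lib.Helper20.UTN
open Cfsg.Agent.Lib.Helper5 Cfsg.Agent.Lib.Helper5.HermBridge
open scoped Kronecker

variable {F : Type*} [Field F] [Fintype F] {a b q : ℕ} {M : Subgroup (GL (Idx a b) F)}

/-- a non-zero, non-one element fixed by `x ↦ x ^ q` (`q ≥ 3`) -/
theorem exists_fixed_ne_one (hF : Fintype.card F = q ^ 2) (hq : 3 ≤ q) :
    ∃ r : F, r ≠ 0 ∧ r ≠ 1 ∧ r ^ q = r := by
  obtain ⟨y, hy0, hy⟩ := SUGen.exists_norm_ne_one hF hq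
  rw [frobQ_apply] at hy
  refine ⟨y * y ^ q, mul_ne_zero hy0 (pow_ne_zero _ hy0), hy, ?_⟩
  rw [mul_pow, pow_q_pow_q' hF, mul_comm]

/-- a vector perpendicular to `x` outside `F x` (`a ≥ 3`) -/
theorem exists_perp_not_mem_span (hF : Fintype.card F = q ^ 2) (ha : 3 ≤ a) {x : Fin a → F} (hx0 : x ≠ 0) :
    ∃ v : Fin a → F, hv q v x = 0 ∧ v ∉ Submodule.span F {x} := by
  have hf := hv_unitary (n := a) hF
  have h1 := UForm.finrank_inf_pp hf (⊤ : Submodule F (Fin a → F)) x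
  rw [finrank_top, Module.finrank_fin_fun] at h1
  have hnle : ¬ ((⊤ : Submodule F (Fin a → F)) ⊓ UForm.pp hf x ≤ Submodule.span F {x}) := by
    intro hle
    have h2 := Submodule.finrank_mono hle
    rw [finrank_span_singleton hx0] at h2
    omega
  obtain ⟨v, hv1, hv2⟩ := SetLike.not_le_iff_exists.1 hnle
  obtain ⟨-, hv3⟩ := Submodule.mem_inf.mp hv1
  rw [UForm.mem_pp] at hv3
  exact ⟨v, hv3, hv2⟩

/-- N3h -/
theorem scalar_of_conj_tv (hF : Fintype.card F = q ^ 2) (ha : 2 ≤ a) (hex : ¬ (a = 2 ∧ q = 2))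
    (ζ : Matrix (Fin a) (Fin a) F)
    (h : ∀ (x₀ : Fin a → F) (c : F) (hx : hv q x₀ x₀ = 0), c ^ q = -c →
      IsScalarMat (ζ - ((tvU q x₀ c hx : GL (Fin a) F) : Matrix (Fin a) (Fin a) F) * ζ *
        (((tvU q x₀ c hx)⁻¹ : GL (Fin a) F) : Matrix (Fin a) (Fin a) F))) :
    IsScalarMat ζ := by
  have hf := hv_unitary (n := a) hF
  apply scalar_of_iso_eigen hF ha ζ
  intro x hx0 hxx
  -- the vector identity for a skew `c`
  have key : ∀ c : F, c ^ q = -c → ∃ l : F, ∀ v : Fin a → F,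
      c • (hv q (ζ *ᵥ v) x • x - hv q v x • (ζ *ᵥ x)) -
        (c * c * hv q (ζ *ᵥ x) x * hv q v x) • x = l • v := by
    intro c hc
    obtain ⟨l, hl⟩ := h x c hxx hc
    refine ⟨-l, fun v => ?_⟩
    rw [← conj_tv_sub_mulVec x c hxx ζ v]
    have : ((tvU q x c hxx : GL (Fin a) F) : Matrix (Fin a) (Fin a) F) * ζ *
        (((tvU q x c hxx)⁻¹ : GL (Fin a) F) : Matrix (Fin a) (Fin a) F) - ζ = (-l) • 1 := by
      rw [neg_smul, ← hl]
      abel
    rw [this, Matrix.smul_mulVec, Matrix.one_mulVec]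
  -- the value of `l`
  have hl_val : ∀ c l : F, (∀ v : Fin a → F,
      c • (hv q (ζ *ᵥ v) x • x - hv q v x • (ζ *ᵥ x)) -
        (c * c * hv q (ζ *ᵥ x) x * hv q v x) • x = l • v) → l = c * hv q (ζ *ᵥ x) x := by
    intro c l hl
    have h1 := hl x
    rw [hxx, zero_smul, sub_zero, mul_zero, zero_smul, sub_zero, smul_smul] at h1
    have h2 : (c * hv q (ζ *ᵥ x) x - l) • x = 0 := by rw [sub_smul, h1, sub_self]
    rcases smul_eq_zero.1 h2 with h3 | h3
    · exact (sub_eq_zero.1 h3).symm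
    · exact absurd h3 hx0
  obtain ⟨c, hc0, hc⟩ := Cfsg.Agent.Lib.Helper23.UTLeaf.exists_skew hF
  obtain ⟨l, hl⟩ := key c hc
  have hlc := hl_val c l hl
  -- `s = 0`
  have hs : hv q (ζ *ᵥ x) x = 0 := by
    by_cases ha3 : 3 ≤ a
    · obtain ⟨v, hvx, hvn⟩ := exists_perp_not_mem_span hF ha3 hx0
      by_contra hs
      apply hvn
      have h1 := hl v
      rw [hvx, zero_smul, sub_zero, mul_zero, zero_smul, sub_zero, smul_smul, hlc] at h1
      have hcs : c * hv q (ζ *ᵥ x) x ≠ 0 := mul_ne_zero hc0 hs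
      have h2 : v = ((c * hv q (ζ *ᵥ x) x)⁻¹ * (c * hv q (ζ *ᵥ v) x)) • x := by
        rw [← smul_smul, h1, smul_smul, inv_mul_cancel₀ hcs, one_smul]
      rw [h2]
      exact Submodule.smul_mem _ _ (Submodule.mem_span_singleton_self x)
    · have ha2 : a = 2 := by omega
      have hq2 : 2 ≤ q := by
        by_contra hlt
        have h2 : 2 ≤ Fintype.card F := Fintype.one_lt_card
        rw [hF] at h2
        interval_cases q <;> omega
      have hq3 : 3 ≤ q := by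
        by_contra hlt
        exact hex ⟨ha2, by omega⟩
      obtain ⟨r, hr0, hr1, hr⟩ := exists_fixed_ne_one hF hq3
      have hc' : (r * c) ^ q = -(r * c) := by rw [mul_pow, hr, hc, mul_neg]
      obtain ⟨l', hl'⟩ := key (r * c) hc'
      have hlc' := hl_val (r * c) l' hl'
      obtain ⟨v, hvx⟩ := (hf.nondegenerate x hx0).1
      have h1 := hl v
      have h2 := hl' v
      rw [hlc] at h1
      rw [hlc'] at h2
      have h3 : (r * (r - 1) * (c * c) * hv q (ζ *ᵥ x) x * hv q v x) • x = 0 := by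
        have e : (r * (r - 1) * (c * c) * hv q (ζ *ᵥ x) x * hv q v x) • x =
            r • (c • (hv q (ζ *ᵥ v) x • x - hv q v x • (ζ *ᵥ x)) -
              (c * c * hv q (ζ *ᵥ x) x * hv q v x) • x) -
            ((r * c) • (hv q (ζ *ᵥ v) x • x - hv q v x • (ζ *ᵥ x)) -
              (r * c * (r * c) * hv q (ζ *ᵥ x) x * hv q v x) • x) := by
          module
        rw [e, h1, h2]
        module
      rcases smul_eq_zero.1 h3 with h4 | h4
      · have hne : r * (r - 1) * (c * c) ≠ 0 :=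
          mul_ne_zero (mul_ne_zero hr0 (sub_ne_zero.2 hr1)) (mul_ne_zero hc0 hc0)
        rcases mul_eq_zero.1 h4 with h5 | h5
        · exact (mul_eq_zero.1 h5).resolve_left hne
        · exact absurd h5 hvx
      · exact absurd h4 hx0
  -- the eigenvector
  obtain ⟨v, hvx⟩ := (hf.nondegenerate x hx0).1
  have h1 := hl v
  simp only [hlc, hs, mul_zero, zero_mul, zero_smul, sub_zero] at h1
  have h2 : hv q (ζ *ᵥ v) x • x - hv q v x • (ζ *ᵥ x) = 0 :=
    (smul_eq_zero.1 h1).resolve_left hc0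
  refine ⟨(hv q v x)⁻¹ * hv q (ζ *ᵥ v) x, ?_⟩
  rw [← smul_smul, sub_eq_zero.1 h2, smul_smul, inv_mul_cancel₀ hvx, one_smul]

end Cfsg.Agent.Lib.Helper23.UTNLeaf
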