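import Mathlib
import Cfsg.Agent.Lib.Helper20.UTNDefs
import Cfsg.Agent.Lib.Helper20.UTS
import Cfsg.Agent.Lib.Helper5.SUMax
import Cfsg.Agent.Lib.Helper23.UTNN3h

/-!
S5670 part (N) (helper20's sub-market), leaf N5a `lemmaAH` (LEMMA A, hermitian, `q ≥ 3`; pure matrix algebra).
-/

set_option autoImplicit false
set_option linter.unusedSectionVars false
set_option linter.unusedVariables false

namespace Cfsg.Agent.Lib.Helper23.UTNLeaf
open Matrix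
open Cfsg.Agent.Lib.Helper25.Tens Cfsg.Agent.Lib.Helper25.TensLeaf Cfsg.Agent.Lib.Helper25.TensLeaves
open Cfsg.Agent.Lib.Helper20.UT Cfsg.Agent.Lib.Helper20.UTLeaf Cfsg.Agent.Lib.Helper20.UTN
open Cfsg.Agent.Lib.Helper5 Cfsg.Agent.Lib.Helper5.HermBridge
open scoped Kronecker

variable {F : Type*} [Field F] [Fintype F] {a b q : ℕ} {M : Subgroup (GL (Idx a b) F)}

/-- `h(θ x, x)` is skew for a skew-hermitian `θ` -/
theorem hv_mulVec_self_skew (hF : Fintype.card F = q ^ 2) {θ : Matrix (Fin a) (Fin a) F}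
    (hθ : adjM q θ = -θ) (x : Fin a → F) : (hv q (θ *ᵥ x) x) ^ q = -hv q (θ *ᵥ x) x := by
  have h1 := hv_adjM hF θ x x
  rw [hθ, Matrix.neg_mulVec, hv_neg_right hF, ← hv_conj hF (θ *ᵥ x) x] at h1
  linear_combination h1

/-- `h(θ v, x) = - h(v, θ x)` for a skew-hermitian `θ` -/
theorem hv_mulVec_skew (hF : Fintype.card F = q ^ 2) {θ : Matrix (Fin a) (Fin a) F}
    (hθ : adjM q θ = -θ) (v x : Fin a → F) : hv q (θ *ᵥ v) x = -hv q v (θ *ᵥ x) := by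
  rw [hv_adjM hF θ v x, hθ, Matrix.neg_mulVec, hv_neg_right hF]

/-- CASE A of Lemma A: an isotropic `x` with `h(θ x, x) ≠ 0` -/
theorem lemmaAH_caseA (hF : Fintype.card F = q ^ 2) (hq : 3 ≤ q)
    (S : Set (Matrix (Fin a) (Fin a) F))
    (hadd : ∀ θ θ', θ ∈ S → θ' ∈ S → θ + θ' ∈ S) (hneg : ∀ θ, θ ∈ S → -θ ∈ S)
    (hsm : ∀ r : F, r ^ q = r → ∀ θ, θ ∈ S → r • θ ∈ S)
    (hconj : ∀ (x : Fin a → F) (c : F) (hx : hv q x x = 0), c ^ q = -c → ∀ θ, θ ∈ S →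
      ((tvU q x c hx : GL (Fin a) F) : Matrix (Fin a) (Fin a) F) * θ *
        (((tvU q x c hx)⁻¹ : GL (Fin a) F) : Matrix (Fin a) (Fin a) F) ∈ S)
    (hskew : ∀ θ, θ ∈ S → adjM q θ = -θ)
    {θ : Matrix (Fin a) (Fin a) F} (hθ : θ ∈ S) {x : Fin a → F} (hx : hv q x x = 0)
    (hs : hv q (θ *ᵥ x) x ≠ 0) : ∀ e : F, e ^ q = -e → e • rk1 q x ∈ S := by
  obtain ⟨c, hc0, hc⟩ := Cfsg.Agent.Lib.Helper23.UTLeaf.exists_skew hF
  obtain ⟨r, hr0, hr1, hr⟩ := exists_fixed_ne_one hF hq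
  have hc' : (r * c) ^ q = -(r * c) := by rw [mul_pow, hr, hc, mul_neg]
  have hssk := hv_mulVec_self_skew hF (hskew θ hθ) x
  set s := hv q (θ *ᵥ x) x with hsdef
  have hD : ∀ c : F, c ^ q = -c →
      ((tvU q x c hx : GL (Fin a) F) : Matrix (Fin a) (Fin a) F) * θ *
        (((tvU q x c hx)⁻¹ : GL (Fin a) F) : Matrix (Fin a) (Fin a) F) - θ ∈ S := by
    intro c hc
    rw [sub_eq_add_neg]
    exact hadd _ _ (hconj x c hx hc θ hθ) (hneg θ hθ)
  have hE : r • (((tvU q x c hx : GL (Fin a) F) : Matrix (Fin a) (Fin a) F) * θ *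
        (((tvU q x c hx)⁻¹ : GL (Fin a) F) : Matrix (Fin a) (Fin a) F) - θ) -
      (((tvU q x (r * c) hx : GL (Fin a) F) : Matrix (Fin a) (Fin a) F) * θ *
        (((tvU q x (r * c) hx)⁻¹ : GL (Fin a) F) : Matrix (Fin a) (Fin a) F) - θ) ∈ S := by
    rw [sub_eq_add_neg]
    exact hadd _ _ (hsm r hr _ (hD c hc)) (hneg _ (hD (r * c) hc'))
  have hEeq : r • (((tvU q x c hx : GL (Fin a) F) : Matrix (Fin a) (Fin a) F) * θ *
        (((tvU q x c hx)⁻¹ : GL (Fin a) F) : Matrix (Fin a) (Fin a) F) - θ) -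
      (((tvU q x (r * c) hx : GL (Fin a) F) : Matrix (Fin a) (Fin a) F) * θ *
        (((tvU q x (r * c) hx)⁻¹ : GL (Fin a) F) : Matrix (Fin a) (Fin a) F) - θ) =
      (r * (r - 1) * (c * c) * s) • rk1 q x := by
    apply utn_mat_ext
    intro v
    rw [Matrix.sub_mulVec, Matrix.smul_mulVec, conj_tv_sub_mulVec, conj_tv_sub_mulVec,
      Matrix.smul_mulVec, rk1_mulVec]
    module
  rw [hEeq] at hE
  set e₀ := r * (r - 1) * (c * c) * s with he₀def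
  have he₀0 : e₀ ≠ 0 :=
    mul_ne_zero (mul_ne_zero (mul_ne_zero hr0 (sub_ne_zero.2 hr1)) (mul_ne_zero hc0 hc0)) hs
  have hr1q : (r - 1) ^ q = r - 1 := by
    have := map_sub (frobQ hF) r 1
    rw [frobQ_apply, frobQ_apply, frobQ_apply, one_pow, hr] at this
    exact this
  have he₀ : e₀ ^ q = -e₀ := by
    rw [he₀def, mul_pow, mul_pow, mul_pow, mul_pow, hr, hr1q, hc, hssk]
    ring
  intro e he
  have hfix : (e / e₀) ^ q = e / e₀ := by
    rw [div_pow, he, he₀, neg_div_neg_eq]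
  have := hsm (e / e₀) hfix _ hE
  rwa [smul_smul, div_mul_cancel₀ _ he₀0] at this

/-- an isotropic vector with prescribed products with two independent vectors `x` (isotropic) and `x'` (`x ⊥ x'`) -/
theorem exists_iso_prescribed (hF : Fintype.card F = q ^ 2) {x x' : Fin a → F} (hx0 : x ≠ 0)
    (hxx : hv q x x = 0) (hxx' : hv q x x' = 0) (hx' : x' ∉ Submodule.span F {x}) (t₀ : F) :
    ∃ x₂ : Fin a → F, hv q x₂ x₂ = 0 ∧ hv q x₂ x = 1 ∧ hv q x₂ x' = t₀ := by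
  have hf := hv_unitary (n := a) hF
  have hx'0 : x' ≠ 0 := by
    rintro rfl
    exact hx' (Submodule.zero_mem _)
  have hx_not : x ∉ Submodule.span F {x'} := by
    intro hmem
    obtain ⟨t, ht⟩ := Submodule.mem_span_singleton.1 hmem
    have ht0 : t ≠ 0 := by
      rintro rfl
      rw [zero_smul] at ht
      exact hx0 ht.symm
    apply hx'
    have : x' = t⁻¹ • x := by rw [← ht, smul_smul, inv_mul_cancel₀ ht0, one_smul]
    rw [this]
    exact Submodule.smul_mem _ _ (Submodule.mem_span_singleton_self x)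
  obtain ⟨p₁, hp₁a, hp₁b⟩ := UForm.exists_sep hf hx0 hx'
  obtain ⟨p₂, hp₂a, hp₂b⟩ := UForm.exists_sep hf hx'0 hx_not
  have h1a : hv q p₁ x = 0 := UForm.u_symm_zero hf hp₁a
  have h1b : hv q p₁ x' ≠ 0 := UForm.u_symm_ne hf hp₁b
  have h2a : hv q p₂ x' = 0 := UForm.u_symm_zero hf hp₂a
  have h2b : hv q p₂ x ≠ 0 := UForm.u_symm_ne hf hp₂b
  set v := (hv q p₂ x)⁻¹ • p₂ + (t₀ / hv q p₁ x') • p₁ with hvdef
  have hvx : hv q v x = 1 := by
    rw [hvdef, hv_add_left, hv_smul_left, hv_smul_left, h1a, mul_zero, add_zero, inv_mul_cancel₀ h2b]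
  have hvx' : hv q v x' = t₀ := by
    rw [hvdef, hv_add_left, hv_smul_left, hv_smul_left, h2a, mul_zero, zero_add, div_mul_cancel₀ _ h1b]
  obtain ⟨m, hm⟩ := UForm.tr_surj hf.involutive hf.ne_refl (-(hv q v v))
    (by rw [map_neg, UForm.u_self_fixed hf])
  rw [frobQ_apply] at hm
  have hxv : hv q x v = 1 := by rw [← hv_conj hF v x, hvx, one_pow]
  refine ⟨v + m • x, ?_, ?_, ?_⟩
  · rw [UForm.u_expand hf, hxx, mul_zero, add_zero, hvx, hxv, frobQ_apply, mul_one, mul_one]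
    linear_combination hm
  · rw [hv_add_left, hv_smul_left, hxx, mul_zero, add_zero, hvx]
  · rw [hv_add_left, hv_smul_left, hxx', mul_zero, add_zero, hvx']

/-- N5a -/
theorem lemmaAH (hF : Fintype.card F = q ^ 2) (hq : 3 ≤ q) (ha : 2 ≤ a)
    (S : Set (Matrix (Fin a) (Fin a) F))
    (hadd : ∀ θ θ', θ ∈ S → θ' ∈ S → θ + θ' ∈ S) (hneg : ∀ θ, θ ∈ S → -θ ∈ S)
    (hsm : ∀ r : F, r ^ q = r → ∀ θ, θ ∈ S → r • θ ∈ S)
    (hconj : ∀ (x : Fin a → F) (c : F) (hx : hv q x x = 0), c ^ q = -c → ∀ θ, θ ∈ S →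
      ((tvU q x c hx : GL (Fin a) F) : Matrix (Fin a) (Fin a) F) * θ *
        (((tvU q x c hx)⁻¹ : GL (Fin a) F) : Matrix (Fin a) (Fin a) F) ∈ S)
    (hskew : ∀ θ, θ ∈ S → adjM q θ = -θ)
    {θ : Matrix (Fin a) (Fin a) F} (hθ : θ ∈ S) (hns : ¬ IsScalarMat θ) :
    ∃ x : Fin a → F, x ≠ 0 ∧ ∀ c : F, c ^ q = -c → c • rk1 q x ∈ S := by
  have hf := hv_unitary (n := a) hF
  by_cases hA : ∃ x : Fin a → F, hv q x x = 0 ∧ hv q (θ *ᵥ x) x ≠ 0
  · obtain ⟨x, hxx, hs⟩ := hA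
    refine ⟨x, ?_, lemmaAH_caseA hF hq S hadd hneg hsm hconj hskew hθ hxx hs⟩
    rintro rfl
    apply hs
    rw [Matrix.mulVec_zero, hv_zero_left]
  · push Not at hA
    -- some isotropic vector is not an eigenvector
    have hex : ∃ x : Fin a → F, x ≠ 0 ∧ hv q x x = 0 ∧ θ *ᵥ x ∉ Submodule.span F {x} := by
      by_contra hcon
      push Not at hcon
      apply hns
      apply scalar_of_iso_eigen hF ha θ
      intro x hx0 hxx
      obtain ⟨l, hl⟩ := Submodule.mem_span_singleton.1 (hcon x hx0 hxx)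
      exact ⟨l, hl.symm⟩
    obtain ⟨x, hx0, hxx, hx'⟩ := hex
    have hs0 : hv q (θ *ᵥ x) x = 0 := hA x hxx
    have hxx' : hv q x (θ *ᵥ x) = 0 := hv_symm_zero hF hs0
    obtain ⟨c, hc0, hc⟩ := Cfsg.Agent.Lib.Helper23.UTLeaf.exists_skew hF
    obtain ⟨t₀, ht₀⟩ := UForm.tr_surj hf.involutive hf.ne_refl (1 : F) (map_one _)
    rw [frobQ_apply] at ht₀
    obtain ⟨x₂, h22, h2x, h2x'⟩ := exists_iso_prescribed hF hx0 hxx hxx' hx' t₀
    have hθ₂ : ((tvU q x c hxx : GL (Fin a) F) : Matrix (Fin a) (Fin a) F) * θ *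
        (((tvU q x c hxx)⁻¹ : GL (Fin a) F) : Matrix (Fin a) (Fin a) F) - θ ∈ S := by
      rw [sub_eq_add_neg]
      exact hadd _ _ (hconj x c hxx hc θ hθ) (hneg θ hθ)
    have hxx₂ : hv q x x₂ = 1 := by rw [← hv_conj hF x₂ x, h2x, one_pow]
    have hx'x₂ : hv q (θ *ᵥ x) x₂ = t₀ ^ q := by rw [← hv_conj hF x₂ (θ *ᵥ x), h2x']
    have hs₂ : hv q ((((tvU q x c hxx : GL (Fin a) F) : Matrix (Fin a) (Fin a) F) * θ *
        (((tvU q x c hxx)⁻¹ : GL (Fin a) F) : Matrix (Fin a) (Fin a) F) - θ) *ᵥ x₂) x₂ = -c := by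
      rw [conj_tv_sub_mulVec, hs0, hv_mulVec_skew hF (hskew θ hθ) x₂ x, h2x, h2x', mul_zero, zero_mul,
        zero_smul, sub_zero, hv_smul_left, hv_sub_left, hv_smul_left, hv_smul_left, hxx₂, hx'x₂]
      linear_combination (-c) * ht₀
    refine ⟨x₂, ?_, lemmaAH_caseA hF hq S hadd hneg hsm hconj hskew hθ₂ h22
      (by rw [hs₂]; exact neg_ne_zero.2 hc0)⟩
    rintro rfl
    rw [hv_zero_left] at h2x
    exact zero_ne_one h2x

end Cfsg.Agent.Lib.Helper23.UTNLeaf
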