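import Mathlib
import Cfsg.Agent.Lib.Helper18.UDenseDefs

/-!
S5655 (helper18 market, dense case), leaf K2e: the support combinatorics (pure linear algebra).
-/

set_option autoImplicit false

namespace Cfsg.Agent.Lib.Helper23.UDenseLeaf
open Matrix Cfsg.Agent.Lib.Helper11.Mono Cfsg.Agent.Lib.Helper15.MonoLeaf Cfsg.Agent.Lib.Helper18.UDense

variable {F : Type*} [Field F] [Fintype F] {ι : Type} [Fintype ι] [DecidableEq ι]

omit [Fintype F] in
/-- two distinct indices outside a small finset -/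
lemma exists_two_not_mem (h11 : 11 ≤ Fintype.card ι) (S : Finset ι) (hS : S.card ≤ 9) :
    ∃ x y, x ≠ y ∧ x ∉ S ∧ y ∉ S := by
  have : 1 < Sᶜ.card := by rw [Finset.card_compl]; omega
  obtain ⟨x, hx, y, hy, hxy⟩ := Finset.one_lt_card.mp this
  exact ⟨x, y, hxy, Finset.mem_compl.mp hx, Finset.mem_compl.mp hy⟩

omit [Fintype F] in
/-- a non-zero combination `u_c - α u_a - β u_b` of columns of a non-monomial `g ∈ L` is not supported on one row -/
lemma weight_ge_two (h11 : 11 ≤ Fintype.card ι) (L : Subgroup (GL ι F)) (hD : ColDense L)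
    (g : GL ι F) (hg : g ∈ L) (hnm : ¬ IsMono (g : Matrix ι ι F))
    (a b c : ι) (hca : c ≠ a) (hcb : c ≠ b) (α β : F) (i : ι)
    (hw : ∀ x, x ≠ i → (g : Matrix ι ι F) x c = α * (g : Matrix ι ι F) x a + β * (g : Matrix ι ι F) x b) :
    False := by
  classical
  have hginv : g⁻¹ ∈ L := L.inv_mem hg
  have hnm' : ¬ IsMono ((g⁻¹ : GL ι F) : Matrix ι ι F) := fun h => hnm (by
    have := isMono_inv g⁻¹ h
    simpa using this)
  set G : Matrix ι ι F := (g : Matrix ι ι F) with hG
  set t : ι → F := Pi.single c (1 : F) - α • Pi.single a (1 : F) - β • Pi.single b (1 : F) with ht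
  set κ : F := G i c - α * G i a - β * G i b with hκ
  have hgt : G *ᵥ t = Pi.single i κ := by
    ext x
    rw [ht, Matrix.mulVec_sub, Matrix.mulVec_sub, Matrix.mulVec_smul, Matrix.mulVec_smul,
      Matrix.mulVec_single_one, Matrix.mulVec_single_one, Matrix.mulVec_single_one]
    simp only [Pi.sub_apply, Pi.smul_apply, Matrix.col_apply, smul_eq_mul]
    by_cases hx : x = i
    · subst hx
      rw [Pi.single_eq_same]
    · rw [Pi.single_eq_of_ne hx, hw x hx]
      ring
  have hinv : ((g⁻¹ : GL ι F) : Matrix ι ι F) *ᵥ (Pi.single i κ) = t := by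
    rw [← hgt, Matrix.mulVec_mulVec, hG, ← Units.val_mul, inv_mul_cancel, Units.val_one,
      Matrix.one_mulVec]
  have hentry : ∀ y, ((g⁻¹ : GL ι F) : Matrix ι ι F) y i * κ = t y := by
    intro y
    have := congrFun hinv y
    rw [Matrix.mulVec_single] at this
    simpa using this
  have htc : t c = 1 := by
    rw [ht]
    simp [Pi.single_eq_of_ne hca, Pi.single_eq_of_ne hcb]
  have hκ0 : κ ≠ 0 := by
    intro h0
    have := hentry c
    rw [h0, mul_zero, htc] at this
    exact zero_ne_one this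
  have hzero : ∀ y, y ≠ a → y ≠ b → y ≠ c → ((g⁻¹ : GL ι F) : Matrix ι ι F) y i = 0 := by
    intro y hya hyb hyc
    have h := hentry y
    have hty : t y = 0 := by
      rw [ht]
      simp [Pi.single_eq_of_ne hya, Pi.single_eq_of_ne hyb, Pi.single_eq_of_ne hyc]
    rw [hty] at h
    rcases mul_eq_zero.mp h with h | h
    · exact h
    · exact absurd h hκ0
  obtain ⟨y1, y2, hy12, hy1, hy2⟩ := exists_two_not_mem h11 ([a, b, c] : List ι).toFinset
    (le_trans (List.toFinset_card_le _) (by simp))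
  simp only [List.mem_toFinset, List.mem_cons, List.not_mem_nil, or_false, not_or] at hy1 hy2
  exact hD g⁻¹ hginv hnm' i y1 y2 hy12 (hzero y1 hy1.1 hy1.2.1 hy1.2.2) (hzero y2 hy2.1 hy2.2.1 hy2.2.2)

omit [Fintype F] in
/-- K2e COMBINATORICS (pure linear algebra). -/
theorem false_of_comb (h11 : 11 ≤ Fintype.card ι) (L : Subgroup (GL ι F)) (hD : ColDense L)
    (g : GL ι F) (hg : g ∈ L) (hnm : ¬ IsMono (g : Matrix ι ι F))
    (a b c : ι) (hab : a ≠ b) (hca : c ≠ a) (hcb : c ≠ b)
    (hcomb : ∀ k l : ι, k ≠ l → ∃ (α β : F) (i : ι), ∀ x, x ≠ k → x ≠ l → x ≠ i →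
      (g : Matrix ι ι F) x c = α * (g : Matrix ι ι F) x a + β * (g : Matrix ι ι F) x b) : False := by
  classical
  have hA := weight_ge_two h11 L hD g hg hnm a b c hca hcb
  set G : Matrix ι ι F := (g : Matrix ι ι F) with hG
  obtain ⟨α0, β0, i0, h0⟩ := hcomb a b hab
  obtain ⟨k1, l1, hkl1, hk1, hl1⟩ := exists_two_not_mem h11 ([a, b, i0] : List ι).toFinset
    (le_trans (List.toFinset_card_le _) (by simp))
  simp only [List.mem_toFinset, List.mem_cons, List.not_mem_nil, or_false, not_or] at hk1 hl1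
  obtain ⟨α1, β1, i1, h1⟩ := hcomb k1 l1 hkl1
  by_cases hsame : α1 = α0 ∧ β1 = β0
  · obtain ⟨rfl, rfl⟩ := hsame
    refine hA α1 β1 i1 (fun x hx => ?_)
    by_cases hxk : x = k1 ∨ x = l1
    · rcases hxk with rfl | rfl
      · exact h0 x hk1.1 hk1.2.1 hk1.2.2
      · exact h0 x hl1.1 hl1.2.1 hl1.2.2
    · push Not at hxk
      exact h1 x hxk.1 hxk.2 hx
  · obtain ⟨k2, l2, hkl2, hk2, hl2⟩ := exists_two_not_mem h11
      ([a, b, i0, k1, l1, i1] : List ι).toFinset (le_trans (List.toFinset_card_le _) (by simp))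
    simp only [List.mem_toFinset, List.mem_cons, List.not_mem_nil, or_false, not_or] at hk2 hl2
    obtain ⟨α2, β2, i2, h2⟩ := hcomb k2 l2 hkl2
    by_cases hD0 : (α0 - α1) * (β0 - β2) - (α0 - α2) * (β0 - β1) = 0
    · -- dependent case: `w₂` is supported on `{i2}`
      refine hA α2 β2 i2 (fun x hx => ?_)
      by_cases hxk : x = k2 ∨ x = l2
      · have hx' : x ≠ a ∧ x ≠ b ∧ x ≠ i0 ∧ x ≠ k1 ∧ x ≠ l1 ∧ x ≠ i1 := by
          rcases hxk with rfl | rfl
          · exact hk2
          · exact hl2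
        have e0 := h0 x hx'.1 hx'.2.1 hx'.2.2.1
        have e1 := h1 x hx'.2.2.2.1 hx'.2.2.2.2.1 hx'.2.2.2.2.2
        -- `p1 ua + q1 ub = 0`
        have e01 : (α0 - α1) * G x a + (β0 - β1) * G x b = 0 := by
          linear_combination e1 - e0
        have hp : (α0 - α1) * ((α0 - α2) * G x a + (β0 - β2) * G x b) = 0 := by
          linear_combination (α0 - α2) * e01 + (G x b) * hD0
        have hq : (β0 - β1) * ((α0 - α2) * G x a + (β0 - β2) * G x b) = 0 := by
          linear_combination (β0 - β2) * e01 - (G x a) * hD0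
        have hpq : (α0 - α1) ≠ 0 ∨ (β0 - β1) ≠ 0 := by
          by_contra hcon
          push Not at hcon
          exact hsame ⟨(sub_eq_zero.mp hcon.1).symm, (sub_eq_zero.mp hcon.2).symm⟩
        have e02 : (α0 - α2) * G x a + (β0 - β2) * G x b = 0 := by
          rcases hpq with hp0 | hq0
          · exact (mul_eq_zero.mp hp).resolve_left hp0
          · exact (mul_eq_zero.mp hq).resolve_left hq0
        linear_combination e0 + e02
      · push Not at hxk
        exact h2 x hxk.1 hxk.2 hx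
    · -- independent case: `u_a` is supported on at most 9 rows
      obtain ⟨x, y, hxy, hx, hy⟩ := exists_two_not_mem h11
        ([a, b, i0, k1, l1, i1, k2, l2, i2] : List ι).toFinset
        (le_trans (List.toFinset_card_le _) (by simp))
      simp only [List.mem_toFinset, List.mem_cons, List.not_mem_nil, or_false, not_or] at hx hy
      have hzero : ∀ x, (x ≠ a ∧ x ≠ b ∧ x ≠ i0 ∧ x ≠ k1 ∧ x ≠ l1 ∧ x ≠ i1 ∧ x ≠ k2 ∧ x ≠ l2 ∧ x ≠ i2) →
          G x a = 0 := by
        intro x hx'
        have e0 := h0 x hx'.1 hx'.2.1 hx'.2.2.1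
        have e1 := h1 x hx'.2.2.2.1 hx'.2.2.2.2.1 hx'.2.2.2.2.2.1
        have e2 := h2 x hx'.2.2.2.2.2.2.1 hx'.2.2.2.2.2.2.2.1 hx'.2.2.2.2.2.2.2.2
        have e01 : (α0 - α1) * G x a + (β0 - β1) * G x b = 0 := by
          linear_combination e1 - e0
        have e02 : (α0 - α2) * G x a + (β0 - β2) * G x b = 0 := by
          linear_combination e2 - e0
        have : ((α0 - α1) * (β0 - β2) - (α0 - α2) * (β0 - β1)) * G x a = 0 := by
          linear_combination (β0 - β2) * e01 - (β0 - β1) * e02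
        exact (mul_eq_zero.mp this).resolve_left hD0
      exact hD g hg hnm a x y hxy (hzero x hx) (hzero y hy)

end Cfsg.Agent.Lib.Helper23.UDenseLeaf
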