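import Cfsg.Agent.Lib.Helper14.AltFP.Defs

/-!
S2276 (helper14's market), leaves G4 `ns_key` and G5 `ns5`:
Mathlib's `not_isSolvable_fin_5` argument for a subgroup; two 3-cycles sharing exactly one point generate a
non-solvable group.
-/

set_option autoImplicit false

namespace Cfsg.Agent.Lib.Helper23.AltFPLeaf

open Equiv Equiv.Perm Cfsg.Agent.Lib.Helper14.AltFP
open scoped commutatorElement

/-- (G4) -/
theorem ns_key {G : Type*} [Group G] (H : Subgroup G) (x y z : G) (hx : x ∈ H) (hy : y ∈ H) (hz : z ∈ H)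
    (hx1 : x ≠ 1) (key : x = z * ⁅x, y * x * y⁻¹⁆ * z⁻¹) : ¬ Group.IsSolvable H := by
  have hx1' : (⟨x, hx⟩ : H) ≠ 1 := by
    intro h
    exact hx1 (congrArg Subtype.val h)
  have key' : (⟨x, hx⟩ : H) = ⟨z, hz⟩ * ⁅(⟨x, hx⟩ : H), ⟨y, hy⟩ * ⟨x, hx⟩ * (⟨y, hy⟩ : H)⁻¹⁆ *
      (⟨z, hz⟩ : H)⁻¹ := by
    apply Subtype.ext
    exact key
  refine not_isSolvable_of_mem_derivedSeries hx1' fun n => ?_
  induction n with
  | zero => exact Subgroup.mem_top _
  | succ n ih =>
    rw [key', (derivedSeries_normal _ _).mem_comm_iff, inv_mul_cancel_left]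
    exact Subgroup.commutator_mem_commutator ih ((derivedSeries_normal _ _).conj_mem _ ih _)

/-- `viaEmbeddingHom` maps a swap to the swap of the images -/
theorem viaEmbeddingHom_swap {α β : Type*} [DecidableEq α] [DecidableEq β] (ι : α ↪ β) (i j : α) :
    viaEmbeddingHom ι (swap i j) = swap (ι i) (ι j) := by
  rw [viaEmbeddingHom_apply]
  ext y
  by_cases hy : y ∈ Set.range ι
  · obtain ⟨x, rfl⟩ := hy
    rw [viaEmbedding_apply]
    by_cases hxi : x = i
    · subst hxi
      rw [swap_apply_left, swap_apply_left]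
    · by_cases hxj : x = j
      · subst hxj
        rw [swap_apply_right, swap_apply_right]
      · rw [swap_apply_of_ne_of_ne hxi hxj, swap_apply_of_ne_of_ne]
        · exact fun h => hxi (ι.injective h)
        · exact fun h => hxj (ι.injective h)
  · rw [viaEmbedding_apply_of_notMem _ _ _ hy, swap_apply_of_ne_of_ne]
    · rintro rfl
      exact hy ⟨i, rfl⟩
    · rintro rfl
      exact hy ⟨j, rfl⟩

set_option maxRecDepth 100000 in
/-- the identity of Mathlib's `not_isSolvable_fin_5` for `v = (0 1 2)`, `c = (2 3 4)` -/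
theorem fin5_key :
    (swap (0 : Fin 5) 1 * swap 1 2 : Perm (Fin 5)) =
      (swap (2 : Fin 5) 3 * swap 3 4) *
        ⁅(swap (0 : Fin 5) 1 * swap 1 2 : Perm (Fin 5)),
          ((swap (2 : Fin 5) 3 * swap 3 4) * (swap (0 : Fin 5) 1 * swap 1 2)⁻¹ * (swap (2 : Fin 5) 3 * swap 3 4)) *
            (swap (0 : Fin 5) 1 * swap 1 2) *
            ((swap (2 : Fin 5) 3 * swap 3 4) * (swap (0 : Fin 5) 1 * swap 1 2)⁻¹ *
              (swap (2 : Fin 5) 3 * swap 3 4))⁻¹⁆ *
        (swap (2 : Fin 5) 3 * swap 3 4)⁻¹ := by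
  decide

/-- (G5) -/
theorem ns5 {α : Type*} [Fintype α] [DecidableEq α] (x0 x1 x2 x3 x4 : α)
    (hnd : [x0, x1, x2, x3, x4].Nodup) (H : Subgroup (Perm α))
    (h1 : swap x0 x1 * swap x1 x2 ∈ H) (h2 : swap x2 x3 * swap x3 x4 ∈ H) :
    ¬ Group.IsSolvable H := by
  have hinj : Function.Injective (![x0, x1, x2, x3, x4] : Fin 5 → α) := by
    intro i j hij
    have hget : ∀ k : Fin 5, (![x0, x1, x2, x3, x4] : Fin 5 → α) k =
        [x0, x1, x2, x3, x4].get ⟨k.val, by simp⟩ := by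
      intro k
      fin_cases k <;> rfl
    rw [hget, hget] at hij
    have h5 := (List.Nodup.get_inj_iff hnd).1 hij
    exact Fin.ext (Fin.mk.inj_iff.1 h5)
  let ι : Fin 5 ↪ α := ⟨![x0, x1, x2, x3, x4], hinj⟩
  have hV : viaEmbeddingHom ι (swap (0 : Fin 5) 1 * swap 1 2) = swap x0 x1 * swap x1 x2 := by
    rw [map_mul, viaEmbeddingHom_swap, viaEmbeddingHom_swap]
    rfl
  have hC : viaEmbeddingHom ι (swap (2 : Fin 5) 3 * swap 3 4) = swap x2 x3 * swap x3 x4 := by
    rw [map_mul, viaEmbeddingHom_swap, viaEmbeddingHom_swap]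
    rfl
  have key := congrArg (viaEmbeddingHom ι) fin5_key
  simp only [map_mul, map_inv, map_commutatorElement] at key
  rw [← map_mul, ← map_mul] at key
  rw [hV, hC] at key
  have hne : swap x0 x1 * swap x1 x2 ≠ 1 := by
    intro h
    have h3 := congrArg (fun σ : Perm α => σ x2) h
    simp only [Perm.mul_apply, Perm.one_apply, swap_apply_right] at h3
    -- `h3 : x0 = x2`
    apply (List.nodup_cons.1 hnd).1
    rw [h3]
    simp
  set V := swap x0 x1 * swap x1 x2 with hVdef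
  set C := swap x2 x3 * swap x3 x4 with hCdef
  exact ns_key H V (C * V⁻¹ * C) C h1 (H.mul_mem (H.mul_mem h2 (H.inv_mem h1)) h2) h2 hne key

end Cfsg.Agent.Lib.Helper23.AltFPLeaf
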