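import Mathlib
import Cfsg.Prelude.Def_LocalEven
import Cfsg.Prelude.Def_PLocal
import Cfsg.Prelude.Def_FusionSystem
import Cfsg.Agent.Lib.Helper2.PCDefs
import Cfsg.Agent.Lib.Helper26.FSGroup

/-!
# S5280 leaf PC3 (for helper2): translation between `CtlIn` and `FusionSystem.IsNormal`
-/

set_option autoImplicit false

namespace Cfsg.Agent.Lib.Helper23.PCLeaf

open Cfsg Cfsg.FusionSystem Cfsg.Agent.Lib.Helper26 Cfsg.Agent.Lib.Helper2.PC

/-- If `ψ` on `Q ⊔ T` is conjugation by `x` and maps `T` onto `T`, then `x` normalizes `T`. -/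
theorem mem_normalizer_of_map_eq {G : Type*} [Group G] {Q T : Subgroup G} {x : G}
    {ψ : ↥(Q ⊔ T) →* G} (hψ : ∀ y : ↥(Q ⊔ T), ψ y = x * (y : G) * x⁻¹)
    (hmap : (T.subgroupOf (Q ⊔ T)).map ψ = T) : x ∈ Subgroup.normalizer (T : Set G) := by
  rw [Subgroup.mem_normalizer_iff]
  intro t
  constructor
  · intro ht
    have : ψ ⟨t, (le_sup_right : T ≤ Q ⊔ T) ht⟩ ∈ (T.subgroupOf (Q ⊔ T)).map ψ :=
      ⟨⟨t, (le_sup_right : T ≤ Q ⊔ T) ht⟩, ht, rfl⟩
    rw [hmap, hψ] at this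
    exact this
  · intro ht
    rw [← hmap] at ht
    obtain ⟨y, hy, hyt⟩ := ht
    rw [hψ] at hyt
    have : (y : G) = t := mul_left_cancel (mul_right_cancel hyt)
    rw [← this]
    exact hy

theorem isNormal_subFS_of_ctlIn {G : Type*} [Group G] (H T₀ R : Subgroup G) (hT₀H : T₀ ≤ H)
    (hR : R ≤ T₀) (hn : T₀ ≤ Subgroup.normalizer (R : Set G))
    (hctl : CtlIn H (Subgroup.normalizer (R : Set G)) T₀) :
    (Cfsg.fusionSystemOfSubgroup H T₀ hT₀H).IsNormal R := by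
  refine ⟨hR, ?_⟩
  rintro Q φ ⟨hQ, hφT, g, hgH, hg⟩
  obtain ⟨x, hx, hxg⟩ := hctl (Q : Set G) g hgH hQ
    (fun a ha => by rw [← hg ⟨a, ha⟩]; exact hφT _)
  have hxN : x ∈ Subgroup.normalizer (R : Set G) := hx.2
  have hle : ∀ y : ↥(Q ⊔ R), x * (y : G) * x⁻¹ ∈ T₀ := by
    have : Q ⊔ R ≤ T₀.comap (MulAut.conj x).toMonoidHom := by
      apply sup_le
      · intro a ha
        show x * a * x⁻¹ ∈ T₀
        rw [hxg a ha, ← hg ⟨a, ha⟩]
        exact hφT _
      · intro a ha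
        show x * a * x⁻¹ ∈ T₀
        exact hR ((Subgroup.mem_normalizer_iff.mp hxN a).mp ha)
    exact fun y => this y.2
  refine ⟨conjHom (Q ⊔ R) x, ⟨sup_le hQ hR, hle, x, hx.1, fun _ => rfl⟩, fun y => ?_, ?_⟩
  · show x * (y : G) * x⁻¹ = φ y
    rw [hxg y y.2, hg y]
  · exact conjHom_map_eq_of_mem_normalizer le_sup_right hxN

theorem isNormal_groupFS_of_ctlIn {G : Type*} [Group G] (P R : Subgroup G)
    (hR : R ≤ P) (hn : P ≤ Subgroup.normalizer (R : Set G))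
    (hctl : CtlIn ⊤ (Subgroup.normalizer (R : Set G)) P) :
    (Cfsg.groupFusionSystem P).IsNormal R := by
  refine ⟨hR, ?_⟩
  rintro Q φ ⟨hQ, hφT, g, hg⟩
  obtain ⟨x, hx, hxg⟩ := hctl (Q : Set G) g (Subgroup.mem_top g) hQ
    (fun a ha => by rw [← hg ⟨a, ha⟩]; exact hφT _)
  have hxN : x ∈ Subgroup.normalizer (R : Set G) := hx.2
  have hle : ∀ y : ↥(Q ⊔ R), x * (y : G) * x⁻¹ ∈ P := by
    have : Q ⊔ R ≤ P.comap (MulAut.conj x).toMonoidHom := by
      apply sup_le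
      · intro a ha
        show x * a * x⁻¹ ∈ P
        rw [hxg a ha, ← hg ⟨a, ha⟩]
        exact hφT _
      · intro a ha
        show x * a * x⁻¹ ∈ P
        exact hR ((Subgroup.mem_normalizer_iff.mp hxN a).mp ha)
    exact fun y => this y.2
  refine ⟨conjHom (Q ⊔ R) x, ⟨sup_le hQ hR, hle, x, fun _ => rfl⟩, fun y => ?_, ?_⟩
  · show x * (y : G) * x⁻¹ = φ y
    rw [hxg y y.2, hg y]
  · exact conjHom_map_eq_of_mem_normalizer le_sup_right hxN

theorem ctlIn_of_isNormal_groupFS {G : Type*} [Group G] (P T : Subgroup G)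
    (h : (Cfsg.groupFusionSystem P).IsNormal T) :
    T ≤ P ∧ P ≤ Subgroup.normalizer (T : Set G) ∧ CtlIn ⊤ (Subgroup.normalizer (T : Set G)) P := by
  obtain ⟨hTP, hext⟩ := h
  refine ⟨hTP, ?_, ?_⟩
  · intro s hs
    obtain ⟨ψ, ⟨-, -, x, hx⟩, hψφ, hmap⟩ :=
      hext T (conjHom T s) ((groupFusionSystem P).conj_mem hTP hs)
    have hxN : x ∈ Subgroup.normalizer (T : Set G) := mem_normalizer_of_map_eq hx hmap
    have hst : ∀ t ∈ T, s * t * s⁻¹ = x * t * x⁻¹ := by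
      intro t ht
      have := hψφ ⟨t, ht⟩
      rw [hx] at this
      exact this.symm
    rw [Subgroup.mem_normalizer_iff]
    intro t
    constructor
    · intro ht
      rw [hst t ht]
      exact (Subgroup.mem_normalizer_iff.mp hxN t).mp ht
    · intro ht
      -- s t s⁻¹ ∈ T, so = x t' x⁻¹ ... use inverse direction
      have h1 : x⁻¹ * (s * t * s⁻¹) * x⁻¹⁻¹ ∈ T :=
        (Subgroup.mem_normalizer_iff.mp (Subgroup.inv_mem _ hxN) _).mp ht
      have h2 := hst _ h1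
      -- s * (x⁻¹ (s t s⁻¹) x) * s⁻¹ = x (x⁻¹ (s t s⁻¹) x) x⁻¹ = s t s⁻¹
      have h3 : x⁻¹ * (s * t * s⁻¹) * x⁻¹⁻¹ = t := by
        have : s * (x⁻¹ * (s * t * s⁻¹) * x⁻¹⁻¹) * s⁻¹ = s * t * s⁻¹ := by
          rw [h2]; group
        exact mul_left_cancel (mul_right_cancel this)
      rw [← h3]
      exact h1
  · intro A g _ hAP hgA
    have hQP : Subgroup.closure A ≤ P := (Subgroup.closure_le P).mpr hAP
    have hQg : Subgroup.closure A ≤ P.comap (MulAut.conj g).toMonoidHom :=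
      (Subgroup.closure_le _).mpr (fun a ha => hgA a ha)
    have hφ : conjHom (Subgroup.closure A) g ∈ (groupFusionSystem P).Hom (Subgroup.closure A) :=
      ⟨hQP, fun y => hQg y.2, g, fun _ => rfl⟩
    obtain ⟨ψ, ⟨-, -, x, hx⟩, hψφ, hmap⟩ := hext _ _ hφ
    have hxN : x ∈ Subgroup.normalizer (T : Set G) := mem_normalizer_of_map_eq hx hmap
    refine ⟨x, ⟨Subgroup.mem_top x, hxN⟩, fun a ha => ?_⟩
    have := hψφ ⟨a, Subgroup.subset_closure ha⟩
    rw [hx] at this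
    exact this

end Cfsg.Agent.Lib.Helper23.PCLeaf
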