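/-
helper23: S3385 market "SIMS" (`notes/S3385_leaves.lean`), leaf L7A: in the case `l = 4`, `n = 6` the commutator
`[x 0, x 4]` equals `x 2` (`H[2,3] ⊓ H[1,2]` has order 2 inside the abelian `H[1,3]` of order 8).
-/
import Mathlib
import Cfsg.Agent.Lib.Helper18.Sims3Defs
import Cfsg.Agent.Lib.Helper23.SIMSAux
import Cfsg.Agent.Lib.Helper4.Basic

set_option autoImplicit false

namespace Cfsg.Agent.Lib.Helper23.SIMSL7A

open Cfsg Cfsg.Agent.Lib.Helper29.TWPair Cfsg.Agent.Lib.Helper18.Sims3 MulAction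
open Cfsg.Agent.Lib.Helper23.SIMSAux

variable {G : Type*} [Group G]

/-- LEAF L7A (the case `l = 4`, `n = 6`: the commutator is `x 2`). -/
theorem cm_eq_x2 {g : G} {x : ℕ → G} (h : TSData g x 6) (hl : CommLt x 4)
    (hsq : ∀ i, x i * x i = 1)
    (hc1 : cm (x 0) (x 4) ≠ 1) (hc2 : cm (x 0) (x 4) ∈ Hx x 2 3)
    (hc3 : cm (x 0) (x 4) ∈ Hx x 1 2) : cm (x 0) (x 4) = x 2 := by
  set c := cm (x 0) (x 4) with hc
  -- `H[1,2]` normalizes `H[2,3]` (everything commutes)
  have hcomm : ∀ a b, 1 ≤ a → a ≤ 3 → 1 ≤ b → b ≤ 3 → Commute (x a) (x b) := by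
    intro a b ha1 ha3 hb1 hb3
    rcases le_total a b with hab | hab
    · have := hl a (b - a) (by omega)
      have e : a + (b - a) = b := by omega
      rwa [e] at this
    · have := hl b (a - b) (by omega)
      have e : b + (a - b) = a := by omega
      rw [e] at this
      exact this.symm
  have hnorm : Hx x 1 2 ≤ Subgroup.normalizer (Hx x 2 3 : Set G) := by
    rw [Hx_le_iff]
    intro k hk1 hk2
    unfold Hx
    apply mem_normalizer_closure_of_invol (hsq k)
    rintro _ ⟨j, ⟨hj1, hj2⟩, rfl⟩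
    have hcm : Commute (x k) (x j) := hcomm k j (by omega) (by omega) (by omega) (by omega)
    have : x k * x j * (x k)⁻¹ = x j := by
      have h' : x k * x j = x j * x k := hcm
      rw [h']
      group
    rw [this]
    exact Subgroup.subset_closure ⟨j, ⟨hj1, hj2⟩, rfl⟩
  have hprod := Cfsg.Agent.Lib.Helper4.card_sup_mul_card_inf (Hx x 1 2) (Hx x 2 3) hnorm
  -- the join is `H[1,3]`
  have hsup : Hx x 1 2 ⊔ Hx x 2 3 = Hx x 1 3 := by
    apply le_antisymm
    · exact sup_le (Hx_mono x le_rfl (by omega)) (Hx_mono x (by omega) le_rfl)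
    · rw [Hx_le_iff]
      intro k hk1 hk2
      rcases Nat.lt_or_ge k 3 with hk | hk
      · exact (le_sup_left : Hx x 1 2 ≤ _) (mem_Hx x hk1 (by omega))
      · exact (le_sup_right : Hx x 2 3 ≤ _) (mem_Hx x (by omega) hk2)
  have h13 := h.card 1 3 (by omega) (by omega)
  have h12 := h.card 1 2 (by omega) (by omega)
  have h23 := h.card 2 3 (by omega) (by omega)
  rw [hsup, h13, h12, h23] at hprod
  have hinf : Nat.card ↥(Hx x 1 2 ⊓ Hx x 2 3) = 2 := by
    have e1 : (2 : ℕ) ^ (3 - 1 + 1) = 8 := by norm_num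
    have e2 : (2 : ℕ) ^ (2 - 1 + 1) = 4 := by norm_num
    rw [e1, e2] at hprod
    omega
  -- both `c` and `x 2` are non-trivial elements of the group of order 2
  have hcmem : c ∈ Hx x 1 2 ⊓ Hx x 2 3 := ⟨hc3, hc2⟩
  have hx2mem : x 2 ∈ Hx x 1 2 ⊓ Hx x 2 3 := ⟨mem_Hx x (by omega) le_rfl, mem_Hx x le_rfl (by omega)⟩
  have hx2ne : x 2 ≠ 1 := x_ne_one h (by omega) 2
  have hfin : Finite ↥(Hx x 1 2 ⊓ Hx x 2 3) := by
    apply Nat.finite_of_card_ne_zero
    rw [hinf]
    norm_num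
  let _ : Fintype ↥(Hx x 1 2 ⊓ Hx x 2 3) := Fintype.ofFinite _
  have hcard2 : Fintype.card ↥(Hx x 1 2 ⊓ Hx x 2 3) = 2 := by
    rw [← Nat.card_eq_fintype_card, hinf]
  -- three pairwise different elements would be too many
  by_contra hne
  have h3 : 2 < Fintype.card ↥(Hx x 1 2 ⊓ Hx x 2 3) := by
    rw [Fintype.two_lt_card_iff]
    refine ⟨1, ⟨c, hcmem⟩, ⟨x 2, hx2mem⟩, ?_, ?_, ?_⟩
    · intro e
      exact hc1 (congrArg Subtype.val e).symm
    · intro e
      exact hx2ne (congrArg Subtype.val e).symm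
    · intro e
      exact hne (congrArg Subtype.val e)
  omega

end Cfsg.Agent.Lib.Helper23.SIMSL7A
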