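/-
helper23: S3385 market "SIMS" (`notes/S3385_leaves.lean`), leaf L7C: in the case `l = 4`, `n = 6` the subgroup
`N = ⟨x 2, ..., x 5⟩` is normalized by `x 0, ..., x 7`, contradicting `core`.
-/
import Mathlib
import Cfsg.Agent.Lib.Helper18.Sims3Defs
import Cfsg.Agent.Lib.Helper23.SIMSAux

set_option autoImplicit false

namespace Cfsg.Agent.Lib.Helper23.SIMSL7C

open Cfsg Cfsg.Agent.Lib.Helper29.TWPair Cfsg.Agent.Lib.Helper18.Sims3 MulAction
open Cfsg.Agent.Lib.Helper23.SIMSAux

variable {G : Type*} [Group G]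

/-- LEAF L7C (the case `l = 4`, `n = 6`: `⟨x 2, ..., x 5⟩` is normalized by `x 0, ..., x 7`). -/
theorem not_four_six_aux {g : G} {x : ℕ → G} (h : TSData g x 6) (hl : CommLt x 4)
    (hsq : ∀ i, x i * x i = 1)
    (hc : cm (x 0) (x 4) = x 2) (hgam : cm (x 0) (x 5) ∈ Hx x 2 3) : False := by
  have hs := h.shift
  -- commuting pairs
  have hcomm : ∀ a b, a < b + 4 → b < a + 4 → Commute (x a) (x b) := by
    intro a b h1 h2
    rcases le_total a b with hab | hab
    · have := hl a (b - a) (by omega)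
      have e : a + (b - a) = b := by omega
      rwa [e] at this
    · have := hl b (a - b) (by omega)
      have e : b + (a - b) = a := by omega
      rw [e] at this
      exact this.symm
  have hconj_comm : ∀ a b, a < b + 4 → b < a + 4 → x a * x b * (x a)⁻¹ = x b := by
    intro a b h1 h2
    have h' : x a * x b = x b * x a := hcomm a b h1 h2
    rw [h']
    group
  -- shifted commutators
  have hc4 : ∀ i, cm (x i) (x (i + 4)) = x (i + 2) := by
    intro i
    have := cm_shift hs i 0 4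
    rw [add_zero, hc, shift_pow hs] at this
    exact this
  have hc5 : ∀ i, cm (x i) (x (i + 5)) ∈ Hx x (i + 2) (i + 3) := by
    intro i
    have := cm_shift hs i 0 5
    rw [add_zero] at this
    rw [this]
    exact conj_pow_mem_Hx hs i 2 3 hgam
  have hc4' : ∀ i, cm (x (i + 4)) (x i) = x (i + 2) := by
    intro i
    rw [cm_inv, hc4, inv_eq_of_sq (hsq _)]
  have hc5' : ∀ i, cm (x (i + 5)) (x i) ∈ Hx x (i + 2) (i + 3) := by
    intro i
    rw [cm_inv]
    exact inv_mem (hc5 i)
  -- the subgroup `N`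
  have hN0 : Hx x 2 5 ≤ Hx x 0 6 := Hx_mono x (by omega) (by omega)
  have hnorm : ∀ j, j ≤ 6 + 1 → x j ∈ Subgroup.normalizer (Hx x 2 5 : Set G) := by
    intro j hj
    unfold Hx
    apply mem_normalizer_closure_of_invol (hsq j)
    rintro _ ⟨k, ⟨hk1, hk2⟩, rfl⟩
    show x j * x k * (x j)⁻¹ ∈ Hx x 2 5
    by_cases hjk : j < k + 4 ∧ k < j + 4
    · rw [hconj_comm j k hjk.1 hjk.2]
      exact mem_Hx x hk1 hk2
    · rw [conj_eq_cm_mul]
      apply mul_mem _ (mem_Hx x hk1 hk2)
      -- the non-commuting pairs: (0,4), (0,5), (1,5), (6,2), (7,3), (7,2)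
      have hcases : (j = 0 ∧ k = 4) ∨ (j = 0 ∧ k = 5) ∨ (j = 1 ∧ k = 5) ∨ (j = 6 ∧ k = 2) ∨
          (j = 7 ∧ k = 3) ∨ (j = 7 ∧ k = 2) := by omega
      rcases hcases with ⟨rfl, rfl⟩ | ⟨rfl, rfl⟩ | ⟨rfl, rfl⟩ | ⟨rfl, rfl⟩ | ⟨rfl, rfl⟩ | ⟨rfl, rfl⟩
      · rw [hc]
        exact mem_Hx x (by omega) (by omega)
      · exact Hx_mono x (by omega) (by omega) hgam
      · have := hc4 1
        rw [this]
        exact mem_Hx x (by omega) (by omega)
      · have := hc4' 2
        rw [this]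
        exact mem_Hx x (by omega) (by omega)
      · have := hc4' 3
        rw [this]
        exact mem_Hx x (by omega) (by omega)
      · have := hc5' 2
        exact Hx_mono x (by omega) (by omega) this
  have hbot := h.core (Hx x 2 5) hN0 hnorm
  have hx2 : x 2 ∈ Hx x 2 5 := mem_Hx x le_rfl (by omega)
  rw [hbot, Subgroup.mem_bot] at hx2
  exact x_ne_one h (by omega) 2 hx2

end Cfsg.Agent.Lib.Helper23.SIMSL7C
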