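/-
helper23 (twin): S3385 market "SIMS" (`notes/S3385_leaves.lean`), leaf T2B2 (the regularity lemma): if the chain
`Fc 0 0 ⊋ Fc 0 1 ⊋ ... ⊋ Fc 0 k = Fc 0 (k+1)` stabilises at `k`, the stabilised term is normalised by `g` and by
`Fc 0 (k-1)`, which generate `G`; so it is a normal subgroup of `G` inside `A`, hence trivial.
-/
import Mathlib
import Cfsg.Agent.Lib.Helper18.Sims3Defs
import Cfsg.Agent.Lib.Helper12.SIMST2B1
import Cfsg.Agent.Lib.Helper12.SIMST2B3

set_option autoImplicit false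

namespace Cfsg.Agent.Lib.Helper23.SIMST2B2

open Cfsg Cfsg.Agent.Lib.Helper29.TWPair Cfsg.Agent.Lib.Helper18.Sims3 MulAction
open Cfsg.Agent.Lib.Helper12.SIMST2B1 Cfsg.Agent.Lib.Helper12.SIMST2B3

variable {G : Type*} [Group G]

theorem mem_cj_iff (a : G) (S : Subgroup G) (y : G) : y ∈ cj a S ↔ a⁻¹ * y * a ∈ S := by
  unfold cj
  rw [Subgroup.mem_map]
  constructor
  · rintro ⟨x, hx, rfl⟩
    have : a⁻¹ * ((MulAut.conj a).toMonoidHom x) * a = x := by
      simp [MulAut.conj_apply, mul_assoc]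
    rw [this]
    exact hx
  · intro h
    refine ⟨a⁻¹ * y * a, h, ?_⟩
    simp [MulAut.conj_apply, mul_assoc]

theorem conj_mem_cj (a : G) (S : Subgroup G) {x : G} (hx : x ∈ S) : a * x * a⁻¹ ∈ cj a S := by
  rw [mem_cj_iff]
  have : a⁻¹ * (a * x * a⁻¹) * a = x := by group
  rw [this]
  exact hx

/-- `cj g (Fc i k) = Fc (i+1) k` -/
theorem cj_Fc (g : G) (D : Subgroup G) (i k : ℕ) : cj g (Fc g D i k) = Fc g D (i + 1) k := by
  rw [Fc_eq_cj g D (i + 1) k, Fc_eq_cj g D i k, ← cj_mul, ← pow_succ']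

/-- `Fc i (k+1) ≤ Fc (i+1) k` -/
theorem Fc_succ_le_start (g : G) (D : Subgroup G) (i k : ℕ) : Fc g D i (k + 1) ≤ Fc g D (i + 1) k := by
  intro x hx
  rw [mem_Fc] at hx ⊢
  intro l
  have := hx ⟨(l : ℕ) + 1, by omega⟩
  have e : i + ((l : ℕ) + 1) = i + 1 + (l : ℕ) := by omega
  simpa [e] using this

/-- a subgroup of prime index and a subgroup not contained in it generate everything -/
theorem sup_eq_of_prime_relIndex [Finite G] {K1 K2 M : Subgroup G} (h1 : K1 ≤ M) (h2 : K2 ≤ M)
    {q : ℕ} (hq : q.Prime) (hidx : K1.relIndex M = q) (hnot : ¬ K2 ≤ K1) : K1 ⊔ K2 = M := by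
  have hJM : K1 ⊔ K2 ≤ M := sup_le h1 h2
  have hmul := Subgroup.relIndex_mul_relIndex K1 (K1 ⊔ K2) M le_sup_left hJM
  rw [hidx] at hmul
  have hne1 : K1.relIndex (K1 ⊔ K2) ≠ 1 := by
    intro h
    rw [Subgroup.relIndex_eq_one] at h
    exact hnot (le_trans le_sup_right h)
  have hd : K1.relIndex (K1 ⊔ K2) ∣ q := Dvd.intro _ hmul
  rcases (Nat.dvd_prime hq).mp hd with h | h
  · exact absurd h hne1
  · rw [h] at hmul
    have hone : (K1 ⊔ K2).relIndex M = 1 := by
      have hq0 : 0 < q := hq.pos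
      have : q * (K1 ⊔ K2).relIndex M = q * 1 := by rw [hmul, mul_one]
      exact Nat.eq_of_mul_eq_mul_left hq0 this
    rw [Subgroup.relIndex_eq_one] at hone
    exact le_antisymm hJM hone

/-- `g ∈ N(E)` if `cj g E = E` -/
theorem mem_normalizer_of_cj_eq {g : G} {E : Subgroup G} (h : cj g E = E) :
    g ∈ Subgroup.normalizer (E : Set G) := by
  rw [Subgroup.mem_normalizer_iff]
  intro x
  constructor
  · intro hx
    rw [← h]
    exact conj_mem_cj g E hx
  · intro hx
    rw [← h, mem_cj_iff] at hx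
    have e : g⁻¹ * (g * x * g⁻¹) * g = x := by group
    rwa [e] at hx

/-- LEAF T2B2 (regularity lemma). -/
theorem Fc_eq_bot_of_stable [Finite G] {A B : Subgroup G} (h : TS A B) (g : G) (hg : B = cj g A)
    (hne : cj g (A ⊓ B) ≠ A ⊓ B)
    (hstep : ∀ i k, (Fc g (A ⊓ B) i (k + 1)).relIndex (Fc g (A ⊓ B) i k) ∣ 2) (k : ℕ)
    (hstrict : ∀ j, j < k → Fc g (A ⊓ B) 0 (j + 1) ≠ Fc g (A ⊓ B) 0 j)
    (hstab : Fc g (A ⊓ B) 0 (k + 1) = Fc g (A ⊓ B) 0 k) : Fc g (A ⊓ B) 0 k = ⊥ := by
  set D := A ⊓ B with hD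
  -- `cj g D ≤ D` is impossible
  have hnotle : ¬ cj g D ≤ D := by
    intro hle
    apply hne
    apply Subgroup.eq_of_le_of_card_ge hle
    rw [card_cj]
  -- the case `k = 0`
  rcases Nat.eq_zero_or_pos k with hk0 | hkpos
  · exfalso
    rw [hk0] at hstab
    have hle : Fc g D 0 0 ≤ Fc g D (0 + 1) 0 := by
      rw [← hstab]
      exact Fc_succ_le_start g D 0 0
    rw [← cj_Fc, Fc_zero_zero] at hle
    apply hne
    symm
    apply Subgroup.eq_of_le_of_card_ge hle
    rw [card_cj]
  -- `k ≥ 1`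
  obtain ⟨k', rfl⟩ : ∃ k', k = k' + 1 := ⟨k - 1, by omega⟩
  have hEle : Fc g D 0 (k' + 1) ≤ Fc g D (0 + 1) (k' + 1) := by
    rw [← hstab]
    exact Fc_succ_le_start g D 0 (k' + 1)
  rw [← cj_Fc] at hEle
  set E := Fc g D 0 (k' + 1) with hE
  -- (b) `g` normalizes `E`
  have hgE : cj g E = E := by
    symm
    apply Subgroup.eq_of_le_of_card_ge hEle
    rw [card_cj]
  have hgN : g ∈ Subgroup.normalizer (E : Set G) := mem_normalizer_of_cj_eq hgE
  -- exact index 2 along the strict part of the chain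
  have hidx : ∀ j, j < k' + 1 → (Fc g D 0 (j + 1)).relIndex (Fc g D 0 j) = 2 := by
    intro j hj
    have hd := hstep 0 j
    rcases (Nat.dvd_prime Nat.prime_two).mp hd with h1 | h2
    · exfalso
      rw [Subgroup.relIndex_eq_one] at h1
      exact hstrict j hj (le_antisymm (Fc_succ_le g D 0 j) h1)
    · exact h2
  -- (c) `Fc 0 k'` normalizes `E`
  have hFN : Fc g D 0 k' ≤ Subgroup.normalizer (E : Set G) := by
    have h2 := hidx k' (by omega)
    have h3 : ((Fc g D 0 (k' + 1)).subgroupOf (Fc g D 0 k')).Normal :=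
      Subgroup.normal_of_index_eq_two h2
    exact (Subgroup.normal_subgroupOf_iff_le_normalizer (Fc_succ_le g D 0 k')).mp h3
  -- (d) `T = ⟨g, Fc 0 k'⟩ = ⊤`
  set T : Subgroup G := Subgroup.closure ({g} ∪ (Fc g D 0 k' : Set G)) with hT
  have hgT : g ∈ T := Subgroup.subset_closure (Or.inl rfl)
  have hcjT : ∀ S : Subgroup G, S ≤ T → cj g S ≤ T := by
    intro S hS y hy
    rw [mem_cj_iff] at hy
    have : y = g * (g⁻¹ * y * g) * g⁻¹ := by group
    rw [this]
    exact mul_mem (mul_mem hgT (hS hy)) (inv_mem hgT)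
  have hcjT' : ∀ S : Subgroup G, cj g S ≤ T → S ≤ T := by
    intro S hS y hy
    have h1 := hS (conj_mem_cj g S hy)
    have : y = g⁻¹ * (g * y * g⁻¹) * g := by group
    rw [this]
    exact mul_mem (mul_mem (inv_mem hgT) h1) hgT
  have hdown : ∀ d, d ≤ k' → Fc g D 0 (k' - d) ≤ T := by
    intro d
    induction d with
    | zero =>
      intro _
      rw [Nat.sub_zero]
      intro y hy
      exact Subgroup.subset_closure (Or.inr hy)
    | succ d ih =>
      intro hd
      have ih' := ih (by omega)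
      -- `j + 1 = k' - d`, `j = k' - (d+1)`
      set j := k' - (d + 1) with hj
      have hj1 : k' - d = j + 1 := by omega
      rw [hj1] at ih'
      -- `Fc 1 (j+1) ≤ T`
      have h1 : Fc g D 1 (j + 1) ≤ T := by
        have := hcjT _ ih'
        rwa [cj_Fc] at this
      -- `Fc 1 j = Fc 1 (j+1) ⊔ Fc 0 (j+1)`
      have hsup : Fc g D 1 (j + 1) ⊔ Fc g D 0 (j + 1) = Fc g D 1 j := by
        apply sup_eq_of_prime_relIndex (Fc_succ_le g D 1 j) (Fc_succ_le_start g D 0 j) Nat.prime_two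
        · have := relIndex_cj g (Fc g D 0 (j + 1)) (Fc g D 0 j)
          rw [cj_Fc, cj_Fc] at this
          rw [this]
          exact hidx j (by omega)
        · intro hle
          apply hstrict (j + 1) (by omega)
          rw [Fc_succ g D 0 (j + 1)]
          apply le_antisymm inf_le_left
          apply le_inf le_rfl
          have h3 := Fc_le_Dn g D 1 (j + 1) (j + 1) le_rfl
          have e : 1 + (j + 1) = 0 + (j + 1 + 1) := by omega
          rw [e] at h3
          exact le_trans hle h3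
      have h2 : Fc g D 1 j ≤ T := by
        rw [← hsup]
        exact sup_le h1 ih'
      apply hcjT'
      rw [cj_Fc]
      exact h2
  have hDT : D ≤ T := by
    have := hdown k' le_rfl
    rwa [Nat.sub_self, Fc_zero_zero] at this
  have hcjDT : cj g D ≤ T := hcjT D hDT
  -- `B = D ⊔ cj g D`
  have hcjDB : cj g D ≤ B := by
    rw [hD, cj_inf, ← hg]
    exact inf_le_left
  have hBsup : D ⊔ cj g D = B :=
    sup_eq_of_prime_relIndex (inf_le_right : A ⊓ B ≤ B) hcjDB Nat.prime_three h.idxB hnotle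
  have hBT : B ≤ T := by
    rw [← hBsup]
    exact sup_le hDT hcjDT
  have hAT : A ≤ T := by
    apply hcjT'
    rw [← hg]
    exact hBT
  have hTtop : T = ⊤ := by
    have hAB : A ⊔ B = ⊤ := by
      have hcoA := h.pair.coatomA
      have hcoB := h.pair.coatomB
      by_contra hne'
      have hlt : ¬ A < A ⊔ B := fun hlt => hne' (hcoA.2 _ hlt)
      have hBA : B ≤ A := by
        have : A ⊔ B = A := by
          by_contra h'
          exact hlt (lt_of_le_of_ne le_sup_left (Ne.symm h'))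
        rw [← this]
        exact le_sup_right
      rcases eq_or_lt_of_le hBA with he | hl
      · exact h.pair.ne he.symm
      · exact hcoA.1 (hcoB.2 _ hl)
    rw [eq_top_iff, ← hAB]
    exact sup_le hAT hBT
  -- (e) `E` is normal in `G`
  have hNtop : Subgroup.normalizer (E : Set G) = ⊤ := by
    rw [eq_top_iff, ← hTtop, hT, Subgroup.closure_le]
    rintro y (hy | hy)
    · rw [Set.mem_singleton_iff] at hy
      rw [hy]
      exact hgN
    · exact hFN hy
  have hEn : E.Normal := Subgroup.normalizer_eq_top_iff.mp hNtop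
  have hEA : E ≤ A := by
    have h1 : E ≤ Dn g D (0 + 0) := Fc_le_Dn g D 0 (k' + 1) 0 (by omega)
    have h2 : Dn g D (0 + 0) = D := by
      unfold Dn
      ext y
      rw [Nat.add_zero, pow_zero, mem_cj_iff]
      simp
    rw [h2] at h1
    exact le_trans h1 inf_le_left
  have hEcore : E ≤ A.normalCore := Subgroup.normal_le_normalCore.mpr hEA
  rw [h.pair.coreA] at hEcore
  exact le_bot_iff.mp hEcore

end Cfsg.Agent.Lib.Helper23.SIMST2B2
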