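import Mathlib
import Cfsg.Agent.Lib.Helper12.U3Defs
import Cfsg.Agent.Lib.Helper14.Unitary3

/-!
helper23: S2148 market "U3", leaf CENTER: `|Z(SU_3(q))| = gcd(3, q+1)` in the model `GG hF`.
-/

set_option autoImplicit false

namespace Cfsg.Agent.Lib.Helper23.U3Leaf

open Cfsg.Agent.Lib.Helper18.PSUMod Cfsg.Agent.Lib.Helper5.HermBridge Cfsg.Agent.Lib.Helper12.U3

section model

variable {F : Type*} [Field F] [Fintype F] {q : ℕ} (hF : Fintype.card F = q ^ 2)

/-- the centre of a group is carried to the centre by an isomorphism -/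
theorem card_center_congr {G H : Type*} [Group G] [Group H] (e : G ≃* H) :
    Nat.card (Subgroup.center G) = Nat.card (Subgroup.center H) := by
  apply Nat.card_congr
  refine ⟨fun z => ⟨e z, ?_⟩, fun z => ⟨e.symm z, ?_⟩, fun z => ?_, fun z => ?_⟩
  · rw [Subgroup.mem_center_iff]
    intro h
    obtain ⟨g, rfl⟩ := e.surjective h
    rw [← map_mul, ← map_mul, (Subgroup.mem_center_iff.1 z.2 g)]
  · rw [Subgroup.mem_center_iff]
    intro g
    obtain ⟨h, rfl⟩ := e.symm.surjective g
    rw [← map_mul, ← map_mul, (Subgroup.mem_center_iff.1 z.2 h)]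
  · ext; simp
  · ext; simp

/-- M6 -/
theorem card_center : Nat.card (Subgroup.center (GG hF)) = Nat.gcd 3 (q + 1) := by
  classical
  obtain ⟨ζ, τ, hζ, hτ, hN⟩ := exists_consts hF
  rw [← card_center_congr (PsiF (m := 1) hF hζ hτ hN)]
  exact Cfsg.Agent.Lib.Helper14.card_center_SU hF 3 (by norm_num)

end model

end Cfsg.Agent.Lib.Helper23.U3Leaf
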