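import Mathlib
import Cfsg.Agent.Lib.Helper12.U3Defs
import Cfsg.Agent.Lib.Helper20.U3CARDQ

/-!
helper23: S2148 market "U3", leaf TLINE: the `q+1` root groups of the hyperbolic line `⟨ve, vf⟩`.
-/

set_option autoImplicit false

namespace Cfsg.Agent.Lib.Helper23.U3Leaf

open Cfsg.Agent.Lib.Helper18.PSUMod Cfsg.Agent.Lib.Helper5.HermBridge Cfsg.Agent.Lib.Helper12.U3

section line

variable {F : Type*} [Field F] [Fintype F] {q : ℕ} (hF : Fintype.card F = q ^ 2)

/-- the form against the middle vector -/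
theorem hV_w0_right (bar : F →+* F) (u : V F 1) : hV bar u (w0 : V F 1) = u.2.1 0 := by
  simp [hV, hW, w0, vw]

theorem hV_w0_left (bar : F →+* F) (u : V F 1) : hV bar (w0 : V F 1) u = bar (u.2.1 0) := by
  simp [hV, hW, w0, vw]

/-- conjugates of root groups -/
theorem map_conj_TV {bar : F →+* F} {m : ℕ} (s : ↥(SUm bar m)) (u : V F m) :
    (TV bar u).map (MulAut.conj s).toMonoidHom = TV bar (av s u) := by
  ext g
  rw [Subgroup.mem_map]
  constructor
  · rintro ⟨t, ht, rfl⟩
    simp only [MulEquiv.coe_toMonoidHom, MulAut.conj_apply]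
    exact conj_mem_TV s ht
  · intro hg
    refine ⟨s⁻¹ * g * s, ?_, ?_⟩
    · rw [← conj_mem_TV_iff s]
      convert hg using 1
      group
    · simp only [MulEquiv.coe_toMonoidHom, MulAut.conj_apply]
      group

/-- N2c -/
theorem TLine_le (T : Subgroup (GG hF)) (hT : T ∈ TLine hF) : T ≤ SLn hF := by
  obtain ⟨u, hu0, hu, huw, rfl⟩ := hT
  intro t ht
  obtain ⟨c, hc, hcu, hx⟩ := ht
  show av t w0 = w0
  have hb := (barOK_frob hF).invol
  have h0 : hV (frobHom hF) (w0 : V F 1) u = 0 := by rw [← hV_conj hb, huw, map_zero]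
  rw [hx, h0, mul_zero, zero_smul, add_zero]

/-- N2d -/
theorem TLine_inf (T T' : Subgroup (GG hF)) (hT : T ∈ TLine hF) (hT' : T' ∈ TLine hF)
    (hne : T ≠ T') : T ⊓ T' = ⊥ := by
  obtain ⟨u, hu0, hu, huw, rfl⟩ := hT
  obtain ⟨u', hu0', hu', huw', rfl⟩ := hT'
  rw [Subgroup.eq_bot_iff_forall]
  intro t ht
  by_contra ht1
  obtain ⟨a, ha⟩ := smul_of_TV_inter ht.1 ht.2 ht1
  have ha0 : a ≠ 0 := by
    rintro rfl
    rw [zero_smul] at ha
    exact hu0 ha
  apply hne
  rw [ha, TV_smul (barOK_frob hF).invol ha0]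

/-- N2e -/
theorem TLine_conj (s : GG hF) (hs : s ∈ SLn hF) (T : Subgroup (GG hF)) (hT : T ∈ TLine hF) :
    T.map (MulAut.conj s).toMonoidHom ∈ TLine hF := by
  obtain ⟨u, hu0, hu, huw, rfl⟩ := hT
  have hs' : av s w0 = w0 := hs
  refine ⟨av s u, ?_, ?_, ?_, map_conj_TV s u⟩
  · intro h
    exact hu0 (av_eq_zero.1 h)
  · rw [hV_av, hu]
  · have : hV (frobHom hF) (av s u) (av s w0) = 0 := by rw [hV_av, huw]
    rwa [hs'] at this

/-- the isotropic vector `(c, 0, 1)` of the line -/
def uc (c : F) : V F 1 := (c, 0, 1)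

theorem uc_ne_zero (c : F) : uc c ≠ 0 := by
  intro h
  have := congrArg (fun x : V F 1 => x.2.2) h
  simp [uc] at this

theorem hV_uc (bar : F →+* F) (c : F) : hV bar (uc c) (uc c) = c + bar c := by
  simp [hV, hW, uc]

theorem hV_uc_w0 (bar : F →+* F) (c : F) : hV bar (uc c) (w0 : V F 1) = 0 := by
  rw [hV_w0_right]
  simp [uc]

theorem ve_ne_zero' : (ve : V F 1) ≠ 0 := by
  intro h
  have := congrArg (fun x : V F 1 => x.1) h
  simp [ve] at this

theorem hV_ve_ve (bar : F →+* F) : hV bar (ve : V F 1) ve = 0 := by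
  simp [hV, hW, ve]

theorem hV_ve_w0 (bar : F →+* F) : hV bar (ve : V F 1) (w0 : V F 1) = 0 := by
  rw [hV_w0_right]
  simp [ve]

/-- the parametrisation of the root groups of the line -/
noncomputable def tlineMap : Option {c : F // c + frobHom hF c = 0} → Subgroup (GG hF)
  | none => TV (frobHom hF) ve
  | some c => TV (frobHom hF) (uc c.1)

theorem tlineMap_mem (x : Option {c : F // c + frobHom hF c = 0}) : tlineMap hF x ∈ TLine hF := by
  rcases x with _ | c
  · exact ⟨ve, ve_ne_zero', hV_ve_ve _, hV_ve_w0 _, rfl⟩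
  · exact ⟨uc c.1, uc_ne_zero _, by rw [hV_uc, c.2], hV_uc_w0 _ _, rfl⟩

theorem tlineMap_injective : Function.Injective (tlineMap hF) := by
  have hB := barOK_frob hF
  -- proportionality from equality of root groups
  have key : ∀ u v : V F 1, u ≠ 0 → hV (frobHom hF) u u = 0 →
      TV (frobHom hF) u = TV (frobHom hF) v → ∃ a : F, u = a • v := by
    intro u v hu0 hu h
    obtain ⟨t, ht, ht1⟩ := exists_TV_ne_one hB hu0 hu
    exact smul_of_TV_inter ht (h ▸ ht) ht1
  intro x y hxy
  rcases x with _ | c <;> rcases y with _ | c'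
  · rfl
  · exfalso
    obtain ⟨a, ha⟩ := key ve (uc c'.1) ve_ne_zero' (hV_ve_ve _) hxy
    have h3 := congrArg (fun x : V F 1 => x.2.2) ha
    have h1 := congrArg (fun x : V F 1 => x.1) ha
    simp [ve, uc] at h3 h1
    rw [← h3] at h1
    simp at h1
  · exfalso
    obtain ⟨a, ha⟩ := key ve (uc c.1) ve_ne_zero' (hV_ve_ve _) hxy.symm
    have h3 := congrArg (fun x : V F 1 => x.2.2) ha
    have h1 := congrArg (fun x : V F 1 => x.1) ha
    simp [ve, uc] at h3 h1
    rw [← h3] at h1
    simp at h1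
  · obtain ⟨a, ha⟩ := key (uc c.1) (uc c'.1) (uc_ne_zero _) (by rw [hV_uc, c.2]) hxy
    have h3 := congrArg (fun x : V F 1 => x.2.2) ha
    have h1 := congrArg (fun x : V F 1 => x.1) ha
    simp [uc] at h3 h1
    rw [← h3, one_mul] at h1
    exact congrArg some (Subtype.ext h1)

theorem tlineMap_surj (T : Subgroup (GG hF)) (hT : T ∈ TLine hF) : ∃ x, tlineMap hF x = T := by
  have hb := (barOK_frob hF).invol
  obtain ⟨u, hu0, hu, huw, rfl⟩ := hT
  obtain ⟨a, w, b⟩ := u
  rw [hV_w0_right] at huw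
  have hw : w = 0 := by
    funext i
    have : i = 0 := Subsingleton.elim _ _
    rw [this]
    exact huw
  subst hw
  by_cases hb0 : b = 0
  · subst hb0
    have ha0 : a ≠ 0 := by
      rintro rfl
      exact hu0 rfl
    refine ⟨none, ?_⟩
    show TV (frobHom hF) ve = _
    have : ((a, 0, 0) : V F 1) = a • ve := by simp [ve]
    rw [this, TV_smul hb ha0]
  · have hc : a * b⁻¹ + frobHom hF (a * b⁻¹) = 0 := by
      have hbb : frobHom hF b ≠ 0 := fun h => hb0 ((map_eq_zero _).1 h)
      simp only [hV, hW] at hu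
      rw [map_mul, map_inv₀]
      field_simp
      simp at hu
      linear_combination hu
    refine ⟨some ⟨a * b⁻¹, hc⟩, ?_⟩
    show TV (frobHom hF) (uc (a * b⁻¹)) = _
    have : ((a, 0, b) : V F 1) = b • uc (a * b⁻¹) := by
      simp [uc]
      field_simp
    rw [this, TV_smul hb hb0]

/-- N2b -/
theorem ncard_TLine : (TLine hF).ncard = q + 1 := by
  have h1 : TLine hF = Set.range (tlineMap hF) := by
    ext T
    constructor
    · intro hT
      exact tlineMap_surj hF T hT
    · rintro ⟨x, rfl⟩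
      exact tlineMap_mem hF x
  rw [h1, ← Set.image_univ, Set.ncard_image_of_injective _ (tlineMap_injective hF),
    Set.ncard_univ]
  rw [Finite.card_option, Cfsg.Agent.Lib.Helper20.U3Leaf.card_tr_ker hF]

end line

end Cfsg.Agent.Lib.Helper23.U3Leaf
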