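import Mathlib
import Cfsg.Agent.Lib.Helper12.U3Defs
import Cfsg.Agent.Lib.Helper23.U3TLINE

/-!
helper23: S2148 market "U3", leaf LAM: the `q+1` isotropic points of the line `⟨ve, vf⟩` as cosets of `PP`.
-/

set_option autoImplicit false

namespace Cfsg.Agent.Lib.Helper23.U3Leaf

open Cfsg.Agent.Lib.Helper18.PSUMod Cfsg.Agent.Lib.Helper5.HermBridge Cfsg.Agent.Lib.Helper12.U3

section line

variable {F : Type*} [Field F] [Fintype F] {q : ℕ} (hF : Fintype.card F = q ^ 2)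

/-- equality of points `g⟨ve⟩` in terms of vectors -/
theorem mk_eq_mk_iff (g g' : GG hF) :
    ((g : GG hF ⧸ PP hF) = (g' : GG hF ⧸ PP hF)) ↔ ∃ a : F, av g' ve = a • av g ve := by
  rw [QuotientGroup.eq]
  constructor
  · rintro ⟨a, ha⟩
    refine ⟨a, ?_⟩
    have := congrArg (av g) ha
    rwa [← av_mul, mul_inv_cancel_left, av_smul] at this
  · rintro ⟨a, ha⟩
    refine ⟨a, ?_⟩
    apply av_injective g
    rw [← av_mul, mul_inv_cancel_left, av_smul, ha]

theorem smul_mk' (g s : GG hF) : g • (s : GG hF ⧸ PP hF) = ((g * s : GG hF) : GG hF ⧸ PP hF) := rfl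

/-- the elation `(a, w, b) ↦ (a + c b, w, b)` -/
noncomputable def Ec (c : F) (hc : c + frobHom hF c = 0) : GG hF :=
  EG (barOK_frob hF).invol (zel (barOK_frob hF).invol c hc)

theorem av_Ec (c : F) (hc : c + frobHom hF c = 0) (v : V F 1) :
    av (Ec hF c hc) v = (v.1 + c * v.2.2, v.2.1, v.2.2) := by
  unfold Ec
  rw [av_EG, zel_w, zel_c]
  simp [hW]

theorem Ec_mem_SLn (c : F) (hc : c + frobHom hF c = 0) : Ec hF c hc ∈ SLn hF := by
  show av (Ec hF c hc) w0 = w0
  rw [av_Ec]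
  simp [w0, vw]

/-- an element of `SLn` mapping `ve` to a multiple of `vf` -/
theorem exists_SLn_swap : ∃ g ∈ SLn hF, ∃ k : F, k ≠ 0 ∧ av g ve = k • vf := by
  have hB := barOK_frob hF
  obtain ⟨k, hk0, hk⟩ := hB.sk
  have hk' : -k⁻¹ + frobHom hF (-k⁻¹) = 0 := by
    have h1 : frobHom hF k = -k := by linear_combination hk
    rw [map_neg, map_inv₀, h1]
    field_simp
    ring
  haveI := ringChar.charP F
  haveI : Fact (ringChar F).Prime := ⟨CharP.char_is_prime F _⟩
  obtain ⟨t, ht, hav⟩ := exists_TV_vf (m := 1) hB hk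
  refine ⟨Ec hF (-k⁻¹) hk' * t, ?_, k, hk0, ?_⟩
  · refine (SLn hF).mul_mem (Ec_mem_SLn hF _ hk') ?_
    show av t w0 = w0
    rw [hav]
    simp [w0, vw]
  · rw [av_mul, hav, av_Ec]
    simp [ve, vf]
    field_simp
    ring

/-- every isotropic point of the line is an `SLn`-image of `⟨ve⟩` -/
theorem exists_SLn_of_perp (u : V F 1) (hu0 : u ≠ 0) (hu : hV (frobHom hF) u u = 0)
    (huw : hV (frobHom hF) u w0 = 0) : ∃ s ∈ SLn hF, ∃ a : F, u = a • av s ve := by
  obtain ⟨a, w, b⟩ := u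
  rw [hV_w0_right] at huw
  have hw : w = 0 := by
    funext i
    have : i = 0 := Subsingleton.elim _ _
    rw [this]
    exact huw
  subst hw
  by_cases hb0 : b = 0
  · subst hb0
    refine ⟨1, (SLn hF).one_mem, a, ?_⟩
    rw [av_one]
    simp [ve]
  · have hc : a * b⁻¹ + frobHom hF (a * b⁻¹) = 0 := by
      have hbb : frobHom hF b ≠ 0 := fun h => hb0 ((map_eq_zero _).1 h)
      simp only [hV, hW] at hu
      rw [map_mul, map_inv₀]
      field_simp
      simp at hu
      linear_combination hu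
    obtain ⟨g, hg, k, hk0, hgk⟩ := exists_SLn_swap hF
    refine ⟨Ec hF _ hc * g, (SLn hF).mul_mem (Ec_mem_SLn hF _ hc) hg, b * k⁻¹, ?_⟩
    rw [av_mul, hgk, av_smul, av_Ec, smul_smul]
    simp [vf]
    constructor <;> field_simp

/-- characterisation of `Lam` -/
theorem mem_Lam_iff (g : GG hF) :
    (g : GG hF ⧸ PP hF) ∈ Lam hF ↔ hV (frobHom hF) (av g ve) w0 = 0 := by
  constructor
  · rintro ⟨s, hs, hgs⟩
    obtain ⟨a, ha⟩ := (mk_eq_mk_iff hF s g).1 hgs.symm
    have hs' : av s w0 = w0 := hs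
    have h1 : hV (frobHom hF) (av s ve) (av s w0) = 0 := by rw [hV_av, hV_ve_w0]
    rw [hs'] at h1
    rw [ha, hV_smul_left, h1, mul_zero]
  · intro h
    have hu0 : av g (ve : V F 1) ≠ 0 := fun h0 => ve_ne_zero' (av_eq_zero.1 h0)
    have hu : hV (frobHom hF) (av g ve) (av g ve) = 0 := by rw [hV_av, hV_ve_ve]
    obtain ⟨s, hs, a, ha⟩ := exists_SLn_of_perp hF _ hu0 hu h
    exact ⟨s, hs, ((mk_eq_mk_iff hF s g).2 ⟨a, ha⟩).symm⟩

/-- N5b -/
theorem Lam_smul (g : GG hF) (hg : g ∈ GLn hF) (x : GG hF ⧸ PP hF) (hx : x ∈ Lam hF) :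
    g • x ∈ Lam hF := by
  have hb := (barOK_frob hF).invol
  obtain ⟨s, hs, rfl⟩ := hx
  rw [smul_mk', mem_Lam_iff, av_mul]
  obtain ⟨b, hgb⟩ := hg
  have hb0 : b ≠ 0 := by
    rintro rfl
    rw [zero_smul] at hgb
    have := av_eq_zero.1 hgb
    simp [w0, vw, Prod.ext_iff] at this
  have hs' : av s w0 = w0 := hs
  have h1 : hV (frobHom hF) (av s ve) w0 = 0 := by
    have : hV (frobHom hF) (av s ve) (av s w0) = 0 := by rw [hV_av, hV_ve_w0]
    rwa [hs'] at this
  have h2 : hV (frobHom hF) (av g (av s ve)) (av g w0) = 0 := by rw [hV_av, h1]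
  rw [hgb, hV_smul_right] at h2
  rcases mul_eq_zero.1 h2 with h | h
  · exact absurd ((map_eq_zero _).1 h) hb0
  · exact h

/-- vectors of the line -/
theorem eq_of_perp_w0 (u : V F 1) (huw : hV (frobHom hF) u w0 = 0) :
    u = u.1 • ve + u.2.2 • vf := by
  obtain ⟨a, w, b⟩ := u
  rw [hV_w0_right] at huw
  have hw : w = 0 := by
    funext i
    have : i = 0 := Subsingleton.elim _ _
    rw [this]
    exact huw
  subst hw
  simp [ve, vf]

/-- N5c -/
theorem YY_smul (y : GG hF) (hy : y ∈ YY hF) (x : GG hF ⧸ PP hF) (hx : x ∈ Lam hF) :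
    y • x = x := by
  have hx' := hx
  obtain ⟨s, hs, rfl⟩ := hx
  rw [mem_Lam_iff] at hx'
  rw [smul_mk']
  symm
  rw [mk_eq_mk_iff]
  obtain ⟨a, h1, h2⟩ := hy
  refine ⟨a, ?_⟩
  rw [av_mul]
  conv_lhs => rw [eq_of_perp_w0 hF _ hx']
  rw [av_add, av_smul, av_smul, h1, h2]
  conv_rhs => rw [eq_of_perp_w0 hF _ hx']
  rw [smul_add, smul_smul, smul_smul, smul_smul, smul_smul, mul_comm a, mul_comm a]

/-- a `2 × 2` matrix with three pairwise independent eigenvectors is scalar -/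
theorem scalar_of_three {K : Type*} [Field K] (p s r t a1 b1 a2 b2 a3 b3 l1 l2 l3 : K)
    (h11 : p * a1 + s * b1 = l1 * a1) (h21 : r * a1 + t * b1 = l1 * b1)
    (h12 : p * a2 + s * b2 = l2 * a2) (h22 : r * a2 + t * b2 = l2 * b2)
    (h13 : p * a3 + s * b3 = l3 * a3) (h23 : r * a3 + t * b3 = l3 * b3)
    (D12 : a1 * b2 - a2 * b1 ≠ 0) (D13 : a1 * b3 - a3 * b1 ≠ 0) (D23 : a2 * b3 - a3 * b2 ≠ 0) :
    s = 0 ∧ r = 0 ∧ p = t := by
  have e13 : (a2 * b3 - a3 * b2) * (l1 - l3) * (a1 * b2 - a2 * b1) = 0 := by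
    linear_combination b2 * (-(a2 * b3 - a3 * b2) * h11 + (a1 * b3 - a3 * b1) * h12
        - (a1 * b2 - a2 * b1) * h13)
      - a2 * (-(a2 * b3 - a3 * b2) * h21 + (a1 * b3 - a3 * b1) * h22
        - (a1 * b2 - a2 * b1) * h23)
  have e23 : (a1 * b3 - a3 * b1) * (l2 - l3) * (a1 * b2 - a2 * b1) = 0 := by
    linear_combination b1 * (-(a2 * b3 - a3 * b2) * h11 + (a1 * b3 - a3 * b1) * h12
        - (a1 * b2 - a2 * b1) * h13)
      - a1 * (-(a2 * b3 - a3 * b2) * h21 + (a1 * b3 - a3 * b1) * h22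
        - (a1 * b2 - a2 * b1) * h23)
  have hl1 : l1 = l3 := by
    rcases mul_eq_zero.1 e13 with h | h
    · rcases mul_eq_zero.1 h with h | h
      · exact absurd h D23
      · exact sub_eq_zero.1 h
    · exact absurd h D12
  have hl2 : l2 = l3 := by
    rcases mul_eq_zero.1 e23 with h | h
    · rcases mul_eq_zero.1 h with h | h
      · exact absurd h D13
      · exact sub_eq_zero.1 h
    · exact absurd h D12
  subst hl1
  subst hl2
  have hs : s * (a1 * b2 - a2 * b1) = 0 := by linear_combination a1 * h12 - a2 * h11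
  have hr : r * (a1 * b2 - a2 * b1) = 0 := by linear_combination b2 * h21 - b1 * h22
  have hpt : (p - t) * (a1 * b2 - a2 * b1) = 0 := by
    linear_combination b2 * h11 - b1 * h12 - a1 * h22 + a2 * h21
  refine ⟨?_, ?_, ?_⟩
  · exact (mul_eq_zero.1 hs).resolve_right D12
  · exact (mul_eq_zero.1 hr).resolve_right D12
  · exact sub_eq_zero.1 ((mul_eq_zero.1 hpt).resolve_right D12)

/-- coordinates of a point of `Lam` and the eigenvalue equations of an element fixing it -/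
theorem lam_point_data (g : GG hF) (pp ss rr tt : F)
    (hve : av g ve = pp • (ve : V F 1) + rr • vf) (hvf : av g vf = ss • (ve : V F 1) + tt • vf)
    (x : GG hF ⧸ PP hF) (hx : x ∈ Lam hF) (gx : g • x = x) :
    ∃ (sx : GG hF) (a b l : F), x = (sx : GG hF ⧸ PP hF) ∧
      av sx ve = a • (ve : V F 1) + b • vf ∧
      pp * a + ss * b = l * a ∧ rr * a + tt * b = l * b := by
  have hx' := hx
  obtain ⟨sx, hsx, rfl⟩ := hx
  rw [mem_Lam_iff] at hx'
  have hu := eq_of_perp_w0 hF _ hx'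
  rw [smul_mk'] at gx
  obtain ⟨l, hl⟩ := (mk_eq_mk_iff hF sx (g * sx)).1 gx.symm
  obtain ⟨a, b, hab⟩ : ∃ a b : F, av sx ve = a • (ve : V F 1) + b • vf := ⟨_, _, hu⟩
  refine ⟨sx, a, b, l, rfl, hab, ?_, ?_⟩
  · have h1 : (av (g * sx) ve).1 = (l • av sx ve).1 := by rw [hl]
    rw [av_mul, hab, av_add, av_smul, av_smul, hve, hvf] at h1
    simp [ve, vf] at h1
    linear_combination h1
  · have h1 : (av (g * sx) ve).2.2 = (l • av sx ve).2.2 := by rw [hl]
    rw [av_mul, hab, av_add, av_smul, av_smul, hve, hvf] at h1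
    simp [ve, vf] at h1
    linear_combination h1

/-- distinct points have independent coordinate vectors -/
theorem det_ne_zero_of_ne (sx sy : GG hF) (a1 b1 a2 b2 : F)
    (hx : av sx ve = a1 • (ve : V F 1) + b1 • vf) (hy : av sy ve = a2 • (ve : V F 1) + b2 • vf)
    (hne : (sx : GG hF ⧸ PP hF) ≠ (sy : GG hF ⧸ PP hF)) : a1 * b2 - a2 * b1 ≠ 0 := by
  intro hD
  apply hne
  rw [mk_eq_mk_iff]
  have hx0 : av sx (ve : V F 1) ≠ 0 := fun h0 => ve_ne_zero' (av_eq_zero.1 h0)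
  by_cases ha : a1 = 0
  · have hb : b1 ≠ 0 := by
      rintro rfl
      apply hx0
      rw [hx, ha, zero_smul, zero_smul, add_zero]
    refine ⟨b2 * b1⁻¹, ?_⟩
    rw [hx, hy, smul_add, smul_smul, smul_smul]
    have h1 : a2 = b2 * b1⁻¹ * a1 := by
      field_simp
      linear_combination -hD
    have h2 : b2 = b2 * b1⁻¹ * b1 := by field_simp
    rw [← h1, ← h2]
  · refine ⟨a2 * a1⁻¹, ?_⟩
    rw [hx, hy, smul_add, smul_smul, smul_smul]
    have h1 : a2 = a2 * a1⁻¹ * a1 := by field_simp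
    have h2 : b2 = a2 * a1⁻¹ * b1 := by
      field_simp
      linear_combination hD
    rw [← h1, ← h2]

/-- N5d -/
theorem mem_YY_of_fix3 (g : GG hF) (hg : g ∈ GLn hF) (x y z : GG hF ⧸ PP hF)
    (hx : x ∈ Lam hF) (hy : y ∈ Lam hF) (hz : z ∈ Lam hF) (hxy : x ≠ y) (hxz : x ≠ z)
    (hyz : y ≠ z) (gx : g • x = x) (gy : g • y = y) (gz : g • z = z) : g ∈ YY hF := by
  -- `g` maps `ve`, `vf` into the line
  have hperp : ∀ v : V F 1, hV (frobHom hF) v w0 = 0 → hV (frobHom hF) (av g v) w0 = 0 := by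
    intro v hv
    obtain ⟨b, hgb⟩ := hg
    have hb0 : b ≠ 0 := by
      rintro rfl
      rw [zero_smul] at hgb
      have := av_eq_zero.1 hgb
      simp [w0, vw, Prod.ext_iff] at this
    have h2 : hV (frobHom hF) (av g v) (av g w0) = 0 := by rw [hV_av, hv]
    rw [hgb, hV_smul_right] at h2
    rcases mul_eq_zero.1 h2 with h | h
    · exact absurd ((map_eq_zero _).1 h) hb0
    · exact h
  have hve := eq_of_perp_w0 hF _ (hperp ve (hV_ve_w0 _))
  have hvfw : hV (frobHom hF) (vf : V F 1) w0 = 0 := by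
    rw [hV_w0_right]; simp [vf]
  have hvf := eq_of_perp_w0 hF _ (hperp vf hvfw)
  obtain ⟨sx, a1, b1, l1, rfl, hux, h11, h21⟩ := lam_point_data hF g _ _ _ _ hve hvf x hx gx
  obtain ⟨sy, a2, b2, l2, rfl, huy, h12, h22⟩ := lam_point_data hF g _ _ _ _ hve hvf y hy gy
  obtain ⟨sz, a3, b3, l3, rfl, huz, h13, h23⟩ := lam_point_data hF g _ _ _ _ hve hvf z hz gz
  have D12 := det_ne_zero_of_ne hF sx sy a1 b1 a2 b2 hux huy hxy
  have D13 := det_ne_zero_of_ne hF sx sz a1 b1 a3 b3 hux huz hxz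
  have D23 := det_ne_zero_of_ne hF sy sz a2 b2 a3 b3 huy huz hyz
  obtain ⟨hs0, hr0, hpt⟩ := scalar_of_three _ _ _ _ a1 b1 a2 b2 a3 b3 l1 l2 l3 h11 h21 h12 h22
    h13 h23 D12 D13 D23
  refine ⟨(av g ve).1, ?_, ?_⟩
  · conv_lhs => rw [hve]
    rw [hr0, zero_smul, add_zero]
  · conv_lhs => rw [hvf]
    rw [hs0, zero_smul, zero_add, hpt]

/-- the isotropic vectors of the line -/
theorem line_cases (u : V F 1) (hu0 : u ≠ 0) (hu : hV (frobHom hF) u u = 0)
    (huw : hV (frobHom hF) u w0 = 0) :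
    (∃ a : F, a ≠ 0 ∧ u = a • (ve : V F 1)) ∨
    (∃ (c : {c : F // c + frobHom hF c = 0}) (b : F), b ≠ 0 ∧ u = b • uc c.1) := by
  obtain ⟨a, w, b⟩ := u
  rw [hV_w0_right] at huw
  have hw : w = 0 := by
    funext i
    have : i = 0 := Subsingleton.elim _ _
    rw [this]
    exact huw
  subst hw
  by_cases hb0 : b = 0
  · subst hb0
    left
    refine ⟨a, ?_, by simp [ve]⟩
    rintro rfl
    exact hu0 rfl
  · right
    have hc : a * b⁻¹ + frobHom hF (a * b⁻¹) = 0 := by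
      have hbb : frobHom hF b ≠ 0 := fun h => hb0 ((map_eq_zero _).1 h)
      simp only [hV, hW] at hu
      rw [map_mul, map_inv₀]
      field_simp
      simp at hu
      linear_combination hu
    refine ⟨⟨_, hc⟩, b, hb0, ?_⟩
    simp [uc]
    field_simp

/-- a fixed element of `SLn` swapping the points `⟨ve⟩`, `⟨vf⟩` -/
noncomputable def g0 : GG hF := Classical.choose (exists_SLn_swap hF)

theorem g0_mem : g0 hF ∈ SLn hF := (Classical.choose_spec (exists_SLn_swap hF)).1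

theorem g0_ve : ∃ k : F, k ≠ 0 ∧ av (g0 hF) ve = k • (vf : V F 1) :=
  (Classical.choose_spec (exists_SLn_swap hF)).2

/-- representatives of the points of the line -/
noncomputable def lamRep : Option {c : F // c + frobHom hF c = 0} → GG hF
  | none => 1
  | some c => Ec hF c.1 c.2 * g0 hF

/-- the points of the line -/
def lamPt : Option {c : F // c + frobHom hF c = 0} → V F 1
  | none => ve
  | some c => uc c.1

theorem lamRep_mem (x : Option {c : F // c + frobHom hF c = 0}) : lamRep hF x ∈ SLn hF := by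
  rcases x with _ | c
  · exact (SLn hF).one_mem
  · exact (SLn hF).mul_mem (Ec_mem_SLn hF _ c.2) (g0_mem hF)

theorem lamRep_ve (x : Option {c : F // c + frobHom hF c = 0}) :
    ∃ k : F, k ≠ 0 ∧ av (lamRep hF x) ve = k • lamPt hF x := by
  rcases x with _ | c
  · exact ⟨1, one_ne_zero, by rw [one_smul]; rfl⟩
  · obtain ⟨k, hk0, hk⟩ := g0_ve hF
    refine ⟨k, hk0, ?_⟩
    show av (Ec hF c.1 c.2 * g0 hF) ve = k • uc c.1
    rw [av_mul, hk, av_smul, av_Ec]
    simp [vf, uc]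

theorem lamPt_inj (x y : Option {c : F // c + frobHom hF c = 0})
    (h : ∃ a : F, lamPt hF y = a • lamPt hF x) : x = y := by
  obtain ⟨a, ha⟩ := h
  rcases x with _ | c <;> rcases y with _ | c'
  · rfl
  · exfalso
    have h3 := congrArg (fun v : V F 1 => v.2.2) ha
    simp [lamPt, ve, uc] at h3
  · exfalso
    have h3 := congrArg (fun v : V F 1 => v.2.2) ha
    have h1 := congrArg (fun v : V F 1 => v.1) ha
    simp [lamPt, ve, uc] at h3 h1
    rw [← h3] at h1
    simp at h1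
  · have h3 := congrArg (fun v : V F 1 => v.2.2) ha
    have h1 := congrArg (fun v : V F 1 => v.1) ha
    simp [lamPt, uc] at h3 h1
    rw [← h3, one_mul] at h1
    exact congrArg some (Subtype.ext h1.symm)

/-- N5a -/
theorem ncard_Lam : (Lam hF).ncard = q + 1 := by
  have hinj : Function.Injective
      (fun x : Option {c : F // c + frobHom hF c = 0} => ((lamRep hF x : GG hF) : GG hF ⧸ PP hF)) := by
    intro x y hxy
    obtain ⟨a, ha⟩ := (mk_eq_mk_iff hF _ _).1 hxy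
    obtain ⟨kx, hkx0, hkx⟩ := lamRep_ve hF x
    obtain ⟨ky, hky0, hky⟩ := lamRep_ve hF y
    apply lamPt_inj hF x y
    refine ⟨ky⁻¹ * (a * kx), ?_⟩
    rw [hkx, hky, smul_smul] at ha
    rw [← smul_smul, ← ha, smul_smul, inv_mul_cancel₀ hky0, one_smul]
  have hrange : Lam hF = Set.range
      (fun x : Option {c : F // c + frobHom hF c = 0} => ((lamRep hF x : GG hF) : GG hF ⧸ PP hF)) := by
    ext x
    constructor
    · intro hx
      have hx' := hx
      obtain ⟨s, hs, rfl⟩ := hx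
      rw [mem_Lam_iff] at hx'
      have hu0 : av s (ve : V F 1) ≠ 0 := fun h0 => ve_ne_zero' (av_eq_zero.1 h0)
      have hu : hV (frobHom hF) (av s ve) (av s ve) = 0 := by rw [hV_av, hV_ve_ve]
      rcases line_cases hF _ hu0 hu hx' with ⟨a, ha0, ha⟩ | ⟨c, b, hb0, hb⟩
      · refine ⟨none, ?_⟩
        show ((lamRep hF none : GG hF) : GG hF ⧸ PP hF) = _
        rw [mk_eq_mk_iff]
        exact ⟨a, by rw [ha]; rfl⟩
      · refine ⟨some c, ?_⟩
        show ((lamRep hF (some c) : GG hF) : GG hF ⧸ PP hF) = _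
        rw [mk_eq_mk_iff]
        obtain ⟨k, hk0, hk⟩ := lamRep_ve hF (some c)
        refine ⟨b * k⁻¹, ?_⟩
        rw [hk, hb, smul_smul, mul_assoc, inv_mul_cancel₀ hk0, mul_one]
        rfl
    · rintro ⟨x, rfl⟩
      exact ⟨lamRep hF x, lamRep_mem hF x, rfl⟩
  rw [hrange, ← Set.image_univ, Set.ncard_image_of_injective _ hinj, Set.ncard_univ,
    Finite.card_option, Cfsg.Agent.Lib.Helper20.U3Leaf.card_tr_ker hF]

end line

end Cfsg.Agent.Lib.Helper23.U3Leaf
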