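import Mathlib
import Cfsg.Agent.Lib.Helper12.U3Defs
import Cfsg.Agent.Lib.Helper22.U3INVKOf
import Cfsg.Agent.Lib.Helper23.U3LAM

/-!
helper23: S2148 market "U3", leaf FIXJ: the involution `j = diag(-1,1,-1)` of `LL` (q odd) fixes exactly the
points of the line `⟨ve, vf⟩`, and its centraliser lies in `GLn`.
-/

set_option autoImplicit false

namespace Cfsg.Agent.Lib.Helper23.U3Leaf

open Cfsg.Agent.Lib.Helper18.PSUMod Cfsg.Agent.Lib.Helper5.HermBridge Cfsg.Agent.Lib.Helper12.U3

section line

variable {F : Type*} [Field F] [Fintype F] {q : ℕ} (hF : Fintype.card F = q ^ 2)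

/-- the action of `j` in coordinates -/
theorem av_j (j : GG hF) (hj : j ∈ LL hF) (hca : ca j = -1) (u : V F 1) :
    av j u = (-u.1, u.2.1, -u.2.2) := by
  obtain ⟨hcb, hB⟩ := Cfsg.Agent.Lib.Helper22.U3Leaf.j_data hF hj hca
  conv_lhs => rw [decomp u]
  rw [av_add, av_add, av_smul, av_smul, av_ve_of_mem_Pe hj.1, av_vf_of_mem_Pf hj.2,
    av_vw_of_mem_Le hj, hB, hca, hcb]
  simp [ve, vf, vw]

/-- N6a: the fixed points of the involution `j = diag(-1,1,-1)` of `LL`. -/
theorem fix_j (hq : Odd q) (j : GG hF) (hj : j ∈ LL hF) (hca : ca j = -1)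
    (x : GG hF ⧸ PP hF) : j • x = x ↔ x ∈ Lam hF := by
  have h2 : (2 : F) ≠ 0 := Cfsg.Agent.Lib.Helper22.U3Leaf.two_ne_zero_of_odd hF hq
  induction x using QuotientGroup.induction_on with
  | H g =>
    rw [smul_mk', mem_Lam_iff, hV_w0_right]
    constructor
    · intro h
      obtain ⟨a, ha⟩ := (mk_eq_mk_iff hF g (j * g)).1 h.symm
      rw [av_mul, av_j hF j hj hca] at ha
      by_contra hw
      have hm := congrArg (fun v : V F 1 => v.2.1 0) ha
      have h1 := congrArg (fun v : V F 1 => v.1) ha
      have h3 := congrArg (fun v : V F 1 => v.2.2) ha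
      simp only [Prod.smul_fst, Prod.smul_snd, Pi.smul_apply, smul_eq_mul] at hm h1 h3
      have ha1 : a = 1 := by
        have : (a - 1) * (av g ve).2.1 0 = 0 := by linear_combination -hm
        rcases mul_eq_zero.1 this with h | h
        · exact sub_eq_zero.1 h
        · exact absurd h hw
      rw [ha1, one_mul] at h1 h3
      have e1 : (av g ve).1 = 0 := by
        have : (2 : F) * (av g ve).1 = 0 := by linear_combination -h1
        exact (mul_eq_zero.1 this).resolve_left h2
      have e3 : (av g ve).2.2 = 0 := by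
        have : (2 : F) * (av g ve).2.2 = 0 := by linear_combination -h3
        exact (mul_eq_zero.1 this).resolve_left h2
      have hiso : hV (frobHom hF) (av g ve) (av g ve) = 0 := by rw [hV_av, hV_ve_ve]
      simp only [hV, hW, e1, e3, zero_mul, zero_add, Finset.univ_unique, Fin.default_eq_zero,
        Finset.sum_singleton] at hiso
      rcases mul_eq_zero.1 hiso with h | h
      · exact hw h
      · exact hw ((map_eq_zero _).1 h)
    · intro hw
      symm
      rw [mk_eq_mk_iff]
      refine ⟨-1, ?_⟩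
      rw [av_mul, av_j hF j hj hca]
      have hw' : (av g ve).2.1 = 0 := by
        funext i
        rw [Fin.eq_zero i]
        exact hw
      ext1
      · simp
      · ext1
        · simp [hw']
        · simp

/-- N6b -/
theorem centralizer_j_le (hq : Odd q) (j : GG hF) (hj : j ∈ LL hF) (hca : ca j = -1) :
    Subgroup.centralizer {j} ≤ GLn hF := by
  have h2 : (2 : F) ≠ 0 := Cfsg.Agent.Lib.Helper22.U3Leaf.two_ne_zero_of_odd hF hq
  intro g hg
  have hcomm : j * g = g * j := Subgroup.mem_centralizer_iff.1 hg j rfl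
  have hjw : av j w0 = w0 := by
    rw [av_j hF j hj hca]
    simp [w0, vw]
  have hfix : av j (av g w0) = av g w0 := by
    rw [← av_mul, hcomm, av_mul, hjw]
  rw [av_j hF j hj hca] at hfix
  have h1 := congrArg (fun v : V F 1 => v.1) hfix
  have h3 := congrArg (fun v : V F 1 => v.2.2) hfix
  simp only at h1 h3
  have e1 : (av g w0).1 = 0 := by
    have : (2 : F) * (av g w0).1 = 0 := by linear_combination -h1
    exact (mul_eq_zero.1 this).resolve_left h2
  have e3 : (av g w0).2.2 = 0 := by
    have : (2 : F) * (av g w0).2.2 = 0 := by linear_combination -h3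
    exact (mul_eq_zero.1 this).resolve_left h2
  show ∃ b : F, av g w0 = b • w0
  clear hfix h1 h3
  generalize av g w0 = v at e1 e3 ⊢
  obtain ⟨a, w, b⟩ := v
  simp only at e1 e3
  subst e1
  subst e3
  refine ⟨w 0, ?_⟩
  ext1
  · simp [w0, vw]
  · ext1
    · funext i
      rw [Fin.eq_zero i]
      simp [w0, vw]
    · simp [w0, vw]

end line

end Cfsg.Agent.Lib.Helper23.U3Leaf
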