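import Mathlib
import Cfsg.Agent.Lib.Helper29.SpPrfDefs
import Cfsg.Agent.Lib.Helper20.AschA89Main
import Cfsg.Agent.Lib.Helper17.SpAschQ0
import Cfsg.Agent.Lib.Helper17.SpAschZ
import Cfsg.Agent.Lib.Helper28.SLMP7core

/-!
S5662 block PRF (planner helper29), leaves B5 `tensorWreathSubgroup_mul_right`, B6 `wreath_mapsTo_dec`, B7 `span_tvec_pvec`
(exact signatures of `notes/S5662_PRF_leaves.lean`).
-/

set_option autoImplicit false
set_option linter.unusedSectionVars false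
set_option linter.unusedVariables false

namespace Cfsg.Agent.Lib.Helper23.SpPrfLeaf
open Matrix Cfsg Cfsg.Geo Cfsg.Agent.Lib.Helper20.Asch Cfsg.Agent.Lib.Helper29.SpAsch
  Cfsg.Agent.Lib.Helper18.AschA89
open scoped Kronecker

variable {F : Type*} [Field F] [Fintype F] {n m : ℕ} {J : Matrix (Fin n) (Fin n) F}
  {H N : Subgroup (GL (Fin n) F)}

/-- membership in the wreath subgroup, unfolded -/
lemma b_mem_tws {s t : ℕ} (e : Fin n ≃ (Fin t → Fin s)) (P g : GL (Fin n) F) :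
    g ∈ tensorWreathSubgroup s t e P ↔
      ∃ g₀ ∈ tensorWreathStandard s t F, g = P * glReindex e.symm g₀ * P⁻¹ := by
  unfold tensorWreathSubgroup
  constructor
  · rintro ⟨x, ⟨g₀, hg₀, rfl⟩, rfl⟩
    exact ⟨g₀, hg₀, rfl⟩
  · rintro ⟨g₀, hg₀, rfl⟩
    exact ⟨_, ⟨g₀, hg₀, rfl⟩, rfl⟩

/-- (B5) [M] multiplying `P` on the right by (the transport of) an element of the standard group does not change the wreath subgroup. -/
theorem tensorWreathSubgroup_mul_right {s t : ℕ} (e : Fin n ≃ (Fin t → Fin s)) (P : GL (Fin n) F)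
    (w : GL (Fin t → Fin s) F) (hw : w ∈ tensorWreathStandard s t F) :
    tensorWreathSubgroup s t e (P * glReindex e.symm w) = tensorWreathSubgroup s t e P := by
  ext g
  rw [b_mem_tws, b_mem_tws]
  constructor
  · rintro ⟨g₀, hg₀, rfl⟩
    refine ⟨w * g₀ * w⁻¹, Subgroup.mul_mem _ (Subgroup.mul_mem _ hw hg₀) (Subgroup.inv_mem _ hw), ?_⟩
    rw [map_mul, map_mul, map_inv, _root_.mul_inv_rev]
    group
  · rintro ⟨g₀, hg₀, rfl⟩
    refine ⟨w⁻¹ * g₀ * w, Subgroup.mul_mem _ (Subgroup.mul_mem _ (Subgroup.inv_mem _ hw) hg₀) hw, ?_⟩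
    rw [map_mul, map_mul, map_inv, _root_.mul_inv_rev]
    group

/-- reindexed matrix times reindexed vector -/
lemma b_reindex_mulVec {s t : ℕ} (e : Fin n ≃ (Fin t → Fin s)) (g₀ : GL (Fin t → Fin s) F)
    (x : (Fin t → Fin s) → F) :
    ((glReindex e.symm g₀ : GL (Fin n) F) : Matrix (Fin n) (Fin n) F) *ᵥ (x ∘ e) =
      ((g₀ : Matrix (Fin t → Fin s) (Fin t → Fin s) F) *ᵥ x) ∘ e := by
  funext i
  show (Matrix.reindex e.symm e.symm (g₀ : Matrix (Fin t → Fin s) (Fin t → Fin s) F) *ᵥ (x ∘ e)) i = _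
  simp only [Matrix.mulVec, dotProduct, Matrix.reindex_apply, Matrix.submatrix_apply, Function.comp_apply,
    Equiv.symm_symm]
  rw [← Equiv.sum_comp e]

/-- (B6) [M] the wreath subgroup permutes the pure tensor vectors. -/
theorem wreath_mapsTo_dec {s t : ℕ} (e : Fin n ≃ (Fin t → Fin s)) (P : GL (Fin n) F) (g : GL (Fin n) F)
    (hg : g ∈ tensorWreathSubgroup s t e P) (v : Fin t → Fin s → F) :
    ∃ v' : Fin t → Fin s → F, (g : Matrix (Fin n) (Fin n) F) *ᵥ tvec e P (pvec v) = tvec e P (pvec v') := by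
  rw [b_mem_tws] at hg
  obtain ⟨g₀, hg₀, rfl⟩ := hg
  have hst := Cfsg.Agent.Lib.Helper28.SLMLeaf.tensorWreathStandard_le_stab (F := F) s t hg₀
  have hmem : pvec v ∈ Cfsg.Agent.Lib.Helper28.SLMLeaf.DecT s t F := ⟨v, rfl⟩
  obtain ⟨v', hv'⟩ := (hst (pvec v)).2 hmem
  refine ⟨v', ?_⟩
  unfold tvec
  rw [Units.val_mul, Units.val_mul, Matrix.mulVec_mulVec]
  have h2 : ((P⁻¹ : GL (Fin n) F) : Matrix (Fin n) (Fin n) F) * (P : Matrix (Fin n) (Fin n) F) = 1 := by
    rw [← Units.val_mul, inv_mul_cancel, Units.val_one]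
  rw [mul_assoc, mul_assoc, h2, mul_one, ← Matrix.mulVec_mulVec, b_reindex_mulVec, hv']
  rfl

/-- the coordinate map as a linear map -/
def bT {s t : ℕ} (e : Fin n ≃ (Fin t → Fin s)) (P : GL (Fin n) F) :
    ((Fin t → Fin s) → F) →ₗ[F] (Fin n → F) where
  toFun x := tvec e P x
  map_add' x y := by
    unfold tvec
    rw [← Matrix.mulVec_add]
    rfl
  map_smul' c x := by
    unfold tvec
    simp only [RingHom.id_apply]
    rw [← Matrix.mulVec_smul]
    rfl

lemma bT_surjective {s t : ℕ} (e : Fin n ≃ (Fin t → Fin s)) (P : GL (Fin n) F) :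
    Function.Surjective (bT e P) := by
  intro u
  refine ⟨(((P⁻¹ : GL (Fin n) F) : Matrix (Fin n) (Fin n) F) *ᵥ u) ∘ e.symm, ?_⟩
  show tvec e P _ = u
  unfold tvec
  have : ((((P⁻¹ : GL (Fin n) F) : Matrix (Fin n) (Fin n) F) *ᵥ u) ∘ e.symm) ∘ e =
      ((P⁻¹ : GL (Fin n) F) : Matrix (Fin n) (Fin n) F) *ᵥ u := by
    funext i
    simp
  rw [this, Matrix.mulVec_mulVec, ← Units.val_mul, mul_inv_cancel, Units.val_one, Matrix.one_mulVec]

lemma b_single_eq_pvec {s t : ℕ} (a : Fin t → Fin s) :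
    (Pi.single a (1 : F) : (Fin t → Fin s) → F) = pvec (fun i => Pi.single (a i) (1 : F)) := by
  funext z
  unfold pvec
  by_cases h : z = a
  · subst h
    simp
  · rw [Pi.single_eq_of_ne h]
    have : ∃ i, z i ≠ a i := by
      by_contra hne
      push Not at hne
      exact h (funext hne)
    obtain ⟨i, hi⟩ := this
    symm
    apply Finset.prod_eq_zero (Finset.mem_univ i)
    show (Pi.single (a i) (1 : F) : Fin s → F) (z i) = 0
    rw [Pi.single_eq_of_ne hi]

/-- (B7) [M] the pure tensor vectors span. -/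
theorem span_tvec_pvec {s t : ℕ} (e : Fin n ≃ (Fin t → Fin s)) (P : GL (Fin n) F) :
    Submodule.span F {u : Fin n → F | ∃ v : Fin t → Fin s → F, u = tvec e P (pvec v)} = ⊤ := by
  have hset : {u : Fin n → F | ∃ v : Fin t → Fin s → F, u = tvec e P (pvec v)} =
      (bT e P) '' (Set.range (pvec (F := F) (s := s) (t := t))) := by
    ext u
    constructor
    · rintro ⟨v, rfl⟩
      exact ⟨pvec v, ⟨v, rfl⟩, rfl⟩
    · rintro ⟨x, ⟨v, rfl⟩, rfl⟩
      exact ⟨v, rfl⟩
  rw [hset, Submodule.span_image]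
  have htop : Submodule.span F (Set.range (pvec (F := F) (s := s) (t := t))) = ⊤ := by
    rw [eq_top_iff, ← (Pi.basisFun F (Fin t → Fin s)).span_eq]
    apply Submodule.span_mono
    rintro x ⟨a, rfl⟩
    refine ⟨fun i => Pi.single (a i) (1 : F), ?_⟩
    rw [Pi.basisFun_apply, b_single_eq_pvec]
  rw [htop, Submodule.map_top, LinearMap.range_eq_top]
  exact bT_surjective e P

end Cfsg.Agent.Lib.Helper23.SpPrfLeaf
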