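import Mathlib
import Cfsg.Agent.Lib.Helper5.ZassNormal

/-!
# Non-trivial normal subgroups of Zassenhaus groups are Zassenhaus groups (helper23)
-/

set_option autoImplicit false
set_option linter.unusedSectionVars false

namespace Cfsg.Agent.Lib.Helper23.ZF

open Cfsg MulAction Cfsg.Agent.Lib.Helper5.Zass

variable {G Ω : Type*} [Group G] [MulAction G Ω]

/-- `A` is a subgroup of `K`, normalized by `K`, acting regularly on `Ω` -/
structure RegIn (K A : Subgroup G) : Prop where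
  le : A ≤ K
  tr : ∀ c d : Ω, ∃ x ∈ A, x • c = d
  sr : ∀ x ∈ A, ∀ c : Ω, x • c = c → x = 1
  norm : ∀ k ∈ K, ∀ x ∈ A, k * x * k⁻¹ ∈ A

/-- the conjugate of `A` by `g` -/
def conjSub (g : G) (A : Subgroup G) : Subgroup G := A.map (MulAut.conj g).toMonoidHom

theorem mem_conjSub {g : G} {A : Subgroup G} {y : G} :
    y ∈ conjSub g A ↔ ∃ x ∈ A, g * x * g⁻¹ = y := by
  unfold conjSub
  rw [Subgroup.mem_map]
  rfl

theorem RegIn.conj {K A : Subgroup G} [hK : K.Normal] (hA : RegIn (Ω := Ω) K A) (g : G) :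
    RegIn (Ω := Ω) K (conjSub g A) := by
  refine ⟨?_, ?_, ?_, ?_⟩
  · intro y hy
    obtain ⟨x, hx, rfl⟩ := mem_conjSub.mp hy
    exact hK.conj_mem x (hA.le hx) g
  · intro c d
    obtain ⟨x, hx, hxc⟩ := hA.tr (g⁻¹ • c) (g⁻¹ • d)
    refine ⟨g * x * g⁻¹, mem_conjSub.mpr ⟨x, hx, rfl⟩, ?_⟩
    rw [mul_smul, mul_smul, hxc, smul_inv_smul]
  · intro y hy c hc
    obtain ⟨x, hx, rfl⟩ := mem_conjSub.mp hy
    have h1 : x • (g⁻¹ • c) = g⁻¹ • c := by
      calc x • (g⁻¹ • c) = g⁻¹ • ((g * x * g⁻¹) • c) := by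
            simp only [mul_smul, inv_smul_smul]
        _ = g⁻¹ • c := by rw [hc]
    have := hA.sr x hx _ h1
    rw [this]
    group
  · intro k hk y hy
    obtain ⟨x, hx, rfl⟩ := mem_conjSub.mp hy
    refine mem_conjSub.mpr ⟨(g⁻¹ * k * g) * x * (g⁻¹ * k * g)⁻¹, ?_, by group⟩
    apply hA.norm _ _ x hx
    have := hK.conj_mem k hk g⁻¹
    simpa using this

/-- a non-trivial `K`-invariant subgroup of a regular normal subgroup of the 2-transitive `K`
is everything -/
theorem RegIn.le_of_ne_bot {K A I : Subgroup G} (hA : RegIn (Ω := Ω) K A)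
    (h2K : ∀ c d d' : Ω, d ≠ c → d' ≠ c → ∃ k ∈ K, k • c = c ∧ k • d = d')
    (hIA : I ≤ A) (hInorm : ∀ k ∈ K, ∀ x ∈ I, k * x * k⁻¹ ∈ I) (hI : I ≠ ⊥) (c : Ω) : A ≤ I := by
  obtain ⟨i, hiI, hi1⟩ : ∃ i ∈ I, i ≠ 1 := by
    by_contra hcon
    push Not at hcon
    exact hI ((Subgroup.eq_bot_iff_forall I).mpr hcon)
  intro r hr
  by_cases hr1 : r = 1
  · rw [hr1]; exact I.one_mem
  have hic : i • c ≠ c := fun h => hi1 (hA.sr i (hIA hiI) c h)
  have hrc : r • c ≠ c := fun h => hr1 (hA.sr r hr c h)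
  obtain ⟨k, hk, hkc, hkd⟩ := h2K c (i • c) (r • c) hic hrc
  have hmem : k * i * k⁻¹ ∈ I := hInorm k hk i hiI
  have hfix : (r⁻¹ * (k * i * k⁻¹)) • c = c := by
    have hkinv : k⁻¹ • c = c := by rw [inv_smul_eq_iff, hkc]
    rw [mul_smul, mul_smul, mul_smul, hkinv, hkd, inv_smul_smul]
  have h1 := hA.sr _ (A.mul_mem (A.inv_mem hr) (hIA hmem)) c hfix
  have : r = k * i * k⁻¹ := by
    have := congrArg (fun z => r * z) h1
    simpa [mul_assoc] using this.symm
  rw [this]
  exact hmem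

/-- two regular `K`-invariant subgroups with trivial intersection cannot exist when only the
identity fixes three points -/
theorem RegIn.false_of_inf_eq_bot {K A B : Subgroup G} (hA : RegIn (Ω := Ω) K A)
    (hB : RegIn (Ω := Ω) K B)
    (h3 : ∀ g : G, ∀ a b c : Ω, a ≠ b → b ≠ c → a ≠ c → g • a = a → g • b = b → g • c = c → g = 1)
    (hthree : ∃ a b c : Ω, a ≠ b ∧ a ≠ c ∧ b ≠ c) (hAB : A ⊓ B = ⊥) : False := by
  -- elements of `A` and `B` commute
  have hcomm : ∀ x ∈ A, ∀ y ∈ B, y * x = x * y := by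
    intro x hx y hy
    have h1 : x * y * x⁻¹ * y⁻¹ ∈ A ⊓ B := by
      refine Subgroup.mem_inf.mpr ⟨?_, ?_⟩
      · have := hA.norm y (hB.le hy) x⁻¹ (A.inv_mem hx)
        have e : x * y * x⁻¹ * y⁻¹ = x * (y * x⁻¹ * y⁻¹) := by group
        rw [e]
        exact A.mul_mem hx this
      · have := hB.norm x (hA.le hx) y hy
        exact B.mul_mem this (B.inv_mem hy)
    rw [hAB, Subgroup.mem_bot] at h1
    have : x * y = y * x := by
      have := congrArg (fun z => z * y * x) h1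
      simpa [mul_assoc] using this
    exact this.symm
  obtain ⟨c, c₁, c₂, h01, h02, h12⟩ := hthree
  -- key: for `r, s ∈ A` commuting with `r ≠ 1`, a non-identity element fixes `c, r•c, s•c`
  have key : ∀ r ∈ A, r ≠ 1 → ∀ s ∈ A, s * r = r * s → s • c ≠ c → s • c ≠ r • c → False := by
    intro r hr hr1 s hs hsr hsc hsrc
    obtain ⟨r', hr', hr'c⟩ := hB.tr c (r⁻¹ • c)
    have hrc : r • c ≠ c := fun h => hr1 (hA.sr r hr c h)
    have hd1 : r * r' ≠ 1 := by
      intro h
      have hr'eq : r' = r⁻¹ := by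
        have := congrArg (fun z => r⁻¹ * z) h
        simpa using this
      have : r⁻¹ ∈ A ⊓ B := Subgroup.mem_inf.mpr ⟨A.inv_mem hr, hr'eq ▸ hr'⟩
      rw [hAB, Subgroup.mem_bot, inv_eq_one] at this
      exact hr1 this
    have hfix : ∀ u ∈ A, u * r = r * u → (r * r') • (u • c) = u • c := by
      intro u hu hur
      rw [← mul_smul, mul_assoc, hcomm u hu r' hr', ← mul_assoc, mul_smul, hr'c, ← mul_smul,
        ← hur, mul_inv_cancel_right]
    have hf1 := hfix 1 A.one_mem (by group)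
    rw [one_smul] at hf1
    have hf2 := hfix r hr rfl
    have hf3 := hfix s hs hsr
    exact hd1 (h3 (r * r') c (r • c) (s • c) (Ne.symm hrc) (Ne.symm hsrc) (Ne.symm hsc) hf1 hf2 hf3)
  by_cases hsq : ∃ u ∈ A, u * u ≠ 1
  · obtain ⟨u, hu, hu2⟩ := hsq
    have hu1 : u ≠ 1 := by
      intro h
      apply hu2
      rw [h, one_mul]
    apply key u hu hu1 (u * u) (A.mul_mem hu hu) (by group)
    · intro h
      exact hu2 (hA.sr _ (A.mul_mem hu hu) c h)
    · intro h
      rw [mul_smul] at h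
      exact hu1 (hA.sr u hu c (MulAction.injective u h))
  · push Not at hsq
    obtain ⟨r, hr, hrc⟩ := hA.tr c c₁
    obtain ⟨s, hs, hsc⟩ := hA.tr c c₂
    have hr1 : r ≠ 1 := by
      intro h
      rw [h, one_smul] at hrc
      exact h01 hrc
    apply key r hr hr1 s hs
    · -- commutativity from exponent two
      have h1 := hsq (s * r) (A.mul_mem hs hr)
      have h2 := hsq s hs
      have h3' := hsq r hr
      have e1 : (s * r)⁻¹ = s * r := inv_eq_of_mul_eq_one_left h1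
      have e2 : s⁻¹ = s := inv_eq_of_mul_eq_one_left h2
      have e3 : r⁻¹ = r := inv_eq_of_mul_eq_one_left h3'
      calc s * r = (s * r)⁻¹ := e1.symm
        _ = r⁻¹ * s⁻¹ := mul_inv_rev s r
        _ = r * s := by rw [e2, e3]
    · rw [hsc]; exact Ne.symm h02
    · rw [hsc, hrc]; exact Ne.symm h12

/-- **non-trivial normal subgroups of Zassenhaus groups are Zassenhaus groups** -/
theorem zass_normal_subgroup [Finite Ω] (hZ : IsZassenhausGroup G Ω) (K : Subgroup G)
    [hKn : K.Normal] (hK : K ≠ ⊥) : IsZassenhausGroup K Ω := by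
  have hfin := zass_finite hZ
  have hthree := zass_three hZ
  -- elementary 2-transitivity of `K`
  have h2K : ∀ c d d' : Ω, d ≠ c → d' ≠ c → ∃ k ∈ K, k • c = c ∧ k • d = d' := by
    intro c d d' hd hd'
    obtain ⟨Kc, hK1, -, hK3, -⟩ := zass_kernel hZ c
    obtain ⟨k, hk, hkd⟩ := hK3 d d' hd hd'
    have hPK := (hK1 k).mp hk
    exact ⟨k, zass_normal_contains_kernel hZ K hK c k hPK, hPK.1, hkd⟩
  have htrK := zass_normal_trans hZ K hK
  refine ⟨?_, ?_, ?_, ?_, ?_⟩
  · -- faithful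
    refine ⟨fun {k₁ k₂} hk => ?_⟩
    apply Subtype.ext
    apply hZ.1.eq_of_smul_eq_smul
    intro c
    exact hk c
  · -- doubly transitive
    rw [MulAction.is_two_pretransitive_iff]
    intro c d c' d' hcd hcd'
    obtain ⟨n, hn, hnc⟩ := htrK c c'
    have hnd : n • d ≠ c' := by
      intro h
      rw [← hnc] at h
      exact hcd (MulAction.injective n h).symm
    obtain ⟨k, hk, hkc, hkd⟩ := h2K c' (n • d) d' hnd (Ne.symm hcd')
    refine ⟨⟨k * n, K.mul_mem hk hn⟩, ?_, ?_⟩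
    · change (k * n) • c = c'
      rw [mul_smul, hnc, hkc]
    · change (k * n) • d = d'
      rw [mul_smul, hkd]
  · -- three points
    intro g a b c hab hbc hac ha hb hc
    apply Subtype.ext
    exact hZ.2.2.1 (g : G) a b c hab hbc hac ha hb hc
  · -- some non-identity element fixes two points
    by_contra hcon
    push Not at hcon
    apply zass_no_frobenius_normal hZ K hK
    intro y hy hy1 c d hc hd
    by_contra hcd
    exact hcon ⟨y, hy⟩ (fun h => hy1 (congrArg Subtype.val h)) c d hcd hc hd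
  · -- no regular normal subgroup
    intro R hRn hRtr
    by_contra hcon
    push Not at hcon
    set A : Subgroup G := R.map K.subtype with hAdef
    have hAmem : ∀ x : G, x ∈ A ↔ ∃ hx : x ∈ K, (⟨x, hx⟩ : K) ∈ R := by
      intro x
      rw [hAdef, Subgroup.mem_map]
      constructor
      · rintro ⟨y, hy, rfl⟩
        exact ⟨y.2, hy⟩
      · rintro ⟨hx, hxR⟩
        exact ⟨⟨x, hx⟩, hxR, rfl⟩
    have hA : RegIn (Ω := Ω) K A := by
      refine ⟨?_, ?_, ?_, ?_⟩
      · intro x hx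
        exact ((hAmem x).mp hx).1
      · intro c d
        obtain ⟨r, hr⟩ := hRtr.exists_smul_eq c d
        exact ⟨((r : K) : G), (hAmem _).mpr ⟨(r : K).2, r.2⟩, hr⟩
      · intro x hx c hc
        obtain ⟨hxK, hxR⟩ := (hAmem x).mp hx
        have : (⟨⟨x, hxK⟩, hxR⟩ : R) ∈ stabilizer R c := mem_stabilizer_iff.mpr hc
        rw [hcon c, Subgroup.mem_bot] at this
        exact congrArg (fun z : R => ((z : K) : G)) this
      · intro k hk x hx
        obtain ⟨hxK, hxR⟩ := (hAmem x).mp hx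
        refine (hAmem _).mpr ⟨K.mul_mem (K.mul_mem hk hxK) (K.inv_mem hk), ?_⟩
        exact hRn.conj_mem ⟨x, hxK⟩ hxR ⟨k, hk⟩
    obtain ⟨c₀, -⟩ : ∃ c₀ : Ω, True := ⟨hthree.choose, trivial⟩
    -- `A` is normal in `G`
    have hAn : A.Normal := by
      refine ⟨fun x hx g => ?_⟩
      have hB := hA.conj g
      by_cases hI : A ⊓ conjSub g A = ⊥
      · exact absurd (RegIn.false_of_inf_eq_bot hA hB hZ.2.2.1 hthree hI) id
      · have hle : conjSub g A ≤ A ⊓ conjSub g A := by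
          apply RegIn.le_of_ne_bot hB h2K inf_le_right _ hI c₀
          intro k hk y hy
          obtain ⟨hy1, hy2⟩ := Subgroup.mem_inf.mp hy
          exact Subgroup.mem_inf.mpr ⟨hA.norm k hk y hy1, hB.norm k hk y hy2⟩
        exact (Subgroup.mem_inf.mp (hle (mem_conjSub.mpr ⟨x, hx, rfl⟩))).1
    have hAtr : IsPretransitive A Ω := by
      refine ⟨fun c d => ?_⟩
      obtain ⟨x, hx, hxc⟩ := hA.tr c d
      exact ⟨⟨x, hx⟩, hxc⟩
    obtain ⟨c, hc⟩ := hZ.2.2.2.2 A hAn hAtr
    apply hc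
    rw [eq_bot_iff]
    intro x hx
    rw [Subgroup.mem_bot]
    apply Subtype.ext
    exact hA.sr (x : G) x.2 c (mem_stabilizer_iff.mp hx)

end Cfsg.Agent.Lib.Helper23.ZF
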