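/-
helper23: coherence of a set of irreducible characters of EQUAL degree with respect to an arbitrary linear
isometry `τ` on the combinations vanishing at `1` (real characters allowed): exceptional characters via
S0198.
-/
import Mathlib
import Cfsg.Prelude.Def_Characters
import Cfsg.Prelude.Def_OddOrderChar
import Cfsg.Agent.S0198
import Cfsg.Agent.Lib.Helper10.Coherence4

set_option autoImplicit false

namespace Cfsg.Agent.Lib.Helper23.Feit

open Cfsg Cfsg.Agent.CharLib Cfsg.Agent.Lib.Helper10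
open scoped ComplexConjugate

variable {L : Type*} [Group L] [Fintype L] {G : Type*} [Group G] [Fintype G]

theorem zspanOn_closed (S : Set (L → ℂ)) :
    (0 : L → ℂ) ∈ zspanOn S ({1}ᶜ : Set L) ∧
    (∀ a ∈ zspanOn S ({1}ᶜ : Set L), ∀ b ∈ zspanOn S ({1}ᶜ : Set L), a + b ∈ zspanOn S ({1}ᶜ : Set L)) ∧
    (∀ a ∈ zspanOn S ({1}ᶜ : Set L), ∀ k : ℤ, k • a ∈ zspanOn S ({1}ᶜ : Set L)) :=
  ⟨zspanOn_zero S _, fun _ ha _ hb => zspanOn_add ha hb, fun _ ha k => zspanOn_zsmul ha k⟩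

theorem sub_mem_zspanOn {S : Set (L → ℂ)} (hdeg : ∀ χ ∈ S, ∀ ξ ∈ S, χ 1 = ξ 1) {χ ξ : L → ℂ}
    (hχ : χ ∈ S) (hξ : ξ ∈ S) : χ - ξ ∈ zspanOn S ({1}ᶜ : Set L) := by
  refine ⟨zspan_sub (subset_zspan hχ) (subset_zspan hξ), ?_⟩
  intro x hx
  have hx1 : x = 1 := by
    by_contra h
    exact hx h
  rw [hx1, Pi.sub_apply, hdeg χ hχ ξ hξ, sub_self]

open Classical in
/-- Coherence from an orthonormal family of generalized characters `F ξ` with
`τ (ξ - χ₁) = F ξ - F χ₁`. -/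
theorem coherent_of_images (S : Set (L → ℂ)) (hirr : ∀ χ ∈ S, IsIrrCharacter L χ)
    (hdeg : ∀ χ ∈ S, ∀ ξ ∈ S, χ 1 = ξ 1) (h2 : ∃ χ ∈ S, ∃ ξ ∈ S, χ ≠ ξ)
    (τ : (L → ℂ) → (G → ℂ)) (hτ : IsLinearIsometryOn (zspanOn S {1}ᶜ) τ)
    (F : (L → ℂ) → (G → ℂ))
    (hFo : ∀ ξ ∈ S, ∀ η ∈ S, classInner (F ξ) (F η) = if ξ = η then 1 else 0)
    (hFg : ∀ ξ ∈ S, IsGeneralizedCharacter G (F ξ))
    (χ₁ : L → ℂ) (hχ₁ : χ₁ ∈ S) (hτF : ∀ ξ ∈ S, τ (ξ - χ₁) = F ξ - F χ₁) :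
    IsCoherent S {1}ᶜ τ := by
  have hfin : S.Finite := (finite_setOf_isIrrCharacter L).subset (fun χ h => hirr χ h)
  set SF : Finset (L → ℂ) := hfin.toFinset with hSF
  have hSFc : (↑SF : Set (L → ℂ)) = S := hfin.coe_toFinset
  have hmem : ∀ φ, φ ∈ SF ↔ φ ∈ S := fun φ => hfin.mem_toFinset
  have hortho : OrthoOn SF := orthoOn_of_irr (fun ξ h => hirr ξ ((hmem ξ).mp h))
  have hiso := coefMap_isLinearIsometryOn hortho F
    (fun ξ hξ η hη => hFo ξ ((hmem ξ).mp hξ) η ((hmem η).mp hη))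
    (fun ξ hξ => hFg ξ ((hmem ξ).mp hξ))
  rw [hSFc] at hiso
  obtain ⟨χa, hχa, χb, hχb, hne⟩ := h2
  refine ⟨⟨χa - χb, sub_mem_zspanOn hdeg hχa hχb, fun h => hne (sub_eq_zero.mp h)⟩,
    coefMap SF F, hiso, ?_⟩
  intro α hα
  have hα1 : α 1 = 0 := hα.2 1 (by simp)
  have hαz : α ∈ zspan (↑SF : Set (L → ℂ)) := by
    rw [hSFc]
    exact hα.1
  obtain ⟨c, hc1, hc2⟩ := zspan_expand hortho hαz
  have hd0 : χ₁ 1 ≠ 0 := Cfsg.Agent.Lib.Helper10.irr_one_ne_zero (hirr χ₁ hχ₁)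
  have hsum : ∑ ξ ∈ SF, c ξ = 0 := by
    have h1 : α 1 = ∑ ξ ∈ SF, (c ξ : ℂ) * χ₁ 1 := by
      conv_lhs => rw [hc2]
      rw [Finset.sum_apply]
      apply Finset.sum_congr rfl
      intro ξ hξ
      rw [Pi.smul_apply, hdeg ξ ((hmem ξ).mp hξ) χ₁ hχ₁, zsmul_eq_mul]
    rw [hα1, ← Finset.sum_mul] at h1
    rcases mul_eq_zero.mp h1.symm with h | h
    · exact_mod_cast h
    · exact absurd h hd0
  have h1 : α = ∑ ξ ∈ SF, c ξ • (ξ - χ₁) := by
    conv_lhs => rw [hc2]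
    have h2 : ∑ ξ ∈ SF, c ξ • (ξ - χ₁) = ∑ ξ ∈ SF, c ξ • ξ - (∑ ξ ∈ SF, c ξ) • χ₁ := by
      rw [Finset.sum_smul, ← Finset.sum_sub_distrib]
      apply Finset.sum_congr rfl
      intro ξ _
      rw [smul_sub]
    rw [h2, hsum, zero_smul, sub_zero]
  obtain ⟨h0, hadd, hsmul⟩ := zspanOn_closed S
  have h3 := (isometry_map_sum_zsmul_gen hτ h0 hadd hsmul SF c (fun ξ => ξ - χ₁)
    (fun ξ hξ => sub_mem_zspanOn hdeg ((hmem ξ).mp hξ) hχ₁)).2
  show coefMap SF F α = τ α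
  conv_rhs => rw [h1]
  rw [h3]
  unfold coefMap
  have hR : ∑ ξ ∈ SF, classInner α ξ • F ξ =
      ∑ ξ ∈ SF, c ξ • F ξ - (∑ ξ ∈ SF, c ξ) • F χ₁ := by
    rw [hsum, zero_smul, sub_zero]
    apply Finset.sum_congr rfl
    intro ξ hξ
    rw [hc1 ξ hξ, Int.cast_smul_eq_zsmul]
  rw [hR, Finset.sum_smul, ← Finset.sum_sub_distrib]
  apply Finset.sum_congr rfl
  intro ξ hξ
  rw [hτF ξ ((hmem ξ).mp hξ), smul_sub]

open Classical in
/-- A set of at least two irreducible characters of equal degree is coherent for every linear isometry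
`τ` (on the combinations vanishing at `1`) whose values vanish at `1`. -/
theorem coherent_of_equal_degree_gen (S : Set (L → ℂ)) (hirr : ∀ χ ∈ S, IsIrrCharacter L χ)
    (hdeg : ∀ χ ∈ S, ∀ ξ ∈ S, χ 1 = ξ 1) (h2 : ∃ χ ∈ S, ∃ ξ ∈ S, χ ≠ ξ)
    (τ : (L → ℂ) → (G → ℂ)) (hτ : IsLinearIsometryOn (zspanOn S {1}ᶜ) τ)
    (hτ1 : ∀ α ∈ zspanOn S ({1}ᶜ : Set L), τ α 1 = 0) :
    IsCoherent S {1}ᶜ τ := by
  have hfin : S.Finite := (finite_setOf_isIrrCharacter L).subset (fun χ h => hirr χ h)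
  set SF : Finset (L → ℂ) := hfin.toFinset with hSF
  have hmem : ∀ φ, φ ∈ SF ↔ φ ∈ S := fun φ => hfin.mem_toFinset
  have h2' := h2
  obtain ⟨χ₁, hχ₁, -⟩ := h2
  set n := SF.card with hn
  let e : ↥SF ≃ Fin n := SF.equivFin
  set i₀ : Fin n := e ⟨χ₁, (hmem χ₁).mpr hχ₁⟩ with hi₀
  have hxS : ∀ i : Fin n, ((e.symm i : ↥SF) : L → ℂ) ∈ S := fun i => (hmem _).mp (e.symm i).2
  have hx₀ : ((e.symm i₀ : ↥SF) : L → ℂ) = χ₁ := by
    rw [hi₀, Equiv.symm_apply_apply]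
  obtain ⟨h0, hadd, hsmul⟩ := zspanOn_closed S
  obtain ⟨ε, hε, μ, hμirr, hμinj, hμ⟩ := Cfsg.Agent.S0198.result n i₀
    (fun i => τ (((e.symm i : ↥SF) : L → ℂ) - χ₁))
    (by
      show τ (((e.symm i₀ : ↥SF) : L → ℂ) - χ₁) = 0
      rw [hx₀, sub_self]
      exact isometry_map_zero hτ h0)
    (fun i => hτ.2.2.2 _ (sub_mem_zspanOn hdeg (hxS i) hχ₁))
    (fun i => hτ1 _ (sub_mem_zspanOn hdeg (hxS i) hχ₁))
    (by
      intro i j hi hj
      show classInner (τ (((e.symm i : ↥SF) : L → ℂ) - χ₁)) (τ (((e.symm j : ↥SF) : L → ℂ) - χ₁)) = _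
      rw [hτ.2.2.1 _ (sub_mem_zspanOn hdeg (hxS i) hχ₁) _ (sub_mem_zspanOn hdeg (hxS j) hχ₁)]
      have hi' : ((e.symm i : ↥SF) : L → ℂ) ≠ χ₁ := by
        intro h
        apply hi
        rw [hi₀]
        apply e.symm.injective
        rw [Equiv.symm_apply_apply]
        exact Subtype.ext h
      have hj' : ((e.symm j : ↥SF) : L → ℂ) ≠ χ₁ := by
        intro h
        apply hj
        rw [hi₀]
        apply e.symm.injective
        rw [Equiv.symm_apply_apply]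
        exact Subtype.ext h
      have hA := Cfsg.Agent.Lib.Helper10.classInner_irr (hirr _ (hxS i)) (hirr _ (hxS j))
      have hB : classInner ((e.symm i : ↥SF) : L → ℂ) χ₁ = 0 := by
        rw [Cfsg.Agent.Lib.Helper10.classInner_irr (hirr _ (hxS i)) (hirr _ hχ₁), if_neg hi']
      have hC : classInner χ₁ ((e.symm j : ↥SF) : L → ℂ) = 0 := by
        rw [Cfsg.Agent.Lib.Helper10.classInner_irr (hirr _ hχ₁) (hirr _ (hxS j)),
          if_neg (fun h => hj' h.symm)]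
      have hD : classInner χ₁ χ₁ = 1 := Cfsg.Agent.Lib.Helper10.classInner_irr_self (hirr _ hχ₁)
      rw [Cfsg.Agent.Lib.Helper10.classInner_sub_left, Cfsg.Agent.Lib.Helper10.classInner_sub_right,
        Cfsg.Agent.Lib.Helper10.classInner_sub_right, hA, hB, hC, hD]
      by_cases hij : i = j
      · subst hij
        rw [if_pos rfl, if_pos rfl]
        norm_num
      · rw [if_neg hij, if_neg]
        · norm_num
        · intro h
          apply hij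
          apply e.symm.injective
          exact Subtype.ext h)
  have hεε : ε * conj ε = 1 := by
    rcases hε with h | h <;> rw [h] <;> simp
  -- images
  let F : (L → ℂ) → (G → ℂ) := fun ξ =>
    if h : ξ ∈ SF then ε • μ (e ⟨ξ, h⟩) else 0
  have hF : ∀ ξ (h : ξ ∈ SF), F ξ = ε • μ (e ⟨ξ, h⟩) := by
    intro ξ h
    simp only [F, dif_pos h]
  apply coherent_of_images S hirr hdeg h2' τ hτ F ?_ ?_ χ₁ hχ₁ ?_
  · intro ξ hξ η hη
    rw [hF ξ ((hmem ξ).mpr hξ), hF η ((hmem η).mpr hη),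
      Cfsg.Agent.Lib.Helper10.classInner_smul_left, Cfsg.Agent.Lib.Helper10.classInner_smul_right,
      Cfsg.Agent.Lib.Helper10.classInner_irr (hμirr _) (hμirr _), ← mul_assoc, hεε, one_mul]
    by_cases hξη : ξ = η
    · subst hξη
      rw [if_pos rfl, if_pos rfl]
    · rw [if_neg hξη, if_neg]
      intro h
      apply hξη
      have h1 := e.injective (hμinj h)
      exact congrArg Subtype.val h1
  · intro ξ hξ
    rw [hF ξ ((hmem ξ).mpr hξ)]
    have h1 : IsGeneralizedCharacter G (μ (e ⟨ξ, (hmem ξ).mpr hξ⟩)) :=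
      isGeneralizedCharacter_of_isCharacter (IsIrrCharacter.isCharacter (hμirr _))
    rcases hε with h | h
    · rw [h, one_smul]
      exact h1
    · rw [h, neg_one_smul]
      exact genChar_neg h1
  · intro ξ hξ
    rw [hF ξ ((hmem ξ).mpr hξ), hF χ₁ ((hmem χ₁).mpr hχ₁), ← smul_sub]
    have h1 := hμ (e ⟨ξ, (hmem ξ).mpr hξ⟩)
    simp only [Equiv.symm_apply_apply] at h1
    rw [h1]
end Cfsg.Agent.Lib.Helper23.Feit
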