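/-
helper23: Peterfalvi (6.2)/(6.3)-type descent for sets of IRREDUCIBLE induced characters and an arbitrary
linear isometry `τ` (real characters allowed, no coherence system): one character at a time via
`Feit.extend_one`.
-/
import Mathlib
import Cfsg.Prelude.Def_Characters
import Cfsg.Prelude.Def_OddOrderChar
import Cfsg.Agent.Lib.Helper23.FeitA
import Cfsg.Agent.Lib.Helper23.FeitB
import Cfsg.Agent.Lib.Helper10.PF63

set_option autoImplicit false

namespace Cfsg.Agent.Lib.Helper23.Feit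

open Cfsg Cfsg.Agent.CharLib Cfsg.Agent.Lib.Helper10 Cfsg.Agent.Lib.Helper24
open scoped ComplexConjugate

universe u v

attribute [local instance] fintypeIrr

section basics

variable {L : Type u} [Group L] [Fintype L] {G : Type v} [Group G] [Fintype G]

theorem isometry_mono {E E' : Set (L → ℂ)} {τ : (L → ℂ) → (G → ℂ)} (h : E' ⊆ E)
    (hτ : IsLinearIsometryOn E τ) : IsLinearIsometryOn E' τ :=
  ⟨fun α hα β hβ => hτ.1 α (h hα) β (h hβ), fun α hα n => hτ.2.1 α (h hα) n,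
    fun α hα β hβ => hτ.2.2.1 α (h hα) β (h hβ), fun α hα => hτ.2.2.2 α (h hα)⟩

theorem inducedIrrAbove_anti (K : Subgroup L) {A B : Subgroup L} (hBA : B ≤ A) :
    inducedIrrAbove K A ⊆ inducedIrrAbove K B := by
  rintro φ ⟨θ, hθ, h1, h2, rfl⟩
  exact ⟨θ, hθ, h1, fun a ha => h2 a (hBA ha), rfl⟩

end basics

section main

variable {L : Type u} [Group L] [Fintype L] {G : Type v} [Group G] [Fintype G]

open Classical in
/-- Core of (6.2), irreducible version: `S(A)` coherent and a degree bound for the members of `S(B)`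
outside `S(A)` give the coherence of `S(B)` (`B ≤ A`). -/
theorem pf62R_core (K : Subgroup L) (hsolv : Group.IsSolvable K) (τ : (L → ℂ) → (G → ℂ))
    (hirr : ∀ φ ∈ inducedIrrAbove K ⊥, IsIrrCharacter L φ)
    (hτ : IsLinearIsometryOn (zspanOn (inducedIrrAbove K ⊥) {1}ᶜ) τ)
    (hτ1 : ∀ α ∈ zspanOn (inducedIrrAbove K ⊥) ({1}ᶜ : Set L), τ α 1 = 0)
    (A B : Subgroup L) [(A.subgroupOf K).Normal] [(B.subgroupOf K).Normal]
    (hBA : B ≤ A) (hAK : A < K)
    (hdeg : ∀ ψ ∈ seqT K B, indFun K ψ.1 ∉ seqS K A →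
      2 * K.index * Cfsg.charDegree ψ.1 < A.relIndex K - 1)
    (hA : IsCoherent (inducedIrrAbove K A) {1}ᶜ τ) :
    IsCoherent (inducedIrrAbove K B) {1}ᶜ τ := by
  set S := inducedIrrAbove K ⊥ with hSdef
  set U := seqS K B with hU
  have hUS : ∀ φ ∈ U, φ ∈ S := by
    intro φ hφ
    rw [hU, mem_seqS] at hφ
    exact inducedIrrAbove_subset_bot K B hφ
  have hAU : seqS K A ⊆ U := by
    intro φ hφ
    rw [mem_seqS] at hφ
    rw [hU, mem_seqS]
    exact inducedIrrAbove_anti K hBA hφ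
  let P : Finset (L → ℂ) → Prop := fun S₁ => seqS K A ⊆ S₁ ∧ S₁ ⊆ U ∧
    IsCoherent (↑S₁ : Set (L → ℂ)) {1}ᶜ τ
  have hPA : P (seqS K A) := by
    refine ⟨subset_rfl, hAU, ?_⟩
    rw [coe_seqS]; exact hA
  have hne : (U.powerset.filter P).Nonempty :=
    ⟨seqS K A, Finset.mem_filter.mpr ⟨Finset.mem_powerset.mpr hAU, hPA⟩⟩
  obtain ⟨S₁, hS₁mem, hS₁max⟩ := Finset.exists_max_image (U.powerset.filter P) Finset.card hne
  rw [Finset.mem_filter] at hS₁mem
  obtain ⟨-, hAS₁, hS₁U, hS₁coh⟩ := hS₁mem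
  by_cases hall : U ⊆ S₁
  · have hEq : S₁ = U := Finset.Subset.antisymm hS₁U hall
    rw [hEq, hU, coe_seqS] at hS₁coh
    exact hS₁coh
  · exfalso
    rw [Finset.not_subset] at hall
    obtain ⟨χ, hχU, hχS₁⟩ := hall
    have hχS : χ ∈ S := hUS χ hχU
    -- the linear character
    obtain ⟨ψ₁, hψ₁, hψ₁1⟩ := exists_linear_seqT K A hsolv hAK
    set χ₁ := indFun K ψ₁.1 with hχ₁def
    have hχ₁A : χ₁ ∈ seqS K A := Finset.mem_image_of_mem _ hψ₁
    have hχ₁S₁ : χ₁ ∈ S₁ := hAS₁ hχ₁A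
    have hχ₁S : χ₁ ∈ S := hUS χ₁ (hS₁U hχ₁S₁)
    -- degrees
    have hd : ∀ φ ∈ S, φ 1 = (Cfsg.charDegree φ : ℂ) := fun φ hφ =>
      irr_apply_one ⟨φ, hirr φ hφ⟩
    have hdχ₁ : Cfsg.charDegree χ₁ = K.index := by
      have h1 := hd χ₁ hχ₁S
      rw [hχ₁def, indFun_apply_one_index, hψ₁1, mul_one] at h1
      exact_mod_cast h1.symm
    obtain ⟨ψ, hψ, hψχ⟩ := Finset.mem_image.mp hχU
    have hdχ : Cfsg.charDegree χ = K.index * Cfsg.charDegree ψ.1 := by
      have h1 := hd χ hχS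
      rw [← hψχ, indFun_apply_one_index, irr_apply_one] at h1
      have h2 : ((Cfsg.charDegree (indFun K ψ.1) : ℕ) : ℂ) =
          ((K.index * Cfsg.charDegree ψ.1 : ℕ) : ℂ) := by
        push_cast; exact h1.symm
      rw [← hψχ]
      exact_mod_cast h2
    have hdvd : Cfsg.charDegree χ₁ ∣ Cfsg.charDegree χ := by
      rw [hdχ₁, hdχ]; exact Dvd.intro _ rfl
    -- the inequality
    have harith := hdeg ψ hψ (by rw [hψχ]; exact fun h => hχS₁ (hAS₁ h))
    have hrpos : 1 ≤ A.relIndex K := by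
      apply Nat.pos_of_ne_zero
      unfold Subgroup.relIndex
      exact Subgroup.index_ne_zero_of_finite
    have hepos : (0 : ℝ) < K.index := by
      have : K.index ≠ 0 := Subgroup.index_ne_zero_of_finite
      exact_mod_cast Nat.pos_of_ne_zero this
    have hlow := seqS_sum_lower_bound K A (fun φ => Cfsg.charDegree φ) (fun _ => 1)
      (fun φ hφ => hd φ (inducedIrrAbove_subset_bot K A hφ))
      (fun φ hφ => by
        rw [Cfsg.Agent.Lib.Helper10.classInner_irr_self (hirr φ (inducedIrrAbove_subset_bot K A hφ))]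
        simp)
    have hmono : ∑ φ ∈ seqS K A, (Cfsg.charDegree φ : ℝ) ^ 2 / ((1 : ℕ) : ℝ) ≤
        ∑ φ ∈ S₁, (Cfsg.charDegree φ : ℝ) ^ 2 / ((1 : ℕ) : ℝ) :=
      Finset.sum_le_sum_of_subset_of_nonneg hAS₁
        (fun _ _ _ => div_nonneg (sq_nonneg _) (Nat.cast_nonneg _))
    have hineqR : (2 * Cfsg.charDegree χ₁ * Cfsg.charDegree χ : ℝ) <
        ∑ φ ∈ S₁, (Cfsg.charDegree φ : ℝ) ^ 2 := by
      have h0 : ∑ φ ∈ S₁, (Cfsg.charDegree φ : ℝ) ^ 2 / ((1 : ℕ) : ℝ) =
          ∑ φ ∈ S₁, (Cfsg.charDegree φ : ℝ) ^ 2 := by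
        apply Finset.sum_congr rfl
        intro φ _
        simp
      rw [← h0]
      refine lt_of_lt_of_le ?_ (le_trans hlow hmono)
      rw [hdχ₁, hdχ]
      have h1 : ((2 * K.index * Cfsg.charDegree ψ.1 : ℕ) : ℝ) < ((A.relIndex K - 1 : ℕ) : ℝ) := by
        exact_mod_cast harith
      rw [Nat.cast_sub hrpos] at h1
      push_cast at h1 ⊢
      nlinarith [h1, hepos]
    have hineq : 2 * Cfsg.charDegree χ₁ * Cfsg.charDegree χ <
        ∑ φ ∈ S₁, Cfsg.charDegree φ ^ 2 := by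
      have : ((2 * Cfsg.charDegree χ₁ * Cfsg.charDegree χ : ℕ) : ℝ) <
          ((∑ φ ∈ S₁, Cfsg.charDegree φ ^ 2 : ℕ) : ℝ) := by
        push_cast
        exact hineqR
      exact_mod_cast this
    -- apply the extension lemma
    have hsubS : (↑(insert χ S₁) : Set (L → ℂ)) ⊆ S := by
      intro φ hφ
      rw [Finset.mem_coe, Finset.mem_insert] at hφ
      rcases hφ with rfl | h
      · exact hχS
      · exact hUS φ (hS₁U h)
    have hcoh' := extend_one S₁ χ (fun ξ hξ => hirr ξ (hUS ξ (hS₁U hξ))) (hirr χ hχS) hχS₁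
      (fun φ => Cfsg.charDegree φ) (fun ξ hξ => hd ξ (hsubS (Finset.mem_coe.mpr hξ))) τ
      (isometry_mono (zspanOn_mono hsubS _) hτ)
      (fun α hα => hτ1 α (zspanOn_mono hsubS _ hα)) hS₁coh χ₁ hχ₁S₁ hdvd hineq
    set S₂ : Finset (L → ℂ) := insert χ S₁ with hS₂
    have hPS₂ : P S₂ := by
      refine ⟨?_, ?_, hcoh'⟩
      · intro φ hφ
        exact Finset.mem_insert_of_mem (hAS₁ hφ)
      · intro φ hφ
        rw [hS₂, Finset.mem_insert] at hφ
        rcases hφ with rfl | h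
        · exact hχU
        · exact hS₁U h
    have hS₂mem : S₂ ∈ U.powerset.filter P :=
      Finset.mem_filter.mpr ⟨Finset.mem_powerset.mpr hPS₂.2.1, hPS₂⟩
    have hcard := hS₁max S₂ hS₂mem
    have hlt' : S₁.card < S₂.card := by
      rw [hS₂, Finset.card_insert_of_notMem hχS₁]
      omega
    omega

open Classical in
/-- (6.2), irreducible version. -/
theorem pf62R (K : Subgroup L) (hsolv : Group.IsSolvable K) (τ : (L → ℂ) → (G → ℂ))
    (hirr : ∀ φ ∈ inducedIrrAbove K ⊥, IsIrrCharacter L φ)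
    (hτ : IsLinearIsometryOn (zspanOn (inducedIrrAbove K ⊥) {1}ᶜ) τ)
    (hτ1 : ∀ α ∈ zspanOn (inducedIrrAbove K ⊥) ({1}ᶜ : Set L), τ α 1 = 0)
    (A B C D : Subgroup L) [(A.subgroupOf K).Normal] [(B.subgroupOf K).Normal]
    (hBA : B ≤ A) (hAK : A < K) (hDC : D ≤ C) (hCK : C ≤ K)
    (hcent : ∀ x ∈ D, ∀ y ∈ C, x * y * x⁻¹ * y⁻¹ ∈ B)
    (hA : IsCoherent (inducedIrrAbove K A) {1}ᶜ τ)
    (hlt : 4 * C.index ^ 2 * D.relIndex C < (A.relIndex K - 1) ^ 2) :
    IsCoherent (inducedIrrAbove K B) {1}ᶜ τ := by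
  apply pf62R_core K hsolv τ hirr hτ hτ1 A B hBA hAK _ hA
  intro ψ hψ _
  have hbound := seqT_degree_bound K B C D hDC hCK hcent ψ hψ
  have hDpos : 0 < Nat.card D := Nat.card_pos
  have hjpos : 0 < D.relIndex C := by
    apply Nat.pos_of_ne_zero
    unfold Subgroup.relIndex
    exact Subgroup.index_ne_zero_of_finite
  have hcK : Nat.card C * C.relIndex K = Nat.card K := by
    have := Subgroup.relIndex_mul_relIndex (⊥ : Subgroup L) C K bot_le hCK
    rwa [Subgroup.relIndex_bot_left, Subgroup.relIndex_bot_left] at this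
  have hdC : Nat.card D * D.relIndex C = Nat.card C := by
    have := Subgroup.relIndex_mul_relIndex (⊥ : Subgroup L) D C bot_le hDC
    rwa [Subgroup.relIndex_bot_left, Subgroup.relIndex_bot_left] at this
  rw [← hcK] at hbound
  exact pf62_arith (e := K.index) hDpos hjpos (Subgroup.relIndex_mul_index hCK) hbound hdC hlt

/-- Descent framework: from `S(H₁)` coherent to `S(⊥)` coherent, given at each normal `A ≠ ⊥` below
`H₁` a normal `B < A` and a subgroup `D ≤ K` central modulo `B` with the inequality of (6.2). -/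
theorem descent (K : Subgroup L) (hsolv : Group.IsSolvable K) (τ : (L → ℂ) → (G → ℂ))
    (hirr : ∀ φ ∈ inducedIrrAbove K ⊥, IsIrrCharacter L φ)
    (hτ : IsLinearIsometryOn (zspanOn (inducedIrrAbove K ⊥) {1}ᶜ) τ)
    (hτ1 : ∀ α ∈ zspanOn (inducedIrrAbove K ⊥) ({1}ᶜ : Set L), τ α 1 = 0)
    (H₁ : Subgroup L) (hH₁n : H₁.Normal) (hH₁K : H₁ < K)
    (hcoh : IsCoherent (inducedIrrAbove K H₁) {1}ᶜ τ)
    (hstep : ∀ A : Subgroup L, A.Normal → A ≠ ⊥ → A ≤ H₁ →
      ∃ B D : Subgroup L, B.Normal ∧ B < A ∧ D ≤ K ∧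
        (∀ x ∈ D, ∀ y ∈ K, x * y * x⁻¹ * y⁻¹ ∈ B) ∧
        4 * K.index ^ 2 * D.relIndex K < (A.relIndex K - 1) ^ 2) :
    IsCoherent (inducedIrrAbove K ⊥) {1}ᶜ τ := by
  have main : ∀ n : ℕ, ∀ A : Subgroup L, Nat.card A = n → A.Normal → A ≤ H₁ →
      IsCoherent (inducedIrrAbove K A) {1}ᶜ τ → IsCoherent (inducedIrrAbove K ⊥) {1}ᶜ τ := by
    intro n
    induction n using Nat.strong_induction_on with
    | _ n ih =>
      intro A hcard hAn hAH₁ hAcoh
      by_cases hEq : A = ⊥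
      · rw [← hEq]; exact hAcoh
      · obtain ⟨B, D, hBn, hBA, hDK, hcent, hlt⟩ := hstep A hAn hEq hAH₁
        have := hAn
        have := hBn
        have hAltK : A < K := lt_of_le_of_lt hAH₁ hH₁K
        have hBcoh := pf62R K hsolv τ hirr hτ hτ1 A B K D hBA.le hAltK hDK le_rfl hcent hAcoh hlt
        have hcardlt : Nat.card B < n := by
          rw [← hcard]
          by_contra hnot
          push Not at hnot
          have := Subgroup.eq_of_le_of_card_ge hBA.le hnot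
          exact hBA.ne this
        exact ih (Nat.card B) hcardlt B rfl hBn (hBA.le.trans hAH₁) hBcoh
  exact main (Nat.card H₁) H₁ rfl hH₁n le_rfl hcoh

end main

end Cfsg.Agent.Lib.Helper23.Feit
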