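/-
helper23: abstract Frobenius groups `N = H ⋊ W` (kernel `H` normal, complement `W` acting without fixed
points): congruences `|W| ∣ |D| - 1`, `|N:H| ∣ |D:A| - 1` for normal subgroups `A ≤ D ≤ H` of `N`, and the
irreducible characters of `N` not constant on `H` are exactly the characters induced from the
non-principal irreducible characters of `H`.
-/
import Mathlib
import Cfsg.Prelude.Def_Characters
import Cfsg.Prelude.Def_OddOrderChar
import Cfsg.Agent.S0171
import Cfsg.Agent.Lib.Helper6.Clifford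
import Cfsg.Agent.Lib.Helper10.FrobQuot
import Cfsg.Agent.Lib.Helper10.IndFun
import Cfsg.Agent.Lib.Helper10.IrrOrtho
import Cfsg.Agent.Lib.Lead.CharMain
import Cfsg.Agent.Lib.Lead.FrobThm1

set_option autoImplicit false

namespace Cfsg.Agent.Lib.Helper23.Feit

open Cfsg Cfsg.Agent.CharLib Cfsg.Agent.Lib.Helper6
open scoped ComplexConjugate

universe u

section counting

variable {N : Type u} [Group N] [Finite N] (H W : Subgroup N) [hHn : H.Normal]

theorem card_compl_eq_index (hinf : H ⊓ W = ⊥) (hsup : H ⊔ W = ⊤) : Nat.card W = H.index := by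
  have hcompl : Subgroup.IsComplement' H W := by
    apply Subgroup.isComplement'_of_disjoint_and_mul_eq_univ (disjoint_iff.mpr hinf)
    rw [← Subgroup.normal_mul, hsup]
    rfl
  exact hcompl.symm.index_eq_card.symm

/-- conjugation action of `W` on a normal subgroup `D` -/
@[reducible] def conjActOn (D : Subgroup N) [hD : D.Normal] : MulAction ↥W ↥D where
  smul w d := ⟨(w : N) * d * (w : N)⁻¹, hD.conj_mem d d.2 w⟩
  one_smul d := Subtype.ext (by
    show ((1 : ↥W) : N) * d * ((1 : ↥W) : N)⁻¹ = d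
    simp)
  mul_smul w w' d := Subtype.ext (by
    show ((w * w' : ↥W) : N) * d * ((w * w' : ↥W) : N)⁻¹ =
      (w : N) * ((w' : N) * d * (w' : N)⁻¹) * (w : N)⁻¹
    simp only [Subgroup.coe_mul, mul_inv_rev]
    group)

open Classical in
theorem card_compl_dvd_card_sub_one
    (hfpf : ∀ w ∈ W, w ≠ 1 → ∀ k ∈ H, w * k = k * w → k = 1)
    (D : Subgroup N) [hD : D.Normal] (hDH : D ≤ H) : Nat.card W ∣ Nat.card D - 1 := by
  let _ : Fintype ↥W := Fintype.ofFinite _
  let _ : Fintype ↥D := Fintype.ofFinite _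
  let _ := conjActOn W D
  have h := Cfsg.Agent.Lib.Helper10.index_dvd_card_sub_one_of_free (L := ↥W) (X := ↥D)
    (⊥ : Subgroup ↥W) (1 : ↥D)
    (by
      intro k hk q
      rw [Subgroup.mem_bot] at hk
      rw [hk]
      exact one_smul _ q)
    (by
      intro w hw d hd
      have hw1 : (w : N) ≠ 1 := by
        intro h0
        apply hw
        rw [Subgroup.mem_bot]
        exact Subtype.ext h0
      have h1 : (w : N) * d * (w : N)⁻¹ = d := congrArg Subtype.val hd
      have h2 : (w : N) * d = d * w := by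
        calc (w : N) * d = ((w : N) * d * (w : N)⁻¹) * w := by group
          _ = d * w := by rw [h1]
      have h3 := hfpf w w.2 hw1 d (hDH d.2) h2
      exact Subtype.ext h3)
    (by
      intro w
      apply Subtype.ext
      show (w : N) * ((1 : ↥D) : N) * (w : N)⁻¹ = ((1 : ↥D) : N)
      simp)
  rw [Subgroup.index_bot, ← Nat.card_eq_fintype_card] at h
  exact h

theorem index_dvd_card_sub_one (hinf : H ⊓ W = ⊥) (hsup : H ⊔ W = ⊤)
    (hfpf : ∀ w ∈ W, w ≠ 1 → ∀ k ∈ H, w * k = k * w → k = 1)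
    (D : Subgroup N) [hD : D.Normal] (hDH : D ≤ H) : H.index ∣ Nat.card D - 1 := by
  rw [← card_compl_eq_index H W hinf hsup]
  exact card_compl_dvd_card_sub_one H W hfpf D hDH

theorem index_dvd_relIndex_sub_one (hinf : H ⊓ W = ⊥) (hsup : H ⊔ W = ⊤)
    (hfpf : ∀ w ∈ W, w ≠ 1 → ∀ k ∈ H, w * k = k * w → k = 1)
    (A D : Subgroup N) [hA : A.Normal] [hD : D.Normal] (hAD : A ≤ D) (hDH : D ≤ H) :
    H.index ∣ A.relIndex D - 1 := by
  have h1 := index_dvd_card_sub_one H W hinf hsup hfpf D hDH
  have h2 := index_dvd_card_sub_one H W hinf hsup hfpf A (hAD.trans hDH)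
  have h3 : Nat.card A * A.relIndex D = Nat.card D := by
    have := Subgroup.relIndex_mul_relIndex (⊥ : Subgroup N) A D bot_le hAD
    rwa [Subgroup.relIndex_bot_left, Subgroup.relIndex_bot_left] at this
  have hA0 : 0 < Nat.card A := Nat.card_pos
  have hm0 : 0 < A.relIndex D := by
    apply Nat.pos_of_ne_zero
    unfold Subgroup.relIndex
    exact Subgroup.index_ne_zero_of_finite
  set a := Nat.card A
  set m := A.relIndex D
  set e := H.index
  rw [← h3] at h1
  -- a*m - 1 = (a-1)*m + (m-1)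
  have h4 : a * m - 1 = (a - 1) * m + (m - 1) := by
    have : (a - 1) * m = a * m - m := by rw [Nat.sub_mul, one_mul]
    have h5 : m ≤ a * m := Nat.le_mul_of_pos_left m hA0
    omega
  rw [h4] at h1
  exact (Nat.dvd_add_right (Dvd.dvd.mul_right h2 m)).mp h1

/-- a proper inclusion of normal subgroups inside the kernel has index at least `e + 1` -/
theorem index_add_one_le_relIndex (hinf : H ⊓ W = ⊥) (hsup : H ⊔ W = ⊤)
    (hfpf : ∀ w ∈ W, w ≠ 1 → ∀ k ∈ H, w * k = k * w → k = 1)
    (A D : Subgroup N) [hA : A.Normal] [hD : D.Normal] (hAD : A < D) (hDH : D ≤ H) :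
    H.index + 1 ≤ A.relIndex D := by
  have h1 := index_dvd_relIndex_sub_one H W hinf hsup hfpf A D hAD.le hDH
  have hm0 : A.relIndex D ≠ 0 := by
    unfold Subgroup.relIndex
    exact Subgroup.index_ne_zero_of_finite
  have hm1 : A.relIndex D ≠ 1 := by
    intro h
    rw [Subgroup.relIndex_eq_one] at h
    exact (not_le_of_gt hAD) h
  have h2 : 0 < A.relIndex D - 1 := by omega
  have := Nat.le_of_dvd h2 h1
  omega

end counting

section chars

variable {N : Type u} [Group N] [Fintype N] (H W : Subgroup N) [hHn : H.Normal]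

open Classical in
/-- a non-principal irreducible character of the kernel induces to an irreducible character which is
not constant on the kernel -/
theorem induced_mem (hinf : H ⊓ W = ⊥) (hsup : H ⊔ W = ⊤)
    (hfpf : ∀ w ∈ W, w ≠ 1 → ∀ k ∈ H, w * k = k * w → k = 1)
    (θ : ↥H → ℂ) (hθ : IsIrrCharacter ↥H θ) (hθ1 : θ ≠ (fun _ => 1)) :
    IsIrrCharacter N (indFun H θ) ∧ ∃ h ∈ H, indFun H θ h ≠ indFun H θ 1 := by
  let _ : Fintype ↥H := Fintype.ofFinite _
  have hind := Cfsg.Agent.S0171.result H W hinf hsup hfpf θ hθ hθ1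
  refine ⟨hind, ?_⟩
  by_contra hcon
  push Not at hcon
  have h1 : classInner (indFun H θ) (indFun H θ) = 1 :=
    Cfsg.Agent.Lib.Helper10.classInner_irr_self hind
  rw [Cfsg.Agent.Lib.Helper10.classInner_indFun_right H θ (indFun H θ)
    (IsCharacter.isClassFunction (IsIrrCharacter.isCharacter hind))] at h1
  have h2 : ∀ h : ↥H, indFun H θ (h : N) = indFun H θ 1 := fun h => hcon _ h.2
  simp only [h2] at h1
  have h3 : classInner (fun _ : ↥H => (1 : ℂ)) θ = 0 := by
    have := Cfsg.Agent.Lib.Helper10.classInner_irr (isIrrCharacter_one (G := ↥H)) hθ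
    rw [if_neg] at this
    · exact this
    · intro h0
      exact hθ1 h0.symm
  unfold classInner at h3
  simp only [one_mul] at h3
  rw [← Finset.mul_sum, ← mul_assoc, mul_comm _ (indFun H θ 1), mul_assoc, h3, mul_zero] at h1
  exact zero_ne_one h1

open Classical in
/-- an irreducible character of `N` not constant on the kernel is induced from a non-principal
irreducible character of the kernel -/
theorem exists_induced (hinf : H ⊓ W = ⊥) (hsup : H ⊔ W = ⊤)
    (hfpf : ∀ w ∈ W, w ≠ 1 → ∀ k ∈ H, w * k = k * w → k = 1)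
    (χ : N → ℂ) (hχ : IsIrrCharacter N χ) (hrel : ∃ h ∈ H, χ h ≠ χ 1) :
    ∃ θ : ↥H → ℂ, IsIrrCharacter ↥H θ ∧ θ ≠ (fun _ => 1) ∧ χ = indFun H θ := by
  let _ : Fintype ↥H := Fintype.ofFinite _
  let _ := fintypeIrr ↥H
  have hres : IsCharacter ↥H (resFun H χ) := isCharacter_resFun H (IsIrrCharacter.isCharacter hχ)
  have hcls := IsCharacter.isClassFunction hres
  obtain ⟨θ, hθ1, hθ2⟩ : ∃ θ : IrrCharacter ↥H, (θ : ↥H → ℂ) ≠ (fun _ => 1) ∧
      classInner (resFun H χ) (θ : ↥H → ℂ) ≠ 0 := by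
    by_contra hcon
    push Not at hcon
    have hdec := classFunction_eq_sum hcls
    obtain ⟨k, hkK, hk⟩ := hrel
    apply hk
    have hval : ∀ y : ↥H, resFun H χ y = classInner (resFun H χ) (fun _ => (1 : ℂ)) := by
      intro y
      have h1 := congrFun hdec y
      rw [Finset.sum_apply, Finset.sum_eq_single ⟨(1 : ↥H → ℂ), isIrrCharacter_one⟩] at h1
      · rw [h1]
        simp only [Pi.smul_apply, Pi.one_apply, smul_eq_mul, mul_one]
        rfl
      · intro b _ hb
        have hb' : (b : ↥H → ℂ) ≠ (fun _ => 1) := by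
          intro h0
          apply hb
          apply Subtype.ext
          exact h0
        rw [Pi.smul_apply, hcon b hb', zero_smul]
      · intro h0
        exact absurd (Finset.mem_univ _) h0
    have e1 := hval ⟨k, hkK⟩
    have e2 := hval 1
    rw [resFun_apply] at e1 e2
    change χ k = _ at e1
    change χ 1 = _ at e2
    rw [e1, e2]
  have hind := Cfsg.Agent.S0171.result H W hinf hsup hfpf (θ : ↥H → ℂ) θ.2 hθ1
  refine ⟨θ, θ.2, hθ1, ?_⟩
  have hrec : classInner χ (indFun H (θ : ↥H → ℂ)) ≠ 0 := by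
    rw [Cfsg.Agent.Lib.Helper10.classInner_indFun_right H _ χ
      (IsCharacter.isClassFunction (IsIrrCharacter.isCharacter hχ))]
    exact hθ2
  have := Cfsg.Agent.Lib.Helper10.classInner_irr hχ hind
  by_contra hne
  rw [if_neg hne] at this
  exact hrec this

/-- the relevant irreducible characters are exactly the induced ones -/
theorem relevant_eq (hinf : H ⊓ W = ⊥) (hsup : H ⊔ W = ⊤)
    (hfpf : ∀ w ∈ W, w ≠ 1 → ∀ k ∈ H, w * k = k * w → k = 1) :
    {χ : N → ℂ | IsIrrCharacter N χ ∧ ∃ h ∈ H, χ h ≠ χ 1} = inducedIrrAbove H ⊥ := by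
  ext χ
  constructor
  · rintro ⟨h1, h2⟩
    obtain ⟨θ, hθ, hθ1, rfl⟩ := exists_induced H W hinf hsup hfpf χ h1 h2
    refine ⟨θ, hθ, hθ1, ?_, rfl⟩
    intro a ha
    rw [Subgroup.mem_bot] at ha
    have : a = 1 := Subtype.ext ha
    rw [this]
  · rintro ⟨θ, hθ, hθ1, -, rfl⟩
    exact induced_mem H W hinf hsup hfpf θ hθ hθ1

end chars

end Cfsg.Agent.Lib.Helper23.Feit
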