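/-
helper23: group theory for Feit's coherence theorem: in a finite group `N` with a nilpotent normal subgroup
`H`, the `N`-normal Sylow subgroups of `H`; the descent steps `A ↦ B` (with a subgroup `D` central modulo
`B`) used in the coherence descent.
-/
import Mathlib
import Cfsg.Agent.Lib.Helper10.PF63

set_option autoImplicit false

namespace Cfsg.Agent.Lib.Helper23.Feit

open scoped commutatorElement

universe u

section sylow

variable {N : Type u} [Group N] [Finite N] (H : Subgroup N) [hHn : H.Normal]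

/-- the Sylow `p`-subgroup of a nilpotent normal subgroup, as a normal subgroup of the whole group -/
theorem exists_sylowSub (hnil : Group.IsNilpotent H) (p : ℕ) [hp : Fact p.Prime] :
    ∃ P : Subgroup N, P.Normal ∧ P ≤ H ∧ IsPGroup p P ∧ ¬ p ∣ P.relIndex H := by
  obtain ⟨P₀⟩ : Nonempty (Sylow p H) := inferInstance
  have hnorm : (P₀ : Subgroup H).Normal := inferInstance
  have hchar : (P₀ : Subgroup H).Characteristic := Sylow.characteristic_of_normal P₀ hnorm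
  refine ⟨(P₀ : Subgroup H).map H.subtype, inferInstance, Subgroup.map_subtype_le _, ?_, ?_⟩
  · exact P₀.isPGroup'.map H.subtype
  · have h1 : ((P₀ : Subgroup H).map H.subtype).subgroupOf H = (P₀ : Subgroup H) := by
      unfold Subgroup.subgroupOf
      exact Subgroup.comap_map_eq_self_of_injective (Subgroup.subtype_injective H) _
    unfold Subgroup.relIndex
    rw [h1]
    exact P₀.not_dvd_index

end sylow

section steps

variable {N : Type u} [Group N] [Finite N] (H : Subgroup N) [hHn : H.Normal]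

omit [Finite N] hHn in
theorem exists_lcs_le_bot (hnil : Group.IsNilpotent H) : ∃ n, H.lowerCentralSeries n ≤ ⊥ := by
  have h1 : Group.IsNilpotent (↥H ⧸ (⊥ : Subgroup N).subgroupOf H) := inferInstance
  exact Cfsg.Agent.Lib.Helper10.exists_lowerCentralSeries_le ⊥ H h1

/-- the basic step: `B = [A,H]`, `D = A` -/
theorem step_basic (hnil : Group.IsNilpotent H) (A : Subgroup N) [hA : A.Normal] (hA1 : A ≠ ⊥)
    (hAH : A ≤ H) :
    ⁅A, H⁆ < A ∧ ∀ x ∈ A, ∀ y ∈ H, x * y * x⁻¹ * y⁻¹ ∈ ⁅A, H⁆ := by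
  constructor
  · have h := Cfsg.Agent.Lib.Helper10.sup_commutator_lt ⊥ A H (bot_lt_iff_ne_bot.mpr hA1) hAH
      (exists_lcs_le_bot H hnil)
    rwa [bot_sup_eq] at h
  · intro x hx y hy
    have := Subgroup.commutator_mem_commutator hx hy
    rwa [commutatorElement_def] at this

/-- the refined step when `H` is not of prime power order -/
theorem step_refined (hnil : Group.IsNilpotent H)
    (hnp : ∀ (p : ℕ) [Fact p.Prime], ¬ IsPGroup p H) (A : Subgroup N) [hA : A.Normal]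
    (hA1 : A ≠ ⊥) (hAH' : A ≤ ⁅H, H⁆) :
    ∃ B D : Subgroup N, B.Normal ∧ D.Normal ∧ B < A ∧ A < D ∧ D ≤ H ∧
      ∀ x ∈ D, ∀ y ∈ H, x * y * x⁻¹ * y⁻¹ ∈ B := by
  have hH'H : ⁅H, H⁆ ≤ H := Subgroup.commutator_le_left H H
  have hAH : A ≤ H := hAH'.trans hH'H
  obtain ⟨hA₀lt, hA₀c⟩ := step_basic H hnil A hA1 hAH
  set A₀ := ⁅A, H⁆ with hA₀
  have hlcs := exists_lcs_le_bot H hnil
  -- the prime `r`
  have hr1 : A₀.relIndex A ≠ 1 := by
    intro h
    rw [Subgroup.relIndex_eq_one] at h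
    exact (not_le_of_gt hA₀lt) h
  obtain ⟨r, hr, hrd⟩ := Nat.exists_prime_and_dvd hr1
  have : Fact r.Prime := ⟨hr⟩
  obtain ⟨Pr, hPrn, hPrH, hPrp, hPri⟩ := exists_sylowSub H hnil r
  have hPrlt : Pr < H := by
    refine lt_of_le_of_ne hPrH ?_
    intro h
    apply hnp r
    rw [← h]
    exact hPrp
  have hYlt : Pr ⊔ ⁅H, H⁆ < H := by
    obtain ⟨n, hn⟩ := hlcs
    exact Cfsg.Agent.Lib.Helper10.sup_commutator_lt Pr H H hPrlt le_rfl ⟨n, hn.trans bot_le⟩
  set Y := Pr ⊔ ⁅H, H⁆ with hY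
  have hs1 : Y.relIndex H ≠ 1 := by
    intro h
    rw [Subgroup.relIndex_eq_one] at h
    exact (not_le_of_gt hYlt) h
  obtain ⟨s, hs, hsd⟩ := Nat.exists_prime_and_dvd hs1
  have : Fact s.Prime := ⟨hs⟩
  have hsr : s ≠ r := by
    intro h
    apply hPri
    rw [← h]
    exact hsd.trans (Subgroup.relIndex_dvd_of_le_left H (le_sup_left : Pr ≤ Y))
  have hsA : s ∣ A.relIndex H := by
    have h1 : Y.relIndex H ∣ (⁅H, H⁆).relIndex H :=
      Subgroup.relIndex_dvd_of_le_left H (le_sup_right : ⁅H, H⁆ ≤ Y)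
    have h2 : (⁅H, H⁆).relIndex H ∣ A.relIndex H := Subgroup.relIndex_dvd_of_le_left H hAH'
    exact hsd.trans (h1.trans h2)
  obtain ⟨Ps, hPsn, hPsH, hPsp, hPsi⟩ := exists_sylowSub H hnil s
  have hPsA : ¬ Ps ≤ A := by
    intro h
    apply hPsi
    exact hsA.trans (Subgroup.relIndex_dvd_of_le_left H h)
  -- minimal `T`
  obtain ⟨T, ⟨hTn, hTP, hTA⟩, hTmin⟩ :=
    (measure (fun T : Subgroup N => Nat.card T)).wf.has_min
      {T : Subgroup N | T.Normal ∧ T ≤ Ps ∧ ¬ T ≤ A} ⟨Ps, hPsn, le_rfl, hPsA⟩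
  have hT1 : T ≠ ⊥ := by
    intro h
    apply hTA
    rw [h]
    exact bot_le
  have hTH : T ≤ H := hTP.trans hPsH
  obtain ⟨hT₀lt, hT₀c⟩ := step_basic H hnil T hT1 hTH
  have hT₀A : ⁅T, H⁆ ≤ A := by
    by_contra hcon
    have hmem : ⁅T, H⁆ ∈ {T : Subgroup N | T.Normal ∧ T ≤ Ps ∧ ¬ T ≤ A} :=
      ⟨inferInstance, hT₀lt.le.trans hTP, hcon⟩
    apply hTmin _ hmem
    show Nat.card ↥(⁅T, H⁆) < Nat.card ↥T
    by_contra hnot
    push Not at hnot
    have := Subgroup.eq_of_le_of_card_ge hT₀lt.le hnot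
    exact hT₀lt.ne this
  -- `B` and `D`
  refine ⟨A₀ ⊔ (A ⊓ Ps), A ⊔ T, inferInstance, inferInstance, ?_, ?_, sup_le hAH hTH, ?_⟩
  · -- `B < A`
    refine lt_of_le_of_ne (sup_le hA₀lt.le inf_le_left) ?_
    intro hEq
    have h1 : A₀.relIndex A = (A₀ ⊓ (A ⊓ Ps)).relIndex (A ⊓ Ps) := by
      conv_lhs => rw [← hEq]
      rw [Subgroup.relIndex_sup_left, Subgroup.inf_relIndex_right]
    have h2 : (A₀ ⊓ (A ⊓ Ps)).relIndex (A ⊓ Ps) ∣ Nat.card ↥(A ⊓ Ps) :=
      Subgroup.relIndex_dvd_card _ _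
    have h3 : IsPGroup s ↥(A ⊓ Ps) := hPsp.to_le inf_le_right
    obtain ⟨k, hk⟩ := IsPGroup.exists_card_eq h3
    rw [h1] at hrd
    have h4 : r ∣ s ^ k := by
      rw [← hk]
      exact hrd.trans h2
    have h5 := (Nat.prime_dvd_prime_iff_eq hr hs).mp (hr.dvd_of_dvd_pow h4)
    exact hsr h5.symm
  · -- `A < D`
    refine lt_of_le_of_ne le_sup_left ?_
    intro hEq
    apply hTA
    rw [hEq]
    exact le_sup_right
  · -- centrality
    intro x hx y hy
    obtain ⟨a, ha, t, ht, rfl⟩ := Subgroup.mem_sup_of_normal_right.mp hx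
    have hBn : (A₀ ⊔ (A ⊓ Ps)).Normal := inferInstance
    have h1 : a * y * a⁻¹ * y⁻¹ ∈ A₀ ⊔ (A ⊓ Ps) := Subgroup.mem_sup_left (hA₀c a ha y hy)
    have h2 : t * y * t⁻¹ * y⁻¹ ∈ A₀ ⊔ (A ⊓ Ps) :=
      Subgroup.mem_sup_right ⟨hT₀A (hT₀c t ht y hy), hTP (hT₀lt.le (hT₀c t ht y hy))⟩
    have e1 : a * t * y * (a * t)⁻¹ * y⁻¹ =
        (a * (t * y * t⁻¹ * y⁻¹) * a⁻¹) * (a * y * a⁻¹ * y⁻¹) := by group
    rw [e1]
    exact mul_mem (hBn.conj_mem _ h2 a) h1

/-- a normal subgroup strictly between `H'` and `H` when `H` is nilpotent, not of prime power order -/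
theorem exists_between_commutator (hnil : Group.IsNilpotent H)
    (hnp : ∀ (p : ℕ) [Fact p.Prime], ¬ IsPGroup p H) (hH1 : H ≠ ⊥) :
    ∃ Y : Subgroup N, Y.Normal ∧ ⁅H, H⁆ < Y ∧ Y < H := by
  obtain ⟨hH'lt, -⟩ := step_basic H hnil H hH1 le_rfl
  have hr1 : (⁅H, H⁆).relIndex H ≠ 1 := by
    intro h
    rw [Subgroup.relIndex_eq_one] at h
    exact (not_le_of_gt hH'lt) h
  obtain ⟨r, hr, hrd⟩ := Nat.exists_prime_and_dvd hr1
  have : Fact r.Prime := ⟨hr⟩
  obtain ⟨Pr, hPrn, hPrH, hPrp, hPri⟩ := exists_sylowSub H hnil r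
  have hPrlt : Pr < H := by
    refine lt_of_le_of_ne hPrH ?_
    intro h
    apply hnp r
    rw [← h]
    exact hPrp
  have hYlt : Pr ⊔ ⁅H, H⁆ < H := by
    obtain ⟨n, hn⟩ := exists_lcs_le_bot H hnil
    exact Cfsg.Agent.Lib.Helper10.sup_commutator_lt Pr H H hPrlt le_rfl ⟨n, hn.trans bot_le⟩
  refine ⟨Pr ⊔ ⁅H, H⁆, inferInstance, lt_of_le_of_ne le_sup_right ?_, hYlt⟩
  intro hEq
  apply hPri
  have h1 : Pr ≤ ⁅H, H⁆ := by
    rw [hEq]
    exact le_sup_left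
  exact hrd.trans (Subgroup.relIndex_dvd_of_le_left H h1)

end steps

end Cfsg.Agent.Lib.Helper23.Feit
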