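/-
helper23: FEIT's coherence theorem for Frobenius groups (arbitrary linear isometry, real characters
allowed): if `N` is a Frobenius group with kernel `H` (of index `e`, `|H| ≠ e + 1`), `S` the set of
irreducible characters of `N` not constant on `H`, and `τ` a linear isometry on the integer combinations
of `S` vanishing at `1` with values vanishing at `1`, then `S` is coherent, unless `H` is a non-abelian
`p`-group with `|H : H'| ≤ 4e² + 1`.
-/
import Mathlib
import Cfsg.Prelude.Def_Characters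
import Cfsg.Prelude.Def_OddOrderChar
import Cfsg.Agent.Lib.Helper23.FeitB
import Cfsg.Agent.Lib.Helper23.FeitC
import Cfsg.Agent.Lib.Helper23.FeitD
import Cfsg.Agent.Lib.Helper23.FeitE
import Cfsg.Agent.Lib.Helper8.FrobKernel
import Cfsg.Agent.Lib.Helper6.CentralHom

set_option autoImplicit false

namespace Cfsg.Agent.Lib.Helper23.Feit

open Cfsg Cfsg.Agent.CharLib Cfsg.Agent.Lib.Helper10 Cfsg.Agent.Lib.Helper24
open scoped ComplexConjugate commutatorElement

universe u v

attribute [local instance] fintypeIrr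

theorem feit_arith {e v m w : ℕ} (he : 1 ≤ e) (hm : e + 1 ≤ m) (hw : w = v * m)
    (hbig : (e + 1) ^ 2 ≤ w) : 4 * e ^ 2 * v < (w - 1) ^ 2 := by
  obtain ⟨u, rfl⟩ : ∃ u, w = u + 1 := ⟨w - 1, by
    have : 1 ≤ w := le_trans (by nlinarith) hbig
    omega⟩
  rw [Nat.add_sub_cancel]
  have hu : e * (e + 2) ≤ u := by nlinarith
  have h1 : (e + 1) * v ≤ u + 1 := by
    rw [hw]
    calc (e + 1) * v = v * (e + 1) := by ring
      _ ≤ v * m := Nat.mul_le_mul_left v hm
  have h2 : 4 * e ^ 2 * (u + 1) < (e + 1) * u ^ 2 := by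
    zify at he hu ⊢
    have ha : (0 : ℤ) ≤ (u : ℤ) - e * (e + 2) := by linarith
    have hu0 : (0 : ℤ) ≤ u := by positivity
    have he0 : (0 : ℤ) ≤ (e : ℤ) - 1 := by linarith
    have h_a : (0 : ℤ) ≤ ((u : ℤ) - e * (e + 2)) * u * (e + 1) :=
      mul_nonneg (mul_nonneg ha hu0) (by positivity)
    have h_b : (0 : ℤ) ≤ (e : ℤ) ^ 2 * ((e : ℤ) - 1) * u :=
      mul_nonneg (mul_nonneg (sq_nonneg _) he0) hu0
    have h_c : (0 : ℤ) ≤ 2 * (e : ℤ) * ((u : ℤ) - e * (e + 2)) :=
      mul_nonneg (by positivity) ha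
    have h_d : (1 : ℤ) ≤ (e : ℤ) ^ 3 := one_le_pow₀ he
    nlinarith [h_a, h_b, h_c, h_d]
  have h7 : 4 * e ^ 2 * v * (e + 1) < u ^ 2 * (e + 1) := by
    calc 4 * e ^ 2 * v * (e + 1) = 4 * e ^ 2 * ((e + 1) * v) := by ring
      _ ≤ 4 * e ^ 2 * (u + 1) := Nat.mul_le_mul_left _ h1
      _ < (e + 1) * u ^ 2 := h2
      _ = u ^ 2 * (e + 1) := by ring
  exact Nat.lt_of_mul_lt_mul_right h7

section base

variable {N : Type u} [Group N] [Fintype N] (H : Subgroup N) [hHn : H.Normal]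

omit hHn in
/-- members of `S(H')` have degree `|N:H|` -/
theorem base_degree {φ : N → ℂ} (hφ : φ ∈ inducedIrrAbove H ⁅H, H⁆) : φ 1 = (H.index : ℂ) := by
  obtain ⟨θ, hθ, -, hker, rfl⟩ := hφ
  have h1 : θ 1 = 1 := by
    apply Cfsg.Agent.Lib.Helper6.IsIrrCharacter.apply_one_eq_one_of_commutator hθ
    intro g k
    apply hker
    have := Subgroup.commutator_mem_commutator g.2 k.2
    simpa [commutatorElement_def] using this
  rw [indFun_apply_one_index, h1, mul_one]

open Classical in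
/-- `S(H')` has two distinct members unless `|H:H'| ≤ e + 1` -/
theorem base_two (hirr : ∀ φ ∈ inducedIrrAbove H ⊥, IsIrrCharacter N φ)
    (hgt : H.index + 1 < (⁅H, H⁆).relIndex H) :
    ∃ χ ∈ inducedIrrAbove H ⁅H, H⁆, ∃ ξ ∈ inducedIrrAbove H ⁅H, H⁆, χ ≠ ξ := by
  have hsub := inducedIrrAbove_subset_bot H ⁅H, H⁆
  have hlow := seqS_sum_lower_bound H ⁅H, H⁆ (fun _ => H.index) (fun _ => 1)
    (fun φ hφ => base_degree H hφ)
    (fun φ hφ => by
      rw [Cfsg.Agent.Lib.Helper10.classInner_irr_self (hirr φ (hsub hφ))]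
      simp)
  rw [Finset.sum_const, nsmul_eq_mul] at hlow
  have hepos : (0 : ℝ) < H.index := by
    have : H.index ≠ 0 := Subgroup.index_ne_zero_of_finite
    exact_mod_cast Nat.pos_of_ne_zero this
  have hcard : 1 < (seqS H ⁅H, H⁆).card := by
    by_contra hle
    push Not at hle
    have h1 : ((seqS H ⁅H, H⁆).card : ℝ) ≤ 1 := by exact_mod_cast hle
    have h2 : ((H.index + 1 : ℕ) : ℝ) < (((⁅H, H⁆).relIndex H : ℕ) : ℝ) := by exact_mod_cast hgt
    push_cast at h2 hlow
    have h3 : ((seqS H ⁅H, H⁆).card : ℝ) * ((H.index : ℝ) ^ 2 / 1) ≤ (H.index : ℝ) ^ 2 := by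
      rw [div_one]
      calc ((seqS H ⁅H, H⁆).card : ℝ) * (H.index : ℝ) ^ 2 ≤ 1 * (H.index : ℝ) ^ 2 :=
            mul_le_mul_of_nonneg_right h1 (sq_nonneg _)
        _ = (H.index : ℝ) ^ 2 := one_mul _
    nlinarith
  obtain ⟨a, ha, b, hb, hab⟩ := Finset.one_lt_card.mp hcard
  exact ⟨a, mem_seqS.mp ha, b, mem_seqS.mp hb, hab⟩

end base

section main

variable {N : Type u} [Group N] [Fintype N] {G : Type v} [Group G] [Fintype G]
  (H : Subgroup N) [hHn : H.Normal]

open Classical in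
/-- **Feit's theorem**, in terms of `inducedIrrAbove`. -/
theorem feit_induced (W : Subgroup N) (hH1 : H ≠ ⊥) (hnil : Group.IsNilpotent H)
    (hinf : H ⊓ W = ⊥) (hsup : H ⊔ W = ⊤)
    (hfpf : ∀ w ∈ W, w ≠ 1 → ∀ k ∈ H, w * k = k * w → k = 1)
    (he : Nat.card H ≠ H.index + 1) (τ : (N → ℂ) → (G → ℂ))
    (hτ : IsLinearIsometryOn (zspanOn (inducedIrrAbove H ⊥) {1}ᶜ) τ)
    (hτ1 : ∀ α ∈ zspanOn (inducedIrrAbove H ⊥) ({1}ᶜ : Set N), τ α 1 = 0) :
    IsCoherent (inducedIrrAbove H ⊥) {1}ᶜ τ ∨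
      ((∃ p : ℕ, p.Prime ∧ IsPGroup p H) ∧ ⁅H, H⁆ ≠ ⊥ ∧
        (⁅H, H⁆).relIndex H ≤ 4 * H.index ^ 2 + 1) := by
  have hirr : ∀ φ ∈ inducedIrrAbove H ⊥, IsIrrCharacter N φ := by
    intro φ hφ
    rw [← relevant_eq H W hinf hsup hfpf] at hφ
    exact hφ.1
  have hsolv : Group.IsSolvable H := inferInstance
  have hepos : 1 ≤ H.index := by
    apply Nat.pos_of_ne_zero
    exact Subgroup.index_ne_zero_of_finite
  -- `H' < H`
  obtain ⟨hH'lt, -⟩ := step_basic H hnil H hH1 le_rfl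
  have hH'n : (⁅H, H⁆).Normal := inferInstance
  have hge : H.index + 1 ≤ (⁅H, H⁆).relIndex H :=
    index_add_one_le_relIndex H W hinf hsup hfpf ⁅H, H⁆ H hH'lt le_rfl
  -- the base is coherent as soon as `e + 1 < |H:H'|`
  have hbase : H.index + 1 < (⁅H, H⁆).relIndex H →
      IsCoherent (inducedIrrAbove H ⁅H, H⁆) {1}ᶜ τ := by
    intro hgt
    have hsub := inducedIrrAbove_subset_bot H ⁅H, H⁆
    apply coherent_of_equal_degree_gen (inducedIrrAbove H ⁅H, H⁆) (fun χ hχ => hirr χ (hsub hχ))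
      (fun χ hχ ξ hξ => by rw [base_degree H hχ, base_degree H hξ]) (base_two H hirr hgt) τ
      (isometry_mono (zspanOn_mono hsub _) hτ) (fun α hα => hτ1 α (zspanOn_mono hsub _ hα))
  by_cases hab : ⁅H, H⁆ = ⊥
  · -- abelian kernel
    left
    have h1 : (⁅H, H⁆).relIndex H = Nat.card H := by
      rw [hab, Subgroup.relIndex_bot_left]
    have hgt : H.index + 1 < (⁅H, H⁆).relIndex H := by
      rw [h1] at hge ⊢
      omega
    have := hbase hgt
    rwa [hab] at this
  · by_cases hbig : 4 * H.index ^ 2 + 1 < (⁅H, H⁆).relIndex H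
    · -- large abelianization
      left
      have hgt : H.index + 1 < (⁅H, H⁆).relIndex H := by nlinarith
      apply descent H hsolv τ hirr hτ hτ1 ⁅H, H⁆ hH'n hH'lt (hbase hgt)
      intro A hAn hA1 hAH'
      have := hAn
      have hAH : A ≤ H := hAH'.trans hH'lt.le
      obtain ⟨hBlt, hBc⟩ := step_basic H hnil A hA1 hAH
      refine ⟨⁅A, H⁆, A, inferInstance, hBlt, hAH, hBc, ?_⟩
      have h3 : (⁅H, H⁆).relIndex H ∣ A.relIndex H := Subgroup.relIndex_dvd_of_le_left H hAH'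
      have h4 : A.relIndex H ≠ 0 := by
        unfold Subgroup.relIndex; exact Subgroup.index_ne_zero_of_finite
      have h5 : (⁅H, H⁆).relIndex H ≤ A.relIndex H := Nat.le_of_dvd (Nat.pos_of_ne_zero h4) h3
      have := pf63_arith (e := H.index) (k := 1) (h := A.relIndex H) le_rfl (lt_of_lt_of_le hbig h5)
      simpa using this
    · by_cases hp : ∃ p : ℕ, p.Prime ∧ IsPGroup p H
      · right
        push Not at hbig
        exact ⟨hp, hab, hbig⟩
      · -- not of prime power order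
        left
        have hnp : ∀ (p : ℕ) [Fact p.Prime], ¬ IsPGroup p H := by
          intro p hpf h
          exact hp ⟨p, hpf.out, h⟩
        -- `(e+1)² ≤ |H:H'|`
        obtain ⟨Y, hYn, hH'Y, hYH⟩ := exists_between_commutator H hnil hnp hH1
        have := hYn
        have hsq : (H.index + 1) ^ 2 ≤ (⁅H, H⁆).relIndex H := by
          have h1 := index_add_one_le_relIndex H W hinf hsup hfpf ⁅H, H⁆ Y hH'Y hYH.le
          have h2 := index_add_one_le_relIndex H W hinf hsup hfpf Y H hYH le_rfl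
          have h3 : (⁅H, H⁆).relIndex Y * Y.relIndex H = (⁅H, H⁆).relIndex H :=
            Subgroup.relIndex_mul_relIndex _ _ _ hH'Y.le hYH.le
          rw [← h3, sq]
          exact Nat.mul_le_mul h1 h2
        have hgt : H.index + 1 < (⁅H, H⁆).relIndex H := by nlinarith
        apply descent H hsolv τ hirr hτ hτ1 ⁅H, H⁆ hH'n hH'lt (hbase hgt)
        intro A hAn hA1 hAH'
        have := hAn
        obtain ⟨B, D, hBn, hDn, hBA, hAD, hDH, hcent⟩ := step_refined H hnil hnp A hA1 hAH'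
        have := hDn
        refine ⟨B, D, hBn, hBA, hDH, hcent, ?_⟩
        have h1 := index_add_one_le_relIndex H W hinf hsup hfpf A D hAD hDH
        have h2 : A.relIndex D * D.relIndex H = A.relIndex H :=
          Subgroup.relIndex_mul_relIndex _ _ _ hAD.le hDH
        have h3 : (⁅H, H⁆).relIndex H ∣ A.relIndex H := Subgroup.relIndex_dvd_of_le_left H hAH'
        have h4 : A.relIndex H ≠ 0 := by
          unfold Subgroup.relIndex; exact Subgroup.index_ne_zero_of_finite
        have h5 : (⁅H, H⁆).relIndex H ≤ A.relIndex H := Nat.le_of_dvd (Nat.pos_of_ne_zero h4) h3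
        exact feit_arith hepos h1 (by rw [← h2, mul_comm]) (hsq.trans h5)

end main

end Cfsg.Agent.Lib.Helper23.Feit
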