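/-
helper23: coherence for a family of irreducible characters of equal degree of the normalizer of a
T.I. subgroup, vanishing off the subgroup (no hypothesis on complex conjugation): the exceptional
characters give the isometry.
-/
import Mathlib
import Cfsg.Prelude.Def_OddOrderLocal
import Cfsg.Prelude.Def_OddOrderChar
import Cfsg.Agent.Lib.Helper2.TIFrob
import Cfsg.Agent.Lib.Helper2.Artin
import Cfsg.Agent.Lib.Helper10.Coherence2

set_option autoImplicit false

namespace Cfsg.Agent.Lib.Helper23.SibAb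

open Cfsg Cfsg.Agent.CharLib Cfsg.Agent.Lib.Helper10
open scoped ComplexConjugate

universe u

variable {G : Type u} [Group G] [Fintype G] (K : Subgroup G)
  [Fintype ↥(Subgroup.normalizer (K : Set G))]

open Classical in
/-- Equal degrees + vanishing off a T.I. subgroup + at least two members ⇒ coherent. -/
theorem coherent_of_equal_degree (hTI : IsTISubset (K : Set G))
    (S : Set (↥(Subgroup.normalizer (K : Set G)) → ℂ))
    (hirr : ∀ χ ∈ S, IsIrrCharacter ↥(Subgroup.normalizer (K : Set G)) χ)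
    (hvan : ∀ χ ∈ S, ∀ x : ↥(Subgroup.normalizer (K : Set G)), (x : G) ∉ K → χ x = 0)
    (hdeg : ∀ χ ∈ S, ∀ ξ ∈ S, χ 1 = ξ 1)
    (h2 : ∃ χ ∈ S, ∃ ξ ∈ S, χ ≠ ξ) :
    IsCoherent S {1}ᶜ (fun α : ↥(Subgroup.normalizer (K : Set G)) → ℂ =>
        indFun (Subgroup.normalizer (K : Set G)) α) := by
  obtain ⟨ε, f, hε, hinj, hind⟩ := Cfsg.Agent.Lib.Helper2.exists_exceptional_of_equal_degree K hTI
    (fun χ : IrrCharacter ↥(Subgroup.normalizer (K : Set G)) =>
      (χ : ↥(Subgroup.normalizer (K : Set G)) → ℂ) ∈ S)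
    (fun χ h => hvan _ h) (fun χ ξ h1 h2 => hdeg _ h1 _ h2)
  have hfin : S.Finite :=
    (finite_setOf_isIrrCharacter ↥(Subgroup.normalizer (K : Set G))).subset (fun χ h => hirr χ h)
  set SF : Finset (↥(Subgroup.normalizer (K : Set G)) → ℂ) := hfin.toFinset with hSF
  have hSFc : (↑SF : Set (↥(Subgroup.normalizer (K : Set G)) → ℂ)) = S := hfin.coe_toFinset
  have hmem : ∀ φ, φ ∈ SF ↔ φ ∈ S := fun φ => hfin.mem_toFinset
  have hεε : ε * conj ε = 1 := by
    rcases hε with h | h <;> rw [h] <;> simp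
  -- the images
  let F : (↥(Subgroup.normalizer (K : Set G)) → ℂ) → (G → ℂ) := fun ξ =>
    if h : ξ ∈ S then ε • ((f ⟨⟨ξ, hirr ξ h⟩, h⟩ : IrrCharacter G) : G → ℂ) else 0
  have hF : ∀ ξ (h : ξ ∈ S), F ξ = ε • ((f ⟨⟨ξ, hirr ξ h⟩, h⟩ : IrrCharacter G) : G → ℂ) := by
    intro ξ h
    simp only [F, dif_pos h]
  have hortho : OrthoOn SF := orthoOn_of_irr (fun ξ h => hirr ξ ((hmem ξ).mp h))
  have hf : ∀ ξ ∈ SF, ∀ η ∈ SF, classInner (F ξ) (F η) = if ξ = η then 1 else 0 := by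
    intro ξ hξ η hη
    rw [hmem] at hξ hη
    rw [hF ξ hξ, hF η hη, Cfsg.Agent.Lib.Helper10.classInner_smul_left,
      Cfsg.Agent.Lib.Helper10.classInner_smul_right, Cfsg.Agent.Lib.Helper10.classInner_irr (f _).2 (f _).2, ← mul_assoc, hεε,
      one_mul]
    by_cases hξη : ξ = η
    · subst hξη
      rw [if_pos rfl, if_pos rfl]
    · rw [if_neg hξη, if_neg]
      intro h
      apply hξη
      have h1 := hinj (Subtype.ext h)
      exact congrArg (fun x => (x.1 : ↥(Subgroup.normalizer (K : Set G)) → ℂ)) h1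
  have hfg : ∀ ξ ∈ SF, IsGeneralizedCharacter G (F ξ) := by
    intro ξ hξ
    rw [hmem] at hξ
    rw [hF ξ hξ]
    have h1 : IsGeneralizedCharacter G ((f ⟨⟨ξ, hirr ξ hξ⟩, hξ⟩ : IrrCharacter G) : G → ℂ) :=
      isGeneralizedCharacter_of_isCharacter (IsIrrCharacter.isCharacter (f _).2)
    rcases hε with h | h
    · rw [h, one_smul]
      exact h1
    · rw [h, neg_one_smul]
      exact genChar_neg h1
  have hiso := coefMap_isLinearIsometryOn hortho F hf hfg
  rw [hSFc] at hiso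
  obtain ⟨χ₁, hχ₁, χ₂, hχ₂, hne⟩ := h2
  refine ⟨⟨χ₁ - χ₂, ⟨zspan_sub (subset_zspan hχ₁) (subset_zspan hχ₂), ?_⟩, ?_⟩,
    coefMap SF F, hiso, ?_⟩
  · intro x hx
    have hx1 : x = 1 := by
      by_contra h
      exact hx h
    rw [hx1, Pi.sub_apply, hdeg χ₁ hχ₁ χ₂ hχ₂, sub_self]
  · intro h
    exact hne (sub_eq_zero.mp h)
  · intro α hα
    have hα1 : α 1 = 0 := hα.2 1 (by simp)
    have hαz : α ∈ zspan (↑SF : Set (↥(Subgroup.normalizer (K : Set G)) → ℂ)) := by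
      rw [hSFc]
      exact hα.1
    obtain ⟨c, hc1, hc2⟩ := zspan_expand hortho hαz
    -- the sum of the coefficients vanishes
    have hd0 : χ₁ 1 ≠ 0 := Cfsg.Agent.Lib.Helper10.irr_one_ne_zero (hirr χ₁ hχ₁)
    have hsum : ∑ ξ ∈ SF, (c ξ : ℂ) = 0 := by
      have h1 : α 1 = ∑ ξ ∈ SF, (c ξ : ℂ) * χ₁ 1 := by
        conv_lhs => rw [hc2]
        rw [Finset.sum_apply]
        apply Finset.sum_congr rfl
        intro ξ hξ
        rw [Pi.smul_apply, hdeg ξ ((hmem ξ).mp hξ) χ₁ hχ₁, zsmul_eq_mul]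
      rw [hα1, ← Finset.sum_mul] at h1
      rcases mul_eq_zero.mp h1.symm with h | h
      · exact h
      · exact absurd h hd0
    -- both sides
    have hL : indFun (Subgroup.normalizer (K : Set G)) α =
        ∑ ξ ∈ SF, (c ξ : ℂ) • indFun (Subgroup.normalizer (K : Set G)) (ξ - χ₁) := by
      have h1 : α = ∑ ξ ∈ SF, (c ξ : ℂ) • (ξ - χ₁) := by
        conv_lhs => rw [hc2]
        have h2 : ∑ ξ ∈ SF, (c ξ : ℂ) • (ξ - χ₁) =
            ∑ ξ ∈ SF, (c ξ : ℂ) • ξ - (∑ ξ ∈ SF, (c ξ : ℂ)) • χ₁ := by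
          rw [Finset.sum_smul, ← Finset.sum_sub_distrib]
          apply Finset.sum_congr rfl
          intro ξ _
          rw [smul_sub]
        rw [h2, hsum, zero_smul, sub_zero]
        apply Finset.sum_congr rfl
        intro ξ _
        exact (Int.cast_smul_eq_zsmul ℂ (c ξ) ξ).symm
      conv_lhs => rw [h1]
      have := map_sum (Cfsg.Agent.Lib.Helper2.indFunLin (Subgroup.normalizer (K : Set G)))
        (fun ξ => (c ξ : ℂ) • (ξ - χ₁)) SF
      simp only [map_smul] at this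
      exact this
    show coefMap SF F α = indFun (Subgroup.normalizer (K : Set G)) α
    rw [hL]
    unfold coefMap
    have hR : ∑ ξ ∈ SF, classInner α ξ • F ξ =
        ∑ ξ ∈ SF, (c ξ : ℂ) • F ξ - (∑ ξ ∈ SF, (c ξ : ℂ)) • F χ₁ := by
      rw [hsum, zero_smul, sub_zero]
      apply Finset.sum_congr rfl
      intro ξ hξ
      rw [hc1 ξ hξ]
    rw [hR, Finset.sum_smul, ← Finset.sum_sub_distrib]
    apply Finset.sum_congr rfl
    intro ξ hξ
    rw [hmem] at hξ
    have := hind ⟨⟨ξ, hirr ξ hξ⟩, hξ⟩ ⟨⟨χ₁, hirr χ₁ hχ₁⟩, hχ₁⟩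
    simp only at this
    rw [this, hF ξ hξ, hF χ₁ hχ₁, ← smul_sub, smul_sub ε]

end Cfsg.Agent.Lib.Helper23.SibAb
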