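/-
helper23: T.I. subgroup `K` abelian with Frobenius normalizer `N`, and only ONE irreducible character
of `N` not constant on `K`: then `|K| = |N : K| + 1` and all non-identity elements of `K` are
conjugate in `N`.
-/
import Mathlib
import Cfsg.Prelude.Def_OddOrderLocal
import Cfsg.Prelude.Def_OddOrderChar
import Cfsg.Agent.Lib.Helper2.TIFrob
import Cfsg.Agent.Lib.Lead.CharMain

set_option autoImplicit false

namespace Cfsg.Agent.Lib.Helper23.SibAb

open Cfsg Cfsg.Agent.CharLib Cfsg.Agent.Lib.Helper6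
open scoped ComplexConjugate

universe u

/-- number of irreducible characters of a finite abelian group (unbundled commutativity) -/
theorem card_irr_of_comm {Z : Type*} [Group Z] [Finite Z] (hcomm : ∀ a b : Z, a * b = b * a) :
    Nat.card (IrrCharacter Z) = Nat.card Z := by
  rw [card_irrCharacter]
  symm
  apply Nat.card_congr
  refine Equiv.ofBijective ConjClasses.mk ⟨?_, ConjClasses.mk_surjective⟩
  intro a b h
  rw [ConjClasses.mk_eq_mk_iff_isConj] at h
  obtain ⟨c, hc⟩ := h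
  have h1 : (c : Z) * a = b * c := hc
  rw [hcomm b] at h1
  exact mul_left_cancel h1

section single

variable {G : Type u} [Group G] [Fintype G] (K : Subgroup G)
  [Fintype ↥(Subgroup.normalizer (K : Set G))]

open Classical in
/-- the unique relevant irreducible character has degree `|K| - 1` -/
theorem degree_of_unique
    (hC : ∀ k ∈ K, k ≠ 1 → Subgroup.centralizer ({k} : Set G) ≤ K)
    (hab : ∀ a ∈ K, ∀ b ∈ K, a * b = b * a)
    (χ₀ : ↥(Subgroup.normalizer (K : Set G)) → ℂ)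
    (hχ₀ : IsIrrCharacter ↥(Subgroup.normalizer (K : Set G)) χ₀)
    (hrel : ∃ k : ↥(Subgroup.normalizer (K : Set G)), (k : G) ∈ K ∧ χ₀ k ≠ χ₀ 1)
    (huniq : ∀ χ : ↥(Subgroup.normalizer (K : Set G)) → ℂ,
      IsIrrCharacter ↥(Subgroup.normalizer (K : Set G)) χ →
      (∃ k : ↥(Subgroup.normalizer (K : Set G)), (k : G) ∈ K ∧ χ k ≠ χ 1) → χ = χ₀) :
    χ₀ 1 = (Nat.card K : ℂ) - 1 := by
  set Kn := K.subgroupOf (Subgroup.normalizer (K : Set G)) with hKn
  let _ : Fintype ↥Kn := Fintype.ofFinite _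
  let _ := fintypeIrr ↥Kn
  have hcomm : ∀ a b : ↥Kn, a * b = b * a := by
    intro a b
    apply Subtype.ext
    apply Subtype.ext
    exact hab _ (Subgroup.mem_subgroupOf.mp a.2) _ (Subgroup.mem_subgroupOf.mp b.2)
  have hres : IsCharacter ↥Kn (resFun Kn χ₀) :=
    isCharacter_resFun Kn (IsIrrCharacter.isCharacter hχ₀)
  have hdec := classFunction_eq_sum (IsCharacter.isClassFunction hres)
  have hχcls := IsCharacter.isClassFunction (IsIrrCharacter.isCharacter hχ₀)
  -- the sum of the values of `χ₀` over `Kn`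
  have hsum0 : ∑ y : ↥Kn, χ₀ (y : ↥(Subgroup.normalizer (K : Set G))) = 0 := by
    have h1 : ∑ x : ↥(Subgroup.normalizer (K : Set G)), χ₀ x = ∑ y : ↥Kn, χ₀ (y : ↥(Subgroup.normalizer (K : Set G))) := by
      rw [← Finset.sum_subtype (Finset.univ.filter (fun x : ↥(Subgroup.normalizer (K : Set G)) => x ∈ Kn))
        (p := fun x => x ∈ Kn) (by simp) (fun x => χ₀ x)]
      symm
      apply Finset.sum_subset (Finset.filter_subset _ _)
      intro x _ hx
      have hx' : x ∉ Kn := by simpa using hx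
      exact Cfsg.Agent.Lib.Helper2.tifrob_vanish K hC χ₀ hχ₀ hrel x
        (fun h => hx' (Subgroup.mem_subgroupOf.mpr h))
    rw [← h1]
    have h2 := Cfsg.Agent.Lib.Helper10.classInner_irr hχ₀
      (isIrrCharacter_one (G := ↥(Subgroup.normalizer (K : Set G))))
    rw [if_neg] at h2
    · unfold classInner at h2
      simp only [Pi.one_apply, map_one, mul_one] at h2
      rcases mul_eq_zero.mp h2 with h | h
      · exfalso
        rw [inv_eq_zero] at h
        have : (Nat.card ↥(Subgroup.normalizer (K : Set G)) : ℂ) ≠ 0 :=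
          Nat.cast_ne_zero.mpr Nat.card_pos.ne'
        exact this h
      · exact h
    · intro h
      obtain ⟨k, -, hk⟩ := hrel
      apply hk
      rw [h]
      rfl
  -- multiplicities
  have hm : ∀ θ : IrrCharacter ↥Kn, classInner (resFun Kn χ₀) (θ : ↥Kn → ℂ) =
      if θ = ⟨(1 : ↥Kn → ℂ), isIrrCharacter_one⟩ then 0 else 1 := by
    intro θ
    split_ifs with h
    · rw [h]
      unfold classInner
      simp only [Pi.one_apply, map_one, mul_one, resFun_apply]
      rw [hsum0, mul_zero]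
    · have hθ1 : (θ : ↥Kn → ℂ) ≠ (fun _ => 1) := by
        intro h0
        apply h
        apply Subtype.ext
        exact h0
      have h1 := Cfsg.Agent.Lib.Helper2.tifrob_induced_mem K hC θ θ.2 hθ1
      have h2 : indFun Kn (θ : ↥Kn → ℂ) = χ₀ := huniq _ h1.1 h1.2
      have h3 := Cfsg.Agent.Lib.Helper10.classInner_indFun_right Kn (θ : ↥Kn → ℂ) χ₀ hχcls
      rw [h2, Cfsg.Agent.Lib.Helper10.classInner_irr_self hχ₀] at h3
      unfold classInner
      simp only [resFun_apply]
      exact h3.symm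
  -- evaluate at `1`
  have h1 := congrFun hdec 1
  rw [Finset.sum_apply] at h1
  have h2 : ∀ θ : IrrCharacter ↥Kn,
      (classInner (resFun Kn χ₀) (θ : ↥Kn → ℂ) • (θ : ↥Kn → ℂ)) 1 =
        1 - (if θ = ⟨(1 : ↥Kn → ℂ), isIrrCharacter_one⟩ then 1 else 0 : ℂ) := by
    intro θ
    rw [Pi.smul_apply, hm θ, Cfsg.Agent.Lib.Helper10.irr_one_of_comm hcomm θ.2, smul_eq_mul, mul_one]
    split_ifs <;> simp
  rw [Finset.sum_congr rfl (fun θ _ => h2 θ), Finset.sum_sub_distrib, Finset.sum_ite_eq',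
    if_pos (Finset.mem_univ _), Finset.sum_const, Finset.card_univ, nsmul_eq_mul, mul_one,
    ← Nat.card_eq_fintype_card, card_irr_of_comm hcomm] at h1
  have hcard : Nat.card ↥Kn = Nat.card K :=
    Nat.card_congr (Subgroup.subgroupOfEquivOfLe Subgroup.le_normalizer).toEquiv
  rw [hcard] at h1
  rw [← h1]
  rfl

/-- `|K| = |N : K| + 1` -/
theorem card_eq_index_add_one
    (hC : ∀ k ∈ K, k ≠ 1 → Subgroup.centralizer ({k} : Set G) ≤ K)
    (hab : ∀ a ∈ K, ∀ b ∈ K, a * b = b * a)
    (χ₀ : ↥(Subgroup.normalizer (K : Set G)) → ℂ)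
    (hχ₀ : IsIrrCharacter ↥(Subgroup.normalizer (K : Set G)) χ₀)
    (hrel : ∃ k : ↥(Subgroup.normalizer (K : Set G)), (k : G) ∈ K ∧ χ₀ k ≠ χ₀ 1)
    (huniq : ∀ χ : ↥(Subgroup.normalizer (K : Set G)) → ℂ,
      IsIrrCharacter ↥(Subgroup.normalizer (K : Set G)) χ →
      (∃ k : ↥(Subgroup.normalizer (K : Set G)), (k : G) ∈ K ∧ χ k ≠ χ 1) → χ = χ₀) :
    Nat.card K = (K.subgroupOf (Subgroup.normalizer (K : Set G))).index + 1 := by
  have h1 := degree_of_unique K hC hab χ₀ hχ₀ hrel huniq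
  have h2 := Cfsg.Agent.Lib.Helper2.tifrob_degree_of_comm K hC hab χ₀ hχ₀ hrel
  have h3 := Subgroup.card_mul_index (K.subgroupOf (Subgroup.normalizer (K : Set G)))
  have hcard : Nat.card ↥(K.subgroupOf (Subgroup.normalizer (K : Set G))) = Nat.card K :=
    Nat.card_congr (Subgroup.subgroupOfEquivOfLe Subgroup.le_normalizer).toEquiv
  have hK0 : (Nat.card K : ℂ) ≠ 0 := Nat.cast_ne_zero.mpr Nat.card_pos.ne'
  rw [h1, ← h3, hcard, Nat.cast_mul, ← mul_assoc, inv_mul_cancel₀ hK0, one_mul] at h2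
  have h4 : ((Nat.card K : ℕ) : ℂ) =
      (((K.subgroupOf (Subgroup.normalizer (K : Set G))).index + 1 : ℕ) : ℂ) := by
    rw [Nat.cast_add, Nat.cast_one, ← h2]
    ring
  exact_mod_cast h4

end single

end Cfsg.Agent.Lib.Helper23.SibAb
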