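/-
helper23: T.I. abelian `p`-subgroup `K` with Frobenius normalizer: either exactly one relevant
irreducible character of `N_G(K)` (and then `K` is elementary abelian of order `|N:K| + 1`), or the
relevant characters form a coherent set.
-/
import Mathlib
import Cfsg.Prelude.Def_OddOrderLocal
import Cfsg.Prelude.Def_OddOrderChar
import Cfsg.Prelude.Def_Transfer
import Cfsg.Agent.Lib.Helper23.SibAb1
import Cfsg.Agent.Lib.Helper23.SibAb2
import Cfsg.Agent.Lib.Helper8.TIFrobSetup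

set_option autoImplicit false

namespace Cfsg.Agent.Lib.Helper23.SibAb

open Cfsg Cfsg.Agent.CharLib Cfsg.Agent.Lib.Helper10
open scoped ComplexConjugate

universe u

section conjsec

variable {G : Type u} [Group G] [Finite G] (K : Subgroup G)

/-- all non-identity elements of `K` are conjugate in the normalizer when `|K| = |N:K| + 1` -/
theorem isConj_of_card
    (hC : ∀ k ∈ K, k ≠ 1 → Subgroup.centralizer ({k} : Set G) ≤ K)
    (hab : ∀ a ∈ K, ∀ b ∈ K, a * b = b * a)
    (hidx : Nat.card K = (K.subgroupOf (Subgroup.normalizer (K : Set G))).index + 1)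
    (x y : ↥(Subgroup.normalizer (K : Set G))) (hx : (x : G) ∈ K) (hx1 : x ≠ 1)
    (hy : (y : G) ∈ K) (hy1 : y ≠ 1) : IsConj y x := by
  set Kn := K.subgroupOf (Subgroup.normalizer (K : Set G)) with hKn
  have hcard : Nat.card ↥Kn = Nat.card K :=
    Nat.card_congr (Subgroup.subgroupOfEquivOfLe Subgroup.le_normalizer).toEquiv
  have hx1' : (x : G) ≠ 1 := fun h => hx1 (Subtype.ext h)
  have hcent : Subgroup.centralizer ({x} : Set ↥(Subgroup.normalizer (K : Set G))) = Kn := by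
    ext n
    rw [Subgroup.mem_centralizer_singleton_iff, hKn, Subgroup.mem_subgroupOf]
    constructor
    · intro h
      apply hC (x : G) hx hx1'
      rw [Subgroup.mem_centralizer_singleton_iff]
      exact congrArg Subtype.val h
    · intro h
      apply Subtype.ext
      exact hab _ h _ hx
  have h1 := card_conj_mul_card_centralizer x
  rw [hcent, ← Subgroup.card_mul_index Kn, mul_comm] at h1
  have hKn0 : 0 < Nat.card ↥Kn := Nat.card_pos
  have h2 : Nat.card {z : ↥(Subgroup.normalizer (K : Set G)) // IsConj z x} = Kn.index :=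
    Nat.eq_of_mul_eq_mul_left hKn0 h1
  -- the conjugacy class inside `Kn \ {1}`
  have hsub : {z : ↥(Subgroup.normalizer (K : Set G)) | IsConj z x} ⊆
      (Kn : Set ↥(Subgroup.normalizer (K : Set G))) \ {1} := by
    intro z hz
    have hz' : IsConj x z := IsConj.symm hz
    obtain ⟨c, hc⟩ := isConj_iff.mp hz'
    refine ⟨?_, ?_⟩
    · rw [← hc]
      have hn : Kn.Normal := inferInstance
      exact hn.conj_mem x (Subgroup.mem_subgroupOf.mpr hx) c
    · intro h
      rw [Set.mem_singleton_iff] at h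
      apply hx1
      rw [h] at hc
      have : x = c⁻¹ * 1 * c := by rw [← hc]; group
      rw [this]
      group
  have hone : (1 : ↥(Subgroup.normalizer (K : Set G))) ∈
      (Kn : Set ↥(Subgroup.normalizer (K : Set G))) := Kn.one_mem
  have h3 : ((Kn : Set ↥(Subgroup.normalizer (K : Set G))) \ {1}).ncard = Kn.index := by
    rw [Set.ncard_sdiff_singleton_of_mem hone, ← _root_.Nat.card_coe_set_eq]
    change Nat.card ↥Kn - 1 = _
    rw [hcard, hidx]
    omega
  have h4 : {z : ↥(Subgroup.normalizer (K : Set G)) | IsConj z x}.ncard = Kn.index := by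
    rw [← _root_.Nat.card_coe_set_eq]
    exact h2
  have h5 := Set.eq_of_subset_of_ncard_le hsub (by rw [h3, h4]) (Set.toFinite _)
  have h6 : y ∈ (Kn : Set ↥(Subgroup.normalizer (K : Set G))) \ {1} :=
    ⟨Subgroup.mem_subgroupOf.mpr hy, hy1⟩
  rw [← h5] at h6
  exact h6

/-- exponent `p` -/
theorem pow_eq_one_of_card (p : ℕ) [hp : Fact p.Prime] (hKp : IsPGroup p K) (hK1 : K ≠ ⊥)
    (hC : ∀ k ∈ K, k ≠ 1 → Subgroup.centralizer ({k} : Set G) ≤ K)
    (hab : ∀ a ∈ K, ∀ b ∈ K, a * b = b * a)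
    (hidx : Nat.card K = (K.subgroupOf (Subgroup.normalizer (K : Set G))).index + 1) :
    ∀ a ∈ K, a ^ p = 1 := by
  have hdvd : p ∣ Nat.card K := by
    rcases hKp.card_eq_or_dvd with h | h
    · exfalso
      apply hK1
      exact Subgroup.card_eq_one.mp h
    · exact h
  obtain ⟨z, hz⟩ := exists_prime_orderOf_dvd_card' p hdvd
  have hz1 : z ≠ 1 := by
    intro h
    rw [h, orderOf_one] at hz
    exact hp.out.one_lt.ne hz
  intro a ha
  by_cases ha1 : a = 1
  · rw [ha1, one_pow]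
  · have hconj := isConj_of_card K hC hab hidx
      ⟨(z : G), Subgroup.le_normalizer z.2⟩ ⟨a, Subgroup.le_normalizer ha⟩ z.2
      (fun h => hz1 (Subtype.ext (congrArg (fun w : ↥(Subgroup.normalizer (K : Set G)) => (w : G)) h))) ha
      (fun h => ha1 (congrArg Subtype.val h))
    obtain ⟨c, hc⟩ := isConj_iff.mp hconj
    -- c * a' * c⁻¹ = z'
    have hzp : (⟨(z : G), Subgroup.le_normalizer z.2⟩ : ↥(Subgroup.normalizer (K : Set G))) ^ p = 1 := by
      apply Subtype.ext
      have : (z : G) ^ p = 1 := by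
        have h1 : z ^ p = 1 := by rw [← hz]; exact pow_orderOf_eq_one z
        exact_mod_cast congrArg Subtype.val h1
      exact this
    rw [← hc, conj_pow] at hzp
    have h2 : (⟨a, Subgroup.le_normalizer ha⟩ : ↥(Subgroup.normalizer (K : Set G))) ^ p = 1 := by
      have : (⟨a, Subgroup.le_normalizer ha⟩ : ↥(Subgroup.normalizer (K : Set G))) ^ p =
          c⁻¹ * (c * ⟨a, Subgroup.le_normalizer ha⟩ ^ p * c⁻¹) * c := by group
      rw [this, hzp]
      group
    exact congrArg Subtype.val h2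

end conjsec

section main

variable {G : Type u} [Group G] [Fintype G] (K : Subgroup G)
  [Fintype ↥(Subgroup.normalizer (K : Set G))]

open Classical in
/-- there is a relevant irreducible character -/
theorem exists_relevant (hK1 : K ≠ ⊥)
    (hC : ∀ k ∈ K, k ≠ 1 → Subgroup.centralizer ({k} : Set G) ≤ K) :
    ∃ χ : ↥(Subgroup.normalizer (K : Set G)) → ℂ,
      IsIrrCharacter ↥(Subgroup.normalizer (K : Set G)) χ ∧
      ∃ k : ↥(Subgroup.normalizer (K : Set G)), (k : G) ∈ K ∧ χ k ≠ χ 1 := by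
  set Kn := K.subgroupOf (Subgroup.normalizer (K : Set G)) with hKn
  have hKnbot : (⊥ : Subgroup ↥(Subgroup.normalizer (K : Set G))) < Kn := by
    rw [bot_lt_iff_ne_bot]
    intro h
    apply hK1
    rw [Subgroup.eq_bot_iff_forall]
    intro k hk
    have h1 : (⟨k, Subgroup.le_normalizer hk⟩ : ↥(Subgroup.normalizer (K : Set G))) ∈ Kn :=
      Subgroup.mem_subgroupOf.mpr hk
    rw [h, Subgroup.mem_bot] at h1
    exact congrArg Subtype.val h1
  obtain ⟨ψ, hψ⟩ := seqT_nonempty Kn ⊥ hKnbot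
  have h1 : indFun Kn ψ.1 ∈ inducedIrrAbove Kn ⊥ :=
    mem_seqS.mp (Finset.mem_image_of_mem _ hψ)
  obtain ⟨h2, h3, -⟩ := Cfsg.Agent.Lib.Helper8.TIFrobSetup.tifrob_mem_props K hC h1
  exact ⟨_, h2, h3⟩

/-- the relevant characters are exactly those induced from the non-principal irreducible characters
of `K` -/
theorem relevant_eq_inducedIrrAbove
    (hC : ∀ k ∈ K, k ≠ 1 → Subgroup.centralizer ({k} : Set G) ≤ K) :
    {χ : ↥(Subgroup.normalizer (K : Set G)) → ℂ |
      IsIrrCharacter ↥(Subgroup.normalizer (K : Set G)) χ ∧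
      ∃ x : ↥(Subgroup.normalizer (K : Set G)), (x : G) ∈ K ∧ χ x ≠ χ 1} =
    inducedIrrAbove (K.subgroupOf (Subgroup.normalizer (K : Set G))) ⊥ := by
  ext χ
  constructor
  · rintro ⟨h1, h2⟩
    obtain ⟨τ, hτ, hτ1, rfl⟩ := Cfsg.Agent.Lib.Helper2.tifrob_exists_induced K hC χ h1 h2
    refine ⟨τ, hτ, hτ1, ?_, rfl⟩
    intro a ha
    rw [Subgroup.mem_bot] at ha
    have : a = 1 := Subtype.ext ha
    rw [this]
  · intro h
    obtain ⟨h1, h2, -⟩ := Cfsg.Agent.Lib.Helper8.TIFrobSetup.tifrob_mem_props K hC h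
    exact ⟨h1, h2⟩

/-- The abelian case of Sibley's theorem for a T.I. `p`-subgroup with Frobenius normalizer. -/
theorem sibley_of_comm (p : ℕ) [hp : Fact p.Prime] (hKp : IsPGroup p K) (hK1 : K ≠ ⊥)
    (hTI : IsTISubset (K : Set G))
    (hC : ∀ k ∈ K, k ≠ 1 → Subgroup.centralizer ({k} : Set G) ≤ K)
    (hab : ∀ a ∈ K, ∀ b ∈ K, a * b = b * a) :
    (Nat.card {χ : ↥(Subgroup.normalizer (K : Set G)) → ℂ //
        IsIrrCharacter ↥(Subgroup.normalizer (K : Set G)) χ ∧
        ∃ x : ↥(Subgroup.normalizer (K : Set G)), (x : G) ∈ K ∧ χ x ≠ χ 1} = 1 ∧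
      IsElementaryAbelian p K ∧
      Nat.card K = (K.subgroupOf (Subgroup.normalizer (K : Set G))).index + 1) ∨
    IsCoherent {χ : ↥(Subgroup.normalizer (K : Set G)) → ℂ |
        IsIrrCharacter ↥(Subgroup.normalizer (K : Set G)) χ ∧
        ∃ x : ↥(Subgroup.normalizer (K : Set G)), (x : G) ∈ K ∧ χ x ≠ χ 1} {1}ᶜ
      (fun α => indFun (Subgroup.normalizer (K : Set G)) α) := by
  set S : Set (↥(Subgroup.normalizer (K : Set G)) → ℂ) :=
    {χ | IsIrrCharacter ↥(Subgroup.normalizer (K : Set G)) χ ∧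
        ∃ x : ↥(Subgroup.normalizer (K : Set G)), (x : G) ∈ K ∧ χ x ≠ χ 1} with hS
  by_cases h2 : ∃ χ ∈ S, ∃ ξ ∈ S, χ ≠ ξ
  · right
    apply coherent_of_equal_degree K hTI S (fun χ h => h.1)
      (fun χ h x hx => Cfsg.Agent.Lib.Helper2.tifrob_vanish K hC χ h.1 h.2 x hx) ?_ h2
    intro χ hχ ξ hξ
    rw [Cfsg.Agent.Lib.Helper2.tifrob_degree_of_comm K hC hab χ hχ.1 hχ.2,
      Cfsg.Agent.Lib.Helper2.tifrob_degree_of_comm K hC hab ξ hξ.1 hξ.2]
  · left
    push Not at h2
    obtain ⟨χ₀, hχ₀, hrel⟩ := exists_relevant K hK1 hC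
    have huniq : ∀ χ : ↥(Subgroup.normalizer (K : Set G)) → ℂ,
        IsIrrCharacter ↥(Subgroup.normalizer (K : Set G)) χ →
        (∃ k : ↥(Subgroup.normalizer (K : Set G)), (k : G) ∈ K ∧ χ k ≠ χ 1) → χ = χ₀ :=
      fun χ h1 h2' => h2 χ ⟨h1, h2'⟩ χ₀ ⟨hχ₀, hrel⟩
    have hidx := card_eq_index_add_one K hC hab χ₀ hχ₀ hrel huniq
    refine ⟨?_, ⟨?_, ?_⟩, hidx⟩
    · rw [Nat.card_eq_one_iff_unique]
      refine ⟨⟨?_⟩, ⟨⟨χ₀, hχ₀, hrel⟩⟩⟩
      rintro ⟨a, ha⟩ ⟨b, hb⟩
      apply Subtype.ext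
      exact h2 a ha b hb
    · refine ⟨⟨?_⟩⟩
      rintro ⟨a, ha⟩ ⟨b, hb⟩
      apply Subtype.ext
      exact hab a ha b hb
    · exact pow_eq_one_of_card K p hKp hK1 hC hab hidx

end main

end Cfsg.Agent.Lib.Helper23.SibAb
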