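import Mathlib

/-!
# Actions of a group `A` on a group `F` by automorphisms, given by `φ : A →* MulAut F`

Fixed-point subgroups, invariant subgroups, induced actions on invariant subgroups and on
quotients by invariant normal subgroups; fixed points of `p`-groups on invariant subsets.
-/

set_option autoImplicit false

namespace Cfsg.Agent.Lib.Helper23.WAct

universe u v

variable {A : Type v} {F : Type u} [Group A] [Group F] (φ : A →* MulAut F)

/-- fixed points in `F` of the elements of `S ⊆ A` -/
def fix (S : Set A) : Subgroup F where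
  carrier := {f | ∀ a ∈ S, φ a f = f}
  one_mem' := fun a _ => map_one _
  mul_mem' := by
    intro f g hf hg a ha
    rw [map_mul, hf a ha, hg a ha]
  inv_mem' := by
    intro f hf a ha
    rw [map_inv, hf a ha]

theorem mem_fix {S : Set A} {f : F} : f ∈ fix φ S ↔ ∀ a ∈ S, φ a f = f := Iff.rfl

theorem fix_anti {S T : Set A} (h : S ⊆ T) : fix φ T ≤ fix φ S :=
  fun _ hf a ha => hf a (h ha)

theorem fix_empty : fix φ (∅ : Set A) = ⊤ := by
  ext f
  simp [mem_fix]

theorem fix_union (S T : Set A) : fix φ (S ∪ T) = fix φ S ⊓ fix φ T := by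
  ext f
  simp only [mem_fix, Subgroup.mem_inf, Set.mem_union]
  constructor
  · intro h
    exact ⟨fun a ha => h a (Or.inl ha), fun a ha => h a (Or.inr ha)⟩
  · rintro ⟨h1, h2⟩ a (ha | ha)
    · exact h1 a ha
    · exact h2 a ha

theorem mem_fix_singleton {a : A} {f : F} : f ∈ fix φ {a} ↔ φ a f = f := by
  simp [mem_fix]

theorem mem_fix_pair {a b : A} {f : F} : f ∈ fix φ {a, b} ↔ φ a f = f ∧ φ b f = f := by
  simp [mem_fix]

/-- the set of elements of `A` fixing `f` is a subgroup -/
def stab (f : F) : Subgroup A where
  carrier := {a | φ a f = f}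
  one_mem' := by simp
  mul_mem' := by
    intro a b ha hb
    show φ (a * b) f = f
    rw [map_mul, MulAut.mul_apply, hb, ha]
  inv_mem' := by
    intro a ha
    show φ a⁻¹ f = f
    rw [map_inv]
    exact (MulEquiv.symm_apply_eq _).mpr (ha.symm)

theorem mem_stab {a : A} {f : F} : a ∈ stab φ f ↔ φ a f = f := Iff.rfl

theorem fix_closure (S : Set A) : fix φ (Subgroup.closure S : Set A) = fix φ S := by
  apply le_antisymm
  · exact fix_anti φ Subgroup.subset_closure
  · intro f hf a ha
    have : Subgroup.closure S ≤ stab φ f := (Subgroup.closure_le _).mpr (fun s hs => hf s hs)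
    exact this ha

theorem fix_comp_closure (S : Set A) :
    fix (φ.comp (Subgroup.closure S).subtype) Set.univ = fix φ S := by
  have e : fix (φ.comp (Subgroup.closure S).subtype) Set.univ
      = fix φ (Subgroup.closure S : Set A) := by
    ext f
    constructor
    · intro h a ha
      exact h ⟨a, ha⟩ (Set.mem_univ _)
    · intro h a _
      exact h a.1 a.2
  rw [e, fix_closure]

/-- `K` is invariant under the action -/
def Inv (K : Subgroup F) : Prop := ∀ a : A, ∀ k ∈ K, φ a k ∈ K

theorem Inv.comp {K : Subgroup F} (hK : Inv φ K) {B : Type*} [Group B] (ι : B →* A) :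
    Inv (φ.comp ι) K := fun b k hk => hK (ι b) k hk

theorem inv_top : Inv φ (⊤ : Subgroup F) := fun _ _ _ => Subgroup.mem_top _

theorem inv_bot : Inv φ (⊥ : Subgroup F) := by
  intro a k hk
  rw [Subgroup.mem_bot] at hk ⊢
  rw [hk, map_one]

theorem inv_center : Inv φ (Subgroup.center F) := by
  intro a k hk
  rw [Subgroup.mem_center_iff] at hk ⊢
  intro g
  have h := hk ((φ a).symm g)
  have := congrArg (φ a) h
  simpa using this

theorem inv_normalizer {K : Subgroup F} (hK : Inv φ K) :
    Inv φ (Subgroup.normalizer (K : Set F)) := by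
  intro a n hn
  rw [Subgroup.mem_normalizer_iff] at hn ⊢
  intro g
  have key : ∀ y : F, y ∈ K ↔ φ a y ∈ K := by
    intro y
    constructor
    · exact hK a y
    · intro h
      have := hK a⁻¹ _ h
      rwa [map_inv, MulAut.inv_apply, MulEquiv.symm_apply_apply] at this
  have h1 := hn ((φ a).symm g)
  rw [key ((φ a).symm g), key (n * (φ a).symm g * n⁻¹)] at h1
  simpa using h1

/-- if the action is commutative, fixed-point subgroups are invariant -/
theorem inv_fix_of_comm (hcomm : ∀ a b : A, φ (a * b) = φ (b * a)) (S : Set A) :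
    Inv φ (fix φ S) := by
  intro a f hf s hs
  have h1 : φ s (φ a f) = φ (s * a) f := by rw [map_mul, MulAut.mul_apply]
  have h2 : φ (a * s) f = φ a (φ s f) := by rw [map_mul, MulAut.mul_apply]
  rw [h1, hcomm, h2, hf s hs]

/-- the action restricted to an invariant subgroup -/
def sub (K : Subgroup F) (hK : Inv φ K) : A →* MulAut K where
  toFun a :=
    { toFun := fun k => ⟨φ a k, hK a k k.2⟩
      invFun := fun k => ⟨φ a⁻¹ k, hK a⁻¹ k k.2⟩
      left_inv := by
        intro k
        apply Subtype.ext
        show φ a⁻¹ (φ a k) = k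
        rw [map_inv, MulAut.inv_apply, MulEquiv.symm_apply_apply]
      right_inv := by
        intro k
        apply Subtype.ext
        show φ a (φ a⁻¹ k) = k
        rw [map_inv, MulAut.inv_apply, MulEquiv.apply_symm_apply]
      map_mul' := by
        intro k l
        apply Subtype.ext
        show φ a (k * l) = φ a k * φ a l
        rw [map_mul] }
  map_one' := by
    ext k
    show (φ 1) k = k
    rw [map_one, MulAut.one_apply]
  map_mul' := by
    intro a b
    ext k
    show φ (a * b) k = φ a (φ b k)
    rw [map_mul, MulAut.mul_apply]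

@[simp] theorem sub_apply (K : Subgroup F) (hK : Inv φ K) (a : A) (k : K) :
    ((sub φ K hK a k : K) : F) = φ a k := rfl

theorem sub_congr (K : Subgroup F) (hK : Inv φ K) {a b : A} (h : φ a = φ b) :
    sub φ K hK a = sub φ K hK b := by
  ext k
  show φ a k = φ b k
  rw [h]

theorem sub_eq_one (K : Subgroup F) (hK : Inv φ K) {a : A} (h : φ a = 1) :
    sub φ K hK a = 1 := by
  ext k
  show φ a k = k
  rw [h, MulAut.one_apply]

theorem sub_comp (K : Subgroup F) (hK : Inv φ K) {B : Type*} [Group B] (ι : B →* A) :
    sub (φ.comp ι) K (hK.comp φ ι) = (sub φ K hK).comp ι := by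
  ext b k
  rfl

theorem map_fix_sub (K : Subgroup F) (hK : Inv φ K) (S : Set A) :
    (fix (sub φ K hK) S).map K.subtype = fix φ S ⊓ K := by
  ext f
  constructor
  · rintro ⟨k, hk, rfl⟩
    refine ⟨fun a ha => ?_, k.2⟩
    have := hk a ha
    exact congrArg Subtype.val this
  · rintro ⟨hf, hfK⟩
    refine ⟨⟨f, hfK⟩, fun a ha => ?_, rfl⟩
    apply Subtype.ext
    exact hf a ha

theorem card_fix_sub (K : Subgroup F) (hK : Inv φ K) (S : Set A) :
    Nat.card (fix (sub φ K hK) S) = Nat.card (fix φ S ⊓ K : Subgroup F) := by
  rw [← map_fix_sub, Subgroup.card_map_of_injective K.subtype_injective]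

/-- the action induced on the quotient by an invariant normal subgroup -/
def quot (K : Subgroup F) [K.Normal] (hK : Inv φ K) : A →* MulAut (F ⧸ K) where
  toFun a :=
    { toFun := QuotientGroup.map K K (φ a).toMonoidHom (fun k hk => hK a k hk)
      invFun := QuotientGroup.map K K (φ a⁻¹).toMonoidHom (fun k hk => hK a⁻¹ k hk)
      left_inv := by
        intro q
        induction q using QuotientGroup.induction_on with
        | H f =>
          show ((φ a⁻¹ (φ a f) : F) : F ⧸ K) = (f : F ⧸ K)
          rw [map_inv, MulAut.inv_apply, MulEquiv.symm_apply_apply]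
      right_inv := by
        intro q
        induction q using QuotientGroup.induction_on with
        | H f =>
          show ((φ a (φ a⁻¹ f) : F) : F ⧸ K) = (f : F ⧸ K)
          rw [map_inv, MulAut.inv_apply, MulEquiv.apply_symm_apply]
      map_mul' := fun q q' => map_mul _ q q' }
  map_one' := by
    ext q
    induction q using QuotientGroup.induction_on with
    | H f =>
      show ((φ 1 f : F) : F ⧸ K) = (f : F ⧸ K)
      rw [map_one, MulAut.one_apply]
  map_mul' := by
    intro a b
    ext q
    induction q using QuotientGroup.induction_on with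
    | H f =>
      show ((φ (a * b) f : F) : F ⧸ K) = ((φ a (φ b f) : F) : F ⧸ K)
      rw [map_mul, MulAut.mul_apply]

@[simp] theorem quot_mk (K : Subgroup F) [K.Normal] (hK : Inv φ K) (a : A) (f : F) :
    quot φ K hK a (f : F ⧸ K) = ((φ a f : F) : F ⧸ K) := rfl

theorem quot_congr (K : Subgroup F) [K.Normal] (hK : Inv φ K) {a b : A} (h : φ a = φ b) :
    quot φ K hK a = quot φ K hK b := by
  ext q
  induction q using QuotientGroup.induction_on with
  | H f => rw [quot_mk, quot_mk, h]

theorem quot_eq_one (K : Subgroup F) [K.Normal] (hK : Inv φ K) {a : A} (h : φ a = 1) :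
    quot φ K hK a = 1 := by
  ext q
  induction q using QuotientGroup.induction_on with
  | H f => rw [quot_mk, h, MulAut.one_apply, MulAut.one_apply]

theorem quot_comp (K : Subgroup F) [K.Normal] (hK : Inv φ K) {B : Type*} [Group B] (ι : B →* A) :
    quot (φ.comp ι) K (hK.comp φ ι) = (quot φ K hK).comp ι := by
  ext b q
  induction q using QuotientGroup.induction_on with
  | H f => rfl

end Cfsg.Agent.Lib.Helper23.WAct
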