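import Mathlib
import Cfsg.Agent.Lib.Helper23.WAct1

/-!
# Coprime action of a `p`-group: fixed points on invariant subsets, fixed points in quotients
-/

set_option autoImplicit false

namespace Cfsg.Agent.Lib.Helper23.WAct

universe u v

variable {A : Type v} {F : Type u} [Group A] [Group F] (φ : A →* MulAut F)
variable {p : ℕ} [hp : Fact p.Prime]

/-- a `p`-group acting on an invariant finite subset of size prime to `p` has a fixed point there -/
theorem exists_fixed_in (hA : IsPGroup p A) (X : Set F) (hX : ∀ a : A, ∀ f ∈ X, φ a f ∈ X)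
    (hcard : ¬ p ∣ Nat.card X) : ∃ f ∈ X, ∀ a : A, φ a f = f := by
  let _ : MulAction A X :=
    { smul := fun a f => ⟨φ a f.1, hX a f.1 f.2⟩
      one_smul := by
        intro f
        apply Subtype.ext
        show φ 1 f.1 = f.1
        rw [map_one, MulAut.one_apply]
      mul_smul := by
        intro a b f
        apply Subtype.ext
        show φ (a * b) f.1 = φ a (φ b f.1)
        rw [map_mul, MulAut.mul_apply] }
  obtain ⟨f, hf⟩ := hA.nonempty_fixed_point_of_prime_not_dvd_card X hcard
  refine ⟨f.1, f.2, fun a => ?_⟩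
  have := hf a
  exact congrArg Subtype.val this

/-- fibres of the quotient map have `|K|` elements -/
theorem card_fiber_mk (K : Subgroup F) [K.Normal] (q : F ⧸ K) :
    Nat.card {f : F | (f : F ⧸ K) = q} = Nat.card K := by
  obtain ⟨f₀, rfl⟩ := QuotientGroup.mk_surjective q
  apply Nat.card_congr
  refine ⟨fun f => ⟨f₀⁻¹ * f.1, ?_⟩, fun k => ⟨f₀ * k.1, ?_⟩, ?_, ?_⟩
  · have := f.2
    exact QuotientGroup.eq.mp this.symm
  · show ((f₀ * k.1 : F) : F ⧸ K) = (f₀ : F ⧸ K)
    rw [QuotientGroup.mk_mul, (QuotientGroup.eq_one_iff k.1).mpr k.2, mul_one]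
  · intro f
    apply Subtype.ext
    show f₀ * (f₀⁻¹ * f.1) = f.1
    group
  · intro k
    apply Subtype.ext
    show f₀⁻¹ * (f₀ * k.1) = k.1
    group

/-- **fixed points in quotients** (whole group acting): for a `p`-group `A` acting on `F` and an
invariant normal subgroup `K` of order prime to `p`,
`|C_F(A)| = |C_K(A)| * |C_{F/K}(A)|`. -/
theorem card_fix_univ_eq_mul (hA : IsPGroup p A) (K : Subgroup F) [K.Normal] (hK : Inv φ K)
    (hcop : ¬ p ∣ Nat.card K) :
    Nat.card (fix φ Set.univ) =
      Nat.card (fix (sub φ K hK) Set.univ) * Nat.card (fix (quot φ K hK) Set.univ) := by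
  let ψ : fix φ Set.univ →* F ⧸ K := (QuotientGroup.mk' K).comp (fix φ Set.univ).subtype
  have hker : Nat.card ψ.ker = Nat.card (fix (sub φ K hK) Set.univ) := by
    apply Nat.card_congr
    refine ⟨fun f => ⟨⟨f.1.1, ?_⟩, ?_⟩, fun k => ⟨⟨k.1.1, ?_⟩, ?_⟩, ?_, ?_⟩
    · have h : ψ f.1 = 1 := f.2
      exact (QuotientGroup.eq_one_iff _).mp h
    · intro a ha
      apply Subtype.ext
      exact f.1.2 a ha
    · intro a ha
      have := k.2 a ha
      exact congrArg Subtype.val this
    · show ψ _ = 1
      exact (QuotientGroup.eq_one_iff _).mpr k.1.2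
    · intro f; rfl
    · intro k; rfl
  have hrange : ψ.range = fix (quot φ K hK) Set.univ := by
    ext q
    constructor
    · rintro ⟨f, rfl⟩ a ha
      show quot φ K hK a ((f.1 : F) : F ⧸ K) = ((f.1 : F) : F ⧸ K)
      rw [quot_mk, f.2 a ha]
    · intro hq
      have hX : ∀ a : A, ∀ f ∈ {f : F | (f : F ⧸ K) = q}, φ a f ∈ {f : F | (f : F ⧸ K) = q} := by
        intro a f hf
        show ((φ a f : F) : F ⧸ K) = q
        rw [← quot_mk φ K hK, hf]
        exact hq a (Set.mem_univ _)
      have hc : ¬ p ∣ Nat.card {f : F | (f : F ⧸ K) = q} := by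
        rw [card_fiber_mk]; exact hcop
      obtain ⟨f, hf, hfix⟩ := exists_fixed_in φ hA _ hX hc
      exact ⟨⟨f, fun a _ => hfix a⟩, hf⟩
  rw [← hker, ← hrange, ← Subgroup.index_ker, mul_comm]
  exact (Subgroup.index_mul_card _).symm

/-- **fixed points in quotients**, for the fixed points of a subset `S ⊆ A`. -/
theorem card_fix_eq_mul (hA : IsPGroup p A) (K : Subgroup F) [K.Normal] (hK : Inv φ K)
    (hcop : ¬ p ∣ Nat.card K) (S : Set A) :
    Nat.card (fix φ S) =
      Nat.card (fix (sub φ K hK) S) * Nat.card (fix (quot φ K hK) S) := by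
  have h := card_fix_univ_eq_mul (φ.comp (Subgroup.closure S).subtype)
    (hA.to_subgroup (Subgroup.closure S)) K (hK.comp φ _) hcop
  rw [sub_comp, quot_comp, fix_comp_closure, fix_comp_closure, fix_comp_closure] at h
  exact h

end Cfsg.Agent.Lib.Helper23.WAct
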