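/-
helper23: a non-abelian T.I. `p`-subgroup (`p` odd) with Frobenius normalizer: the normalizer has odd
order and the Frobenius data (hypotheses of Sibley's theorem S1524) hold.
-/
import Mathlib
import Cfsg.Prelude.Def_OddOrderLocal
import Cfsg.Agent.Lib.Helper8.FrobKernel
import Cfsg.Agent.Lib.Helper8.TIFrobFpf

set_option autoImplicit false

namespace Cfsg.Agent.Lib.Helper23.SibAb

universe u

variable {G : Type u} [Group G] [Finite G] (K : Subgroup G)

omit [Finite G] in
theorem normalizer_conj_mem :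
    ∀ x ∈ Subgroup.normalizer (K : Set G), ∀ h ∈ K, x * h * x⁻¹ ∈ K := by
  intro x hx h hh
  exact (Subgroup.mem_normalizer_iff.mp hx h).mp hh

/-- Frobenius data for the normalizer of `K` -/
theorem frob_data (hlt : K < Subgroup.normalizer (K : Set G))
    (hC : ∀ k ∈ K, k ≠ 1 → Subgroup.centralizer ({k} : Set G) ≤ K) :
    Group.IsNilpotent K ∧
      ∃ W₁ : Subgroup G, W₁ ≤ Subgroup.normalizer (K : Set G) ∧ W₁ ≠ ⊥ ∧ K ⊓ W₁ = ⊥ ∧
        K ⊔ W₁ = Subgroup.normalizer (K : Set G) ∧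
        (∀ w ∈ W₁, w ≠ 1 → ∀ h ∈ K, w * h = h * w → h = 1) := by
  obtain ⟨-, hnil, hW⟩ := Cfsg.Agent.Lib.Helper8.FrobKernel.frob_kernel_structure
    (Subgroup.normalizer (K : Set G)) K hlt (normalizer_conj_mem K)
    (fun h hh hh1 => inf_le_right.trans (hC h hh hh1))
  exact ⟨hnil, hW⟩

/-- a non-abelian kernel of odd order forces `|N_G(K)|` odd -/
theorem odd_card_normalizer_of_noncomm (hKodd : Odd (Nat.card K))
    (hC : ∀ k ∈ K, k ≠ 1 → Subgroup.centralizer ({k} : Set G) ≤ K)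
    (hna : ¬ ∀ a ∈ K, ∀ b ∈ K, a * b = b * a) :
    Odd (Nat.card ↥(Subgroup.normalizer (K : Set G))) := by
  set Kn := K.subgroupOf (Subgroup.normalizer (K : Set G)) with hKn
  have hn : Kn.Normal := inferInstance
  have hcard : Nat.card ↥Kn = Nat.card K :=
    Nat.card_congr (Subgroup.subgroupOfEquivOfLe Subgroup.le_normalizer).toEquiv
  apply Cfsg.Agent.Lib.Helper8.TIFrobFpf.odd_card_of_nonabelian_kernel Kn (by rw [hcard]; exact hKodd)
  · intro h
    apply hna
    intro a ha b hb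
    have := h ⟨a, Subgroup.le_normalizer ha⟩ (Subgroup.mem_subgroupOf.mpr ha)
      ⟨b, Subgroup.le_normalizer hb⟩ (Subgroup.mem_subgroupOf.mpr hb)
    exact congrArg Subtype.val this
  · intro k hk hk1 x hx
    rw [hKn, Subgroup.mem_subgroupOf] at hk ⊢
    apply hC (k : G) hk (fun h => hk1 (Subtype.ext h))
    rw [Subgroup.mem_centralizer_singleton_iff]
    exact congrArg Subtype.val hx

/-- a nontrivial `p`-group, `p` odd, has odd order -/
theorem odd_card_of_isPGroup (p : ℕ) [hp : Fact p.Prime] (hp2 : p ≠ 2) (hKp : IsPGroup p K) :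
    Odd (Nat.card K) := by
  obtain ⟨n, hn⟩ := IsPGroup.exists_card_eq hKp
  rw [hn]
  exact Odd.pow (hp.out.odd_of_ne_two hp2)

end Cfsg.Agent.Lib.Helper23.SibAb
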