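/-
helper23: T.I. nilpotent subgroup `K` with Frobenius normalizer `N = N_G(K)` (S1534): the abelian case,
and the reduction of the non-abelian case to Feit's theorem (`Feit.feit_induced`).
-/
import Mathlib
import Cfsg.Prelude.Def_OddOrderLocal
import Cfsg.Prelude.Def_OddOrderChar
import Cfsg.Prelude.Def_Transfer
import Cfsg.Agent.Lib.Helper23.SibAb3
import Cfsg.Agent.Lib.Helper23.SibNonab
import Cfsg.Agent.Lib.Helper23.FeitF

set_option autoImplicit false

namespace Cfsg.Agent.Lib.Helper23.SibAb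

open Cfsg Cfsg.Agent.CharLib Cfsg.Agent.Lib.Helper10
open scoped ComplexConjugate commutatorElement

universe u

section conjsec2

variable {G : Type u} [Group G] [Finite G] (K : Subgroup G)

/-- exponent `p` for any prime `p` dividing `|K|` -/
theorem pow_eq_one_of_card' (p : ℕ) [hp : Fact p.Prime] (hdvd : p ∣ Nat.card K)
    (hC : ∀ k ∈ K, k ≠ 1 → Subgroup.centralizer ({k} : Set G) ≤ K)
    (hab : ∀ a ∈ K, ∀ b ∈ K, a * b = b * a)
    (hidx : Nat.card K = (K.subgroupOf (Subgroup.normalizer (K : Set G))).index + 1) :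
    ∀ a ∈ K, a ^ p = 1 := by
  obtain ⟨z, hz⟩ := exists_prime_orderOf_dvd_card' p hdvd
  have hz1 : z ≠ 1 := by
    intro h
    rw [h, orderOf_one] at hz
    exact hp.out.one_lt.ne hz
  intro a ha
  by_cases ha1 : a = 1
  · rw [ha1, one_pow]
  · have hconj := isConj_of_card K hC hab hidx
      ⟨(z : G), Subgroup.le_normalizer z.2⟩ ⟨a, Subgroup.le_normalizer ha⟩ z.2
      (fun h => hz1 (Subtype.ext (congrArg (fun w : ↥(Subgroup.normalizer (K : Set G)) => (w : G)) h))) ha
      (fun h => ha1 (congrArg Subtype.val h))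
    obtain ⟨c, hc⟩ := isConj_iff.mp hconj
    have hzp : (⟨(z : G), Subgroup.le_normalizer z.2⟩ : ↥(Subgroup.normalizer (K : Set G))) ^ p = 1 := by
      apply Subtype.ext
      have : (z : G) ^ p = 1 := by
        have h1 : z ^ p = 1 := by rw [← hz]; exact pow_orderOf_eq_one z
        exact_mod_cast congrArg Subtype.val h1
      exact this
    rw [← hc, conj_pow] at hzp
    have h2 : (⟨a, Subgroup.le_normalizer ha⟩ : ↥(Subgroup.normalizer (K : Set G))) ^ p = 1 := by
      have : (⟨a, Subgroup.le_normalizer ha⟩ : ↥(Subgroup.normalizer (K : Set G))) ^ p =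
          c⁻¹ * (c * ⟨a, Subgroup.le_normalizer ha⟩ ^ p * c⁻¹) * c := by group
      rw [this, hzp]
      group
    exact congrArg Subtype.val h2

end conjsec2

section abel

variable {G : Type u} [Group G] [Fintype G] (K : Subgroup G)
  [Fintype ↥(Subgroup.normalizer (K : Set G))]

/-- The abelian case of S1534. -/
theorem sibley_of_comm' (hK1 : K ≠ ⊥) (hTI : IsTISubset (K : Set G))
    (hC : ∀ k ∈ K, k ≠ 1 → Subgroup.centralizer ({k} : Set G) ≤ K)
    (hab : ∀ a ∈ K, ∀ b ∈ K, a * b = b * a) :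
    (Nat.card {χ : ↥(Subgroup.normalizer (K : Set G)) → ℂ //
        IsIrrCharacter ↥(Subgroup.normalizer (K : Set G)) χ ∧
        ∃ k : ↥(Subgroup.normalizer (K : Set G)), (k : G) ∈ K ∧ χ k ≠ χ 1} = 1 ∧
      Nat.card K = (K.subgroupOf (Subgroup.normalizer (K : Set G))).index + 1 ∧
      ∃ p : ℕ, p.Prime ∧ IsElementaryAbelian p K) ∨
    IsCoherent {χ : ↥(Subgroup.normalizer (K : Set G)) → ℂ |
        IsIrrCharacter ↥(Subgroup.normalizer (K : Set G)) χ ∧
        ∃ k : ↥(Subgroup.normalizer (K : Set G)), (k : G) ∈ K ∧ χ k ≠ χ 1} {1}ᶜ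
      (fun α => indFun (Subgroup.normalizer (K : Set G)) α) := by
  set S : Set (↥(Subgroup.normalizer (K : Set G)) → ℂ) :=
    {χ | IsIrrCharacter ↥(Subgroup.normalizer (K : Set G)) χ ∧
        ∃ x : ↥(Subgroup.normalizer (K : Set G)), (x : G) ∈ K ∧ χ x ≠ χ 1} with hS
  by_cases h2 : ∃ χ ∈ S, ∃ ξ ∈ S, χ ≠ ξ
  · right
    apply coherent_of_equal_degree K hTI S (fun χ h => h.1)
      (fun χ h x hx => Cfsg.Agent.Lib.Helper2.tifrob_vanish K hC χ h.1 h.2 x hx) ?_ h2
    intro χ hχ ξ hξ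
    rw [Cfsg.Agent.Lib.Helper2.tifrob_degree_of_comm K hC hab χ hχ.1 hχ.2,
      Cfsg.Agent.Lib.Helper2.tifrob_degree_of_comm K hC hab ξ hξ.1 hξ.2]
  · left
    push Not at h2
    obtain ⟨χ₀, hχ₀, hrel⟩ := exists_relevant K hK1 hC
    have huniq : ∀ χ : ↥(Subgroup.normalizer (K : Set G)) → ℂ,
        IsIrrCharacter ↥(Subgroup.normalizer (K : Set G)) χ →
        (∃ k : ↥(Subgroup.normalizer (K : Set G)), (k : G) ∈ K ∧ χ k ≠ χ 1) → χ = χ₀ :=
      fun χ h1 h2' => h2 χ ⟨h1, h2'⟩ χ₀ ⟨hχ₀, hrel⟩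
    have hidx := card_eq_index_add_one K hC hab χ₀ hχ₀ hrel huniq
    have hcard1 : Nat.card K ≠ 1 := fun h => hK1 (Subgroup.card_eq_one.mp h)
    obtain ⟨p, hp, hpd⟩ := Nat.exists_prime_and_dvd hcard1
    have : Fact p.Prime := ⟨hp⟩
    refine ⟨?_, hidx, p, hp, ⟨?_, ?_⟩⟩
    · rw [Nat.card_eq_one_iff_unique]
      refine ⟨⟨?_⟩, ⟨⟨χ₀, hχ₀, hrel⟩⟩⟩
      rintro ⟨a, ha⟩ ⟨b, hb⟩
      apply Subtype.ext
      exact h2 a ha b hb
    · refine ⟨⟨?_⟩⟩
      rintro ⟨a, ha⟩ ⟨b, hb⟩
      apply Subtype.ext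
      exact hab a ha b hb
    · exact pow_eq_one_of_card' K p hpd hC hab hidx

end abel

section iso

/-- the index of the commutator subgroup is an isomorphism invariant -/
theorem index_commutator_congr {A B : Type*} [Group A] [Group B] (e : A ≃* B) :
    (commutator A).index = (commutator B).index := by
  rw [Subgroup.index_eq_card, Subgroup.index_eq_card]
  exact Nat.card_congr e.abelianizationCongr.toEquiv

/-- `⁅H, H⁆.subgroupOf H` is the commutator subgroup of `↥H` -/
theorem commutator_subgroupOf_self {X : Type*} [Group X] (H : Subgroup X) :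
    (⁅H, H⁆).subgroupOf H = commutator ↥H := by
  rw [← Subgroup.map_subtype_commutator]
  unfold Subgroup.subgroupOf
  exact Subgroup.comap_map_eq_self_of_injective (Subgroup.subtype_injective H) _

end iso

section nonab

variable {G : Type u} [Group G] [Fintype G] (K : Subgroup G)
  [Fintype ↥(Subgroup.normalizer (K : Set G))]

open Cfsg.Agent.Lib.Helper23.Feit in
/-- The non-abelian case of S1534, via Feit's theorem. -/
theorem sibley_of_noncomm (hK1 : K ≠ ⊥) (hnil : Group.IsNilpotent K)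
    (hTI : IsTISubset (K : Set G)) (hlt : K < Subgroup.normalizer (K : Set G))
    (hC : ∀ k ∈ K, k ≠ 1 → Subgroup.centralizer ({k} : Set G) ≤ K)
    (hna : ¬ ∀ a ∈ K, ∀ b ∈ K, a * b = b * a) :
    IsCoherent (inducedIrrAbove (K.subgroupOf (Subgroup.normalizer (K : Set G))) ⊥) {1}ᶜ
        (fun α : ↥(Subgroup.normalizer (K : Set G)) → ℂ =>
          indFun (Subgroup.normalizer (K : Set G)) α) ∨
      ((∃ p : ℕ, p.Prime ∧ IsPGroup p K) ∧
        ((⁅K, K⁆).subgroupOf K).index ≤
          4 * (K.subgroupOf (Subgroup.normalizer (K : Set G))).index ^ 2 + 1) := by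
  set Kn := K.subgroupOf (Subgroup.normalizer (K : Set G)) with hKn
  have hKnn : Kn.Normal := inferInstance
  let e : ↥Kn ≃* ↥K := Subgroup.subgroupOfEquivOfLe hlt.le
  have hnilKn : Group.IsNilpotent ↥Kn := Group.nilpotent_of_mulEquiv e.symm
  obtain ⟨W, hinf, hsup, hfpf⟩ := Cfsg.Agent.Lib.Helper2.tifrob_exists_complement K hC
  have hKn1 : Kn ≠ ⊥ := by
    intro h
    apply hK1
    rw [Subgroup.eq_bot_iff_forall]
    intro k hk
    have h1 : (⟨k, hlt.le hk⟩ : ↥(Subgroup.normalizer (K : Set G))) ∈ Kn :=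
      Subgroup.mem_subgroupOf.mpr hk
    rw [h, Subgroup.mem_bot] at h1
    exact congrArg Subtype.val h1
  -- non-commutativity of `Kn`
  have hcomm1 : ⁅Kn, Kn⁆ ≠ ⊥ := by
    intro h
    apply hna
    rw [Subgroup.commutator_eq_bot_iff_le_centralizer] at h
    intro a ha b hb
    have h1 := h (Subgroup.mem_subgroupOf.mpr ha :
      (⟨a, hlt.le ha⟩ : ↥(Subgroup.normalizer (K : Set G))) ∈ Kn)
    rw [Subgroup.mem_centralizer_iff] at h1
    have h2 := h1 ⟨b, hlt.le hb⟩ (Subgroup.mem_subgroupOf.mpr hb)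
    exact (congrArg Subtype.val h2).symm
  obtain ⟨hK'lt, -⟩ := step_basic Kn hnilKn Kn hKn1 le_rfl
  have he : Nat.card Kn ≠ Kn.index + 1 := by
    have h1 := index_add_one_le_relIndex Kn W hinf hsup hfpf ⊥ ⁅Kn, Kn⁆
      (bot_lt_iff_ne_bot.mpr hcomm1) hK'lt.le
    have h2 := index_add_one_le_relIndex Kn W hinf hsup hfpf ⁅Kn, Kn⁆ Kn hK'lt le_rfl
    have h3 : (⊥ : Subgroup ↥(Subgroup.normalizer (K : Set G))).relIndex ⁅Kn, Kn⁆ *
        (⁅Kn, Kn⁆).relIndex Kn = (⊥ : Subgroup ↥(Subgroup.normalizer (K : Set G))).relIndex Kn :=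
      Subgroup.relIndex_mul_relIndex _ _ _ bot_le hK'lt.le
    rw [Subgroup.relIndex_bot_left] at h3
    rw [Subgroup.relIndex_bot_left] at h3
    rw [← h3]
    rw [Subgroup.relIndex_bot_left] at h1
    have h0 : 1 ≤ Kn.index := Nat.pos_of_ne_zero Subgroup.index_ne_zero_of_finite
    have h4 := Nat.mul_le_mul h1 h2
    intro h5
    rw [h5] at h4
    nlinarith
  -- the isometry
  have hprops := fun φ (hφ : φ ∈ inducedIrrAbove Kn ⊥) =>
    Cfsg.Agent.Lib.Helper8.TIFrobSetup.tifrob_mem_props K hC hφ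
  obtain ⟨hiso, hone⟩ := Cfsg.Agent.Lib.Helper8.TIFrobSetup.tifrob_isometry K hTI
    (inducedIrrAbove Kn ⊥)
    (fun χ hχ => IsIrrCharacter.isCharacter (hprops χ hχ).1) (fun χ hχ => (hprops χ hχ).2.2)
  rcases feit_induced Kn W hKn1 hnilKn hinf hsup hfpf he _ hiso hone with
    h | ⟨⟨p, hp, hpg⟩, -, hle⟩
  · left
    exact h
  · right
    refine ⟨⟨p, hp, ?_⟩, ?_⟩
    · exact hpg.of_equiv e
    · have h1 : ((⁅K, K⁆).subgroupOf K).index = (⁅Kn, Kn⁆).relIndex Kn := by
        unfold Subgroup.relIndex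
        rw [commutator_subgroupOf_self, commutator_subgroupOf_self]
        exact (index_commutator_congr e).symm
      rw [h1]
      exact hle

end nonab

section two

theorem two_pow_lt {e j : ℕ} (hodd : Odd e) (he1 : e ≠ 1) (hle : 2 ^ j ≤ 4 * e ^ 2 + 1) :
    2 ^ j < 4 * e ^ 2 := by
  by_contra hnot
  push Not at hnot
  have hcases : 2 ^ j = 4 * e ^ 2 ∨ 2 ^ j = 4 * e ^ 2 + 1 := by omega
  rcases hcases with h | h
  · apply he1
    have hcop : Nat.Coprime e (2 ^ j) := by
      apply Nat.Coprime.pow_right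
      exact Nat.coprime_two_right.mpr hodd
    apply Nat.Coprime.eq_one_of_dvd hcop
    rw [h]
    exact Dvd.intro_left (4 * e) (by ring)
  · rcases j with _ | k
    · have h0 : e = 0 := by
        have : 4 * e ^ 2 = 0 := by simpa using h.symm
        have h2 : e ^ 2 = 0 := by omega
        exact pow_eq_zero_iff (two_ne_zero) |>.mp h2
      rw [h0] at hodd
      exact absurd hodd (by decide)
    · rw [pow_succ] at h
      omega

variable {G : Type u} [Group G] [Finite G] (K : Subgroup G)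

/-- a `2`-subgroup of odd index in its normalizer is a Sylow `2`-subgroup -/
theorem card_eq_two_pow_factorization (hK2 : IsPGroup 2 K)
    (hodd : Odd (K.subgroupOf (Subgroup.normalizer (K : Set G))).index) :
    Nat.card K = 2 ^ (Nat.card G).factorization 2 := by
  have : Fact (Nat.Prime 2) := ⟨Nat.prime_two⟩
  obtain ⟨n, hn⟩ := IsPGroup.exists_card_eq hK2
  have hG0 : Nat.card G ≠ 0 := Nat.card_pos.ne'
  have h1 : 2 ^ n ∣ Nat.card G := by
    rw [← hn]
    exact Subgroup.card_subgroup_dvd_card K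
  have h2 : ¬ 2 ^ (n + 1) ∣ Nat.card G := by
    intro hdvd
    have h3 := Sylow.prime_pow_dvd_card_normalizer hdvd hn
    have h4 := Subgroup.card_mul_index (K.subgroupOf (Subgroup.normalizer (K : Set G)))
    have hcard : Nat.card ↥(K.subgroupOf (Subgroup.normalizer (K : Set G))) = Nat.card K :=
      Nat.card_congr (Subgroup.subgroupOfEquivOfLe Subgroup.le_normalizer).toEquiv
    rw [hcard, hn] at h4
    rw [← h4, pow_succ] at h3
    have h5 : 2 ∣ (K.subgroupOf (Subgroup.normalizer (K : Set G))).index :=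
      Nat.dvd_of_mul_dvd_mul_left (by positivity) h3
    rw [← even_iff_two_dvd] at h5
    exact (Nat.not_even_iff_odd.mpr hodd) h5
  rw [Nat.prime_two.pow_dvd_iff_le_factorization hG0] at h1 h2
  have h6 : (Nat.card G).factorization 2 = n := by omega
  rw [hn, h6]

end two

end Cfsg.Agent.Lib.Helper23.SibAb
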