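import Mathlib
import Cfsg.Agent.S0878
import Cfsg.Agent.Lib.Helper5.ZassOdd3
import Cfsg.Agent.Lib.Helper5.ZassKernel
import Cfsg.Prelude.Def_OddOrderLocal

/-!
# Simple Zassenhaus groups with odd two-point stabilizer: group-theoretic set-up (helper23)

Towards S0885 (Feit 1960).
-/

set_option autoImplicit false

namespace Cfsg.Agent.Lib.Helper23.ZF

open Cfsg MulAction

/-- hypotheses of S0881--S0885 in the simple case -/
structure ZSetup (G Ω : Type*) [Group G] [Finite G] [MulAction G Ω] [Fintype Ω] (a b : Ω)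
    (H : Subgroup G) (h e : ℕ) : Prop where
  hZ : IsZassenhausGroup G Ω
  hab : a ≠ b
  simple : IsSimpleGroup G
  hh : Fintype.card Ω = h + 1
  he : Nat.card ↥(stabilizer G a ⊓ stabilizer G b : Subgroup G) = e
  hodd : Odd e
  hlt : 2 * e < h - 1
  hHa : H ≤ stabilizer G a
  hHcard : Nat.card H + 1 = Fintype.card Ω
  hHfix : ∀ u ∈ H, u ≠ 1 → ∀ c : Ω, u • c = c → c = a

namespace ZSetup

variable {G Ω : Type*} [Group G] [Finite G] [MulAction G Ω] [Fintype Ω] {a b : Ω}
  {H : Subgroup G} {h e : ℕ}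

theorem normalizer_eq (S : ZSetup G Ω a b H h e) :
    Subgroup.normalizer (H : Set G) = stabilizer G a :=
  (Cfsg.Agent.S0878.result S.hZ a H S.hHa S.hHcard S.hHfix).2

theorem mem_normalizer_iff (S : ZSetup G Ω a b H h e) (x : G) :
    x ∈ Subgroup.normalizer (H : Set G) ↔ x • a = a := by
  rw [S.normalizer_eq, mem_stabilizer_iff]

theorem ti (S : ZSetup G Ω a b H h e) : IsTISubset (H : Set G) := by
  intro g hg x hx hgx
  rw [S.normalizer_eq] at hg
  exact (Cfsg.Agent.S0878.result S.hZ a H S.hHa S.hHcard S.hHfix).1 g hg x hx hgx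

theorem card_H (S : ZSetup G Ω a b H h e) : Nat.card H = h := by
  have h1 := S.hHcard
  have h2 := S.hh
  omega

theorem card_G (S : ZSetup G Ω a b H h e) : Nat.card G = (h + 1) * h * e := by
  have := Cfsg.Agent.Lib.Helper5.ZassOdd.two_trans_card S.hZ.2.1 S.hab
  rw [S.hh, S.he, Nat.add_sub_cancel] at this
  exact this

theorem e_ge (S : ZSetup G Ω a b H h e) : 3 ≤ e := by
  obtain ⟨x, hx1, hxa, hxb⟩ := Cfsg.Agent.Lib.Helper5.Zass.zass_two_point_ne S.hZ S.hab
  have hne : (stabilizer G a ⊓ stabilizer G b : Subgroup G) ≠ ⊥ := by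
    intro hbot
    apply hx1
    have : x ∈ (stabilizer G a ⊓ stabilizer G b : Subgroup G) :=
      Subgroup.mem_inf.mpr ⟨mem_stabilizer_iff.mpr hxa, mem_stabilizer_iff.mpr hxb⟩
    rw [hbot] at this
    exact Subgroup.mem_bot.mp this
  have h1 : e ≠ 1 := by
    intro h1
    have he := S.he
    rw [h1] at he
    exact hne (Subgroup.card_eq_one.mp he)
  have h0 : e ≠ 0 := by
    rw [← S.he]
    exact Nat.card_pos.ne'
  obtain ⟨k, hk⟩ := S.hodd
  omega

theorem h_ge (S : ZSetup G Ω a b H h e) : 8 ≤ h := by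
  have := S.e_ge
  have := S.hlt
  omega

/-- `C_G(k) ≤ H` for `1 ≠ k ∈ H` -/
theorem cent_le (S : ZSetup G Ω a b H h e) :
    ∀ k ∈ H, k ≠ 1 → Subgroup.centralizer ({k} : Set G) ≤ H := by
  intro k hk hk1 g hg
  rw [Subgroup.mem_centralizer_singleton_iff] at hg
  -- hg : k * g = g * k
  have hka : k • a = a := mem_stabilizer_iff.mp (S.hHa hk)
  have hga : g • a = a := by
    apply S.hHfix k hk hk1
    rw [← mul_smul, ← hg, mul_smul, hka]
  by_cases hfix : ∀ c : Ω, g • c = c → c = a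
  · exact Cfsg.Agent.Lib.Helper5.ZassKernel.mem_of_fix_only S.hZ.2.2.1 H
      (fun u hu => mem_stabilizer_iff.mp (S.hHa hu)) S.hHcard S.hHfix hga hfix
  · push Not at hfix
    obtain ⟨c, hgc, hca⟩ := hfix
    have hkc : k • c ≠ c := fun h' => hca (S.hHfix k hk hk1 c h')
    have hkca : k • c ≠ a := by
      intro h'
      apply hca
      rw [← hka] at h'
      exact MulAction.injective k h'
    have hgkc : g • (k • c) = k • c := by
      rw [← mul_smul, hg, mul_smul, hgc]
    have : g = 1 := S.hZ.2.2.1 g a c (k • c) (Ne.symm hca) (Ne.symm hkc) (Ne.symm hkca) hga hgc hgkc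
    rw [this]
    exact H.one_mem

theorem lt_normalizer (S : ZSetup G Ω a b H h e) : H < Subgroup.normalizer (H : Set G) := by
  refine lt_of_le_of_ne Subgroup.le_normalizer ?_
  intro heq
  obtain ⟨x, hx1, hxa, hxb⟩ := Cfsg.Agent.Lib.Helper5.Zass.zass_two_point_ne S.hZ S.hab
  have hxN : x ∈ Subgroup.normalizer (H : Set G) := (S.mem_normalizer_iff x).mpr hxa
  rw [← heq] at hxN
  exact S.hab (S.hHfix x hxN hx1 b hxb).symm

theorem ne_bot (S : ZSetup G Ω a b H h e) : H ≠ ⊥ := by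
  intro hbot
  have := S.card_H
  rw [hbot, Subgroup.card_bot] at this
  have := S.h_ge
  omega

theorem card_normalizer (S : ZSetup G Ω a b H h e) :
    Nat.card ↥(Subgroup.normalizer (H : Set G)) = h * e := by
  rw [S.normalizer_eq]
  have h2t := S.hZ.2.1
  have : IsPretransitive G Ω := isPretransitive_of_is_two_pretransitive
  have h1 := Subgroup.card_mul_index (stabilizer G a)
  rw [MulAction.index_stabilizer_of_transitive, Nat.card_eq_fintype_card (α := Ω), S.hh,
    S.card_G] at h1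
  have h1' : (h + 1) * Nat.card ↥(stabilizer G a) = (h + 1) * (h * e) := by
    rw [mul_comm, h1, mul_assoc]
  exact Nat.eq_of_mul_eq_mul_left (Nat.succ_pos h) h1'

theorem index_subgroupOf (S : ZSetup G Ω a b H h e) :
    (H.subgroupOf (Subgroup.normalizer (H : Set G))).index = e := by
  have h1 := Subgroup.card_mul_index (H.subgroupOf (Subgroup.normalizer (H : Set G)))
  have h2 : Nat.card ↥(H.subgroupOf (Subgroup.normalizer (H : Set G))) = Nat.card H :=
    Nat.card_congr (Subgroup.subgroupOfEquivOfLe Subgroup.le_normalizer).toEquiv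
  rw [h2, S.card_H, S.card_normalizer] at h1
  have hh : 0 < h := by have := S.h_ge; omega
  exact Nat.eq_of_mul_eq_mul_left hh h1

/-- the inverting involution -/
theorem exists_inverting (S : ZSetup G Ω a b H h e) :
    ∃ τ : G, τ * τ = 1 ∧ τ • a = b ∧ τ • b = a ∧
      ∀ x ∈ (stabilizer G a ⊓ stabilizer G b : Subgroup G), τ * x * τ⁻¹ = x⁻¹ := by
  have hodd : Odd (Nat.card ↥(stabilizer G a ⊓ stabilizer G b : Subgroup G)) := by
    rw [S.he]; exact S.hodd
  have := S.simple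
  have hnil := Cfsg.Agent.Lib.Helper5.ZassOdd.no_normal_complement_of_simple S.hZ S.hab
  obtain ⟨τ, hττ, hτa, hτb⟩ := Cfsg.Agent.Lib.Helper5.ZassOdd.exists_swap_involution S.hZ S.hab hodd
  exact ⟨τ, hττ, hτa, hτb,
    Cfsg.Agent.Lib.Helper5.ZassOdd.zass_inverts S.hZ S.hab hodd hnil τ hττ hτa hτb⟩

/-- the two-point stabilizer is abelian -/
theorem E_comm (S : ZSetup G Ω a b H h e) :
    ∀ x ∈ (stabilizer G a ⊓ stabilizer G b : Subgroup G),
      ∀ y ∈ (stabilizer G a ⊓ stabilizer G b : Subgroup G), x * y = y * x := by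
  obtain ⟨τ, -, -, -, hinv⟩ := S.exists_inverting
  intro x hx y hy
  have h1 := hinv x hx
  have h2 := hinv y hy
  have h3 := hinv (x * y) (Subgroup.mul_mem _ hx hy)
  have h4 : τ * (x * y) * τ⁻¹ = (τ * x * τ⁻¹) * (τ * y * τ⁻¹) := by group
  rw [h4, h1, h2, mul_inv_rev] at h3
  -- x⁻¹ y⁻¹ = y⁻¹ x⁻¹
  have h5 : (x⁻¹ * y⁻¹)⁻¹ = (y⁻¹ * x⁻¹)⁻¹ := by rw [h3]
  simpa [mul_inv_rev] using h5.symm

/-- decomposition of the point stabilizer -/
theorem decomp (S : ZSetup G Ω a b H h e) (g : G) (hg : g • a = a) :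
    ∃ k ∈ H, ∃ x ∈ (stabilizer G a ⊓ stabilizer G b : Subgroup G), g = k * x := by
  have hgb : g • b ≠ a := by
    intro h'
    rw [← hg] at h'
    exact S.hab (MulAction.injective g h').symm
  obtain ⟨k, hk, hkb⟩ := Cfsg.Agent.Lib.Helper5.ZassKernel.exists_smul_eq H
    (fun u hu => mem_stabilizer_iff.mp (S.hHa hu)) S.hHcard S.hHfix (Ne.symm S.hab) hgb
  have hka : k • a = a := mem_stabilizer_iff.mp (S.hHa hk)
  refine ⟨k, hk, k⁻¹ * g, ?_, by group⟩
  rw [Subgroup.mem_inf, mem_stabilizer_iff, mem_stabilizer_iff, mul_smul, mul_smul, hg,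
    inv_smul_eq_iff, inv_smul_eq_iff]
  exact ⟨hka.symm, hkb.symm⟩

/-- an element of the point stabilizer outside `H` is conjugate, by an element of `H`, to a
non-identity element of the two-point stabilizer -/
theorem conj_into_E (S : ZSetup G Ω a b H h e) (g : G) (hg : g • a = a) (hgH : g ∉ H) :
    ∃ k ∈ H, k * g * k⁻¹ ∈ (stabilizer G a ⊓ stabilizer G b : Subgroup G) ∧ k * g * k⁻¹ ≠ 1 := by
  have hfix : ¬ ∀ c : Ω, g • c = c → c = a := by
    intro hfix
    exact hgH (Cfsg.Agent.Lib.Helper5.ZassKernel.mem_of_fix_only S.hZ.2.2.1 H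
      (fun u hu => mem_stabilizer_iff.mp (S.hHa hu)) S.hHcard S.hHfix hg hfix)
  push Not at hfix
  obtain ⟨c, hgc, hca⟩ := hfix
  obtain ⟨k, hk, hkc⟩ := Cfsg.Agent.Lib.Helper5.ZassKernel.exists_smul_eq H
    (fun u hu => mem_stabilizer_iff.mp (S.hHa hu)) S.hHcard S.hHfix hca (Ne.symm S.hab)
  have hka : k • a = a := mem_stabilizer_iff.mp (S.hHa hk)
  refine ⟨k, hk, ?_, ?_⟩
  · rw [Subgroup.mem_inf, mem_stabilizer_iff, mem_stabilizer_iff]
    constructor
    · rw [mul_smul, mul_smul, inv_smul_eq_iff.mpr hka.symm, hg, hka]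
    · rw [mul_smul, mul_smul, inv_smul_eq_iff.mpr hkc.symm, hgc, hkc]
  · intro h1
    apply hgH
    have : g = k⁻¹ * (k * g * k⁻¹) * k := by group
    rw [this, h1]
    simp [H.one_mem]

/-- non-identity elements of the two-point stabilizer are not in `H` -/
theorem not_mem_of_mem_E (S : ZSetup G Ω a b H h e) {x : G}
    (hx : x ∈ (stabilizer G a ⊓ stabilizer G b : Subgroup G)) (hx1 : x ≠ 1) : x ∉ H := by
  intro hxH
  have hxb : x • b = b := mem_stabilizer_iff.mp (Subgroup.mem_inf.mp hx).2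
  exact S.hab (S.hHfix x hxH hx1 b hxb).symm

end ZSetup

end Cfsg.Agent.Lib.Helper23.ZF
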