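import Mathlib
import Cfsg.Agent.Lib.Helper23.ZF1
import Cfsg.Agent.Lib.Lead.CNExc9

/-!
# Simple Zassenhaus groups, odd two-point stabilizer: counting classes and characters of `N_G(H)`
(helper23, towards S0885)
-/

set_option autoImplicit false

namespace Cfsg.Agent.Lib.Helper23.ZF

open Cfsg MulAction Cfsg.Agent.CharLib Cfsg.Agent.Lib.Lead.CNExc Cfsg.Agent.Lib.Helper25
open scoped ComplexConjugate

namespace ZSetup

variable {G : Type*} {Ω : Type*} [Group G] [Fintype G] [MulAction G Ω] [Fintype Ω] {a b : Ω}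
  {H : Subgroup G} {h e : ℕ}

local notation "NH" => Subgroup.normalizer (H : Set G)
local notation "KH" => H.subgroupOf (Subgroup.normalizer (H : Set G))

/-- the quotient `N_G(H)/H` is abelian -/
theorem quot_comm (S : ZSetup G Ω a b H h e) : ∀ p q : NH ⧸ KH, p * q = q * p := by
  have key : ∀ p : NH ⧸ KH, ∃ x : NH,
      (x : G) ∈ (stabilizer G a ⊓ stabilizer G b : Subgroup G) ∧ p = (x : NH ⧸ KH) := by
    intro p
    obtain ⟨g, rfl⟩ := QuotientGroup.mk_surjective p
    obtain ⟨k, hk, x, hx, hgkx⟩ := S.decomp (g : G) ((S.mem_normalizer_iff _).mp g.2)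
    have hxa : x • a = a := mem_stabilizer_iff.mp (Subgroup.mem_inf.mp hx).1
    refine ⟨⟨x, (S.mem_normalizer_iff x).mpr hxa⟩, hx, ?_⟩
    rw [QuotientGroup.eq]
    rw [Subgroup.mem_subgroupOf]
    have : ((g⁻¹ * ⟨x, (S.mem_normalizer_iff x).mpr hxa⟩ : NH) : G) = (x⁻¹ * k * x)⁻¹ := by
      rw [Subgroup.coe_mul, Subgroup.coe_inv, hgkx]
      group
    rw [this]
    apply H.inv_mem
    have hxN : x ∈ NH := (S.mem_normalizer_iff x).mpr hxa
    have := (Subgroup.mem_normalizer_iff.mp (Subgroup.inv_mem _ hxN) k).mp hk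
    simpa using this
  intro p q
  obtain ⟨x, hx, rfl⟩ := key p
  obtain ⟨y, hy, rfl⟩ := key q
  rw [← QuotientGroup.mk_mul, ← QuotientGroup.mk_mul]
  congr 1
  apply Subtype.ext
  rw [Subgroup.coe_mul, Subgroup.coe_mul]
  exact S.E_comm _ hx _ hy

variable [Fintype ↥(Subgroup.normalizer (H : Set G))]
  [Fintype (IrrCharacter ↥(Subgroup.normalizer (H : Set G)))]

/-- irreducible characters of `N_G(H)` trivial on `H` are linear -/
theorem inKer_linear (S : ZSetup G Ω a b H h e) {ξ : IrrCharacter NH} (hξ : ξ ∈ inKer KH) :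
    (ξ : NH → ℂ) 1 = 1 := by
  obtain ⟨θ, hθ⟩ := exists_inflateIrr_eq KH ξ ((mem_inKer KH).mp hξ)
  rw [← hθ, inflateIrr_apply]
  exact (comm_iff_forall_irr_apply_one.mp S.quot_comm) θ

theorem card_inKer (S : ZSetup G Ω a b H h e) : (inKer KH).card = e := by
  have h1 := sum_inKer_deg_sq KH
  rw [S.index_subgroupOf] at h1
  have h2 : ∑ ψ ∈ inKer KH, (ψ : NH → ℂ) 1 * conj ((ψ : NH → ℂ) 1) = ((inKer KH).card : ℂ) := by
    rw [Finset.sum_congr rfl (fun ψ hψ => by rw [S.inKer_linear hψ, map_one, mul_one]),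
      Finset.sum_const, nsmul_eq_mul, mul_one]
  rw [h2] at h1
  exact_mod_cast h1

/-- class counting: `k(N_G(H)) + 1 ≤ #(classes of G meeting H) + e` -/
theorem card_conjClasses_le (S : ZSetup G Ω a b H h e) :
    Nat.card (ConjClasses NH) + 1 ≤
      Nat.card {C : ConjClasses G // ¬ ∀ g : G, ConjClasses.mk g = C → g ∉ H} + e := by
  classical
  let Q : ConjClasses NH → Prop := fun D => ∃ x : NH, ConjClasses.mk x = D ∧ (x : G) ∈ H
  have hsplit : Nat.card (ConjClasses NH) = Nat.card {D // Q D} + Nat.card {D // ¬ Q D} := by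
    rw [Nat.card_eq_fintype_card, Nat.card_eq_fintype_card, Nat.card_eq_fintype_card,
      ← Fintype.card_sum]
    exact (Fintype.card_congr (Equiv.sumCompl Q)).symm
  -- first part: injection into the classes of `G` meeting `H`
  have h1 : Nat.card {D // Q D} ≤
      Nat.card {C : ConjClasses G // ¬ ∀ g : G, ConjClasses.mk g = C → g ∉ H} := by
    apply Nat.card_le_card_of_injective
      (fun D : {D // Q D} => (⟨ConjClasses.map (Subgroup.subtype NH) D.1, by
        obtain ⟨x, hx, hxH⟩ := D.2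
        push Not
        refine ⟨(x : G), ?_, hxH⟩
        rw [← hx]
        rfl⟩ : {C : ConjClasses G // ¬ ∀ g : G, ConjClasses.mk g = C → g ∉ H}))
    rintro ⟨D, x, rfl, hxH⟩ ⟨D', x', rfl, hx'H⟩ heq
    have heq' : ConjClasses.mk (x : G) = ConjClasses.mk (x' : G) := congrArg Subtype.val heq
    rw [ConjClasses.mk_eq_mk_iff_isConj, isConj_iff] at heq'
    obtain ⟨g, hg⟩ := heq'
    apply Subtype.ext
    change ConjClasses.mk x = ConjClasses.mk x'
    by_cases hx1 : (x : G) = 1
    · have hx'1 : (x' : G) = 1 := by rw [← hg, hx1]; group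
      have e1 : x = 1 := Subtype.ext hx1
      have e2 : x' = 1 := Subtype.ext hx'1
      rw [e1, e2]
    · have hgN : g ∈ NH := by
        by_contra hgN
        exact hx1 (S.ti g hgN (x : G) hxH (by rw [hg]; exact hx'H))
      rw [ConjClasses.mk_eq_mk_iff_isConj, isConj_iff]
      exact ⟨⟨g, hgN⟩, Subtype.ext hg⟩
  -- second part: covered by the non-identity elements of the two-point stabilizer
  have h2 : Nat.card {D // ¬ Q D} + 1 ≤ e := by
    have hE := Cfsg.Agent.Lib.Lead.CNEnd.card_filter_mem_ne_one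
      (stabilizer G a ⊓ stabilizer G b : Subgroup G)
    rw [S.he] at hE
    rw [← hE]
    apply Nat.add_le_add_right
    rw [Nat.card_eq_fintype_card, Fintype.card_subtype]
    let F : G → ConjClasses NH := fun x =>
      if hx : x ∈ NH then ConjClasses.mk (⟨x, hx⟩ : NH) else ConjClasses.mk 1
    refine (Finset.card_le_card (t := (Finset.univ.filter (fun x : G =>
      x ∈ (stabilizer G a ⊓ stabilizer G b : Subgroup G) ∧ x ≠ 1)).image F) ?_).trans
      Finset.card_image_le
    intro D hD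
    rw [Finset.mem_filter] at hD
    obtain ⟨g, rfl⟩ := ConjClasses.exists_rep D
    have hgH : (g : G) ∉ H := fun hgH => hD.2 ⟨g, rfl, hgH⟩
    obtain ⟨k, hk, hkE, hk1⟩ := S.conj_into_E (g : G) ((S.mem_normalizer_iff _).mp g.2) hgH
    rw [Finset.mem_image]
    refine ⟨k * (g : G) * k⁻¹, ?_, ?_⟩
    · rw [Finset.mem_filter]
      exact ⟨Finset.mem_univ _, hkE, hk1⟩
    · have hkN : k ∈ NH := Subgroup.le_normalizer hk
      have hmem : k * (g : G) * k⁻¹ ∈ NH :=
        Subgroup.mul_mem _ (Subgroup.mul_mem _ hkN g.2) (Subgroup.inv_mem _ hkN)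
      simp only [F, dif_pos hmem]
      rw [ConjClasses.mk_eq_mk_iff_isConj, isConj_comm, isConj_iff]
      exact ⟨⟨k, hkN⟩, Subtype.ext rfl⟩
  omega

/-- `|exc| + 1 ≤ #(classes of G meeting H)` -/
theorem card_exc_add_one_le (S : ZSetup G Ω a b H h e) :
    (exc KH).card + 1 ≤
      Nat.card {C : ConjClasses G // ¬ ∀ g : G, ConjClasses.mk g = C → g ∉ H} := by
  classical
  have h1 := S.card_conjClasses_le
  rw [← card_irrCharacter, Nat.card_eq_fintype_card, ← Finset.card_univ] at h1
  have h2 : (Finset.univ : Finset (IrrCharacter NH)).card = (inKer KH).card + (exc KH).card := by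
    unfold inKer exc
    rw [Finset.card_filter_add_card_filter_not]
  rw [h2, S.card_inKer] at h1
  omega

end ZSetup

end Cfsg.Agent.Lib.Helper23.ZF
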