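import Mathlib
import Cfsg.Agent.Lib.Lead.CNExc9

/-!
# Coherence for a TI Frobenius kernel, without oddness: explicit values (helper23, towards S0885)

Variants of `Cfsg.Agent.Lib.Lead.CNExc` lemmas with explicit constants.
-/

set_option autoImplicit false
set_option linter.unusedSectionVars false

namespace Cfsg.Agent.Lib.Helper23.ZF

open Cfsg Cfsg.Agent.CharLib Cfsg.Agent.Lib.Lead.CNExc Cfsg.Agent.Lib.Helper25
  Cfsg.Agent.Lib.Helper10 Cfsg.Agent.Lib.Helper6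
open scoped ComplexConjugate

universe u

section build

variable {G : Type u} [Group G] [Fintype G] (N : Subgroup G) [Fintype N] (K : Subgroup N)
  [hKn : K.Normal] [Fintype (IrrCharacter N)]
variable (hC : ∀ k ∈ K, k ≠ 1 → Subgroup.centralizer ({k} : Set N) ≤ K)

include hKn hC in
/-- `CohData` from coherence, given two distinct exceptional characters (no oddness) -/
theorem cohData_of_coherent' (htwo : ∃ ψ ∈ exc K, ∃ ψ' ∈ exc K, ψ ≠ ψ')
    (hcoh : IsCoherent (inducedIrrAbove K ⊥) {1}ᶜ (fun α : N → ℂ => indFun N α)) :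
    Nonempty (CohData N K) := by
  classical
  obtain ⟨-, τ₁, hτ₁, hagree⟩ := hcoh
  set S' : Set (N → ℂ) := {φ | ∃ ψ ∈ exc K, (ψ : N → ℂ) = φ} with hS'
  have hsub : S' ⊆ inducedIrrAbove K ⊥ := by
    rintro φ ⟨ψ, hψ, rfl⟩
    exact exc_mem_induced K hC hψ
  have hzs : zspan S' ⊆ zspan (inducedIrrAbove K ⊥) := zspan_mono hsub
  have hτ' : IsLinearIsometryOn (zspan S') τ₁ :=
    ⟨fun α hα β hβ => hτ₁.1 α (hzs hα) β (hzs hβ), fun α hα n => hτ₁.2.1 α (hzs hα) n,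
      fun α hα β hβ => hτ₁.2.2.1 α (hzs hα) β (hzs hβ), fun α hα => hτ₁.2.2.2 α (hzs hα)⟩
  have hag : ∀ α ∈ zspan S', α 1 = 0 → τ₁ α = indFun N α := by
    intro α hα h1
    apply hagree
    refine ⟨hzs hα, ?_⟩
    intro x hx
    have : x = 1 := by simpa using hx
    rw [this, h1]
  have h0 : ∀ α ∈ zspan S', α 1 = 0 → τ₁ α 1 = 0 := by
    intro α hα h1
    rw [hag α hα h1, Cfsg.Agent.Lib.Helper10.indFun_apply_one, h1]
    simp
  have htwo' : ∃ χ ∈ S', ∃ ψ ∈ S', χ ≠ ψ := by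
    obtain ⟨ψ, hψ, ψ', hψ', hne⟩ := htwo
    exact ⟨(ψ : N → ℂ), ⟨ψ, hψ, rfl⟩, (ψ' : N → ℂ), ⟨ψ', hψ', rfl⟩,
      fun h => hne (Subtype.ext h)⟩
  obtain ⟨εc, hεc, hirr, hinj⟩ := Cfsg.Agent.S1529.result N S'
    (by rintro φ ⟨ψ, -, rfl⟩; exact ψ.2) htwo' τ₁ hτ' h0
  have hεsq : εc * εc = 1 := by rcases hεc with rfl | rfl <;> norm_num
  have hmemS : ∀ ψ ∈ exc K, (ψ : N → ℂ) ∈ S' := fun ψ hψ => ⟨ψ, hψ, rfl⟩
  let Xf : IrrCharacter N → IrrCharacter G := fun ψ =>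
    if h : ψ ∈ exc K then ⟨εc • τ₁ (ψ : N → ℂ), hirr _ (hmemS ψ h)⟩ else CharLib.trivIrr G
  have hXf : ∀ ψ ∈ exc K, ((Xf ψ : IrrCharacter G) : G → ℂ) = εc • τ₁ (ψ : N → ℂ) := by
    intro ψ hψ
    simp only [Xf, dif_pos hψ]
  have hτX : ∀ ψ ∈ exc K, τ₁ (ψ : N → ℂ) = εc • ((Xf ψ : IrrCharacter G) : G → ℂ) := by
    intro ψ hψ
    rw [hXf ψ hψ, smul_smul, hεsq, one_smul]
  let εz : ℤ := if εc = 1 then 1 else -1
  have hεz : (εz : ℂ) = εc := by
    rcases hεc with h | h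
    · simp only [εz, if_pos h, h]; norm_num
    · have : ¬ εc = 1 := by rw [h]; norm_num
      simp only [εz, if_neg this, h]; norm_num
  refine ⟨⟨εz, ?_, Xf, ?_, ?_⟩⟩
  · by_cases h : εc = 1
    · left; simp only [εz, if_pos h]
    · right; simp only [εz, if_neg h]
  · intro ψ hψ ψ' hψ' heq
    have h1 : εc • τ₁ (ψ : N → ℂ) = εc • τ₁ (ψ' : N → ℂ) := by
      rw [← hXf ψ hψ, ← hXf ψ' hψ', heq]
    have h2 : τ₁ (ψ : N → ℂ) = τ₁ (ψ' : N → ℂ) := by
      have := congrArg (fun f => εc • f) h1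
      simp only [smul_smul, hεsq, one_smul] at this
      exact this
    exact Subtype.ext (hinj _ (hmemS ψ hψ) _ (hmemS ψ' hψ') h2)
  · intro ψ hψ ψ' hψ' a b hab
    have hα : a • (ψ : N → ℂ) + b • (ψ' : N → ℂ) ∈ zspan S' :=
      zspan_add (zspan_zsmul (subset_zspan (hmemS ψ hψ)) a)
        (zspan_zsmul (subset_zspan (hmemS ψ' hψ')) b)
    have h1 : (a • (ψ : N → ℂ) + b • (ψ' : N → ℂ)) 1 = 0 := by
      simp only [Pi.add_apply, Pi.smul_apply, zsmul_eq_mul]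
      exact hab
    rw [← hag _ hα h1, isometry_lin2 hτ' (fun α hα n => zspan_zsmul hα n)
      (subset_zspan (hmemS ψ hψ)) (subset_zspan (hmemS ψ' hψ')), hτX ψ hψ, hτX ψ' hψ', hεz]
    funext g
    simp only [Pi.add_apply, Pi.smul_apply]
    simp only [zsmul_eq_mul, smul_eq_mul]
    ring

end build

section main

variable {G : Type u} [Group G] [Fintype G] (H : Subgroup G)
  [Fintype (Subgroup.normalizer (H : Set G))]
  [Fintype (IrrCharacter (Subgroup.normalizer (H : Set G)))]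

local notation "NH" => Subgroup.normalizer (H : Set G)
local notation "KH" => H.subgroupOf (Subgroup.normalizer (H : Set G))

variable (hTI : IsTISubset (H : Set G))
variable (hC : ∀ k ∈ H.subgroupOf (Subgroup.normalizer (H : Set G)), k ≠ 1 →
  Subgroup.centralizer ({k} : Set (Subgroup.normalizer (H : Set G))) ≤
    H.subgroupOf (Subgroup.normalizer (H : Set G)))
variable (D : CohData (Subgroup.normalizer (H : Set G))
  (H.subgroupOf (Subgroup.normalizer (H : Set G))))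

/-- restriction of a function on `G` to `N_G(H)` -/
def resN (f : G → ℂ) : NH → ℂ := fun x => f x

theorem resN_isCharacter (χ : IrrCharacter G) : IsCharacter NH (resN H (χ : G → ℂ)) :=
  IsCharacter.restrict (IsIrrCharacter.isCharacter χ.2) NH

theorem resN_classFunction (χ : IrrCharacter G) : IsClassFunction NH (resN H (χ : G → ℂ)) :=
  res_classFunction H χ

/-- multiplicities of the exceptional characters of `N` in the restriction of `χ` -/
theorem mult_rel {ψ ψ₁ : IrrCharacter NH} (hψ : ψ ∈ exc KH) (hψ₁ : ψ₁ ∈ exc KH)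
    (h1 : (ψ₁ : NH → ℂ) 1 = ((KH).index : ℂ)) (n : ℕ)
    (hn : (ψ : NH → ℂ) 1 = (((KH).index * n : ℕ) : ℂ)) (χ : IrrCharacter G) :
    classInner (resN H (χ : G → ℂ)) (ψ : NH → ℂ) =
      (n : ℂ) * classInner (resN H (χ : G → ℂ)) (ψ₁ : NH → ℂ) +
      (D.ε : ℂ) * ((if D.Xf ψ = χ then 1 else 0) - (n : ℂ) * (if D.Xf ψ₁ = χ then 1 else 0)) := by
  have h := inner_rel H D hψ hψ₁ h1 n hn χ
  have h3 : (fun x => (ψ : NH → ℂ) x - (n : ℂ) * (ψ₁ : NH → ℂ) x) =
      (ψ : NH → ℂ) - (n : ℂ) • (ψ₁ : NH → ℂ) := by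
    funext y; simp
  rw [h3, CharLib.classInner_sub_left, CharLib.classInner_smul_left] at h
  have h4 := congrArg conj h
  have hεconj : conj (D.ε : ℂ) = (D.ε : ℂ) := map_intCast _ _
  simp only [map_sub, map_mul, Complex.conj_natCast, hεconj, CharLib.classInner_conj_symm,
    apply_ite conj, map_one, map_zero] at h4
  unfold resN
  linear_combination h4

include hC in
/-- value of a non-exceptional irreducible character on `H` minus the identity -/
theorem nonexc_value {ψ₁ : IrrCharacter NH} (hψ₁ : ψ₁ ∈ exc KH)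
    (h1 : (ψ₁ : NH → ℂ) 1 = ((KH).index : ℂ)) (χ : IrrCharacter G)
    (hχ : ∀ ψ ∈ exc KH, D.Xf ψ ≠ χ) (x : G) (hx : x ∈ H) (hx1 : x ≠ 1) :
    (χ : G → ℂ) x = -classInner (resN H (χ : G → ℂ)) (ψ₁ : NH → ℂ) +
      ∑ ξ ∈ inKer KH, classInner (resN H (χ : G → ℂ)) (ξ : NH → ℂ) * (ξ : NH → ℂ) 1 := by
  have hxK : (⟨x, Subgroup.le_normalizer hx⟩ : NH) ∈ KH := Subgroup.mem_subgroupOf.mpr hx
  have hx1' : (⟨x, Subgroup.le_normalizer hx⟩ : NH) ≠ 1 := fun h => hx1 (congrArg Subtype.val h)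
  have h2 := const_of_orth KH hC h1 (resN H (χ : G → ℂ)) (res_classFunction H χ)
    (by
      intro ψ' hψ' n hn
      have := inner_rel H D hψ' hψ₁ h1 n hn χ
      rw [if_neg (hχ ψ' hψ'), if_neg (hχ ψ₁ hψ₁)] at this
      unfold resN
      rw [this]
      ring) hxK hx1'
  exact h2

include hC in
/-- values of the base exceptional character on `H` minus the identity, explicit constant -/
theorem chi1_value {ψ₁ : IrrCharacter NH} (hψ₁ : ψ₁ ∈ exc KH)
    (h1 : (ψ₁ : NH → ℂ) 1 = ((KH).index : ℂ)) (x : NH) (hxK : x ∈ KH) (hx1 : x ≠ 1) :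
    ((D.Xf ψ₁ : IrrCharacter G) : G → ℂ) x = (D.ε : ℂ) * (ψ₁ : NH → ℂ) x +
      (-(classInner (resN H ((D.Xf ψ₁ : IrrCharacter G) : G → ℂ)) (ψ₁ : NH → ℂ) - (D.ε : ℂ)) +
        ∑ ξ ∈ inKer KH, classInner (resN H ((D.Xf ψ₁ : IrrCharacter G) : G → ℂ)) (ξ : NH → ℂ) *
          (ξ : NH → ℂ) 1) := by
  set R : NH → ℂ := resN H ((D.Xf ψ₁ : IrrCharacter G) : G → ℂ) with hR
  have hRc : IsCharacter NH R := resN_isCharacter H _
  have hψc : IsCharacter NH (ψ₁ : NH → ℂ) := IsIrrCharacter.isCharacter ψ₁.2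
  set F₁ : NH → ℂ := R - (D.ε : ℂ) • (ψ₁ : NH → ℂ) with hF₁
  have hF₁c : IsClassFunction NH F₁ :=
    IsClassFunction.sub (res_classFunction H _)
      (IsClassFunction.smul _ (IsCharacter.isClassFunction hψc))
  have hεconj : conj (D.ε : ℂ) = (D.ε : ℂ) := map_intCast _ _
  have h2 := const_of_orth KH hC h1 F₁ hF₁c
    (by
      intro ψ' hψ' n hn
      rw [hF₁, Cfsg.Agent.Lib.Helper10.classInner_sub_right, CharLib.classInner_smul_right, hεconj]
      have hir := inner_rel H D hψ' hψ₁ h1 n hn (D.Xf ψ₁)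
      rw [if_pos rfl] at hir
      have hR' : R = fun x : NH => ((D.Xf ψ₁ : IrrCharacter G) : G → ℂ) x := rfl
      rw [hR', hir]
      have h3 : (fun x => (ψ' : NH → ℂ) x - (n : ℂ) * (ψ₁ : NH → ℂ) x) =
          (ψ' : NH → ℂ) - (n : ℂ) • (ψ₁ : NH → ℂ) := by
        funext y; simp
      rw [h3, CharLib.classInner_sub_left, CharLib.classInner_smul_left, classInner_irr',
        classInner_irr', if_pos rfl]
      by_cases he : ψ' = ψ₁
      · rw [if_pos he, if_pos (by rw [he])]; ring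
      · rw [if_neg he, if_neg (fun h => he (D.inj ψ' hψ' ψ₁ hψ₁ h))]; ring) hxK hx1
  have h4 : classInner F₁ (ψ₁ : NH → ℂ) = classInner R (ψ₁ : NH → ℂ) - (D.ε : ℂ) := by
    rw [hF₁, CharLib.classInner_sub_left, CharLib.classInner_smul_left, classInner_irr', if_pos rfl]
    ring
  have h5 : ∑ ξ ∈ inKer KH, classInner F₁ (ξ : NH → ℂ) * (ξ : NH → ℂ) 1 =
      ∑ ξ ∈ inKer KH, classInner R (ξ : NH → ℂ) * (ξ : NH → ℂ) 1 := by
    apply Finset.sum_congr rfl
    intro ξ hξ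
    have hne : ψ₁ ≠ ξ := by
      intro h
      rw [h, mem_exc] at hψ₁
      exact hψ₁ ((mem_inKer KH).mp hξ)
    rw [hF₁, CharLib.classInner_sub_left, CharLib.classInner_smul_left, classInner_irr', if_neg hne]
    ring
  rw [h4, h5] at h2
  have h6 : F₁ x = R x - (D.ε : ℂ) * (ψ₁ : NH → ℂ) x := by
    rw [hF₁]; simp
  rw [h6] at h2
  have h7 : R x = ((D.Xf ψ₁ : IrrCharacter G) : G → ℂ) x := rfl
  rw [← h7]
  linear_combination h2

end main

end Cfsg.Agent.Lib.Helper23.ZF
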