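import Mathlib
import Cfsg.Agent.Lib.Helper23.ZF3

/-!
# Coherence for a TI Frobenius kernel: the column relation and `c = 0` (helper23, towards S0885)
-/

set_option autoImplicit false
set_option linter.unusedSectionVars false

namespace Cfsg.Agent.Lib.Helper23.ZF

open Cfsg Cfsg.Agent.CharLib Cfsg.Agent.Lib.Lead.CNExc Cfsg.Agent.Lib.Helper25
  Cfsg.Agent.Lib.Helper10 Cfsg.Agent.Lib.Helper6
open scoped ComplexConjugate

universe u

variable {G : Type u} [Group G] [Fintype G] (H : Subgroup G)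
  [Fintype (Subgroup.normalizer (H : Set G))]
  [Fintype (IrrCharacter (Subgroup.normalizer (H : Set G)))]
  [Fintype (IrrCharacter G)]

local notation "NH" => Subgroup.normalizer (H : Set G)
local notation "KH" => H.subgroupOf (Subgroup.normalizer (H : Set G))

variable (hTI : IsTISubset (H : Set G))
variable (hC : ∀ k ∈ H.subgroupOf (Subgroup.normalizer (H : Set G)), k ≠ 1 →
  Subgroup.centralizer ({k} : Set (Subgroup.normalizer (H : Set G))) ≤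
    H.subgroupOf (Subgroup.normalizer (H : Set G)))
variable (D : CohData (Subgroup.normalizer (H : Set G))
  (H.subgroupOf (Subgroup.normalizer (H : Set G))))
variable (nL : IrrCharacter (Subgroup.normalizer (H : Set G)) → ℕ)
  (hnL : ∀ ψ ∈ exc (H.subgroupOf (Subgroup.normalizer (H : Set G))),
    (ψ : Subgroup.normalizer (H : Set G) → ℂ) 1 =
      (((H.subgroupOf (Subgroup.normalizer (H : Set G))).index * nL ψ : ℕ) : ℂ))

open Classical in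
include hTI hC hnL in
/-- the column relation: the sum of `|χ(x₀)|²` over the non-exceptional irreducible characters -/
theorem column_nonexc {ψ₁ : IrrCharacter NH} (hψ₁ : ψ₁ ∈ exc KH)
    (h1 : (ψ₁ : NH → ℂ) 1 = ((KH).index : ℂ)) (c : ℤ)
    (hc : ∀ x : NH, x ∈ KH → x ≠ 1 →
      ((D.Xf ψ₁ : IrrCharacter G) : G → ℂ) x = (D.ε : ℂ) * (ψ₁ : NH → ℂ) x + (c : ℂ))
    (x₀ : G) (hx₀ : x₀ ∈ H) (hx₀1 : x₀ ≠ 1) :
    ∑ χ ∈ Finset.univ \ (exc KH).image D.Xf, (χ : G → ℂ) x₀ * conj ((χ : G → ℂ) x₀) =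
      ((KH).index : ℂ) + 2 * (D.ε : ℂ) * (c : ℂ) -
        (c : ℂ) ^ 2 * ((∑ ψ ∈ exc KH, (nL ψ) ^ 2 : ℕ) : ℂ) := by
  have hall := sum_irr_mul_conj x₀ x₀
  have hci : classIndicator x₀ x₀ = 1 := by
    simp only [classIndicator]
    rw [if_pos (IsConj.refl _)]
  rw [hci, one_mul] at hall
  have hsplit := Finset.sum_sdiff (Finset.subset_univ ((exc KH).image D.Xf))
    (f := fun χ : IrrCharacter G => (χ : G → ℂ) x₀ * conj ((χ : G → ℂ) x₀))
  rw [hall] at hsplit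
  have himg : ∑ χ ∈ (exc KH).image D.Xf, (χ : G → ℂ) x₀ * conj ((χ : G → ℂ) x₀) =
      ∑ ψ ∈ exc KH, ((D.Xf ψ : IrrCharacter G) : G → ℂ) x₀ *
        conj (((D.Xf ψ : IrrCharacter G) : G → ℂ) x₀) := by
    rw [Finset.sum_image]
    intro ψ hψ ψ' hψ' heq
    exact D.inj ψ (Finset.mem_coe.mp hψ) ψ' (Finset.mem_coe.mp hψ') heq
  set x₀' : NH := ⟨x₀, Subgroup.le_normalizer hx₀⟩ with hx₀'
  have hxK : x₀' ∈ KH := Subgroup.mem_subgroupOf.mpr hx₀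
  have hx1' : x₀' ≠ 1 := fun h => hx₀1 (congrArg Subtype.val h)
  have hvals : ∀ ψ ∈ exc KH, ((D.Xf ψ : IrrCharacter G) : G → ℂ) x₀ =
      (D.ε : ℂ) * (ψ : NH → ℂ) x₀' + (nL ψ : ℂ) * (c : ℂ) := by
    intro ψ hψ
    exact exc_values H hTI hC D hψ₁ h1 c hc hψ (nL ψ) (hnL ψ hψ) x₀' hxK hx1'
  have hεconj : conj (D.ε : ℂ) = (D.ε : ℂ) := map_intCast _ _
  have hεsq : (D.ε : ℂ) * (D.ε : ℂ) = 1 := by
    rcases D.hε with h | h <;> rw [h] <;> norm_num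
  have hcconj : conj (c : ℂ) = (c : ℂ) := map_intCast _ _
  have hs2 := sum2_core KH nL hnL (D.ε : ℂ) (c : ℂ) hεconj hεsq hcconj hxK hx1'
  rw [ti_card_centralizer H hTI x₀' hx₀ hx₀1] at hs2
  have hexcsum : ∑ ψ ∈ exc KH, ((D.Xf ψ : IrrCharacter G) : G → ℂ) x₀ *
        conj (((D.Xf ψ : IrrCharacter G) : G → ℂ) x₀) =
      (Nat.card ↥(Subgroup.centralizer ({x₀} : Set G)) : ℂ) - ((KH).index : ℂ) -
        2 * (D.ε : ℂ) * (c : ℂ) + (c : ℂ) ^ 2 * ((∑ ψ ∈ exc KH, (nL ψ) ^ 2 : ℕ) : ℂ) := by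
    rw [← hs2]
    apply Finset.sum_congr rfl
    intro ψ hψ
    rw [hvals ψ hψ]
  rw [himg, hexcsum] at hsplit
  linear_combination hsplit

open Classical in
include hTI hC hnL in
/-- the lower bound forces the constant `c` to vanish -/
theorem c_eq_zero {ψ₁ : IrrCharacter NH} (hψ₁ : ψ₁ ∈ exc KH)
    (h1 : (ψ₁ : NH → ℂ) 1 = ((KH).index : ℂ)) (c : ℤ)
    (hc : ∀ x : NH, x ∈ KH → x ≠ 1 →
      ((D.Xf ψ₁ : IrrCharacter G) : G → ℂ) x = (D.ε : ℂ) * (ψ₁ : NH → ℂ) x + (c : ℂ))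
    (x₀ : G) (hx₀ : x₀ ∈ H) (hx₀1 : x₀ ≠ 1)
    (θ₀ : IrrCharacter G) (hθ₀ : (θ₀ : G → ℂ) x₀ = 0)
    (hnz : ∀ χ : IrrCharacter G, (∀ ψ ∈ exc KH, D.Xf ψ ≠ χ) → χ ≠ θ₀ →
      ∃ k : ℕ, 1 ≤ k ∧ (χ : G → ℂ) x₀ * conj ((χ : G → ℂ) x₀) = (k : ℂ))
    (hcount : (KH).index + (exc KH).card + 1 ≤ Fintype.card (IrrCharacter G))
    (hm : 3 ≤ ∑ ψ ∈ exc KH, (nL ψ) ^ 2) : c = 0 := by
  have hcol := column_nonexc H hTI hC D nL hnL hψ₁ h1 c hc x₀ hx₀ hx₀1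
  set T := Finset.univ \ (exc KH).image D.Xf with hT
  have hTmem : ∀ χ ∈ T, ∀ ψ ∈ exc KH, D.Xf ψ ≠ χ := by
    intro χ hχ ψ hψ heq
    rw [hT, Finset.mem_sdiff] at hχ
    exact hχ.2 (Finset.mem_image.mpr ⟨ψ, hψ, heq⟩)
  have hk : ∀ χ : IrrCharacter G, ∃ k : ℕ, (χ ∈ T.erase θ₀ → 1 ≤ k) ∧
      (χ ∈ T → (χ : G → ℂ) x₀ * conj ((χ : G → ℂ) x₀) = (k : ℂ)) := by
    intro χ
    by_cases hχ : χ ∈ T
    · by_cases hχθ : χ = θ₀
      · refine ⟨0, ?_, ?_⟩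
        · intro h
          exact absurd hχθ (Finset.ne_of_mem_erase h)
        · intro _
          rw [hχθ, hθ₀]
          simp
      · obtain ⟨k, hk1, hk2⟩ := hnz χ (hTmem χ hχ) hχθ
        exact ⟨k, fun _ => hk1, fun _ => hk2⟩
    · exact ⟨0, fun h => absurd (Finset.mem_of_mem_erase h) hχ, fun h => absurd h hχ⟩
  choose kf hkf1 hkf2 using hk
  rw [Finset.sum_congr rfl (fun χ hχ => hkf2 χ hχ), ← Nat.cast_sum] at hcol
  have hKge : (T.erase θ₀).card ≤ ∑ χ ∈ T, kf χ := by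
    calc (T.erase θ₀).card = ∑ χ ∈ T.erase θ₀, 1 := by simp
      _ ≤ ∑ χ ∈ T.erase θ₀, kf χ := Finset.sum_le_sum (fun χ hχ => hkf1 χ hχ)
      _ ≤ ∑ χ ∈ T, kf χ := Finset.sum_le_sum_of_subset (Finset.erase_subset _ _)
  have hTcard : Fintype.card (IrrCharacter G) ≤ T.card + (exc KH).card := by
    have h2 := Finset.card_sdiff_add_card_eq_card (Finset.subset_univ ((exc KH).image D.Xf))
    rw [Finset.card_univ, ← hT] at h2
    have h3 : ((exc KH).image D.Xf).card ≤ (exc KH).card := Finset.card_image_le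
    rw [← h2]
    omega
  have hEr : T.card ≤ (T.erase θ₀).card + 1 := by
    have := Finset.pred_card_le_card_erase (s := T) (a := θ₀)
    omega
  set Kn := ∑ χ ∈ T, kf χ with hKn
  set m := ∑ ψ ∈ exc KH, (nL ψ) ^ 2 with hmdef
  have hKn_ge : (KH).index ≤ Kn := by omega
  -- move to integers
  have hint : ((Kn : ℤ) : ℂ) = (((KH).index : ℤ) + 2 * D.ε * c - c ^ 2 * (m : ℤ) : ℤ) := by
    push_cast
    rw [hcol]
  have hint' : (Kn : ℤ) = ((KH).index : ℤ) + 2 * D.ε * c - c ^ 2 * (m : ℤ) := by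
    exact_mod_cast hint
  have hineq : c ^ 2 * (m : ℤ) ≤ 2 * D.ε * c := by
    have : ((KH).index : ℤ) ≤ (Kn : ℤ) := by exact_mod_cast hKn_ge
    linarith
  have hm' : (3 : ℤ) ≤ (m : ℤ) := by exact_mod_cast hm
  by_contra hc0
  have hcsq : (1 : ℤ) ≤ c ^ 2 := by
    have : 0 < c ^ 2 := by positivity
    omega
  rcases D.hε with hε | hε
  · rw [hε] at hineq
    -- c^2 m ≤ 2 c
    nlinarith [sq_nonneg (c - 1), sq_nonneg c]
  · rw [hε] at hineq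
    nlinarith [sq_nonneg (c + 1), sq_nonneg c]

end Cfsg.Agent.Lib.Helper23.ZF
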