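import Mathlib
import Cfsg.Agent.Lib.Helper5.ZassKernel

/-!
# Counting products of two involutions (helper23)

For a finite group `G` with set of involutions `I`, let `a g` be the number of pairs
`(s₁, s₂) ∈ I × I` with `s₁ * s₂ = g`.  Then `∑ g, a g = |I|²`, `a 1 = |I|`,
`a g ≤ |C_G(g)|`, and hence for every set `A` of conjugacy classes
`|I|² ≤ ∑_{g : [g] ∉ A} a g + |A| * |G|`.
-/

set_option autoImplicit false

namespace Cfsg.Agent.Lib.Helper23.InvPairs

open Finset

variable {G : Type*} [Group G] [Fintype G] [DecidableEq G]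

/-- the involutions -/
noncomputable def invs (G : Type*) [Group G] [Fintype G] [DecidableEq G] : Finset G :=
  univ.filter (fun x : G => orderOf x = 2)

/-- number of ways of writing `g` as a product of two involutions -/
noncomputable def invPairs (g : G) : ℕ :=
  ((invs G ×ˢ invs G).filter (fun p => p.1 * p.2 = g)).card

/-- size of the centralizer, as a filter -/
def centCard (g : G) : ℕ := (univ.filter (fun x : G => x * g = g * x)).card

theorem mem_invs (x : G) : x ∈ invs G ↔ orderOf x = 2 := by
  simp [invs]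

theorem sq_of_mem_invs {x : G} (hx : x ∈ invs G) : x * x = 1 := by
  rw [mem_invs] at hx
  have := pow_orderOf_eq_one x
  rw [hx, pow_two] at this
  exact this

theorem inv_of_mem_invs {x : G} (hx : x ∈ invs G) : x⁻¹ = x :=
  inv_eq_of_mul_eq_one_left (sq_of_mem_invs hx)

theorem sum_invPairs : ∑ g : G, invPairs g = (invs G).card ^ 2 := by
  unfold invPairs
  rw [← Finset.card_eq_sum_card_fiberwise (f := fun p : G × G => p.1 * p.2)
    (s := invs G ×ˢ invs G) (t := univ) (fun _ _ => Finset.mem_coe.mpr (mem_univ _)),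
    card_product, pow_two]

theorem invPairs_one : invPairs (1 : G) = (invs G).card := by
  unfold invPairs
  apply Finset.card_bij (fun p _ => p.1)
  · intro p hp
    rw [mem_filter, mem_product] at hp
    exact hp.1.1
  · intro p hp q hq hpq
    rw [mem_filter, mem_product] at hp hq
    have h1 : p.2 = p.1⁻¹ := (inv_eq_of_mul_eq_one_right hp.2).symm
    have h2 : q.2 = q.1⁻¹ := (inv_eq_of_mul_eq_one_right hq.2).symm
    apply Prod.ext hpq
    rw [h1, h2, hpq]
  · intro x hx
    refine ⟨(x, x), ?_, rfl⟩
    rw [mem_filter, mem_product]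
    exact ⟨⟨hx, hx⟩, sq_of_mem_invs hx⟩

theorem invPairs_le_centCard (g : G) : invPairs g ≤ centCard g := by
  unfold invPairs centCard
  by_cases hne : ((invs G ×ˢ invs G).filter (fun p => p.1 * p.2 = g)).Nonempty
  · obtain ⟨p₀, hp₀⟩ := hne
    rw [mem_filter, mem_product] at hp₀
    obtain ⟨⟨hs0, hs0'⟩, hg0⟩ := hp₀
    apply Finset.card_le_card_of_injOn (fun p => p₀.1⁻¹ * p.1)
    · intro p hp
      have hp' := Finset.mem_coe.mp hp
      rw [mem_filter, mem_product] at hp'
      obtain ⟨⟨hs1, hs2⟩, hg1⟩ := hp'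
      apply Finset.mem_coe.mpr
      rw [mem_filter]
      refine ⟨mem_univ _, ?_⟩
      -- s₁ g = g⁻¹ s₁ and s₀ g = g⁻¹ s₀
      have e1 : p.1 * g = g⁻¹ * p.1 := by
        rw [← hg1, mul_inv_rev, inv_of_mem_invs hs1, inv_of_mem_invs hs2, ← mul_assoc,
          sq_of_mem_invs hs1, one_mul, mul_assoc, sq_of_mem_invs hs1, mul_one]
      have e0 : p₀.1 * g = g⁻¹ * p₀.1 := by
        rw [← hg0, mul_inv_rev, inv_of_mem_invs hs0, inv_of_mem_invs hs0', ← mul_assoc,
          sq_of_mem_invs hs0, one_mul, mul_assoc, sq_of_mem_invs hs0, mul_one]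
      have e0' : p₀.1⁻¹ * g⁻¹ = g * p₀.1⁻¹ := by
        have : g = p₀.1⁻¹ * g⁻¹ * p₀.1 := by
          rw [mul_assoc, ← e0, inv_mul_cancel_left]
        calc p₀.1⁻¹ * g⁻¹ = (p₀.1⁻¹ * g⁻¹ * p₀.1) * p₀.1⁻¹ := by group
          _ = g * p₀.1⁻¹ := by rw [← this]
      calc p₀.1⁻¹ * p.1 * g = p₀.1⁻¹ * (p.1 * g) := by rw [mul_assoc]
        _ = p₀.1⁻¹ * (g⁻¹ * p.1) := by rw [e1]
        _ = (p₀.1⁻¹ * g⁻¹) * p.1 := by rw [mul_assoc]
        _ = g * p₀.1⁻¹ * p.1 := by rw [e0']
        _ = g * (p₀.1⁻¹ * p.1) := by rw [mul_assoc]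
    · intro p hp q hq hpq
      have hp' := Finset.mem_coe.mp hp
      have hq' := Finset.mem_coe.mp hq
      rw [mem_filter, mem_product] at hp' hq'
      have h1 : p.1 = q.1 := mul_left_cancel hpq
      have h2 : p.2 = p.1⁻¹ * g := by rw [← hp'.2, inv_mul_cancel_left]
      have h3 : q.2 = q.1⁻¹ * g := by rw [← hq'.2, inv_mul_cancel_left]
      apply Prod.ext h1
      rw [h2, h3, h1]
  · rw [Finset.not_nonempty_iff_eq_empty] at hne
    rw [hne, card_empty]
    exact Nat.zero_le _

/-- class equation: centralizer times class size -/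
theorem centCard_mul_class (g : G) :
    centCard g * (univ.filter (fun t : G => ConjClasses.mk t = ConjClasses.mk g)).card =
      Fintype.card G := by
  have h := Cfsg.Agent.Lib.Helper5.ZassKernel.card_centralizer_mul_card_conj g
  rw [Nat.card_eq_fintype_card (α := G)] at h
  rw [← h]
  congr 1
  · unfold centCard
    rw [← Fintype.card_subtype, ← Nat.card_eq_fintype_card]
    apply Nat.card_congr
    apply Equiv.subtypeEquivRight
    intro x
    rw [Subgroup.mem_centralizer_singleton_iff]
  · rw [← Fintype.card_subtype, ← Nat.card_eq_fintype_card]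
    apply Nat.card_congr
    apply Equiv.subtypeEquivRight
    intro t
    rw [ConjClasses.mk_eq_mk_iff_isConj]
    exact isConj_comm

/-- the sum of the centralizer orders over a conjugacy class is the group order -/
theorem sum_centCard_class (C : ConjClasses G) :
    ∑ g ∈ univ.filter (fun t : G => ConjClasses.mk t = C), centCard g = Fintype.card G := by
  obtain ⟨x, rfl⟩ := ConjClasses.exists_rep C
  · have hconst : ∀ g ∈ univ.filter (fun t : G => ConjClasses.mk t = ConjClasses.mk x),
        centCard g = centCard x := by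
      intro g hg
      rw [mem_filter] at hg
      have h1 := centCard_mul_class g
      have h2 := centCard_mul_class x
      rw [hg.2] at h1
      have hpos : 0 < (univ.filter (fun t : G => ConjClasses.mk t = ConjClasses.mk x)).card :=
        card_pos.mpr ⟨x, by simp⟩
      exact Nat.eq_of_mul_eq_mul_right hpos (h1.trans h2.symm)
    rw [Finset.sum_congr rfl hconst, sum_const, smul_eq_mul, mul_comm]
    exact centCard_mul_class x

/-- **main counting inequality** -/
theorem card_invs_sq_le (A : Finset (ConjClasses G)) :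
    (invs G).card ^ 2 ≤
      ∑ g ∈ univ.filter (fun g : G => ConjClasses.mk g ∉ A), invPairs g +
        A.card * Fintype.card G := by
  rw [← sum_invPairs]
  rw [← Finset.sum_filter_add_sum_filter_not univ (fun g : G => ConjClasses.mk g ∉ A)]
  apply Nat.add_le_add_left
  have h1 : ∑ g ∈ univ.filter (fun g : G => ¬ ConjClasses.mk g ∉ A), invPairs g ≤
      ∑ g ∈ univ.filter (fun g : G => ConjClasses.mk g ∈ A), centCard g := by
    have : univ.filter (fun g : G => ¬ ConjClasses.mk g ∉ A) =
        univ.filter (fun g : G => ConjClasses.mk g ∈ A) := by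
      ext g; simp
    rw [this]
    exact Finset.sum_le_sum (fun g _ => invPairs_le_centCard g)
  refine h1.trans (le_of_eq ?_)
  rw [← Finset.sum_fiberwise_of_maps_to (s := univ.filter (fun g : G => ConjClasses.mk g ∈ A))
    (t := A) (g := fun g : G => ConjClasses.mk g) (fun g hg => (mem_filter.mp hg).2)]
  have : ∀ C ∈ A, ∑ g ∈ (univ.filter (fun g : G => ConjClasses.mk g ∈ A)).filter
      (fun g => ConjClasses.mk g = C), centCard g = Fintype.card G := by
    intro C hC
    rw [← sum_centCard_class C]
    apply Finset.sum_congr _ (fun _ _ => rfl)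
    ext g
    simp only [mem_filter, mem_univ, true_and]
    constructor
    · exact fun h => h.2
    · intro h
      exact ⟨by rw [h]; exact hC, h⟩
  rw [Finset.sum_congr rfl this, sum_const, smul_eq_mul]

end Cfsg.Agent.Lib.Helper23.InvPairs
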