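import Mathlib
import Cfsg.Agent.Lib.Helper23.ZF2
import Cfsg.Agent.Lib.Helper23.ZF4
import Cfsg.Agent.Lib.Lead.PermChar
import Cfsg.Agent.S0190
import Cfsg.Agent.S0881
import Cfsg.Agent.S0884

/-!
# Simple Zassenhaus groups, odd two-point stabilizer: the special irreducible characters
(helper23, towards S0885)
-/

set_option autoImplicit false
set_option linter.unusedSectionVars false

namespace Cfsg.Agent.Lib.Helper23.ZF

open Cfsg MulAction Cfsg.Agent.CharLib Cfsg.Agent.Lib.Lead.CNExc Cfsg.Agent.Lib.Helper25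
open scoped ComplexConjugate

section transport

variable {G : Type*} [Group G] [Fintype G]

/-- transport of a function along an equality of subgroups -/
def transportFun {A B : Subgroup G} (hAB : A = B) (f : A → ℂ) : B → ℂ :=
  fun x => f ⟨x, hAB ▸ x.2⟩

theorem indFun_transportFun {A B : Subgroup G} (hAB : A = B) (f : A → ℂ) :
    indFun B (transportFun hAB f) = indFun A f := by
  subst hAB
  rfl

theorem isCharacter_transportFun {A B : Subgroup G} (hAB : A = B) {f : A → ℂ}
    (hf : IsCharacter A f) : IsCharacter B (transportFun hAB f) := by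
  subst hAB
  exact hf

theorem transportFun_apply {A B : Subgroup G} (hAB : A = B) (f : A → ℂ) (x : G) (hx : x ∈ A) :
    transportFun hAB f ⟨x, hAB ▸ hx⟩ = f ⟨x, hx⟩ := rfl

end transport

namespace ZSetup

variable {G : Type*} {Ω : Type*} [Group G] [Fintype G] [MulAction G Ω] [Fintype Ω] {a b : Ω}
  {H : Subgroup G} {h e : ℕ}

local notation "NH" => Subgroup.normalizer (H : Set G)
local notation "KH" => H.subgroupOf (Subgroup.normalizer (H : Set G))

/-- the non-trivial constituent of the permutation character -/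
noncomputable def theta (S : ZSetup G Ω a b H h e) : IrrCharacter G :=
  ⟨fun g => (Nat.card (MulAction.fixedBy Ω g) : ℂ) - 1, by
    have h2t := S.hZ.2.1
    have : IsPretransitive G Ω := isPretransitive_of_is_two_pretransitive
    apply (isIrrCharacter_card_fixedBy_sub_one_iff (X := Ω) ?_).mpr h2t
    rw [Nat.card_eq_fintype_card, S.hh]
    have := S.h_ge
    omega⟩

theorem theta_apply (S : ZSetup G Ω a b H h e) (g : G) :
    (S.theta : G → ℂ) g = (Nat.card (MulAction.fixedBy Ω g) : ℂ) - 1 := rfl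

theorem theta_one (S : ZSetup G Ω a b H h e) : (S.theta : G → ℂ) 1 = (h : ℂ) := by
  rw [S.theta_apply]
  have : Nat.card (MulAction.fixedBy Ω (1 : G)) = h + 1 := by
    rw [← S.hh, ← Nat.card_eq_fintype_card]
    apply Nat.card_congr
    exact ⟨fun x => x.1, fun x => ⟨x, by simp⟩, fun x => rfl, fun x => rfl⟩
  rw [this]
  push_cast
  ring

theorem theta_apply_of_mem (S : ZSetup G Ω a b H h e) {x : G} (hx : x ∈ H) (hx1 : x ≠ 1) :
    (S.theta : G → ℂ) x = 0 := by
  rw [S.theta_apply]
  have : Nat.card (MulAction.fixedBy Ω x) = 1 := by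
    rw [Nat.card_eq_one_iff_unique]
    refine ⟨⟨?_⟩, ⟨⟨a, ?_⟩⟩⟩
    · rintro ⟨c, hc⟩ ⟨d, hd⟩
      apply Subtype.ext
      rw [MulAction.mem_fixedBy] at hc hd
      exact (S.hHfix x hx hx1 c hc).trans (S.hHfix x hx hx1 d hd).symm
    · rw [MulAction.mem_fixedBy]
      exact mem_stabilizer_iff.mp (S.hHa hx)
  rw [this]
  simp

variable [Fintype ↥(Subgroup.normalizer (H : Set G))]
  [Fintype (IrrCharacter ↥(Subgroup.normalizer (H : Set G)))]

/-- the permutation character is induced from the trivial character of `N_G(H)` -/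
theorem indFun_one (S : ZSetup G Ω a b H h e) :
    indFun NH (fun _ => (1 : ℂ)) = fun g => 1 + (S.theta : G → ℂ) g := by
  have h2t := S.hZ.2.1
  have : IsPretransitive G Ω := isPretransitive_of_is_two_pretransitive
  have h1 := Cfsg.Agent.S0190.result (G := G) Ω a
  have h2 : indFun NH (fun _ => (1 : ℂ)) = indFun (stabilizer G a) (fun _ => (1 : ℂ)) := by
    rw [← indFun_transportFun S.normalizer_eq (fun _ => (1 : ℂ))]
    rfl
  rw [h2, ← h1]
  funext g
  rw [S.theta_apply]
  ring

/-- non-trivial linear characters of `N_G(H)/H` induce irreducibly (S0881) -/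
theorem ind_inKer (S : ZSetup G Ω a b H h e) {ξ : IrrCharacter NH} (hξ : ξ ∈ inKer KH)
    (hξ1 : ξ ≠ trivIrr NH) :
    IsIrrCharacter G (indFun NH (ξ : NH → ℂ)) ∧
      (∀ u ∈ H, u ≠ 1 → indFun NH (ξ : NH → ℂ) u = 1) ∧
      indFun NH (ξ : NH → ℂ) 1 = ((h : ℂ) + 1) := by
  have hodd : Odd (Nat.card ↥(stabilizer G a ⊓ stabilizer G b : Subgroup G)) := by
    rw [S.he]; exact S.hodd
  have hlt : Nat.card ↥(stabilizer G a ⊓ stabilizer G b : Subgroup G) < Fintype.card Ω - 2 := by
    rw [S.he, S.hh]
    have := S.hlt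
    omega
  have := S.simple
  have hξc : IsCharacter NH (ξ : NH → ℂ) := IsIrrCharacter.isCharacter ξ.2
  have hξone : (ξ : NH → ℂ) 1 = 1 := S.inKer_linear hξ
  set μ : ↥(stabilizer G a) → ℂ := transportFun S.normalizer_eq (ξ : NH → ℂ) with hμ
  have hμc : IsCharacter ↥(stabilizer G a) μ := isCharacter_transportFun S.normalizer_eq hξc
  have hμ1 : μ 1 = 1 := hξone
  have hμH : ∀ u : ↥(stabilizer G a), (u : G) ∈ H → μ u = 1 := by
    intro u hu
    have huN : (u : G) ∈ NH := Subgroup.le_normalizer hu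
    have : μ u = (ξ : NH → ℂ) ⟨(u : G), huN⟩ := rfl
    rw [this, inKer_apply KH hξ (Subgroup.mem_subgroupOf.mpr hu), hξone]
  have hμne : μ ≠ fun _ => 1 := by
    intro hμeq
    apply hξ1
    apply Subtype.ext
    funext x
    have hx : (x : G) ∈ stabilizer G a := S.normalizer_eq ▸ x.2
    have := congrFun hμeq ⟨(x : G), hx⟩
    exact this
  obtain ⟨hirr, hval⟩ := Cfsg.Agent.S0881.result S.hZ S.hab hodd hlt H S.hHa S.hHcard S.hHfix μ
    ⟨hμc, hμ1⟩ hμH hμne
  have hind : indFun (stabilizer G a) μ = indFun NH (ξ : NH → ℂ) :=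
    indFun_transportFun S.normalizer_eq _
  rw [hind] at hirr hval
  refine ⟨hirr, hval, ?_⟩
  rw [Cfsg.Agent.Lib.Helper10.indFun_apply_one_index, hξone, mul_one]
  have hidx : (NH).index = h + 1 := by
    have h1 := Subgroup.card_mul_index NH
    rw [S.card_normalizer, S.card_G] at h1
    have hpos : 0 < h * e := by
      have := S.h_ge
      have := S.e_ge
      positivity
    have h2 : h * e * (NH).index = h * e * (h + 1) := by rw [h1]; ring
    exact Nat.eq_of_mul_eq_mul_left hpos h2
  rw [hidx]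
  push_cast
  ring

variable [Fintype (IrrCharacter G)]

/-- an irreducible character of `G` whose restriction to `N_G(H)` has a constituent trivial on
`H` is `1`, `θ`, or one of the induced characters of degree `h + 1` -/
theorem caseA (S : ZSetup G Ω a b H h e) (χ : IrrCharacter G) (ξ : IrrCharacter NH)
    (hξ : ξ ∈ inKer KH) (hne : classInner (resN H (χ : G → ℂ)) (ξ : NH → ℂ) ≠ 0) :
    χ = trivIrr G ∨ χ = S.theta ∨
      ((χ : G → ℂ) 1 = (h : ℂ) + 1 ∧ ∀ u ∈ H, u ≠ 1 → (χ : G → ℂ) u = 1) := by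
  have hχcl : IsClassFunction G (χ : G → ℂ) :=
    IsCharacter.isClassFunction (IsIrrCharacter.isCharacter χ.2)
  have hrec := frobenius_reciprocity NH (ξ : NH → ℂ) hχcl
  have hne' : classInner (indFun NH (ξ : NH → ℂ)) (χ : G → ℂ) ≠ 0 := by
    rw [hrec]
    intro h0
    apply hne
    have := congrArg conj h0
    rw [classInner_conj_symm, map_zero] at this
    exact this
  by_cases hξ1 : ξ = trivIrr NH
  · have htr : ((trivIrr NH : IrrCharacter NH) : NH → ℂ) = fun _ => (1 : ℂ) := rfl
    rw [hξ1, htr, S.indFun_one] at hne'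
    have hsum : (fun g => 1 + (S.theta : G → ℂ) g) =
        ((trivIrr G : IrrCharacter G) : G → ℂ) + (S.theta : G → ℂ) := by
      funext g
      rfl
    rw [hsum, classInner_add_left, classInner_irr', classInner_irr'] at hne'
    by_cases h1 : trivIrr G = χ
    · left; exact h1.symm
    · by_cases h2 : S.theta = χ
      · right; left; exact h2.symm
      · rw [if_neg h1, if_neg h2, add_zero] at hne'
        exact absurd rfl hne'
  · obtain ⟨hirr, hval, hdeg⟩ := S.ind_inKer hξ hξ1
    right; right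
    have heq : (⟨indFun NH (ξ : NH → ℂ), hirr⟩ : IrrCharacter G) = χ := by
      by_contra hcon
      have := classInner_irr' (⟨indFun NH (ξ : NH → ℂ), hirr⟩ : IrrCharacter G) χ
      rw [if_neg hcon] at this
      exact hne' this
    have hfun : (χ : G → ℂ) = indFun NH (ξ : NH → ℂ) := by rw [← heq]
    rw [hfun]
    exact ⟨hdeg, hval⟩

end ZSetup

end Cfsg.Agent.Lib.Helper23.ZF
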