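import Mathlib
import Cfsg.Agent.Lib.Helper23.ZF5

/-!
# Simple Zassenhaus groups, odd two-point stabilizer: coherence forces `Θ₁|_N = ψ₁`
(helper23, towards S0885)
-/

set_option autoImplicit false
set_option linter.unusedSectionVars false

namespace Cfsg.Agent.Lib.Helper23.ZF

open Cfsg MulAction Cfsg.Agent.CharLib Cfsg.Agent.Lib.Lead.CNExc Cfsg.Agent.Lib.Helper25
open scoped ComplexConjugate

namespace ZSetup

variable {G : Type*} {Ω : Type*} [Group G] [Fintype G] [MulAction G Ω] [Fintype Ω] {a b : Ω}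
  {H : Subgroup G} {h e : ℕ}
  [Fintype ↥(Subgroup.normalizer (H : Set G))]
  [Fintype (IrrCharacter ↥(Subgroup.normalizer (H : Set G)))]
  [Fintype (IrrCharacter G)]

local notation "NH" => Subgroup.normalizer (H : Set G)
local notation "KH" => H.subgroupOf (Subgroup.normalizer (H : Set G))

/-- the Frobenius condition inside `N_G(H)` -/
theorem hC' (S : ZSetup G Ω a b H h e) :
    ∀ k ∈ KH, k ≠ 1 → Subgroup.centralizer ({k} : Set NH) ≤ KH :=
  frob_transfer H (fun k hk hk1 => inf_le_right.trans (S.cent_le k hk hk1))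

/-- counting: `e + |exc| + 1 ≤ |Irr G|` -/
theorem hcount (S : ZSetup G Ω a b H h e) :
    (KH).index + (exc KH).card + 1 ≤ Fintype.card (IrrCharacter G) := by
  classical
  have h1 : Fintype.card (IrrCharacter G) = Nat.card (ConjClasses G) := by
    rw [← Nat.card_eq_fintype_card]
    exact card_irrCharacter
  have := S.simple
  have h2 := Cfsg.Agent.S0884.result S.hZ S.hab h e S.hh S.he S.hodd S.hlt H S.hHa S.hHcard S.hHfix
  have h3 := S.card_exc_add_one_le
  have h4 : Nat.card (ConjClasses G) =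
      Nat.card {C : ConjClasses G // ∀ g : G, ConjClasses.mk g = C → g ∉ H} +
      Nat.card {C : ConjClasses G // ¬ ∀ g : G, ConjClasses.mk g = C → g ∉ H} := by
    rw [Nat.card_eq_fintype_card, Nat.card_eq_fintype_card, Nat.card_eq_fintype_card,
      ← Fintype.card_sum]
    exact (Fintype.card_congr (Equiv.sumCompl _)).symm
  rw [h1, h4, S.index_subgroupOf]
  omega

variable (nL : IrrCharacter (Subgroup.normalizer (H : Set G)) → ℕ)
  (hnL : ∀ ψ ∈ exc (H.subgroupOf (Subgroup.normalizer (H : Set G))),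
    (ψ : Subgroup.normalizer (H : Set G) → ℂ) 1 =
      (((H.subgroupOf (Subgroup.normalizer (H : Set G))).index * nL ψ : ℕ) : ℂ))

include hnL in
theorem e_mul_m (S : ZSetup G Ω a b H h e) :
    e * (∑ ψ ∈ exc KH, (nL ψ) ^ 2) + 1 = h := by
  have h1 := index_mul_sum_sq KH nL hnL
  rw [S.index_subgroupOf, card_subgroupOf_normalizer, S.card_H] at h1
  exact h1

include hnL in
theorem hm (S : ZSetup G Ω a b H h e) : 3 ≤ ∑ ψ ∈ exc KH, (nL ψ) ^ 2 := by
  have h1 := S.e_mul_m nL hnL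
  have h2 := S.hlt
  have h3 := S.e_ge
  by_contra hcon
  push Not at hcon
  have : e * (∑ ψ ∈ exc KH, (nL ψ) ^ 2) ≤ e * 2 := Nat.mul_le_mul_left e (by omega)
  omega

variable (D : CohData (Subgroup.normalizer (H : Set G))
  (H.subgroupOf (Subgroup.normalizer (H : Set G))))

/-- a non-exceptional irreducible character other than `θ` takes a non-zero integer value
at the non-identity elements of `H` -/
theorem hnz (S : ZSetup G Ω a b H h e) {ψ₁ : IrrCharacter NH} (hψ₁ : ψ₁ ∈ exc KH)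
    (h1 : (ψ₁ : NH → ℂ) 1 = ((KH).index : ℂ))
    (x₀ : G) (hx₀ : x₀ ∈ H) (hx₀1 : x₀ ≠ 1)
    (χ : IrrCharacter G) (hχ : ∀ ψ ∈ exc KH, D.Xf ψ ≠ χ) (hχθ : χ ≠ S.theta) :
    ∃ k : ℕ, 1 ≤ k ∧ (χ : G → ℂ) x₀ * conj ((χ : G → ℂ) x₀) = (k : ℂ) := by
  by_cases hex : ∃ ξ ∈ inKer KH, classInner (resN H (χ : G → ℂ)) (ξ : NH → ℂ) ≠ 0
  · obtain ⟨ξ, hξ, hne⟩ := hex
    rcases S.caseA χ ξ hξ hne with h2 | h2 | ⟨-, h2⟩
    · refine ⟨1, le_refl _, ?_⟩
      rw [h2]
      have : ((trivIrr G : IrrCharacter G) : G → ℂ) x₀ = 1 := rfl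
      rw [this]
      simp
    · exact absurd h2 hχθ
    · refine ⟨1, le_refl _, ?_⟩
      rw [h2 x₀ hx₀ hx₀1]
      simp
  · push Not at hex
    have hval := nonexc_value H S.hC' D hψ₁ h1 χ hχ x₀ hx₀ hx₀1
    rw [Finset.sum_eq_zero (fun ξ hξ => by rw [hex ξ hξ, zero_mul]), add_zero] at hval
    obtain ⟨n, hn⟩ := IsCharacter.classInner_nat (resN_isCharacter H χ)
      (IsIrrCharacter.isCharacter ψ₁.2)
    have hn0 : n ≠ 0 := by
      intro hn0
      rw [hn0, Nat.cast_zero] at hn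
      have hzero : resN H (χ : G → ℂ) = 0 := by
        apply eq_zero_of_classInner_irr_eq_zero (resN_classFunction H χ)
        intro φ
        by_cases hφ : φ ∈ inKer KH
        · exact hex φ hφ
        · have hφe : φ ∈ exc KH := by
            rw [mem_exc]
            intro hall
            exact hφ ((mem_inKer KH).mpr hall)
          obtain ⟨m, -, hm⟩ := exc_degree KH S.hC' hφe
          rw [mult_rel H D hφe hψ₁ h1 m hm χ, hn, if_neg (hχ φ hφe), if_neg (hχ ψ₁ hψ₁)]
          ring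
      obtain ⟨d, hd, hd1⟩ := IsIrrCharacter.apply_one_pos χ.2
      have : resN H (χ : G → ℂ) 1 = (χ : G → ℂ) 1 := rfl
      rw [hzero, hd1] at this
      have h0 : (d : ℂ) = 0 := this.symm
      rw [Nat.cast_eq_zero] at h0
      omega
    refine ⟨n * n, ?_, ?_⟩
    · have : 1 ≤ n := Nat.one_le_iff_ne_zero.mpr hn0
      nlinarith
    · rw [hval, hn]
      simp

end ZSetup

end Cfsg.Agent.Lib.Helper23.ZF
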