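import Mathlib
import Cfsg.Agent.Lib.Helper23.ZF6

/-!
# Simple Zassenhaus groups, odd two-point stabilizer: coherence forces `Θ₁|_N = ψ₁`, part 2
(helper23, towards S0885)
-/

set_option autoImplicit false
set_option linter.unusedSectionVars false

namespace Cfsg.Agent.Lib.Helper23.ZF

open Cfsg MulAction Cfsg.Agent.CharLib Cfsg.Agent.Lib.Lead.CNExc Cfsg.Agent.Lib.Helper25
open scoped ComplexConjugate

namespace ZSetup

variable {G : Type*} {Ω : Type*} [Group G] [Fintype G] [MulAction G Ω] [Fintype Ω] {a b : Ω}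
  {H : Subgroup G} {h e : ℕ}
  [Fintype ↥(Subgroup.normalizer (H : Set G))]
  [Fintype (IrrCharacter ↥(Subgroup.normalizer (H : Set G)))]
  [Fintype (IrrCharacter G)]

local notation "NH" => Subgroup.normalizer (H : Set G)
local notation "KH" => H.subgroupOf (Subgroup.normalizer (H : Set G))

variable (D : CohData (Subgroup.normalizer (H : Set G))
  (H.subgroupOf (Subgroup.normalizer (H : Set G))))

set_option maxHeartbeats 1000000 in
/-- under coherence the base exceptional character restricts irreducibly to `N_G(H)` -/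
theorem res_eq (S : ZSetup G Ω a b H h e) {ψ₁ : IrrCharacter NH} (hψ₁ : ψ₁ ∈ exc KH)
    (h1 : (ψ₁ : NH → ℂ) 1 = ((KH).index : ℂ)) :
    resN H ((D.Xf ψ₁ : IrrCharacter G) : G → ℂ) = (ψ₁ : NH → ℂ) := by
  classical
  have hC := S.hC'
  have hTI := S.ti
  have hidx := S.index_subgroupOf
  have he3 := S.e_ge
  -- the degree quotients
  have hexn : ∀ ψ : IrrCharacter NH, ∃ n : ℕ, ψ ∈ exc KH →
      (ψ : NH → ℂ) 1 = (((KH).index * n : ℕ) : ℂ) := by
    intro ψ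
    by_cases hψ : ψ ∈ exc KH
    · obtain ⟨n, -, hn⟩ := exc_degree KH hC hψ
      exact ⟨n, fun _ => hn⟩
    · exact ⟨0, fun h' => absurd h' hψ⟩
  choose nL hnL using hexn
  have hn1 : nL ψ₁ = 1 := by
    have h2 := hnL ψ₁ hψ₁
    rw [h1] at h2
    have h3 : (KH).index = (KH).index * nL ψ₁ := by exact_mod_cast h2
    have hpos : 0 < (KH).index := by rw [hidx]; omega
    have h4 : (KH).index * 1 = (KH).index * nL ψ₁ := by rw [mul_one]; exact h3
    exact (Nat.eq_of_mul_eq_mul_left hpos h4).symm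
  set m := ∑ ψ ∈ exc KH, (nL ψ) ^ 2 with hmdef
  have hem := S.e_mul_m nL hnL
  have hm3 := S.hm nL hnL
  rw [← hmdef] at hem hm3
  -- the restriction
  set Θ₁ : IrrCharacter G := D.Xf ψ₁ with hΘ₁
  set R : NH → ℂ := resN H (Θ₁ : G → ℂ) with hR
  have hRc : IsCharacter NH R := resN_isCharacter H Θ₁
  have hRcl : IsClassFunction NH R := resN_classFunction H Θ₁
  obtain ⟨a₁, ha₁⟩ := IsCharacter.classInner_nat hRc (IsIrrCharacter.isCharacter ψ₁.2)
  have hnat : ∀ ξ : IrrCharacter NH, ∃ k : ℕ, classInner R (ξ : NH → ℂ) = (k : ℂ) :=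
    fun ξ => IsCharacter.classInner_nat hRc (IsIrrCharacter.isCharacter ξ.2)
  choose kf hkf using hnat
  have ht₁ : ∑ ξ ∈ inKer KH, classInner R (ξ : NH → ℂ) * (ξ : NH → ℂ) 1 =
      ((∑ ξ ∈ inKer KH, kf ξ : ℕ) : ℂ) := by
    rw [Nat.cast_sum]
    apply Finset.sum_congr rfl
    intro ξ hξ
    rw [hkf ξ, S.inKer_linear hξ, mul_one]
  set t₁ := ∑ ξ ∈ inKer KH, kf ξ with ht₁def
  set c : ℤ := -((a₁ : ℤ) - D.ε) + (t₁ : ℤ) with hcdef
  have hc : ∀ x : NH, x ∈ KH → x ≠ 1 →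
      ((D.Xf ψ₁ : IrrCharacter G) : G → ℂ) x = (D.ε : ℂ) * (ψ₁ : NH → ℂ) x + (c : ℂ) := by
    intro x hxK hx1
    have := chi1_value H hC D hψ₁ h1 x hxK hx1
    rw [this, ← hΘ₁, ← hR, ha₁, ht₁, hcdef]
    push_cast
    ring
  -- a non-identity element of H
  obtain ⟨x₀, hx₀, hx₀1⟩ : ∃ x₀ ∈ H, x₀ ≠ 1 := by
    by_contra hcon
    push Not at hcon
    exact S.ne_bot ((Subgroup.eq_bot_iff_forall H).mpr hcon)
  have hc0 : c = 0 :=
    c_eq_zero H hTI hC D nL hnL hψ₁ h1 c hc x₀ hx₀ hx₀1 S.theta (S.theta_apply_of_mem hx₀ hx₀1)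
      (fun χ hχ hχθ => S.hnz D hψ₁ h1 x₀ hx₀ hx₀1 χ hχ hχθ) S.hcount hm3
  have hta : (t₁ : ℤ) = (a₁ : ℤ) - D.ε := by
    rw [hcdef] at hc0
    linarith
  -- multiplicities of the exceptional characters
  have hmult : ∀ ψ ∈ exc KH, classInner R (ψ : NH → ℂ) =
      (nL ψ : ℂ) * (a₁ : ℂ) + (D.ε : ℂ) * ((if ψ = ψ₁ then 1 else 0) - (nL ψ : ℂ)) := by
    intro ψ hψ
    rw [hR, mult_rel H D hψ hψ₁ h1 (nL ψ) (hnL ψ hψ) Θ₁, ← hR, ha₁, if_pos rfl]
    by_cases hψeq : ψ = ψ₁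
    · rw [if_pos hψeq, if_pos (by rw [hψeq])]
      ring
    · rw [if_neg hψeq, if_neg (fun h' => hψeq (D.inj ψ hψ ψ₁ hψ₁ h'))]
      ring
  -- the degree formula
  have hdeg : R 1 = (t₁ : ℂ) + (e : ℂ) * (m : ℂ) * ((a₁ : ℂ) - (D.ε : ℂ)) + (D.ε : ℂ) * (e : ℂ) := by
    have hexp := congrFun (classFunction_eq_sum hRcl) 1
    simp only [Finset.sum_apply, Pi.smul_apply, smul_eq_mul] at hexp
    rw [sum_split KH, ht₁] at hexp
    have hexc : ∑ ψ ∈ exc KH, classInner R (ψ : NH → ℂ) * (ψ : NH → ℂ) 1 =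
        (e : ℂ) * (m : ℂ) * ((a₁ : ℂ) - (D.ε : ℂ)) + (D.ε : ℂ) * (e : ℂ) := by
      have hterm : ∀ ψ ∈ exc KH, classInner R (ψ : NH → ℂ) * (ψ : NH → ℂ) 1 =
          (e : ℂ) * ((a₁ : ℂ) - (D.ε : ℂ)) * ((nL ψ : ℂ)) ^ 2 +
            (D.ε : ℂ) * (e : ℂ) * (if ψ = ψ₁ then (nL ψ : ℂ) else 0) := by
        intro ψ hψ
        rw [hmult ψ hψ, hnL ψ hψ, hidx]
        push_cast
        by_cases hψeq : ψ = ψ₁
        · rw [if_pos hψeq, if_pos hψeq]; ring
        · rw [if_neg hψeq, if_neg hψeq]; ring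
      rw [Finset.sum_congr rfl hterm, Finset.sum_add_distrib, ← Finset.mul_sum, ← Finset.mul_sum,
        Finset.sum_ite_eq' (exc KH) ψ₁, if_pos hψ₁, hn1, hmdef]
      push_cast
      ring
    rw [hexc] at hexp
    rw [hexp]
    ring
  -- t₁ = 0
  have hΘdeg : (Θ₁ : G → ℂ) 1 = R 1 := rfl
  have ht₁0 : t₁ = 0 := by
    by_contra ht0
    have hex : ∃ ξ ∈ inKer KH, classInner R (ξ : NH → ℂ) ≠ 0 := by
      by_contra hcon
      push Not at hcon
      apply ht0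
      rw [ht₁def]
      apply Finset.sum_eq_zero
      intro ξ hξ
      have := hcon ξ hξ
      rw [hkf ξ] at this
      exact_mod_cast this
    obtain ⟨ξ, hξ, hne⟩ := hex
    have hdegZ : R 1 = (((t₁ : ℤ) * (h : ℤ) + D.ε * (e : ℤ) : ℤ) : ℂ) := by
      rw [hdeg]
      have h2 : ((a₁ : ℂ) - (D.ε : ℂ)) = ((t₁ : ℤ) : ℂ) := by
        rw [hta]; push_cast; ring
      rw [h2]
      have h3 : (h : ℂ) = (e : ℂ) * (m : ℂ) + 1 := by
        rw [← hem]; push_cast; ring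
      push_cast
      rw [h3]
      ring
    have ht1 : (1 : ℤ) ≤ (t₁ : ℤ) := by
      have : 1 ≤ t₁ := Nat.one_le_iff_ne_zero.mpr ht0
      exact_mod_cast this
    have hlt := S.hlt
    have hh8 := S.h_ge
    have hltZ : 2 * (e : ℤ) + 2 ≤ (h : ℤ) := by
      have : 2 * e + 2 ≤ h := by omega
      exact_mod_cast this
    have he3Z : (3 : ℤ) ≤ (e : ℤ) := by exact_mod_cast he3
    have hcases : (t₁ : ℤ) = 1 ∨ 2 * (h : ℤ) ≤ (t₁ : ℤ) * (h : ℤ) := by
      by_cases ht2 : (t₁ : ℤ) = 1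
      · left; exact ht2
      · right
        have : (2 : ℤ) ≤ (t₁ : ℤ) := by omega
        have hh0 : (0 : ℤ) ≤ (h : ℤ) := Int.natCast_nonneg _
        nlinarith
    have hfin : ∀ v : ℤ, (v = 1 ∨ v = (h : ℤ) ∨ v = (h : ℤ) + 1) →
        (t₁ : ℤ) * (h : ℤ) + D.ε * (e : ℤ) = v → False := by
      intro v hv h4
      rcases hcases with ht2 | ht2
      · rw [ht2] at h4
        rcases D.hε with hε | hε <;> rw [hε] at h4 <;> rcases hv with hv | hv | hv <;>
          rw [hv] at h4 <;> linarith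
      · rcases D.hε with hε | hε <;> rw [hε] at h4 <;> rcases hv with hv | hv | hv <;>
          rw [hv] at h4 <;> linarith
    rcases S.caseA Θ₁ ξ hξ hne with h2 | h2 | ⟨h2, -⟩
    · have h3 : (Θ₁ : G → ℂ) 1 = 1 := by rw [h2]; rfl
      rw [hΘdeg, hdegZ] at h3
      have h4 : (t₁ : ℤ) * (h : ℤ) + D.ε * (e : ℤ) = 1 := by exact_mod_cast h3
      exact hfin 1 (Or.inl rfl) h4
    · have h3 : (Θ₁ : G → ℂ) 1 = (h : ℂ) := by rw [h2]; exact S.theta_one
      rw [hΘdeg, hdegZ] at h3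
      have h4 : (t₁ : ℤ) * (h : ℤ) + D.ε * (e : ℤ) = (h : ℤ) := by exact_mod_cast h3
      exact hfin _ (Or.inr (Or.inl rfl)) h4
    · rw [hΘdeg, hdegZ] at h2
      have h4 : (t₁ : ℤ) * (h : ℤ) + D.ε * (e : ℤ) = (h : ℤ) + 1 := by exact_mod_cast h2
      exact hfin _ (Or.inr (Or.inr rfl)) h4
  have ha₁ε : (a₁ : ℤ) = D.ε := by
    rw [ht₁0] at hta
    push_cast at hta
    linarith
  have hε1 : D.ε = 1 := by
    rcases D.hε with hε | hε
    · exact hε
    · rw [hε] at ha₁ε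
      have : (0 : ℤ) ≤ (a₁ : ℤ) := Int.natCast_nonneg _
      omega
  have ha₁1 : a₁ = 1 := by
    rw [hε1] at ha₁ε
    exact_mod_cast ha₁ε
  -- all inner products agree
  have hkf0 : ∀ ξ ∈ inKer KH, kf ξ = 0 := by
    intro ξ hξ
    have := Finset.sum_eq_zero_iff.mp (ht₁def ▸ ht₁0) ξ hξ
    exact this
  have hsub : R - (ψ₁ : NH → ℂ) = 0 := by
    apply eq_zero_of_classInner_irr_eq_zero
      (IsClassFunction.sub hRcl (IsCharacter.isClassFunction (IsIrrCharacter.isCharacter ψ₁.2)))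
    intro φ
    rw [classInner_sub_left, classInner_irr']
    by_cases hφ : φ ∈ inKer KH
    · have hne : ψ₁ ≠ φ := by
        intro h'
        rw [h', mem_exc] at hψ₁
        exact hψ₁ ((mem_inKer KH).mp hφ)
      rw [if_neg hne, hkf φ, hkf0 φ hφ]
      simp
    · have hφe : φ ∈ exc KH := by
        rw [mem_exc]
        intro hall
        exact hφ ((mem_inKer KH).mpr hall)
      rw [hmult φ hφe, ha₁1, hε1]
      by_cases hφeq : φ = ψ₁
      · rw [if_pos hφeq, if_pos hφeq.symm]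
        push_cast
        ring
      · rw [if_neg hφeq, if_neg (fun h' => hφeq h'.symm)]
        push_cast
        ring
  exact sub_eq_zero.mp hsub

end ZSetup

end Cfsg.Agent.Lib.Helper23.ZF
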