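import Mathlib
import Cfsg.Agent.Lib.Helper23.ZF7

/-!
# Simple Zassenhaus groups, odd two-point stabilizer: the tensor-square end-game
(helper23, towards S0885)
-/

set_option autoImplicit false
set_option linter.unusedSectionVars false

namespace Cfsg.Agent.Lib.Helper23.ZF

open Cfsg MulAction Cfsg.Agent.CharLib Cfsg.Agent.Lib.Lead.CNExc Cfsg.Agent.Lib.Helper25
open scoped ComplexConjugate

universe u

section generic

variable {L : Type u} [Group L] [Fintype L] (K : Subgroup L) [hKn : K.Normal]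
  [Fintype (IrrCharacter L)]
variable (hC : ∀ k ∈ K, k ≠ 1 → Subgroup.centralizer ({k} : Set L) ≤ K)

open Classical in
include hKn hC in
/-- summing a class function over a Frobenius kernel -/
theorem sum_kernel (R : L → ℂ) (hR : IsClassFunction L R) :
    ∑ x ∈ Finset.univ.filter (fun x : L => x ∈ K), R x =
      (Nat.card K : ℂ) * ∑ ξ ∈ inKer K, classInner R (ξ : L → ℂ) * (ξ : L → ℂ) 1 := by
  have hexp : ∀ x : L, R x = ∑ ζ : IrrCharacter L, classInner R (ζ : L → ℂ) * (ζ : L → ℂ) x := by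
    intro x
    have := congrFun (classFunction_eq_sum hR) x
    simp only [Finset.sum_apply, Pi.smul_apply, smul_eq_mul] at this
    exact this
  rw [Finset.sum_congr rfl (fun x _ => hexp x), Finset.sum_comm]
  have hsum : ∀ ζ : IrrCharacter L,
      ∑ x ∈ Finset.univ.filter (fun x : L => x ∈ K), classInner R (ζ : L → ℂ) * (ζ : L → ℂ) x =
      if ζ ∈ inKer K then (Nat.card K : ℂ) * (classInner R (ζ : L → ℂ) * (ζ : L → ℂ) 1) else 0 := by
    intro ζ
    rw [← Finset.mul_sum]
    by_cases hζ : ζ ∈ inKer K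
    · rw [if_pos hζ]
      have : ∑ x ∈ Finset.univ.filter (fun x : L => x ∈ K), (ζ : L → ℂ) x =
          (Nat.card K : ℂ) * (ζ : L → ℂ) 1 := by
        rw [Finset.sum_congr rfl (fun x hx => inKer_apply K hζ (Finset.mem_filter.mp hx).2),
          Finset.sum_const, nsmul_eq_mul]
        congr 2
        rw [Nat.card_eq_fintype_card, Fintype.card_subtype]
      rw [this]
      ring
    · rw [if_neg hζ]
      have hζe : ζ ∈ exc K := by
        rw [mem_exc]
        intro hall
        exact hζ ((mem_inKer K).mpr hall)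
      have h1 := exc_row_sum K hC hζe
      have h2 : Finset.univ.filter (fun x : L => x ∈ K) =
          insert 1 (Finset.univ.filter (fun x : L => x ∈ K ∧ x ≠ 1)) := by
        ext x
        simp only [Finset.mem_filter, Finset.mem_univ, true_and, Finset.mem_insert]
        constructor
        · intro hx
          by_cases hx1 : x = 1
          · left; exact hx1
          · right; exact ⟨hx, hx1⟩
        · rintro (rfl | ⟨hx, -⟩)
          · exact K.one_mem
          · exact hx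
      rw [h2, Finset.sum_insert (by simp), h1]
      ring
  rw [Finset.sum_congr rfl (fun ζ _ => hsum ζ), ← Finset.sum_filter, Finset.mul_sum]
  apply Finset.sum_congr
  · ext ζ
    simp
  · intro ζ _
    rfl

end generic

namespace ZSetup

variable {G : Type*} {Ω : Type*} [Group G] [Fintype G] [MulAction G Ω] [Fintype Ω] {a b : Ω}
  {H : Subgroup G} {h e : ℕ}
  [Fintype ↥(Subgroup.normalizer (H : Set G))]
  [Fintype (IrrCharacter ↥(Subgroup.normalizer (H : Set G)))]
  [Fintype (IrrCharacter G)]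

local notation "NH" => Subgroup.normalizer (H : Set G)
local notation "KH" => H.subgroupOf (Subgroup.normalizer (H : Set G))

open Classical in
/-- an irreducible character of degree `h + 1` with value `1` on `H` minus the identity has
exactly two (with multiplicity) constituents trivial on `H` in its restriction to `N_G(H)` -/
theorem sum_inKer_eq_two (S : ZSetup G Ω a b H h e) (χ : IrrCharacter G)
    (hdeg : (χ : G → ℂ) 1 = (h : ℂ) + 1) (hval : ∀ u ∈ H, u ≠ 1 → (χ : G → ℂ) u = 1) :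
    ∑ ξ ∈ inKer KH, classInner (resN H (χ : G → ℂ)) (ξ : NH → ℂ) * (ξ : NH → ℂ) 1 = 2 := by
  have h1 := sum_kernel KH S.hC' (resN H (χ : G → ℂ)) (resN_classFunction H χ)
  rw [card_subgroupOf_normalizer, S.card_H] at h1
  have h2 : Finset.univ.filter (fun x : NH => x ∈ KH) =
      insert 1 (Finset.univ.filter (fun x : NH => x ∈ KH ∧ x ≠ 1)) := by
    ext x
    rw [Finset.mem_insert, Finset.mem_filter, Finset.mem_filter]
    constructor
    · rintro ⟨-, hx⟩
      by_cases hx1 : x = 1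
      · exact Or.inl hx1
      · exact Or.inr ⟨Finset.mem_univ _, hx, hx1⟩
    · rintro (hx | hx)
      · rw [hx]; exact ⟨Finset.mem_univ _, Subgroup.one_mem _⟩
      · exact ⟨Finset.mem_univ _, hx.2.1⟩
  have h3 : ∑ x ∈ Finset.univ.filter (fun x : NH => x ∈ KH ∧ x ≠ 1), resN H (χ : G → ℂ) x =
      ((Finset.univ.filter (fun x : NH => x ∈ KH ∧ x ≠ 1)).card : ℂ) := by
    have hone : ∀ x ∈ Finset.univ.filter (fun x : NH => x ∈ KH ∧ x ≠ 1),
        resN H (χ : G → ℂ) x = 1 := by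
      intro x hx
      rw [Finset.mem_filter] at hx
      exact hval (x : G) (Subgroup.mem_subgroupOf.mp hx.2.1)
        (fun h' => hx.2.2 (Subtype.ext h'))
    rw [Finset.sum_congr rfl hone, Finset.sum_const, nsmul_eq_mul, mul_one]
  have h4 := Cfsg.Agent.Lib.Lead.CNEnd.card_filter_mem_ne_one KH
  rw [card_subgroupOf_normalizer, S.card_H] at h4
  rw [h2, Finset.sum_insert (by simp), h3] at h1
  have h5 : resN H (χ : G → ℂ) 1 = (h : ℂ) + 1 := hdeg
  rw [h5] at h1
  have h6 : ((Finset.univ.filter (fun x : NH => x ∈ KH ∧ x ≠ 1)).card : ℂ) = (h : ℂ) - 1 := by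
    have : ((Finset.univ.filter (fun x : NH => x ∈ KH ∧ x ≠ 1)).card : ℂ) + 1 = (h : ℂ) := by
      exact_mod_cast h4
    linear_combination this
  rw [h6] at h1
  have hh0 : (h : ℂ) ≠ 0 := by
    have := S.h_ge
    exact_mod_cast (by omega : h ≠ 0)
  have h7 : (h : ℂ) * (∑ ξ ∈ inKer KH,
      classInner (resN H (χ : G → ℂ)) (ξ : NH → ℂ) * (ξ : NH → ℂ) 1 - 2) = 0 := by
    linear_combination -h1
  rcases mul_eq_zero.mp h7 with h8 | h8
  · exact absurd h8 hh0
  · linear_combination h8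

set_option maxHeartbeats 1000000 in
open Classical in
/-- coherence is impossible -/
theorem false_of_cohData (S : ZSetup G Ω a b H h e)
    (D : CohData (Subgroup.normalizer (H : Set G))
      (H.subgroupOf (Subgroup.normalizer (H : Set G))))
    {ψ₁ : IrrCharacter NH} (hψ₁ : ψ₁ ∈ exc KH)
    (h1 : (ψ₁ : NH → ℂ) 1 = ((KH).index : ℂ)) : False := by
  have hres := S.res_eq D hψ₁ h1
  have hC := S.hC'
  have hidx := S.index_subgroupOf
  have he3 := S.e_ge
  set Θ₁ : IrrCharacter G := D.Xf ψ₁ with hΘ₁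
  have hΘx : ∀ x : NH, (Θ₁ : G → ℂ) (x : G) = (ψ₁ : NH → ℂ) x := fun x => congrFun hres x
  have hΘc : IsCharacter G (Θ₁ : G → ℂ) := IsIrrCharacter.isCharacter Θ₁.2
  set Ψ : G → ℂ := (Θ₁ : G → ℂ) * (fun g => conj ((Θ₁ : G → ℂ) g)) with hΨ
  have hΨc : IsCharacter G Ψ := IsCharacter.mul hΘc (IsCharacter.conj hΘc)
  have hΨcl : IsClassFunction G Ψ := IsCharacter.isClassFunction hΨc
  have hΨ1 : Ψ 1 = ((e * e : ℕ) : ℂ) := by
    have : Ψ 1 = (Θ₁ : G → ℂ) 1 * conj ((Θ₁ : G → ℂ) 1) := rfl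
    have h2 : (Θ₁ : G → ℂ) 1 = (e : ℂ) := by
      have := hΘx 1
      rw [h1, hidx] at this
      exact this
    rw [this, h2, Complex.conj_natCast]
    push_cast
    ring
  -- inner product of the induced characters with Ψ
  have hind : ∀ ξ ∈ inKer KH, classInner (indFun NH (ξ : NH → ℂ)) Ψ = 1 := by
    intro ξ hξ
    rw [frobenius_reciprocity NH (ξ : NH → ℂ) hΨcl]
    have hξ1 := S.inKer_linear hξ
    have hnorm := classInner_irr' ψ₁ ψ₁
    rw [if_pos rfl] at hnorm
    rw [← hnorm]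
    simp only [classInner]
    congr 1
    apply Finset.sum_congr rfl
    intro x _
    have hΨx : Ψ (x : G) = (ψ₁ : NH → ℂ) x * conj ((ψ₁ : NH → ℂ) x) := by
      have : Ψ (x : G) = (Θ₁ : G → ℂ) (x : G) * conj ((Θ₁ : G → ℂ) (x : G)) := rfl
      rw [this, hΘx]
    rw [hΨx]
    by_cases hx : x ∈ KH
    · rw [inKer_apply KH hξ hx, hξ1, one_mul, map_mul, Complex.conj_conj, mul_comm]
    · rw [exc_vanish KH hC hψ₁ hx]
      simp
  -- the map to irreducible characters of G
  let Φ : IrrCharacter NH → IrrCharacter G := fun ξ =>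
    if hirr : IsIrrCharacter G (indFun NH (ξ : NH → ℂ)) then ⟨indFun NH (ξ : NH → ℂ), hirr⟩
    else trivIrr G
  set Istar := (inKer KH).erase (trivIrr NH) with hIstar
  have hIcard : Istar.card = e - 1 := by
    rw [hIstar, Finset.card_erase_of_mem (triv_mem_inKer KH), S.card_inKer]
  have hΦ : ∀ ξ ∈ Istar, ((Φ ξ : IrrCharacter G) : G → ℂ) = indFun NH (ξ : NH → ℂ) ∧
      ((Φ ξ : IrrCharacter G) : G → ℂ) 1 = (h : ℂ) + 1 ∧
      ∀ u ∈ H, u ≠ 1 → ((Φ ξ : IrrCharacter G) : G → ℂ) u = 1 := by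
    intro ξ hξ
    rw [hIstar, Finset.mem_erase] at hξ
    obtain ⟨hirr, hval, hdeg⟩ := S.ind_inKer hξ.2 hξ.1
    have : ((Φ ξ : IrrCharacter G) : G → ℂ) = indFun NH (ξ : NH → ℂ) := by
      simp only [Φ, dif_pos hirr]
    rw [this]
    exact ⟨rfl, hdeg, hval⟩
  -- fibers have at most two elements
  have hfiber : ∀ χ ∈ Istar.image Φ, (Istar.filter (fun ξ => Φ ξ = χ)).card ≤ 2 := by
    intro χ hχ
    obtain ⟨ξ₀, hξ₀, rfl⟩ := Finset.mem_image.mp hχ
    obtain ⟨-, hdeg, hval⟩ := hΦ ξ₀ hξ₀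
    have htwo := S.sum_inKer_eq_two (Φ ξ₀) hdeg hval
    have hnat : ∀ ξ : IrrCharacter NH, ∃ k : ℕ,
        classInner (resN H ((Φ ξ₀ : IrrCharacter G) : G → ℂ)) (ξ : NH → ℂ) = (k : ℂ) :=
      fun ξ => IsCharacter.classInner_nat (resN_isCharacter H (Φ ξ₀))
        (IsIrrCharacter.isCharacter ξ.2)
    choose kf hkf using hnat
    have htwo' : ∑ ξ ∈ inKer KH, kf ξ = 2 := by
      have : ((∑ ξ ∈ inKer KH, kf ξ : ℕ) : ℂ) = 2 := by
        rw [← htwo, Nat.cast_sum]
        apply Finset.sum_congr rfl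
        intro ξ hξ
        rw [hkf ξ, S.inKer_linear hξ, mul_one]
      exact_mod_cast this
    have hone : ∀ ξ ∈ Istar.filter (fun ξ => Φ ξ = Φ ξ₀), kf ξ = 1 := by
      intro ξ hξ
      rw [Finset.mem_filter] at hξ
      obtain ⟨hξI, hξeq⟩ := hξ
      have hfun := (hΦ ξ hξI).1
      have hrec := frobenius_reciprocity NH (ξ : NH → ℂ)
        (IsCharacter.isClassFunction (IsIrrCharacter.isCharacter (Φ ξ₀).2))
      rw [← hfun, hξeq, classInner_irr', if_pos rfl] at hrec
      have h2 : classInner (resN H ((Φ ξ₀ : IrrCharacter G) : G → ℂ)) (ξ : NH → ℂ) = 1 := by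
        have := congrArg conj hrec
        rw [map_one, classInner_conj_symm] at this
        exact this.symm
      rw [hkf ξ] at h2
      exact_mod_cast h2
    have hsub : Istar.filter (fun ξ => Φ ξ = Φ ξ₀) ⊆ inKer KH := by
      intro ξ hξ
      rw [Finset.mem_filter, hIstar, Finset.mem_erase] at hξ
      exact hξ.1.2
    calc (Istar.filter (fun ξ => Φ ξ = Φ ξ₀)).card
        = ∑ ξ ∈ Istar.filter (fun ξ => Φ ξ = Φ ξ₀), kf ξ := by
          rw [Finset.sum_congr rfl hone]; simp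
      _ ≤ ∑ ξ ∈ inKer KH, kf ξ := Finset.sum_le_sum_of_subset hsub
      _ = 2 := htwo'
  have hcardD : e - 1 ≤ 2 * (Istar.image Φ).card := by
    rw [← hIcard]
    exact Finset.card_le_mul_card_image Istar 2 hfiber
  -- decomposition of Ψ at 1
  have hnatΨ : ∀ χ : IrrCharacter G, ∃ k : ℕ, classInner Ψ (χ : G → ℂ) = (k : ℂ) :=
    fun χ => IsCharacter.classInner_nat hΨc (IsIrrCharacter.isCharacter χ.2)
  choose nf hnf using hnatΨ
  have hdegnat : ∀ χ : IrrCharacter G, ∃ d : ℕ, (χ : G → ℂ) 1 = (d : ℂ) :=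
    fun χ => IsCharacter.apply_one (IsIrrCharacter.isCharacter χ.2)
  choose df hdf using hdegnat
  have hΨsum : e * e = ∑ χ : IrrCharacter G, nf χ * df χ := by
    have hexp := congrFun (classFunction_eq_sum hΨcl) 1
    simp only [Finset.sum_apply, Pi.smul_apply, smul_eq_mul] at hexp
    rw [hΨ1, Finset.sum_congr rfl (fun χ _ => by rw [hnf χ, hdf χ])] at hexp
    have : ((e * e : ℕ) : ℂ) = ((∑ χ : IrrCharacter G, nf χ * df χ : ℕ) : ℂ) := by
      rw [hexp]
      push_cast
      rfl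
    exact_mod_cast this
  have hDterm : ∀ χ ∈ Istar.image Φ, nf χ * df χ = h + 1 := by
    intro χ hχ
    obtain ⟨ξ₀, hξ₀, rfl⟩ := Finset.mem_image.mp hχ
    obtain ⟨hfun, hdeg, -⟩ := hΦ ξ₀ hξ₀
    have hξ₀' : ξ₀ ∈ inKer KH := by
      rw [hIstar, Finset.mem_erase] at hξ₀
      exact hξ₀.2
    have h2 := hind ξ₀ hξ₀'
    rw [← hfun] at h2
    have h3 : classInner Ψ ((Φ ξ₀ : IrrCharacter G) : G → ℂ) = 1 := by
      have := congrArg conj h2
      rw [map_one, classInner_conj_symm] at this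
      exact this
    rw [hnf] at h3
    have hn1 : nf (Φ ξ₀) = 1 := by exact_mod_cast h3
    rw [hdf] at hdeg
    have hd1 : df (Φ ξ₀) = h + 1 := by exact_mod_cast hdeg
    rw [hn1, hd1, one_mul]
  have hge : (Istar.image Φ).card * (h + 1) ≤ e * e := by
    rw [hΨsum]
    calc (Istar.image Φ).card * (h + 1) = ∑ χ ∈ Istar.image Φ, (h + 1) := by
          rw [Finset.sum_const, smul_eq_mul]
      _ = ∑ χ ∈ Istar.image Φ, nf χ * df χ := by
          apply Finset.sum_congr rfl
          intro χ hχ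
          rw [hDterm χ hχ]
      _ ≤ ∑ χ : IrrCharacter G, nf χ * df χ :=
          Finset.sum_le_sum_of_subset (Finset.subset_univ _)
  -- arithmetic: h ≥ 3e + 1
  have hh3 : 3 * e + 1 ≤ h := by
    -- from e * m + 1 = h with m ≥ 3; use nL
    have hexn : ∀ ψ : IrrCharacter NH, ∃ n : ℕ, ψ ∈ exc KH →
        (ψ : NH → ℂ) 1 = (((KH).index * n : ℕ) : ℂ) := by
      intro ψ
      by_cases hψ : ψ ∈ exc KH
      · obtain ⟨n, -, hn⟩ := exc_degree KH hC hψ
        exact ⟨n, fun _ => hn⟩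
      · exact ⟨0, fun h' => absurd h' hψ⟩
    choose nL hnL using hexn
    have hem := S.e_mul_m nL hnL
    have hm3 := S.hm nL hnL
    have : e * 3 ≤ e * ∑ ψ ∈ exc KH, (nL ψ) ^ 2 := Nat.mul_le_mul_left e hm3
    omega
  set d := (Istar.image Φ).card with hd
  have h5 : (e - 1) * (h + 1) ≤ 2 * (e * e) := by
    calc (e - 1) * (h + 1) ≤ (2 * d) * (h + 1) := Nat.mul_le_mul_right _ hcardD
      _ = 2 * (d * (h + 1)) := by ring
      _ ≤ 2 * (e * e) := Nat.mul_le_mul_left 2 hge
  have h6 : (e - 1) * (3 * e + 2) ≤ (e - 1) * (h + 1) := Nat.mul_le_mul_left _ (by omega)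
  obtain ⟨e', rfl⟩ : ∃ e', e = e' + 3 := ⟨e - 3, by omega⟩
  have h7 : (e' + 3 - 1) = e' + 2 := by omega
  rw [h7] at h5 h6
  nlinarith

end ZSetup

end Cfsg.Agent.Lib.Helper23.ZF
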