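import Mathlib
import Cfsg.Agent.Lib.Helper23.ZF8
import Cfsg.Agent.Lib.Helper23.SibNil
import Cfsg.Agent.S1524

/-!
# Simple Zassenhaus groups, odd two-point stabilizer: Feit's theorem in the simple case
(helper23, towards S0885)
-/

set_option autoImplicit false
set_option linter.unusedSectionVars false

namespace Cfsg.Agent.Lib.Helper23.ZF

open Cfsg MulAction Cfsg.Agent.CharLib Cfsg.Agent.Lib.Lead.CNExc Cfsg.Agent.Lib.Helper25
open scoped ComplexConjugate commutatorElement

namespace ZSetup

variable {G : Type*} {Ω : Type*} [Group G] [Fintype G] [MulAction G Ω] [Fintype Ω] {a b : Ω}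
  {H : Subgroup G} {h e : ℕ}
  [Fintype ↥(Subgroup.normalizer (H : Set G))]

local notation "NH" => Subgroup.normalizer (H : Set G)
local notation "KH" => H.subgroupOf (Subgroup.normalizer (H : Set G))

/-- coherence of the induced characters of `N_G(H)` is impossible -/
theorem coherent_false (S : ZSetup G Ω a b H h e)
    (hcoh : IsCoherent (inducedIrrAbove KH ⊥) {1}ᶜ (fun α : NH → ℂ => indFun NH α)) : False := by
  classical
  let _ := fintypeIrr NH
  let _ := fintypeIrr G
  have hC := S.hC'
  obtain ⟨hnil, -⟩ := Cfsg.Agent.Lib.Helper23.SibAb.frob_data H S.lt_normalizer S.cent_le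
  have hsolv : Group.IsSolvable H := by
    have := hnil
    infer_instance
  have hsolv' := solvable_subgroupOf_normalizer H hsolv
  have hK1' := subgroupOf_normalizer_ne_bot H S.ne_bot
  obtain ⟨ψ₁, hψ₁, h1⟩ := exists_exc_linear KH hC hsolv' hK1'
  have htwo : ∃ ψ ∈ exc KH, ∃ ψ' ∈ exc KH, ψ ≠ ψ' := by
    by_contra hcon
    push Not at hcon
    have hsingle : exc KH = {ψ₁} := by
      ext ψ
      rw [Finset.mem_singleton]
      constructor
      · intro hψ
        exact hcon ψ hψ ψ₁ hψ₁
      · rintro rfl
        exact hψ₁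
    have hsum := sum_exc_deg_sq KH
    rw [hsingle, Finset.sum_singleton, h1, S.index_subgroupOf, Complex.conj_natCast,
      S.card_normalizer] at hsum
    have hnat : e * e + e = h * e := by
      have : ((e * e + e : ℕ) : ℂ) = ((h * e : ℕ) : ℂ) := by
        push_cast at hsum ⊢
        linear_combination hsum
      exact_mod_cast this
    have he3 := S.e_ge
    have hlt := S.hlt
    have : (e + 1) * e = h * e := by rw [← hnat]; ring
    have h2 : e + 1 = h := Nat.eq_of_mul_eq_mul_right (by omega) this
    omega
  obtain ⟨D⟩ := cohData_of_coherent' NH KH hC htwo hcoh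
  exact S.false_of_cohData D hψ₁ h1

/-- **Feit (1960), simple case**: `H` is a non-abelian 2-group with small commutator quotient -/
theorem simple_case (S : ZSetup G Ω a b H h e) :
    IsPGroup 2 H ∧ (∃ u v : H, u * v ≠ v * u) ∧ (commutator H).index ≤ 4 * e ^ 2 + 1 := by
  classical
  have hK1 := S.ne_bot
  have hlt := S.lt_normalizer
  have hC := S.cent_le
  have hTI := S.ti
  obtain ⟨hnil, W₁, hW₁L, hW1, hinf, hsup, hfpf⟩ :=
    Cfsg.Agent.Lib.Helper23.SibAb.frob_data H hlt hC
  by_cases hab : ∀ x ∈ H, ∀ y ∈ H, x * y = y * x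
  · exfalso
    rcases Cfsg.Agent.Lib.Helper23.SibAb.sibley_of_comm' H hK1 hTI hC hab with h1 | h1
    · have h2 := h1.2.1
      rw [S.card_H, S.index_subgroupOf] at h2
      have := S.hlt
      omega
    · rw [Cfsg.Agent.Lib.Helper23.SibAb.relevant_eq_inducedIrrAbove H hC] at h1
      exact S.coherent_false h1
  · rcases Cfsg.Agent.Lib.Helper23.SibAb.sibley_of_noncomm H hK1 hnil hTI hlt hC hab with
      h1 | ⟨⟨p, hp, hpg⟩, hle⟩
    · exact absurd (S.coherent_false h1) id
    · by_cases hp2 : p = 2
      · subst hp2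
        refine ⟨hpg, ?_, ?_⟩
        · by_contra hcon
          push Not at hcon
          apply hab
          intro x hx y hy
          have := hcon ⟨x, hx⟩ ⟨y, hy⟩
          exact congrArg Subtype.val this
        · rw [← Cfsg.Agent.Lib.Helper23.SibAb.commutator_subgroupOf_self H]
          rw [S.index_subgroupOf] at hle
          exact hle
      · exfalso
        have : Fact p.Prime := ⟨hp⟩
        have hodd := Cfsg.Agent.Lib.Helper23.SibAb.odd_card_normalizer_of_noncomm H
          (Cfsg.Agent.Lib.Helper23.SibAb.odd_card_of_isPGroup H p hp2 hpg) hC hab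
        have hcoh := Cfsg.Agent.S1524.result H (Subgroup.normalizer (H : Set G)) W₁
          hodd hlt.le hW₁L hK1 hW1 hnil
          (Cfsg.Agent.Lib.Helper23.SibAb.normalizer_conj_mem H) hinf hsup hfpf hTI rfl
        exact S.coherent_false hcoh

end ZSetup

end Cfsg.Agent.Lib.Helper23.ZF
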