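import Mathlib
import Cfsg.Agent.Lib.Helper23.ZF9
import Cfsg.Agent.Lib.Helper23.ZF10

/-!
# Feit's theorem (1960) on Zassenhaus groups with two-point stabilizer of odd order (helper23)

`h - 1 ≤ 2 e`, or `H` is a non-abelian 2-group with `|H : H'| ≤ 4 e² + 1`.
Reduction to the simple case by induction on the group order.
-/

set_option autoImplicit false
set_option linter.unusedSectionVars false

namespace Cfsg.Agent.Lib.Helper23.ZF

open Cfsg MulAction Cfsg.Agent.Lib.Helper5.Zass

universe u v

theorem feit_zass_aux {Ω : Type v} [Fintype Ω] {a b : Ω} (hab : a ≠ b) (h : ℕ)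
    (hh : Fintype.card Ω = h + 1) :
    ∀ (n : ℕ) (G : Type u) [Group G] [Finite G] [MulAction G Ω] (_hZ : IsZassenhausGroup G Ω)
      (e : ℕ) (_he : Nat.card ↥(stabilizer G a ⊓ stabilizer G b : Subgroup G) = e) (_hodd : Odd e)
      (H : Subgroup G) (_hHa : H ≤ stabilizer G a) (_hHcard : Nat.card H + 1 = Fintype.card Ω)
      (_hHfix : ∀ u ∈ H, u ≠ 1 → ∀ c : Ω, u • c = c → c = a), Nat.card G = n →
      h - 1 ≤ 2 * e ∨ (IsPGroup 2 H ∧ (∃ u v : H, u * v ≠ v * u) ∧
        (commutator H).index ≤ 4 * e ^ 2 + 1) := by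
  intro n
  induction n using Nat.strong_induction_on with
  | _ n ih =>
    intro G _ _ _ hZ e he hodd H hHa hHcard hHfix hn
    by_cases hlt : 2 * e < h - 1
    swap
    · left; omega
    right
    by_cases hs : IsSimpleGroup G
    · classical
      have : Fintype G := Fintype.ofFinite G
      have : Fintype ↥(Subgroup.normalizer (H : Set G)) := Fintype.ofFinite _
      have S : ZSetup G Ω a b H h e := ⟨hZ, hab, hs, hh, he, hodd, hlt, hHa, hHcard, hHfix⟩
      exact S.simple_case
    · -- a proper non-trivial normal subgroup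
      have hnt : Nontrivial G := by
        obtain ⟨x, hx1, -, -⟩ := zass_two_point_ne hZ hab
        exact ⟨⟨x, 1, hx1⟩⟩
      obtain ⟨K, hKn, hKbot, hKtop⟩ : ∃ K : Subgroup G, K.Normal ∧ K ≠ ⊥ ∧ K ≠ ⊤ := by
        by_contra hcon
        push Not at hcon
        apply hs
        refine ⟨fun K hK => ?_⟩
        by_cases hKb : K = ⊥
        · exact Or.inl hKb
        · exact Or.inr (hcon K hK hKb)
      have hZK : IsZassenhausGroup K Ω := zass_normal_subgroup hZ K hKbot
      have hcardK : Nat.card K < n := by
        rw [← hn]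
        apply lt_of_le_of_ne (Subgroup.card_le_card_group K)
        intro heq
        exact hKtop ((Subgroup.card_eq_iff_eq_top K).mp heq)
      have hHK : H ≤ K := by
        intro x hx
        apply zass_normal_contains_kernel hZ K hKbot a x
        refine ⟨mem_stabilizer_iff.mp (hHa hx), ?_⟩
        by_cases hx1 : x = 1
        · exact Or.inl hx1
        · exact Or.inr (hHfix x hx hx1)
      -- the two-point stabilizer of `K`
      set eK := Nat.card ↥(stabilizer K a ⊓ stabilizer K b : Subgroup K) with heK
      have hdvd : eK ∣ e := by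
        rw [← he]
        let f : ↥(stabilizer K a ⊓ stabilizer K b : Subgroup K) →*
            ↥(stabilizer G a ⊓ stabilizer G b : Subgroup G) :=
          { toFun := fun x => ⟨((x : K) : G), by
              have hx := x.2
              rw [Subgroup.mem_inf, mem_stabilizer_iff, mem_stabilizer_iff] at hx ⊢
              exact hx⟩
            map_one' := rfl
            map_mul' := fun x y => rfl }
        apply Subgroup.card_dvd_of_injective f
        intro x y hxy
        have h3 : ((x : K) : G) = ((y : K) : G) :=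
          congrArg (fun z : ↥(stabilizer G a ⊓ stabilizer G b : Subgroup G) => (z : G)) hxy
        exact Subtype.ext (Subtype.ext h3)
      have hoddK : Odd eK := by
        obtain ⟨k, hk⟩ := hdvd
        rw [hk] at hodd
        exact (Nat.odd_mul.mp hodd).1
      have heKle : eK ≤ e := by
        apply Nat.le_of_dvd _ hdvd
        obtain ⟨k, hk⟩ := hodd
        omega
      have hHaK : H.subgroupOf K ≤ stabilizer K a := by
        intro x hx
        rw [mem_stabilizer_iff]
        exact mem_stabilizer_iff.mp (hHa (Subgroup.mem_subgroupOf.mp hx))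
      have hcardHK : Nat.card ↥(H.subgroupOf K) = Nat.card H :=
        Nat.card_congr (Subgroup.subgroupOfEquivOfLe hHK).toEquiv
      have hHfixK : ∀ u ∈ H.subgroupOf K, u ≠ 1 → ∀ c : Ω, u • c = c → c = a := by
        intro u hu hu1 c hc
        exact hHfix (u : G) (Subgroup.mem_subgroupOf.mp hu)
          (fun h' => hu1 (Subtype.ext h')) c hc
      have hIH := ih (Nat.card K) hcardK K hZK eK rfl hoddK (H.subgroupOf K) hHaK
        (by rw [hcardHK]; exact hHcard) hHfixK rfl
      rcases hIH with h1 | ⟨hpg, ⟨u, v, huv⟩, hidx⟩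
      · omega
      · let φ : ↥(H.subgroupOf K) ≃* ↥H := Subgroup.subgroupOfEquivOfLe hHK
        refine ⟨hpg.of_equiv φ, ⟨φ u, φ v, ?_⟩, ?_⟩
        · intro h'
          apply huv
          apply φ.injective
          rw [map_mul, map_mul]
          exact h'
        · rw [← Cfsg.Agent.Lib.Helper23.SibAb.index_commutator_congr φ]
          refine hidx.trans ?_
          have := Nat.pow_le_pow_left heKle 2
          omega

/-- **Feit (1960)** (= S0885) -/
theorem feit_zass {G : Type u} {Ω : Type v} [Group G] [Finite G] [MulAction G Ω] [Fintype Ω]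
    (hZ : IsZassenhausGroup G Ω) {a b : Ω} (hab : a ≠ b) (h e : ℕ)
    (hh : Fintype.card Ω = h + 1)
    (he : Nat.card ↥(stabilizer G a ⊓ stabilizer G b : Subgroup G) = e) (hodd : Odd e)
    (H : Subgroup G) (hHa : H ≤ stabilizer G a) (hHcard : Nat.card H + 1 = Fintype.card Ω)
    (hHfix : ∀ u ∈ H, u ≠ 1 → ∀ c : Ω, u • c = c → c = a) :
    h - 1 ≤ 2 * e ∨ (IsPGroup 2 H ∧ (∃ u v : H, u * v ≠ v * u) ∧
      (commutator H).index ≤ 4 * e ^ 2 + 1) :=
  feit_zass_aux hab h hh (Nat.card G) G hZ e he hodd H hHa hHcard hHfix rfl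

end Cfsg.Agent.Lib.Helper23.ZF
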