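import Mathlib
import Cfsg.Prelude.Def_OddOrderLocal
import Cfsg.Prelude.Def_Solvable
import Cfsg.Prelude.Def_LieExceptional

/-!
# CTI-groups (towards S4064): shared definitions (helper23)

A finite group is a CTI-group when the centralizer of every element is a TI-subgroup.  The theorem
(S4064) says such a group is nilpotent, or a Frobenius group with complement cyclic or
`Z_m × Q₈`, or `PSL₂(2ⁿ)`.  This file only fixes the vocabulary shared by the packages of the proof.
-/

set_option autoImplicit false

namespace Cfsg.Agent.Lib.Helper23.CTI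

open Cfsg

/-- CTI-group: every element centralizer is a TI-subgroup (hypothesis of S4064) -/
def IsCTI (G : Type*) [Group G] : Prop :=
  ∀ x : G, Cfsg.IsTISubset (Subgroup.centralizer ({x} : Set G) : Set G)

/-- second alternative of S4064 -/
def FrobAlt (G : Type*) [Group G] : Prop :=
  ∃ H : Subgroup G, Cfsg.IsFrobeniusComplement H ∧
    (IsCyclic H ∨ ∃ m : ℕ, Odd m ∧ Nonempty (H ≃* Multiplicative (ZMod m) × QuaternionGroup 2))

/-- abstract form of the third alternative of S4064: a simple group whose Sylow 2-subgroup `P` has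
order at least 4, is the centralizer of each of its non-identity elements, has all its non-identity
elements fused in `N(P)`, and has `|P| + 1` conjugates -/
structure PSLlike (G : Type*) [Group G] : Prop where
  simple : IsSimpleGroup G
  exists_syl : ∃ P : Sylow 2 G, 4 ≤ Nat.card (P : Subgroup G) ∧
    (∀ t ∈ (P : Subgroup G), t ≠ 1 → Subgroup.centralizer ({t} : Set G) = (P : Subgroup G)) ∧
    (∀ s ∈ (P : Subgroup G), s ≠ 1 → ∀ t ∈ (P : Subgroup G), t ≠ 1 →
      ∃ g ∈ Subgroup.normalizer ((P : Subgroup G) : Set G), g * s * g⁻¹ = t) ∧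
    (Subgroup.normalizer ((P : Subgroup G) : Set G)).index = Nat.card (P : Subgroup G) + 1

/-- the trichotomy proved by induction on the order -/
def Tri (G : Type*) [Group G] : Prop := Group.IsNilpotent G ∨ FrobAlt G ∨ PSLlike G

/-- output of the strongly-embedded analysis of a simple CTI-group of even order: `P` a Sylow
2-subgroup, `N = N(P)`, `M` the common centralizer of the involutions of `P`, `u` an involution
outside `N`; the group is a Zassenhaus group on the cosets of `N` with `|M| + 1` points, `M` acts
semiregularly off the base point, and the two-point stabilizer `N ∩ uNu⁻¹` acts regularly on the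
involutions of `P` (all of which are central in `P`). -/
structure ZData (G : Type*) [Group G] where
  P : Sylow 2 G
  M : Subgroup G
  u : G
  hPM : (P : Subgroup G) ≤ M
  hMN : M ≤ Subgroup.normalizer ((P : Subgroup G) : Set G)
  hcent : ∀ t ∈ (P : Subgroup G), orderOf t = 2 → Subgroup.centralizer ({t} : Set G) = M
  hcentral : ∀ t ∈ (P : Subgroup G), orderOf t = 2 → ∀ x ∈ (P : Subgroup G), t * x = x * t
  hu : orderOf u = 2
  huN : u ∉ Subgroup.normalizer ((P : Subgroup G) : Set G)
  hZ : IsZassenhausGroup G (G ⧸ Subgroup.normalizer ((P : Subgroup G) : Set G))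
  hcard : Nat.card (G ⧸ Subgroup.normalizer ((P : Subgroup G) : Set G)) = Nat.card M + 1
  hfix : ∀ m ∈ M, m ≠ 1 → ∀ c : G ⧸ Subgroup.normalizer ((P : Subgroup G) : Set G), m • c = c →
    c = ((1 : G) : G ⧸ Subgroup.normalizer ((P : Subgroup G) : Set G))
  hreg : ∀ s ∈ (P : Subgroup G), orderOf s = 2 → ∀ t ∈ (P : Subgroup G), orderOf t = 2 →
    ∃! d : G, d ∈ Subgroup.normalizer ((P : Subgroup G) : Set G) ∧
      u * d * u⁻¹ ∈ Subgroup.normalizer ((P : Subgroup G) : Set G) ∧ d * s * d⁻¹ = t

end Cfsg.Agent.Lib.Helper23.CTI
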