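/-
helper23: Thompson's theorem (p | chi(1) for all nonlinear irreducible chi => normal p-complement), via
O^p(G), coprime extension over a p-group quotient (helper6 DetExtSolv + S0865) and a weighted
fixed-point congruence for p-group actions.
-/
import Mathlib
import Cfsg.Agent.Lib.Helper6.DetExtSolv
import Cfsg.Agent.Lib.Helper6.LinExt
import Cfsg.Agent.Lib.Helper6.LinChar
import Cfsg.Agent.Lib.Helper24.PerfectLemmas
import Cfsg.Agent.S0865

set_option autoImplicit false

namespace Cfsg.Agent.Lib.Helper23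

open Cfsg Cfsg.Agent.CharLib Cfsg.Agent.Lib.Helper6

universe u

/-- a minimal normal subgroup of `p`-power index (`O^p(G)`) -/
theorem exists_min_normal_ppow_index (G : Type*) [Group G] [Finite G] (p : ℕ) :
    ∃ M : Subgroup G, M.Normal ∧ (∃ k : ℕ, M.index = p ^ k) ∧
      ∀ M' : Subgroup G, M'.Normal → (∃ k : ℕ, M'.index = p ^ k) → M' ≤ M → M' = M := by
  let S : Set (Subgroup G) := {M | M.Normal ∧ ∃ k : ℕ, M.index = p ^ k}
  have hfin : S.Finite := Set.toFinite S
  have hne : S.Nonempty := ⟨⊤, inferInstance, 0, by simp⟩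
  obtain ⟨M, hM⟩ := hfin.exists_minimal hne
  refine ⟨M, hM.prop.1, hM.prop.2, ?_⟩
  intro M' hn hk hle
  exact le_antisymm hle (hM.le_of_le ⟨hn, hk⟩ hle)

/-- an element of a group whose order is finite and not coprime to `p` has a nontrivial power
killed by `p` -/
theorem exists_pow_prime_eq_one {A : Type*} [Group A] {p : ℕ} (hp : p.Prime) (φ : A) (N : ℕ)
    (hN : 0 < N) (hpow : φ ^ N = 1) (hcop : ¬ (orderOf φ).Coprime p) :
    ∃ ψ : A, ψ ^ p = 1 ∧ ψ ≠ 1 := by
  have hdvd : p ∣ orderOf φ := by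
    by_contra h
    exact hcop ((Nat.Prime.coprime_iff_not_dvd hp).2 h).symm
  have hn0 : orderOf φ ≠ 0 := by
    intro h0
    have := orderOf_dvd_of_pow_eq_one hpow
    rw [h0, Nat.zero_dvd] at this
    exact hN.ne' this
  obtain ⟨m, hm⟩ := hdvd
  have hm0 : m ≠ 0 := by
    rintro rfl
    exact hn0 (by rw [hm, mul_zero])
  refine ⟨φ ^ m, ?_, ?_⟩
  · rw [← pow_mul, mul_comm, ← hm, pow_orderOf_eq_one]
  · intro h1
    have := orderOf_dvd_of_pow_eq_one h1
    rw [hm] at this
    have h2 : p * m ≤ m := Nat.le_of_dvd (Nat.pos_of_ne_zero hm0) this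
    have h3 : 2 * m ≤ p * m := Nat.mul_le_mul_right m hp.two_le
    omega

/-- the homs of `O^p(G)` to `ℂˣ` have `p'`-order -/
theorem coprime_orderOf_hom_of_min {G : Type*} [Group G] [Finite G] {p : ℕ} [hp : Fact p.Prime]
    (M : Subgroup G) [hM : M.Normal] {k : ℕ} (hk : M.index = p ^ k)
    (hmin : ∀ M' : Subgroup G, M'.Normal → (∃ k : ℕ, M'.index = p ^ k) → M' ≤ M → M' = M)
    (φ : M →* ℂˣ) : (orderOf φ).Coprime p := by
  by_contra hcop
  have hpow : ∀ x : M, φ x ^ Nat.card M = 1 := by
    intro x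
    rw [← map_pow, pow_card_eq_one', map_one]
  obtain ⟨ψ, hψp, hψ1⟩ := exists_pow_prime_eq_one (A := M →* ℂˣ) hp.out φ (Nat.card M)
    Nat.card_pos (MonoidHom.ext fun x => hpow x) hcop
  have hψp' : ∀ w : M, ψ w ^ p = 1 := fun w => DFunLike.congr_fun hψp w
  let K : Subgroup G := (ψ.ker).map M.subtype
  have hKmem : ∀ w : M, ψ w = 1 → (w : G) ∈ K := fun w hw =>
    ⟨w, MonoidHom.mem_ker.mpr hw, rfl⟩
  have hpowK : ∀ z : G, z ∈ M → z ^ p ∈ K.normalCore := by
    intro z hz
    show ∀ g : G, g * z ^ p * g⁻¹ ∈ K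
    intro g
    have hw : g * z * g⁻¹ ∈ M := hM.conj_mem z hz g
    have h1 : g * z ^ p * g⁻¹ = (g * z * g⁻¹) ^ p := (conj_pow).symm
    rw [h1]
    have h2 := hKmem (⟨g * z * g⁻¹, hw⟩ ^ p) (by
      rw [map_pow, hψp'])
    simpa using h2
  have hle : K.normalCore ≤ M := (Subgroup.normalCore_le K).trans (Subgroup.map_subtype_le _)
  have hPG : IsPGroup p (G ⧸ K.normalCore) := by
    intro q
    induction q using QuotientGroup.induction_on with
    | H y =>
      refine ⟨k + 1, ?_⟩
      rw [← QuotientGroup.mk_pow, QuotientGroup.eq_one_iff, pow_succ, pow_mul]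
      apply hpowK
      rw [← hk]
      exact Subgroup.pow_index_mem M y
  obtain ⟨j, hj⟩ := IsPGroup.iff_card.mp hPG
  have hidx : K.normalCore.index = p ^ j := by rw [Subgroup.index_eq_card]; exact hj
  have heq := hmin K.normalCore inferInstance ⟨j, hidx⟩ hle
  apply hψ1
  ext x
  have hx0 : (x : G) ∈ K.normalCore := by rw [heq]; exact x.2
  have hx : (x : G) ∈ K := Subgroup.normalCore_le K hx0
  obtain ⟨y, hy, hyx⟩ := hx
  have : y = x := Subtype.ext hyx
  rw [MonoidHom.one_apply, ← this, MonoidHom.mem_ker.mp hy]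

/-- Coprime extension over a `p`-group quotient (Isaacs 6.28 for `G/N` a `p`-group), under the
assumption that the homs `N → ℂˣ` have `p'`-order. -/
theorem exists_extension_of_pgroup_quotient {G : Type u} [Group G] [Finite G] {p : ℕ}
    [hp : Fact p.Prime] (M : Subgroup G) [hM : M.Normal] {k : ℕ} (hk : M.index = p ^ k)
    (hhom : ∀ φ : M →* ℂˣ, (orderOf φ).Coprime p) {θ : M → ℂ} (hθ : IsIrrCharacter M θ)
    (hinv : ∀ g : G, conjFun M g θ = θ) {d : ℕ} (hd : θ 1 = d) (hpd : ¬ p ∣ d) :
    ∃ χ : G → ℂ, IsIrrCharacter G χ ∧ resFun M χ = θ := by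
  have hθc : IsCharacter M θ := IsIrrCharacter.isCharacter hθ
  have hlam := detChar_isCharacter hθc
  have hinvlam : ∀ (g : G) (n : M),
      detChar θ ⟨g * n * g⁻¹, hM.conj_mem (n : G) n.2 g⟩ = detChar θ n := by
    intro g n
    have h1 := detChar_conjFun M g hθc
    rw [hinv g] at h1
    exact (congrFun h1 n).symm
  have hord : orderOf (detChar θ) = orderOf (linCharUnitsHom hlam.1 hlam.2) := by
    rw [← orderOf_unitsHomToFun, unitsHomToFun_linCharUnitsHom]
  have hcop : Nat.Coprime M.index (orderOf (detChar θ)) := by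
    rw [hk, hord]
    exact Nat.Coprime.pow_left k (hhom _).symm
  obtain ⟨μ, ⟨hμ, hμ1, hμM, _⟩, _⟩ := Cfsg.Agent.S0865.result M (detChar θ) hlam hinvlam hcop
  have hPG : IsPGroup p (G ⧸ M) := by
    apply IsPGroup.of_card (n := k)
    rw [← Subgroup.index_eq_card, hk]
  haveI : Group.IsNilpotent (G ⧸ M) := hPG.isNilpotent
  have hsolv : Group.IsSolvable (G ⧸ M) := inferInstance
  have hcop' : Nat.Coprime M.index d := by
    rw [hk]
    exact Nat.Coprime.pow_left k ((Nat.Prime.coprime_iff_not_dvd hp.out).2 hpd)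
  exact exists_extension_of_det_extends M hsolv hθ hinv hd hcop' hμ hμ1 (by
    funext n
    rw [resFun_apply]
    exact hμM n)

/-- weighted fixed-point congruence for a `p`-group action -/
theorem sum_modEq_sum_fixedPoints {p : ℕ} [Fact p.Prime] {P X : Type*} [Group P] [Finite P]
    [Fintype X] [MulAction P X] (hP : IsPGroup p P) (f : X → ℕ)
    (hf : ∀ (g : P) (x : X), f (g • x) = f x)
    [DecidablePred fun x : X => ∀ g : P, g • x = x] :
    (∑ x, f x) ≡ (∑ x ∈ Finset.univ.filter (fun x : X => ∀ g : P, g • x = x), f x) [MOD p] := by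
  classical
  let Y := {q : X × ℕ // q.2 < f q.1}
  letI : MulAction P Y :=
    { smul := fun g q => ⟨(g • q.1.1, q.1.2), by
        show q.1.2 < f (g • q.1.1)
        rw [hf]; exact q.2⟩
      one_smul := fun q => by
        apply Subtype.ext
        apply Prod.ext
        · exact one_smul P q.1.1
        · rfl
      mul_smul := fun a b q => by
        apply Subtype.ext
        apply Prod.ext
        · exact mul_smul a b q.1.1
        · rfl }
  have hsmul : ∀ (g : P) (q : Y), (g • q).1 = (g • q.1.1, q.1.2) := fun g q => rfl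
  -- Y ≃ Σ x, Fin (f x)
  let e : Y ≃ Σ x : X, Fin (f x) :=
    { toFun := fun q => ⟨q.1.1, ⟨q.1.2, q.2⟩⟩
      invFun := fun s => ⟨(s.1, s.2.1), s.2.2⟩
      left_inv := fun q => rfl
      right_inv := fun s => rfl }
  haveI : Fintype Y := Fintype.ofEquiv _ e.symm
  have hcardY : Nat.card Y = ∑ x, f x := by
    rw [Nat.card_congr e, Nat.card_eq_fintype_card, Fintype.card_sigma]
    simp
  let Z := {x : X // ∀ g : P, g • x = x}
  let e2 : MulAction.fixedPoints P Y ≃ Σ x : Z, Fin (f x.1) :=
    { toFun := fun q => ⟨⟨q.1.1.1, fun g => by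
          have := q.2 g
          have h2 := congrArg (fun y : Y => y.1.1) this
          exact h2⟩, ⟨q.1.1.2, q.1.2⟩⟩
      invFun := fun s => ⟨⟨(s.1.1, s.2.1), s.2.2⟩, fun g => by
          apply Subtype.ext
          apply Prod.ext
          · exact s.1.2 g
          · rfl⟩
      left_inv := fun q => rfl
      right_inv := fun s => rfl }
  have hcardF : Nat.card (MulAction.fixedPoints P Y) =
      ∑ x ∈ Finset.univ.filter (fun x : X => ∀ g : P, g • x = x), f x := by
    rw [Nat.card_congr e2, Nat.card_eq_fintype_card, Fintype.card_sigma]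
    simp only [Fintype.card_fin]
    exact (Finset.sum_subtype (Finset.univ.filter (fun x : X => ∀ g : P, g • x = x))
      (fun x => by simp) f).symm
  have := hP.card_modEq_card_fixedPoints Y
  rw [hcardY, hcardF] at this
  exact this


/-- conjugation action of `G` on the irreducible characters of a normal subgroup -/
@[reducible] noncomputable def irrConjMulAction {G : Type u} [Group G] (M : Subgroup G)
    [hM : M.Normal] : MulAction G (IrrCharacter M) where
  smul g θ := ⟨conjFun M g⁻¹ θ.1, isIrrCharacter_conjFun M θ.2 _⟩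
  one_smul θ := Subtype.ext (by
    show conjFun M (1 : G)⁻¹ θ.1 = θ.1
    rw [inv_one, conjFun_one])
  mul_smul a b θ := Subtype.ext (by
    show conjFun M (a * b)⁻¹ θ.1 = conjFun M a⁻¹ (conjFun M b⁻¹ θ.1)
    rw [mul_inv_rev, conjFun_mul])

/-- **Thompson's theorem**: if `p` divides the degree of every nonlinear irreducible character,
then `G` has a normal `p`-complement. -/
theorem thompson_normal_p_complement {G : Type u} [Group G] [Finite G] (p : ℕ) (hp : p.Prime)
    (hdeg : ∀ χ : IrrCharacter G, charDegree (χ : G → ℂ) ≠ 1 → p ∣ charDegree (χ : G → ℂ)) :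
    ∃ N : Subgroup G, N.Normal ∧ (Nat.card N).Coprime p ∧ ∃ k : ℕ, N.index = p ^ k := by
  classical
  haveI : Fact p.Prime := ⟨hp⟩
  obtain ⟨M, hMn, ⟨k, hk⟩, hmin⟩ := exists_min_normal_ppow_index G p
  refine ⟨M, hMn, ?_, k, hk⟩
  have hhom := coprime_orderOf_hom_of_min M hk hmin
  letI : Fintype M := Fintype.ofFinite M
  letI : Fintype (IrrCharacter M) := fintypeIrr M
  letI : MulAction G (IrrCharacter M) := irrConjMulAction M
  have hsmul : ∀ (g : G) (θ : IrrCharacter M), (g • θ).1 = conjFun M g⁻¹ θ.1 := fun g θ => rfl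
  -- invariant characters of `p'`-degree are linear
  have hlin : ∀ θ : IrrCharacter M, (∀ g : G, g • θ = θ) → ¬ p ∣ charDegree θ.1 →
      charDegree θ.1 = 1 := by
    intro θ hinv hpd
    have hinv' : ∀ g : G, conjFun M g θ.1 = θ.1 := by
      intro g
      have := congrArg Subtype.val (hinv g⁻¹)
      rw [hsmul, inv_inv] at this
      exact this
    obtain ⟨χ, hχ, hχM⟩ := exists_extension_of_pgroup_quotient M hk hhom θ.2 hinv'
      (Cfsg.Agent.Lib.Helper24.irr_apply_one θ) hpd
    have h1 : χ 1 = θ.1 1 := by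
      have := congrFun hχM 1
      rw [resFun_apply] at this
      exact this
    have h2 : charDegree χ = charDegree θ.1 := by
      unfold charDegree
      rw [h1]
    by_contra hne
    rw [← h2] at hne hpd
    exact hpd (hdeg ⟨χ, hχ⟩ hne)
  -- a Sylow `p`-subgroup and `G = M P`
  obtain ⟨P⟩ : Nonempty (Sylow p G) := inferInstance
  have hsup : M ⊔ (P : Subgroup G) = ⊤ := by
    rw [← Subgroup.index_eq_one]
    have h1 : (M ⊔ (P : Subgroup G)).index ∣ p ^ k := hk ▸ Subgroup.index_dvd_of_le le_sup_left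
    have h2 : (M ⊔ (P : Subgroup G)).index ∣ (P : Subgroup G).index :=
      Subgroup.index_dvd_of_le le_sup_right
    obtain ⟨j, _, hj⟩ := (Nat.dvd_prime_pow hp).mp h1
    rcases Nat.eq_zero_or_pos j with rfl | hjpos
    · rw [hj, pow_zero]
    · exfalso
      apply P.not_dvd_index
      refine dvd_trans ?_ h2
      rw [hj]
      exact dvd_pow_self p hjpos.ne'
  have hfix : ∀ θ : IrrCharacter M, (∀ g : P, g • θ = θ) → ∀ g : G, g • θ = θ := by
    intro θ hP g
    have hle : M ⊔ (P : Subgroup G) ≤ MulAction.stabilizer G θ := by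
      apply sup_le
      · intro m hm
        rw [MulAction.mem_stabilizer_iff]
        apply Subtype.ext
        rw [hsmul]
        exact conjFun_of_mem M (IsCharacter.isClassFunction (IsIrrCharacter.isCharacter θ.2))
          (M.inv_mem hm)
      · intro x hx
        rw [MulAction.mem_stabilizer_iff]
        exact hP ⟨x, hx⟩
    have : g ∈ MulAction.stabilizer G θ := hle (hsup ▸ Subgroup.mem_top g)
    exact MulAction.mem_stabilizer_iff.mp this
  have hdeginv : ∀ (g : P) (θ : IrrCharacter M), charDegree (g • θ).1 = charDegree θ.1 := by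
    intro g θ
    show charDegree (conjFun M ((g : G))⁻¹ θ.1) = charDegree θ.1
    unfold charDegree
    rw [conjFun_apply_one]
  -- the two congruences
  have hA := sum_modEq_sum_fixedPoints (p := p) (P := P) (X := IrrCharacter M) P.2
    (fun θ => charDegree θ.1 ^ 2) (fun g θ => by
      show charDegree (g • θ).1 ^ 2 = _
      rw [hdeginv])
  have hB := sum_modEq_sum_fixedPoints (p := p) (P := P) (X := IrrCharacter M) P.2
    (fun θ => if charDegree θ.1 = 1 then 1 else 0) (fun g θ => by
      show (if charDegree (g • θ).1 = 1 then 1 else 0) = _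
      rw [hdeginv])
  have hC : (∑ θ ∈ Finset.univ.filter (fun θ : IrrCharacter M => ∀ g : P, g • θ = θ),
        charDegree θ.1 ^ 2) ≡
      (∑ θ ∈ Finset.univ.filter (fun θ : IrrCharacter M => ∀ g : P, g • θ = θ),
        if charDegree θ.1 = 1 then 1 else 0) [MOD p] := by
    unfold Nat.ModEq
    rw [Finset.sum_nat_mod, Finset.sum_nat_mod (f := fun θ : IrrCharacter M =>
      if charDegree θ.1 = 1 then 1 else 0)]
    congr 1
    apply Finset.sum_congr rfl
    intro θ hθ
    rw [Finset.mem_filter] at hθ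
    by_cases h1 : charDegree θ.1 = 1
    · rw [if_pos h1, h1, one_pow]
    · rw [if_neg h1]
      have hdvd : p ∣ charDegree θ.1 := by
        by_contra hnd
        exact h1 (hlin θ (hfix θ hθ.2) hnd)
      rw [Nat.zero_mod]
      exact Nat.mod_eq_zero_of_dvd (dvd_pow hdvd two_ne_zero)
  have hsum1 : (∑ θ : IrrCharacter M, charDegree θ.1 ^ 2) = Nat.card M := by
    rw [Cfsg.Agent.Lib.Helper24.sum_charDegree_sq, Nat.card_eq_fintype_card]
  have hsum2 : (∑ θ : IrrCharacter M, if charDegree θ.1 = 1 then 1 else 0) =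
      Nat.card (M →* ℂˣ) := by
    rw [← Nat.card_congr (linIrrEquivHom (G := M)), Nat.card_eq_fintype_card,
      Fintype.card_subtype, Finset.card_filter]
    apply Finset.sum_congr rfl
    intro θ _
    have h := Cfsg.Agent.Lib.Helper24.irr_apply_one θ
    by_cases h1 : charDegree θ.1 = 1
    · rw [if_pos h1, if_pos]
      rw [h, h1, Nat.cast_one]
    · rw [if_neg h1, if_neg]
      rw [h]
      intro h2
      exact h1 (by exact_mod_cast h2)
  have hmod : Nat.card M ≡ Nat.card (M →* ℂˣ) [MOD p] := by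
    rw [← hsum1, ← hsum2]
    exact (hA.trans hC).trans hB.symm
  have hcardpos : Nat.card (M →* ℂˣ) ≠ 0 := by
    rw [card_hom_units]
    exact Subgroup.index_ne_zero_of_finite
  haveI : Finite (M →* ℂˣ) := Nat.finite_of_card_ne_zero hcardpos
  have hnd : ¬ p ∣ Nat.card (M →* ℂˣ) := by
    intro hd
    obtain ⟨φ, hφ⟩ := exists_prime_orderOf_dvd_card' p hd
    have := hhom φ
    rw [hφ, Nat.coprime_self] at this
    exact hp.one_lt.ne' this
  have hnd' : ¬ p ∣ Nat.card M := by
    intro hd
    apply hnd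
    exact (Nat.modEq_zero_iff_dvd.mp ((hmod.symm).trans (Nat.modEq_zero_iff_dvd.mpr hd)))
  exact ((Nat.Prime.coprime_iff_not_dvd hp).2 hnd').symm

end Cfsg.Agent.Lib.Helper23
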