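import Mathlib
import Cfsg.Agent.Lib.Helper23.WAct2

/-!
# Coprime action of a `p`-group: invariant Sylow subgroups
-/

set_option autoImplicit false

open scoped Pointwise

namespace Cfsg.Agent.Lib.Helper23.WAct

universe u v

variable {A : Type v} {F : Type u} [Group A] [Group F] (φ : A →* MulAut F)
variable {p : ℕ} [hp : Fact p.Prime] [Finite F]

/-- existence of an invariant Sylow `r`-subgroup -/
theorem exists_inv_sylow (hA : IsPGroup p A) (hcop : ¬ p ∣ Nat.card F) (r : ℕ) [Fact r.Prime] :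
    ∃ Q : Sylow r F, Inv φ (Q : Subgroup F) := by
  let _ : MulDistribMulAction A F := MulDistribMulAction.compHom F φ
  have hcard : ¬ p ∣ Nat.card (Sylow r F) := by
    intro h
    obtain ⟨Q₀⟩ : Nonempty (Sylow r F) := inferInstance
    have h1 : Nat.card (Sylow r F) ∣ Nat.card F :=
      (Sylow.card_dvd_index Q₀).trans (Subgroup.index_dvd_card _)
    exact hcop (h.trans h1)
  obtain ⟨Q, hQ⟩ := hA.nonempty_fixed_point_of_prime_not_dvd_card (Sylow r F) hcard
  refine ⟨Q, fun a k hk => ?_⟩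
  have h1 : a • Q = Q := hQ a
  have h2 : a • k ∈ (a • (Q : Subgroup F)) := Subgroup.smul_mem_pointwise_smul _ _ _ hk
  have h3 : ((a • Q : Sylow r F) : Subgroup F) = a • (Q : Subgroup F) := rfl
  rw [← h3, h1] at h2
  exact h2

/-- invariant Sylow subgroups are conjugate by a fixed point -/
theorem inv_sylow_conj (hA : IsPGroup p A) (hcop : ¬ p ∣ Nat.card F) (r : ℕ) [Fact r.Prime]
    (Q Q' : Sylow r F) (hQ : Inv φ (Q : Subgroup F)) (hQ' : Inv φ (Q' : Subgroup F)) :
    ∃ c ∈ fix φ Set.univ, ∀ g : F, g ∈ (Q' : Subgroup F) ↔ c⁻¹ * g * c ∈ (Q : Subgroup F) := by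
  have key : ∀ (R : Subgroup F), Inv φ R → ∀ (a : A) (y : F), y ∈ R ↔ φ a y ∈ R := by
    intro R hR a y
    constructor
    · exact hR a y
    · intro h
      have := hR a⁻¹ _ h
      rwa [map_inv, MulAut.inv_apply, MulEquiv.symm_apply_apply] at this
  set X : Set F := {f : F | ∀ g : F, g ∈ (Q' : Subgroup F) ↔ f⁻¹ * g * f ∈ (Q : Subgroup F)} with hXdef
  have hX : ∀ a : A, ∀ f ∈ X, φ a f ∈ X := by
    intro a f hf g
    rw [key _ hQ' a⁻¹ g, hf (φ a⁻¹ g), key _ hQ a]
    have e : φ a (f⁻¹ * φ a⁻¹ g * f) = (φ a f)⁻¹ * g * φ a f := by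
      rw [map_mul, map_mul, map_inv, map_inv (φ) a, MulAut.inv_apply, MulEquiv.apply_symm_apply]
    rw [e]
  obtain ⟨f₀, hf₀⟩ := MulAction.exists_smul_eq F Q Q'
  have hf₀X : f₀ ∈ X := by
    intro g
    rw [← hf₀, Sylow.coe_subgroup_smul, Subgroup.mem_pointwise_smul_iff_inv_smul_mem]
    simp [MulAut.smul_def]
  have hcard : Nat.card X = Nat.card (Subgroup.normalizer ((Q : Subgroup F) : Set F)) := by
    apply Nat.card_congr
    refine ⟨fun f => ⟨f₀⁻¹ * f.1, ?_⟩, fun n => ⟨f₀ * n.1, ?_⟩, ?_, ?_⟩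
    · rw [Subgroup.mem_normalizer_iff'']
      intro h
      have h1 := hf₀X (f₀ * h * f₀⁻¹)
      have h2 := f.2 (f₀ * h * f₀⁻¹)
      have e1 : f₀⁻¹ * (f₀ * h * f₀⁻¹) * f₀ = h := by group
      have e2 : (f.1)⁻¹ * (f₀ * h * f₀⁻¹) * f.1 = (f₀⁻¹ * f.1)⁻¹ * h * (f₀⁻¹ * f.1) := by group
      rw [e1] at h1
      rw [e2] at h2
      exact h1.symm.trans h2
    · intro g
      have hn := (Subgroup.mem_normalizer_iff''.mp n.2) (f₀⁻¹ * g * f₀)
      have e : (f₀ * n.1)⁻¹ * g * (f₀ * n.1) = (n.1)⁻¹ * (f₀⁻¹ * g * f₀) * n.1 := by group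
      rw [e, ← hn]
      exact hf₀X g
    · intro f
      apply Subtype.ext
      show f₀ * (f₀⁻¹ * f.1) = f.1
      group
    · intro n
      apply Subtype.ext
      show f₀⁻¹ * (f₀ * n.1) = n.1
      group
  have hc : ¬ p ∣ Nat.card X := by
    rw [hcard]
    intro h
    exact hcop (h.trans (Subgroup.card_subgroup_dvd_card _))
  obtain ⟨c, hcX, hcfix⟩ := exists_fixed_in φ hA X hX hc
  exact ⟨c, fun a _ => hcfix a, hcX⟩

/-- an invariant `r`-subgroup lies in an invariant Sylow `r`-subgroup -/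
theorem exists_inv_sylow_ge (hA : IsPGroup p A) (hcop : ¬ p ∣ Nat.card F) (r : ℕ) [Fact r.Prime]
    (T : Subgroup F) (hT : IsPGroup r T) (hTinv : Inv φ T) :
    ∃ Q : Sylow r F, Inv φ (Q : Subgroup F) ∧ T ≤ (Q : Subgroup F) := by
  obtain ⟨M, hTM, hM⟩ := Finite.exists_le_maximal
    (p := fun M : Subgroup F => T ≤ M ∧ IsPGroup r M ∧ Inv φ M) ⟨le_refl T, hT, hTinv⟩
  obtain ⟨⟨-, hMr, hMinv⟩, hMmax⟩ := hM
  -- the normalizer of `M`
  set N : Subgroup F := Subgroup.normalizer (M : Set F) with hN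
  have hNinv : Inv φ N := inv_normalizer φ hMinv
  have hMN : M ≤ N := Subgroup.le_normalizer
  have hcopN : ¬ p ∣ Nat.card N := fun h => hcop (h.trans (Subgroup.card_subgroup_dvd_card _))
  obtain ⟨R, hR⟩ := exists_inv_sylow (sub φ N hNinv) hA hcopN r
  -- `M ≤ R` since `M` is normal in `N`
  have hMR : M.subgroupOf N ≤ (R : Subgroup N) := by
    obtain ⟨R₀, hR₀⟩ := (hMr.comap_subtype (K := N) : IsPGroup r (M.subgroupOf N)).exists_le_sylow
    obtain ⟨g, hg⟩ := MulAction.exists_smul_eq N R₀ R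
    intro m hm
    have hnorm : (M.subgroupOf N).Normal := Subgroup.normal_in_normalizer
    have h1 : g⁻¹ * m * g ∈ M.subgroupOf N := by
      have := hnorm.conj_mem m hm g⁻¹
      simpa using this
    have h2 := hR₀ h1
    rw [← hg, Sylow.coe_subgroup_smul, Subgroup.mem_pointwise_smul_iff_inv_smul_mem]
    simpa [MulAut.smul_def] using h2
  -- the image of `R` in `F`
  have hR'r : IsPGroup r ((R : Subgroup N).map N.subtype) := R.isPGroup'.map _
  have hR'inv : Inv φ ((R : Subgroup N).map N.subtype) := by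
    rintro a _ ⟨n, hn, rfl⟩
    exact ⟨sub φ N hNinv a n, hR a n hn, rfl⟩
  have hMR' : M ≤ (R : Subgroup N).map N.subtype := by
    intro m hm
    exact ⟨⟨m, hMN hm⟩, hMR hm, rfl⟩
  have hR'M : (R : Subgroup N).map N.subtype ≤ M :=
    hMmax ⟨hTM.trans hMR', hR'r, hR'inv⟩ hMR'
  have hReq : (R : Subgroup N) = M.subgroupOf N := by
    apply le_antisymm
    · intro n hn
      exact hR'M ⟨n, hn, rfl⟩
    · exact hMR
  -- `M` is a Sylow subgroup of its normalizer, hence of `F`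
  obtain ⟨k, hk⟩ := IsPGroup.iff_card.mp hMr
  have hidx : ¬ r ∣ M.index := by
    intro h
    have h1 := Sylow.card_quotient_normalizer_modEq_card_quotient hk
    have h2 : r ∣ Nat.card (F ⧸ M) := h
    have h3 : r ∣ Nat.card (↥(Subgroup.normalizer (M : Set F)) ⧸
        M.comap (Subgroup.normalizer (M : Set F)).subtype) := by
      rw [Nat.dvd_iff_mod_eq_zero] at h2 ⊢
      rw [← h2]
      exact h1
    have h4 : ¬ r ∣ (R : Subgroup N).index := R.not_dvd_index
    apply h4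
    rw [hReq]
    exact h3
  refine ⟨hMr.toSylow hidx, ?_, ?_⟩
  · rw [IsPGroup.toSylow_coe]; exact hMinv
  · rw [IsPGroup.toSylow_coe]; exact hTM

/-- for an invariant Sylow `r`-subgroup `Q`, the fixed points in `Q` form a Sylow `r`-subgroup
of the fixed points -/
theorem card_fix_univ_inf_sylow (hA : IsPGroup p A) (hcop : ¬ p ∣ Nat.card F) (r : ℕ)
    [hr : Fact r.Prime] (Q : Sylow r F) (hQ : Inv φ (Q : Subgroup F)) :
    Nat.card (fix φ Set.univ ⊓ (Q : Subgroup F) : Subgroup F)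
      = r ^ (Nat.card (fix φ Set.univ)).factorization r := by
  set C : Subgroup F := fix φ Set.univ with hC
  obtain ⟨T₀⟩ : Nonempty (Sylow r C) := inferInstance
  set T : Subgroup F := (T₀ : Subgroup C).map C.subtype with hTdef
  have hTC : T ≤ C := by
    rintro _ ⟨c, _, rfl⟩
    exact c.2
  have hTr : IsPGroup r T := T₀.isPGroup'.map _
  have hTcard : Nat.card T = r ^ (Nat.card C).factorization r := by
    rw [hTdef, Subgroup.card_map_of_injective C.subtype_injective]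
    exact Sylow.card_eq_multiplicity T₀
  have hTinv : Inv φ T := by
    intro a t ht
    rw [hTC ht a (Set.mem_univ _)]
    exact ht
  obtain ⟨Q', hQ'inv, hTQ'⟩ := exists_inv_sylow_ge φ hA hcop r T hTr hTinv
  obtain ⟨c, hcC, hc⟩ := inv_sylow_conj φ hA hcop r Q Q' hQ hQ'inv
  -- `c⁻¹ T c ≤ C ⊓ Q`
  have hle : Nat.card T ≤ Nat.card (C ⊓ (Q : Subgroup F) : Subgroup F) := by
    apply Nat.card_le_card_of_injective
      (fun t : T => (⟨c⁻¹ * t.1 * c, ?_⟩ : (C ⊓ (Q : Subgroup F) : Subgroup F)))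
    · intro t t' h
      have h1 : c⁻¹ * t.1 * c = c⁻¹ * t'.1 * c := congrArg Subtype.val h
      apply Subtype.ext
      have h2 : c * (c⁻¹ * t.1 * c) * c⁻¹ = c * (c⁻¹ * t'.1 * c) * c⁻¹ := by rw [h1]
      have e : ∀ y : F, c * (c⁻¹ * y * c) * c⁻¹ = y := fun y => by group
      rwa [e, e] at h2
    · exact ⟨C.mul_mem (C.mul_mem (C.inv_mem hcC) (hTC t.2)) hcC, (hc t.1).mp (hTQ' t.2)⟩
  -- `C ⊓ Q` is an `r`-subgroup of `C`
  have hCQr : IsPGroup r (C ⊓ (Q : Subgroup F) : Subgroup F) :=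
    Q.isPGroup'.to_le inf_le_right
  obtain ⟨m, hm⟩ := IsPGroup.iff_card.mp hCQr
  have hdvd : r ^ m ∣ Nat.card C := by
    rw [← hm]
    exact Subgroup.card_dvd_of_le inf_le_left
  have hCpos : Nat.card C ≠ 0 := Nat.card_pos.ne'
  have hm2 : m ≤ (Nat.card C).factorization r :=
    (hr.out.pow_dvd_iff_le_factorization hCpos).mp hdvd
  apply le_antisymm
  · rw [hm]
    exact Nat.pow_le_pow_right hr.out.pos hm2
  · rw [← hTcard]
    exact hle

/-- the same for the fixed points of a subset `S ⊆ A`, in terms of the restricted action -/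
theorem card_fix_sub_sylow (hA : IsPGroup p A) (hcop : ¬ p ∣ Nat.card F) (r : ℕ)
    [hr : Fact r.Prime] (Q : Sylow r F) (hQ : Inv φ (Q : Subgroup F)) (S : Set A) :
    Nat.card (fix (sub φ (Q : Subgroup F) hQ) S) = r ^ (Nat.card (fix φ S)).factorization r := by
  rw [card_fix_sub]
  have h := card_fix_univ_inf_sylow (φ.comp (Subgroup.closure S).subtype)
    (hA.to_subgroup (Subgroup.closure S)) hcop r Q (hQ.comp φ _)
  rw [fix_comp_closure] at h
  exact h

theorem factorization_card_fix_sub_sylow (hA : IsPGroup p A) (hcop : ¬ p ∣ Nat.card F) (r : ℕ)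
    [hr : Fact r.Prime] (Q : Sylow r F) (hQ : Inv φ (Q : Subgroup F)) (S : Set A) :
    (Nat.card (fix (sub φ (Q : Subgroup F) hQ) S)).factorization r
      = (Nat.card (fix φ S)).factorization r := by
  rw [card_fix_sub_sylow φ hA hcop r Q hQ S, hr.out.factorization_pow]
  simp

end Cfsg.Agent.Lib.Helper23.WAct
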