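import Mathlib
import Cfsg.Agent.Lib.Helper23.WAct1

/-!
# Wielandt's fixed-point formula: the irreducible commutative case
-/

set_option autoImplicit false

namespace Cfsg.Agent.Lib.Helper23.WAct

universe u v

section comm

variable {A : Type v} {F : Type u} [Group A] [CommGroup F] (φ : A →* MulAut F)
variable {p : ℕ}

/-- the norm of `f` under the cyclic group generated by `ρ` (acting with order dividing `p`) -/
def Nm (p : ℕ) (ρ : A) (f : F) : F := ∏ k ∈ Finset.range p, φ (ρ ^ k) f

theorem apply_Nm (ρ : A) (hρ : φ (ρ ^ p) = 1) (f : F) : φ ρ (Nm φ p ρ f) = Nm φ p ρ f := by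
  unfold Nm
  rw [map_prod]
  have h1 : ∀ k, φ ρ (φ (ρ ^ k) f) = φ (ρ ^ (k + 1)) f := by
    intro k
    rw [pow_succ', map_mul, MulAut.mul_apply]
  simp only [h1]
  have h2 := Finset.prod_range_succ' (fun k => φ (ρ ^ k) f) p
  have h3 := Finset.prod_range_succ (fun k => φ (ρ ^ k) f) p
  rw [h3] at h2
  simp only [hρ, pow_zero, map_one, MulAut.one_apply] at h2
  exact (mul_right_cancel h2).symm

theorem Nm_eq_one_of_fix_eq_bot (ρ : A) (hρ : φ (ρ ^ p) = 1) (h : fix φ {ρ} = ⊥) (f : F) :
    Nm φ p ρ f = 1 := by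
  have : Nm φ p ρ f ∈ fix φ {ρ} := (mem_fix_singleton φ).mpr (apply_Nm φ ρ hρ f)
  rw [h, Subgroup.mem_bot] at this
  exact this

theorem map_pow_mod (z : A) (hz : φ (z ^ p) = 1) (a : ℕ) : φ (z ^ a) = φ (z ^ (a % p)) := by
  conv_lhs => rw [← Nat.mod_add_div a p]
  rw [pow_add, pow_mul, map_mul, map_pow φ (z ^ p), hz, one_pow, mul_one]

/-- reindexing the norm by multiplication with a unit mod `p` -/
theorem prod_pow_mul [hp : Fact p.Prime] (z : A) (hz : φ (z ^ p) = 1) (k : ℕ) (hk0 : 0 < k) (hkp : k < p) (f : F) :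
    ∏ i ∈ Finset.range p, φ (z ^ (i * k)) f = Nm φ p z f := by
  unfold Nm
  have hcop : Nat.Coprime p k :=
    (Nat.Prime.coprime_iff_not_dvd hp.out).mpr (Nat.not_dvd_of_pos_of_lt hk0 hkp)
  have hinj : Set.InjOn (fun i => i * k % p) (Finset.range p : Set ℕ) := by
    intro i hi j hj h
    have hi' : i < p := Finset.mem_range.mp hi
    have hj' : j < p := Finset.mem_range.mp hj
    have h1 : i * k ≡ j * k [MOD p] := h
    have h2 : i ≡ j [MOD p] := Nat.ModEq.cancel_right_of_coprime hcop h1
    exact Nat.ModEq.eq_of_lt_of_lt h2 hi' hj'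
  have himg : (Finset.range p).image (fun i => i * k % p) = Finset.range p := by
    apply Finset.eq_of_subset_of_card_le
    · intro j hj
      obtain ⟨i, _, rfl⟩ := Finset.mem_image.mp hj
      exact Finset.mem_range.mpr (Nat.mod_lt _ hp.out.pos)
    · rw [Finset.card_image_of_injOn hinj]
  conv_rhs => rw [← himg]
  rw [Finset.prod_image hinj]
  apply Finset.prod_congr rfl
  intro i _
  rw [map_pow_mod φ z hz (i * k)]

/-- if all `p + 1` "lines" act without fixed points, then `F` is trivial -/
theorem eq_one_of_fpf [hp : Fact p.Prime] (hcop : ¬ p ∣ Nat.card F) (hcomm : ∀ a b : A, φ (a * b) = φ (b * a))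
    (hexp : ∀ a : A, φ (a ^ p) = 1) (x z : A) (hz : fix φ {z} = ⊥)
    (hx : ∀ i ∈ Finset.range p, fix φ {x * z ^ i} = ⊥) (f : F) : f = 1 := by
  have hcm : Commute (φ x) (φ z) := by
    show φ x * φ z = φ z * φ x
    rw [← map_mul, ← map_mul, hcomm]
  -- the double product
  have h1 : ∏ i ∈ Finset.range p, Nm φ p (x * z ^ i) f = 1 := by
    apply Finset.prod_eq_one
    intro i hi
    exact Nm_eq_one_of_fix_eq_bot φ _ (hexp _) (hx i hi) f
  unfold Nm at h1
  rw [Finset.prod_comm] at h1
  have h2 : ∀ k ∈ Finset.range p, k ≠ 0 →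
      ∏ i ∈ Finset.range p, φ ((x * z ^ i) ^ k) f = 1 := by
    intro k hk hk0
    have e : ∀ i, φ ((x * z ^ i) ^ k) f = φ (x ^ k) (φ (z ^ (i * k)) f) := by
      intro i
      have : φ ((x * z ^ i) ^ k) = φ (x ^ k) * φ (z ^ (i * k)) := by
        rw [map_pow, map_mul, map_pow, (hcm.pow_right i).mul_pow, map_pow, pow_mul, map_pow,
          map_pow]
      rw [this, MulAut.mul_apply]
    simp only [e]
    rw [← map_prod, prod_pow_mul φ z (hexp z) k (Nat.pos_of_ne_zero hk0) (Finset.mem_range.mp hk),
      Nm_eq_one_of_fix_eq_bot φ z (hexp z) hz, map_one]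
  rw [Finset.prod_eq_single 0 h2 (fun h => absurd (Finset.mem_range.mpr hp.out.pos) h)] at h1
  simp only [pow_zero, map_one, MulAut.one_apply, Finset.prod_const, Finset.card_range] at h1
  -- `f ^ p = 1`
  have h3 : orderOf f ∣ p := orderOf_dvd_of_pow_eq_one h1
  rcases (Nat.dvd_prime hp.out).mp h3 with h | h
  · exact orderOf_eq_one_iff.mp h
  · exact absurd (h ▸ orderOf_dvd_natCard f) hcop

/-- fixed points of `z ^ d`, `0 < d < p`, are fixed points of `z` when `z ^ p` acts trivially -/
theorem fix_of_fix_pow [hp : Fact p.Prime] (z : A) (hz : φ (z ^ p) = 1) (d : ℕ) (hd0 : 0 < d)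
    (hdp : d < p) (f : F) (hf : φ (z ^ d) f = f) : φ z f = f := by
  have hcop : Nat.Coprime d p :=
    ((Nat.Prime.coprime_iff_not_dvd hp.out).mpr (Nat.not_dvd_of_pos_of_lt hd0 hdp)).symm
  have h1 : z ^ d ∈ stab φ f := hf
  have h2 : z ^ p ∈ stab φ f := by
    show φ (z ^ p) f = f
    rw [hz, MulAut.one_apply]
  have hb := Nat.gcd_eq_gcd_ab d p
  rw [hcop.gcd_eq_one] at hb
  have h3 : z = (z ^ d) ^ (Nat.gcdA d p) * (z ^ p) ^ (Nat.gcdB d p) := by
    rw [← zpow_natCast z d, ← zpow_natCast z p, ← zpow_mul, ← zpow_mul, ← zpow_add, ← hb]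
    simp
  have h4 : z ∈ stab φ f := by
    rw [h3]
    exact (stab φ f).mul_mem ((stab φ f).zpow_mem h1 _) ((stab φ f).zpow_mem h2 _)
  exact h4

/-- **Wielandt's formula**, irreducible commutative case -/
theorem wielandt_irred [hp : Fact p.Prime] [Finite F] (hcop : ¬ p ∣ Nat.card F)
    (hcomm : ∀ a b : A, φ (a * b) = φ (b * a)) (hexp : ∀ a : A, φ (a ^ p) = 1)
    (hirr : ∀ K : Subgroup F, Inv φ K → K = ⊥ ∨ K = ⊤) (x z : A) :
    Nat.card F * Nat.card (fix φ {x, z}) ^ p
      = Nat.card (fix φ {z}) * ∏ i ∈ Finset.range p, Nat.card (fix φ {x * z ^ i}) := by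
  have hT : ∀ S : Set A, fix φ S = ⊥ ∨ fix φ S = ⊤ := fun S => hirr _ (inv_fix_of_comm φ hcomm S)
  rcases hT {z} with hz | hz
  · -- `z` fixed-point-free
    have hxz : fix φ {x, z} = ⊥ := by
      apply le_bot_iff.mp
      rw [← hz]
      exact fix_anti φ (by simp)
    rw [hxz, hz, Subgroup.card_bot, one_pow, mul_one, one_mul]
    by_cases hall : ∀ i ∈ Finset.range p, fix φ {x * z ^ i} = ⊥
    · have h1 : ∀ f : F, f = 1 := eq_one_of_fpf φ hcop hcomm hexp x z hz hall
      have h2 : Nat.card F = 1 := by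
        have : Subsingleton F := ⟨fun a b => by rw [h1 a, h1 b]⟩
        exact Nat.card_unique
      rw [h2]
      symm
      apply Finset.prod_eq_one
      intro i hi
      rw [hall i hi, Subgroup.card_bot]
    · push Not at hall
      obtain ⟨i₀, hi₀, hne⟩ := hall
      have htop : fix φ {x * z ^ i₀} = ⊤ := (hT _).resolve_left hne
      have hact : ∀ f : F, φ (x * z ^ i₀) f = f := by
        intro f
        have : f ∈ fix φ {x * z ^ i₀} := by rw [htop]; exact Subgroup.mem_top f
        exact (mem_fix_singleton φ).mp this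
      have hothers : ∀ i ∈ Finset.range p, i ≠ i₀ → Nat.card (fix φ {x * z ^ i}) = 1 := by
        intro i hi hne'
        have hbot : fix φ {x * z ^ i} = ⊥ := by
          apply le_bot_iff.mp
          rw [← hz]
          intro f hf
          have hf' : φ (x * z ^ i) f = f := (mem_fix_singleton φ).mp hf
          rw [mem_fix_singleton]
          have hip : i < p := Finset.mem_range.mp hi
          have hi₀p : i₀ < p := Finset.mem_range.mp hi₀
          rcases Nat.lt_or_gt_of_ne hne' with hlt | hgt
          · -- `i < i₀`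
            apply fix_of_fix_pow φ z (hexp z) (i₀ - i) (by omega) (by omega) f
            have e : x * z ^ i₀ = (x * z ^ i) * z ^ (i₀ - i) := by
              rw [mul_assoc, ← pow_add]
              congr 2
              omega
            have h1 := hact f
            rw [e, map_mul, MulAut.mul_apply] at h1
            have h2 : φ (x * z ^ i) (φ (z ^ (i₀ - i)) f) = φ (x * z ^ i) f := by rw [h1, hf']
            exact (φ (x * z ^ i)).injective h2
          · -- `i₀ < i`
            apply fix_of_fix_pow φ z (hexp z) (i - i₀) (by omega) (by omega) f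
            have e : x * z ^ i = (x * z ^ i₀) * z ^ (i - i₀) := by
              rw [mul_assoc, ← pow_add]
              congr 2
              omega
            rw [e, map_mul, MulAut.mul_apply, hact] at hf'
            exact hf'
        rw [hbot, Subgroup.card_bot]
      rw [Finset.prod_eq_single i₀ hothers (fun h => absurd hi₀ h), htop, Subgroup.card_top]
  · -- `z` acts trivially
    have hz1 : φ z = 1 := by
      ext f
      have : f ∈ fix φ {z} := by rw [hz]; exact Subgroup.mem_top f
      rw [MulAut.one_apply]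
      exact (mem_fix_singleton φ).mp this
    have h1 : fix φ {x, z} = fix φ {x} := by
      ext f
      rw [mem_fix_pair, mem_fix_singleton, hz1, MulAut.one_apply]
      simp
    have h2 : ∀ i, fix φ {x * z ^ i} = fix φ {x} := by
      intro i
      ext f
      rw [mem_fix_singleton, mem_fix_singleton, map_mul, map_pow, hz1, one_pow, mul_one]
    simp only [h1, h2, hz, Subgroup.card_top, Finset.prod_const, Finset.card_range]

end comm

end Cfsg.Agent.Lib.Helper23.WAct
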