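import Mathlib
import Cfsg.Agent.Lib.Helper23.WAct3
import Cfsg.Agent.Lib.Helper23.WAct4

/-!
# Wielandt's fixed-point formula for a commutative action of exponent `p` on a `p'`-group
-/

set_option autoImplicit false

namespace Cfsg.Agent.Lib.Helper23.WAct

universe u v

theorem fact_lhs (r a b p : ℕ) (ha : a ≠ 0) (hb : b ≠ 0) :
    (a * b ^ p).factorization r = a.factorization r + p * b.factorization r := by
  rw [Nat.factorization_mul ha (pow_ne_zero _ hb), Nat.factorization_pow]
  simp

theorem fact_rhs (r c : ℕ) (s : Finset ℕ) (d : ℕ → ℕ) (hc : c ≠ 0) (hd : ∀ i ∈ s, d i ≠ 0) :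
    (c * ∏ i ∈ s, d i).factorization r
      = c.factorization r + ∑ i ∈ s, (d i).factorization r := by
  rw [Nat.factorization_mul hc (Finset.prod_ne_zero_iff.mpr hd), Nat.factorization_prod hd]
  simp

variable {A : Type v} [Group A] {p : ℕ} [hp : Fact p.Prime]

/-- **Wielandt's fixed-point formula.** -/
theorem wielandt (hA : IsPGroup p A) :
    ∀ n : ℕ, ∀ (F : Type u) [Group F] [Finite F], Nat.card F = n → ¬ p ∣ n →
      ∀ (φ : A →* MulAut F), (∀ a b : A, φ (a * b) = φ (b * a)) → (∀ a : A, φ (a ^ p) = 1) →
      ∀ x z : A, Nat.card F * Nat.card (fix φ {x, z}) ^ p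
        = Nat.card (fix φ {z}) * ∏ i ∈ Finset.range p, Nat.card (fix φ {x * z ^ i}) := by
  intro n
  induction n using Nat.strong_induction_on with
  | _ n ih =>
  intro F _ _ hn hcop φ hcomm hexp x z
  have hcopF : ¬ p ∣ Nat.card F := hn ▸ hcop
  by_cases hK : ∃ K : Subgroup F, K.Normal ∧ Inv φ K ∧ K ≠ ⊥ ∧ K ≠ ⊤
  · obtain ⟨K, hKn, hKinv, hKbot, hKtop⟩ := hK
    have hmul : Nat.card F = Nat.card (F ⧸ K) * Nat.card K :=
      Subgroup.card_eq_card_quotient_mul_card_subgroup K
    have hKpos : 0 < Nat.card K := Nat.card_pos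
    have hQpos : 0 < Nat.card (F ⧸ K) := Nat.card_pos
    have hK1 : 1 < Nat.card K := by
      rcases Nat.lt_or_ge 1 (Nat.card K) with h | h
      · exact h
      · exact absurd (Subgroup.card_eq_one.mp (le_antisymm h hKpos)) hKbot
    have hQ1 : 1 < Nat.card (F ⧸ K) := by
      rcases Nat.lt_or_ge 1 (Nat.card (F ⧸ K)) with h | h
      · exact h
      · have h1 : Nat.card (F ⧸ K) = 1 := le_antisymm h hQpos
        have h2 : K.index = 1 := h1
        exact absurd (Subgroup.index_eq_one.mp h2) hKtop
    have hcardK : Nat.card K < n := by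
      rw [← hn, hmul]; nlinarith
    have hcardQ : Nat.card (F ⧸ K) < n := by
      rw [← hn, hmul]; nlinarith
    have hcopK : ¬ p ∣ Nat.card K := fun h => hcopF (hmul ▸ Dvd.dvd.mul_left h _)
    have hcopQ : ¬ p ∣ Nat.card (F ⧸ K) := fun h => hcopF (hmul ▸ Dvd.dvd.mul_right h _)
    have h1 := ih _ hcardK K rfl hcopK (sub φ K hKinv)
      (fun a b => sub_congr φ K hKinv (hcomm a b)) (fun a => sub_eq_one φ K hKinv (hexp a)) x z
    have h2 := ih _ hcardQ (F ⧸ K) rfl hcopQ (quot φ K hKinv)
      (fun a b => quot_congr φ K hKinv (hcomm a b)) (fun a => quot_eq_one φ K hKinv (hexp a)) x z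
    have e := fun S => card_fix_eq_mul φ hA K hKinv hcopK S
    simp only [e]
    rw [hmul, Finset.prod_mul_distrib, mul_pow]
    calc Nat.card (F ⧸ K) * Nat.card K *
          (Nat.card (fix (sub φ K hKinv) {x, z}) ^ p * Nat.card (fix (quot φ K hKinv) {x, z}) ^ p)
        = (Nat.card K * Nat.card (fix (sub φ K hKinv) {x, z}) ^ p)
          * (Nat.card (F ⧸ K) * Nat.card (fix (quot φ K hKinv) {x, z}) ^ p) := by ring
      _ = _ := by rw [h1, h2]; ring
  · push Not at hK
    by_cases hFc : ∀ f g : F, f * g = g * f
    · -- commutative and irreducible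
      let _ : CommGroup F := { ‹Group F› with mul_comm := hFc }
      refine wielandt_irred φ hcopF hcomm hexp (fun K hKinv => ?_) x z
      have hKn : K.Normal := ⟨fun k hk g => by rw [hFc g k, mul_inv_cancel_right]; exact hk⟩
      by_cases hb : K = ⊥
      · exact Or.inl hb
      · exact Or.inr (hK K hKn hKinv hb)
    · -- not commutative: reduce to invariant Sylow subgroups
      have hpos : ∀ S : Set A, Nat.card (fix φ S) ≠ 0 := fun S => Nat.card_pos.ne'
      have hFpos : Nat.card F ≠ 0 := Nat.card_pos.ne'
      apply Nat.eq_of_factorization_eq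
        (mul_ne_zero hFpos (pow_ne_zero _ (hpos _)))
        (mul_ne_zero (hpos _) (Finset.prod_ne_zero_iff.mpr (fun i _ => hpos _)))
      intro r
      by_cases hr : r.Prime
      · have := Fact.mk hr
        obtain ⟨Q, hQ⟩ := exists_inv_sylow φ hA hcopF r
        have hQtop : (Q : Subgroup F) ≠ ⊤ := by
          intro h
          have hF : IsPGroup r F := by
            intro g
            obtain ⟨k, hk⟩ := Q.isPGroup' ⟨g, h ▸ Subgroup.mem_top g⟩
            exact ⟨k, by simpa using congrArg Subtype.val hk⟩
          have : Nontrivial F := by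
            by_contra hnt
            rw [not_nontrivial_iff_subsingleton] at hnt
            exact hFc (fun f g => Subsingleton.elim _ _)
          have hcn : Nontrivial (Subgroup.center F) := hF.center_nontrivial
          have hcb : Subgroup.center F ≠ ⊥ := by
            intro hb
            rw [Subgroup.nontrivial_iff_ne_bot] at hcn
            exact hcn hb
          have hct := hK (Subgroup.center F) inferInstance (inv_center φ) hcb
          apply hFc
          intro f g
          have : g ∈ Subgroup.center F := by rw [hct]; exact Subgroup.mem_top g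
          exact (Subgroup.mem_center_iff.mp this) f
        have hcardQ : Nat.card Q < n := by
          rw [← hn]
          exact lt_of_le_of_ne (Subgroup.card_le_card_group _)
            (fun h => hQtop (Subgroup.eq_top_of_card_eq _ h))
        have hcopQ : ¬ p ∣ Nat.card Q :=
          fun h => hcopF (h.trans (Subgroup.card_subgroup_dvd_card _))
        have hW := ih _ hcardQ Q rfl hcopQ (sub φ (Q : Subgroup F) hQ)
          (fun a b => sub_congr φ _ hQ (hcomm a b)) (fun a => sub_eq_one φ _ hQ (hexp a)) x z
        have hv := fun S => factorization_card_fix_sub_sylow φ hA hcopF r Q hQ S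
        have hposQ : ∀ S : Set A, Nat.card (fix (sub φ (Q : Subgroup F) hQ) S) ≠ 0 :=
          fun S => Nat.card_pos.ne'
        have hQpos : Nat.card Q ≠ 0 := Nat.card_pos.ne'
        have hvQ : (Nat.card Q).factorization r = (Nat.card F).factorization r := by
          rw [Sylow.card_eq_multiplicity Q, hr.factorization_pow]
          simp
        have hW' : (Nat.card Q * Nat.card (fix (sub φ (Q : Subgroup F) hQ) {x, z}) ^ p).factorization r
            = (Nat.card (fix (sub φ (Q : Subgroup F) hQ) {z}) * ∏ i ∈ Finset.range p,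
              Nat.card (fix (sub φ (Q : Subgroup F) hQ) {x * z ^ i})).factorization r := by
          rw [hW]
        rw [fact_lhs _ _ _ _ hQpos (hposQ _), fact_rhs _ _ _ _ (hposQ _) (fun i _ => hposQ _),
          hvQ] at hW'
        simp only [hv] at hW'
        rw [fact_lhs _ _ _ _ hFpos (hpos _), fact_rhs _ _ _ _ (hpos _) (fun i _ => hpos _)]
        exact hW'
      · rw [Nat.factorization_eq_zero_of_not_prime _ hr, Nat.factorization_eq_zero_of_not_prime _ hr]

end Cfsg.Agent.Lib.Helper23.WAct
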