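import Mathlib
import Cfsg.Agent.Lib.Helper29.SpPrfDefs
import Cfsg.Agent.Lib.Helper20.AschA89Main
import Cfsg.Agent.Lib.Helper17.SpAschQ0
import Cfsg.Agent.Lib.Helper17.SpAschZ
import Cfsg.Agent.Lib.Helper28.SLMP7core

/-!
S5662 block PRF (planner helper29), leaves B1 `adjM_conjR`, B2 `isAltGram_gramT`, B3 `bfm_gramT`, B4 `stdM_props`
(exact signatures of `notes/S5662_PRF_leaves.lean`).
-/

set_option autoImplicit false
set_option linter.unusedSectionVars false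
set_option linter.unusedVariables false

namespace Cfsg.Agent.Lib.Helper23.SpPrfLeaf
open Matrix Cfsg Cfsg.Geo Cfsg.Agent.Lib.Helper20.Asch Cfsg.Agent.Lib.Helper29.SpAsch
  Cfsg.Agent.Lib.Helper18.AschA89
open scoped Kronecker

variable {F : Type*} [Field F] [Fintype F] {n m : ℕ} {J : Matrix (Fin n) (Fin n) F}
  {H N : Subgroup (GL (Fin n) F)}

section transport
variable {κ : Type} [Fintype κ] [DecidableEq κ]

lemma b_inv_mul (P : GL (Fin n) F) :
    ((P⁻¹ : GL (Fin n) F) : Matrix (Fin n) (Fin n) F) * (P : Matrix (Fin n) (Fin n) F) = 1 := by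
  rw [← Units.val_mul, inv_mul_cancel, Units.val_one]

lemma b_mul_inv (P : GL (Fin n) F) :
    (P : Matrix (Fin n) (Fin n) F) * ((P⁻¹ : GL (Fin n) F) : Matrix (Fin n) (Fin n) F) = 1 := by
  rw [← Units.val_mul, mul_inv_cancel, Units.val_one]

lemma b_rr (e : Fin n ≃ κ) (X : Matrix (Fin n) (Fin n) F) :
    Matrix.reindex e.symm e.symm (Matrix.reindex e e X) = X := by
  ext i j
  simp [Matrix.reindex_apply, Matrix.submatrix_apply]

lemma b_rr' (e : Fin n ≃ κ) (M : Matrix κ κ F) :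
    Matrix.reindex e e (Matrix.reindex e.symm e.symm M) = M := by
  ext i j
  simp [Matrix.reindex_apply, Matrix.submatrix_apply]

lemma b_r_mul (e : Fin n ≃ κ) (X Y : Matrix (Fin n) (Fin n) F) :
    Matrix.reindex e e (X * Y) = Matrix.reindex e e X * Matrix.reindex e e Y := by
  simp only [Matrix.reindex_apply]
  rw [Matrix.submatrix_mul_equiv]

lemma b_rs_mul (e : Fin n ≃ κ) (X Y : Matrix κ κ F) :
    Matrix.reindex e.symm e.symm (X * Y) =
      Matrix.reindex e.symm e.symm X * Matrix.reindex e.symm e.symm Y := by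
  simp only [Matrix.reindex_apply]
  rw [Matrix.submatrix_mul_equiv]

lemma b_r_transpose (e : Fin n ≃ κ) (X : Matrix (Fin n) (Fin n) F) :
    (Matrix.reindex e e X)ᵀ = Matrix.reindex e e Xᵀ := by
  ext i j
  simp [Matrix.reindex_apply, Matrix.submatrix_apply]

lemma b_rs_transpose (e : Fin n ≃ κ) (X : Matrix κ κ F) :
    (Matrix.reindex e.symm e.symm X)ᵀ = Matrix.reindex e.symm e.symm Xᵀ := by
  ext i j
  simp [Matrix.reindex_apply, Matrix.submatrix_apply]

/-- the inverse of `Pᵀ J P` -/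
lemma b_K_inv (hd : J.det ≠ 0) (P : GL (Fin n) F) :
    ((P : Matrix (Fin n) (Fin n) F)ᵀ * J * (P : Matrix (Fin n) (Fin n) F))⁻¹ =
      ((P⁻¹ : GL (Fin n) F) : Matrix (Fin n) (Fin n) F) * J⁻¹ *
        ((P⁻¹ : GL (Fin n) F) : Matrix (Fin n) (Fin n) F)ᵀ := by
  apply Matrix.inv_eq_right_inv
  have h1 : J * J⁻¹ = 1 := Matrix.mul_nonsing_inv J (Ne.isUnit hd)
  have h2 : (P : Matrix (Fin n) (Fin n) F)ᵀ * ((P⁻¹ : GL (Fin n) F) : Matrix (Fin n) (Fin n) F)ᵀ = 1 := by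
    rw [← Matrix.transpose_mul, b_inv_mul, Matrix.transpose_one]
  calc (P : Matrix (Fin n) (Fin n) F)ᵀ * J * (P : Matrix (Fin n) (Fin n) F) *
        (((P⁻¹ : GL (Fin n) F) : Matrix (Fin n) (Fin n) F) * J⁻¹ *
          ((P⁻¹ : GL (Fin n) F) : Matrix (Fin n) (Fin n) F)ᵀ)
      = (P : Matrix (Fin n) (Fin n) F)ᵀ * J * ((P : Matrix (Fin n) (Fin n) F) *
          ((P⁻¹ : GL (Fin n) F) : Matrix (Fin n) (Fin n) F)) * J⁻¹ *
          ((P⁻¹ : GL (Fin n) F) : Matrix (Fin n) (Fin n) F)ᵀ := by simp only [mul_assoc]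
    _ = (P : Matrix (Fin n) (Fin n) F)ᵀ * (J * J⁻¹) *
          ((P⁻¹ : GL (Fin n) F) : Matrix (Fin n) (Fin n) F)ᵀ := by
        rw [b_mul_inv, mul_one]; simp only [mul_assoc]
    _ = 1 := by rw [h1, mul_one, h2]

/-- (B1) [M] the adjoint in coordinates: `J⁻¹ (P M̃ P⁻¹)ᵀ J = P (Pᵀ J P)⁻¹ M̃ᵀ (Pᵀ J P) P⁻¹`. -/
theorem adjM_conjR (hd : J.det ≠ 0) (e : Fin n ≃ κ) (P : GL (Fin n) F) (M : Matrix κ κ F) :
    adjM J (conjR e P M) = conjR e P (adjM (gramT e P J) M) := by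
  unfold adjM conjR gramT
  rw [Matrix.inv_reindex, b_rs_mul, b_rs_mul, b_rr, b_rr, b_K_inv hd, ← b_rs_transpose]
  set Pm : Matrix (Fin n) (Fin n) F := (P : Matrix (Fin n) (Fin n) F) with hPm
  set Pi : Matrix (Fin n) (Fin n) F := ((P⁻¹ : GL (Fin n) F) : Matrix (Fin n) (Fin n) F) with hPi
  set R : Matrix (Fin n) (Fin n) F := Matrix.reindex e.symm e.symm M with hR
  have h1 : Pm * Pi = 1 := b_mul_inv P
  have h2 : Piᵀ * Pmᵀ = 1 := by rw [← Matrix.transpose_mul, h1, Matrix.transpose_one]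
  rw [Matrix.transpose_mul, Matrix.transpose_mul]
  calc J⁻¹ * (Piᵀ * (Rᵀ * Pmᵀ)) * J
      = (Pm * Pi) * J⁻¹ * Piᵀ * Rᵀ * Pmᵀ * J * (Pm * Pi) := by
        rw [h1, one_mul, mul_one]; simp only [mul_assoc]
    _ = Pm * (Pi * J⁻¹ * Piᵀ * Rᵀ * (Pmᵀ * J * Pm)) * Pi := by simp only [mul_assoc]

/-- `bfm` of `Pᵀ J P` -/
lemma b_bfm_K (P : GL (Fin n) F) (a b : Fin n → F) :
    bfm ((P : Matrix (Fin n) (Fin n) F)ᵀ * J * (P : Matrix (Fin n) (Fin n) F)) a b =
      bfm J ((P : Matrix (Fin n) (Fin n) F) *ᵥ a) ((P : Matrix (Fin n) (Fin n) F) *ᵥ b) := by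
  rw [bfm_mulVec]

/-- (B2) [S-M] -/
theorem isAltGram_gramT (hJ : IsAltGram J) (e : Fin n ≃ κ) (P : GL (Fin n) F) :
    IsAltGram (gramT e P J) := by
  refine ⟨?_, ?_, ?_⟩
  · unfold gramT
    rw [b_r_transpose, Matrix.transpose_mul, Matrix.transpose_mul, Matrix.transpose_transpose, hJ.skew]
    ext i j
    simp [Matrix.reindex_apply, Matrix.submatrix_apply, mul_assoc]
  · intro k
    unfold gramT
    rw [Matrix.reindex_apply, Matrix.submatrix_apply]
    have := bfm_entry (J := (P : Matrix (Fin n) (Fin n) F)ᵀ * J * (P : Matrix (Fin n) (Fin n) F))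
      (e.symm k) (e.symm k)
    rw [← this, b_bfm_K]
    exact bfm_self hJ _
  · unfold gramT
    rw [Matrix.reindex_apply, Matrix.det_submatrix_equiv_self, Matrix.det_mul, Matrix.det_mul,
      Matrix.det_transpose]
    have hP : (P : Matrix (Fin n) (Fin n) F).det ≠ 0 := by
      have := congrArg Matrix.det (b_mul_inv P)
      rw [Matrix.det_mul, Matrix.det_one] at this
      exact left_ne_zero_of_mul_eq_one this
    exact mul_ne_zero (mul_ne_zero hP hJ.det) hP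

/-- (B3) [S-M] -/
theorem bfm_gramT (e : Fin n ≃ κ) (P : GL (Fin n) F) (x y : κ → F) :
    bfm J (tvec e P x) (tvec e P y) = bfm (gramT e P J) x y := by
  unfold tvec gramT
  rw [← b_bfm_K]
  set K : Matrix (Fin n) (Fin n) F := (P : Matrix (Fin n) (Fin n) F)ᵀ * J * (P : Matrix (Fin n) (Fin n) F)
  unfold bfm
  simp only [dotProduct, Matrix.mulVec, Matrix.reindex_apply, Matrix.submatrix_apply, Function.comp_apply]
  rw [← Equiv.sum_comp e]
  refine Finset.sum_congr rfl fun i _ => ?_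
  congr 1
  rw [← Equiv.sum_comp e]
  refine Finset.sum_congr rfl fun j _ => ?_
  rw [Equiv.symm_apply_apply, Equiv.symm_apply_apply]

/-- (B4) [M] coordinates of a matrix: inverse to `conjR`, multiplicative, isometries go to isometries. -/
theorem stdM_props (e : Fin n ≃ κ) (P : GL (Fin n) F) :
    (∀ g : Matrix (Fin n) (Fin n) F, conjR e P (stdM e P g) = g) ∧
    (∀ M : Matrix κ κ F, stdM e P (conjR e P M) = M) ∧
    (∀ g g' : Matrix (Fin n) (Fin n) F, stdM e P (g * g') = stdM e P g * stdM e P g') ∧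
    stdM e P (1 : Matrix (Fin n) (Fin n) F) = 1 ∧
    (∀ g : GL (Fin n) F, g ∈ isoG J →
      (stdM e P (g : Matrix (Fin n) (Fin n) F))ᵀ * gramT e P J * stdM e P (g : Matrix (Fin n) (Fin n) F) =
        gramT e P J) := by
  have h1 := b_mul_inv P
  have h2 := b_inv_mul P
  refine ⟨?_, ?_, ?_, ?_, ?_⟩
  · intro g
    unfold conjR stdM
    rw [b_rr]
    calc (P : Matrix (Fin n) (Fin n) F) * (((P⁻¹ : GL (Fin n) F) : Matrix (Fin n) (Fin n) F) * g *
          (P : Matrix (Fin n) (Fin n) F)) * ((P⁻¹ : GL (Fin n) F) : Matrix (Fin n) (Fin n) F)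
        = ((P : Matrix (Fin n) (Fin n) F) * ((P⁻¹ : GL (Fin n) F) : Matrix (Fin n) (Fin n) F)) * g *
          ((P : Matrix (Fin n) (Fin n) F) * ((P⁻¹ : GL (Fin n) F) : Matrix (Fin n) (Fin n) F)) := by
          simp only [mul_assoc]
      _ = g := by rw [h1, one_mul, mul_one]
  · intro M
    unfold conjR stdM
    have : ((P⁻¹ : GL (Fin n) F) : Matrix (Fin n) (Fin n) F) * ((P : Matrix (Fin n) (Fin n) F) *
        Matrix.reindex e.symm e.symm M * ((P⁻¹ : GL (Fin n) F) : Matrix (Fin n) (Fin n) F)) *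
        (P : Matrix (Fin n) (Fin n) F) = Matrix.reindex e.symm e.symm M := by
      calc _ = (((P⁻¹ : GL (Fin n) F) : Matrix (Fin n) (Fin n) F) * (P : Matrix (Fin n) (Fin n) F)) *
            Matrix.reindex e.symm e.symm M * (((P⁻¹ : GL (Fin n) F) : Matrix (Fin n) (Fin n) F) *
            (P : Matrix (Fin n) (Fin n) F)) := by simp only [mul_assoc]
        _ = _ := by rw [h2, one_mul, mul_one]
    rw [this, b_rr']
  · intro g g'
    unfold stdM
    rw [← b_r_mul]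
    congr 1
    calc ((P⁻¹ : GL (Fin n) F) : Matrix (Fin n) (Fin n) F) * (g * g') * (P : Matrix (Fin n) (Fin n) F)
        = ((P⁻¹ : GL (Fin n) F) : Matrix (Fin n) (Fin n) F) * g *
          ((P : Matrix (Fin n) (Fin n) F) * ((P⁻¹ : GL (Fin n) F) : Matrix (Fin n) (Fin n) F)) * g' *
          (P : Matrix (Fin n) (Fin n) F) := by rw [h1, mul_one]; simp only [mul_assoc]
      _ = _ := by simp only [mul_assoc]
  · unfold stdM
    rw [mul_one, h2]
    ext i j
    simp [Matrix.reindex_apply, Matrix.submatrix_apply, Matrix.one_apply]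
  · intro g hg
    rw [mem_isoG_iff] at hg
    unfold stdM gramT
    rw [b_r_transpose, ← b_r_mul, ← b_r_mul]
    congr 1
    rw [Matrix.transpose_mul, Matrix.transpose_mul]
    have h3 : ((P⁻¹ : GL (Fin n) F) : Matrix (Fin n) (Fin n) F)ᵀ * (P : Matrix (Fin n) (Fin n) F)ᵀ = 1 := by
      rw [← Matrix.transpose_mul, h1, Matrix.transpose_one]
    calc (P : Matrix (Fin n) (Fin n) F)ᵀ * ((g : Matrix (Fin n) (Fin n) F)ᵀ *
          ((P⁻¹ : GL (Fin n) F) : Matrix (Fin n) (Fin n) F)ᵀ) *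
          ((P : Matrix (Fin n) (Fin n) F)ᵀ * J * (P : Matrix (Fin n) (Fin n) F)) *
          (((P⁻¹ : GL (Fin n) F) : Matrix (Fin n) (Fin n) F) * (g : Matrix (Fin n) (Fin n) F) *
          (P : Matrix (Fin n) (Fin n) F))
        = (P : Matrix (Fin n) (Fin n) F)ᵀ * (g : Matrix (Fin n) (Fin n) F)ᵀ *
          (((P⁻¹ : GL (Fin n) F) : Matrix (Fin n) (Fin n) F)ᵀ * (P : Matrix (Fin n) (Fin n) F)ᵀ) * J *
          ((P : Matrix (Fin n) (Fin n) F) * ((P⁻¹ : GL (Fin n) F) : Matrix (Fin n) (Fin n) F)) *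
          (g : Matrix (Fin n) (Fin n) F) * (P : Matrix (Fin n) (Fin n) F) := by simp only [mul_assoc]
      _ = (P : Matrix (Fin n) (Fin n) F)ᵀ * ((g : Matrix (Fin n) (Fin n) F)ᵀ * J *
          (g : Matrix (Fin n) (Fin n) F)) * (P : Matrix (Fin n) (Fin n) F) := by
          rw [h3, h1, mul_one, mul_one]; simp only [mul_assoc]
      _ = _ := by rw [hg]

end transport

end Cfsg.Agent.Lib.Helper23.SpPrfLeaf
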