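import Mathlib
import Cfsg.Agent.Lib.Helper2.SOTDefs
import Cfsg.Agent.Lib.Helper27.SOTLADefs
import Cfsg.Agent.Lib.Helper13.OTUCalc
import Cfsg.Agent.Lib.Helper13.OTLADefs
import Cfsg.Agent.Lib.Helper28.SOTBDefs
import Cfsg.Agent.Lib.Helper28.SOTBKB
import Cfsg.Agent.Lib.Helper15.OTLAR11
import Cfsg.Agent.Lib.Helper29.OTLAC0

/-!
S5681 + S5709 PART (LA'), block R1+ : (P1a) `exists_yel`, (P1b) `exists_yel'` of `notes/S5681_LA_leaves.lean`:
the elements `y_v = 1 ⊗ η_{e_o,v}`, `y'_v = 1 ⊗ η_{e_o',v}` (`v ∈ B₀`) of `M ∩ KG` of `U`-form, with their blocks.  EXACT signatures.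
-/

set_option autoImplicit false
set_option linter.unusedSectionVars false
set_option linter.unusedVariables false

namespace Cfsg.Agent.Lib.Helper23.OTLALeaf
open Matrix
open Cfsg.Agent.Lib.Helper25.Tens Cfsg.Agent.Lib.Helper19.OSub
open Cfsg.Agent.Lib.Helper2.SOT Cfsg.Agent.Lib.Helper27.SOTLA Cfsg.Agent.Lib.Helper13.OTU
open Cfsg.Agent.Lib.Helper13.OTLA
open scoped Kronecker

variable {F : Type*} [Field F] [Fintype F] {a b : ℕ} {G₁ : Matrix (Fin a) (Fin a) F}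
  {G₂ : Matrix (Fin b) (Fin b) F} {o o' p p' : Fin b} {Om M : Subgroup (GL (Idx a b) F)}

/-- a matrix preserving `fB G` satisfies `βᵀ G β = G` -/
theorem yel_orth_of_fB {β : Matrix (Fin b) (Fin b) F}
    (hβ : ∀ y y' : Fin b → F, fB G₂ (β *ᵥ y) (β *ᵥ y') = fB G₂ y y') : βᵀ * G₂ * β = G₂ := by
  ext i j
  have h1 := hβ (Pi.single i 1) (Pi.single j 1)
  unfold fB at h1
  rw [Matrix.mulVec_mulVec] at h1
  simp only [Matrix.mulVec_single_one, single_one_dotProduct] at h1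
  rw [Matrix.mul_assoc, Matrix.mul_apply]
  simpa [dotProduct, Matrix.col_apply, Matrix.transpose_apply] using h1

/-- `1 ⊗ β` is an isometry of `G₁ ⊗ G₂` if `βᵀ G₂ β = G₂` -/
theorem yel_isIso_one_kron {β : Matrix (Fin b) (Fin b) F} (hβ : βᵀ * G₂ * β = G₂) :
    IsIso G₁ G₂ ((1 : Matrix (Fin a) (Fin a) F) ⊗ₖ β) := by
  unfold IsIso KM
  rw [← Matrix.kroneckerMap_transpose, Matrix.transpose_one, ← Matrix.mul_kronecker_mul,
    ← Matrix.mul_kronecker_mul, Matrix.one_mul, Matrix.mul_one, hβ]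

/-- the generic element `1 ⊗ η_{e_u,v}`, `(u,w)` one of the two hyperbolic pairs `(o,p)`, `(o',p')` -/
theorem yel_core (h : LBase G₁ G₂ o o' p p' Om M) (u w : Fin b)
    (hN : Cfsg.Agent.Lib.Helper28.SOTB.NormG G₂ u w) (hu : u = o ∨ u = o') (hw : w = p ∨ w = p')
    (v : Fin b → F) (hv : IsB0 o o' p p' v) :
    ∃ y : GL (Idx a b) F, y ∈ M ∧ y ∈ KG a b F ∧ UL o o' p p' y.1 ∧
      ∀ k l : Fin b, blk y.1 k l =
        ((if k = l then 1 else 0) + (if l = w then v k else 0) -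
          (if k = u then (G₂ *ᵥ v) l else 0) -
          (if l = w ∧ k = u then fB G₂ v v / 2 else 0)) • (1 : Matrix (Fin a) (Fin a) F) := by
  have hA := h.adp
  have hvw : v w = 0 := by
    rcases hw with rfl | rfl
    · exact hv.2.2.1
    · exact hv.2.2.2
  have hz : fB G₂ (Pi.single u (1 : F)) (Pi.single u 1) = 0 := hN.fB_oo h.symm2
  have hzv : fB G₂ (Pi.single u (1 : F)) v = 0 := by
    rw [Cfsg.Agent.Lib.Helper28.SOTB.fB_single_left, hN.mulVec_o, hvw]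
  set β : GL (Fin b) F := Cfsg.Agent.Lib.Helper28.SOTB.etaGL G₂ (Pi.single u 1) v with hβ
  have hentry : ∀ k l : Fin b, β.1 k l =
      (if k = l then 1 else 0) + (if l = w then v k else 0) -
        (if k = u then (G₂ *ᵥ v) l else 0) - (if l = w ∧ k = u then fB G₂ v v / 2 else 0) :=
    fun k l => Cfsg.Agent.Lib.Helper28.SOTBLeaf.etaGL_entry h.symm2 h.two hN v hvw k l
  have hblk : ∀ k l : Fin b, blk (kel (1 : GL (Fin a) F) β : GL (Idx a b) F).1 k l =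
      (β.1 k l) • (1 : Matrix (Fin a) (Fin a) F) := by
    intro k l
    rw [kel_val, Units.val_one, blk_kron]
  have horth : β.1ᵀ * G₂ * β.1 = G₂ :=
    yel_orth_of_fB (Cfsg.Agent.Lib.Helper28.SOTB.etaGL_isom h.symm2 h.two hz hzv)
  have hiso : IsIso G₁ G₂ (kel (1 : GL (Fin a) F) β : GL (Idx a b) F).1 := by
    rw [kel_val, Units.val_one]
    exact yel_isIso_one_kron horth
  -- `G₂ v` vanishes on `o`, `o'`
  have hGo : (G₂ *ᵥ v) o = 0 := by
    simp only [Matrix.mulVec, dotProduct, hA.row_o]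
    simp [hv.2.2.1]
  have hGo' : (G₂ *ᵥ v) o' = 0 := by
    simp only [Matrix.mulVec, dotProduct, hA.row_o']
    simp [hv.2.2.2]
  have hU : UL o o' p p' (kel (1 : GL (Fin a) F) β : GL (Idx a b) F).1 := by
    intro k l hfree
    rw [hblk, hentry]
    have hnf1 : ¬ (k ∈ TL o o' ∧ l ∉ TL o o') := fun hh => hfree (Or.inl hh)
    have hnf2 : ¬ (l ∈ TL p p' ∧ k ∉ TL p p') := fun hh => hfree (Or.inr hh)
    simp only [Cfsg.Agent.Lib.Helper29.OTLALeaf.mem_TL] at hnf1 hnf2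
    have hwB : w = p ∨ w = p' := hw
    -- term 2
    have t2 : (if l = w then v k else 0) = 0 := by
      split_ifs with hl
      · subst hl
        have hk : k = p ∨ k = p' := by
          by_contra hk
          exact hnf2 ⟨hwB, hk⟩
        rcases hk with rfl | rfl
        · exact hv.2.2.1
        · exact hv.2.2.2
      · rfl
    have t3 : (if k = u then (G₂ *ᵥ v) l else 0) = 0 := by
      split_ifs with hk
      · subst hk
        have hl : l = o ∨ l = o' := by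
          by_contra hl
          exact hnf1 ⟨hu, hl⟩
        rcases hl with rfl | rfl
        · exact hGo
        · exact hGo'
      · rfl
    have t4 : (if l = w ∧ k = u then fB G₂ v v / 2 else 0) = 0 := by
      split_ifs with hlk
      · exfalso
        obtain ⟨rfl, rfl⟩ := hlk
        have hl : l = o ∨ l = o' := by
          by_contra hl
          exact hnf1 ⟨hu, hl⟩
        rcases hl with rfl | rfl <;> rcases hwB with h1 | h1
        · exact hA.hop h1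
        · exact hA.hop' h1
        · exact hA.ho'p h1
        · exact hA.ho'p' h1
      · rfl
    rw [t2, t3, t4, add_zero, sub_zero, sub_zero]
    split_ifs <;> simp
  refine ⟨kel (1 : GL (Fin a) F) β, ?_, kel_mem_KG _ _, hU, ?_⟩
  · exact Cfsg.Agent.Lib.Helper15.OTLALeaf.uform_KG_mem_M h (kel_mem_KG _ _) hiso hU
  · intro k l
    rw [hblk, hentry]

/-- (P1a) -/
theorem exists_yel (h : LBase G₁ G₂ o o' p p' Om M) (v : Fin b → F) (hv : IsB0 o o' p p' v) :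
    ∃ y : GL (Idx a b) F, y ∈ M ∧ y ∈ KG a b F ∧ UL o o' p p' y.1 ∧
      (∀ m : Fin b, cls o o' p p' m = 1 → blk y.1 m p = v m • (1 : Matrix (Fin a) (Fin a) F)) ∧
      (∀ m : Fin b, cls o o' p p' m = 1 → blk y.1 m p' = 0) ∧
      (∀ m : Fin b, cls o o' p p' m = 1 →
        blk y.1 o m = (-((G₂ *ᵥ v) m)) • (1 : Matrix (Fin a) (Fin a) F)) ∧
      (∀ m : Fin b, cls o o' p p' m = 1 → blk y.1 o' m = 0) := by
  have hA := h.adp
  obtain ⟨y, hyM, hyK, hyU, hblk⟩ := yel_core h o p ⟨hA.hop, hA.row_o, hA.row_p⟩ (Or.inl rfl)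
    (Or.inl rfl) v hv
  refine ⟨y, hyM, hyK, hyU, ?_, ?_, ?_, ?_⟩
  · intro m hm
    obtain ⟨h1, h2, h3, h4⟩ := (Cfsg.Agent.Lib.Helper29.OTLALeaf.cls_eq_one_iff hA m).1 hm
    rw [hblk]
    simp [h1, h3]
  · intro m hm
    obtain ⟨h1, h2, h3, h4⟩ := (Cfsg.Agent.Lib.Helper29.OTLALeaf.cls_eq_one_iff hA m).1 hm
    rw [hblk]
    simp [h1, h4, hA.hpp'.symm]
  · intro m hm
    obtain ⟨h1, h2, h3, h4⟩ := (Cfsg.Agent.Lib.Helper29.OTLALeaf.cls_eq_one_iff hA m).1 hm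
    rw [hblk]
    simp [h3, Ne.symm h1]
  · intro m hm
    obtain ⟨h1, h2, h3, h4⟩ := (Cfsg.Agent.Lib.Helper29.OTLALeaf.cls_eq_one_iff hA m).1 hm
    rw [hblk]
    simp [h3, Ne.symm h2, hA.hoo'.symm]

/-- (P1b) -/
theorem exists_yel' (h : LBase G₁ G₂ o o' p p' Om M) (v : Fin b → F) (hv : IsB0 o o' p p' v) :
    ∃ y : GL (Idx a b) F, y ∈ M ∧ y ∈ KG a b F ∧ UL o o' p p' y.1 ∧
      (∀ m : Fin b, cls o o' p p' m = 1 → blk y.1 m p = 0) ∧
      (∀ m : Fin b, cls o o' p p' m = 1 → blk y.1 m p' = v m • (1 : Matrix (Fin a) (Fin a) F)) ∧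
      (∀ m : Fin b, cls o o' p p' m = 1 → blk y.1 o m = 0) ∧
      (∀ m : Fin b, cls o o' p p' m = 1 →
        blk y.1 o' m = (-((G₂ *ᵥ v) m)) • (1 : Matrix (Fin a) (Fin a) F)) := by
  have hA := h.adp
  obtain ⟨y, hyM, hyK, hyU, hblk⟩ := yel_core h o' p' ⟨hA.ho'p', hA.row_o', hA.row_p'⟩ (Or.inr rfl)
    (Or.inr rfl) v hv
  refine ⟨y, hyM, hyK, hyU, ?_, ?_, ?_, ?_⟩
  · intro m hm
    obtain ⟨h1, h2, h3, h4⟩ := (Cfsg.Agent.Lib.Helper29.OTLALeaf.cls_eq_one_iff hA m).1 hm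
    rw [hblk]
    simp [h2, h3, hA.hpp']
  · intro m hm
    obtain ⟨h1, h2, h3, h4⟩ := (Cfsg.Agent.Lib.Helper29.OTLALeaf.cls_eq_one_iff hA m).1 hm
    rw [hblk]
    simp [h2, h4]
  · intro m hm
    obtain ⟨h1, h2, h3, h4⟩ := (Cfsg.Agent.Lib.Helper29.OTLALeaf.cls_eq_one_iff hA m).1 hm
    rw [hblk]
    simp [h4, Ne.symm h1, hA.hoo']
  · intro m hm
    obtain ⟨h1, h2, h3, h4⟩ := (Cfsg.Agent.Lib.Helper29.OTLALeaf.cls_eq_one_iff hA m).1 hm
    rw [hblk]
    simp [h4, Ne.symm h2]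

end Cfsg.Agent.Lib.Helper23.OTLALeaf
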