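import Mathlib
import Cfsg.Agent.Lib.Helper2.SOTDefs
import Cfsg.Agent.Lib.Helper27.SOTLADefs
import Cfsg.Agent.Lib.Helper13.OTUCalc
import Cfsg.Agent.Lib.Helper13.OTLADefs
import Cfsg.Agent.Lib.Helper13.OTLAR1
import Cfsg.Agent.Lib.Helper29.OTLAC0
import Cfsg.Agent.Lib.Helper29.OTLAC1
import Cfsg.Agent.Lib.Helper7.OTLAZm
import Cfsg.Agent.Lib.Helper1.SOTLAA7core
import Cfsg.Agent.Lib.Helper23.OTLAYel

/-!
S5681 + S5709 PART (LA'), block R1+ : (P2a) `theta_gram_scalar` of `notes/S5681_LA_leaves.lean`.  EXACT signature.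
-/

set_option autoImplicit false
set_option linter.unusedSectionVars false
set_option linter.unusedVariables false
set_option linter.unusedSimpArgs false

namespace Cfsg.Agent.Lib.Helper23.OTLALeaf
open Matrix
open Cfsg.Agent.Lib.Helper25.Tens Cfsg.Agent.Lib.Helper19.OSub
open Cfsg.Agent.Lib.Helper2.SOT Cfsg.Agent.Lib.Helper27.SOTLA Cfsg.Agent.Lib.Helper13.OTU
open Cfsg.Agent.Lib.Helper13.OTLA
open scoped Kronecker

variable {F : Type*} [Field F] [Fintype F] {a b : ℕ} {G₁ : Matrix (Fin a) (Fin a) F}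
  {G₂ : Matrix (Fin b) (Fin b) F} {o o' p p' : Fin b} {Om M : Subgroup (GL (Idx a b) F)}

/-- `m` middle iff `m ∉ T ∪ Bt` -/
theorem theta_mid_iff (hA : Adp G₂ o o' p p') (m : Fin b) :
    (m ∈ TL o o' ∨ m ∈ TL p p') ↔ ¬ cls o o' p p' m = 1 := by
  rw [Cfsg.Agent.Lib.Helper29.OTLALeaf.cls_eq_one_iff hA, Cfsg.Agent.Lib.Helper29.OTLALeaf.mem_TL,
    Cfsg.Agent.Lib.Helper29.OTLALeaf.mem_TL]
  tauto

/-- (P2a) -/
theorem theta_gram_scalar (h : LBase G₁ G₂ o o' p p' Om M) (hR1 : R1P G₁ o o' p p' M)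
    {g : GL (Idx a b) F} (hg : g ∈ M) (hU : UL o o' p p' g.1) (m₀ : Fin b)
    (hm₀ : cls o o' p p' m₀ = 1) :
    IsScal (∑ m, if cls o o' p p' m = 1 then G₂ m m₀ • blk g.1 m p else 0) ∧
    IsScal (∑ m, if cls o o' p p' m = 1 then G₂ m m₀ • blk g.1 m p' else 0) := by
  have hA := h.adp
  have hd : Disjoint (TL o o') (TL p p') := Cfsg.Agent.Lib.Helper29.OTLALeaf.TL_disjoint hA
  obtain ⟨hmo, hmo', hmp, hmp'⟩ := (Cfsg.Agent.Lib.Helper29.OTLALeaf.cls_eq_one_iff hA m₀).1 hm₀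
  have hv : IsB0 o o' p p' (Pi.single m₀ (1 : F)) :=
    ⟨Pi.single_eq_of_ne (Ne.symm hmo) _, Pi.single_eq_of_ne (Ne.symm hmo') _,
      Pi.single_eq_of_ne (Ne.symm hmp) _, Pi.single_eq_of_ne (Ne.symm hmp') _⟩
  have hGv : ∀ m : Fin b, (G₂ *ᵥ Pi.single m₀ (1 : F)) m = G₂ m m₀ := by
    intro m
    rw [Matrix.mulVec_single_one]
    rfl
  have hoT : o ∈ TL o o' := (Cfsg.Agent.Lib.Helper29.OTLALeaf.mem_TL o o' o).2 (Or.inl rfl)
  have ho'T : o' ∈ TL o o' := (Cfsg.Agent.Lib.Helper29.OTLALeaf.mem_TL o o' o').2 (Or.inr rfl)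
  have hpB : p ∈ TL p p' := (Cfsg.Agent.Lib.Helper29.OTLALeaf.mem_TL p p' p).2 (Or.inl rfl)
  have hp'B : p' ∈ TL p p' := (Cfsg.Agent.Lib.Helper29.OTLALeaf.mem_TL p p' p').2 (Or.inr rfl)
  constructor
  · -- use `y'_v` and the block `(o', p)`
    obtain ⟨y, hyM, hyK, hyU, hy1, hy2, hy3, hy4⟩ := exists_yel' h (Pi.single m₀ 1) hv
    obtain ⟨-, -, hcC, hcblk⟩ := Cfsg.Agent.Lib.Helper29.OTLALeaf.comm_UFS hd g y hU hyU
    have hcM : g * y * g⁻¹ * y⁻¹ ∈ M :=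
      M.mul_mem (M.mul_mem (M.mul_mem hg hyM) (M.inv_mem hg)) (M.inv_mem hyM)
    obtain ⟨c, hc⟩ := Cfsg.Agent.Lib.Helper13.OTLALeaf.R1_corner h hR1 hcM hcC
    have hb := hcblk o' p ⟨ho'T, hpB⟩
    rw [hc] at hb
    unfold Zc at hb
    rw [Cfsg.Agent.Lib.Helper7.OTLALeaf.blk_Zm] at hb
    simp only [hA.ho'p, hA.hoo'.symm, hA.hpp', if_false, false_and, and_false, true_and, and_self,
      if_true, add_zero, zero_add] at hb
    refine ⟨-c, ?_⟩
    have hsum : (∑ m, if cls o o' p p' m = 1 then G₂ m m₀ • blk g.1 m p else 0) =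
        ∑ m, (if m ∈ TL o o' ∨ m ∈ TL p p' then 0
          else blk g.1 o' m * blk y.1 m p - blk y.1 o' m * blk g.1 m p) := by
      apply Finset.sum_congr rfl
      intro m _
      by_cases hm : cls o o' p p' m = 1
      · rw [if_pos hm, if_neg (fun hh => ((theta_mid_iff hA m).1 hh) hm), hy1 m hm, hy4 m hm, hGv]
        simp
      · rw [if_neg hm, if_pos ((theta_mid_iff hA m).2 hm)]
    rw [hsum, ← hb, Cfsg.Agent.Lib.Helper1.SOTLALeaf.adjB_smul,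
      Cfsg.Agent.Lib.Helper1.SOTLALeaf.adjB_one h.nd1, neg_smul]
  · -- use `y_v` and the block `(o, p')`
    obtain ⟨y, hyM, hyK, hyU, hy1, hy2, hy3, hy4⟩ := exists_yel h (Pi.single m₀ 1) hv
    obtain ⟨-, -, hcC, hcblk⟩ := Cfsg.Agent.Lib.Helper29.OTLALeaf.comm_UFS hd g y hU hyU
    have hcM : g * y * g⁻¹ * y⁻¹ ∈ M :=
      M.mul_mem (M.mul_mem (M.mul_mem hg hyM) (M.inv_mem hg)) (M.inv_mem hyM)
    obtain ⟨c, hc⟩ := Cfsg.Agent.Lib.Helper13.OTLALeaf.R1_corner h hR1 hcM hcC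
    have hb := hcblk o p' ⟨hoT, hp'B⟩
    rw [hc] at hb
    unfold Zc at hb
    rw [Cfsg.Agent.Lib.Helper7.OTLALeaf.blk_Zm] at hb
    simp only [hA.hop', hA.hoo', hA.hpp'.symm, if_false, false_and, and_false, true_and, and_self,
      if_true, add_zero, zero_add] at hb
    refine ⟨c, ?_⟩
    have hsum : (∑ m, if cls o o' p p' m = 1 then G₂ m m₀ • blk g.1 m p' else 0) =
        ∑ m, (if m ∈ TL o o' ∨ m ∈ TL p p' then 0
          else blk g.1 o m * blk y.1 m p' - blk y.1 o m * blk g.1 m p') := by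
      apply Finset.sum_congr rfl
      intro m _
      by_cases hm : cls o o' p p' m = 1
      · rw [if_pos hm, if_neg (fun hh => ((theta_mid_iff hA m).1 hh) hm), hy2 m hm, hy3 m hm, hGv]
        simp
      · rw [if_neg hm, if_pos ((theta_mid_iff hA m).2 hm)]
    rw [hsum, ← hb]

end Cfsg.Agent.Lib.Helper23.OTLALeaf
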