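import Mathlib
import Cfsg.Agent.Lib.Helper2.PRegGenChar
import Cfsg.Agent.Lib.Helper24.CentralElt
import Cfsg.Agent.Lib.Helper24.IrrFacts
import Cfsg.Agent.Lib.Helper6.DefectOrder
import Cfsg.Agent.Lib.Helper10.GenChar

set_option autoImplicit false
open Cfsg Cfsg.Agent.CharLib Cfsg.Agent.Lib.Helper24 Cfsg.Agent.Lib.Helper6
open scoped ComplexConjugate

namespace Cfsg.Agent.Lib.Helper23

universe u

section central

variable {G : Type u} [Group G] [Fintype G]

/-- A central element acts on an irreducible character by a scalar of absolute value one. -/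
theorem central_scalar (χ : IrrCharacter G) (z : G) (hz : z ∈ Subgroup.center G) :
    ∃ c : ℂ, Complex.normSq c = 1 ∧ ∀ g : G, (χ : G → ℂ) (z * g) = c * (χ : G → ℂ) g := by
  classical
  obtain ⟨n, ρ, hirr, hρ⟩ := χ.2
  have := hirr
  obtain ⟨c, hc⟩ := exists_central_scalar ρ z hz
  have hmul : ∀ g : G, (χ : G → ℂ) (z * g) = c * (χ : G → ℂ) g := by
    intro g
    rw [← hρ]
    exact char_scalar_mul ρ z c hc g
  refine ⟨c, ?_, hmul⟩
  have h1 : ∑ g : G, Complex.normSq ((χ : G → ℂ) (z * g)) =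
      ∑ g : G, Complex.normSq ((χ : G → ℂ) g) :=
    Equiv.sum_comp (Equiv.mulLeft z) (fun g => Complex.normSq ((χ : G → ℂ) g))
  have h2 : ∑ g : G, Complex.normSq ((χ : G → ℂ) (z * g)) =
      Complex.normSq c * ∑ g : G, Complex.normSq ((χ : G → ℂ) g) := by
    rw [Finset.mul_sum]
    apply Finset.sum_congr rfl
    intro g _
    rw [hmul g, Complex.normSq_mul]
  have hpos : 0 < ∑ g : G, Complex.normSq ((χ : G → ℂ) g) := by
    have h3 : Complex.normSq ((χ : G → ℂ) 1) ≤ ∑ g : G, Complex.normSq ((χ : G → ℂ) g) :=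
      Finset.single_le_sum (f := fun g => Complex.normSq ((χ : G → ℂ) g))
        (fun g _ => Complex.normSq_nonneg _) (Finset.mem_univ 1)
    have h4 : 0 < Complex.normSq ((χ : G → ℂ) 1) :=
      Complex.normSq_pos.mpr (irr_apply_one_ne_zero χ)
    linarith
  rw [h1] at h2
  have h5 : (Complex.normSq c - 1) * ∑ g : G, Complex.normSq ((χ : G → ℂ) g) = 0 := by
    rw [sub_mul, one_mul, ← h2, sub_self]
  rcases mul_eq_zero.mp h5 with h6 | h6
  · linarith
  · linarith

/-- For a central `p`-subgroup `D`, an element has at most one decomposition `z * x` with `z ∈ D`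
and `x` a `p`-regular element. -/
theorem translate_unique {p : ℕ} [hpp : Fact p.Prime] (D : Subgroup G) (hD : IsPGroup p D)
    (hDZ : D ≤ Subgroup.center G) {z z' g : G} (hz : z ∈ D) (hz' : z' ∈ D)
    (h1 : ¬ p ∣ orderOf (z⁻¹ * g)) (h2 : ¬ p ∣ orderOf (z'⁻¹ * g)) : z = z' := by
  by_contra hne
  set u := z'⁻¹ * z with hu
  have huD : u ∈ D := D.mul_mem (D.inv_mem hz') hz
  have hu1 : u ≠ 1 := by
    intro h
    apply hne
    have := congrArg (fun t => z' * t) h
    simpa [hu] using this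
  have hcomm : Commute u (z⁻¹ * g) := ((Subgroup.mem_center_iff.mp (hDZ huD)) _).symm
  have hup : ∃ k : ℕ, orderOf u = p ^ k := by
    obtain ⟨k, hk⟩ := (IsPGroup.iff_orderOf.mp hD) ⟨u, huD⟩
    exact ⟨k, by rw [← hk, Subgroup.orderOf_mk]⟩
  have h3 := dvd_orderOf_mul_of_commute hcomm hup hu1 h1 (orderOf_pos _)
  have h4 : u * (z⁻¹ * g) = z'⁻¹ * g := by rw [hu]; group
  rw [h4] at h3
  exact h2 h3

end central

end Cfsg.Agent.Lib.Helper23
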