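import Mathlib
import Cfsg.Agent.Lib.Helper23.LaradjiA

set_option autoImplicit false
open Cfsg Cfsg.Agent.CharLib Cfsg.Agent.Lib.Helper24 Cfsg.Agent.Lib.Helper6
open scoped ComplexConjugate

namespace Cfsg.Agent.Lib.Helper23

universe u

section vanish

variable {G : Type u} [Group G] [Fintype G] {p : ℕ} [hpp : Fact p.Prime]

theorem sum_translates_le_one (D : Subgroup G) [Fintype D] (hD : IsPGroup p D)
    (hDZ : D ≤ Subgroup.center G) (g : G) [DecidablePred fun z : D => ¬ p ∣ orderOf ((z : G)⁻¹ * g)] :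
    ∑ z : D, (if ¬ p ∣ orderOf ((z : G)⁻¹ * g) then (1 : ℝ) else 0) ≤ 1 := by
  classical
  rw [Finset.sum_boole]
  have : (Finset.univ.filter (fun z : D => ¬ p ∣ orderOf ((z : G)⁻¹ * g))).card ≤ 1 := by
    rw [Finset.card_le_one]
    intro a ha b hb
    rw [Finset.mem_filter] at ha hb
    exact Subtype.ext (translate_unique D hD hDZ a.2 b.2 ha.2 hb.2)
  exact_mod_cast this

/-- the order of `D` is `p^(a-d)` -/
theorem card_eq_pow_sub (D : Subgroup G) (hD : IsPGroup p D) (n : ℕ)
    (hdeg : n.factorization p = D.index.factorization p) :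
    Nat.card D = p ^ ((Nat.card G).factorization p - n.factorization p) := by
  obtain ⟨δ, hδ⟩ := IsPGroup.iff_card.mp hD
  have h1 : Nat.card G = Nat.card D * D.index := (Subgroup.card_mul_index D).symm
  have hidx : D.index ≠ 0 := Subgroup.index_ne_zero_of_finite
  have hcard : Nat.card D ≠ 0 := Nat.card_pos.ne'
  have h2 : (Nat.card G).factorization p = δ + D.index.factorization p := by
    rw [h1, Nat.factorization_mul hcard hidx, Finsupp.add_apply, hδ,
      Nat.Prime.factorization_pow hpp.out, Finsupp.single_eq_same]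
  rw [h2, hdeg, Nat.add_sub_cancel, hδ]

/-- **Laradji, key step**: for a central `p`-subgroup `D` and `χ` with `χ(1)_p = |G:D|_p`, the
`p`-regular norm of `χ` is `|G:D|` and `χ` vanishes off `D × G_{p'}`. -/
theorem laradji_key (D : Subgroup G) [Fintype D] (hD : IsPGroup p D)
    (hDZ : D ≤ Subgroup.center G) (χ : IrrCharacter G)
    (hdeg : (charDegree (χ : G → ℂ)).factorization p = D.index.factorization p)
    [DecidablePred fun x : G => ¬ p ∣ orderOf x] :
    (Nat.card D : ℝ) * (∑ x : G, if ¬ p ∣ orderOf x then Complex.normSq ((χ : G → ℂ) x) else 0) =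
      (Nat.card G : ℝ) ∧
    ∀ g : G, (∀ z ∈ D, p ∣ orderOf (z⁻¹ * g)) → (χ : G → ℂ) g = 0 := by
  classical
  have hp : p.Prime := hpp.out
  set F : G → ℝ := fun g => Complex.normSq ((χ : G → ℂ) g) with hF
  set R : ℝ := ∑ x : G, if ¬ p ∣ orderOf x then F x else 0 with hR
  set N : G → ℝ := fun g => ∑ z : D, (if ¬ p ∣ orderOf ((z : G)⁻¹ * g) then (1 : ℝ) else 0) with hN
  have hN1 : ∀ g, N g ≤ 1 := fun g => sum_translates_le_one D hD hDZ g
  have hN0 : ∀ g, 0 ≤ N g := fun g => Finset.sum_nonneg (fun z _ => by split_ifs <;> norm_num)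
  have hF0 : ∀ g, 0 ≤ F g := fun g => Complex.normSq_nonneg _
  have hG0 : (Nat.card G : ℝ) ≠ 0 := Nat.cast_ne_zero.mpr Nat.card_pos.ne'
  have hG0' : (Nat.card G : ℂ) ≠ 0 := Nat.cast_ne_zero.mpr Nat.card_pos.ne'
  -- the total norm
  have hT : ∑ g : G, F g = (Nat.card G : ℝ) := by
    have h1 := classInner_irr' χ χ
    rw [if_pos rfl] at h1
    unfold classInner at h1
    have h2 : ∑ g : G, (χ : G → ℂ) g * conj ((χ : G → ℂ) g) = ((∑ g : G, F g : ℝ) : ℂ) := by
      rw [Complex.ofReal_sum]
      apply Finset.sum_congr rfl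
      intro g _
      rw [Complex.mul_conj]
    rw [h2] at h1
    have h3 : ((∑ g : G, F g : ℝ) : ℂ) = (Nat.card G : ℂ) := by
      have := congrArg (fun t => (Nat.card G : ℂ) * t) h1
      rwa [← mul_assoc, mul_inv_cancel₀ hG0', one_mul, mul_one] at this
    exact_mod_cast h3
  -- translation by `z ∈ D`
  have htrans : ∀ z : D, ∑ x : G, (if ¬ p ∣ orderOf x then F ((z : G) * x) else 0) = R := by
    intro z
    obtain ⟨c, hc1, hc⟩ := central_scalar χ (z : G) (hDZ z.2)
    rw [hR]
    apply Finset.sum_congr rfl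
    intro x _
    by_cases hx : ¬ p ∣ orderOf x
    · rw [if_pos hx, if_pos hx]
      simp only [hF]
      rw [hc x, Complex.normSq_mul, hc1, one_mul]
    · rw [if_neg hx, if_neg hx]
  have hreidx : ∀ z : D, ∑ x : G, (if ¬ p ∣ orderOf x then F ((z : G) * x) else 0) =
      ∑ g : G, (if ¬ p ∣ orderOf ((z : G)⁻¹ * g) then F g else 0) := by
    intro z
    rw [← Equiv.sum_comp (Equiv.mulLeft (z : G))
      (fun g => if ¬ p ∣ orderOf ((z : G)⁻¹ * g) then F g else 0)]
    apply Finset.sum_congr rfl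
    intro x _
    simp only [Equiv.coe_mulLeft, inv_mul_cancel_left]
  have hDR : (Nat.card D : ℝ) * R = ∑ g : G, F g * N g := by
    have h1 : ∑ z : D, ∑ g : G, (if ¬ p ∣ orderOf ((z : G)⁻¹ * g) then F g else 0) =
        (Nat.card D : ℝ) * R := by
      rw [Finset.sum_congr rfl (fun z _ => ((hreidx z).symm.trans (htrans z))), Finset.sum_const,
        Finset.card_univ, nsmul_eq_mul, Nat.card_eq_fintype_card]
    rw [← h1, Finset.sum_comm]
    apply Finset.sum_congr rfl
    intro g _
    simp only [hN]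
    rw [Finset.mul_sum]
    apply Finset.sum_congr rfl
    intro z _
    split_ifs <;> simp
  -- the generalized character
  obtain ⟨n, ρ, hirr, hρ⟩ := χ.2
  have := hirr
  have hn : charDegree (χ : G → ℂ) = n := by
    have h2 : (χ : G → ℂ) 1 = (n : ℂ) := by
      rw [← hρ, Representation.char_one, Module.finrank_fin_fun]
    have h3 := irr_apply_one χ
    rw [h2] at h3
    exact_mod_cast h3.symm
  have hcard : Nat.card D = p ^ ((Nat.card G).factorization p - n.factorization p) := by
    apply card_eq_pow_sub D hD n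
    rw [← hn]
    exact hdeg
  have hchar : IsCharacter G (χ : G → ℂ) := IsIrrCharacter.isCharacter χ.2
  have hgen : IsGeneralizedCharacter G
      (fun g => ((Nat.card D : ℕ) : ℂ) * Cfsg.Agent.Lib.Helper2.pRegPart p (χ : G → ℂ) g) := by
    apply Cfsg.Agent.Lib.Helper2.scaled_pRegPart_isGenChar hchar
    intro g j hj
    have h1 := Cfsg.Agent.Lib.Helper2.isIntegral_pow_mul_char_div ρ hp g j hj
    rw [Module.finrank_fin_fun, ← hcard, hρ] at h1
    exact h1
  obtain ⟨m, hm⟩ := Cfsg.Agent.Lib.Helper10.genChar_classInner_int hgen hchar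
  have hinner : classInner
      (fun g => ((Nat.card D : ℕ) : ℂ) * Cfsg.Agent.Lib.Helper2.pRegPart p (χ : G → ℂ) g)
      (χ : G → ℂ) = (((Nat.card D : ℝ) * R / (Nat.card G : ℝ) : ℝ) : ℂ) := by
    unfold classInner
    have h1 : ∑ g : G, ((Nat.card D : ℕ) : ℂ) * Cfsg.Agent.Lib.Helper2.pRegPart p (χ : G → ℂ) g *
        conj ((χ : G → ℂ) g) = (((Nat.card D : ℝ) * R : ℝ) : ℂ) := by
      rw [hR, Finset.mul_sum, Complex.ofReal_sum]
      apply Finset.sum_congr rfl
      intro g _
      unfold Cfsg.Agent.Lib.Helper2.pRegPart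
      by_cases hg : p ∣ orderOf g
      · rw [if_pos hg, if_neg (not_not.mpr hg)]
        simp
      · rw [if_neg hg, if_pos hg, mul_assoc, Complex.mul_conj]
        push_cast
        rfl
    rw [h1]
    push_cast
    field_simp
  rw [hm] at hinner
  have hmR : (m : ℝ) = (Nat.card D : ℝ) * R / (Nat.card G : ℝ) := by
    have : ((m : ℝ) : ℂ) = (((Nat.card D : ℝ) * R / (Nat.card G : ℝ) : ℝ) : ℂ) := by
      rw [← hinner]; push_cast; rfl
    exact_mod_cast this
  -- bounds on `m`
  have hRpos : 0 < R := by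
    have h1 : F 1 ≤ R := by
      rw [hR]
      have h2 : (if ¬ p ∣ orderOf (1 : G) then F 1 else 0) = F 1 := by
        rw [if_pos]
        rw [orderOf_one]
        exact hp.one_lt.ne' ∘ Nat.dvd_one.mp
      rw [← h2]
      exact Finset.single_le_sum (f := fun x => if ¬ p ∣ orderOf x then F x else 0)
        (fun x _ => by
          by_cases hx : ¬ p ∣ orderOf x
          · rw [if_pos hx]; exact hF0 x
          · rw [if_neg hx]) (Finset.mem_univ 1)
    have h3 : 0 < F 1 := Complex.normSq_pos.mpr (irr_apply_one_ne_zero χ)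
    linarith
  have hDpos : (0 : ℝ) < Nat.card D := Nat.cast_pos.mpr Nat.card_pos
  have hGpos : (0 : ℝ) < Nat.card G := Nat.cast_pos.mpr Nat.card_pos
  have hmpos : (0 : ℝ) < m := by
    rw [hmR]
    positivity
  have hle : (Nat.card D : ℝ) * R ≤ Nat.card G := by
    rw [hDR, ← hT]
    apply Finset.sum_le_sum
    intro g _
    calc F g * N g ≤ F g * 1 := mul_le_mul_of_nonneg_left (hN1 g) (hF0 g)
      _ = F g := mul_one _
  have hmle : (m : ℝ) ≤ 1 := by
    rw [hmR, div_le_one hGpos]
    exact hle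
  have hm1 : m = 1 := by
    have h1 : 0 < m := by exact_mod_cast hmpos
    have h2 : m ≤ 1 := by exact_mod_cast hmle
    omega
  have heq : (Nat.card D : ℝ) * R = Nat.card G := by
    rw [hm1] at hmR
    have h1 : (1 : ℝ) = (Nat.card D : ℝ) * R / (Nat.card G : ℝ) := by exact_mod_cast hmR
    field_simp at h1
    linarith
  refine ⟨heq, ?_⟩
  intro g hg
  have hNg : N g = 0 := by
    simp only [hN]
    apply Finset.sum_eq_zero
    intro z _
    rw [if_neg (not_not.mpr (hg z z.2))]
  have hsum0 : ∑ g : G, F g * (1 - N g) = 0 := by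
    simp only [mul_sub, mul_one]
    rw [Finset.sum_sub_distrib, hT, ← hDR, heq, sub_self]
  have hterm := (Finset.sum_eq_zero_iff_of_nonneg
    (fun g _ => mul_nonneg (hF0 g) (by linarith [hN1 g]))).mp hsum0 g (Finset.mem_univ g)
  rw [hNg, sub_zero, mul_one] at hterm
  exact Complex.normSq_eq_zero.mp hterm

end vanish

end Cfsg.Agent.Lib.Helper23
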