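/-
helper23: Laradji theorem: for a central p-subgroup D and an irreducible χ with χ(1)_p = |G:D|_p, the
block of χ has defect group D and χ vanishes at elements whose p-part is outside D.  LaradjiA: central
scalars, uniqueness of translates; LaradjiB: key norm computation via helper2 generalized characters;
LaradjiC: the valuation estimate `factorization_le_of_mul_eq` and the theorem `laradji`.
-/
import Mathlib
import Cfsg.Agent.Lib.Helper23.LaradjiB
import Cfsg.Agent.Lib.Helper23.DefectClassCriterion
import Cfsg.Agent.Lib.Helper23.DefectClassValues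
import Cfsg.Agent.Lib.Helper23.BrauerInduced
import Cfsg.Agent.Lib.Helper23.DefectRadical
import Cfsg.Agent.Lib.Helper6.OneBlock

set_option autoImplicit false
open Cfsg Cfsg.Agent.CharLib Cfsg.Agent.Lib.Helper24 Cfsg.Agent.Lib.Helper6
open scoped ComplexConjugate

namespace Cfsg.Agent.Lib.Helper23

universe u

section val

variable {M : Ideal AlgInt}

/-- A valuation-type estimate in the local ring: if `K z = ω d` with `z` a unit and `ω` a local
integer, then `ν_p(d) ≤ ν_p(K)`. -/
theorem factorization_le_of_mul_eq {p : ℕ} [hpp : Fact p.Prime] (hM : IsPModular p M) {z ω : ℂ}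
    (hz : MemLocalRing M z) (hz' : ¬ MemLocalIdeal M z) (hω : MemLocalRing M ω) {K d : ℕ}
    (hK : K ≠ 0) (h : (K : ℂ) * z = ω * (d : ℂ)) : d.factorization p ≤ K.factorization p := by
  have hprime : M.IsPrime := isPrime_of_isPModular hM
  have hp : p.Prime := hpp.out
  by_contra hlt
  push Not at hlt
  set k := K.factorization p with hk
  have hd0 : d ≠ 0 := by
    rintro rfl
    simp at hlt
  have h1 : p ^ (k + 1) ∣ d := (hp.pow_dvd_iff_le_factorization hd0).mpr hlt
  obtain ⟨t, ht⟩ := h1
  have h2 : p ^ k * (K / p ^ k) = K := Nat.ordProj_mul_ordCompl_eq_self K p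
  have hs : ¬ p ∣ K / p ^ k := Nat.not_dvd_ordCompl hp hK
  set s := K / p ^ k with hs_def
  have hpk0 : ((p : ℂ) ^ k) ≠ 0 := pow_ne_zero _ (Nat.cast_ne_zero.mpr hp.ne_zero)
  have h3 : (s : ℂ) * z = ω * ((p : ℂ) * (t : ℂ)) := by
    have h4 : ((p : ℂ) ^ k) * ((s : ℂ) * z) = ((p : ℂ) ^ k) * (ω * ((p : ℂ) * (t : ℂ))) := by
      have h5 : (K : ℂ) = (p : ℂ) ^ k * (s : ℂ) := by rw [← h2]; push_cast; ring
      have h6 : (d : ℂ) = (p : ℂ) ^ (k + 1) * (t : ℂ) := by rw [ht]; push_cast; ring
      rw [h5, h6] at h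
      rw [← mul_assoc, h]
      ring
    exact mul_left_cancel₀ hpk0 h4
  have hsR : MemLocalRing M (s : ℂ) := memLocalRing_natCast s
  have hsI : ¬ MemLocalIdeal M (s : ℂ) := by
    intro hc
    have h1 : ((s : AlgInt) : ℂ) = (s : ℂ) := by simp
    rw [← h1, memLocalIdeal_coe_iff] at hc
    exact natCast_not_mem_of_not_dvd hM hs hc
  have hne := not_memLocalIdeal_mul hsR hz hsI hz'
  apply hne
  rw [h3]
  apply memLocalIdeal_mul_left hω
  exact memLocalIdeal_mul_right (memLocalIdeal_natCast_prime hM) (memLocalRing_natCast t)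

end val

section main

variable {G : Type u} [Group G] [Finite G] {M : Ideal AlgInt}

theorem centralizer_singleton_inv (x : G) :
    Subgroup.centralizer ({x⁻¹} : Set G) = Subgroup.centralizer ({x} : Set G) := by
  ext g
  rw [Subgroup.mem_centralizer_singleton_iff, Subgroup.mem_centralizer_singleton_iff]
  constructor
  · intro h
    have h1 : Commute g x⁻¹ := h
    have h2 := Commute.inv_right h1
    rw [inv_inv] at h2
    exact h2.eq
  · intro h
    have h1 : Commute g x := h
    exact (Commute.inv_right h1).eq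

/-- **Laradji's theorem**. -/
theorem laradji (p : ℕ) [hpp : Fact p.Prime] (hM : Cfsg.IsPModular p M) (D : Subgroup G)
    (hD : IsPGroup p D) (hDZ : D ≤ Subgroup.center G) (χ : Cfsg.IrrCharacter G)
    (hdeg : (Cfsg.charDegree (χ : G → ℂ)).factorization p = D.index.factorization p) :
    Cfsg.IsDefectGroup p M (Cfsg.blockOf M (χ : G → ℂ)) D ∧
      ∀ g x : G, Cfsg.IsPPart p g x → x ∉ D → (χ : G → ℂ) g = 0 := by
  classical
  let _ := Fintype.ofFinite G
  let _ : Fintype D := Fintype.ofFinite D
  let _ : Fintype (ConjClasses G) := Fintype.ofFinite _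
  have hprime : M.IsPrime := isPrime_of_isPModular hM
  have hp : p.Prime := hpp.out
  obtain ⟨hnorm, hvan⟩ := laradji_key D hD hDZ χ hdeg
  constructor
  · -- the defect group
    set a : G → ℂ := fun x => if ¬ p ∣ orderOf x then (χ : G → ℂ) x⁻¹ else 0 with ha
    have hχcls : IsClassFunction G (χ : G → ℂ) :=
      IsCharacter.isClassFunction (IsIrrCharacter.isCharacter χ.2)
    have hacls : IsClassFunction G a := by
      intro g h
      simp only [ha]
      have h1 : orderOf (h * g * h⁻¹) = orderOf g := by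
        rw [← MulAut.conj_apply, MulEquiv.orderOf_eq]
      have h2 : (h * g * h⁻¹)⁻¹ = h * g⁻¹ * h⁻¹ := by group
      rw [h1, h2, hχcls]
    -- the value of the functional
    have hχ1 : (χ : G → ℂ) 1 ≠ 0 := irr_apply_one_ne_zero χ
    have hsum : ∑ g : G, a g * (χ : G → ℂ) g =
        ((∑ x : G, if ¬ p ∣ orderOf x then Complex.normSq ((χ : G → ℂ) x) else 0 : ℝ) : ℂ) := by
      rw [Complex.ofReal_sum]
      apply Finset.sum_congr rfl
      intro g _
      simp only [ha]
      by_cases hg : ¬ p ∣ orderOf g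
      · rw [if_pos hg, if_pos hg, irr_apply_inv, mul_comm, Complex.mul_conj]
      · rw [if_neg hg, if_neg hg, zero_mul]
        simp
    have hDI : (Nat.card G : ℝ) = (Nat.card D : ℝ) * (D.index : ℝ) := by
      rw [← Subgroup.card_mul_index D]; push_cast; ring
    have hDpos : (Nat.card D : ℝ) ≠ 0 := Nat.cast_ne_zero.mpr Nat.card_pos.ne'
    have hR : (∑ x : G, if ¬ p ∣ orderOf x then Complex.normSq ((χ : G → ℂ) x) else 0 : ℝ) =
        (D.index : ℝ) := by
      rw [hDI] at hnorm
      exact mul_left_cancel₀ hDpos hnorm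
    have homega : omegaFun (χ : G → ℂ) a * (charDegree (χ : G → ℂ) : ℂ) = (D.index : ℂ) := by
      unfold omegaFun
      rw [hsum, hR, ← irr_apply_one χ, div_mul_cancel₀ _ hχ1]
      simp
    -- `ω_χ(a)` is not in the ideal
    have hnot : ¬ MemLocalIdeal M (omegaFun (χ : G → ℂ) a) := by
      intro hc
      set I := D.index with hI
      set dg := charDegree (χ : G → ℂ) with hdg
      have hI0 : I ≠ 0 := Subgroup.index_ne_zero_of_finite
      have hdg0 : dg ≠ 0 := (irr_charDegree_pos χ).ne'
      set e := I.factorization p with he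
      have h2 : p ^ e * (I / p ^ e) = I := Nat.ordProj_mul_ordCompl_eq_self I p
      have h3 : p ^ e * (dg / p ^ e) = dg := by
        rw [← hdeg]; exact Nat.ordProj_mul_ordCompl_eq_self dg p
      have hI' : ¬ p ∣ I / p ^ e := Nat.not_dvd_ordCompl hp hI0
      have hpe0 : ((p : ℂ) ^ e) ≠ 0 := pow_ne_zero _ (Nat.cast_ne_zero.mpr hp.ne_zero)
      have h4 : omegaFun (χ : G → ℂ) a * ((dg / p ^ e : ℕ) : ℂ) = ((I / p ^ e : ℕ) : ℂ) := by
        have h5 : ((p : ℂ) ^ e) * (omegaFun (χ : G → ℂ) a * ((dg / p ^ e : ℕ) : ℂ)) =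
            ((p : ℂ) ^ e) * ((I / p ^ e : ℕ) : ℂ) := by
          have h6 : (dg : ℂ) = (p : ℂ) ^ e * ((dg / p ^ e : ℕ) : ℂ) := by
            conv_lhs => rw [← h3]
            push_cast; ring
          have h7 : (I : ℂ) = (p : ℂ) ^ e * ((I / p ^ e : ℕ) : ℂ) := by
            conv_lhs => rw [← h2]
            push_cast; ring
          rw [← h7, ← homega, h6]
          ring
        exact mul_left_cancel₀ hpe0 h5
      have h8 : MemLocalIdeal M (((I / p ^ e : ℕ) : ℂ)) := by
        rw [← h4]
        exact memLocalIdeal_mul_right hc (memLocalRing_natCast _)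
      have h9 : (((I / p ^ e : ℕ) : AlgInt) : ℂ) = ((I / p ^ e : ℕ) : ℂ) := by simp
      rw [← h9, memLocalIdeal_coe_iff] at h8
      exact natCast_not_mem_of_not_dvd hM hI' h8
    -- pick a class
    rw [omegaFun_eq_sum_conjClasses χ hacls] at hnot
    obtain ⟨C, hC⟩ : ∃ C : ConjClasses G, ¬ MemLocalIdeal M
        (a (Quotient.out C) * centralChar (χ : G → ℂ) (Quotient.out C)) := by
      by_contra hcon
      push Not at hcon
      exact hnot (sum_memLocalIdeal _ _ (fun C _ => hcon C))
    set x := Quotient.out C with hx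
    have hxreg : ¬ p ∣ orderOf x := by
      intro hdiv
      apply hC
      simp only [ha]
      rw [if_neg (not_not.mpr hdiv), zero_mul]
      exact memLocalIdeal_zero hprime.one_notMem
    have hax : a x = (χ : G → ℂ) x⁻¹ := by simp only [ha]; rw [if_pos hxreg]
    rw [hax] at hC
    have hχR : MemLocalRing M ((χ : G → ℂ) x⁻¹) := by
      have h1 := irr_isIntegral χ x⁻¹
      exact memLocalRing_of_algInt ⟨_, h1⟩ hprime.one_notMem
    have hωR : MemLocalRing M (centralChar (χ : G → ℂ) x) := memLocalRing_centralChar χ x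
    have hχI : ¬ MemLocalIdeal M ((χ : G → ℂ) x⁻¹) := fun hc =>
      hC (memLocalIdeal_mul_right hc hωR)
    have hωI : ¬ MemLocalIdeal M (centralChar (χ : G → ℂ) x) := fun hc =>
      hC (memLocalIdeal_mul_left hχR hc)
    -- the defect is at most `ν_p |C(x)|`
    have hdef := blockDefect_le_of_centralChar hM χ x hωI
    -- `ν_p(χ(1)) ≤ ν_p |K|`
    have hidx0 : (Subgroup.centralizer ({x⁻¹} : Set G)).index ≠ 0 :=
      Subgroup.index_ne_zero_of_finite
    have hrel : (((Subgroup.centralizer ({x⁻¹} : Set G)).index : ℕ) : ℂ) * (χ : G → ℂ) x⁻¹ =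
        centralChar (χ : G → ℂ) x⁻¹ * (charDegree (χ : G → ℂ) : ℂ) := by
      unfold centralChar
      rw [← irr_apply_one χ, div_mul_cancel₀ _ hχ1]
    have hval := factorization_le_of_mul_eq hM hχR hχI (memLocalRing_centralChar χ x⁻¹) hidx0 hrel
    rw [centralizer_singleton_inv] at hval
    -- arithmetic
    obtain ⟨δ, hδ⟩ := IsPGroup.iff_card.mp hD
    have hG1 : Nat.card G = Nat.card D * D.index := (Subgroup.card_mul_index D).symm
    have hG2 : Nat.card G = Nat.card (Subgroup.centralizer ({x} : Set G)) *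
        (Subgroup.centralizer ({x} : Set G)).index := (Subgroup.card_mul_index _).symm
    have hidx : D.index ≠ 0 := Subgroup.index_ne_zero_of_finite
    have hcard : Nat.card D ≠ 0 := Nat.card_pos.ne'
    have hCx0 : Nat.card (Subgroup.centralizer ({x} : Set G)) ≠ 0 := Nat.card_pos.ne'
    have hKx0 : (Subgroup.centralizer ({x} : Set G)).index ≠ 0 := Subgroup.index_ne_zero_of_finite
    have ha1 : (Nat.card G).factorization p = δ + D.index.factorization p := by
      rw [hG1, Nat.factorization_mul hcard hidx, Finsupp.add_apply, hδ,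
        Nat.Prime.factorization_pow hp, Finsupp.single_eq_same]
    have ha2 : (Nat.card G).factorization p =
        (Nat.card (Subgroup.centralizer ({x} : Set G))).factorization p +
          ((Subgroup.centralizer ({x} : Set G)).index).factorization p := by
      conv_lhs => rw [hG2]
      rw [Nat.factorization_mul hCx0 hKx0, Finsupp.add_apply]
    have hle : blockDefect p (blockOf M (χ : G → ℂ)) ≤ δ := by
      rw [hdeg] at hval
      omega
    -- conclude
    obtain ⟨P, hP⟩ := exists_isDefectGroup (p := p) hM (blockOf M (χ : G → ℂ)) ⟨χ, rfl⟩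
    have hDn : D.Normal := by
      constructor
      intro n hn g
      have := Subgroup.mem_center_iff.mp (hDZ hn) g
      have h2 : g * n * g⁻¹ = n := by rw [this]; group
      rw [h2]
      exact hn
    have hDP : D ≤ P := le_of_isDefectGroup_of_normal hM D hD ⟨χ, rfl⟩ hP
    have hPcard := card_defectGroup_eq hM _ ⟨χ, rfl⟩ P hP
    have hcardle : Nat.card P ≤ Nat.card D := by
      rw [hPcard, hδ]
      exact Nat.pow_le_pow_right hp.pos hle
    have hEq : D = P := Subgroup.eq_of_le_of_card_ge hDP hcardle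
    rw [hEq]
    exact hP
  · intro g x hx hxD
    apply hvan g
    intro z hz
    by_contra hreg
    obtain ⟨y, hxy, hcomm, ⟨k, hk⟩, hy⟩ := hx
    set u := z⁻¹ * x with hu
    have hzc : ∀ w : G, w * z = z * w := fun w => Subgroup.mem_center_iff.mp (hDZ hz) w
    have hzinv : Commute z⁻¹ x := by
      have : Commute z x := (hzc x).symm
      exact this.inv_left
    have huy : Commute u y := by
      have h1 : Commute z⁻¹ y := by
        have : Commute z y := (hzc y).symm
        exact this.inv_left
      exact h1.mul_left hcomm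
    have hu1 : u ≠ 1 := by
      intro h1
      apply hxD
      have : x = z := by
        have := congrArg (fun t => z * t) h1
        simpa [hu] using this
      rw [this]
      exact hz
    have hup : ∃ j : ℕ, orderOf u = p ^ j := by
      obtain ⟨i, hi⟩ := (IsPGroup.iff_orderOf.mp hD) ⟨z, hz⟩
      have hzi : orderOf z⁻¹ = p ^ i := by
        rw [orderOf_inv, ← hi, Subgroup.orderOf_mk]
      have h1 : orderOf u ∣ Nat.lcm (orderOf z⁻¹) (orderOf x) := hzinv.orderOf_mul_dvd_lcm
      rw [hzi, hk] at h1
      have h2 : Nat.lcm (p ^ i) (p ^ k) ∣ p ^ (max i k) := by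
        apply Nat.lcm_dvd
        · exact pow_dvd_pow p (le_max_left i k)
        · exact pow_dvd_pow p (le_max_right i k)
      obtain ⟨j, -, hj⟩ := (Nat.dvd_prime_pow hp).mp (h1.trans h2)
      exact ⟨j, hj⟩
    have h3 := dvd_orderOf_mul_of_commute huy hup hu1 hy (orderOf_pos y)
    have h4 : u * y = z⁻¹ * g := by rw [hu, ← hxy]; group
    rw [h4] at h3
    exact hreg h3

end main

end Cfsg.Agent.Lib.Helper23
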