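import Mathlib
import Cfsg.Agent.Lib.Helper23.HeightZeroH
import Cfsg.Agent.Lib.Helper23.LaradjiC
import Cfsg.Agent.Lib.Lead.CharBurnside
import Cfsg.Agent.Lib.Helper24.IrrFacts

set_option autoImplicit false

namespace Cfsg.Agent.Lib.Helper23

open Cfsg Cfsg.Agent.CharLib Cfsg.Agent.Lib.Helper24 Cfsg.Agent.Lib.Helper6
open scoped ComplexConjugate

universe u

section faithfulDefect

variable {G : Type u} [Group G] [Fintype G] {M : Ideal AlgInt} {p : ℕ} [hpp : Fact p.Prime]

omit [Fintype G] in
/-- Burnside: a faithful irreducible character of a group with trivial centre vanishes at any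
nonidentity element whose class size is coprime to the degree. -/
theorem irr_eq_zero_of_coprime_of_faithful [Finite G] (χ : IrrCharacter G)
    (hZ : Subgroup.center G = ⊥)
    (hfaith : ∀ g : G, (χ : G → ℂ) g = (χ : G → ℂ) 1 → g = 1) (z : G) (hz1 : z ≠ 1)
    (hcop : Nat.Coprime (charDegree (χ : G → ℂ)) (Subgroup.centralizer ({z} : Set G)).index) :
    (χ : G → ℂ) z = 0 := by
  have h1 := irr_apply_one χ
  obtain ⟨χf, n, ρ, hirr, rfl⟩ := χ
  have hirr' : ρ.IsIrreducible := hirr
  have hdeg : charDegree ρ.character = Module.finrank ℂ (Fin n → ℂ) := by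
    apply charDegree_eq_of_apply_one
    rw [Representation.char_one]
  change Nat.Coprime (charDegree ρ.character) _ at hcop
  rw [hdeg] at hcop
  rcases char_eq_zero_or_norm_eq_of_coprime ρ z hcop with h0 | hnorm
  · exact h0
  · exfalso
    obtain ⟨ω, hω⟩ := exists_scalar_of_norm_char_eq ρ z hnorm
    apply hz1
    have hzc : z ∈ Subgroup.center G := by
      rw [Subgroup.mem_center_iff]
      intro g
      have h2 : ρ (g * z * g⁻¹ * z⁻¹) = 1 := by
        have hz' : ρ z⁻¹ * ρ z = 1 := by rw [← map_mul, inv_mul_cancel, map_one]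
        rw [map_mul, map_mul, map_mul, hω]
        have : ρ z⁻¹ * (ω • (LinearMap.id : (Fin n → ℂ) →ₗ[ℂ] (Fin n → ℂ))) = 1 := by
          rw [← hω]; exact hz'
        have h3 : ρ g * (ω • (LinearMap.id : (Fin n → ℂ) →ₗ[ℂ] (Fin n → ℂ))) * ρ g⁻¹ =
            ω • (LinearMap.id : (Fin n → ℂ) →ₗ[ℂ] (Fin n → ℂ)) := by
          rw [mul_smul_comm, smul_mul_assoc]
          have : ρ g * LinearMap.id * ρ g⁻¹ = 1 := by
            rw [show (LinearMap.id : (Fin n → ℂ) →ₗ[ℂ] (Fin n → ℂ)) = 1 from rfl, mul_one,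
              ← map_mul, mul_inv_cancel, map_one]
          rw [this]
          rfl
        rw [h3]
        have hz'' : ρ z * ρ z⁻¹ = 1 := by rw [← map_mul, mul_inv_cancel, map_one]
        rw [← hω]
        exact hz''
      have h4 : ρ.character (g * z * g⁻¹ * z⁻¹) = ρ.character 1 := by
        unfold Representation.character
        rw [h2, ← map_one ρ]
      have h5 := hfaith _ h4
      have : g * z = z * g := by
        calc g * z = (g * z * g⁻¹ * z⁻¹) * (z * g) := by group
          _ = z * g := by rw [h5, one_mul]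
      exact this
    rw [hZ] at hzc
    exact Subgroup.mem_bot.mp hzc

/-- If `χ` vanishes on the nonidentity elements of a `p`-subgroup `H` of order `p^b`, all of
whose nonidentity elements have class size prime to `p`, then `p^b` divides the degree of every
character in the block of `χ`. -/
theorem factorization_le_degree_of_vanishing (hM : IsPModular p M) (H : Subgroup G) (b : ℕ)
    (hH : Nat.card H = p ^ b) (χ ψ : IrrCharacter G)
    (hsame : SameBlock M (χ : G → ℂ) (ψ : G → ℂ))
    (hvan : ∀ z ∈ H, z ≠ 1 → (χ : G → ℂ) z = 0 ∧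
      ¬ p ∣ (Subgroup.centralizer ({z} : Set G)).index) :
    b ≤ (charDegree (ψ : G → ℂ)).factorization p := by
  classical
  have hprime : M.IsPrime := isPrime_of_isPModular hM
  have hp : p.Prime := hpp.out
  obtain ⟨m, hm⟩ := irr_sum_subgroup ψ H
  have hψ1 : (ψ : G → ℂ) 1 = (charDegree (ψ : G → ℂ) : ℂ) := irr_apply_one ψ
  have hψ0 : (ψ : G → ℂ) 1 ≠ 0 := irr_apply_one_ne_zero ψ
  -- each quotient ψ(z)/ψ(1) lies in the local ideal
  have hq : ∀ z : H, z ≠ 1 → MemLocalIdeal M ((ψ : G → ℂ) (z : G) / (ψ : G → ℂ) 1) := by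
    intro z hz
    have hz1 : (z : G) ≠ 1 := fun h => hz (Subtype.ext h)
    obtain ⟨h0, hnd⟩ := hvan z z.2 hz1
    have h1 := hsame (z : G)
    have h2 : centralChar (χ : G → ℂ) (z : G) = 0 := by
      unfold centralChar
      rw [h0, mul_zero, zero_div]
    rw [h2, zero_sub] at h1
    have h3 := memLocalIdeal_neg h1
    rw [neg_neg] at h3
    have hunit := natCast_div_unit hM (k := 1) (c := (Subgroup.centralizer ({(z : G)} : Set G)).index)
      (by rw [Nat.dvd_one]; exact hp.one_lt.ne') hnd
    have h4 := memLocalIdeal_mul_left hunit.1 h3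
    have hidx : ((Subgroup.centralizer ({(z : G)} : Set G)).index : ℂ) ≠ 0 := by
      intro h
      have : (Subgroup.centralizer ({(z : G)} : Set G)).index = 0 := by exact_mod_cast h
      exact hnd (this ▸ dvd_zero p)
    have h5 : ((1 : ℕ) : ℂ) / ((Subgroup.centralizer ({(z : G)} : Set G)).index : ℂ) *
        centralChar (ψ : G → ℂ) (z : G) = (ψ : G → ℂ) (z : G) / (ψ : G → ℂ) 1 := by
      unfold centralChar
      rw [Nat.cast_one]
      field_simp
    rwa [h5] at h4
  -- the unit
  set u : ℂ := ∑ z : H, (ψ : G → ℂ) (z : G) / (ψ : G → ℂ) 1 with hu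
  have hu1 : MemLocalIdeal M (u - 1) := by
    have : u - 1 = ∑ z ∈ (Finset.univ : Finset H).erase 1,
        (ψ : G → ℂ) (z : G) / (ψ : G → ℂ) 1 := by
      rw [hu, ← Finset.add_sum_erase Finset.univ _ (Finset.mem_univ (1 : H))]
      rw [Subgroup.coe_one, div_self hψ0]
      ring
    rw [this]
    apply sum_memLocalIdeal
    intro z hz
    exact hq z (Finset.ne_of_mem_erase hz)
  have huR : MemLocalRing M u := by
    have h1 : u = (u - 1) + 1 := by ring
    rw [h1]
    exact memLocalRing_add (memLocalRing_of_memLocalIdeal hu1) memLocalRing_one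
  have huU : ¬ MemLocalIdeal M u := by
    intro h
    have := memLocalIdeal_sub h hu1
    rw [show u - (u - 1) = 1 by ring] at this
    exact not_memLocalIdeal_one this
  have hkey : (charDegree (ψ : G → ℂ) : ℂ) * u = (m : ℂ) * ((p ^ b : ℕ) : ℂ) := by
    rw [hu, Finset.mul_sum, ← hψ1]
    have : ∑ z : H, (ψ : G → ℂ) 1 * ((ψ : G → ℂ) (z : G) / (ψ : G → ℂ) 1) =
        ∑ z : H, (ψ : G → ℂ) (z : G) := by
      apply Finset.sum_congr rfl
      intro z _
      field_simp
    rw [this, hm, hH]
    ring
  have h := factorization_le_of_mul_eq hM huR huU (memLocalRing_natCast (M := M) m)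
    (irr_charDegree_pos ψ).ne' hkey
  rwa [Nat.Prime.factorization_pow hp, Finsupp.single_eq_same] at h

/-- **S4730**. -/
theorem faithful_ppow_degree_defect (hM : IsPModular p M) (hZ : Subgroup.center G = ⊥)
    (P : Sylow p G) (a b : ℕ) (ha : Nat.card P = p ^ a)
    (hb : Nat.card (Subgroup.center ↥(P : Subgroup G)) = p ^ b) (χ : IrrCharacter G)
    (hfaith : ∀ g : G, (χ : G → ℂ) g = (χ : G → ℂ) 1 → g = 1) (n : ℕ)
    (hdeg : charDegree (χ : G → ℂ) = p ^ n) :
    blockDefect p (blockOf M (χ : G → ℂ)) ≤ a - b := by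
  classical
  have hp : p.Prime := hpp.out
  have hprime : M.IsPrime := isPrime_of_isPModular hM
  set H : Subgroup G := (Subgroup.center ↥(P : Subgroup G)).map (P : Subgroup G).subtype with hHdef
  have hH : Nat.card H = p ^ b := by
    rw [hHdef, Subgroup.card_map_of_injective (Subgroup.subtype_injective _), hb]
  have hvan : ∀ z ∈ H, z ≠ 1 → (χ : G → ℂ) z = 0 ∧
      ¬ p ∣ (Subgroup.centralizer ({z} : Set G)).index := by
    intro z hz hz1
    rw [hHdef, Subgroup.mem_map] at hz
    obtain ⟨y, hy, rfl⟩ := hz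
    have hle : (P : Subgroup G) ≤ Subgroup.centralizer ({((P : Subgroup G).subtype y)} : Set G) := by
      intro x hx
      rw [Subgroup.mem_centralizer_singleton_iff]
      have := (Subgroup.mem_center_iff.mp hy) ⟨x, hx⟩
      have h2 := congrArg (fun w : (P : Subgroup G) => (w : G)) this
      simp only [Subgroup.coe_mul] at h2
      exact h2
    have hnd : ¬ p ∣ (Subgroup.centralizer ({((P : Subgroup G).subtype y)} : Set G)).index := by
      intro h
      exact P.not_dvd_index (dvd_trans h (Subgroup.index_dvd_of_le hle))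
    refine ⟨?_, hnd⟩
    apply irr_eq_zero_of_coprime_of_faithful χ hZ hfaith _ hz1
    rw [hdeg]
    exact Nat.Coprime.pow_left n ((Nat.Prime.coprime_iff_not_dvd hp).mpr hnd)
  have ha' : (Nat.card G).factorization p = a := by
    have h1 := P.card_eq_multiplicity
    rw [ha] at h1
    exact (Nat.pow_right_injective hp.two_le h1).symm
  have hne : (blockOf M (χ : G → ℂ)).Nonempty := ⟨χ, mem_blockOf_self χ⟩
  obtain ⟨χ₀, hχ₀, hmin⟩ := exists_minVal (p := p) hne
  have h1 := factorization_le_degree_of_vanishing hM H b hH χ χ₀ hχ₀ hvan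
  rw [blockDefect_eq, ha', ← hmin]
  omega

end faithfulDefect

end Cfsg.Agent.Lib.Helper23
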