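/-
helper23: S4404 leaf KLA `normal_five_or_central_three` (planner helper13): in the KL context
(`D ≤ Aut(T)`, `|T| = 16`, `D` of odd order, solvable, generated by roots, irreducible) either `D` has
a normal subgroup of order 5 or a central fixed-point-free element of order 3.
-/
import Mathlib
import Cfsg.Prelude.Def_Transfer
import Cfsg.Prelude.Def_Solvable
import Cfsg.Prelude.Def_Local
import Cfsg.Agent.Lib.Helper13.R3Defs
import Cfsg.Agent.Lib.Helper13.R3KLDefs
import Cfsg.Agent.Lib.Helper1.MinNormal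

set_option autoImplicit false

namespace Cfsg.Agent.Lib.Helper23.R3KLA

open Pointwise Cfsg.Agent.Lib.Helper13.R3

section basic

variable {T : Type*} [CommGroup T]

/-- The fixed points of an automorphism, as a subgroup. -/
def fixS (x : MulAut T) : Subgroup T where
  carrier := {t | x t = t}
  one_mem' := map_one x
  mul_mem' := by
    intro a b ha hb
    show x (a * b) = a * b
    rw [map_mul, ha, hb]
  inv_mem' := by
    intro a ha
    show x a⁻¹ = a⁻¹
    rw [map_inv, ha]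

theorem mem_fixS {x : MulAut T} {t : T} : t ∈ fixS x ↔ x t = t := Iff.rfl

theorem fixS_one : fixS (1 : MulAut T) = ⊤ := by
  ext t
  simp [mem_fixS]

theorem eq_one_of_fixS_eq_top {x : MulAut T} (h : fixS x = ⊤) : x = 1 := by
  ext t
  have : t ∈ fixS x := by rw [h]; trivial
  exact this

/-- commuting automorphisms preserve each other's fixed points -/
theorem fixS_invariant {x y : MulAut T} (hxy : x * y = y * x) {t : T} (ht : t ∈ fixS x) :
    y t ∈ fixS x := by
  rw [mem_fixS] at ht ⊢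
  have h1 : x (y t) = (x * y) t := rfl
  rw [h1, hxy]
  show y (x t) = y t
  rw [ht]

/-- fixed points of a conjugate -/
theorem mem_fixS_conj {d x : MulAut T} {t : T} : t ∈ fixS (d * x * d⁻¹) ↔ d⁻¹ t ∈ fixS x := by
  rw [mem_fixS, mem_fixS]
  constructor
  · intro h
    have h1 : d⁻¹ ((d * x * d⁻¹) t) = d⁻¹ t := by rw [h]
    have h2 : d⁻¹ ((d * x * d⁻¹) t) = x (d⁻¹ t) := by
      show d⁻¹ (d (x (d⁻¹ t))) = x (d⁻¹ t)
      exact (MulAut.inv_apply_self _ _ _)
    rw [← h2, h1]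
  · intro h
    show d (x (d⁻¹ t)) = t
    rw [h]
    exact MulAut.apply_inv_self _ _ _

theorem pow_apply_of_fixed {x : MulAut T} {t : T} (ht : x t = t) (k : ℕ) : (x ^ k) t = t := by
  induction k with
  | zero => simp
  | succ k ih =>
    rw [pow_succ]
    show (x ^ k) (x t) = t
    rw [ht, ih]

end basic

section count

variable {T : Type*} [CommGroup T] [Finite T]

theorem zpow_apply_of_fixed {x : MulAut T} {t : T} (ht : x t = t) (k : ℤ) : (x ^ k) t = t := by
  have h1 : x ∈ MulAction.stabilizer (MulAut T) t := by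
    rw [MulAction.mem_stabilizer_iff, MulAut.smul_def, ht]
  have h2 := Subgroup.zpow_mem _ h1 k
  rw [MulAction.mem_stabilizer_iff, MulAut.smul_def] at h2
  exact h2

theorem card_fix_modEq (r : ℕ) [hr : Fact r.Prime] (x : MulAut T) (hx : x ^ r = 1) :
    Nat.card T ≡ Nat.card (fixS x) [MOD r] := by
  have hG : IsPGroup r (Subgroup.zpowers x) := by
    rintro ⟨g, hg⟩
    refine ⟨1, ?_⟩
    obtain ⟨k, rfl⟩ := Subgroup.mem_zpowers_iff.mp hg
    apply Subtype.ext
    show (x ^ k) ^ r ^ 1 = 1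
    rw [pow_one, ← zpow_natCast, ← zpow_mul, mul_comm, zpow_mul, zpow_natCast, hx, one_zpow]
  have h := hG.card_modEq_card_fixedPoints T
  have e : Nat.card (MulAction.fixedPoints (Subgroup.zpowers x) T) = Nat.card (fixS x) := by
    apply Nat.card_congr
    apply Equiv.subtypeEquivRight
    intro t
    rw [MulAction.mem_fixedPoints, mem_fixS]
    constructor
    · intro h
      exact h ⟨x, Subgroup.mem_zpowers x⟩
    · rintro h ⟨g, hg⟩
      obtain ⟨k, rfl⟩ := Subgroup.mem_zpowers_iff.mp hg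
      exact zpow_apply_of_fixed h k
  rwa [e] at h

theorem card_modEq_one_of_group (r : ℕ) [hr : Fact r.Prime] (A : Subgroup (MulAut T))
    (hexp : ∀ a ∈ A, a ^ r = 1) (hfix : ∀ t : T, (∀ a ∈ A, a t = t) → t = 1) :
    Nat.card T ≡ 1 [MOD r] := by
  have hG : IsPGroup r A := by
    rintro ⟨g, hg⟩
    refine ⟨1, ?_⟩
    apply Subtype.ext
    show g ^ r ^ 1 = 1
    rw [pow_one, hexp g hg]
  have h := hG.card_modEq_card_fixedPoints T
  have e : Nat.card (MulAction.fixedPoints A T) = 1 := by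
    rw [Nat.card_eq_one_iff_unique]
    refine ⟨⟨?_⟩, ⟨⟨1, ?_⟩⟩⟩
    · rintro ⟨t, ht⟩ ⟨t', ht'⟩
      apply Subtype.ext
      show t = t'
      rw [MulAction.mem_fixedPoints] at ht ht'
      rw [hfix t (fun a ha => ht ⟨a, ha⟩), hfix t' (fun a ha => ht' ⟨a, ha⟩)]
    · rw [MulAction.mem_fixedPoints]
      rintro ⟨a, ha⟩
      exact map_one a
  rwa [e] at h

end count

section trick

variable {T : Type*} [CommGroup T]

theorem nine (t x1 x2 y1 y2 z1 z2 w1 w2 : T) (e1 : t * x1 * x2 = 1) (e2 : y1 * z1 * w1 = 1)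
    (e3 : y2 * w2 * z2 = 1) (e4 : t * y1 * y2 = 1) (e5 : t * z1 * z2 = 1) (e6 : t * w1 * w2 = 1) :
    t * t * t = 1 := by
  have h : (t * x1 * x2) * (t * y1 * y2) * (t * z1 * z2) * (t * w1 * w2) =
      (t * t * t) * ((t * x1 * x2) * (y1 * z1 * w1) * (y2 * w2 * z2)) := by ac_rfl
  rw [e1, e2, e3, e4, e5, e6] at h
  simpa using h.symm

/-- a fixed-point-free automorphism of order dividing 3 has trivial norm -/
theorem norm_eq_one {c : MulAut T} (hc3 : c ^ 3 = 1) (hfix : fixS c = ⊥) (t : T) :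
    t * c t * c (c t) = 1 := by
  have h3 : c (c (c t)) = t := by
    have : (c ^ 3) t = t := by rw [hc3]; rfl
    exact this
  have hmem : t * c t * c (c t) ∈ fixS c := by
    rw [mem_fixS, map_mul, map_mul, h3]
    ac_rfl
  rw [hfix, Subgroup.mem_bot] at hmem
  exact hmem

theorem prod_trick (hT2 : ∀ t : T, t ^ 2 = 1) (a b : MulAut T) (hab : a * b = b * a)
    (ha3 : a ^ 3 = 1) (hb3 : b ^ 3 = 1) (h1 : fixS a = ⊥) (h2 : fixS b = ⊥)
    (h3 : fixS (a * b) = ⊥) (h4 : fixS (a * a * b) = ⊥) (t : T) : t = 1 := by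
  have hcomm : ∀ s : T, b (a s) = a (b s) := by
    intro s
    have : (b * a) s = (a * b) s := by rw [hab]
    exact this
  have haaa : ∀ s : T, a (a (a s)) = s := by
    intro s
    have : (a ^ 3) s = s := by rw [ha3]; rfl
    exact this
  have hC : Commute a b := hab
  have hab3 : (a * b) ^ 3 = 1 := by rw [hC.mul_pow, ha3, hb3, one_mul]
  have haab3 : (a * a * b) ^ 3 = 1 := by
    have hC2 : Commute (a * a) b := hC.mul_left hC
    have haa : (a * a) ^ 3 = 1 := by
      have hCa : Commute a a := Commute.refl a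
      rw [hCa.mul_pow, ha3, one_mul]
    rw [hC2.mul_pow, haa, hb3, one_mul]
  have e1 := norm_eq_one ha3 h1 t
  have e2 := norm_eq_one ha3 h1 (b t)
  have e3 := norm_eq_one ha3 h1 (b (b t))
  have e4 := norm_eq_one hb3 h2 t
  have e5 := norm_eq_one hab3 h3 t
  have e6 := norm_eq_one haab3 h4 t
  have e5' : t * a (b t) * a (a (b (b t))) = 1 := by
    have hx : (a * b) ((a * b) t) = a (a (b (b t))) := by
      show a (b (a (b t))) = a (a (b (b t)))
      rw [hcomm]
    have hy : (a * b) t = a (b t) := rfl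
    rw [hx, hy] at e5
    exact e5
  have e6' : t * a (a (b t)) * a (b (b t)) = 1 := by
    have hy : (a * a * b) t = a (a (b t)) := rfl
    have hx : (a * a * b) ((a * a * b) t) = a (b (b t)) := by
      show a (a (b (a (a (b t))))) = a (b (b t))
      rw [hcomm, hcomm (b t), haaa]
    rw [hx, hy] at e6
    exact e6
  have h9 := nine t (a t) (a (a t)) (b t) (b (b t)) (a (b t)) (a (a (b (b t)))) (a (a (b t)))
    (a (b (b t))) e1 e2 e3 e4 e5' e6'
  have : t * t * t = t ^ 2 * t := by rw [pow_two]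
  rw [this, hT2, one_mul] at h9
  exact h9

end trick

section core

variable {T : Type*} [CommGroup T] [Finite T]

/-- the data used by the core argument -/
structure Ctx (D A : Subgroup (MulAut T)) (r : ℕ) : Prop where
  hT2 : ∀ t : T, t ^ 2 = 1
  hT : Nat.card T = 16
  hodd : Odd (Nat.card D)
  hirr : ∀ U : Subgroup T, (∀ d ∈ D, ∀ u ∈ U, d u ∈ U) → U = ⊥ ∨ U = ⊤
  hAD : A ≤ D
  hnorm : ∀ d ∈ D, ∀ a ∈ A, d * a * d⁻¹ ∈ A
  hA1 : A ≠ ⊥
  hcomm : ∀ a ∈ A, ∀ b ∈ A, a * b = b * a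
  hr : r.Prime
  hexp : ∀ a ∈ A, a ^ r = 1

variable {D A : Subgroup (MulAut T)} {r : ℕ}

/-- `C_T(A) = 1` -/
theorem Ctx.fix_trivial (c : Ctx D A r) (t : T) (ht : ∀ a ∈ A, a t = t) : t = 1 := by
  let U : Subgroup T :=
    { carrier := {t | ∀ a ∈ A, a t = t}
      one_mem' := fun a _ => map_one a
      mul_mem' := by
        intro x y hx hy a ha
        rw [map_mul, hx a ha, hy a ha]
      inv_mem' := by
        intro x hx a ha
        rw [map_inv, hx a ha] }
  have hU : ∀ d ∈ D, ∀ u ∈ U, d u ∈ U := by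
    intro d hd u hu a ha
    have h1 : d⁻¹ * a * d⁻¹⁻¹ ∈ A := c.hnorm d⁻¹ (D.inv_mem hd) a ha
    have h2 := hu _ h1
    have h3 : (d⁻¹ * a * d⁻¹⁻¹) u = d⁻¹ (a (d u)) := by
      rw [inv_inv]; rfl
    rw [h3] at h2
    have h4 : d (d⁻¹ (a (d u))) = d u := by rw [h2]
    rw [MulAut.apply_inv_self] at h4
    exact h4
  rcases c.hirr U hU with h | h
  · have : t ∈ U := ht
    rw [h, Subgroup.mem_bot] at this
    exact this
  · exfalso
    apply c.hA1
    rw [Subgroup.eq_bot_iff_forall]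
    intro a ha
    ext s
    have : s ∈ U := by rw [h]; trivial
    exact this a ha

theorem Ctx.r_cases (c : Ctx D A r) : r = 3 ∨ r = 5 := by
  haveI : Fact r.Prime := ⟨c.hr⟩
  have h := card_modEq_one_of_group r A c.hexp c.fix_trivial
  rw [c.hT] at h
  have h2 : r ∣ 16 - 1 := (Nat.modEq_iff_dvd' (by norm_num)).mp h.symm
  have h3 : r ∣ 3 * 5 := by norm_num at h2 ⊢; exact h2
  rcases (Nat.Prime.dvd_mul c.hr).mp h3 with h | h
  · left; exact (Nat.prime_dvd_prime_iff_eq c.hr (by norm_num)).mp h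
  · right; exact (Nat.prime_dvd_prime_iff_eq c.hr (by norm_num)).mp h

/-- elements of the odd-order group `D` are powers of their squares -/
theorem Ctx.odd_trick (c : Ctx D A r) (d : MulAut T) (hd : d ∈ D) : ∃ k : ℕ, (d ^ 2) ^ k = d := by
  have h1 : orderOf d ∣ Nat.card D := Subgroup.orderOf_dvd_natCard D hd
  have h2 : Odd (orderOf d) := Odd.of_dvd_nat c.hodd h1
  obtain ⟨m, hm⟩ := h2
  refine ⟨m + 1, ?_⟩
  rw [← pow_mul]
  have : 2 * (m + 1) = orderOf d + 1 := by omega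
  rw [this, pow_succ, pow_orderOf_eq_one, one_mul]

theorem Ctx.card_fix_dvd (c : Ctx D A r) (x : MulAut T) : Nat.card (fixS x) ∣ 16 := by
  rw [← c.hT]
  exact Subgroup.card_subgroup_dvd_card _

theorem Ctx.exists_ne_one (c : Ctx D A r) : ∃ t₀ : T, t₀ ≠ 1 := by
  by_contra h
  push Not at h
  have h1 : Nat.card T = 1 := by
    rw [Nat.card_eq_one_iff_unique]
    exact ⟨⟨fun a b => by rw [h a, h b]⟩, ⟨1⟩⟩
  rw [c.hT] at h1
  norm_num at h1

theorem Ctx.isPGroup (c : Ctx D A r) : IsPGroup r A := by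
  rintro ⟨g, hg⟩
  refine ⟨1, ?_⟩
  apply Subtype.ext
  show g ^ r ^ 1 = 1
  rw [pow_one, c.hexp g hg]

theorem Ctx.exists_mem_ne_one (c : Ctx D A r) : ∃ a ∈ A, a ≠ 1 := by
  by_contra h
  push Not at h
  apply c.hA1
  rw [Subgroup.eq_bot_iff_forall]
  exact h

theorem Ctx.fix_bot_five (c : Ctx D A 5) (x : MulAut T) (hx : x ∈ A) (hx1 : x ≠ 1) :
    fixS x = ⊥ := by
  haveI : Fact (5 : ℕ).Prime := ⟨by norm_num⟩
  have h1 := card_fix_modEq 5 x (c.hexp x hx)
  rw [c.hT] at h1
  have h2 := c.card_fix_dvd x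
  have h3 : Nat.card (fixS x) ≤ 16 := Nat.le_of_dvd (by norm_num) h2
  have h4 : Nat.card (fixS x) = 1 ∨ Nat.card (fixS x) = 16 := by
    generalize Nat.card (fixS x) = n at *
    unfold Nat.ModEq at h1
    interval_cases n <;> omega
  rcases h4 with h | h
  · exact Subgroup.card_eq_one.mp h
  · exfalso
    apply hx1
    apply eq_one_of_fixS_eq_top
    rw [← Subgroup.card_eq_iff_eq_top, h, c.hT]

theorem Ctx.card_five (c : Ctx D A 5) : Nat.card A = 5 := by
  haveI : Fact (5 : ℕ).Prime := ⟨by norm_num⟩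
  obtain ⟨t₀, ht₀⟩ := c.exists_ne_one
  have hinj : Function.Injective (fun a : A => (a : MulAut T) t₀) := by
    intro a b hab
    by_contra hne
    have h1 : ((b : MulAut T)⁻¹ * (a : MulAut T)) ≠ 1 := by
      intro h
      apply hne
      apply Subtype.ext
      exact (inv_mul_eq_one.mp h).symm
    have h2 := c.fix_bot_five _ (A.mul_mem (A.inv_mem b.2) a.2) h1
    have h3 : t₀ ∈ fixS ((b : MulAut T)⁻¹ * (a : MulAut T)) := by
      rw [mem_fixS]
      show (b : MulAut T)⁻¹ ((a : MulAut T) t₀) = t₀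
      have : (a : MulAut T) t₀ = (b : MulAut T) t₀ := hab
      rw [this]
      exact MulAut.inv_apply_self _ _ _
    rw [h2, Subgroup.mem_bot] at h3
    exact ht₀ h3
  have hle : Nat.card A ≤ 16 := by
    rw [← c.hT]
    exact Nat.card_le_card_of_injective _ hinj
  obtain ⟨k, hk⟩ := IsPGroup.iff_card.mp c.isPGroup
  have hk0 : k ≠ 0 := by
    rintro rfl
    rw [pow_zero] at hk
    exact c.hA1 (Subgroup.card_eq_one.mp hk)
  have hk1 : k < 2 := by
    by_contra h
    push Not at h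
    have : 5 ^ 2 ≤ 5 ^ k := Nat.pow_le_pow_right (by norm_num) h
    rw [← hk] at this
    omega
  have : k = 1 := by omega
  rw [hk, this, pow_one]

/-- for `x ∈ A \ 1` (`r = 3`): `C_T(x)` has 1 or 4 elements -/
theorem Ctx.card_fix_three (c : Ctx D A 3) (x : MulAut T) (hx : x ∈ A) (hx1 : x ≠ 1) :
    fixS x = ⊥ ∨ Nat.card (fixS x) = 4 := by
  haveI : Fact (3 : ℕ).Prime := ⟨by norm_num⟩
  have h1 := card_fix_modEq 3 x (c.hexp x hx)
  rw [c.hT] at h1
  have h2 := c.card_fix_dvd x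
  have h3 : Nat.card (fixS x) ≤ 16 := Nat.le_of_dvd (by norm_num) h2
  have h4 : Nat.card (fixS x) = 1 ∨ Nat.card (fixS x) = 4 ∨ Nat.card (fixS x) = 16 := by
    generalize Nat.card (fixS x) = n at *
    unfold Nat.ModEq at h1
    interval_cases n <;> omega
  rcases h4 with h | h | h
  · left
    exact Subgroup.card_eq_one.mp h
  · right
    exact h
  · exfalso
    apply hx1
    apply eq_one_of_fixS_eq_top
    rw [← Subgroup.card_eq_iff_eq_top, h, c.hT]

/-- two fixed planes of elements of `A` that meet nontrivially coincide -/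
theorem Ctx.fix_eq_of_meet (c : Ctx D A 3) {x x' : MulAut T} (hx : x ∈ A) (hx' : x' ∈ A)
    (h4 : Nat.card (fixS x) = 4) (h4' : Nat.card (fixS x') = 4) (z : T) (hz : z ∈ fixS x)
    (hz' : z ∈ fixS x') (hz1 : z ≠ 1) : fixS x = fixS x' := by
  have hzI : z ∈ fixS x ⊓ fixS x' := ⟨hz, hz'⟩
  have hy : ∃ y ∈ A, y z ≠ z := by
    by_contra h
    push Not at h
    exact hz1 (c.fix_trivial z h)
  obtain ⟨y, hyA, hyz⟩ := hy
  have hyzI : y z ∈ fixS x ⊓ fixS x' :=
    ⟨fixS_invariant (c.hcomm x hx y hyA) hz, fixS_invariant (c.hcomm x' hx' y hyA) hz'⟩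
  have hyz1 : y z ≠ 1 := by
    intro h
    apply hz1
    have : y z = y 1 := by rw [h, map_one]
    exact y.injective this
  have hd : Nat.card ↥(fixS x ⊓ fixS x') ∣ 4 := by
    rw [← h4]
    exact Subgroup.card_dvd_of_le inf_le_left
  have hle : Nat.card ↥(fixS x ⊓ fixS x') ≤ 4 := Nat.le_of_dvd (by norm_num) hd
  have hc1 : Nat.card ↥(fixS x ⊓ fixS x') ≠ 1 := by
    intro h
    have h' := Subgroup.card_eq_one.mp h
    rw [h', Subgroup.mem_bot] at hzI
    exact hz1 hzI
  have hc2 : Nat.card ↥(fixS x ⊓ fixS x') ≠ 2 := by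
    intro h
    obtain ⟨w, hw, huniq⟩ := (Nat.card_eq_two_iff' (1 : ↥(fixS x ⊓ fixS x'))).mp h
    have e1 := huniq ⟨z, hzI⟩ (by
      intro h
      exact hz1 (congrArg Subtype.val h))
    have e2 := huniq ⟨y z, hyzI⟩ (by
      intro h
      exact hyz1 (congrArg Subtype.val h))
    have e3 : (⟨z, hzI⟩ : ↥(fixS x ⊓ fixS x')) = ⟨y z, hyzI⟩ := e1.trans e2.symm
    exact hyz (congrArg Subtype.val e3).symm
  have hc4 : Nat.card ↥(fixS x ⊓ fixS x') = 4 := by
    generalize Nat.card ↥(fixS x ⊓ fixS x') = n at *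
    interval_cases n <;> omega
  have e1 : fixS x ⊓ fixS x' = fixS x :=
    Subgroup.eq_of_le_of_card_ge inf_le_left (by rw [h4, hc4])
  have e2 : fixS x ⊓ fixS x' = fixS x' :=
    Subgroup.eq_of_le_of_card_ge inf_le_right (by rw [h4', hc4])
  rw [← e1]
  exact e2

/-- a third fixed plane is one of two given distinct ones -/
theorem Ctx.fix_trichotomy (c : Ctx D A 3) {x₁ x₂ x₃ : MulAut T} (h₁ : x₁ ∈ A) (h₂ : x₂ ∈ A)
    (h₃ : x₃ ∈ A) (c₁ : Nat.card (fixS x₁) = 4) (c₂ : Nat.card (fixS x₂) = 4)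
    (c₃ : Nat.card (fixS x₃) = 4) (hne : fixS x₁ ≠ fixS x₂) :
    fixS x₃ = fixS x₁ ∨ fixS x₃ = fixS x₂ := by
  have hinj : Function.Injective
      (fun q : fixS x₁ × fixS x₂ => ((q.1 : T) * (q.2 : T))) := by
    rintro ⟨⟨u, hu⟩, ⟨v, hv⟩⟩ ⟨⟨u', hu'⟩, ⟨v', hv'⟩⟩ h
    have h' : u * v = u' * v' := h
    have hz : u'⁻¹ * u = v' * v⁻¹ := by
      calc u'⁻¹ * u = u'⁻¹ * (u * v) * v⁻¹ := by group
        _ = u'⁻¹ * (u' * v') * v⁻¹ := by rw [h']
        _ = v' * v⁻¹ := by group
    by_cases h1 : u'⁻¹ * u = 1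
    · have hu_eq : u = u' := (inv_mul_eq_one.mp h1).symm
      have hv_eq : v = v' := by
        rw [hu_eq] at h'
        exact mul_left_cancel h'
      subst hu_eq
      subst hv_eq
      rfl
    · exfalso
      apply hne
      exact c.fix_eq_of_meet h₁ h₂ c₁ c₂ (u'⁻¹ * u) (mul_mem (inv_mem hu') hu)
        (by rw [hz]; exact mul_mem hv' (inv_mem hv)) h1
  have hcard : Nat.card T ≤ Nat.card (fixS x₁ × fixS x₂) := by
    rw [Nat.card_prod, c₁, c₂, c.hT]
  have hbij := hinj.bijective_of_nat_card_le hcard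
  have hW3 : fixS x₃ ≠ ⊥ := by
    intro h
    rw [h] at c₃
    simp at c₃
  obtain ⟨w, hw, hw1⟩ := (Subgroup.bot_or_exists_ne_one (fixS x₃)).resolve_left hW3
  obtain ⟨⟨⟨u, hu⟩, ⟨v, hv⟩⟩, huv⟩ := hbij.2 w
  have huv' : u * v = w := huv
  have hu3 : x₃ u ∈ fixS x₁ := fixS_invariant (c.hcomm x₁ h₁ x₃ h₃) hu
  have hv3 : x₃ v ∈ fixS x₂ := fixS_invariant (c.hcomm x₂ h₂ x₃ h₃) hv
  have hfix : x₃ u * x₃ v = u * v := by
    rw [← map_mul, huv']
    exact hw
  have hpair := hinj (a₁ := (⟨x₃ u, hu3⟩, ⟨x₃ v, hv3⟩)) (a₂ := (⟨u, hu⟩, ⟨v, hv⟩)) hfix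
  have hxu : x₃ u = u := congrArg (fun q : fixS x₁ × fixS x₂ => (q.1 : T)) hpair
  have hxv : x₃ v = v := congrArg (fun q : fixS x₁ × fixS x₂ => (q.2 : T)) hpair
  by_cases hu1 : u = 1
  · have hv1 : v ≠ 1 := by
      intro hv1
      apply hw1
      rw [← huv', hu1, hv1, one_mul]
    right
    exact (c.fix_eq_of_meet h₂ h₃ c₂ c₃ v hv hxv hv1).symm
  · left
    exact (c.fix_eq_of_meet h₁ h₃ c₁ c₃ u hu hxu hu1).symm

theorem conj_ne_one {d a : MulAut T} (ha1 : a ≠ 1) : d * a * d⁻¹ ≠ 1 := by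
  intro h
  apply ha1
  have : a = d⁻¹ * (d * a * d⁻¹) * d := by group
  rw [this, h]
  group

/-- (`r = 3`) every nonidentity element of `A` is fixed-point-free -/
theorem Ctx.no_fixed_three (c : Ctx D A 3) (a : MulAut T) (ha : a ∈ A) (ha1 : a ≠ 1) :
    fixS a = ⊥ := by
  by_contra hW
  have hc4 : Nat.card (fixS a) = 4 := (c.card_fix_three a ha ha1).resolve_left hW
  have hWtop : fixS a ≠ ⊤ := fun h => ha1 (eq_one_of_fixS_eq_top h)
  have hninv : ¬ ∀ d ∈ D, ∀ u ∈ fixS a, d u ∈ fixS a := by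
    intro h
    rcases c.hirr _ h with h' | h'
    · exact hW h'
    · exact hWtop h'
  push Not at hninv
  obtain ⟨d, hd, u, hu, hdu⟩ := hninv
  have hu1 : u ≠ 1 := by
    rintro rfl
    apply hdu
    rw [map_one]
    exact one_mem _
  have ha'A : d * a * d⁻¹ ∈ A := c.hnorm d hd a ha
  have ha''A : d * (d * a * d⁻¹) * d⁻¹ ∈ A := c.hnorm d hd _ ha'A
  have hdu' : d u ∈ fixS (d * a * d⁻¹) := by
    rw [mem_fixS_conj, MulAut.inv_apply_self]
    exact hu
  have hddu'' : d (d u) ∈ fixS (d * (d * a * d⁻¹) * d⁻¹) := by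
    rw [mem_fixS_conj, MulAut.inv_apply_self]
    exact hdu'
  have hdu1 : d u ≠ 1 := by
    intro h
    apply hu1
    have : d u = d 1 := by rw [h, map_one]
    exact d.injective this
  have hddu1 : d (d u) ≠ 1 := by
    intro h
    apply hdu1
    have : d (d u) = d 1 := by rw [h, map_one]
    exact d.injective this
  have ha'1 : d * a * d⁻¹ ≠ 1 := conj_ne_one ha1
  have ha''1 : d * (d * a * d⁻¹) * d⁻¹ ≠ 1 := conj_ne_one ha'1
  have c' : Nat.card (fixS (d * a * d⁻¹)) = 4 :=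
    (c.card_fix_three _ ha'A ha'1).resolve_left (fun h => hdu1 (by
      rw [h, Subgroup.mem_bot] at hdu'
      exact hdu'))
  have c'' : Nat.card (fixS (d * (d * a * d⁻¹) * d⁻¹)) = 4 :=
    (c.card_fix_three _ ha''A ha''1).resolve_left (fun h => hddu1 (by
      rw [h, Subgroup.mem_bot] at hddu''
      exact hddu''))
  have hne : fixS a ≠ fixS (d * a * d⁻¹) := by
    intro h
    apply hdu
    rw [h]
    exact hdu'
  rcases c.fix_trichotomy ha ha'A ha''A hc4 c' c'' hne with h | h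
  · have hsq : ∀ s ∈ fixS a, (d ^ 2) s ∈ fixS a := by
      intro s hs
      rw [← h, mem_fixS_conj]
      have e1 : d⁻¹ ((d ^ 2) s) = d s := by
        rw [pow_two]
        show d⁻¹ (d (d s)) = d s
        exact MulAut.inv_apply_self _ _ _
      rw [e1, mem_fixS_conj, MulAut.inv_apply_self]
      exact hs
    have hpow : ∀ k : ℕ, ∀ s ∈ fixS a, ((d ^ 2) ^ k) s ∈ fixS a := by
      intro k
      induction k with
      | zero =>
        intro s hs
        simpa using hs
      | succ k ih =>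
        intro s hs
        rw [pow_succ]
        exact ih _ (hsq s hs)
    obtain ⟨k, hk⟩ := c.odd_trick d hd
    apply hdu
    have := hpow k u hu
    rwa [hk] at this
  · apply hdu
    have h1 : d (d u) ∈ fixS (d * a * d⁻¹) := by
      rw [← h]
      exact hddu''
    rw [mem_fixS_conj, MulAut.inv_apply_self] at h1
    exact h1

theorem Ctx.three_elements (c : Ctx D A 3) (a : MulAut T) (ha : a ∈ A) (ha1 : a ≠ 1)
    (b : MulAut T) (hb : b ∈ A) : b = 1 ∨ b = a ∨ b = a * a := by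
  by_contra hcon
  push Not at hcon
  obtain ⟨hb1, hba, hbaa⟩ := hcon
  have ha3 : a ^ 3 = 1 := c.hexp a ha
  have hb3 : b ^ 3 = 1 := c.hexp b hb
  have hab : a * b = b * a := c.hcomm a ha b hb
  have haaa : a * (a * a) = 1 := by
    rw [← ha3, pow_succ, pow_two, mul_assoc]
  have h1 := c.no_fixed_three a ha ha1
  have h2 := c.no_fixed_three b hb hb1
  have habA : a * b ∈ A := A.mul_mem ha hb
  have hab1 : a * b ≠ 1 := by
    intro h
    apply hbaa
    have e1 : b = a⁻¹ := eq_inv_of_mul_eq_one_right h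
    have e2 : a⁻¹ = a * a := inv_eq_of_mul_eq_one_right haaa
    rw [e1, e2]
  have haab1 : a * a * b ≠ 1 := by
    intro h
    apply hba
    have e1 : b = (a * a)⁻¹ := eq_inv_of_mul_eq_one_right h
    have e2 : (a * a)⁻¹ = a := by
      apply inv_eq_of_mul_eq_one_right
      rw [← haaa]
      group
    rw [e1, e2]
  have h3 := c.no_fixed_three (a * b) habA hab1
  have h4 := c.no_fixed_three (a * a * b) (A.mul_mem (A.mul_mem ha ha) hb) haab1
  obtain ⟨t₀, ht₀⟩ := c.exists_ne_one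
  exact ht₀ (prod_trick c.hT2 a b hab ha3 hb3 h1 h2 h3 h4 t₀)

theorem Ctx.central_three (c : Ctx D A 3) :
    ∃ α : MulAut T, α ∈ D ∧ orderOf α = 3 ∧ (∀ d ∈ D, d * α = α * d) ∧
      ∀ t : T, α t = t → t = 1 := by
  have : Fact (3 : ℕ).Prime := ⟨by norm_num⟩
  obtain ⟨a, ha, ha1⟩ := c.exists_mem_ne_one
  have ha3 : a ^ 3 = 1 := c.hexp a ha
  refine ⟨a, c.hAD ha, orderOf_eq_prime ha3 ha1, ?_, ?_⟩
  · intro d hd
    have hcA := c.hnorm d hd a ha
    have hc1 : d * a * d⁻¹ ≠ 1 := conj_ne_one ha1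
    rcases c.three_elements a ha ha1 _ hcA with h | h | h
    · exact absurd h hc1
    · calc d * a = (d * a * d⁻¹) * d := by group
        _ = a * d := by rw [h]
    · exfalso
      have e1 : d * (a * a) * d⁻¹ = a := by
        calc d * (a * a) * d⁻¹ = (d * a * d⁻¹) * (d * a * d⁻¹) := by group
          _ = (a * a) * (a * a) := by rw [h]
          _ = a ^ 3 * a := by rw [pow_succ, pow_two]; simp only [mul_assoc]
          _ = a := by rw [ha3, one_mul]
      have h2 : d ^ 2 * a = a * d ^ 2 := by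
        calc d ^ 2 * a = d * (d * a * d⁻¹) * d := by rw [pow_two]; group
          _ = d * (a * a) * d := by rw [h]
          _ = (d * (a * a) * d⁻¹) * d ^ 2 := by rw [pow_two]; group
          _ = a * d ^ 2 := by rw [e1]
      obtain ⟨k, hk⟩ := c.odd_trick d hd
      have h3 : Commute (d ^ 2) a := h2
      have h4 : Commute ((d ^ 2) ^ k) a := h3.pow_left k
      rw [hk] at h4
      have h5 : d * a * d⁻¹ = a := by
        rw [h4.eq]
        group
      rw [h5] at h
      apply ha1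
      have h6 : a * 1 = a * a := by rw [mul_one]; exact h
      exact (mul_left_cancel h6).symm
  · intro t ht
    have h1 := c.no_fixed_three a ha ha1
    have hm : t ∈ fixS a := ht
    rw [h1, Subgroup.mem_bot] at hm
    exact hm

end core

section final

open Cfsg.Agent.Lib.Helper13.R3Leaves

variable {T : Type*} [CommGroup T] [Finite T]

theorem cSub_one_eq_bot : cSub T (1 : MulAut T) = ⊥ := by
  rw [Subgroup.eq_bot_iff_forall]
  intro v hv
  obtain ⟨m, hm⟩ := mem_cSub.mp hv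
  rw [one_smul, div_self'] at hm
  exact hm.symm

/-- KLA `normal_five_or_central_three`. -/
theorem normal_five_or_central_three {D : Subgroup (MulAut T)} {S : Set (MulAut T)}
    (hc : KLCtx D S) :
    (∃ B : Subgroup (MulAut T), B ≤ D ∧ (∀ d ∈ D, ∀ b ∈ B, d * b * d⁻¹ ∈ B) ∧ Nat.card B = 5) ∨
    (∃ α : MulAut T, α ∈ D ∧ orderOf α = 3 ∧ (∀ d ∈ D, d * α = α * d) ∧ ∀ t : T, α t = t → t = 1) := by
  classical
  obtain ⟨y, hy⟩ := hc.hne
  have hyD : y ∈ D := by
    rw [← hc.hS]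
    exact Subgroup.subset_closure hy
  have hy1 : y ≠ 1 := by
    rintro rfl
    have h4 := (hc.hroot 1 hy).2
    rw [cSub_one_eq_bot] at h4
    simp at h4
  haveI : Group.IsSolvable ↥D := hc.hsol
  haveI : Nontrivial ↥D := ⟨⟨⟨y, hyD⟩, 1, fun h => hy1 (congrArg Subtype.val h)⟩⟩
  obtain ⟨N, hN⟩ := Cfsg.Agent.Lib.Helper1.exists_isMinNormal (G := ↥D)
  have hcommN : IsMulCommutative N := hN.isMulCommutative
  obtain ⟨r, hr, hexpN⟩ := hN.exists_prime_pow_eq_one
  have ctx : Ctx D (N.map D.subtype) r :=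
    { hT2 := hc.hT2
      hT := hc.hT
      hodd := hc.hodd
      hirr := hc.hirr
      hAD := Subgroup.map_subtype_le N
      hnorm := by
        rintro d hd _ ⟨n, hn, rfl⟩
        refine ⟨⟨d, hd⟩ * n * ⟨d, hd⟩⁻¹, hN.1.conj_mem n hn ⟨d, hd⟩, ?_⟩
        rfl
      hA1 := by
        intro h
        rw [Subgroup.map_eq_bot_iff_of_injective _ D.subtype_injective] at h
        exact hN.2.1 h
      hcomm := by
        rintro _ ⟨n, hn, rfl⟩ _ ⟨m, hm, rfl⟩
        have := mul_comm' (⟨n, hn⟩ : N) ⟨m, hm⟩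
        have h2 : n * m = m * n := congrArg Subtype.val this
        exact congrArg Subtype.val h2
      hr := hr
      hexp := by
        rintro _ ⟨n, hn, rfl⟩
        have := hexpN n hn
        exact congrArg Subtype.val this }
  rcases ctx.r_cases with rfl | rfl
  · right
    exact ctx.central_three
  · left
    exact ⟨N.map D.subtype, ctx.hAD, ctx.hnorm, ctx.card_five⟩

end final

end Cfsg.Agent.Lib.Helper23.R3KLA
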