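import Mathlib
import Cfsg.Agent.Lib.Helper16.FusSUM

/-!
# S2282: the bridge between the frozen model `Cfsg.SU n F q` and the antidiagonal model `UJ σ n`
(helper23)

`frozen_of_UJ`: three conjugate regular unipotent generators of `UJ (frobHom hF) n` give the frozen
conclusion of `S2282` for `Cfsg.SU n F q` (transport along helper16's `suIso`, which is conjugation
by the change of basis matrix `Pmat`).
-/

set_option autoImplicit false

namespace Cfsg.Agent.Lib.Helper23.SUBridge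

open Matrix
open Cfsg.Agent.Lib.Helper16.FusSU
open Cfsg.Agent.Lib.Helper5.HermBridge (frobHom)

section conj

variable {K : Type*} [Field K] {n : ℕ}

/-- conjugation commutes with `· - 1` and powers -/
theorem conj_sub_one_pow {P Q M : Matrix (Fin n) (Fin n) K} (hQP : Q * P = 1) (hPQ : P * Q = 1)
    (k : ℕ) : (Q * M * P - 1) ^ k = Q * (M - 1) ^ k * P := by
  have h1 : Q * M * P - 1 = Q * (M - 1) * P := by
    rw [Matrix.mul_sub, Matrix.sub_mul, Matrix.mul_one, hQP]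
  rw [h1]
  induction k with
  | zero => rw [pow_zero, pow_zero, Matrix.mul_one, hQP]
  | succ k ih =>
    rw [pow_succ, ih, pow_succ]
    calc Q * (M - 1) ^ k * P * (Q * (M - 1) * P)
        = Q * (M - 1) ^ k * (P * Q) * (M - 1) * P := by simp only [Matrix.mul_assoc]
      _ = Q * ((M - 1) ^ k * (M - 1)) * P := by
        rw [hPQ, Matrix.mul_one]
        simp only [Matrix.mul_assoc]

theorem isNilpotent_conj {P Q M : Matrix (Fin n) (Fin n) K} (hQP : Q * P = 1) (hPQ : P * Q = 1)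
    (h : IsNilpotent (M - 1)) : IsNilpotent (Q * M * P - 1) := by
  obtain ⟨k, hk⟩ := h
  exact ⟨k, by rw [conj_sub_one_pow hQP hPQ, hk, Matrix.mul_zero, Matrix.zero_mul]⟩

theorem pow_ne_zero_conj {P Q M : Matrix (Fin n) (Fin n) K} (hQP : Q * P = 1) (hPQ : P * Q = 1)
    (k : ℕ) (h : (M - 1) ^ k ≠ 0) : (Q * M * P - 1) ^ k ≠ 0 := by
  intro h0
  apply h
  rw [conj_sub_one_pow hQP hPQ] at h0
  have h1 : P * (Q * (M - 1) ^ k * P) * Q = 0 := by rw [h0, Matrix.mul_zero, Matrix.zero_mul]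
  rw [conj_conj hPQ] at h1
  exact h1

end conj

variable {F : Type*} [Field F] [Fintype F]

/-- **(B1)** the frozen conclusion of `S2282` follows from the same statement in the antidiagonal
model `UJ (frobHom hF) n` -/
theorem frozen_of_UJ (q : ℕ) (hF : Fintype.card F = q ^ 2) (n : ℕ)
    (h : ∃ u g h : ↥(UJ (frobHom hF) n),
      (IsNilpotent (((u : Matrix.SpecialLinearGroup (Fin n) F) : Matrix (Fin n) (Fin n) F) - 1) ∧
        (((u : Matrix.SpecialLinearGroup (Fin n) F) : Matrix (Fin n) (Fin n) F) - 1) ^ (n - 1)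
          ≠ 0) ∧
      Subgroup.closure ({u, g * u * g⁻¹, h * u * h⁻¹} : Set ↥(UJ (frobHom hF) n)) = ⊤) :
    ∃ u g h : ↥(Cfsg.SU n F q), (IsNilpotent (((u : Matrix.SpecialLinearGroup (Fin n) F) : Matrix (Fin n) (Fin n) F) - 1) ∧ (((u : Matrix.SpecialLinearGroup (Fin n) F) : Matrix (Fin n) (Fin n) F) - 1) ^ (n - 1) ≠ 0) ∧
      Subgroup.closure ({u, g * u * g⁻¹, h * u * h⁻¹} : Set ↥(Cfsg.SU n F q)) = ⊤ := by
  obtain ⟨u, g, h, ⟨hnil, hpow⟩, hcl⟩ := h
  obtain ⟨ζ, τ, -, hτ, hζ⟩ := Cfsg.Agent.Lib.Helper18.PSUMod.exists_consts hF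
  have hinv := frob_invol hF
  have hQP : (Qmat (frobHom hF) ζ τ * Pmat (frobHom hF) ζ τ : Matrix (Fin n) (Fin n) F) = 1 :=
    Qmat_mul_Pmat hinv hζ hτ
  have hPQ : (Pmat (frobHom hF) ζ τ * Qmat (frobHom hF) ζ τ : Matrix (Fin n) (Fin n) F) = 1 :=
    Pmat_mul_Qmat hinv hζ hτ
  set e := (suIso hF n hζ hτ).symm with he
  refine ⟨e u, e g, e h, ⟨?_, ?_⟩, ?_⟩
  · rw [he, suIso_symm_coe]
    exact isNilpotent_conj hQP hPQ hnil
  · rw [he, suIso_symm_coe]
    exact pow_ne_zero_conj hQP hPQ _ hpow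
  · have h1 : ({e u, e g * e u * (e g)⁻¹, e h * e u * (e h)⁻¹} : Set ↥(Cfsg.SU n F q)) =
        e.toMonoidHom '' ({u, g * u * g⁻¹, h * u * h⁻¹} : Set ↥(UJ (frobHom hF) n)) := by
      rw [Set.image_insert_eq, Set.image_insert_eq, Set.image_singleton]
      simp only [MulEquiv.coe_toMonoidHom, map_mul, map_inv]
    rw [h1, ← MonoidHom.map_closure, hcl, ← MonoidHom.range_eq_map, MonoidHom.range_eq_top]
    exact e.surjective

end Cfsg.Agent.Lib.Helper23.SUBridge
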