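import Mathlib
import Cfsg.Agent.Lib.Helper23.SUBridge
import Cfsg.Agent.Lib.Helper6.SUApiA
import Cfsg.Agent.Lib.Helper4.SU3End

/-!
# S2282: the bridge, part 2 (helper23)

* `hJ_Pmat`: the change of basis `Pmat` carries the standard hermitian form to the antidiagonal one;
* `Pmat_conj_ut`: `Pmat * unitaryTransvection v c * Qmat = TJm σ (Pmat *ᵥ v) c`;
* **`UJ_eq_of_Rt_all`** (B2): a subgroup `X ≤ UJ (frobHom hF) n` whose root set (helper4's `SU3.Rt`)
  contains every isotropic vector is all of `UJ (frobHom hF) n`;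
* `closure_eq_top_of_Rt_all` (B2'): the same for `Subgroup.closure S`, `S ⊆ UJ`;
* (B3) the dictionary for helper6's coordinate-free API: `av_symm_Qmat`, `hermForm_Qmat`.
-/

set_option autoImplicit false

namespace Cfsg.Agent.Lib.Helper23.SUBridge

open Matrix
open Cfsg.Agent.Lib.Helper16.FusSU
open Cfsg.Agent.Lib.Helper5.HermBridge (frobHom frobQ)
open Cfsg.Agent.Lib.Helper4.SU3 (hJ TJm)

section gen

variable {K : Type*} [Field K] {n : ℕ} (σ : K →+* K)

/-- the twist of `P *ᵥ w` through `Q = st σ P * Jm` -/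
theorem sh_mulVec (P : Matrix (Fin n) (Fin n) K) (w : Fin n → K) :
    sh σ (P *ᵥ w) = (fun k => σ (w k)) ᵥ* (st σ P * Jm K n) := by
  funext j
  rw [sh_apply]
  show σ (∑ k, P j.rev k * w k) = ∑ k, σ (w k) * (st σ P * Jm K n) k j
  rw [map_sum]
  apply Finset.sum_congr rfl
  intro k _
  rw [mul_Jm_apply, st_apply, map_mul, mul_comm]

/-- `P` carries the standard hermitian form to the antidiagonal one, if `(st σ P * Jm) * P = 1` -/
theorem hJ_mulVec_of_inv {P : Matrix (Fin n) (Fin n) K} (hQP : st σ P * Jm K n * P = 1)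
    (v w : Fin n → K) : hJ σ (P *ᵥ v) (P *ᵥ w) = (fun k => σ (w k)) ⬝ᵥ v := by
  unfold hJ
  rw [sh_mulVec, dotProduct_comm, ← Matrix.dotProduct_mulVec, Matrix.mulVec_mulVec, hQP,
    Matrix.one_mulVec]

/-- conjugating a rank one perturbation of the identity -/
theorem conj_rank_one {P Q : Matrix (Fin n) (Fin n) K} (hPQ : P * Q = 1) (hQ : Q = st σ P * Jm K n)
    (v : Fin n → K) (c : K) :
    P * (1 + c • vecMulVec v (fun j => σ (v j))) * Q = TJm σ (P *ᵥ v) c := by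
  unfold TJm
  rw [sh_mulVec, ← hQ, Matrix.mul_add, Matrix.mul_one, Matrix.add_mul, hPQ, Matrix.mul_smul,
    Matrix.smul_mul, mul_vecMulVec, vecMulVec_mul]

end gen

variable {F : Type*} [Field F] [Fintype F] {q n : ℕ}

/-- `Pmat` carries the standard hermitian form to the antidiagonal one -/
theorem hJ_Pmat (hF : Fintype.card F = q ^ 2) {ζ τ : F} (hζ : ζ * frobHom hF ζ = -1)
    (hτ : τ + frobHom hF τ = 1) (v w : Fin n → F) :
    hJ (frobHom hF) (Pmat (frobHom hF) ζ τ *ᵥ v) (Pmat (frobHom hF) ζ τ *ᵥ w) =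
      Cfsg.hermForm n F q v w := by
  rw [hJ_mulVec_of_inv (frobHom hF) (Qmat_mul_Pmat (frob_invol hF) hζ hτ)]
  unfold Cfsg.hermForm dotProduct
  apply Finset.sum_congr rfl
  intro i _
  rw [mul_comm]
  rfl

/-- the image of a unitary transvection under the change of basis -/
theorem Pmat_conj_ut (hF : Fintype.card F = q ^ 2) {ζ τ : F} (hζ : ζ * frobHom hF ζ = -1)
    (hτ : τ + frobHom hF τ = 1) (v : Fin n → F) (c : F) :
    Pmat (frobHom hF) ζ τ * Cfsg.unitaryTransvection n q v c * Qmat (frobHom hF) ζ τ =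
      TJm (frobHom hF) (Pmat (frobHom hF) ζ τ *ᵥ v) c :=
  conj_rank_one (frobHom hF) (Pmat_mul_Qmat (frob_invol hF) hζ hτ) rfl v c

/-- **(B2)** a subgroup of `UJ (frobHom hF) n` whose root set contains every isotropic vector is
everything -/
theorem UJ_eq_of_Rt_all (hF : Fintype.card F = q ^ 2) (hn : 3 ≤ n) (h32 : ¬ (n = 3 ∧ q = 2))
    (X : Subgroup (Matrix.SpecialLinearGroup (Fin n) F)) (hX : X ≤ UJ (frobHom hF) n)
    (hall : ∀ v : Fin n → F, hJ (frobHom hF) v v = 0 →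
      v ∈ Cfsg.Agent.Lib.Helper4.SU3.Rt (σ := frobHom hF) X) :
    X = UJ (frobHom hF) n := by
  obtain ⟨ζ, τ, -, hτ, hζ⟩ := Cfsg.Agent.Lib.Helper18.PSUMod.exists_consts hF
  set e := suIso hF n hζ hτ with he
  -- the transported subgroup of the frozen model
  let M : Subgroup ↥(Cfsg.SU n F q) := (X.subgroupOf (UJ (frobHom hF) n)).comap e.toMonoidHom
  have hmemM : ∀ A : ↥(Cfsg.SU n F q), A ∈ M ↔
      ((e A : ↥(UJ (frobHom hF) n)) : Matrix.SpecialLinearGroup (Fin n) F) ∈ X := by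
    intro A
    show e.toMonoidHom A ∈ X.subgroupOf (UJ (frobHom hF) n) ↔ _
    rw [Subgroup.mem_subgroupOf]
    rfl
  have hM : M = ⊤ := by
    apply Cfsg.Agent.Lib.Helper6.SUApi.eq_top_of_Rt_all hF hn h32
    intro v hv
    refine ⟨hv, fun c hc => ?_⟩
    rw [hmemM]
    have hiso : hJ (frobHom hF) (Pmat (frobHom hF) ζ τ *ᵥ v) (Pmat (frobHom hF) ζ τ *ᵥ v) = 0 := by
      rw [hJ_Pmat hF hζ hτ, hv]
    have hc' : frobHom hF c = -c := hc
    obtain ⟨t, ht, hte⟩ := (hall _ hiso).2 c hc'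
    have : ((e (Cfsg.Agent.Lib.Helper6.SUApi.Tu hF v c) : ↥(UJ (frobHom hF) n)) :
        Matrix.SpecialLinearGroup (Fin n) F) = t := by
      apply Subtype.ext
      rw [he, suIso_coe, hte, Cfsg.Agent.Lib.Helper6.SUApi.coe_Tu hF hv hc,
        Pmat_conj_ut hF hζ hτ]
    rw [this]
    exact ht
  apply le_antisymm hX
  intro g hg
  have h1 : e.symm ⟨g, hg⟩ ∈ M := by rw [hM]; exact Subgroup.mem_top _
  rw [hmemM, MulEquiv.apply_symm_apply] at h1
  exact h1

/-- **(B2')** the same for a generating set inside `UJ (frobHom hF) n`: ready for `frozen_of_UJ` -/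
theorem closure_eq_top_of_Rt_all (hF : Fintype.card F = q ^ 2) (hn : 3 ≤ n)
    (h32 : ¬ (n = 3 ∧ q = 2)) (S : Set ↥(UJ (frobHom hF) n))
    (hall : ∀ v : Fin n → F, hJ (frobHom hF) v v = 0 →
      v ∈ Cfsg.Agent.Lib.Helper4.SU3.Rt (σ := frobHom hF)
        ((Subgroup.closure S).map (UJ (frobHom hF) n).subtype)) :
    Subgroup.closure S = ⊤ := by
  have hX : (Subgroup.closure S).map (UJ (frobHom hF) n).subtype ≤ UJ (frobHom hF) n := by
    rintro _ ⟨y, -, rfl⟩
    exact y.2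
  have h1 := UJ_eq_of_Rt_all hF hn h32 _ hX hall
  rw [eq_top_iff]
  intro g _
  have h2 : (g : Matrix.SpecialLinearGroup (Fin n) F) ∈
      (Subgroup.closure S).map (UJ (frobHom hF) n).subtype := by
    rw [h1]; exact g.2
  obtain ⟨y, hy, hyg⟩ := h2
  have : y = g := Subtype.ext hyg
  rw [← this]
  exact hy

/-- **(B3a)** the action of `suIso.symm g` on the vectors `Qmat *ᵥ x` -/
theorem av_symm_Qmat (hF : Fintype.card F = q ^ 2) {ζ τ : F} (hζ : ζ * frobHom hF ζ = -1)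
    (hτ : τ + frobHom hF τ = 1) (g : ↥(UJ (frobHom hF) n)) (x : Fin n → F) :
    Cfsg.Agent.Lib.Helper5.SUGen.av ((suIso hF n hζ hτ).symm g) (Qmat (frobHom hF) ζ τ *ᵥ x) =
      Qmat (frobHom hF) ζ τ *ᵥ
        (((g : Matrix.SpecialLinearGroup (Fin n) F) : Matrix (Fin n) (Fin n) F) *ᵥ x) := by
  unfold Cfsg.Agent.Lib.Helper5.SUGen.av
  rw [suIso_symm_coe, Matrix.mulVec_mulVec, Matrix.mul_assoc, Matrix.mul_assoc,
    Pmat_mul_Qmat (frob_invol hF) hζ hτ, Matrix.mul_one, ← Matrix.mulVec_mulVec]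

/-- **(B3b)** the standard hermitian form on the vectors `Qmat *ᵥ x` is the antidiagonal form -/
theorem hermForm_Qmat (hF : Fintype.card F = q ^ 2) {ζ τ : F} (hζ : ζ * frobHom hF ζ = -1)
    (hτ : τ + frobHom hF τ = 1) (x y : Fin n → F) :
    Cfsg.hermForm n F q (Qmat (frobHom hF) ζ τ *ᵥ x) (Qmat (frobHom hF) ζ τ *ᵥ y) =
      hJ (frobHom hF) x y := by
  rw [← hJ_Pmat hF hζ hτ, Matrix.mulVec_mulVec, Matrix.mulVec_mulVec,
    Pmat_mul_Qmat (frob_invol hF) hζ hτ, Matrix.one_mulVec, Matrix.one_mulVec]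

end Cfsg.Agent.Lib.Helper23.SUBridge
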