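import Mathlib
import Cfsg.Agent.Lib.Helper23.SUBridge2

/-!
# S2282: the bridge, part 4 (helper23): `Qv` is bijective, the form on basis vectors, regularity
under `suIso.symm`.
-/

set_option autoImplicit false

namespace Cfsg.Agent.Lib.Helper23.SUBridge

open Matrix
open Cfsg.Agent.Lib.Helper16.FusSU
open Cfsg.Agent.Lib.Helper5.HermBridge (frobHom)
open Cfsg.Agent.Lib.Helper4.SU3 (hJ)

section gen

variable {K : Type*} [Field K] {n : ℕ} (σ : K →+* K)

/-- **(B5)** the antidiagonal form on basis vectors -/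
theorem single_dot_sh_single (i j : Fin n) (a b : K) :
    (Pi.single i a : Fin n → K) ⬝ᵥ sh σ (Pi.single j b) = if j = i.rev then a * σ b else 0 := by
  rw [sh_single, single_dotProduct, Pi.single_apply]
  by_cases h : j = i.rev
  · rw [if_pos h, if_pos (by rw [h, Fin.rev_rev])]
  · rw [if_neg h, if_neg (fun h' => h (by rw [h', Fin.rev_rev])), mul_zero]

theorem hJ_single (i j : Fin n) (a b : K) :
    hJ σ (Pi.single i a : Fin n → K) (Pi.single j b) = if j = i.rev then a * σ b else 0 :=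
  single_dot_sh_single σ i j a b

end gen

variable {F : Type*} [Field F] [Fintype F] {q n : ℕ}

theorem Pmat_mulVec_Qmat_mulVec (hF : Fintype.card F = q ^ 2) {ζ τ : F}
    (hζ : ζ * frobHom hF ζ = -1) (hτ : τ + frobHom hF τ = 1) (x : Fin n → F) :
    Pmat (frobHom hF) ζ τ *ᵥ (Qmat (frobHom hF) ζ τ *ᵥ x) = x := by
  rw [Matrix.mulVec_mulVec, Pmat_mul_Qmat (frob_invol hF) hζ hτ, Matrix.one_mulVec]

theorem Qmat_mulVec_Pmat_mulVec (hF : Fintype.card F = q ^ 2) {ζ τ : F}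
    (hζ : ζ * frobHom hF ζ = -1) (hτ : τ + frobHom hF τ = 1) (x : Fin n → F) :
    Qmat (frobHom hF) ζ τ *ᵥ (Pmat (frobHom hF) ζ τ *ᵥ x) = x := by
  rw [Matrix.mulVec_mulVec, Qmat_mul_Pmat (frob_invol hF) hζ hτ, Matrix.one_mulVec]

/-- **(B3)** `x ↦ Qmat *ᵥ x` is a bijection of `F^n` -/
theorem Qv_bijective (hF : Fintype.card F = q ^ 2) {ζ τ : F}
    (hζ : ζ * frobHom hF ζ = -1) (hτ : τ + frobHom hF τ = 1) :
    Function.Bijective (fun x : Fin n → F => Qmat (frobHom hF) ζ τ *ᵥ x) := by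
  refine ⟨fun x y hxy => ?_, fun y => ⟨Pmat (frobHom hF) ζ τ *ᵥ y, ?_⟩⟩
  · have := congrArg (fun z => Pmat (frobHom hF) ζ τ *ᵥ z) hxy
    simpa only [Pmat_mulVec_Qmat_mulVec hF hζ hτ] using this
  · exact Qmat_mulVec_Pmat_mulVec hF hζ hτ y

/-- every vector is `Qmat *ᵥ x` -/
theorem exists_eq_Qv (hF : Fintype.card F = q ^ 2) {ζ τ : F}
    (hζ : ζ * frobHom hF ζ = -1) (hτ : τ + frobHom hF τ = 1) (y : Fin n → F) :
    ∃ x : Fin n → F, Qmat (frobHom hF) ζ τ *ᵥ x = y :=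
  (Qv_bijective hF hζ hτ).2 y

/-- **(B4)** regularity is preserved by `suIso.symm` -/
theorem reg_symm (hF : Fintype.card F = q ^ 2) {ζ τ : F}
    (hζ : ζ * frobHom hF ζ = -1) (hτ : τ + frobHom hF τ = 1) (k : ℕ)
    (g : ↥(UJ (frobHom hF) n))
    (h : IsNilpotent (((g : Matrix.SpecialLinearGroup (Fin n) F) : Matrix (Fin n) (Fin n) F) - 1) ∧
      (((g : Matrix.SpecialLinearGroup (Fin n) F) : Matrix (Fin n) (Fin n) F) - 1) ^ k ≠ 0) :
    IsNilpotent (((((suIso hF n hζ hτ).symm g : ↥(Cfsg.SU n F q)) :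
        Matrix.SpecialLinearGroup (Fin n) F) : Matrix (Fin n) (Fin n) F) - 1) ∧
      (((((suIso hF n hζ hτ).symm g : ↥(Cfsg.SU n F q)) :
        Matrix.SpecialLinearGroup (Fin n) F) : Matrix (Fin n) (Fin n) F) - 1) ^ k ≠ 0 := by
  have hQP := Qmat_mul_Pmat (n := n) (frob_invol hF) hζ hτ
  have hPQ := Pmat_mul_Qmat (n := n) (frob_invol hF) hζ hτ
  rw [suIso_symm_coe]
  exact ⟨isNilpotent_conj hQP hPQ h.1, pow_ne_zero_conj hQP hPQ _ h.2⟩

end Cfsg.Agent.Lib.Helper23.SUBridge
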