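import Mathlib
import Cfsg.Agent.Lib.Helper5.TWU.Defs
import Cfsg.Agent.Lib.Helper14.TWIIDefs
import Cfsg.Agent.Lib.Helper23.TWUT3

/-!
S5672 Stage II (sub-planner helper14): a similitude `u` with `InZ i y u` (`y` isotropic) is an ISOMETRY and is `1` on `W(i,y)^⊥`
(helper23).
-/

set_option autoImplicit false
set_option linter.unusedSectionVars false
set_option linter.unusedVariables false

namespace Cfsg.Agent.Lib.Helper23.TWUII
open Matrix Cfsg.Geo Cfsg.Agent.Lib.Helper18.AschA89 Cfsg.Agent.Lib.Helper8.TW Cfsg.Agent.Lib.Helper5.TWU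
open Cfsg.Agent.Lib.Helper20.UT (hv)
open Cfsg.Agent.Lib.Helper14.TWII (InZ)

variable {F : Type*} [Field F] [Fintype F] {t k q : ℕ}

/-- a similitude in `Z_b` is an isometry, and it is the identity on `W^⊥` -/
theorem InZ_unitary (hF : Fintype.card F = q ^ 2) (i : Fin t) (y : Fin k → F) (hy0 : y ≠ 0) (hy : hv q y y = 0)
    (u : GL (Idx t k) F) (hu : u ∈ DUV t k q F) (hZ : InZ i y u) :
    u ∈ GUV t k q F ∧ ∀ v ∈ perpU q (Wf i y), mv u v = v := by
  obtain ⟨μ, hμ⟩ := mem_DUV.1 hu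
  obtain ⟨hZ1, hZ2⟩ := hZ
  have hq : q ≠ 0 := Cfsg.Agent.Lib.Helper23.TWUT.q_ne_zero hF
  have hTI : ∀ a ∈ Wf i y, ∀ b ∈ Wf i y, hv q a b = 0 :=
    fun a ha b hb => Cfsg.Agent.Lib.Helper23.TWUQU.ti_Wf i y hy ha hb
  -- a non-zero vector of `W`
  have hk : 0 < k := by
    rcases Nat.eq_zero_or_pos k with h | h
    · subst h
      exfalso; apply hy0; funext a; exact a.elim0
    · exact h
  set x₀ : Idx t k := fun _ => ⟨0, hk⟩ with hx₀
  set a : Idx t k → F := Cfsg.Agent.Lib.Helper23.TWUQU.wv i x₀ y with ha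
  have haW : a ∈ Wf i y := Cfsg.Agent.Lib.Helper23.TWUQU.wv_mem i x₀ y
  have ha0 : a ≠ 0 := by
    intro h0
    obtain ⟨c, hc⟩ : ∃ c, y c ≠ 0 := by
      by_contra hh
      push Not at hh
      exact hy0 (funext hh)
    have := congrFun h0 (Function.update x₀ i c)
    rw [ha] at this
    unfold Cfsg.Agent.Lib.Helper23.TWUQU.wv at this
    rw [if_pos (fun l hl => by rw [Function.update_of_ne hl]), Function.update_self] at this
    exact hc this
  -- multiplier one
  have hμ1 : (μ : F) = 1 := by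
    obtain ⟨b, hb⟩ : ∃ b, hv q a b ≠ 0 := by
      by_contra hh
      push Not at hh
      exact ha0 (Cfsg.Agent.Lib.Helper23.TWUT.hv_nondeg_left hq hh)
    have h1 := hμ a b
    rw [hZ2 a haW] at h1
    have h2 : mv u b = b + (mv u b - b) := by abel
    rw [h2, Cfsg.Agent.Lib.Helper20.UT.hv_add_right hF, hTI a haW _ (hZ1 b), add_zero] at h1
    have h3 : ((μ : F) - 1) * hv q a b = 0 := by rw [sub_mul, one_mul, ← h1, sub_self]
    rcases mul_eq_zero.1 h3 with h | h
    · exact sub_eq_zero.1 h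
    · exact absurd h hb
  have hiso : ∀ v w, hv q (mv u v) (mv u w) = hv q v w := by
    intro v w
    rw [hμ v w, hμ1, one_mul]
  refine ⟨mem_GUV.2 hiso, ?_⟩
  intro v hv'
  have h0 : mv u v - v = 0 := by
    apply Cfsg.Agent.Lib.Helper23.TWUT.hv_nondeg_left hq
    intro b
    have h1 := hiso v b
    have e1 : mv u v = v + (mv u v - v) := by abel
    have e2 : mv u b = b + (mv u b - b) := by abel
    rw [e1, e2, Cfsg.Agent.Lib.Helper20.UT.hv_add_left, Cfsg.Agent.Lib.Helper20.UT.hv_add_right hF,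
      Cfsg.Agent.Lib.Helper20.UT.hv_add_right hF, hv' _ (hZ1 b), hTI _ (hZ1 v) _ (hZ1 b), add_zero, add_zero] at h1
    have h2 : hv q (v + (mv u v - v) - v) b = 0 := by
      have : hv q (mv u v - v) b = 0 := by
        have := h1
        rw [add_eq_left] at this
        exact this
      rw [add_sub_cancel_left]; exact this
    rwa [add_sub_cancel_left] at h2
  exact sub_eq_zero.1 h0

end Cfsg.Agent.Lib.Helper23.TWUII
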