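import Cfsg.Agent.Lib.Helper14.AltFP.Defs

/-!
S2276 (helper14's market), leaf C1 `blockPerm`: backward cycles on the consecutive intervals of lengths `L`.
Construction by induction on `L` with `viaEmbedding` along `Fin.castAddEmb` / `Fin.natAddEmb`; the invariant describes
`v₀` explicitly (`(I1)`: start of interval `m` ↦ last point of interval `m`; `(I2)`: every other point `i ↦ i - 1`).
-/

set_option autoImplicit false
set_option linter.unusedVariables false

namespace Cfsg.Agent.Lib.Helper23.AltFPLeaf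

open Equiv Equiv.Perm Cfsg.Agent.Lib.Helper14.AltFP
open scoped commutatorElement

/-! ### `finRotate` and its inverse, by values -/

theorem finRotate_val_of_lt {b : ℕ} (i : Fin b) (h : i.val + 1 < b) : (finRotate b i).val = i.val + 1 := by
  obtain ⟨n, rfl⟩ : ∃ n, b = n + 1 := ⟨b - 1, by have := i.2; omega⟩
  rw [coe_finRotate, if_neg]
  intro hi
  rw [hi, Fin.val_last] at h
  omega

theorem finRotate_val_of_eq {b : ℕ} (i : Fin b) (h : i.val + 1 = b) : (finRotate b i).val = 0 := by
  obtain ⟨n, rfl⟩ : ∃ n, b = n + 1 := ⟨b - 1, by have := i.2; omega⟩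
  rw [coe_finRotate, if_pos]
  apply Fin.ext
  rw [Fin.val_last]
  omega

theorem finRotate_inv_val_zero {a : ℕ} (x : Fin a) (h : x.val = 0) : ((finRotate a)⁻¹ x).val + 1 = a := by
  have ha : 0 < a := by have := x.2; omega
  have hy : (finRotate a)⁻¹ x = ⟨a - 1, by omega⟩ := by
    rw [Equiv.Perm.inv_eq_iff_eq]
    apply Fin.ext
    rw [finRotate_val_of_eq _ (by simp only; omega), h]
  rw [hy]
  simp only
  omega

theorem finRotate_inv_val_pos {a : ℕ} (x : Fin a) (h : x.val ≠ 0) : ((finRotate a)⁻¹ x).val + 1 = x.val := by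
  have hx := x.2
  have hy : (finRotate a)⁻¹ x = ⟨x.val - 1, by omega⟩ := by
    rw [Equiv.Perm.inv_eq_iff_eq]
    apply Fin.ext
    rw [finRotate_val_of_lt _ (by simp only; omega)]
    simp only
    omega
  rw [hy]
  simp only
  omega

theorem cycleType_finRotate_inv (a : ℕ) :
    ((finRotate a)⁻¹).cycleType = if 2 ≤ a then {a} else 0 := by
  rw [cycleType_inv]
  split_ifs with h
  · exact cycleType_finRotate_of_le h
  · have h1 : finRotate a = 1 := by
      interval_cases a
      · exact Subsingleton.elim _ _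
      · exact Subsingleton.elim _ _
    rw [h1, cycleType_one]

/-! ### gluing two permutations along `Fin a ⊔ Fin b' = Fin (a + b')` -/

/-- `σ` on the first `a` points, `τ` on the last `b'` points -/
noncomputable def glue {a b' : ℕ} (σ : Perm (Fin a)) (τ : Perm (Fin b')) : Perm (Fin (a + b')) :=
  viaEmbedding σ (Fin.castAddEmb b') * viaEmbedding τ (Fin.natAddEmb a)

theorem natAdd_not_mem_range_castAdd {a b' : ℕ} (y : Fin b') :
    Fin.natAdd a y ∉ Set.range (Fin.castAddEmb b' : Fin a ↪ Fin (a + b')) := by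
  rintro ⟨x, hx⟩
  have := congrArg Fin.val hx
  rw [Fin.castAddEmb_apply, Fin.val_castAdd, Fin.val_natAdd] at this
  have := x.2
  omega

theorem castAdd_not_mem_range_natAdd {a b' : ℕ} (x : Fin a) :
    Fin.castAdd b' x ∉ Set.range (Fin.natAddEmb a : Fin b' ↪ Fin (a + b')) := by
  rintro ⟨y, hy⟩
  have := congrArg Fin.val hy
  rw [Fin.natAddEmb_apply, Fin.val_castAdd, Fin.val_natAdd] at this
  have := x.2
  omega

theorem glue_castAdd {a b' : ℕ} (σ : Perm (Fin a)) (τ : Perm (Fin b')) (x : Fin a) :
    glue σ τ (Fin.castAdd b' x) = Fin.castAdd b' (σ x) := by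
  unfold glue
  rw [Perm.mul_apply, viaEmbedding_apply_of_notMem _ _ _ (castAdd_not_mem_range_natAdd x)]
  exact viaEmbedding_apply σ (Fin.castAddEmb b') x

theorem glue_natAdd {a b' : ℕ} (σ : Perm (Fin a)) (τ : Perm (Fin b')) (y : Fin b') :
    glue σ τ (Fin.natAdd a y) = Fin.natAdd a (τ y) := by
  unfold glue
  rw [Perm.mul_apply]
  have h1 : viaEmbedding τ (Fin.natAddEmb a) (Fin.natAdd a y) = Fin.natAdd a (τ y) :=
    viaEmbedding_apply τ (Fin.natAddEmb a) y
  rw [h1, viaEmbedding_apply_of_notMem _ _ _ (natAdd_not_mem_range_castAdd (τ y))]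

theorem cycleType_viaEmbedding {α β : Type*} [Fintype α] [DecidableEq α] [Fintype β] [DecidableEq β]
    (σ : Perm α) (ι : α ↪ β) : (viaEmbedding σ ι).cycleType = σ.cycleType := by
  unfold viaEmbedding
  exact @cycleType_extendDomain _ _ _ _ _ _ _ (fun a => Classical.propDecidable _) _ _

theorem cycleType_glue {a b' : ℕ} (σ : Perm (Fin a)) (τ : Perm (Fin b')) :
    (glue σ τ).cycleType = σ.cycleType + τ.cycleType := by
  unfold glue
  rw [Disjoint.cycleType_mul, cycleType_viaEmbedding, cycleType_viaEmbedding]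
  intro i
  by_cases hi : i.val < a
  · right
    have : i = Fin.castAdd b' ⟨i.val, hi⟩ := Fin.ext (by simp)
    rw [this]
    exact viaEmbedding_apply_of_notMem _ _ _ (castAdd_not_mem_range_natAdd _)
  · left
    have hlt : i.val - a < b' := by have := i.2; omega
    have : i = Fin.natAdd a ⟨i.val - a, hlt⟩ := Fin.ext (by simp; omega)
    rw [this]
    exact viaEmbedding_apply_of_notMem _ _ _ (natAdd_not_mem_range_castAdd _)

/-! ### partial sums -/

/-- the `m`-th partial sum (start of interval `m`) -/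
def psum (L : List ℕ) (m : ℕ) : ℕ := (L.take m).sum

theorem psum_zero (L : List ℕ) : psum L 0 = 0 := by simp [psum]

theorem psum_cons_succ (a : ℕ) (L : List ℕ) (m : ℕ) : psum (a :: L) (m + 1) = a + psum L m := by
  simp [psum]

theorem psum_length (L : List ℕ) : psum L L.length = L.sum := by simp [psum]

theorem psum_succ (L : List ℕ) (m : ℕ) (hm : m < L.length) : psum L (m + 1) = psum L m + L[m] := by
  unfold psum
  rw [List.sum_take_succ L m hm]

theorem psum_le_sum (L : List ℕ) (m : ℕ) : psum L m ≤ L.sum := by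
  have := List.sum_take_add_sum_drop L m
  unfold psum
  omega

theorem psum_lt_succ (L : List ℕ) (hpos : ∀ x ∈ L, 0 < x) (m : ℕ) (hm : m < L.length) :
    psum L m < psum L (m + 1) := by
  rw [psum_succ L m hm]
  have := hpos L[m] (List.getElem_mem hm)
  omega

theorem psum_lt_sum (L : List ℕ) (hpos : ∀ x ∈ L, 0 < x) (m : ℕ) (hm : m < L.length) :
    psum L m < L.sum := by
  have h1 := psum_lt_succ L hpos m hm
  have h2 := psum_le_sum L (m + 1)
  omega

/-! ### the construction -/

/-- the explicit description of the block permutation -/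
def IsBlock (L : List ℕ) (b : ℕ) (v₀ : Perm (Fin b)) : Prop :=
  v₀.cycleType = Multiset.filter (fun x => 2 ≤ x) (L : Multiset ℕ) ∧
  (∀ m, m < L.length → ∀ h : psum L m < b, (v₀ ⟨psum L m, h⟩).val + 1 = psum L (m + 1)) ∧
  (∀ i : Fin b, (∀ m, m < L.length → psum L m ≠ i.val) → (v₀ i).val + 1 = i.val)

theorem exists_isBlock : ∀ (L : List ℕ), (∀ x ∈ L, 0 < x) → ∀ b : ℕ, L.sum = b →
    ∃ v₀ : Perm (Fin b), IsBlock L b v₀
  | [], _, b, hb => by
    rw [List.sum_nil] at hb
    subst hb
    refine ⟨1, ?_, ?_, ?_⟩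
    · rw [cycleType_one]
      rfl
    · intro m hm
      simp at hm
    · intro i
      exact i.elim0
  | a :: L', hpos, b, hb => by
    have ha : 0 < a := hpos a (List.mem_cons_self ..)
    have hpos' : ∀ x ∈ L', 0 < x := fun x hx => hpos x (List.mem_cons_of_mem _ hx)
    obtain ⟨v₀', hT', hI1', hI2'⟩ := exists_isBlock L' hpos' L'.sum rfl
    obtain rfl : b = a + L'.sum := by rw [← hb, List.sum_cons]
    refine ⟨glue ((finRotate a)⁻¹) v₀', ?_, ?_, ?_⟩
    · rw [cycleType_glue, hT', cycleType_finRotate_inv, ← Multiset.cons_coe, Multiset.filter_cons]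
    · intro m hm h
      cases m with
      | zero =>
        have h0 : (⟨psum (a :: L') 0, h⟩ : Fin (a + L'.sum)) = Fin.castAdd L'.sum ⟨0, ha⟩ := by
          apply Fin.ext
          simp [psum_zero]
        rw [h0, glue_castAdd, Fin.val_castAdd, finRotate_inv_val_zero _ rfl, psum_cons_succ, psum_zero,
          add_zero]
      | succ m =>
        have hm' : m < L'.length := by simpa using hm
        have hlt : psum L' m < L'.sum := psum_lt_sum L' hpos' m hm'
        have h0 : (⟨psum (a :: L') (m + 1), h⟩ : Fin (a + L'.sum)) =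
            Fin.natAdd a ⟨psum L' m, hlt⟩ := by
          apply Fin.ext
          simp [psum_cons_succ]
        rw [h0, glue_natAdd, Fin.val_natAdd, psum_cons_succ, add_assoc, hI1' m hm' hlt]
    · intro i hi
      by_cases hia : i.val < a
      · have h0 : i = Fin.castAdd L'.sum ⟨i.val, hia⟩ := Fin.ext (by simp)
        have hne : i.val ≠ 0 := by
          have := hi 0 (by simp)
          rw [psum_zero] at this
          exact fun h => this h.symm
        have h1 : glue ((finRotate a)⁻¹) v₀' i =
            Fin.castAdd L'.sum ((finRotate a)⁻¹ ⟨i.val, hia⟩) := by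
          conv_lhs => rw [h0]
          exact glue_castAdd _ _ _
        rw [h1, Fin.val_castAdd, finRotate_inv_val_pos _ (by simpa using hne)]
      · have hlt : i.val - a < L'.sum := by have := i.2; omega
        have h0 : i = Fin.natAdd a ⟨i.val - a, hlt⟩ := Fin.ext (by simp; omega)
        have hnot : ∀ m, m < L'.length → psum L' m ≠ (⟨i.val - a, hlt⟩ : Fin L'.sum).val := by
          intro m hm hEq
          apply hi (m + 1) (by simpa using hm)
          rw [psum_cons_succ, hEq]
          simp only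
          omega
        have h2 := hI2' ⟨i.val - a, hlt⟩ hnot
        have h1 : glue ((finRotate a)⁻¹) v₀' i = Fin.natAdd a (v₀' ⟨i.val - a, hlt⟩) := by
          conv_lhs => rw [h0]
          exact glue_natAdd _ _ _
        rw [h1, Fin.val_natAdd, add_assoc, h2]
        simp only
        omega

/-! ### the properties of `κ = v₀ * finRotate b` -/

theorem kappa_fix {L : List ℕ} (hpos : ∀ x ∈ L, 0 < x) {b : ℕ} (hb : L.sum = b) {v₀ : Perm (Fin b)}
    (hv : IsBlock L b v₀) (i : Fin b) (hi : ∀ m : ℕ, m ≤ L.length → psum L m ≠ i.val + 1) :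
    (v₀ * finRotate b) i = i := by
  obtain ⟨-, -, hI2⟩ := hv
  have hlt : i.val + 1 < b := by
    have h1 := hi L.length le_rfl
    rw [psum_length, hb] at h1
    have := i.2
    omega
  have hj : (finRotate b i).val = i.val + 1 := finRotate_val_of_lt i hlt
  rw [Perm.mul_apply]
  apply Fin.ext
  have := hI2 (finRotate b i) (fun m hm => by rw [hj]; exact hi m hm.le)
  omega

theorem kappa_step {L : List ℕ} (hpos : ∀ x ∈ L, 0 < x) {b : ℕ} (hb : L.sum = b) {v₀ : Perm (Fin b)}
    (hv : IsBlock L b v₀) (m : ℕ) (hm : m < L.length) (i : Fin b) (hi : i.val + 1 = psum L (m + 1)) :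
    ((v₀ * finRotate b) i).val + 1 = psum L ((m + 1) % L.length + 1) := by
  obtain ⟨-, hI1, -⟩ := hv
  rw [Perm.mul_apply]
  by_cases hlast : m + 1 < L.length
  · rw [Nat.mod_eq_of_lt hlast]
    have hlt : psum L (m + 1) < b := by rw [← hb]; exact psum_lt_sum L hpos (m + 1) hlast
    have hj : finRotate b i = ⟨psum L (m + 1), hlt⟩ := by
      apply Fin.ext
      rw [finRotate_val_of_lt i (by omega)]
      exact hi
    rw [hj]
    exact hI1 (m + 1) hlast hlt
  · have hk : m + 1 = L.length := by omega
    rw [hk, Nat.mod_self]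
    have hib : i.val + 1 = b := by rw [hi, hk, psum_length, hb]
    have hlt : psum L 0 < b := by rw [psum_zero]; have := i.2; omega
    have hj : finRotate b i = ⟨psum L 0, hlt⟩ := by
      apply Fin.ext
      rw [finRotate_val_of_eq i hib]
      exact (psum_zero L).symm
    rw [hj]
    exact hI1 0 (by omega) hlt

theorem kappa_iter {L : List ℕ} (hpos : ∀ x ∈ L, 0 < x) {b : ℕ} (hb : L.sum = b) {v₀ : Perm (Fin b)}
    (hv : IsBlock L b v₀) (j : ℕ) : ∀ (m : ℕ), m < L.length → ∀ i : Fin b, i.val + 1 = psum L (m + 1) →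
      (((v₀ * finRotate b) ^ j) i).val + 1 = psum L ((m + j) % L.length + 1) := by
  induction j with
  | zero =>
    intro m hm i hi
    rw [pow_zero, Perm.one_apply, add_zero, Nat.mod_eq_of_lt hm]
    exact hi
  | succ j ih =>
    intro m hm i hi
    rw [pow_succ', Perm.mul_apply]
    have hk : 0 < L.length := by omega
    have h1 := ih m hm i hi
    have h2 := kappa_step hpos hb hv ((m + j) % L.length) (Nat.mod_lt _ hk) _ h1
    rw [h2, Nat.mod_add_mod, add_assoc]

/-- (C1) -/
theorem blockPerm (L : List ℕ) (hpos : ∀ x ∈ L, 0 < x) (b : ℕ) (hb : L.sum = b) :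
    ∃ v₀ : Perm (Fin b),
      v₀.cycleType = Multiset.filter (fun x => 2 ≤ x) (L : Multiset ℕ) ∧
      (v₀ * finRotate b) ^ L.length = 1 ∧
      ∀ i : Fin b, (∀ m : ℕ, m ≤ L.length → (L.take m).sum ≠ i.val + 1) → (v₀ * finRotate b) i = i := by
  obtain ⟨v₀, hv⟩ := exists_isBlock L hpos b hb
  refine ⟨v₀, hv.1, ?_, fun i hi => kappa_fix hpos hb hv i hi⟩
  ext i
  rw [Perm.one_apply]
  by_cases hi : ∀ m : ℕ, m ≤ L.length → psum L m ≠ i.val + 1
  · have hfix := kappa_fix hpos hb hv i hi
    have := Equiv.Perm.pow_apply_eq_self_of_apply_eq_self hfix L.length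
    rw [this]
  · push Not at hi
    obtain ⟨m, hm, hEq⟩ := hi
    cases m with
    | zero =>
      rw [psum_zero] at hEq
      omega
    | succ m =>
      have h1 := kappa_iter hpos hb hv L.length m (by omega) i hEq.symm
      rw [Nat.add_mod_right, Nat.mod_eq_of_lt (by omega : m < L.length)] at h1
      omega

end Cfsg.Agent.Lib.Helper23.AltFPLeaf
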