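/-
helper23: S4504 (VI) market (`notes/S4504_VI_leaves.lean`), leaf TCOL: second orthogonality relation per central character.
-/
import Mathlib
import Cfsg.Prelude.Def_BlockRank
import Cfsg.Agent.Lib.Helper6.BRHDefs
import Cfsg.Agent.Lib.Helper23.BRVIDefs
import Cfsg.Agent.Lib.Helper23.BRVIZC
import Cfsg.Agent.Lib.Lead.CharMain

set_option autoImplicit false

namespace Cfsg.Agent.Lib.Helper23.BRVITCOL

open Cfsg Cfsg.Agent.Lib.Helper8.DOM Cfsg.Agent.Lib.Helper27.DO Cfsg.Agent.CharLib
open Cfsg.Agent.Lib.Helper6.BRH Cfsg.Agent.Lib.Helper23.BRVI Cfsg.Agent.Lib.Helper23.BRVIZC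
open scoped ComplexConjugate

universe u

/-- a `finsum` over a set of a finite type as a `Finset.sum` of an `ite` -/
theorem finsum_mem_eq_sum_ite {ι : Type*} [Fintype ι] (S : Set ι) [DecidablePred (· ∈ S)] (F : ι → ℂ) :
    ∑ᶠ i ∈ S, F i = ∑ i : ι, if i ∈ S then F i else 0 := by
  rw [finsum_mem_eq_finite_toFinset_sum _ (Set.toFinite S), ← Finset.sum_filter]
  apply Finset.sum_congr
  · ext i
    simp
  · intro i _; rfl

variable {G : Type u} [Group G] [Finite G]

open Classical in
/-- the twisted column sum, before evaluation -/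
theorem card_center_mul_sum [Fintype G] [Fintype (IrrCharacter G)] [Fintype (Subgroup.center G)]
    (ψ0 : IrrCharacter G) (a b : G) :
    (Nat.card (Subgroup.center G) : ℂ) * ∑ᶠ χ ∈ cset ψ0, (χ : G → ℂ) a * conj ((χ : G → ℂ) b) =
      ∑ z : Subgroup.center G, conj (omegaHom ψ0 z) *
        (classIndicator b (a * (z : G)) * (Nat.card (Subgroup.centralizer ({b} : Set G)) : ℂ)) := by
  have h1 : ∀ z : Subgroup.center G,
      classIndicator b (a * (z : G)) * (Nat.card (Subgroup.centralizer ({b} : Set G)) : ℂ) =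
        ∑ χ : IrrCharacter G, omegaHom χ z * ((χ : G → ℂ) a * conj ((χ : G → ℂ) b)) := by
    intro z
    rw [← sum_irr_mul_conj (a * (z : G)) b]
    apply Finset.sum_congr rfl
    intro χ _
    rw [apply_mul_central' χ z a]
    ring
  rw [Finset.sum_congr rfl (fun z _ => by rw [h1 z]), finsum_mem_eq_sum_ite, Finset.mul_sum]
  simp_rw [Finset.mul_sum]
  rw [Finset.sum_comm]
  apply Finset.sum_congr rfl
  intro χ _
  have h2 : ∑ z : Subgroup.center G, conj (omegaHom ψ0 z) *
      (omegaHom χ z * ((χ : G → ℂ) a * conj ((χ : G → ℂ) b))) =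
      (∑ z : Subgroup.center G, omegaHom χ z * conj (omegaHom ψ0 z)) *
        ((χ : G → ℂ) a * conj ((χ : G → ℂ) b)) := by
    rw [Finset.sum_mul]
    apply Finset.sum_congr rfl
    intro z _
    ring
  rw [h2, sum_omegaHom_mul_conj]
  split_ifs
  · rfl
  · simp

/-- TCOL : second orthogonality relation per central character. -/
theorem col_orth (ψ0 : IrrCharacter G) (a b : G)
    (hab : ∀ z ∈ Subgroup.center G, IsConj (a * z) b → z = 1) :
    (IsConj a b → ∑ᶠ χ ∈ cset ψ0, (χ : G → ℂ) a * conj ((χ : G → ℂ) b) =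
      (Nat.card (Subgroup.centralizer ({b} : Set G)) : ℂ) / (Nat.card (Subgroup.center G) : ℂ)) ∧
    (¬ IsConj a b → ∑ᶠ χ ∈ cset ψ0, (χ : G → ℂ) a * conj ((χ : G → ℂ) b) = 0) := by
  classical
  let _ : Fintype G := Fintype.ofFinite G
  let _ : Fintype (IrrCharacter G) := Fintype.ofFinite _
  let _ : Fintype (Subgroup.center G) := Fintype.ofFinite _
  have hZ0 : (Nat.card (Subgroup.center G) : ℂ) ≠ 0 := Nat.cast_ne_zero.mpr Nat.card_pos.ne'
  have hkey := card_center_mul_sum ψ0 a b
  have hsingle : ∑ z : Subgroup.center G, conj (omegaHom ψ0 z) *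
      (classIndicator b (a * (z : G)) * (Nat.card (Subgroup.centralizer ({b} : Set G)) : ℂ)) =
      classIndicator b a * (Nat.card (Subgroup.centralizer ({b} : Set G)) : ℂ) := by
    rw [Finset.sum_eq_single (1 : Subgroup.center G)]
    · rw [map_one, map_one]
      simp
    · intro z _ hz1
      have hnc : ¬ IsConj (a * (z : G)) b := by
        intro hc
        apply hz1
        have := hab (z : G) z.2 hc
        exact Subtype.ext this
      have : classIndicator b (a * (z : G)) = 0 := by
        simp only [classIndicator]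
        rw [if_neg hnc]
      rw [this]
      simp
    · intro h
      exact absurd (Finset.mem_univ _) h
  rw [hsingle] at hkey
  constructor
  · intro hc
    have : classIndicator b a = 1 := by
      simp only [classIndicator]
      rw [if_pos hc]
    rw [this, one_mul] at hkey
    rw [eq_div_iff hZ0, mul_comm]
    exact hkey
  · intro hc
    have : classIndicator b a = 0 := by
      simp only [classIndicator]
      rw [if_neg hc]
    rw [this, zero_mul] at hkey
    rcases mul_eq_zero.mp hkey with h | h
    · exact absurd h hZ0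
    · exact h

end Cfsg.Agent.Lib.Helper23.BRVITCOL
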