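/-
helper23: S4700 / S0996 wrapper market (planner helper27, `notes/S4700_W_leaves.lean`), leaf OMEGA:
`χ = v` (a rational integer) on `P \ 1` ⇒ `χ(1) ∣ v |G : C_G(P)|` (central character of the class of a generator of `P`).
-/
import Mathlib
import Cfsg.Prelude.Def_BlockRank
import Cfsg.Prelude.Def_CaseTheorems
import Cfsg.Agent.Lib.Helper6.BRHDefs
import Cfsg.Agent.Lib.Helper27.BRWDefs
import Cfsg.Agent.Lib.Helper6.DefectOrder
import Cfsg.Agent.Lib.Helper24.IrrFacts

set_option autoImplicit false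

namespace Cfsg.Agent.Lib.Helper23.BRWOMEGA

open Cfsg Cfsg.Agent.Lib.Helper8.DOM Cfsg.Agent.Lib.Helper27.DO Cfsg.Agent.CharLib
open Cfsg.Agent.Lib.Helper6.BRH Cfsg.Agent.Lib.Helper27.BRW
open scoped ComplexConjugate

universe u

/-- a rational algebraic integer `N / d` is an integer, divisibility form -/
theorem dvd_of_isIntegral_div {N : ℤ} {d : ℕ} (hd : 0 < d)
    (h : IsIntegral ℤ ((N : ℂ) / (d : ℂ))) : (d : ℤ) ∣ N := by
  have hq : ((N : ℂ) / (d : ℂ)) = (((N : ℚ) / (d : ℚ) : ℚ) : ℂ) := by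
    push_cast; rfl
  rw [hq] at h
  have h2 : IsIntegral ℤ ((N : ℚ) / (d : ℚ)) :=
    (isIntegral_algebraMap_iff (algebraMap ℚ ℂ).injective (R := ℤ)
      (x := ((N : ℚ) / (d : ℚ)))).mp h
  obtain ⟨k, hk⟩ := IsIntegrallyClosed.isIntegral_iff.mp h2
  refine ⟨k, ?_⟩
  have hd0 : (d : ℚ) ≠ 0 := by exact_mod_cast hd.ne'
  have h3 : (N : ℚ) = (k : ℚ) * (d : ℚ) := by
    have : ((algebraMap ℤ ℚ) k) = (k : ℚ) := by simp
    rw [this] at hk
    rw [hk]
    field_simp
  have h4 : (N : ℚ) = ((k * (d : ℤ) : ℤ) : ℚ) := by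
    rw [h3]; push_cast; ring
  have h5 : N = k * (d : ℤ) := by exact_mod_cast h4
  rw [h5]; ring

variable {G : Type u} [Group G] [Finite G] {p : ℕ} [Fact p.Prime]

/-- the centralizer of a generator of a cyclic subgroup is the centralizer of the subgroup -/
theorem centralizer_singleton_eq (P : Subgroup G) (x0 : G) (hx0 : P = Subgroup.zpowers x0) :
    Subgroup.centralizer ({x0} : Set G) = Cz P := by
  ext g
  rw [Subgroup.mem_centralizer_singleton_iff, Subgroup.mem_centralizer_iff]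
  constructor
  · intro h y hy
    rw [hx0] at hy
    obtain ⟨k, rfl⟩ := Subgroup.mem_zpowers_iff.mp hy
    have hc : Commute g x0 := h
    exact ((hc.zpow_right k).eq).symm
  · intro h
    have := h x0 (by rw [hx0]; exact Subgroup.mem_zpowers x0)
    exact this.symm

/-- OMEGA : `χ` rational integral `= v` on `P \ 1` ⇒ `χ(1) ∣ v |G : C_G(P)|` (central character of the class of a generator of `P`). -/
theorem degree_dvd_class (P : Subgroup G) (hP : Nat.card P = p) (χ : IrrCharacter G) (v : ℤ)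
    (hval : ∀ x ∈ P, x ≠ 1 → (χ : G → ℂ) x = (v : ℂ)) :
    (charDegree (χ : G → ℂ) : ℤ) ∣ v * ((Cz P).index : ℤ) := by
  classical
  let _ : Fintype G := Fintype.ofFinite G
  have hpp : p.Prime := Fact.out
  haveI : Fact (Nat.card P).Prime := ⟨by rw [hP]; exact hpp⟩
  have hcyc : IsCyclic P := isCyclic_of_prime_card (p := Nat.card P) rfl
  obtain ⟨g0, hg0⟩ := hcyc.exists_generator
  set x0 : G := (g0 : G) with hx0def
  have hx0 : P = Subgroup.zpowers x0 := by
    ext y
    constructor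
    · intro hy
      obtain ⟨k, hk⟩ := Subgroup.mem_zpowers_iff.mp (hg0 ⟨y, hy⟩)
      rw [Subgroup.mem_zpowers_iff]
      refine ⟨k, ?_⟩
      have := congrArg Subtype.val hk
      simpa using this
    · intro hy
      obtain ⟨k, hk⟩ := Subgroup.mem_zpowers_iff.mp hy
      rw [← hk]
      exact P.zpow_mem g0.2 k
  have hx0P : x0 ∈ P := g0.2
  have hx0ne : x0 ≠ 1 := by
    intro h1
    have : P = ⊥ := by rw [hx0, h1, Subgroup.zpowers_one_eq_bot]
    rw [this] at hP
    simp at hP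
    exact hpp.one_lt.ne hP
  have hint := Cfsg.Agent.Lib.Helper6.isIntegral_centralChar χ x0
  unfold centralChar at hint
  rw [centralizer_singleton_eq P x0 hx0, hval x0 hx0P hx0ne,
    Cfsg.Agent.Lib.Helper24.irr_apply_one χ] at hint
  have hpos := Cfsg.Agent.Lib.Helper24.irr_charDegree_pos χ
  have h2 : (((Cz P).index : ℂ) * (v : ℂ) / (charDegree (χ : G → ℂ) : ℂ)) =
      (((v * ((Cz P).index : ℤ) : ℤ) : ℂ) / (charDegree (χ : G → ℂ) : ℂ)) := by
    push_cast; ring
  rw [h2] at hint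
  exact dvd_of_isIntegral_div hpos hint

end Cfsg.Agent.Lib.Helper23.BRWOMEGA
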