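/-
helper23: S4504 (VI) market (`notes/S4504_VI_leaves.lean`), leaf COLSUM (twin): the column sums of `χ(x) ∓ χ(x')` over the
characters with a fixed central character are `2p`.
-/
import Mathlib
import Cfsg.Prelude.Def_BlockRank
import Cfsg.Agent.Lib.Helper6.BRHDefs
import Cfsg.Agent.Lib.Helper23.BRVIDefs
import Cfsg.Agent.Lib.Helper23.BRVITCOL
import Cfsg.Agent.Lib.Helper23.BRWOMEGA
import Cfsg.Agent.Lib.Helper15.BRPCCZ
import Cfsg.Agent.Lib.Helper15.BRVIZREG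
import Cfsg.Agent.Lib.Helper29.DOTI

set_option autoImplicit false

namespace Cfsg.Agent.Lib.Helper23.BRVICOLSUM

open Cfsg Cfsg.Agent.Lib.Helper8.DOM Cfsg.Agent.Lib.Helper27.DO Cfsg.Agent.CharLib
open Cfsg.Agent.Lib.Helper6.BRH Cfsg.Agent.Lib.Helper23.BRVI
open scoped ComplexConjugate

universe u

variable {G : Type u} [Group G] [Finite G] {p : ℕ} [Fact p.Prime]

/-- conjugate elements have the same order -/
theorem orderOf_eq_of_isConj {a b : G} (h : IsConj a b) : orderOf a = orderOf b := by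
  obtain ⟨c, hc⟩ := isConj_iff.mp h
  rw [← hc]
  exact ((MulAut.conj c).orderOf_eq a).symm

/-- `a z ~ b` with `a, b ∈ P \ 1`, `z` central forces `z = 1` -/
theorem eq_one_of_isConj_mul (P : Subgroup G) (hP : Nat.card P = p)
    (hZreg : ∀ z ∈ Subgroup.center G, ¬ p ∣ orderOf z) {a b : G} (ha : a ∈ P) (ha1 : a ≠ 1)
    (hb : b ∈ P) (hb1 : b ≠ 1) : ∀ z ∈ Subgroup.center G, IsConj (a * z) b → z = 1 := by
  intro z hz hc
  have hpp : p.Prime := Fact.out
  have hoa := Cfsg.Agent.Lib.Helper29.DOTI.orderOf_eq_of_mem P hP ha ha1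
  have hob := Cfsg.Agent.Lib.Helper29.DOTI.orderOf_eq_of_mem P hP hb hb1
  have hcomm : Commute a z := (Subgroup.mem_center_iff.mp hz a)
  have hcop : Nat.Coprime (orderOf a) (orderOf z) := by
    rw [hoa]
    exact (Nat.Prime.coprime_iff_not_dvd hpp).mpr (hZreg z hz)
  have h1 := hcomm.orderOf_mul_eq_mul_orderOf_of_coprime hcop
  rw [orderOf_eq_of_isConj hc, hob, hoa] at h1
  have h2 : orderOf z = 1 := by
    have hp0 : 0 < p := hpp.pos
    have : p * 1 = p * orderOf z := by rw [mul_one]; exact h1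
    exact (Nat.eq_of_mul_eq_mul_left hp0 this).symm
  exact orderOf_eq_one_iff.mp h2

/-- the value of the twisted column sum at a pair of elements of `P \ 1` -/
theorem sum_pair (P : Subgroup G) (hP : Nat.card P = p) (hSyl : ¬ p ∣ P.index) (hnn : ¬ P.Normal)
    (hV : ∀ y ∈ Cz P, ¬ p ∣ orderOf y → y ∈ Subgroup.center G)
    {a b : G} (ha : a ∈ P) (ha1 : a ≠ 1) (hb : b ∈ P) (hb1 : b ≠ 1) (ψ0 : IrrCharacter G) :
    (IsConj a b → ∑ᶠ χ ∈ cset ψ0, (χ : G → ℂ) a * conj ((χ : G → ℂ) b) = (p : ℂ)) ∧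
    (¬ IsConj a b → ∑ᶠ χ ∈ cset ψ0, (χ : G → ℂ) a * conj ((χ : G → ℂ) b) = 0) := by
  have hZreg := Cfsg.Agent.Lib.Helper15.BRVIZREG.center_regular P hP hSyl hnn
  obtain ⟨h1, h2⟩ := Cfsg.Agent.Lib.Helper23.BRVITCOL.col_orth ψ0 a b
    (eq_one_of_isConj_mul P hP hZreg ha ha1 hb hb1)
  refine ⟨fun hc => ?_, h2⟩
  rw [h1 hc]
  have hgen : P = Subgroup.zpowers b := by
    apply le_antisymm
    · intro w hw
      obtain ⟨j, hj⟩ := Cfsg.Agent.Lib.Helper29.DOTI.exists_pow_eq_of_mem P hP hb hb1 hw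
      rw [← hj]
      exact Subgroup.zpow_mem_zpowers b j
    · rw [Subgroup.zpowers_le]
      exact hb
  rw [Cfsg.Agent.Lib.Helper23.BRWOMEGA.centralizer_singleton_eq P b hgen,
    Cfsg.Agent.Lib.Helper15.BRPCCZ.card_Cz_eq P hP hSyl hnn hV]
  have hZ0 : (Nat.card (Subgroup.center G) : ℂ) ≠ 0 := Nat.cast_ne_zero.mpr Nat.card_pos.ne'
  push_cast
  field_simp

/-- COLSUM : the column sums of `χ(x) ∓ χ(x')` over the characters with a fixed central character. -/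
theorem col_sums (P : Subgroup G) (hP : Nat.card P = p) (hSyl : ¬ p ∣ P.index) (hnn : ¬ P.Normal)
    (hV : ∀ y ∈ Cz P, ¬ p ∣ orderOf y → y ∈ Subgroup.center G)
    (x x' : G) (hx : x ∈ P) (hx1 : x ≠ 1) (hx' : x' ∈ P) (hx'1 : x' ≠ 1) (hnc : ¬ IsConj x x')
    (ψ0 : IrrCharacter G) :
    ∑ᶠ χ ∈ cset ψ0, Complex.normSq ((χ : G → ℂ) x - (χ : G → ℂ) x') = 2 * (p : ℝ) ∧
    ∑ᶠ χ ∈ cset ψ0, Complex.normSq ((χ : G → ℂ) x + (χ : G → ℂ) x') = 2 * (p : ℝ) := by
  classical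
  let _ : Fintype (IrrCharacter G) := Fintype.ofFinite _
  have hnc' : ¬ IsConj x' x := fun h => hnc h.symm
  have hxx := (sum_pair P hP hSyl hnn hV hx hx1 hx hx1 ψ0).1 (IsConj.refl x)
  have hx'x' := (sum_pair P hP hSyl hnn hV hx' hx'1 hx' hx'1 ψ0).1 (IsConj.refl x')
  have hxx' := (sum_pair P hP hSyl hnn hV hx hx1 hx' hx'1 ψ0).2 hnc
  have hx'x := (sum_pair P hP hSyl hnn hV hx' hx'1 hx hx1 ψ0).2 hnc'
  rw [Cfsg.Agent.Lib.Helper23.BRVITCOL.finsum_mem_eq_sum_ite] at hxx hx'x' hxx' hx'x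
  -- real finsums as finset sums
  have hreal : ∀ F : IrrCharacter G → ℝ, ((∑ᶠ χ ∈ cset ψ0, F χ : ℝ) : ℂ) =
      ∑ χ : IrrCharacter G, if χ ∈ cset ψ0 then ((F χ : ℝ) : ℂ) else 0 := by
    intro F
    rw [finsum_mem_eq_finite_toFinset_sum _ (Set.toFinite (cset ψ0)), Complex.ofReal_sum,
      ← Finset.sum_filter]
    apply Finset.sum_congr
    · ext χ
      simp
    · intro χ _; rfl
  constructor
  · apply Complex.ofReal_injective
    rw [hreal]
    have : ∀ χ : IrrCharacter G, (if χ ∈ cset ψ0 then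
        ((Complex.normSq ((χ : G → ℂ) x - (χ : G → ℂ) x') : ℝ) : ℂ) else 0) =
        (if χ ∈ cset ψ0 then (χ : G → ℂ) x * conj ((χ : G → ℂ) x) else 0) +
        (if χ ∈ cset ψ0 then (χ : G → ℂ) x' * conj ((χ : G → ℂ) x') else 0) -
        (if χ ∈ cset ψ0 then (χ : G → ℂ) x * conj ((χ : G → ℂ) x') else 0) -
        (if χ ∈ cset ψ0 then (χ : G → ℂ) x' * conj ((χ : G → ℂ) x) else 0) := by
      intro χ
      split_ifs
      · rw [← Complex.mul_conj, map_sub]
        ring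
      · ring
    rw [Finset.sum_congr rfl (fun χ _ => this χ), Finset.sum_sub_distrib, Finset.sum_sub_distrib,
      Finset.sum_add_distrib, hxx, hx'x', hxx', hx'x]
    push_cast
    ring
  · apply Complex.ofReal_injective
    rw [hreal]
    have : ∀ χ : IrrCharacter G, (if χ ∈ cset ψ0 then
        ((Complex.normSq ((χ : G → ℂ) x + (χ : G → ℂ) x') : ℝ) : ℂ) else 0) =
        (if χ ∈ cset ψ0 then (χ : G → ℂ) x * conj ((χ : G → ℂ) x) else 0) +
        (if χ ∈ cset ψ0 then (χ : G → ℂ) x' * conj ((χ : G → ℂ) x') else 0) +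
        (if χ ∈ cset ψ0 then (χ : G → ℂ) x * conj ((χ : G → ℂ) x') else 0) +
        (if χ ∈ cset ψ0 then (χ : G → ℂ) x' * conj ((χ : G → ℂ) x) else 0) := by
      intro χ
      split_ifs
      · rw [← Complex.mul_conj, map_add]
        ring
      · ring
    rw [Finset.sum_congr rfl (fun χ _ => this χ), Finset.sum_add_distrib, Finset.sum_add_distrib,
      Finset.sum_add_distrib, hxx, hx'x', hxx', hx'x]
    push_cast
    ring

end Cfsg.Agent.Lib.Helper23.BRVICOLSUM
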