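/-
helper23: S4504 (VI) market (`notes/S4504_VI_leaves.lean`), leaf TPOS: the class-multiplication constants twisted by a central
character are bounded by the untwisted ones (which are real and non-negative).
-/
import Mathlib
import Cfsg.Prelude.Def_BlockRank
import Cfsg.Agent.Lib.Helper6.BRHDefs
import Cfsg.Agent.Lib.Helper23.BRVIDefs
import Cfsg.Agent.Lib.Helper23.BRVIZC
import Cfsg.Agent.Lib.Helper23.BRVITCOL
import Cfsg.Agent.Lib.Helper21.ClassMulPos

set_option autoImplicit false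

namespace Cfsg.Agent.Lib.Helper23.BRVITPOS

open Cfsg Cfsg.Agent.Lib.Helper8.DOM Cfsg.Agent.Lib.Helper27.DO Cfsg.Agent.CharLib
open Cfsg.Agent.Lib.Helper6.BRH Cfsg.Agent.Lib.Helper23.BRVI Cfsg.Agent.Lib.Helper23.BRVIZC
open scoped ComplexConjugate

universe u

variable {G : Type u} [Group G] [Finite G]

open Classical in
/-- the twisted constant as an average of the class-multiplication constants over the centre -/
theorem card_mul_tc [Fintype G] [Fintype (IrrCharacter G)] [Fintype (Subgroup.center G)]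
    (ψ0 : IrrCharacter G) (a b y : G) (n : G → ℕ)
    (hn : ∀ g : G, (Nat.card G : ℂ) * ∑ᶠ χ : IrrCharacter G,
      (χ : G → ℂ) a * (χ : G → ℂ) b * conj ((χ : G → ℂ) g) / (χ : G → ℂ) 1 = (n g : ℂ)) :
    (Nat.card G : ℂ) * (Nat.card (Subgroup.center G) : ℂ) * Tc (cset ψ0) a b y =
      ∑ z : Subgroup.center G, omegaHom ψ0 z * (n (y * (z : G)) : ℂ) := by
  have h1 : ∀ z : Subgroup.center G, (n (y * (z : G)) : ℂ) =
      (Nat.card G : ℂ) * ∑ χ : IrrCharacter G, conj (omegaHom χ z) *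
        ((χ : G → ℂ) a * (χ : G → ℂ) b * conj ((χ : G → ℂ) y) / (χ : G → ℂ) 1) := by
    intro z
    rw [← hn (y * (z : G)), finsum_eq_sum_of_fintype]
    congr 1
    apply Finset.sum_congr rfl
    intro χ _
    rw [apply_mul_central' χ z y, map_mul]
    ring
  unfold Tc
  rw [Finset.sum_congr rfl (fun z _ => by rw [h1 z]),
    Cfsg.Agent.Lib.Helper23.BRVITCOL.finsum_mem_eq_sum_ite]
  simp_rw [Finset.mul_sum]
  rw [Finset.sum_comm]
  apply Finset.sum_congr rfl
  intro χ _
  have h2 : ∑ z : Subgroup.center G, omegaHom ψ0 z * ((Nat.card G : ℂ) * (conj (omegaHom χ z) *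
      ((χ : G → ℂ) a * (χ : G → ℂ) b * conj ((χ : G → ℂ) y) / (χ : G → ℂ) 1))) =
      conj (∑ z : Subgroup.center G, omegaHom χ z * conj (omegaHom ψ0 z)) *
        ((Nat.card G : ℂ) *
          ((χ : G → ℂ) a * (χ : G → ℂ) b * conj ((χ : G → ℂ) y) / (χ : G → ℂ) 1)) := by
    rw [map_sum, Finset.sum_mul]
    apply Finset.sum_congr rfl
    intro z _
    rw [map_mul, Complex.conj_conj]
    ring
  rw [h2, sum_omegaHom_mul_conj]
  split_ifs
  · rw [Complex.conj_natCast]
    ring
  · simp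

/-- TPOS : twisted class-multiplication constants are bounded by the untwisted ones, which are real. -/
theorem tc_bound (ψ0 : IrrCharacter G) (a b y : G) :
    ∃ r : ℝ, Tc (cset (trivIrr G)) a b y = (r : ℂ) ∧ ‖Tc (cset ψ0) a b y‖ ≤ r := by
  classical
  let _ : Fintype G := Fintype.ofFinite G
  let _ : Fintype (IrrCharacter G) := Fintype.ofFinite _
  let _ : Fintype (Subgroup.center G) := Fintype.ofFinite _
  choose n hn using fun g => Cfsg.Agent.Lib.Helper21.ClassMulPos.exists_nat_eq a b g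
  have hG0 : (Nat.card G : ℝ) ≠ 0 := Nat.cast_ne_zero.mpr Nat.card_pos.ne'
  have hZ0 : (Nat.card (Subgroup.center G) : ℝ) ≠ 0 := Nat.cast_ne_zero.mpr Nat.card_pos.ne'
  have hGpos : (0 : ℝ) < (Nat.card G : ℝ) := Nat.cast_pos.mpr Nat.card_pos
  have hZpos : (0 : ℝ) < (Nat.card (Subgroup.center G) : ℝ) := Nat.cast_pos.mpr Nat.card_pos
  have hGc : (Nat.card G : ℂ) ≠ 0 := Nat.cast_ne_zero.mpr Nat.card_pos.ne'
  have hZc : (Nat.card (Subgroup.center G) : ℂ) ≠ 0 := Nat.cast_ne_zero.mpr Nat.card_pos.ne'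
  have hk1 := card_mul_tc (trivIrr G) a b y n hn
  have hk0 := card_mul_tc ψ0 a b y n hn
  simp only [omegaHom_trivIrr, one_mul] at hk1
  set N : ℝ := ∑ z : Subgroup.center G, (n (y * (z : G)) : ℝ) with hN
  refine ⟨N / ((Nat.card G : ℝ) * (Nat.card (Subgroup.center G) : ℝ)), ?_, ?_⟩
  · have : ((N : ℝ) : ℂ) = ∑ z : Subgroup.center G, (n (y * (z : G)) : ℂ) := by
      rw [hN]
      push_cast
      rfl
    push_cast
    rw [this, ← hk1]
    field_simp
  · have h3 : Tc (cset ψ0) a b y = (∑ z : Subgroup.center G, omegaHom ψ0 z * (n (y * (z : G)) : ℂ)) /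
        ((Nat.card G : ℂ) * (Nat.card (Subgroup.center G) : ℂ)) := by
      rw [← hk0]
      field_simp
    rw [h3, norm_div, norm_mul, Complex.norm_natCast, Complex.norm_natCast]
    apply div_le_div_of_nonneg_right _ (mul_pos hGpos hZpos).le
    calc ‖∑ z : Subgroup.center G, omegaHom ψ0 z * (n (y * (z : G)) : ℂ)‖
        ≤ ∑ z : Subgroup.center G, ‖omegaHom ψ0 z * (n (y * (z : G)) : ℂ)‖ := norm_sum_le _ _
      _ = N := by
          rw [hN]
          apply Finset.sum_congr rfl
          intro z _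
          rw [norm_mul, norm_omegaHom, one_mul, Complex.norm_natCast]

end Cfsg.Agent.Lib.Helper23.BRVITPOS
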