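import Mathlib
import Cfsg.Agent.Lib.Helper23.GaloisChar
import Cfsg.Agent.Lib.Helper24.GaloisNorm
import Cfsg.Agent.Lib.Lead.CharOrtho

set_option autoImplicit false

namespace Cfsg.Agent.Lib.Helper23.PConj

open Cfsg Cfsg.Agent.CharLib

/-- The kernel of the reduction map `(ZMod n)ˣ → (ZMod m)ˣ` has order `φ(n) / φ(m)`. -/
theorem card_ker_unitsMap {m n : ℕ} [NeZero n] (h : m ∣ n) :
    Nat.card (ZMod.unitsMap h).ker * Nat.totient m = Nat.totient n := by
  haveI : NeZero m := ⟨fun h0 => by subst h0; exact (NeZero.ne n) (Nat.eq_zero_of_zero_dvd h)⟩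
  have hsurj := ZMod.unitsMap_surjective h
  have h1 := Subgroup.card_eq_card_quotient_mul_card_subgroup (ZMod.unitsMap h).ker
  have e := QuotientGroup.quotientKerEquivOfSurjective (ZMod.unitsMap h) hsurj
  rw [Nat.card_congr e.toEquiv] at h1
  rw [Nat.card_eq_fintype_card (α := (ZMod n)ˣ), Nat.card_eq_fintype_card (α := (ZMod m)ˣ),
    ZMod.card_units_eq_totient, ZMod.card_units_eq_totient] at h1
  rw [h1]; ring

theorem mem_ker_unitsMap_iff {m n : ℕ} [NeZero n] (h : m ∣ n) (u : (ZMod n)ˣ) :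
    u ∈ (ZMod.unitsMap h).ker ↔ (u : ZMod n).val ≡ 1 [MOD m] := by
  rw [MonoidHom.mem_ker, Units.ext_iff, ZMod.unitsMap_def, Units.coe_map, Units.val_one]
  show (ZMod.castHom h (ZMod m)) (u : ZMod n) = 1 ↔ _
  rw [ZMod.castHom_apply, ZMod.cast_eq_val, ← Nat.cast_one (R := ZMod m),
    ZMod.natCast_eq_natCast_iff]

section act

variable {G : Type*} [Group G] [Finite G]

theorem pow_val_mul (g : G) (u v : (ZMod (Nat.card G))ˣ) :
    g ^ ((u * v : (ZMod (Nat.card G))ˣ) : ZMod (Nat.card G)).val =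
      (g ^ (u : ZMod (Nat.card G)).val) ^ (v : ZMod (Nat.card G)).val := by
  rw [← pow_mul, Units.val_mul, ZMod.val_mul]
  exact (pow_eq_pow_mod _ pow_card_eq_one').symm

theorem pow_val_one (g : G) :
    g ^ ((1 : (ZMod (Nat.card G))ˣ) : ZMod (Nat.card G)).val = g := by
  rw [Units.val_one, ZMod.val_one_eq_one_mod, ← pow_eq_pow_mod _ pow_card_eq_one', pow_one]

/-- The twist of an irreducible character by a unit of `ZMod |G|`. -/
noncomputable def twist (u : (ZMod (Nat.card G))ˣ) (ψ : IrrCharacter G) : IrrCharacter G :=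
  ⟨fun g => (ψ : G → ℂ) (g ^ (u : ZMod (Nat.card G)).val),
    isIrrCharacter_comp_pow ψ.2 _ (ZMod.val_coe_unit_coprime u)⟩

theorem twist_apply (u : (ZMod (Nat.card G))ˣ) (ψ : IrrCharacter G) (g : G) :
    (twist u ψ : G → ℂ) g = (ψ : G → ℂ) (g ^ (u : ZMod (Nat.card G)).val) := rfl

/-- The action of `(ZMod |G|)ˣ` on the irreducible characters of `G`. -/
@[reducible] noncomputable def powAct (G : Type*) [Group G] [Finite G] :
    MulAction (ZMod (Nat.card G))ˣ (IrrCharacter G) where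
  smul u ψ := twist u ψ
  one_smul ψ := by
    apply Subtype.ext
    funext g
    show (ψ : G → ℂ) (g ^ ((1 : (ZMod (Nat.card G))ˣ) : ZMod (Nat.card G)).val) = _
    rw [pow_val_one]
  mul_smul u v ψ := by
    apply Subtype.ext
    funext g
    show (ψ : G → ℂ) (g ^ ((u * v : (ZMod (Nat.card G))ˣ) : ZMod (Nat.card G)).val) =
      (ψ : G → ℂ) ((g ^ (u : ZMod (Nat.card G)).val) ^ (v : ZMod (Nat.card G)).val)
    rw [pow_val_mul]

end act


section sums

/-- Sum of `μ ^ k` over the `k < n` congruent to `1` modulo `h`, for an `n`-th root of unity. -/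
theorem sum_pow_modEq_one (n h : ℕ) (hh : 2 ≤ h) (hn : h ∣ n) (hn0 : 0 < n) (μ : ℂ) (hμ : μ ^ n = 1) :
    ∑ k ∈ (Finset.range n).filter (fun k => k ≡ 1 [MOD h]), μ ^ k =
      if μ ^ h = 1 then ((n / h : ℕ) : ℂ) * μ else 0 := by
  have hh0 : 0 < h := by omega
  have hnh : n = h * (n / h) := (Nat.mul_div_cancel' hn).symm
  have himg : (Finset.range n).filter (fun k => k ≡ 1 [MOD h]) =
      (Finset.range (n / h)).image (fun t => 1 + h * t) := by
    ext k
    simp only [Finset.mem_filter, Finset.mem_range, Finset.mem_image]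
    constructor
    · rintro ⟨hk, hmod⟩
      have h1 : 1 ≤ k := by
        by_contra hlt
        have hk0 : k = 0 := by omega
        rw [hk0] at hmod
        have := hmod.symm.dvd
        have h2 : (h : ℤ) ∣ 1 := by simpa using this
        have h3 : h ∣ 1 := by exact_mod_cast h2
        have := Nat.le_of_dvd Nat.one_pos h3
        omega
      have h2 : h ∣ k - 1 := (Nat.modEq_iff_dvd' h1).mp hmod.symm
      obtain ⟨t, ht⟩ := h2
      refine ⟨t, ?_, by omega⟩
      have h3 : h * t < h * (n / h) := by rw [← hnh]; omega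
      exact Nat.lt_of_mul_lt_mul_left h3
    · rintro ⟨t, ht, rfl⟩
      constructor
      · have h3 : h * (t + 1) ≤ h * (n / h) := Nat.mul_le_mul_left h ht
        rw [← hnh] at h3
        have : h * (t + 1) = h * t + h := by ring
        omega
      · have : 1 + h * t ≡ 1 + 0 [MOD h] := Nat.ModEq.add_left 1 ((Nat.modEq_zero_iff_dvd).mpr (dvd_mul_right h t))
        simpa using this
  rw [himg, Finset.sum_image]
  · simp_rw [pow_add, pow_one, pow_mul]
    rw [← Finset.mul_sum]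
    have hpow : (μ ^ h) ^ (n / h) = 1 := by rw [← pow_mul, ← hnh]; exact hμ
    split_ifs with h1
    · rw [h1]; simp [mul_comm]
    · rw [geom_sum_eq h1, hpow, sub_self, zero_div, mul_zero]
  · intro x _ y _ hxy
    have hxy' : 1 + h * x = 1 + h * y := hxy
    have : h * x = h * y := by omega
    exact Nat.eq_of_mul_eq_mul_left hh0 this

/-- Sum of `μ ^ u.val` over the kernel of `(ZMod n)ˣ → (ZMod h)ˣ`, when every prime divisor of `n`
divides `h`. -/
theorem sum_ker_unitsMap_pow (n h : ℕ) [NeZero n] (hh : 2 ≤ h) (hn : h ∣ n)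
    [Fintype (ZMod.unitsMap hn).ker] (hrad : ∀ q : ℕ, q.Prime → q ∣ n → q ∣ h) (μ : ℂ) (hμ : μ ^ n = 1) :
    ∑ u : (ZMod.unitsMap hn).ker, μ ^ ((u : (ZMod n)ˣ) : ZMod n).val =
      if μ ^ h = 1 then ((n / h : ℕ) : ℂ) * μ else 0 := by
  have hn0 : 0 < n := Nat.pos_of_ne_zero (NeZero.ne n)
  rw [← sum_pow_modEq_one n h hh hn hn0 μ hμ]
  apply Finset.sum_bij (fun (u : (ZMod.unitsMap hn).ker) _ => ((u : (ZMod n)ˣ) : ZMod n).val)
  · intro u _
    rw [Finset.mem_filter, Finset.mem_range]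
    exact ⟨ZMod.val_lt _, (mem_ker_unitsMap_iff hn _).mp u.2⟩
  · intro u _ v _ huv
    apply Subtype.ext
    apply Units.ext
    exact ZMod.val_injective n huv
  · intro k hk
    rw [Finset.mem_filter, Finset.mem_range] at hk
    have hco : Nat.Coprime k n := by
      apply Nat.coprime_of_dvd
      intro q hq hqk hqn
      have hqh : q ∣ h := hrad q hq hqn
      have h1 : k ≡ 1 [MOD q] := hk.2.of_dvd hqh
      have h2 : k ≡ 0 [MOD q] := (Nat.modEq_zero_iff_dvd).mpr hqk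
      have h3 : (1 : ℕ) ≡ 0 [MOD q] := h1.symm.trans h2
      have h4 : q ∣ 1 := (Nat.modEq_zero_iff_dvd).mp h3
      exact hq.one_lt.ne' (Nat.dvd_one.mp h4)
    have hval : ((ZMod.unitOfCoprime k hco : (ZMod n)ˣ) : ZMod n).val = k := by
      rw [ZMod.coe_unitOfCoprime, ZMod.val_natCast, Nat.mod_eq_of_lt hk.1]
    refine ⟨⟨ZMod.unitOfCoprime k hco, ?_⟩, Finset.mem_univ _, hval⟩
    rw [mem_ker_unitsMap_iff, hval]
    exact hk.2
  · intro u _
    rfl

end sums


section conj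

variable {G : Type*} [Group G] [Finite G]

/-- A ring automorphism of `ℂ` acts on the `n`-th roots of unity as a power map. -/
theorem exists_pow_of_ringEquiv (σ : ℂ ≃+* ℂ) (n : ℕ) [NeZero n] :
    ∃ k : ℕ, k < n ∧ k.Coprime n ∧ ∀ μ : ℂ, μ ^ n = 1 → σ μ = μ ^ k := by
  have hζ : IsPrimitiveRoot (Complex.exp (2 * Real.pi * Complex.I / n)) n :=
    Complex.isPrimitiveRoot_exp n (NeZero.ne n)
  set ζ := Complex.exp (2 * Real.pi * Complex.I / n)
  have hσζ : IsPrimitiveRoot (σ ζ) n := hζ.map_of_injective σ.injective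
  obtain ⟨k, hk, hkζ⟩ := hζ.eq_pow_of_pow_eq_one hσζ.pow_eq_one
  have hco : k.Coprime n := by
    rw [← hkζ] at hσζ
    exact (hζ.pow_iff_coprime (NeZero.pos n) k).mp hσζ
  refine ⟨k, hk, hco, ?_⟩
  intro μ hμ
  obtain ⟨j, -, rfl⟩ := hζ.eq_pow_of_pow_eq_one hμ
  rw [map_pow, ← hkζ, ← pow_mul, ← pow_mul, mul_comm]

theorem ringEquiv_apply_char {χ : G → ℂ} (hχ : IsCharacter G χ) (σ : ℂ ≃+* ℂ) (k : ℕ)
    (hσ : ∀ μ : ℂ, μ ^ Nat.card G = 1 → σ μ = μ ^ k) (g : G) : σ (χ g) = χ (g ^ k) := by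
  obtain ⟨n, ρ, rfl⟩ := hχ
  obtain ⟨ι, hι, μ, h1, h2, h3, h4⟩ := Cfsg.Agent.Lib.Helper24.exists_roots_char_pow ρ g
  have h5 : ρ.character g = ∑ i, μ i := by simpa using h4 1
  rw [h5, map_sum, h4 k]
  apply Finset.sum_congr rfl
  intro i _
  apply hσ
  obtain ⟨c, hc⟩ := orderOf_dvd_natCard g
  rw [hc, pow_mul, h1 i, one_pow]

theorem primitiveRoot_pow_eq_pow_iff {ζ : ℂ} {h : ℕ} (hh : 0 < h) (hζ : IsPrimitiveRoot ζ h) (a b : ℕ) :
    ζ ^ a = ζ ^ b ↔ a ≡ b [MOD h] := by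
  rw [pow_eq_pow_mod a hζ.pow_eq_one, pow_eq_pow_mod b hζ.pow_eq_one]
  constructor
  · intro H
    exact hζ.pow_inj (Nat.mod_lt _ hh) (Nat.mod_lt _ hh) H
  · intro H
    have : a % h = b % h := H
    rw [this]

/-- The characters obtained from `χ` by a field automorphism fixing the `h`-th roots of unity are
the twists of `χ` by the units congruent to `1` modulo `h`. -/
theorem pConj_iff (χ ψ : IrrCharacter G) (h : ℕ) (hpos : 0 < h) (hdvd : h ∣ Nat.card G) :
    (∃ σ : ℂ ≃+* ℂ, σ (Complex.exp (2 * Real.pi * Complex.I / h)) =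
        Complex.exp (2 * Real.pi * Complex.I / h) ∧
        (ψ : G → ℂ) = fun g => σ ((χ : G → ℂ) g)) ↔
      ∃ u : (ZMod (Nat.card G))ˣ, u ∈ (ZMod.unitsMap hdvd).ker ∧ ψ = twist u χ := by
  haveI : NeZero (Nat.card G) := ⟨Nat.card_pos.ne'⟩
  have hζ : IsPrimitiveRoot (Complex.exp (2 * Real.pi * Complex.I / h)) h :=
    Complex.isPrimitiveRoot_exp h hpos.ne'
  set ζ := Complex.exp (2 * Real.pi * Complex.I / h)
  have hζn : ζ ^ Nat.card G = 1 := by
    obtain ⟨c, hc⟩ := hdvd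
    rw [hc, pow_mul, hζ.pow_eq_one, one_pow]
  constructor
  · rintro ⟨σ, hσζ, hψ⟩
    obtain ⟨k, hk, hco, hσ⟩ := exists_pow_of_ringEquiv σ (Nat.card G)
    have hval : ((ZMod.unitOfCoprime k hco : (ZMod (Nat.card G))ˣ) : ZMod (Nat.card G)).val = k := by
      rw [ZMod.coe_unitOfCoprime, ZMod.val_natCast, Nat.mod_eq_of_lt hk]
    refine ⟨ZMod.unitOfCoprime k hco, ?_, ?_⟩
    · rw [mem_ker_unitsMap_iff, hval]
      have h1 : ζ ^ k = ζ ^ 1 := by rw [← hσ ζ hζn, hσζ, pow_one]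
      exact (primitiveRoot_pow_eq_pow_iff hpos hζ k 1).mp h1
    · apply Subtype.ext
      funext g
      rw [hψ, twist_apply, hval]
      exact ringEquiv_apply_char (IsIrrCharacter.isCharacter χ.2) σ k hσ g
  · rintro ⟨u, hu, hψ⟩
    have hco : Nat.Coprime ((u : ZMod (Nat.card G)).val) (Nat.card G) := ZMod.val_coe_unit_coprime u
    obtain ⟨τ, hτ⟩ := exists_ringEquiv_complex_pow (Nat.card G) _ hco
    refine ⟨τ, ?_, ?_⟩
    · rw [hτ ζ hζn]
      have h1 := (mem_ker_unitsMap_iff hdvd u).mp hu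
      have h2 : ζ ^ (u : ZMod (Nat.card G)).val = ζ ^ 1 :=
        (primitiveRoot_pow_eq_pow_iff hpos hζ _ 1).mpr h1
      rw [h2, pow_one]
    · funext g
      rw [hψ, twist_apply]
      exact (ringEquiv_apply_char (IsIrrCharacter.isCharacter χ.2) τ _ hτ g).symm

end conj

end Cfsg.Agent.Lib.Helper23.PConj
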