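/-
helper23: S4892 (planner helper23): the power-map form of `p`-rationality.
-/
import Mathlib

set_option autoImplicit false

namespace Cfsg.Agent.Lib.Helper23.PRat

/-- `χ` is `p`-rational relative to the level `n` (a multiple of the group order): it is fixed by
the power maps `x ↦ x ^ k` for `k` coprime to `n` with `k ≡ 1` modulo the `p'`-part of `n`
(these realise the Galois group of `ℚ(ζ_n)` over `ℚ(ζ_{n_{p'}})`). -/
def PRat (p n : ℕ) {X : Type*} [Group X] (χ : X → ℂ) : Prop :=
  ∀ k : ℕ, k.Coprime n → k ≡ 1 [MOD n / p ^ n.factorization p] → ∀ x : X, χ (x ^ k) = χ x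

end Cfsg.Agent.Lib.Helper23.PRat
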