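/-
helper23: general lemmas on kernels and p'-degree constituents, for S4591
(Navarro: the intersection of the kernels of the p'-degree irreducible characters).
-/
import Mathlib
import Cfsg.Agent.Lib.Lead.CharInd
import Cfsg.Agent.Lib.Lead.CharMain
import Cfsg.Agent.Lib.Lead.CharBurnside
import Cfsg.Agent.Lib.Helper6.CharExtra
import Cfsg.Agent.Lib.Helper10.GenOrtho
import Cfsg.Agent.Lib.Helper24.IrrFacts
import Cfsg.Agent.Lib.Helper25.Gagola

set_option autoImplicit false

namespace Cfsg.Agent.Lib.Helper23.PPrimeKer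

open Cfsg Cfsg.Agent.CharLib Cfsg.Agent.Lib.Helper24 Cfsg.Agent.Lib.Helper25 Cfsg.Agent.Lib.Helper6
open scoped ComplexConjugate

universe u
variable {G : Type u} [Group G]

/-- Elements of the kernel of an irreducible character act trivially. -/
theorem apply_mul_of_mem_irrKer [Finite G] (χ : IrrCharacter G) {x : G} (hx : x ∈ irrKer χ) (g : G) :
    (χ : G → ℂ) (x * g) = (χ : G → ℂ) g := by
  rw [mem_irrKer] at hx
  obtain ⟨χf, n, ρ, hirr, rfl⟩ := χ
  have h1 : ρ x = 1 := by
    apply rep_eq_one_of_char_eq_finrank ρ x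
    rw [show ρ.character x = ρ.character 1 from hx, Representation.char_one]
  show ρ.character (x * g) = ρ.character g
  simp only [Representation.character, map_mul, h1, one_mul]

/-- A character whose degree is prime to `p` has an irreducible constituent of degree prime to
`p`. -/
theorem exists_irr_constituent_not_dvd [Fintype G] (p : ℕ) {Φ : G → ℂ} (hΦ : IsCharacter G Φ)
    {D : ℕ} (hD : Φ 1 = D) (hp : ¬ p ∣ D) :
    ∃ χ : IrrCharacter G, ¬ p ∣ charDegree (χ : G → ℂ) ∧ classInner Φ (χ : G → ℂ) ≠ 0 := by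
  classical
  let _ := fintypeIrr G
  obtain ⟨m, hm, hcoef⟩ := IsCharacter.exists_decomp_sum hΦ
  by_contra hcon
  push Not at hcon
  apply hp
  have h1 : (D : ℂ) = ((∑ ψ : IrrCharacter G, m ψ * charDegree (ψ : G → ℂ) : ℕ) : ℂ) := by
    rw [← hD]
    conv_lhs => rw [hm]
    rw [Finset.sum_apply]
    push_cast
    apply Finset.sum_congr rfl
    intro ψ _
    rw [Pi.smul_apply, irr_apply_one, nsmul_eq_mul]
  have h2 : D = ∑ ψ : IrrCharacter G, m ψ * charDegree (ψ : G → ℂ) := by exact_mod_cast h1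
  rw [h2]
  apply Finset.dvd_sum
  intro ψ _
  by_cases h0 : m ψ = 0
  · rw [h0, zero_mul]; exact dvd_zero _
  · apply Dvd.dvd.mul_left
    by_contra hnd
    have h3 := hcon ψ hnd
    rw [hcoef ψ] at h3
    exact h0 (by exact_mod_cast h3)

/-- Kernel elements of `χ` lie in the kernel of every irreducible constituent of a restriction
of `χ`. -/
theorem constituent_apply_eq_of_mem_irrKer [Fintype G] (χ : IrrCharacter G) (H : Subgroup G)
    [Fintype H] (ψ : IrrCharacter H)
    (hψ : classInner (fun h : H => (χ : G → ℂ) h) (ψ : H → ℂ) ≠ 0) {x : H}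
    (hx : (x : G) ∈ irrKer χ) : (ψ : H → ℂ) x = (ψ : H → ℂ) 1 := by
  classical
  let _ := fintypeIrr H
  have hΦ : IsCharacter H (fun h : H => (χ : G → ℂ) h) :=
    IsCharacter.restrict (IsIrrCharacter.isCharacter χ.2) H
  obtain ⟨m, hm, hcoef⟩ := IsCharacter.exists_decomp_sum hΦ
  have hx' : (χ : G → ℂ) (x : G) = (χ : G → ℂ) 1 := (mem_irrKer χ _).mp hx
  have e1 : (χ : G → ℂ) (x : G) = ∑ μ : IrrCharacter H, (m μ : ℂ) * (μ : H → ℂ) x := by
    have := congrFun hm x
    simp only [Finset.sum_apply, Pi.smul_apply, nsmul_eq_mul] at this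
    exact this
  have e2 : (χ : G → ℂ) 1 = ∑ μ : IrrCharacter H, (m μ : ℂ) * (μ : H → ℂ) 1 := by
    have := congrFun hm 1
    simp only [Finset.sum_apply, Pi.smul_apply, nsmul_eq_mul] at this
    exact this
  have hsum : ∑ μ : IrrCharacter H, (m μ : ℝ) * ((charDegree (μ : H → ℂ) : ℝ) - ((μ : H → ℂ) x).re) = 0 := by
    have h3 : ∑ μ : IrrCharacter H, (m μ : ℂ) * ((μ : H → ℂ) 1 - (μ : H → ℂ) x) = 0 := by
      simp only [mul_sub, Finset.sum_sub_distrib]
      rw [← e1, ← e2, hx', sub_self]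
    have h4 := congrArg Complex.re h3
    rw [Complex.re_sum, Complex.zero_re] at h4
    rw [← h4]
    apply Finset.sum_congr rfl
    intro μ _
    rw [irr_apply_one]
    simp [Complex.mul_re]
  have hle : ∀ μ : IrrCharacter H, ((μ : H → ℂ) x).re ≤ (charDegree (μ : H → ℂ) : ℝ) := by
    intro μ
    have h5 := Cfsg.Agent.Lib.Helper10.irr_norm_le μ.2 x
    rw [irr_apply_one] at h5
    have h6 : ‖((charDegree (μ : H → ℂ) : ℕ) : ℂ)‖ = (charDegree (μ : H → ℂ) : ℝ) := by
      simp
    rw [h6] at h5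
    exact le_trans (Complex.re_le_norm _) h5
  have hterm := (Finset.sum_eq_zero_iff_of_nonneg (fun μ _ =>
    mul_nonneg (Nat.cast_nonneg _) (sub_nonneg.mpr (hle μ)))).mp hsum ψ (Finset.mem_univ _)
  have hm0 : (m ψ : ℝ) ≠ 0 := by
    have := hcoef ψ
    intro h0
    apply hψ
    rw [this]
    have : m ψ = 0 := by exact_mod_cast h0
    rw [this, Nat.cast_zero]
  have hre : ((ψ : H → ℂ) x).re = (charDegree (ψ : H → ℂ) : ℝ) := by
    rcases mul_eq_zero.mp hterm with h | h
    · exact absurd h hm0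
    · linarith
  have hnorm : ‖(ψ : H → ℂ) x‖ ≤ (charDegree (ψ : H → ℂ) : ℝ) := by
    have h5 := Cfsg.Agent.Lib.Helper10.irr_norm_le ψ.2 x
    rw [irr_apply_one] at h5
    simpa using h5
  rw [irr_apply_one]
  apply Complex.ext
  · simpa using hre
  · have h7 := Complex.sq_norm ((ψ : H → ℂ) x)
    rw [Complex.normSq_apply] at h7
    have h8 : ‖(ψ : H → ℂ) x‖ ^ 2 ≤ (charDegree (ψ : H → ℂ) : ℝ) ^ 2 :=
      pow_le_pow_left₀ (norm_nonneg _) hnorm 2
    rw [h7, hre] at h8
    have h9 : ((ψ : H → ℂ) x).im * ((ψ : H → ℂ) x).im ≤ 0 := by nlinarith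
    have h10 : ((ψ : H → ℂ) x).im = 0 := by nlinarith [mul_self_nonneg ((ψ : H → ℂ) x).im]
    simpa using h10

/-- A `p'`-degree irreducible character of a subgroup of `p'`-index lies under a `p'`-degree
irreducible character of the group. -/
theorem exists_irr_over_not_dvd [Fintype G] (p : ℕ) (hp : p.Prime) (H : Subgroup G) [Fintype H]
    (hidx : ¬ p ∣ H.index) (ψ : IrrCharacter H) (hψ : ¬ p ∣ charDegree (ψ : H → ℂ)) :
    ∃ χ : IrrCharacter G, ¬ p ∣ charDegree (χ : G → ℂ) ∧
      classInner (fun h : H => (χ : G → ℂ) h) (ψ : H → ℂ) ≠ 0 := by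
  have hΦ : IsCharacter G (indFun H (ψ : H → ℂ)) :=
    IsCharacter.indFun H (IsIrrCharacter.isCharacter ψ.2)
  have hdeg : indFun H (ψ : H → ℂ) 1 = ((H.index * charDegree (ψ : H → ℂ) : ℕ) : ℂ) := by
    rw [indFun_apply_one, irr_apply_one]
    have hH : (Nat.card H : ℂ) ≠ 0 := by
      have : Nat.card H ≠ 0 := Nat.card_pos.ne'
      exact_mod_cast this
    have hc : (Nat.card G : ℂ) = (H.index : ℂ) * (Nat.card H : ℂ) := by
      rw [← H.index_mul_card]; push_cast; ring
    rw [hc]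
    push_cast
    field_simp
  have hnd : ¬ p ∣ H.index * charDegree (ψ : H → ℂ) := by
    intro h
    rcases hp.dvd_mul.mp h with h | h
    · exact hidx h
    · exact hψ h
  obtain ⟨χ, hχ, hne⟩ := exists_irr_constituent_not_dvd p hΦ hdeg hnd
  refine ⟨χ, hχ, ?_⟩
  rw [frobenius_reciprocity H _ (IsCharacter.isClassFunction (IsIrrCharacter.isCharacter χ.2))] at hne
  intro h0
  apply hne
  rw [← Cfsg.Agent.CharLib.classInner_conj_symm, h0, map_zero]

/-- The restriction of a `p'`-degree irreducible character to a subgroup has a `p'`-degree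
irreducible constituent. -/
theorem exists_irr_res_not_dvd [Fintype G] (p : ℕ) (χ : IrrCharacter G)
    (hχ : ¬ p ∣ charDegree (χ : G → ℂ)) (H : Subgroup G) [Fintype H] :
    ∃ ψ : IrrCharacter H, ¬ p ∣ charDegree (ψ : H → ℂ) ∧
      classInner (fun h : H => (χ : G → ℂ) h) (ψ : H → ℂ) ≠ 0 := by
  have hΦ : IsCharacter H (fun h : H => (χ : G → ℂ) h) :=
    IsCharacter.restrict (IsIrrCharacter.isCharacter χ.2) H
  have hdeg : (fun h : H => (χ : G → ℂ) h) 1 = ((charDegree (χ : G → ℂ) : ℕ) : ℂ) := by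
    show (χ : G → ℂ) ((1 : H) : G) = _
    rw [Subgroup.coe_one, irr_apply_one]
  exact exists_irr_constituent_not_dvd p hΦ hdeg hχ

end Cfsg.Agent.Lib.Helper23.PPrimeKer
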