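/-
helper23: leaf (FD) of S4885/S4886 (planner helper14): a `q'`-degree character of the principal
`q`-block not containing all `q`-elements in its kernel.
-/
import Mathlib
import Cfsg.Prelude.Def_Blocks
import Cfsg.Prelude.Def_Local
import Cfsg.Agent.Lib.Helper24.FongPrincipal
import Cfsg.Agent.Lib.Helper25.Inflate
import Cfsg.Agent.Lib.Helper23.PPrimeKerA
import Cfsg.Agent.Lib.Helper6.LinChar
import Cfsg.Agent.Lib.Lead.CharOrtho

set_option autoImplicit false

namespace Cfsg.Agent.Lib.Helper23.TP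

open Cfsg Cfsg.Agent.CharLib Cfsg.Agent.Lib.Helper6

universe u

section final
variable {G : Type u} [Group G] [Finite G]

/-- a nontrivial finite `q`-group has a nontrivial linear character -/
theorem exists_hom_ne_one {H : Type u} [Group H] [Finite H] [Nontrivial H] {q : ℕ}
    [Fact q.Prime] (hH : IsPGroup q H) : ∃ φ : H →* ℂˣ, φ ≠ 1 := by
  have h1 : Nat.card (H →* ℂˣ) = (commutator H).index := card_hom_units
  have : Group.IsNilpotent H := hH.isNilpotent
  have h2 : commutator H ≠ ⊤ := (Group.IsSolvable.commutator_lt_top_of_nontrivial H).ne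
  have h3 : (commutator H).index ≠ 1 := fun h => h2 (Subgroup.index_eq_one.mp h)
  have h4 : (commutator H).index ≠ 0 := Subgroup.index_ne_zero_of_finite
  have h5 : 1 < Nat.card (H →* ℂˣ) := by omega
  have : Finite (H →* ℂˣ) := Nat.finite_of_card_ne_zero (by omega)
  have h6 : Nontrivial (H →* ℂˣ) := Finite.one_lt_card_iff_nontrivial.mp h5
  exact exists_ne 1

/-- (FD) if `q ∣ |G|` (`G` `q`-solvable) the principal `q`-block contains a character of
`q'`-degree not containing all `q`-elements in its kernel. -/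
theorem exists_qprime_principal_nontrivial (q : ℕ) [Fact q.Prime] (Mq : Ideal AlgInt)
    (hMq : IsPModular q Mq) (hqs : IsPSolvable q G) (hq : q ∣ Nat.card G) :
    ∃ χ : IrrCharacter G, χ ∈ principalBlock Mq G ∧ ¬ q ∣ charDegree (χ : G → ℂ) ∧
      ∃ y : G, (∃ k : ℕ, orderOf y = q ^ k) ∧ (χ : G → ℂ) y ≠ (χ : G → ℂ) 1 := by
  classical
  have hqp : q.Prime := Fact.out
  have hN : (pPrimeCore q G).Normal := Cfsg.Agent.Lib.Helper24.pPrimeCore_normal' q
  obtain ⟨N, hNdef⟩ : ∃ N : Subgroup G, N = pPrimeCore q G := ⟨_, rfl⟩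
  have hNn : N.Normal := hNdef ▸ hN
  have hNco : (Nat.card N).Coprime q := hNdef ▸ Cfsg.Agent.Lib.Helper12.pPrimeCore_coprime (X := G) q
  obtain ⟨Q⟩ : Nonempty (Sylow q G) := inferInstance
  have hQne : (Q : Subgroup G) ≠ ⊥ := Q.ne_bot_of_dvd_card hq
  have hQN : (Q : Subgroup G) ⊓ N = ⊥ := by
    rw [← disjoint_iff]
    apply Subgroup.disjoint_of_coprime_natCard
    obtain ⟨k, hk⟩ := IsPGroup.iff_card.mp Q.2
    rw [hk]
    exact (Nat.Coprime.pow_left k hNco.symm)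
  obtain ⟨Hb, hHb⟩ : ∃ Hb : Subgroup (G ⧸ N), Hb = (Q : Subgroup G).map (QuotientGroup.mk' N) :=
    ⟨_, rfl⟩
  have : Fintype (G ⧸ N) := Fintype.ofFinite _
  have : Fintype Hb := Fintype.ofFinite _
  have hidx : ¬ q ∣ Hb.index := by
    intro h
    apply Q.not_dvd_index
    rw [hHb] at h
    exact h.trans (Subgroup.index_map_dvd _ (QuotientGroup.mk'_surjective N))
  have hHbp : IsPGroup q Hb := by
    rw [hHb]
    exact Q.2.map _
  have : Nontrivial Hb := by
    rw [Subgroup.nontrivial_iff_ne_bot, hHb]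
    intro h
    apply hQne
    rw [eq_bot_iff]
    intro x hx
    have h1 : QuotientGroup.mk' N x ∈ (Q : Subgroup G).map (QuotientGroup.mk' N) :=
      Subgroup.mem_map_of_mem _ hx
    rw [h, Subgroup.mem_bot, QuotientGroup.mk'_apply, QuotientGroup.eq_one_iff] at h1
    rw [← hQN]
    exact ⟨hx, h1⟩
  obtain ⟨φ, hφ⟩ := exists_hom_ne_one hHbp
  let lam : IrrCharacter Hb := ⟨fun x => ((φ x : ℂˣ) : ℂ), isIrrCharacter_of_hom φ⟩
  have hlamdeg : ¬ q ∣ charDegree (lam : Hb → ℂ) := by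
    have : charDegree (lam : Hb → ℂ) = 1 := by
      show ⌊((((φ 1 : ℂˣ) : ℂ))).re⌋₊ = 1
      simp
    rw [this]
    exact hqp.one_lt.ne' ∘ Nat.dvd_one.mp
  obtain ⟨χb, hχbdeg, hχblam⟩ :=
    Cfsg.Agent.Lib.Helper23.PPrimeKer.exists_irr_over_not_dvd q hqp Hb hidx lam hlamdeg
  -- some element of `Hb` is outside the kernel of `χb`
  have hex : ∃ yb : Hb, (χb : G ⧸ N → ℂ) yb ≠ (χb : G ⧸ N → ℂ) 1 := by
    by_contra hcon
    push Not at hcon
    apply hχblam
    have htriv : IsIrrCharacter Hb (fun x => (((1 : Hb →* ℂˣ) x : ℂˣ) : ℂ)) :=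
      isIrrCharacter_of_hom 1
    have h0 := classInner_irr htriv lam.2
    have hne : (fun x : Hb => (((1 : Hb →* ℂˣ) x : ℂˣ) : ℂ)) ≠ (lam : Hb → ℂ) := by
      intro h
      apply hφ
      ext x
      have h2 := congrFun h x
      change (((1 : Hb →* ℂˣ) x : ℂˣ) : ℂ) = ((φ x : ℂˣ) : ℂ) at h2
      exact_mod_cast h2.symm
    rw [if_neg hne] at h0
    have h1 : (fun h : Hb => (χb : G ⧸ N → ℂ) h) =
        fun h : Hb => (χb : G ⧸ N → ℂ) 1 * (((1 : Hb →* ℂˣ) h : ℂˣ) : ℂ) := by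
      funext h
      rw [hcon h]
      simp
    rw [h1]
    unfold classInner at h0 ⊢
    simp only [mul_assoc, ← Finset.mul_sum] at h0 ⊢
    rw [mul_left_comm, h0, mul_zero]
  obtain ⟨yb, hyb⟩ := hex
  have hmem : ∀ z ∈ Hb, ∃ y ∈ (Q : Subgroup G), QuotientGroup.mk' N y = z := by
    rw [hHb]
    intro z hz
    exact Subgroup.mem_map.mp hz
  obtain ⟨y, hyQ, hy⟩ := hmem yb.1 yb.2
  refine ⟨Cfsg.Agent.Lib.Helper25.inflateIrr N χb, ?_, ?_, y, ?_, ?_⟩
  · rw [Cfsg.Agent.Lib.Helper24.mem_principalBlock_iff_of_isPSolvable hMq hqs]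
    intro k hk
    exact Cfsg.Agent.Lib.Helper25.inflateIrr_mem_ker N χb k (hNdef ▸ hk)
  · have : charDegree (Cfsg.Agent.Lib.Helper25.inflateIrr N χb : G → ℂ)
        = charDegree (χb : G ⧸ N → ℂ) := by
      unfold charDegree
      rw [Cfsg.Agent.Lib.Helper25.inflateIrr_apply, QuotientGroup.mk_one]
    rw [this]
    exact hχbdeg
  · obtain ⟨k, hk⟩ := (IsPGroup.iff_orderOf.mp Q.2) ⟨y, hyQ⟩
    refine ⟨k, ?_⟩
    rw [← hk, ← Subgroup.orderOf_coe]
  · rw [Cfsg.Agent.Lib.Helper25.inflateIrr_apply, Cfsg.Agent.Lib.Helper25.inflateIrr_apply,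
      QuotientGroup.mk_one]
    have h2 : ((y : G) : G ⧸ N) = yb.1 := hy
    rw [h2]
    exact hyb

end final

end Cfsg.Agent.Lib.Helper23.TP
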