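import Mathlib
import Cfsg.Agent.Lib.Helper5.TWU.Defs
import Cfsg.Agent.Lib.Helper5.UForm
import Cfsg.Agent.Lib.Helper8.TW.Defs
import Cfsg.Agent.Lib.Helper22.TWExtBasic
import Cfsg.Agent.Lib.Helper22.TWExtMore
import Cfsg.Agent.Lib.Helper23.TWUT3
import Cfsg.Agent.Lib.Helper23.TWUIUT1
import Cfsg.Agent.Lib.Helper23.TWU3A1
import Cfsg.Agent.Lib.Helper26.TWFibA
import Cfsg.Agent.Lib.Helper14.TWIIDefs
import Cfsg.Agent.Lib.Helper14.TWIIBBK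
import Cfsg.Agent.Lib.Helper14.TWUIIDefs
import Cfsg.Agent.Lib.Helper28.TWIIBE

/-!
# S5672 (C7 unitary; owner helper5), Stage II (sub-planner helper14): leaf R6 `U3_normal` (UNITARY NORMAL FORM)

A similitude `g' = (α ⊗ γ) z` (`α y = y`, `z ∈ Z_W` form-free) can be rewritten with `α₁ ∈ Δ(A)`,
`z₁ = 1 + θ ⊗ y y† ∈ GU(V)`.  Exact signature of `notes/S5672_II_leaves.lean`.
-/

set_option autoImplicit false
set_option linter.unusedSectionVars false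
set_option linter.unusedVariables false

namespace Cfsg.Agent.Lib.Helper23.TWUIILeaf
open Matrix Cfsg.Geo Cfsg.Agent.Lib.Helper18.AschA89 Cfsg.Agent.Lib.Helper8.TW Cfsg.Agent.Lib.Helper5.TWU
  Cfsg.Agent.Lib.Helper14.TWII Cfsg.Agent.Lib.Helper14.TWUII
open Cfsg.Agent.Lib.Helper20.UT (hv)
open Cfsg.Agent.Lib.Helper23.TWUQ (NSp)

variable {F : Type*} [Field F] [Fintype F] {t k q : ℕ}

/-! ### local tools: linearity of `tens`, root nilpotents on pure tensors, matrices by pure tensors -/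

lemma u3_tens_add_r (i : Fin (t + 1)) (b : Idx t k → F) (a a' : Fin k → F) :
    tens i b (a + a') = tens i b a + tens i b a' := by
  funext x
  simp only [tens, Pi.add_apply]
  ring

lemma u3_tens_smul_r (i : Fin (t + 1)) (b : Idx t k → F) (c : F) (a : Fin k → F) :
    tens i b (c • a) = c • tens i b a := by
  funext x
  simp only [tens, Pi.smul_apply, smul_eq_mul]
  ring

lemma u3_tens_add_l (i : Fin (t + 1)) (b b' : Idx t k → F) (a : Fin k → F) :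
    tens i (b + b') a = tens i b a + tens i b' a := by
  funext x
  simp only [tens, Pi.add_apply]
  ring

lemma u3_tens_smul_l (i : Fin (t + 1)) (c : F) (b : Idx t k → F) (a : Fin k → F) :
    tens i (c • b) a = c • tens i b a := by
  funext x
  simp only [tens, Pi.smul_apply, smul_eq_mul]
  ring

lemma u3_rootN_tens (i : Fin (t + 1)) (y η : Fin k → F) (b : Idx t k → F) (a : Fin k → F) :
    rootN i y η *ᵥ tens i b a = (η ⬝ᵥ a) • tens i b y := by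
  unfold rootN
  rw [Cfsg.Agent.Lib.Helper22.TWLeaf.slot_mulVec_tens, ← u3_tens_smul_r]
  congr 1
  funext c
  simp only [Matrix.mulVec, dotProduct, Matrix.vecMulVec_apply, Pi.smul_apply, smul_eq_mul]
  rw [Finset.sum_mul]
  apply Finset.sum_congr rfl
  intro d _
  ring

/-- two matrices agreeing on all pure tensors are equal -/
lemma u3_mat_eq_of_tens (i : Fin (t + 1)) {M M' : Matrix (Idx (t + 1) k) (Idx (t + 1) k) F}
    (h : ∀ b a, M *ᵥ tens i b a = M' *ᵥ tens i b a) : M = M' := by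
  classical
  apply Cfsg.Agent.Lib.Helper22.TWLeaf.mat_ext_ins i
  intro a b u u'
  have h1 := congrFun (h (Pi.single u' 1) (eo b)) (ins i a u)
  rw [Cfsg.Agent.Lib.Helper14.TWIIBLeaf.tens_single_eo, Matrix.mulVec_single_one, Matrix.mulVec_single_one] at h1
  exact h1

lemma u3_ctr_sub (i : Fin (t + 1)) (ξ : Fin k → F) (v w : Idx (t + 1) k → F) :
    ctr i ξ (v - w) = ctr i ξ v - ctr i ξ w := by
  funext u
  simp only [ctr, Pi.sub_apply]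
  rw [← Finset.sum_sub_distrib]
  apply Finset.sum_congr rfl
  intro a _
  ring

lemma u3_dag_dot (w a : Fin k → F) : dag q w ⬝ᵥ a = hv q a w := by
  rw [Cfsg.Agent.Lib.Helper20.UT.hv_eq_dot]

lemma u3_hv_single_self {κ : Type} [Fintype κ] [DecidableEq κ] (hq : q ≠ 0) (p : κ) :
    hv q (Pi.single p (1 : F)) (Pi.single p (1 : F)) = 1 := by
  rw [Cfsg.Agent.Lib.Helper23.TWUT.hv_single_right hq, Pi.single_eq_same]


lemma u3_vmv (y ξ a : Fin k → F) : Matrix.vecMulVec y ξ *ᵥ a = (ξ ⬝ᵥ a) • y := by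
  funext c
  simp only [Matrix.mulVec, dotProduct, Matrix.vecMulVec_apply, Pi.smul_apply, smul_eq_mul]
  rw [Finset.sum_mul]
  apply Finset.sum_congr rfl
  intro d _
  ring

lemma u3_adjM_add {κ : Type} (hF : Fintype.card F = q ^ 2) (A B : Matrix κ κ F) :
    Cfsg.Agent.Lib.Helper23.TWUT.adjM q (A + B) =
      Cfsg.Agent.Lib.Helper23.TWUT.adjM q A + Cfsg.Agent.Lib.Helper23.TWUT.adjM q B := by
  funext a b
  simp only [Cfsg.Agent.Lib.Helper23.TWUT.adjM_apply, Matrix.add_apply]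
  exact Cfsg.Agent.Lib.Helper20.UT.add_pow_q hF _ _

lemma u3_ext_neg (i : Fin (t + 1)) (θ : Matrix (Idx t k) (Idx t k) F) : ext i (-θ) = -ext i θ := by
  rw [← neg_one_smul F θ, Cfsg.Agent.Lib.Helper28.TWIIBLeaf.ext_smul28, neg_one_smul]

/-! ### the context -/

/-- the data of `U3_normal` -/
structure U3Ctx (F : Type*) [Field F] [Fintype F] (t k q : ℕ) where
  i : Fin (t + 1)
  y : Fin k → F
  φ : Fin k → F
  y' : Fin k → F
  p₀ : Idx t k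
  P₀ : Idx (t + 1) k
  α : GL (Fin k) F
  γ : GL (Idx t k) F
  z : GL (Idx (t + 1) k) F
  g' : GL (Idx (t + 1) k) F
  μ : F
  hF : Fintype.card F = q ^ 2
  hy0 : y ≠ 0
  hy : hv q y y = 0
  hφ : φ ⬝ᵥ y = 1
  hy'1 : hv q y' y = 1
  hα : (α : Matrix (Fin k) (Fin k) F) *ᵥ y = y
  hz : InZ i y z
  hg : g' = slotGL i α * extGL i γ * z
  hμ0 : μ ≠ 0
  hsim : ∀ u v, hv q ((g' : Matrix (Idx (t + 1) k) (Idx (t + 1) k) F) *ᵥ u)
    ((g' : Matrix (Idx (t + 1) k) (Idx (t + 1) k) F) *ᵥ v) = μ * hv q u v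

namespace U3Ctx
variable (C : U3Ctx F t k q)

/-- the operator `D_a` of `z`: `z (b ⊗ a) = b ⊗ a + (D_a b) ⊗ y` -/
def D (a : Fin k → F) (b : Idx t k → F) : Idx t k → F :=
  ctr C.i C.φ (((C.z : Matrix (Idx (t + 1) k) (Idx (t + 1) k) F) - 1) *ᵥ tens C.i b a)

lemma z_tens (a : Fin k → F) (b : Idx t k → F) :
    (C.z : Matrix (Idx (t + 1) k) (Idx (t + 1) k) F) *ᵥ tens C.i b a = tens C.i b a + tens C.i (C.D a b) C.y := by
  have h1 := C.hz.1 (tens C.i b a)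
  rw [Cfsg.Agent.Lib.Helper22.TWLeaf.mem_Wf_iff_tens C.i C.y C.hy0] at h1
  obtain ⟨b₀, hb₀⟩ := h1
  have hb₀' : (C.z : Matrix (Idx (t + 1) k) (Idx (t + 1) k) F) *ᵥ tens C.i b a - tens C.i b a = tens C.i b₀ C.y := hb₀
  have h2 : C.D a b = b₀ := by
    unfold D
    rw [Matrix.sub_mulVec, Matrix.one_mulVec, hb₀', Cfsg.Agent.Lib.Helper22.TWLeaf.ctr_tens, C.hφ, one_smul]
  rw [h2, ← hb₀']
  abel

lemma D_add_l (a a' : Fin k → F) (b : Idx t k → F) : C.D (a + a') b = C.D a b + C.D a' b := by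
  unfold D
  rw [u3_tens_add_r, Matrix.mulVec_add, Cfsg.Agent.Lib.Helper22.TWLeaf.ctr_add]

lemma D_smul_l (c : F) (a : Fin k → F) (b : Idx t k → F) : C.D (c • a) b = c • C.D a b := by
  unfold D
  rw [u3_tens_smul_r, Matrix.mulVec_smul, Cfsg.Agent.Lib.Helper22.TWLeaf.ctr_smul]

lemma D_add_r (a : Fin k → F) (b b' : Idx t k → F) : C.D a (b + b') = C.D a b + C.D a b' := by
  unfold D
  rw [u3_tens_add_l, Matrix.mulVec_add, Cfsg.Agent.Lib.Helper22.TWLeaf.ctr_add]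

lemma D_smul_r (a : Fin k → F) (c : F) (b : Idx t k → F) : C.D a (c • b) = c • C.D a b := by
  unfold D
  rw [u3_tens_smul_l, Matrix.mulVec_smul, Cfsg.Agent.Lib.Helper22.TWLeaf.ctr_smul]

lemma g_val : (C.g' : Matrix (Idx (t + 1) k) (Idx (t + 1) k) F) =
    slot k (t + 1) C.i (C.α : Matrix (Fin k) (Fin k) F) *
      (ext C.i (C.γ : Matrix (Idx t k) (Idx t k) F) * (C.z : Matrix (Idx (t + 1) k) (Idx (t + 1) k) F)) := by
  rw [C.hg, Units.val_mul, Units.val_mul, slotGL_val, extGL_val, Matrix.mul_assoc]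

lemma g_tens (a : Fin k → F) (b : Idx t k → F) :
    (C.g' : Matrix (Idx (t + 1) k) (Idx (t + 1) k) F) *ᵥ tens C.i b a =
      tens C.i ((C.γ : Matrix (Idx t k) (Idx t k) F) *ᵥ b) ((C.α : Matrix (Fin k) (Fin k) F) *ᵥ a) +
        tens C.i ((C.γ : Matrix (Idx t k) (Idx t k) F) *ᵥ C.D a b) C.y := by
  rw [C.g_val, ← Matrix.mulVec_mulVec, ← Matrix.mulVec_mulVec, C.z_tens, Matrix.mulVec_add,
    Cfsg.Agent.Lib.Helper22.TWLeaf.ext_mulVec_tens, Cfsg.Agent.Lib.Helper22.TWLeaf.ext_mulVec_tens, Matrix.mulVec_add,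
    Cfsg.Agent.Lib.Helper22.TWLeaf.slot_mulVec_tens, Cfsg.Agent.Lib.Helper22.TWLeaf.slot_mulVec_tens, C.hα]

lemma g_tens_y (b : Idx t k → F) :
    (C.g' : Matrix (Idx (t + 1) k) (Idx (t + 1) k) F) *ᵥ tens C.i b C.y =
      tens C.i ((C.γ : Matrix (Idx t k) (Idx t k) F) *ᵥ b) C.y := by
  have h1 : (C.z : Matrix (Idx (t + 1) k) (Idx (t + 1) k) F) *ᵥ tens C.i b C.y = tens C.i b C.y :=
    C.hz.2 _ ((Cfsg.Agent.Lib.Helper22.TWLeaf.mem_Wf_iff_tens C.i C.y C.hy0 _).2 ⟨b, rfl⟩)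
  rw [C.g_val, ← Matrix.mulVec_mulVec, ← Matrix.mulVec_mulVec, h1,
    Cfsg.Agent.Lib.Helper22.TWLeaf.ext_mulVec_tens, Cfsg.Agent.Lib.Helper22.TWLeaf.slot_mulVec_tens, C.hα]

/-- (a) the similitude identity on `b ⊗ y`, `b' ⊗ a'` -/
lemma simA (b b' : Idx t k → F) (a' : Fin k → F) :
    hv q ((C.γ : Matrix (Idx t k) (Idx t k) F) *ᵥ b) ((C.γ : Matrix (Idx t k) (Idx t k) F) *ᵥ b') *
      hv q C.y ((C.α : Matrix (Fin k) (Fin k) F) *ᵥ a') = C.μ * (hv q b b' * hv q C.y a') := by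
  have h := C.hsim (tens C.i b C.y) (tens C.i b' a')
  rw [C.g_tens_y, C.g_tens, Cfsg.Agent.Lib.Helper20.UT.hv_add_right C.hF, Cfsg.Agent.Lib.Helper23.TWULeaf.hv_tens,
    Cfsg.Agent.Lib.Helper23.TWULeaf.hv_tens, Cfsg.Agent.Lib.Helper23.TWULeaf.hv_tens, C.hy, mul_zero, add_zero] at h
  exact h


/-- `ρ = f(y, α y')` -/
def ρ : F := hv q C.y ((C.α : Matrix (Fin k) (Fin k) F) *ᵥ C.y')

/-- a basis vector of `B` -/
def e₁ : Idx t k → F := Pi.single C.p₀ 1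

/-- the multiplier of `γ` -/
def ν : F := hv q ((C.γ : Matrix (Idx t k) (Idx t k) F) *ᵥ C.e₁) ((C.γ : Matrix (Idx t k) (Idx t k) F) *ᵥ C.e₁)

include C in
lemma hq0 : q ≠ 0 := Cfsg.Agent.Lib.Helper23.TWUT.q_ne_zero C.hF

lemma hv_e₁ : hv q C.e₁ C.e₁ = 1 := u3_hv_single_self C.hq0 C.p₀

lemma hy1' : hv q C.y C.y' = 1 := by
  rw [← Cfsg.Agent.Lib.Helper20.UT.hv_conj C.hF, C.hy'1, one_pow]

lemma νρ : C.ν * C.ρ = C.μ := by
  have h := C.simA C.e₁ C.e₁ C.y'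
  rw [C.hv_e₁, C.hy1', mul_one, mul_one] at h
  exact h

lemma ρ_ne : C.ρ ≠ 0 := by
  intro h
  have := C.νρ
  rw [h, mul_zero] at this
  exact C.hμ0 this.symm

lemma ν_ne : C.ν ≠ 0 := by
  intro h
  have := C.νρ
  rw [h, zero_mul] at this
  exact C.hμ0 this.symm

lemma ν_q : C.ν ^ q = C.ν := Cfsg.Agent.Lib.Helper20.UT.hv_self_pow C.hF _

lemma μ_q : C.μ ^ q = C.μ := by
  classical
  have h := C.hsim (Pi.single C.P₀ 1) (Pi.single C.P₀ 1)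
  rw [u3_hv_single_self C.hq0, mul_one] at h
  rw [← h]
  exact Cfsg.Agent.Lib.Helper20.UT.hv_self_pow C.hF _

lemma ρ_q : C.ρ ^ q = C.ρ := by
  have h := congrArg (fun x => x ^ q) C.νρ
  simp only [mul_pow, C.ν_q, C.μ_q] at h
  rw [← C.νρ] at h
  exact mul_left_cancel₀ C.ν_ne h

lemma γ_sim (b b' : Idx t k → F) :
    hv q ((C.γ : Matrix (Idx t k) (Idx t k) F) *ᵥ b) ((C.γ : Matrix (Idx t k) (Idx t k) F) *ᵥ b') = C.ν * hv q b b' := by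
  have h := C.simA b b' C.y'
  rw [C.hy1', mul_one, ← C.νρ] at h
  apply mul_right_cancel₀ C.ρ_ne
  change _ * hv q C.y ((C.α : Matrix (Fin k) (Fin k) F) *ᵥ C.y') = _
  rw [h]
  unfold ρ
  ring

lemma α_y (a : Fin k → F) : hv q C.y ((C.α : Matrix (Fin k) (Fin k) F) *ᵥ a) = C.ρ * hv q C.y a := by
  have h := C.simA C.e₁ C.e₁ a
  rw [C.hv_e₁, one_mul, ← C.νρ] at h
  apply mul_left_cancel₀ C.ν_ne
  change hv q ((C.γ : Matrix (Idx t k) (Idx t k) F) *ᵥ C.e₁) ((C.γ : Matrix (Idx t k) (Idx t k) F) *ᵥ C.e₁) * _ = _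
  rw [h]
  ring

lemma α_y' (a : Fin k → F) : hv q ((C.α : Matrix (Fin k) (Fin k) F) *ᵥ a) C.y = C.ρ * hv q a C.y := by
  rw [← Cfsg.Agent.Lib.Helper20.UT.hv_conj C.hF, C.α_y, mul_pow, C.ρ_q, Cfsg.Agent.Lib.Helper20.UT.hv_conj C.hF]

/-- the identity (I) -/
lemma identI (a a' : Fin k → F) (b b' : Idx t k → F) :
    hv q b b' * (hv q ((C.α : Matrix (Fin k) (Fin k) F) *ᵥ a) ((C.α : Matrix (Fin k) (Fin k) F) *ᵥ a') - C.ρ * hv q a a') +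
      C.ρ * hv q a C.y * hv q b (C.D a' b') + C.ρ * hv q C.y a' * hv q (C.D a b) b' = 0 := by
  have h := C.hsim (tens C.i b a) (tens C.i b' a')
  rw [C.g_tens, C.g_tens] at h
  simp only [Cfsg.Agent.Lib.Helper20.UT.hv_add_left, Cfsg.Agent.Lib.Helper20.UT.hv_add_right C.hF,
    Cfsg.Agent.Lib.Helper23.TWULeaf.hv_tens, C.hy, C.γ_sim, C.α_y, C.α_y', mul_zero, add_zero] at h
  rw [← C.νρ] at h
  apply mul_left_cancel₀ C.ν_ne
  linear_combination h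


/-- `ε(a, y')` -/
def ε (a : Fin k → F) : F :=
  hv q ((C.α : Matrix (Fin k) (Fin k) F) *ᵥ a) ((C.α : Matrix (Fin k) (Fin k) F) *ᵥ C.y') - C.ρ * hv q a C.y'

/-- (F1) `D_a` is scalar for `a ⊥ y` -/
lemma D_perp (a₀ : Fin k → F) (h0 : hv q a₀ C.y = 0) (b : Idx t k → F) :
    C.D a₀ b = (-(C.ε a₀) / C.ρ) • b := by
  rw [← sub_eq_zero]
  apply Cfsg.Agent.Lib.Helper23.TWUT.hv_nondeg_left C.hq0
  intro b'
  have h := C.identI a₀ C.y' b b'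
  rw [h0, C.hy1', mul_zero, zero_mul, add_zero, mul_one] at h
  rw [Cfsg.Agent.Lib.Helper20.UT.hv_sub_left, Cfsg.Agent.Lib.Helper20.UT.hv_smul_left, sub_eq_zero]
  have hρ := C.ρ_ne
  unfold ε
  field_simp
  linear_combination h

/-- `τ = -ε(y',y')/ρ` -/
def τ : F := -(C.ε C.y') / C.ρ

/-- (F3) `D_{y'} + D_{y'}^* = τ` -/
lemma D_y' (b b' : Idx t k → F) :
    hv q (C.D C.y' b) b' + hv q b (C.D C.y' b') = C.τ * hv q b b' := by
  have h := C.identI C.y' C.y' b b'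
  rw [C.hy1', C.hy'1, mul_one] at h
  have hρ := C.ρ_ne
  unfold τ ε
  field_simp
  linear_combination h

lemma τ_q : C.τ ^ q = C.τ := by
  unfold τ ε
  rw [div_pow, Cfsg.Agent.Lib.Helper20.UT.neg_pow_q C.hF, C.ρ_q, sub_eq_add_neg,
    Cfsg.Agent.Lib.Helper20.UT.add_pow_q C.hF, Cfsg.Agent.Lib.Helper20.UT.neg_pow_q C.hF, mul_pow, C.ρ_q,
    Cfsg.Agent.Lib.Helper20.UT.hv_self_pow C.hF, Cfsg.Agent.Lib.Helper20.UT.hv_self_pow C.hF]

lemma exists_c : ∃ c₁ : F, c₁ + c₁ ^ q = C.τ := by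
  have hf := Cfsg.Agent.Lib.Helper20.UT.hv_unitary (n := k) C.hF
  obtain ⟨c₁, hc₁⟩ := Cfsg.Agent.Lib.Helper5.UForm.tr_surj hf.involutive hf.ne_refl C.τ
    (by rw [Cfsg.Agent.Lib.Helper5.HermBridge.frobQ_apply]; exact C.τ_q)
  rw [Cfsg.Agent.Lib.Helper5.HermBridge.frobQ_apply] at hc₁
  exact ⟨c₁, hc₁⟩

/-- `D_{y'}` as a linear map -/
def Dl : (Idx t k → F) →ₗ[F] (Idx t k → F) where
  toFun := C.D C.y'
  map_add' := C.D_add_r C.y'
  map_smul' := fun c b => C.D_smul_r C.y' c b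

/-- `θ = D_{y'} - c₁` -/
noncomputable def θ (c₁ : F) : Matrix (Idx t k) (Idx t k) F := LinearMap.toMatrix' C.Dl - c₁ • 1

lemma θ_mulVec (c₁ : F) (b : Idx t k → F) : C.θ c₁ *ᵥ b = C.D C.y' b - c₁ • b := by
  unfold θ
  rw [Matrix.sub_mulVec, LinearMap.toMatrix'_mulVec, Matrix.smul_mulVec, Matrix.one_mulVec]
  rfl

/-- `ξ` -/
def ξ (c₁ : F) : Fin k → F :=
  (-(C.ρ)⁻¹) • (Matrix.vecMul (dag q ((C.α : Matrix (Fin k) (Fin k) F) *ᵥ C.y')) (C.α : Matrix (Fin k) (Fin k) F)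
    - C.ρ • dag q C.y') - c₁ ^ q • dag q C.y

lemma ξ_dot (c₁ : F) (a : Fin k → F) : C.ξ c₁ ⬝ᵥ a = -(C.ρ)⁻¹ * C.ε a - c₁ ^ q * hv q a C.y := by
  unfold ξ ε
  rw [sub_dotProduct, smul_dotProduct, smul_dotProduct, sub_dotProduct, smul_dotProduct, ← Matrix.dotProduct_mulVec,
    u3_dag_dot, u3_dag_dot, u3_dag_dot]
  simp only [smul_eq_mul]

lemma ξ_y (c₁ : F) : C.ξ c₁ ⬝ᵥ C.y = 0 := by
  rw [C.ξ_dot, C.hy]
  unfold ε
  rw [C.hα, C.hy1']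
  change -(C.ρ)⁻¹ * (C.ρ - C.ρ * 1) - c₁ ^ q * 0 = 0
  ring

/-- (★D) -/
lemma D_eq (c₁ : F) (hc₁ : c₁ + c₁ ^ q = C.τ) (a : Fin k → F) (b : Idx t k → F) :
    C.D a b = (C.ξ c₁ ⬝ᵥ a) • b + hv q a C.y • (C.θ c₁ *ᵥ b) := by
  have ha : a = (a - hv q a C.y • C.y') + hv q a C.y • C.y' := by abel
  have h0 : hv q (a - hv q a C.y • C.y') C.y = 0 := by
    rw [Cfsg.Agent.Lib.Helper20.UT.hv_sub_left, Cfsg.Agent.Lib.Helper20.UT.hv_smul_left, C.hy'1, mul_one, sub_self]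
  have hε : C.ε (a - hv q a C.y • C.y') = C.ε a - hv q a C.y * C.ε C.y' := by
    unfold ε
    rw [Matrix.mulVec_sub, Matrix.mulVec_smul, Cfsg.Agent.Lib.Helper20.UT.hv_sub_left,
      Cfsg.Agent.Lib.Helper20.UT.hv_smul_left, Cfsg.Agent.Lib.Helper20.UT.hv_sub_left,
      Cfsg.Agent.Lib.Helper20.UT.hv_smul_left]
    ring
  conv_lhs => rw [ha]
  rw [C.D_add_l, C.D_smul_l, C.D_perp _ h0, hε, C.θ_mulVec, C.ξ_dot]
  have hρ := C.ρ_ne
  have hτ : C.τ = -(C.ε C.y') / C.ρ := rfl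
  rw [hτ] at hc₁
  have e : -(C.ε a - hv q a C.y * C.ε C.y') / C.ρ =
      (-(C.ρ)⁻¹ * C.ε a - c₁ ^ q * hv q a C.y) - hv q a C.y * c₁ := by
    field_simp
    field_simp at hc₁
    linear_combination (hv q a C.y) * hc₁
  rw [e]
  module


lemma θ_skew (c₁ : F) (hc₁ : c₁ + c₁ ^ q = C.τ) (b b' : Idx t k → F) :
    hv q (C.θ c₁ *ᵥ b) b' + hv q b (C.θ c₁ *ᵥ b') = 0 := by
  rw [C.θ_mulVec, C.θ_mulVec, Cfsg.Agent.Lib.Helper20.UT.hv_sub_left, Cfsg.Agent.Lib.Helper20.UT.hv_sub_right C.hF,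
    Cfsg.Agent.Lib.Helper20.UT.hv_smul_left, Cfsg.Agent.Lib.Helper20.UT.hv_smul_right]
  have h := C.D_y' b b'
  linear_combination h - hv q b b' * hc₁

lemma adjM_θ (c₁ : F) (hc₁ : c₁ + c₁ ^ q = C.τ) :
    Cfsg.Agent.Lib.Helper23.TWUT.adjM q (C.θ c₁) = -(C.θ c₁) := by
  rw [eq_neg_iff_add_eq_zero]
  have h1 : ∀ b' : Idx t k → F, (Cfsg.Agent.Lib.Helper23.TWUT.adjM q (C.θ c₁) + C.θ c₁) *ᵥ b' =
      (0 : Matrix (Idx t k) (Idx t k) F) *ᵥ b' := by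
    intro b'
    rw [Matrix.zero_mulVec]
    apply Cfsg.Agent.Lib.Helper23.TWUT.hv_nondeg_right C.hF
    intro b
    rw [Matrix.add_mulVec, Cfsg.Agent.Lib.Helper20.UT.hv_add_right C.hF,
      ← Cfsg.Agent.Lib.Helper23.TWUT.hv_mulVec_left C.hF]
    exact C.θ_skew c₁ hc₁ b b'
  apply Matrix.toLin'.injective
  apply LinearMap.ext
  intro v
  rw [Matrix.toLin'_apply, Matrix.toLin'_apply]
  exact h1 v

/-- the structure of `z` -/
lemma z_eq (c₁ : F) (hc₁ : c₁ + c₁ ^ q = C.τ) :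
    (C.z : Matrix (Idx (t + 1) k) (Idx (t + 1) k) F) =
      1 + rootN C.i C.y (C.ξ c₁) + ext C.i (C.θ c₁) * rootN C.i C.y (dag q C.y) := by
  apply u3_mat_eq_of_tens C.i
  intro b a
  rw [C.z_tens, Matrix.add_mulVec, Matrix.add_mulVec, Matrix.one_mulVec, u3_rootN_tens, ← Matrix.mulVec_mulVec,
    u3_rootN_tens, Matrix.mulVec_smul, Cfsg.Agent.Lib.Helper22.TWLeaf.ext_mulVec_tens, C.D_eq c₁ hc₁,
    u3_tens_add_l, u3_tens_smul_l, u3_tens_smul_l, u3_dag_dot, add_assoc]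

/-- the identity (II) -/
lemma identII (c₁ : F) (hc₁ : c₁ + c₁ ^ q = C.τ) (a a' : Fin k → F) :
    hv q ((C.α : Matrix (Fin k) (Fin k) F) *ᵥ a) ((C.α : Matrix (Fin k) (Fin k) F) *ᵥ a') - C.ρ * hv q a a' +
      C.ρ * hv q a C.y * (C.ξ c₁ ⬝ᵥ a') ^ q + C.ρ * hv q C.y a' * (C.ξ c₁ ⬝ᵥ a) = 0 := by
  have h := C.identI a a' C.e₁ C.e₁
  rw [C.D_eq c₁ hc₁, C.D_eq c₁ hc₁, Cfsg.Agent.Lib.Helper20.UT.hv_add_right C.hF,
    Cfsg.Agent.Lib.Helper20.UT.hv_smul_right, Cfsg.Agent.Lib.Helper20.UT.hv_smul_right,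
    Cfsg.Agent.Lib.Helper20.UT.hv_add_left, Cfsg.Agent.Lib.Helper20.UT.hv_smul_left,
    Cfsg.Agent.Lib.Helper20.UT.hv_smul_left, C.hv_e₁, Cfsg.Agent.Lib.Helper20.UT.hv_conj C.hF] at h
  have hs := C.θ_skew c₁ hc₁ C.e₁ C.e₁
  linear_combination h - C.ρ * hv q a C.y * hv q C.y a' * hs


/-- the normal form, in the context -/
lemma main : ∃ (α₁ : GL (Fin k) F) (z₁ : GL (Idx (t + 1) k) F) (θ : Matrix (Idx t k) (Idx t k) F),
    α₁ ∈ DUA k q F ∧ (α₁ : Matrix (Fin k) (Fin k) F) *ᵥ C.y = C.y ∧ z₁ ∈ GUV (t + 1) k q F ∧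
      (z₁ : Matrix (Idx (t + 1) k) (Idx (t + 1) k) F) = 1 + ext C.i θ * rootN C.i C.y (dag q C.y) ∧
      C.g' = slotGL C.i α₁ * extGL C.i C.γ * z₁ := by
  classical
  obtain ⟨c₁, hc₁⟩ := C.exists_c
  have hξy : C.ξ c₁ ⬝ᵥ C.y = 0 := C.ξ_y c₁
  have hA : Matrix.vecMulVec C.y (C.ξ c₁) * Matrix.vecMulVec C.y (C.ξ c₁) = 0 := by
    rw [Matrix.vecMulVec_mul_vecMulVec, hξy, zero_smul, Matrix.vecMulVec_zero]
  have hNN : rootN C.i C.y (dag q C.y) * rootN C.i C.y (dag q C.y) = 0 :=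
    rootN_mul_self C.i C.y (dag q C.y) (by rw [u3_dag_dot]; exact C.hy)
  have hc : rootN C.i C.y (dag q C.y) * ext C.i (C.θ c₁) = ext C.i (C.θ c₁) * rootN C.i C.y (dag q C.y) :=
    (Cfsg.Agent.Lib.Helper22.TWLeaf.ext_comm_slot C.i _ _).symm
  have hM : (ext C.i (C.θ c₁) * rootN C.i C.y (dag q C.y)) * (ext C.i (C.θ c₁) * rootN C.i C.y (dag q C.y)) = 0 := by
    calc (ext C.i (C.θ c₁) * rootN C.i C.y (dag q C.y)) * (ext C.i (C.θ c₁) * rootN C.i C.y (dag q C.y))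
        = ext C.i (C.θ c₁) * (rootN C.i C.y (dag q C.y) * ext C.i (C.θ c₁)) * rootN C.i C.y (dag q C.y) := by
          simp only [Matrix.mul_assoc]
      _ = ext C.i (C.θ c₁) * ext C.i (C.θ c₁) * (rootN C.i C.y (dag q C.y) * rootN C.i C.y (dag q C.y)) := by
          rw [hc]; simp only [Matrix.mul_assoc]
      _ = 0 := by rw [hNN, Matrix.mul_zero]
  have e : ∀ a : Fin k → F,
      ((C.α * unip (Matrix.vecMulVec C.y (C.ξ c₁)) hA : GL (Fin k) F) : Matrix (Fin k) (Fin k) F) *ᵥ a =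
        (C.α : Matrix (Fin k) (Fin k) F) *ᵥ a + (C.ξ c₁ ⬝ᵥ a) • C.y := by
    intro a
    rw [Units.val_mul, unip_val, Matrix.mul_add, Matrix.mul_one, Matrix.add_mulVec, ← Matrix.mulVec_mulVec, u3_vmv,
      Matrix.mulVec_smul, C.hα]
  refine ⟨C.α * unip (Matrix.vecMulVec C.y (C.ξ c₁)) hA, unip _ hM, C.θ c₁, ?_, ?_, ?_, rfl, ?_⟩
  · -- `α₁ ∈ Δ(A)`
    rw [Cfsg.Agent.Lib.Helper23.TWUT.mem_DUA]
    refine ⟨Units.mk0 C.ρ C.ρ_ne, ?_⟩
    intro u v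
    rw [e, e, Units.val_mk0, Cfsg.Agent.Lib.Helper20.UT.hv_add_left, Cfsg.Agent.Lib.Helper20.UT.hv_add_right C.hF,
      Cfsg.Agent.Lib.Helper20.UT.hv_add_right C.hF, Cfsg.Agent.Lib.Helper20.UT.hv_smul_left,
      Cfsg.Agent.Lib.Helper20.UT.hv_smul_left, Cfsg.Agent.Lib.Helper20.UT.hv_smul_right,
      Cfsg.Agent.Lib.Helper20.UT.hv_smul_right, C.hy, C.α_y, C.α_y']
    have h := C.identII c₁ hc₁ u v
    linear_combination h
  · -- `α₁ y = y`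
    rw [e, hξy, zero_smul, add_zero, C.hα]
  · -- `z₁ ∈ GU(V)`
    rw [Cfsg.Agent.Lib.Helper23.TWUT.mem_GUV_iff C.hF, unip_val, u3_adjM_add C.hF,
      Cfsg.Agent.Lib.Helper23.TWUT.adjM_one C.hq0, Cfsg.Agent.Lib.Helper23.TWUT.adjM_mul C.hF,
      Cfsg.Agent.Lib.Helper23.TWUT.adjM_rootN_dag C.hF, Cfsg.Agent.Lib.Helper23.TWU3Leaf.adjM_ext C.hq0,
      C.adjM_θ c₁ hc₁, u3_ext_neg, Matrix.mul_neg, hc, add_mul, one_mul, mul_add, mul_one, neg_mul, hM]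
    abel
  · -- the factorisation
    have hNξN : rootN C.i C.y (C.ξ c₁) * rootN C.i C.y (dag q C.y) = 0 := by
      unfold rootN
      rw [slot_mul, Matrix.vecMulVec_mul_vecMulVec, hξy, zero_smul, Matrix.vecMulVec_zero, slot_zero]
    have hcξ : rootN C.i C.y (C.ξ c₁) * ext C.i (C.θ c₁) = ext C.i (C.θ c₁) * rootN C.i C.y (C.ξ c₁) :=
      (Cfsg.Agent.Lib.Helper22.TWLeaf.ext_comm_slot C.i _ _).symm
    have hcγ : rootN C.i C.y (C.ξ c₁) * ext C.i (C.γ : Matrix (Idx t k) (Idx t k) F) =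
        ext C.i (C.γ : Matrix (Idx t k) (Idx t k) F) * rootN C.i C.y (C.ξ c₁) :=
      (Cfsg.Agent.Lib.Helper22.TWLeaf.ext_comm_slot C.i _ _).symm
    have key : (1 + rootN C.i C.y (C.ξ c₁)) * (1 + ext C.i (C.θ c₁) * rootN C.i C.y (dag q C.y)) =
        1 + rootN C.i C.y (C.ξ c₁) + ext C.i (C.θ c₁) * rootN C.i C.y (dag q C.y) := by
      rw [add_mul, one_mul, mul_add, mul_one, ← Matrix.mul_assoc, hcξ, Matrix.mul_assoc, hNξN, Matrix.mul_zero,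
        add_zero]
      abel
    have hs : slot k (t + 1) C.i ((C.α : Matrix (Fin k) (Fin k) F) * (1 + Matrix.vecMulVec C.y (C.ξ c₁))) =
        slot k (t + 1) C.i (C.α : Matrix (Fin k) (Fin k) F) * (1 + rootN C.i C.y (C.ξ c₁)) := by
      rw [← slot_mul, slot_add, slot_one]
      rfl
    apply Units.ext
    rw [C.g_val, Units.val_mul, Units.val_mul, slotGL_val, extGL_val, Units.val_mul, unip_val, unip_val, hs,
      C.z_eq c₁ hc₁, ← key]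
    have hcγ' : (1 + rootN C.i C.y (C.ξ c₁)) * ext C.i (C.γ : Matrix (Idx t k) (Idx t k) F) =
        ext C.i (C.γ : Matrix (Idx t k) (Idx t k) F) * (1 + rootN C.i C.y (C.ξ c₁)) := by
      rw [add_mul, one_mul, mul_add, mul_one, hcγ]
    rw [Matrix.mul_assoc (slot k (t + 1) C.i (C.α : Matrix (Fin k) (Fin k) F)), hcγ']
    simp only [Matrix.mul_assoc]

end U3Ctx

/-- R6 (L) **UNITARY NORMAL FORM** -/
theorem U3_normal (hF : Fintype.card F = q ^ 2) (hk : 2 ≤ k) (i : Fin (t + 1)) (y : Fin k → F) (hy0 : y ≠ 0)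
    (hy : hv q y y = 0) (g' : GL (Idx (t + 1) k) F) (hg'D : g' ∈ DUV (t + 1) k q F) (α : GL (Fin k) F)
    (γ : GL (Idx t k) F) (z : GL (Idx (t + 1) k) F) (hα : (α : Matrix (Fin k) (Fin k) F) *ᵥ y = y)
    (hz : InZ i y z) (hg : g' = slotGL i α * extGL i γ * z) :
    ∃ (α₁ : GL (Fin k) F) (z₁ : GL (Idx (t + 1) k) F) (θ : Matrix (Idx t k) (Idx t k) F),
      α₁ ∈ DUA k q F ∧ (α₁ : Matrix (Fin k) (Fin k) F) *ᵥ y = y ∧ z₁ ∈ GUV (t + 1) k q F ∧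
        (z₁ : Matrix (Idx (t + 1) k) (Idx (t + 1) k) F) = 1 + ext i θ * rootN i y (dag q y) ∧
        g' = slotGL i α₁ * extGL i γ * z₁ := by
  classical
  obtain ⟨φ, hφ⟩ := Cfsg.Agent.Lib.Helper26.TWLeaf.exists_dot_one26 y hy0
  rw [dotProduct_comm] at hφ
  obtain ⟨w, hw⟩ : ∃ w : Fin k → F, hv q w y ≠ 0 := by
    by_contra h
    push Not at h
    exact hy0 (Cfsg.Agent.Lib.Helper23.TWUT.hv_nondeg_right hF h)
  obtain ⟨μ, hμ⟩ := mem_DUV.1 hg'D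
  exact U3Ctx.main
    { i := i, y := y, φ := φ, y' := (hv q w y)⁻¹ • w, p₀ := fun _ => ⟨0, by omega⟩, P₀ := fun _ => ⟨0, by omega⟩,
      α := α, γ := γ, z := z, g' := g', μ := (μ : F), hF := hF, hy0 := hy0, hy := hy, hφ := hφ,
      hy'1 := by rw [Cfsg.Agent.Lib.Helper20.UT.hv_smul_left, inv_mul_cancel₀ hw],
      hα := hα, hz := hz, hg := hg, hμ0 := μ.ne_zero, hsim := hμ }

end Cfsg.Agent.Lib.Helper23.TWUIILeaf
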