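import Mathlib
import Cfsg.Agent.Lib.Helper15.AschUCtx
import Cfsg.Agent.Lib.Helper15.AschPRFData
import Cfsg.Agent.Lib.Helper15.AschDSC1
import Cfsg.Agent.Lib.Helper26.AschNL
import Cfsg.Agent.Lib.Helper27.AschKF3
import Cfsg.Agent.Lib.Helper27.AschSW
import Cfsg.Agent.Lib.Helper29.AschKF2
import Cfsg.Agent.Lib.Helper20.AschTS
import Cfsg.Agent.Lib.Helper4.AschA4
import Cfsg.Agent.Lib.Helper22.SubfRA
import Cfsg.Agent.Lib.Helper17.SpAschZ
import Cfsg.Agent.Lib.Helper23.UADsc6core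

/-!
S5663 market U (planner helper15), leaf DU6 `dsc_two_even` (exact signature of `notes/S5663_U_leaves.lean`).
-/

set_option autoImplicit false
set_option linter.unusedSectionVars false
set_option linter.unusedVariables false

namespace Cfsg.Agent.Lib.Helper23.UALeaf
open Matrix Cfsg Cfsg.Geo Cfsg.Agent.Lib.Helper20.Asch Cfsg.Agent.Lib.Helper20.FC
open Cfsg.Agent.Lib.Helper15.AschU Cfsg.Agent.Lib.Helper15.AschForm Cfsg.Agent.Lib.Helper18.AschA89
open scoped Kronecker

variable {F : Type*} [Field F] [Fintype F] {n q : ℕ} {H N : Subgroup (GL (Fin n) F)}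

/-- the hermitian form in the basis `P` -/
lemma du6_herm {σ : F ≃+* F} (hσ : IsFrob q σ) (P : Matrix (Fin n) (Fin n) F) (u v : Fin n → F) :
    hermForm n F q (P *ᵥ u) (P *ᵥ v) =
      u ⬝ᵥ (Pᵀ * (1 : Matrix (Fin n) (Fin n) F) * P.map (σ : F →+* F)) *ᵥ
        Cfsg.Agent.Lib.Helper7.AschLeaf.vmap (σ : F →+* F) v := by
  rw [(hσ.rform (n := n)).rep, gramF_hermForm hσ.q_ne_zero, Cfsg.Agent.Lib.Helper7.AschLeaf.dot_conj]

/-- (DU1, own copy) a subfield of index 2 is the fixed field of `σ` -/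
lemma du6_mem_iff {σ : F ≃+* F} (hσ : IsFrob q σ) (hF : Fintype.card F = q ^ 2) (F₁ : Subfield F)
    (hcard : Fintype.card F = Nat.card F₁ ^ 2) (a : F) : a ∈ F₁ ↔ σ a = a := by
  have h1 : Nat.card F₁ = q := by
    have : Nat.card F₁ ^ 2 = q ^ 2 := by rw [← hcard, hF]
    exact Nat.pow_left_injective (n := 2) (by norm_num) this
  rw [Cfsg.Agent.Lib.Helper22.SubfR.mem_subfield_iff_pow F₁ q h1 a, hσ.pow]

/-- (DU6) INDEX 2, `q` even. -/
theorem dsc_two_even (h : UCtx q H) {σ : F ≃+* F} (hσ : IsFrob q σ) (hq : ¬ Odd q) (F₁ : Subfield F)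
    (hcard : Fintype.card F = Nat.card F₁ ^ 2) (P : GL (Fin n) F) (hH : H ≤ subfieldSubgroup F₁ P)
    (c : F) (hc : c ≠ 0)
    (hrat : ∀ i j, (c • ((P : Matrix (Fin n) (Fin n) F)ᵀ * (1 : Matrix (Fin n) (Fin n) F) *
      (P : Matrix (Fin n) (Fin n) F).map σ)) i j ∈ F₁)
    (hN : N ≤ H) (habs : AbsIrr N)
    (hNrat : ∀ s ∈ matrixSet N, ∀ i j,
      (((P⁻¹ : GL (Fin n) F) : Matrix (Fin n) (Fin n) F) * s * (P : Matrix (Fin n) (Fin n) F)) i j ∈ F₁) : GeoU q H := by
  classical
  -- characteristic 2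
  have h2 : (2 : F) = 0 := by
    apply Cfsg.Agent.Lib.Helper17.SpAschLeaf.two_eq_zero_of_not_odd
    rw [h.card]
    intro hodd
    exact hq ((Nat.odd_pow_iff (by norm_num)).mp hodd)
  have hneg : ∀ x : F, -x = x := by
    intro x
    linear_combination (-x) * h2
  have hfixed := du6_mem_iff hσ h.card F₁ hcard
  set Pm : Matrix (Fin n) (Fin n) F := (P : Matrix (Fin n) (Fin n) F) with hPm
  set Pi : Matrix (Fin n) (Fin n) F := ((P⁻¹ : GL (Fin n) F) : Matrix (Fin n) (Fin n) F) with hPi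
  have hPP : Pm * Pi = 1 := by rw [hPm, hPi, ← Units.val_mul, mul_inv_cancel, Units.val_one]
  have hPP' : Pi * Pm = 1 := by rw [hPm, hPi, ← Units.val_mul, inv_mul_cancel, Units.val_one]
  set K : Matrix (Fin n) (Fin n) F := Pmᵀ * (1 : Matrix (Fin n) (Fin n) F) * Pm.map (σ : F →+* F) with hK
  -- `K` is hermitian
  have hKentry : ∀ i j, K i j = ∑ k, Pm k i * σ (Pm k j) := by
    intro i j
    rw [hK, mul_one, Matrix.mul_apply]
    rfl
  have hKherm : ∀ i j, σ (K i j) = K j i := by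
    intro i j
    rw [hKentry, hKentry, map_sum]
    refine Finset.sum_congr rfl fun k _ => ?_
    rw [map_mul, hσ.invol, mul_comm]
  -- `det K ≠ 0`
  have hKdet : K.det ≠ 0 := by
    have h1 : Pm.map (σ : F →+* F) * Pi.map (σ : F →+* F) = 1 := by
      rw [← Matrix.map_mul, hPP]
      ext i j
      simp [Matrix.one_apply, Matrix.map_apply]
    have h3 : (Pm.map (σ : F →+* F)).det ≠ 0 := Matrix.det_ne_zero_of_right_inverse h1
    have h4 : Pm.det ≠ 0 := Matrix.det_ne_zero_of_right_inverse hPP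
    rw [hK, mul_one, Matrix.det_mul, Matrix.det_transpose]
    exact mul_ne_zero h4 h3
  have hn0 : 0 < n := by have := h.three_le; omega
  -- a non-zero entry
  have hex : ∃ i j, K i j ≠ 0 := by
    by_contra hne
    push Not at hne
    have hK0 : K = 0 := by ext i j; exact hne i j
    have hne' : Nonempty (Fin n) := ⟨⟨0, hn0⟩⟩
    rw [hK0] at hKdet
    exact hKdet (@Matrix.det_zero _ _ _ _ _ hne')
  obtain ⟨i₀, j₀, hij₀⟩ := hex
  -- `σ c * K j i = c * K i j`
  have hstar : ∀ i j, σ c * K j i = c * K i j := by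
    intro i j
    have h1 := (hfixed _).1 (hrat i j)
    rw [Matrix.smul_apply, smul_eq_mul] at h1
    rw [← hKherm i j, ← map_mul]
    exact h1
  have hσc : σ c = c := by
    have h1 := hstar i₀ j₀
    have h3 := hstar j₀ i₀
    have h4 : (σ c - c) * (σ c - c) * K i₀ j₀ = 0 := by
      have : (σ c - c) * (σ c - c) = σ c * σ c - c * c := by
        linear_combination (-(σ c * c) + c * c) * h2
      rw [this]
      linear_combination σ c * h3 + c * h1
    rcases mul_eq_zero.mp h4 with h5 | h5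
    · rcases mul_eq_zero.mp h5 with h6 | h6 <;> exact sub_eq_zero.mp h6
    · exact absurd h5 hij₀
  have hKsymm : ∀ i j, K j i = K i j := by
    intro i j
    have h1 := hstar i j
    rw [hσc] at h1
    exact mul_left_cancel₀ hc h1
  have hKrat : ∀ i j, K i j ∈ F₁ := by
    intro i j
    have h1 := hrat i j
    rw [Matrix.smul_apply, smul_eq_mul] at h1
    have hc1 : c ∈ F₁ := (hfixed c).2 hσc
    have : K i j = c⁻¹ * (c * K i j) := by field_simp
    rw [this]
    exact F₁.mul_mem (F₁.inv_mem hc1) h1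
  have hKT : Kᵀ = K := by
    ext i j
    rw [Matrix.transpose_apply]
    exact hKsymm i j
  -- the coordinate group preserves `K` as a bilinear form
  have hfix : FixJ (σ : F →+* F) (1 : Matrix (Fin n) (Fin n) F) N := (h.mono hN).fixJ hσ
  have hX : ∀ M ∈ {M : Matrix (Fin n) (Fin n) F | ∃ s ∈ matrixSet N, M = Pi * s * Pm},
      Mᵀ * K * M = K := by
    rintro M ⟨s, hs, rfl⟩
    obtain ⟨x, hx, rfl⟩ := hs
    have hMrat : (Pi * (x : Matrix (Fin n) (Fin n) F) * Pm).map (σ : F →+* F) =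
        Pi * (x : Matrix (Fin n) (Fin n) F) * Pm := by
      ext i j
      rw [Matrix.map_apply]
      exact (hfixed _).1 (hNrat _ ⟨x, hx, rfl⟩ i j)
    have hx1 := hfix x hx
    rw [mul_one] at hx1
    have h5 : Piᵀ * Pmᵀ = 1 := by rw [← Matrix.transpose_mul, hPP, Matrix.transpose_one]
    have h6 : Pm.map (σ : F →+* F) * Pi.map (σ : F →+* F) = 1 := by
      rw [← Matrix.map_mul, hPP]
      ext i j
      simp [Matrix.one_apply, Matrix.map_apply]
    have key : (Pi * (x : Matrix (Fin n) (Fin n) F) * Pm)ᵀ * K *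
        (Pi * (x : Matrix (Fin n) (Fin n) F) * Pm).map (σ : F →+* F) = K := by
      rw [hK, mul_one, Matrix.map_mul, Matrix.map_mul, Matrix.transpose_mul, Matrix.transpose_mul]
      calc Pmᵀ * ((x : Matrix (Fin n) (Fin n) F)ᵀ * Piᵀ) * (Pmᵀ * Pm.map (σ : F →+* F)) *
            (Pi.map (σ : F →+* F) * (x : Matrix (Fin n) (Fin n) F).map (σ : F →+* F) *
              Pm.map (σ : F →+* F))
          = Pmᵀ * (x : Matrix (Fin n) (Fin n) F)ᵀ * (Piᵀ * Pmᵀ) *
              (Pm.map (σ : F →+* F) * Pi.map (σ : F →+* F)) *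
              (x : Matrix (Fin n) (Fin n) F).map (σ : F →+* F) * Pm.map (σ : F →+* F) := by
            simp only [mul_assoc]
        _ = Pmᵀ * ((x : Matrix (Fin n) (Fin n) F)ᵀ * (x : Matrix (Fin n) (Fin n) F).map (σ : F →+* F)) *
              Pm.map (σ : F →+* F) := by
            rw [h5, h6, mul_one, mul_one]; simp only [mul_assoc]
        _ = _ := by rw [hx1, mul_one]
    rw [hMrat] at key
    exact key
  have hirr := Cfsg.Agent.Lib.Helper23.UADsc6.irr_conj N habs.1 P
  have hdiag : ∀ i, K i i = 0 :=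
    Cfsg.Agent.Lib.Helper23.UADsc6.diag_zero_of_irr h2 (by have := h.three_le; omega) K hKT _ hX hirr
  -- `n` is even
  have hKskew : Kᵀ = -K := by
    rw [hKT]
    ext i j
    rw [Matrix.neg_apply, hneg]
  have halt0 : ∀ v : Fin n → F, Cfsg.Agent.Lib.Helper27.AschO4.bf K v v = 0 :=
    Cfsg.Agent.Lib.Helper27.AschO4.bf_alt K hKskew hdiag
  have hsymp := Cfsg.Agent.Lib.Helper27.AschO4.symp_of_alt K halt0 hKdet
  have heven : Even n := Cfsg.Agent.Lib.Helper7.AschLeaf.even_of_symplectic _ hsymp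
  -- rational vectors
  have hvmap : ∀ v : Fin n → F, (∀ i, v i ∈ F₁) →
      Cfsg.Agent.Lib.Helper7.AschLeaf.vmap (σ : F →+* F) v = v := by
    intro v hv
    funext i
    exact (hfixed _).1 (hv i)
  refine GeoU.of_sub_symp F₁ P 1 heven hcard one_ne_zero ?_ ?_ ?_ (le_inf hH h.le)
  · rw [one_pow]
    linear_combination h2
  · intro u v hu hv
    rw [one_mul, du6_herm hσ, hvmap v hv]
    simp only [dotProduct, Matrix.mulVec]
    refine F₁.sum_mem fun i _ => F₁.mul_mem (hu i) (F₁.sum_mem fun j _ => F₁.mul_mem ?_ (hv j))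
    exact hKrat i j
  · intro u hu
    rw [du6_herm hσ, hvmap u hu]
    exact halt0 u

end Cfsg.Agent.Lib.Helper23.UALeaf
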