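import Mathlib
import Cfsg.Agent.Lib.Helper15.AschUCtx
import Cfsg.Agent.Lib.Helper15.AschPRFData
import Cfsg.Agent.Lib.Helper15.AschDSC1
import Cfsg.Agent.Lib.Helper26.AschNL
import Cfsg.Agent.Lib.Helper27.AschKF3
import Cfsg.Agent.Lib.Helper27.AschSW
import Cfsg.Agent.Lib.Helper29.AschKF2
import Cfsg.Agent.Lib.Helper20.AschTS
import Cfsg.Agent.Lib.Helper4.AschA4
import Cfsg.Agent.Lib.Helper22.UnitRA
import Cfsg.Agent.Lib.Helper25.AFCb
import Cfsg.Agent.Lib.Helper1.AFKrP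

/-!
S5663 market U (planner helper15), leaf WU2 `standardise` (exact signature of `notes/S5663_U_leaves.lean`).
-/

set_option autoImplicit false
set_option linter.unusedSectionVars false
set_option linter.unusedVariables false

namespace Cfsg.Agent.Lib.Helper23.UALeaf
open Matrix Cfsg Cfsg.Geo Cfsg.Agent.Lib.Helper20.Asch Cfsg.Agent.Lib.Helper20.FC
open Cfsg.Agent.Lib.Helper15.AschU Cfsg.Agent.Lib.Helper15.AschForm Cfsg.Agent.Lib.Helper18.AschA89
open scoped Kronecker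

variable {F : Type*} [Field F] [Fintype F] {n q : ℕ} {H N : Subgroup (GL (Fin n) F)}

/-- a hermitian non-degenerate Gram matrix is congruent to `1` -/
lemma wu2_std_one (hF : Fintype.card F = q ^ 2) {σ : F ≃+* F} (hσ : IsFrob q σ) {m : ℕ}
    (G : Matrix (Fin m) (Fin m) F) (hherm : (G.map σ)ᵀ = G) (hdet : G.det ≠ 0) :
    ∃ S : GL (Fin m) F, (S : Matrix (Fin m) (Fin m) F)ᵀ * G *
      (S : Matrix (Fin m) (Fin m) F).map (σ : F →+* F) = 1 := by
  have hup := hσ.unitaryPow_sform G hherm hdet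
  obtain ⟨S, hS⟩ := Cfsg.Agent.Lib.Helper22.UnitR.exists_std_basis hF m _ hup
  refine ⟨S, ?_⟩
  apply Cfsg.Agent.Lib.Helper7.AschLeaf.eq_of_forall_dot (σ : F →+* F)
  intro u v
  rw [← Cfsg.Agent.Lib.Helper7.AschLeaf.dot_conj]
  have h1 := hS u v
  unfold sform at h1
  rw [h1, (hσ.rform (n := m)).rep, gramF_hermForm hσ.q_ne_zero]

/-- (WU2) STANDARDISATION. -/
theorem standardise (hF : Fintype.card F = q ^ 2) {σ : F ≃+* F} (hσ : IsFrob q σ) {m t : ℕ}
    (e : Fin n ≃ (Fin t → Fin m)) (P : GL (Fin n) F) (c' : F) (G' : Fin t → Matrix (Fin m) (Fin m) F)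
    (hherm : ∀ i, ((G' i).map σ)ᵀ = G' i) (hdet : ∀ i, (G' i).det ≠ 0)
    (hG : gramIn (σ : F →+* F) 1 e P = c' • ptens m t G') :
    ∃ P' : GL (Fin n) F, tensorWreathSubgroup m t e P' = tensorWreathSubgroup m t e P ∧
      gramIn (σ : F →+* F) 1 e P' = c' • (1 : Matrix (Fin t → Fin m) (Fin t → Fin m) F) := by
  choose S hS using fun i => wu2_std_one hF hσ (G' i) (hherm i) (hdet i)
  obtain ⟨g, hgmem, hgval⟩ := Cfsg.Agent.Lib.Helper25.AFLeaf.exists_ptensGL S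
  refine ⟨P * glReindex e.symm g, Cfsg.Agent.Lib.Helper25.AFLeaf.tensorWreathSubgroup_mul e P g hgmem, ?_⟩
  rw [Cfsg.Agent.Lib.Helper25.AFLeaf.gramIn_mul, hG, hgval,
    Cfsg.Agent.Lib.Helper20.AschLeaf.ptens_transpose, Cfsg.Agent.Lib.Helper1.AFLeaf.map_ptens,
    Matrix.mul_smul, Matrix.smul_mul, Cfsg.Agent.Lib.Helper20.AschLeaf.ptens_mul,
    Cfsg.Agent.Lib.Helper20.AschLeaf.ptens_mul]
  have : (fun i => (S i : Matrix (Fin m) (Fin m) F)ᵀ * G' i *
      (S i : Matrix (Fin m) (Fin m) F).map (σ : F →+* F)) = fun _ => 1 := by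
    funext i
    exact hS i
  rw [this, Cfsg.Agent.Lib.Helper20.AschLeaf.ptens_one]

end Cfsg.Agent.Lib.Helper23.UALeaf
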