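import Mathlib
import Cfsg.Agent.Lib.Helper15.AschUCtx
import Cfsg.Agent.Lib.Helper18.AschA89Defs
import Cfsg.Agent.Lib.Helper17.UAE3Defs
import Cfsg.Agent.Lib.Helper17.SpAschZ

/-!
S5663 sub-block E3 (sub-planner helper17): an ENCODING of the field with 4 elements (`none = 0`, `some k = ω^k`) with computable
operations, the encoded `3 × 3` Weyl matrices, and the KEY LEMMA for the generators `X = W 1 0`, `Y = W 0 1` checked by the kernel on the
encoding (`key_enc`).  `phi ω : E → F` is a bijection compatible with `+`, `*` and the Frobenius.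
-/

set_option autoImplicit false
set_option linter.unusedSectionVars false
set_option linter.unusedVariables false

namespace Cfsg.Agent.Lib.Helper23.UAE3Enc
open Matrix Cfsg Cfsg.Geo Cfsg.Agent.Lib.Helper15.AschU Cfsg.Agent.Lib.Helper17.E3

/-- encoded `F_4`: `none = 0`, `some k = ω^k` -/
abbrev E := Option (Fin 3)

def emul : E → E → E
  | some j, some k => some (j + k)
  | _, _ => none

def eadd : E → E → E
  | none, y => y
  | x, none => x
  | some j, some k => if j = k then none else some (-(j + k))

def einv : E → E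
  | none => none
  | some k => some (-k)

/-- entry of the product of two encoded matrices -/
def emm (g h : Fin 3 → Fin 3 → E) (i j : Fin 3) : E :=
  eadd (eadd (emul (g i 0) (h 0 j)) (emul (g i 1) (h 1 j))) (emul (g i 2) (h 2 j))

/-- hermitian product of two columns given by their entries -/
def eherm (x0 x1 x2 y0 y1 y2 : E) : E :=
  eadd (eadd (emul x0 (einv y0)) (emul x1 (einv y1))) (emul x2 (einv y2))

/-- encoded Weyl matrix -/
def eW (a b : Fin 3) (i j : Fin 3) : E := if i = j + b then some (a * i) else none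

def esmul (c : Fin 3) (M : Fin 3 → Fin 3 → E) (i j : Fin 3) : E := emul (some c) (M i j)

def mk (x00 x10 x20 x01 x11 x21 x02 x12 x22 : E) : Fin 3 → Fin 3 → E :=
  fun i j => match i, j with
    | 0, 0 => x00 | 1, 0 => x10 | 2, 0 => x20
    | 0, 1 => x01 | 1, 1 => x11 | 2, 1 => x21
    | 0, 2 => x02 | 1, 2 => x12 | 2, 2 => x22

lemma mk_eta (g : Fin 3 → Fin 3 → E) :
    mk (g 0 0) (g 1 0) (g 2 0) (g 0 1) (g 1 1) (g 2 1) (g 0 2) (g 1 2) (g 2 2) = g := by
  funext i j
  fin_cases i <;> fin_cases j <;> rfl

def good (g : Fin 3 → Fin 3 → E) (a b : Fin 3) : Prop :=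
  ∃ c a' b' : Fin 3, ∀ i j : Fin 3, emm g (eW a b) i j = emm (esmul c (eW a' b')) g i j

instance (g : Fin 3 → Fin 3 → E) (a b : Fin 3) : Decidable (good g a b) := by
  unfold good; infer_instance

def P3 (x00 x10 x20 x01 x11 x21 : E) : Prop :=
  ∀ x02 x12 x22 : E, eherm x02 x12 x22 x02 x12 x22 = some 0 → eherm x00 x10 x20 x02 x12 x22 = none →
      eherm x01 x11 x21 x02 x12 x22 = none →
      good (mk x00 x10 x20 x01 x11 x21 x02 x12 x22) 1 0 ∧ good (mk x00 x10 x20 x01 x11 x21 x02 x12 x22) 0 1

instance (x00 x10 x20 x01 x11 x21 : E) : Decidable (P3 x00 x10 x20 x01 x11 x21) := by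
  unfold P3; infer_instance

def P2 (x00 x10 x20 : E) : Prop :=
  ∀ x01 x11 x21 : E, eherm x01 x11 x21 x01 x11 x21 = some 0 → eherm x00 x10 x20 x01 x11 x21 = none →
    P3 x00 x10 x20 x01 x11 x21

instance (x00 x10 x20 : E) : Decidable (P2 x00 x10 x20) := by
  unfold P2; infer_instance

/-- THE KEY LEMMA on the encoding, for the two generators: all `648` unitary matrices, checked by the kernel -/
theorem key_enc : ∀ x00 x10 x20 : E, eherm x00 x10 x20 x00 x10 x20 = some 0 → P2 x00 x10 x20 := by
  decide +kernel

/-- the multiplication rule of the Weyl matrices on the encoding -/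
theorem eW_mul : ∀ a b a' b' i j : Fin 3,
    emm (eW a b) (eW a' b') i j = emul (some (-(a' * b))) (eW (a + a') (b + b') i j) := by
  decide +kernel

/-- unitarity of the Weyl matrices on the encoding -/
theorem eW_unitary : ∀ a b i j : Fin 3,
    eherm (eW a b 0 i) (eW a b 1 i) (eW a b 2 i) (eW a b 0 j) (eW a b 1 j) (eW a b 2 j) =
      if i = j then some 0 else none := by
  decide +kernel

/-! ### the decoding map -/

variable {F : Type*} [Field F]

/-- the decoding `E → F` -/
def phi (ω : F) : E → F
  | none => 0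
  | some k => wp ω k

@[simp] lemma phi_none (ω : F) : phi ω none = 0 := rfl
@[simp] lemma phi_some (ω : F) (k : Fin 3) : phi ω (some k) = wp ω k := rfl

lemma wp0 (ω : F) : wp ω 0 = 1 := by simp [wp]
lemma wp1 (ω : F) : wp ω 1 = ω := by simp [wp]
lemma wp2 (ω : F) : wp ω 2 = ω ^ 2 := by
  show ω ^ ((2 : Fin 3) : ℕ) = ω ^ 2
  rfl

section omega
variable {ω : F} (hω : ω ^ 2 + ω + 1 = 0)
include hω

lemma omega_cube : ω ^ 3 = 1 := by linear_combination (ω - 1) * hω

lemma omega_ne_zero : ω ≠ 0 := by
  intro h
  rw [h] at hω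
  norm_num at hω

lemma wp_add' (x y : Fin 3) : wp ω (x + y) = wp ω x * wp ω y := by
  unfold wp
  rw [← pow_add, Fin.val_add, ← pow_eq_pow_mod _ (omega_cube hω)]

lemma wp_ne_zero' (x : Fin 3) : wp ω x ≠ 0 := pow_ne_zero _ (omega_ne_zero hω)

lemma phi_mul (x y : E) : phi ω (emul x y) = phi ω x * phi ω y := by
  cases x with
  | none => simp [emul]
  | some j =>
    cases y with
    | none => simp [emul]
    | some k => simp only [emul, phi_some]; exact wp_add' hω j k

lemma phi_smul_some (c : Fin 3) (x : E) : phi ω (emul (some c) x) = wp ω c * phi ω x := by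
  rw [phi_mul hω]; rfl

variable (h2 : (2 : F) = 0)
include h2

lemma phi_add (x y : E) : phi ω (eadd x y) = phi ω x + phi ω y := by
  cases x with
  | none => cases y <;> simp [eadd]
  | some j =>
    cases y with
    | none => simp [eadd]
    | some k =>
      simp only [eadd, phi_some]
      by_cases hjk : j = k
      · subst hjk
        rw [if_pos rfl, phi_none]
        linear_combination (-(wp ω j)) * h2
      · rw [if_neg hjk, phi_some]
        fin_cases j <;> fin_cases k <;> first
          | exact absurd rfl hjk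
          | (simp only [wp]; norm_num [Fin.val_add, Fin.val_neg]; linear_combination hω - (ω + 1) * h2)
          | (simp only [wp]; norm_num [Fin.val_add, Fin.val_neg]; linear_combination hω - (ω ^ 2 + 1) * h2)
          | (simp only [wp]; norm_num [Fin.val_add, Fin.val_neg]; linear_combination hω - (ω ^ 2 + ω) * h2)

lemma omega_ne_one : ω ≠ 1 := by
  intro h
  rw [h] at hω
  have : (1 : F) = 0 := by linear_combination hω - h2
  exact one_ne_zero this

lemma wp_injective : Function.Injective (wp ω) := by
  have h0 := omega_ne_zero hω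
  have h1 := omega_ne_one hω h2
  have hsq1 : ω ^ 2 ≠ 1 := by
    intro h
    apply h0
    linear_combination hω - h - h2
  have hsq2 : ω ^ 2 ≠ ω := by
    intro h
    apply h1
    have : ω * (ω - 1) = 0 := by linear_combination h
    rcases mul_eq_zero.mp this with h' | h'
    · exact absurd h' h0
    · linear_combination h'
  have hone : ∀ d : Fin 3, wp ω d = 1 → d = 0 := by
    intro d hd
    match d, hd with
    | 0, _ => rfl
    | 1, hd => rw [wp1] at hd; exact absurd hd h1
    | 2, hd => rw [wp2] at hd; exact absurd hd hsq1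
  intro x y hxy
  have h5 : wp ω (x - y) = 1 := by
    have h6 : wp ω (x - y) * wp ω y = wp ω x := by
      rw [← wp_add' hω]; congr 1; abel
    rw [hxy] at h6
    exact mul_right_cancel₀ (wp_ne_zero' hω y) (by rw [h6, one_mul])
  have := hone _ h5
  exact sub_eq_zero.mp this

lemma phi_injective : Function.Injective (phi ω) := by
  intro x y hxy
  cases x with
  | none =>
    cases y with
    | none => rfl
    | some k => exact absurd hxy.symm (wp_ne_zero' hω k)
  | some j =>
    cases y with
    | none => exact absurd hxy (wp_ne_zero' hω j)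
    | some k => rw [wp_injective hω h2 hxy]

lemma phi_frob {σ : F ≃+* F} (hσ : IsFrob 2 σ) (x : E) : σ (phi ω x) = phi ω (einv x) := by
  cases x with
  | none => simp [einv]
  | some k =>
    simp only [einv, phi_some]
    rw [hσ.pow]
    have h3 := omega_cube hω
    match k with
    | 0 => simp [wp]
    | 1 =>
      have : (-(1 : Fin 3)) = 2 := by decide
      rw [this, wp1, wp2]
    | 2 =>
      have : (-(2 : Fin 3)) = 1 := by decide
      rw [this, wp1, wp2]
      linear_combination ω * h3

end omega

/-- decoding is onto when `|F| = 4` -/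
lemma phi_bijective [Fintype F] (hF : Fintype.card F = 2 ^ 2) {ω : F} (hω : ω ^ 2 + ω + 1 = 0) (h2 : (2 : F) = 0) :
    Function.Bijective (phi ω) := by
  rw [Fintype.bijective_iff_injective_and_card]
  refine ⟨phi_injective hω h2, ?_⟩
  rw [hF]
  rfl

/-- `(2 : F) = 0` when `|F| = 4` -/
lemma two_eq_zero [Fintype F] (hF : Fintype.card F = 2 ^ 2) : (2 : F) = 0 := by
  apply Cfsg.Agent.Lib.Helper17.SpAschLeaf.two_eq_zero_of_not_odd
  rw [hF]
  decide

/-- decoding of matrix products -/
lemma phi_emm {ω : F} (hω : ω ^ 2 + ω + 1 = 0) (h2 : (2 : F) = 0) (g h : Fin 3 → Fin 3 → E) (i j : Fin 3) :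
    phi ω (emm g h i j) =
      ((Matrix.of fun i j => phi ω (g i j)) * (Matrix.of fun i j => phi ω (h i j)) : Matrix (Fin 3) (Fin 3) F) i j := by
  rw [Matrix.mul_apply, Fin.sum_univ_three]
  simp only [emm, phi_add hω h2, phi_mul hω, Matrix.of_apply]

/-- decoding of the encoded Weyl matrices -/
lemma phi_eW (ω : F) (a b i j : Fin 3) : phi ω (eW a b i j) = W ω a b i j := by
  rw [W_apply]
  unfold eW
  split_ifs <;> rfl

end Cfsg.Agent.Lib.Helper23.UAE3Enc
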