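import Mathlib
import Cfsg.Agent.Lib.Helper15.AschUCtx
import Cfsg.Agent.Lib.Helper18.AschA89Defs
import Cfsg.Agent.Lib.Helper17.UAE3Defs
import Cfsg.Agent.Lib.Helper24.AschUNIL
import Cfsg.Agent.Lib.Helper23.UAE3Enc

/-!
S5663 sub-block E3 (sub-planner helper17), packet E3-K: THE KEY LEMMA `key` (exact signature of `notes/S5663_E3_leaves.lean`):
every unitary `3 × 3` matrix over the field with 4 elements normalises `E₀ = {ω^c W a b}`.
Proof: decode from the kernel-checked statement `UAE3Enc.key_enc` for the generators `W 1 0`, `W 0 1`, then multiply.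
-/

set_option autoImplicit false
set_option linter.unusedSectionVars false
set_option linter.unusedVariables false

namespace Cfsg.Agent.Lib.Helper23.UAE3Leaf
open Matrix Cfsg Cfsg.Geo Cfsg.Agent.Lib.Helper20.Asch
open Cfsg.Agent.Lib.Helper15.AschU Cfsg.Agent.Lib.Helper15.AschForm Cfsg.Agent.Lib.Helper18.AschA89
open Cfsg.Agent.Lib.Helper17.E3 Cfsg.Agent.Lib.Helper23.UAE3Enc

variable {F : Type*} [Field F] [Fintype F]

/-- the multiplication rule of the Weyl matrices (own copy of E3-W `W_mul`, needs `2 = 0`) -/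
lemma k_W_mul {ω : F} (hω : ω ^ 2 + ω + 1 = 0) (h2 : (2 : F) = 0) (a b a' b' : Fin 3) :
    W ω a b * W ω a' b' = wp ω (-(a' * b)) • W ω (a + a') (b + b') := by
  ext i j
  have h1 := phi_emm hω h2 (eW a b) (eW a' b') i j
  rw [eW_mul, phi_smul_some hω] at h1
  have hA : (Matrix.of fun i j => phi ω (eW a b i j) : Matrix (Fin 3) (Fin 3) F) = W ω a b := by
    ext i j; exact phi_eW ω a b i j
  have hB : (Matrix.of fun i j => phi ω (eW a' b' i j) : Matrix (Fin 3) (Fin 3) F) = W ω a' b' := by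
    ext i j; exact phi_eW ω a' b' i j
  rw [hA, hB, phi_eW] at h1
  rw [← h1, Matrix.smul_apply, smul_eq_mul]

lemma k_W_zero (ω : F) : W ω 0 0 = 1 := by
  ext i j
  rw [W_apply, Matrix.one_apply, add_zero, zero_mul, wp0]

/-- the normalising property, closed under products -/
def NP (ω : F) (g M : Matrix (Fin 3) (Fin 3) F) : Prop :=
  ∃ (c a' b' : Fin 3), g * M = (wp ω c • W ω a' b') * g

lemma NP_one (ω : F) (g : Matrix (Fin 3) (Fin 3) F) : NP ω g 1 :=
  ⟨0, 0, 0, by rw [wp0, one_smul, k_W_zero, mul_one, one_mul]⟩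

lemma NP_mul {ω : F} (hω : ω ^ 2 + ω + 1 = 0) (h2 : (2 : F) = 0) {g M₁ M₂ : Matrix (Fin 3) (Fin 3) F}
    (h₁ : NP ω g M₁) (h₂ : NP ω g M₂) : NP ω g (M₁ * M₂) := by
  obtain ⟨c₁, a₁, b₁, e₁⟩ := h₁
  obtain ⟨c₂, a₂, b₂, e₂⟩ := h₂
  refine ⟨c₁ + c₂ + -(a₂ * b₁), a₁ + a₂, b₁ + b₂, ?_⟩
  rw [← mul_assoc, e₁, mul_assoc, e₂, ← mul_assoc]
  congr 1
  rw [Matrix.smul_mul, Matrix.mul_smul, k_W_mul hω h2, smul_smul, smul_smul, wp_add' hω, wp_add' hω]

/-- K1 -/
theorem key (hF : Fintype.card F = 2 ^ 2) {ω : F} (hω : ω ^ 2 + ω + 1 = 0) {σ : F ≃+* F} (hσ : IsFrob 2 σ)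
    (g : Matrix (Fin 3) (Fin 3) F) (hg : gᵀ * g.map σ = 1) (a b : Fin 3) :
    ∃ (c a' b' : Fin 3), g * W ω a b = (wp ω c • W ω a' b') * g := by
  have h2 : (2 : F) = 0 := two_eq_zero hF
  have hbij := phi_bijective hF hω h2
  -- encode `g`
  let enc : F → E := fun x => (Equiv.ofBijective _ hbij).symm x
  have henc : ∀ x : F, phi ω (enc x) = x := fun x => (Equiv.ofBijective _ hbij).apply_symm_apply x
  let g' : Fin 3 → Fin 3 → E := fun i j => enc (g i j)
  have hg' : (Matrix.of fun i j => phi ω (g' i j) : Matrix (Fin 3) (Fin 3) F) = g := by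
    ext i j; exact henc (g i j)
  -- the encoded unitarity
  have hherm : ∀ i j : Fin 3, eherm (g' 0 i) (g' 1 i) (g' 2 i) (g' 0 j) (g' 1 j) (g' 2 j) =
      if i = j then some 0 else none := by
    intro i j
    apply phi_injective hω h2
    have h1 := congrFun (congrFun hg i) j
    rw [Matrix.mul_apply, Fin.sum_univ_three] at h1
    simp only [Matrix.transpose_apply, Matrix.map_apply, Matrix.one_apply] at h1
    simp only [eherm, phi_add hω h2, phi_mul hω, ← phi_frob hω h2 hσ]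
    have e : ∀ k l, phi ω (g' k l) = g k l := fun k l => henc (g k l)
    rw [e, e, e, e, e, e, h1]
    split_ifs <;> simp [wp0]
  -- apply the kernel-checked statement
  have hk := key_enc (g' 0 0) (g' 1 0) (g' 2 0) (by rw [hherm 0 0]; rfl)
    (g' 0 1) (g' 1 1) (g' 2 1) (by rw [hherm 1 1]; rfl) (by rw [hherm 0 1]; rfl)
    (g' 0 2) (g' 1 2) (g' 2 2) (by rw [hherm 2 2]; rfl) (by rw [hherm 0 2]; rfl) (by rw [hherm 1 2]; rfl)
  rw [mk_eta] at hk
  -- decode
  have hdec : ∀ a b : Fin 3, good g' a b → NP ω g (W ω a b) := by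
    rintro a b ⟨c, a', b', h⟩
    refine ⟨c, a', b', ?_⟩
    ext i j
    have h1 := congrArg (phi ω) (h i j)
    rw [phi_emm hω h2, phi_emm hω h2, hg'] at h1
    have hA : (Matrix.of fun i j => phi ω (eW a b i j) : Matrix (Fin 3) (Fin 3) F) = W ω a b := by
      ext i j; exact phi_eW ω a b i j
    have hB : (Matrix.of fun i j => phi ω (esmul c (eW a' b') i j) : Matrix (Fin 3) (Fin 3) F) =
        wp ω c • W ω a' b' := by
      ext i j
      rw [Matrix.of_apply, Matrix.smul_apply, smul_eq_mul, ← phi_eW]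
      exact phi_smul_some hω c _
    rw [hA, hB] at h1
    exact h1
  have hX : NP ω g (W ω 1 0) := hdec 1 0 hk.1
  have hY : NP ω g (W ω 0 1) := hdec 0 1 hk.2
  -- powers of the generators
  have hX2 : NP ω g (W ω 2 0) := by
    have h := NP_mul hω h2 hX hX
    rw [k_W_mul hω h2] at h
    have e1 : (-((1 : Fin 3) * 0)) = 0 := by decide
    have e2 : ((1 : Fin 3) + 1) = 2 := by decide
    rw [e1, e2, wp0, one_smul, add_zero] at h
    exact h
  have hY2 : NP ω g (W ω 0 2) := by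
    have h := NP_mul hω h2 hY hY
    rw [k_W_mul hω h2] at h
    have e1 : (-((0 : Fin 3) * 1)) = 0 := by decide
    have e2 : ((1 : Fin 3) + 1) = 2 := by decide
    rw [e1, e2, wp0, one_smul, add_zero] at h
    exact h
  have hXa : ∀ a : Fin 3, NP ω g (W ω a 0) := by
    intro a
    match a with
    | 0 => rw [k_W_zero]; exact NP_one ω g
    | 1 => exact hX
    | 2 => exact hX2
  have hYb : ∀ b : Fin 3, NP ω g (W ω 0 b) := by
    intro b
    match b with
    | 0 => rw [k_W_zero]; exact NP_one ω g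
    | 1 => exact hY
    | 2 => exact hY2
  have h := NP_mul hω h2 (hXa a) (hYb b)
  rw [k_W_mul hω h2] at h
  have e1 : (-((0 : Fin 3) * 0)) = 0 := by decide
  rw [e1, wp0, one_smul, add_zero, zero_add] at h
  exact h

end Cfsg.Agent.Lib.Helper23.UAE3Leaf
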