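import Mathlib
import Cfsg.Agent.Lib.Helper15.AschUCtx
import Cfsg.Agent.Lib.Helper18.AschA89Defs
import Cfsg.Agent.Lib.Helper17.UAE3Defs
import Cfsg.Agent.Lib.Helper24.AschUNIL
import Cfsg.Agent.Lib.Helper17.UAE3W
import Cfsg.Agent.Lib.Helper20.AschA89F2J
import Cfsg.Agent.Lib.Helper1.AFKrP
import Cfsg.Agent.Lib.Helper19.SpPrfA
import Cfsg.Agent.Lib.Helper6.TWQ1
import Cfsg.Agent.Lib.Helper23.UAE3Enc

/-!
S5663 sub-block E3 (sub-planner helper17), packet E3-R1: `T_mul`, `T_one`, `T_comm`, `T_unitary`, `T_inj`, `mem_Rstd_iff`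
(exact signatures of `notes/S5663_E3_leaves.lean`).
-/

set_option autoImplicit false
set_option linter.unusedSectionVars false
set_option linter.unusedVariables false

namespace Cfsg.Agent.Lib.Helper23.UAE3Leaf
open Matrix Cfsg Cfsg.Geo Cfsg.Agent.Lib.Helper20.Asch
open Cfsg.Agent.Lib.Helper15.AschU Cfsg.Agent.Lib.Helper15.AschForm Cfsg.Agent.Lib.Helper18.AschA89
open Cfsg.Agent.Lib.Helper17.E3

variable {F : Type*} [Field F] [Fintype F]

/-- `wp` of a sum -/
lemma r1_wp_sum {ω : F} (hω : ω ^ 2 + ω + 1 = 0) {t : ℕ} (x : Fin t → Fin 3) :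
    wp ω (∑ i, x i) = ∏ i, wp ω (x i) := by
  have : ∀ s : Finset (Fin t), wp ω (∑ i ∈ s, x i) = ∏ i ∈ s, wp ω (x i) := by
    intro s
    induction s using Finset.induction_on with
    | empty => simp [Cfsg.Agent.Lib.Helper17.UAE3Leaf.wp_zero]
    | insert i s hi ih =>
      rw [Finset.sum_insert hi, Finset.prod_insert hi, Cfsg.Agent.Lib.Helper17.UAE3Leaf.wp_add hω, ih]
  exact this Finset.univ

/-- R1a -/
theorem T_mul {ω : F} (hω : ω ^ 2 + ω + 1 = 0) {t : ℕ} (c c' : Fin 3) (a b a' b' : Fin t → Fin 3) :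
    T ω c a b * T ω c' a' b' = T ω (c + c' - ∑ i, a' i * b i) (a + a') (b + b') := by
  unfold T
  rw [Matrix.smul_mul, Matrix.mul_smul, Cfsg.Agent.Lib.Helper20.AschLeaf.ptens_mul, smul_smul]
  have h1 : (fun i => W ω (a i) (b i) * W ω (a' i) (b' i)) =
      fun i => wp ω (-(a' i * b i)) • W ω ((a + a') i) ((b + b') i) := by
    funext i
    rw [Cfsg.Agent.Lib.Helper17.UAE3Leaf.W_mul hω]
    rfl
  rw [h1, Cfsg.Agent.Lib.Helper20.AschLeaf.ptens_smul, smul_smul, ← r1_wp_sum hω,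
    ← Cfsg.Agent.Lib.Helper17.UAE3Leaf.wp_add hω, ← Cfsg.Agent.Lib.Helper17.UAE3Leaf.wp_add hω,
    Finset.sum_neg_distrib, ← sub_eq_add_neg]

/-- R1b -/
theorem T_one (ω : F) {t : ℕ} : T ω (0 : Fin 3) (0 : Fin t → Fin 3) 0 = 1 := by
  unfold T
  rw [Cfsg.Agent.Lib.Helper17.UAE3Leaf.wp_zero, one_smul]
  have : (fun i : Fin t => W ω ((0 : Fin t → Fin 3) i) ((0 : Fin t → Fin 3) i)) = fun _ => 1 := by
    funext i
    exact Cfsg.Agent.Lib.Helper17.UAE3Leaf.W_zero ω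
  rw [this, Cfsg.Agent.Lib.Helper20.AschLeaf.ptens_one]

/-- shifting the scalar exponent -/
lemma r1_T_add {ω : F} (hω : ω ^ 2 + ω + 1 = 0) {t : ℕ} (d c : Fin 3) (a b : Fin t → Fin 3) :
    T ω (d + c) a b = wp ω d • T ω c a b := by
  unfold T
  rw [smul_smul, Cfsg.Agent.Lib.Helper17.UAE3Leaf.wp_add hω]

/-- R1c: the commutation rule (from R1a) -/
theorem T_comm {ω : F} (hω : ω ^ 2 + ω + 1 = 0) {t : ℕ} (c c' : Fin 3) (a b a' b' : Fin t → Fin 3) :
    T ω c a b * T ω c' a' b' = wp ω (∑ i, (a i * b' i - a' i * b i)) • (T ω c' a' b' * T ω c a b) := by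
  rw [T_mul hω, T_mul hω, ← r1_T_add hω, add_comm a' a, add_comm b' b, Finset.sum_sub_distrib]
  congr 1
  abel

/-- R1d -/
theorem T_unitary {ω : F} (hω : ω ^ 2 + ω + 1 = 0) {σ : F ≃+* F} (hσ : IsFrob 2 σ) {t : ℕ} (c : Fin 3)
    (a b : Fin t → Fin 3) : (T ω c a b)ᵀ * (T ω c a b).map σ = 1 := by
  unfold T
  have hmap : (wp ω c • ptens 3 t fun i => W ω (a i) (b i)).map σ =
      σ (wp ω c) • ptens 3 t (fun i => (W ω (a i) (b i)).map σ) := by
    ext x y
    rw [Matrix.map_apply, Matrix.smul_apply, Matrix.smul_apply, smul_eq_mul, smul_eq_mul, map_mul,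
      ptens_apply, ptens_apply, map_prod]
    rfl
  rw [hmap, Matrix.transpose_smul, Cfsg.Agent.Lib.Helper20.AschLeaf.ptens_transpose, Matrix.smul_mul,
    Matrix.mul_smul, Cfsg.Agent.Lib.Helper20.AschLeaf.ptens_mul, smul_smul,
    Cfsg.Agent.Lib.Helper17.UAE3Leaf.wp_frob hω hσ, mul_comm (wp ω c),
    Cfsg.Agent.Lib.Helper17.UAE3Leaf.wp_neg_mul hω, one_smul]
  have : (fun i => (W ω (a i) (b i))ᵀ * (W ω (a i) (b i)).map σ) = fun _ => 1 := by
    funext i
    exact Cfsg.Agent.Lib.Helper17.UAE3Leaf.W_unitary hω hσ (a i) (b i)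
  rw [this, Cfsg.Agent.Lib.Helper20.AschLeaf.ptens_one]

/-- the Weyl matrices are non-zero -/
lemma r1_W_ne_zero {ω : F} (hω : ω ^ 2 + ω + 1 = 0) (a b : Fin 3) : W ω a b ≠ 0 := by
  intro h
  have h1 := congrFun (congrFun h (0 + b)) 0
  rw [W_apply, if_pos rfl, Matrix.zero_apply] at h1
  exact Cfsg.Agent.Lib.Helper17.UAE3Leaf.wp_ne_zero hω _ h1

/-- a non-zero entry of a pure tensor of Weyl matrices -/
lemma r1_ptens_entry_ne_zero {ω : F} (hω : ω ^ 2 + ω + 1 = 0) {t : ℕ} (a b : Fin t → Fin 3) :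
    ptens 3 t (fun i => W ω (a i) (b i)) (fun i => 0 + b i) (fun _ => 0) ≠ 0 := by
  rw [ptens_apply, Finset.prod_ne_zero_iff]
  intro i _
  rw [W_apply, if_pos rfl]
  exact Cfsg.Agent.Lib.Helper17.UAE3Leaf.wp_ne_zero hω _

/-- R1e: uniqueness of the normal form -/
theorem T_inj (hF : Fintype.card F = 2 ^ 2) {ω : F} (hω : ω ^ 2 + ω + 1 = 0) {t : ℕ} {c c' : Fin 3}
    {a b a' b' : Fin t → Fin 3} (h : T ω c a b = T ω c' a' b') : c = c' ∧ a = a' ∧ b = b' := by
  have h2 : (2 : F) = 0 := Cfsg.Agent.Lib.Helper23.UAE3Enc.two_eq_zero hF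
  unfold T at h
  have hc0 := Cfsg.Agent.Lib.Helper17.UAE3Leaf.wp_ne_zero hω c
  have hc0' := Cfsg.Agent.Lib.Helper17.UAE3Leaf.wp_ne_zero hω c'
  have h1 : ptens 3 t (fun i => W ω (a i) (b i)) =
      ((wp ω c)⁻¹ * wp ω c') • ptens 3 t (fun i => W ω (a' i) (b' i)) := by
    rw [← smul_smul, ← h, smul_smul, inv_mul_cancel₀ hc0, one_smul]
  obtain ⟨d, hd0, hd, -⟩ := Cfsg.Agent.Lib.Helper19.SpPrfLeaf.ptens_eq_smul_ptens _ _ _
    (mul_ne_zero (inv_ne_zero hc0) hc0') (fun i => r1_W_ne_zero hω (a' i) (b' i)) h1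
  have hab : ∀ i, a i = a' i ∧ b i = b' i := fun i =>
    Cfsg.Agent.Lib.Helper17.UAE3Leaf.W_eq_smul hF hω (hd i)
  have ha : a = a' := funext fun i => (hab i).1
  have hb : b = b' := funext fun i => (hab i).2
  subst ha hb
  refine ⟨?_, rfl, rfl⟩
  have h3 := congrFun (congrFun h (fun i => 0 + b i)) (fun _ => 0)
  rw [Matrix.smul_apply, Matrix.smul_apply, smul_eq_mul, smul_eq_mul] at h3
  have h4 := mul_right_cancel₀ (r1_ptens_entry_ne_zero hω a b) h3
  exact Cfsg.Agent.Lib.Helper23.UAE3Enc.wp_injective hω h2 h4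

/-- the generators in normal form -/
lemma r1_slot_eq_T (ω : F) {t : ℕ} (i : Fin t) (a b : Fin 3) :
    slot 3 t i (W ω a b) = T ω 0 (Pi.single i a) (Pi.single i b) := by
  unfold T
  rw [Cfsg.Agent.Lib.Helper17.UAE3Leaf.wp_zero, one_smul, Cfsg.Agent.Lib.Helper6.TWQ.slot_eq_ptens]
  congr 1
  funext j
  by_cases hj : j = i
  · subst hj
    rw [Function.update_self, Pi.single_eq_same, Pi.single_eq_same]
  · rw [Function.update_of_ne hj, Pi.single_eq_of_ne hj, Pi.single_eq_of_ne hj,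
      Cfsg.Agent.Lib.Helper17.UAE3Leaf.W_zero]

/-- the inverse exponent -/
lemma r1_T_mul_inv {ω : F} (hω : ω ^ 2 + ω + 1 = 0) {t : ℕ} (c : Fin 3) (a b : Fin t → Fin 3) :
    T ω c a b * T ω (-c + ∑ i, (-a) i * b i) (-a) (-b) = 1 := by
  rw [T_mul hω, add_neg_cancel, add_neg_cancel]
  have : c + (-c + ∑ i, (-a) i * b i) - ∑ i, (-a) i * b i = 0 := by abel
  rw [this, T_one]

/-- `T c a b` as an element of `GL` -/
noncomputable def TGL {ω : F} (hω : ω ^ 2 + ω + 1 = 0) {t : ℕ} (c : Fin 3) (a b : Fin t → Fin 3) :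
    GL (Fin t → Fin 3) F :=
  ⟨T ω c a b, T ω (-c + ∑ i, (-a) i * b i) (-a) (-b), r1_T_mul_inv hω c a b,
    _root_.mul_eq_one_comm.mp (r1_T_mul_inv hω c a b)⟩

lemma TGL_val {ω : F} (hω : ω ^ 2 + ω + 1 = 0) {t : ℕ} (c : Fin 3) (a b : Fin t → Fin 3) :
    ((TGL hω c a b : GL (Fin t → Fin 3) F) : Matrix (Fin t → Fin 3) (Fin t → Fin 3) F) = T ω c a b := rfl

lemma TGL_mul {ω : F} (hω : ω ^ 2 + ω + 1 = 0) {t : ℕ} (c c' : Fin 3) (a b a' b' : Fin t → Fin 3) :
    TGL hω c a b * TGL hω c' a' b' = TGL hω (c + c' - ∑ i, a' i * b i) (a + a') (b + b') := by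
  apply Units.ext
  rw [Units.val_mul, TGL_val, TGL_val, TGL_val, T_mul hω]

lemma f3_one_mul_one : (1 : Fin 3) * 1 = 1 := by decide
lemma f3_zero_mul : ∀ x : Fin 3, (0 : Fin 3) * x = 0 := by decide
lemma f3_mul_zero : ∀ x : Fin 3, x * (0 : Fin 3) = 0 := by decide

/-- the generators lie in `Rstd` -/
lemma r1_gen_mem {ω : F} (hω : ω ^ 2 + ω + 1 = 0) {t : ℕ} (i : Fin t) (a b : Fin 3) :
    TGL hω 0 (Pi.single i a) (Pi.single i b) ∈ Rstd ω t := by
  apply Subgroup.subset_closure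
  exact ⟨i, a, b, by rw [TGL_val, r1_slot_eq_T]⟩

lemma f3_e1 : (0 : Fin 3) + 0 - 0 = 0 := by decide
lemma f3_e2 : (1 : Fin 3) + (0 - 1) - 0 = 0 := by decide

/-- the scalar `ω` lies in `Rstd` (`t ≥ 1`) -/
lemma r1_scalar_mem {ω : F} (hω : ω ^ 2 + ω + 1 = 0) {t : ℕ} (ht : 1 ≤ t) :
    TGL hω 1 (0 : Fin t → Fin 3) 0 ∈ Rstd ω t := by
  let i₀ : Fin t := ⟨0, ht⟩
  set sX : Fin t → Fin 3 := Pi.single i₀ 1 with hsX
  have hX : TGL hω 0 sX 0 ∈ Rstd ω t := by
    have := r1_gen_mem hω i₀ 1 0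
    rwa [Pi.single_zero] at this
  have hY : TGL hω 0 0 sX ∈ Rstd ω t := by
    have := r1_gen_mem hω i₀ 0 1
    rwa [Pi.single_zero] at this
  have hsum0 : ∑ i, (0 : Fin t → Fin 3) i * (0 : Fin t → Fin 3) i = 0 := by
    apply Finset.sum_eq_zero
    intro i _
    exact f3_zero_mul _
  have hsum0' : ∑ i, sX i * (0 : Fin t → Fin 3) i = 0 := by
    apply Finset.sum_eq_zero
    intro i _
    exact f3_mul_zero _
  have hsum1 : ∑ i, sX i * sX i = 1 := by
    rw [Finset.sum_eq_single i₀]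
    · rw [hsX, Pi.single_eq_same]; exact f3_one_mul_one
    · intro i _ hi
      rw [hsX, Pi.single_eq_of_ne hi]; exact f3_zero_mul _
    · intro h; exact absurd (Finset.mem_univ _) h
  have hXY : TGL hω 0 sX 0 * TGL hω 0 0 sX = TGL hω 0 sX sX := by
    rw [TGL_mul, hsum0, f3_e1, add_zero, zero_add]
  have hYX : TGL hω 0 0 sX * TGL hω 0 sX 0 = TGL hω (0 - 1) sX sX := by
    rw [TGL_mul, hsum1]
    simp only [add_zero, zero_add]
  have hz : TGL hω 1 (0 : Fin t → Fin 3) 0 * TGL hω (0 - 1) sX sX = TGL hω 0 sX sX := by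
    rw [TGL_mul, hsum0', f3_e2, zero_add]
  have : TGL hω 1 (0 : Fin t → Fin 3) 0 =
      (TGL hω 0 sX 0 * TGL hω 0 0 sX) * (TGL hω 0 0 sX * TGL hω 0 sX 0)⁻¹ := by
    rw [hXY, hYX, ← hz, mul_inv_cancel_right]
  rw [this]
  exact Subgroup.mul_mem _ (Subgroup.mul_mem _ hX hY) (Subgroup.inv_mem _ (Subgroup.mul_mem _ hY hX))

lemma f3_e3 : (1 : Fin 3) + 1 - 0 = 2 := by decide

/-- the scalars lie in `Rstd` -/
lemma r1_scalars_mem {ω : F} (hω : ω ^ 2 + ω + 1 = 0) {t : ℕ} (ht : 1 ≤ t) (c : Fin 3) :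
    TGL hω c (0 : Fin t → Fin 3) 0 ∈ Rstd ω t := by
  have h1 := r1_scalar_mem hω ht
  have hsum0 : ∑ i, (0 : Fin t → Fin 3) i * (0 : Fin t → Fin 3) i = 0 := by
    apply Finset.sum_eq_zero
    intro i _
    exact f3_zero_mul _
  match c with
  | 0 =>
    have : TGL hω 0 (0 : Fin t → Fin 3) 0 = 1 := by
      apply Units.ext
      rw [TGL_val, T_one, Units.val_one]
    rw [this]
    exact Subgroup.one_mem _
  | 1 => exact h1
  | 2 =>
    have : TGL hω 2 (0 : Fin t → Fin 3) 0 = TGL hω 1 (0 : Fin t → Fin 3) 0 * TGL hω 1 (0 : Fin t → Fin 3) 0 := by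
      rw [TGL_mul, hsum0, f3_e3, add_zero]
    rw [this]
    exact Subgroup.mul_mem _ h1 h1

/-- every `T c a b` lies in `Rstd` -/
lemma r1_TGL_mem {ω : F} (hω : ω ^ 2 + ω + 1 = 0) {t : ℕ} (ht : 1 ≤ t) (c : Fin 3) (a b : Fin t → Fin 3) :
    TGL hω c a b ∈ Rstd ω t := by
  have key : ∀ s : Finset (Fin t), ∀ (c : Fin 3) (a b : Fin t → Fin 3),
      (∀ i, i ∉ s → a i = 0 ∧ b i = 0) → TGL hω c a b ∈ Rstd ω t := by
    intro s
    induction s using Finset.induction_on with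
    | empty =>
      intro c a b h
      have ha : a = 0 := funext fun i => (h i (Finset.notMem_empty i)).1
      have hb : b = 0 := funext fun i => (h i (Finset.notMem_empty i)).2
      rw [ha, hb]
      exact r1_scalars_mem hω ht c
    | insert i s hi ih =>
      intro c a b h
      set a' : Fin t → Fin 3 := Function.update a i 0 with ha'
      set b' : Fin t → Fin 3 := Function.update b i 0 with hb'
      have h' : ∀ j, j ∉ s → a' j = 0 ∧ b' j = 0 := by
        intro j hj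
        by_cases hji : j = i
        · subst hji
          rw [ha', hb', Function.update_self, Function.update_self]
          exact ⟨rfl, rfl⟩
        · rw [ha', hb', Function.update_of_ne hji, Function.update_of_ne hji]
          apply h j
          rw [Finset.mem_insert]
          push Not
          exact ⟨hji, hj⟩
      have hsa : a' + Pi.single i (a i) = a := by
        funext j
        by_cases hji : j = i
        · subst hji
          rw [Pi.add_apply, ha', Function.update_self, Pi.single_eq_same, zero_add]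
        · rw [Pi.add_apply, ha', Function.update_of_ne hji, Pi.single_eq_of_ne hji, add_zero]
      have hsb : b' + Pi.single i (b i) = b := by
        funext j
        by_cases hji : j = i
        · subst hji
          rw [Pi.add_apply, hb', Function.update_self, Pi.single_eq_same, zero_add]
        · rw [Pi.add_apply, hb', Function.update_of_ne hji, Pi.single_eq_of_ne hji, add_zero]
      have h1 := ih (c + ∑ j, (Pi.single i (a i) : Fin t → Fin 3) j * b' j) a' b' h'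
      have h2 := r1_gen_mem hω i (a i) (b i)
      have h3 := Subgroup.mul_mem _ h1 h2
      rw [TGL_mul, hsa, hsb] at h3
      have : c + ∑ j, (Pi.single i (a i) : Fin t → Fin 3) j * b' j + 0 -
          ∑ j, (Pi.single i (a i) : Fin t → Fin 3) j * b' j = c := by abel
      rwa [this] at h3
  exact key Finset.univ c a b (fun i hi => absurd (Finset.mem_univ i) hi)

/-- R1f: the normal form: `Rstd = {T c a b}` -/
theorem mem_Rstd_iff (hF : Fintype.card F = 2 ^ 2) {ω : F} (hω : ω ^ 2 + ω + 1 = 0) {t : ℕ} (ht : 1 ≤ t)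
    (g : GL (Fin t → Fin 3) F) :
    g ∈ Rstd ω t ↔ ∃ (c : Fin 3) (a b : Fin t → Fin 3),
      (g : Matrix (Fin t → Fin 3) (Fin t → Fin 3) F) = T ω c a b := by
  constructor
  · intro hg
    unfold Rstd at hg
    induction hg using Subgroup.closure_induction with
    | mem x hx =>
      obtain ⟨i, a, b, h⟩ := hx
      exact ⟨0, Pi.single i a, Pi.single i b, by rw [h, r1_slot_eq_T]⟩
    | one => exact ⟨0, 0, 0, by rw [Units.val_one, T_one]⟩
    | mul x y _ _ hx hy =>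
      obtain ⟨c, a, b, h⟩ := hx
      obtain ⟨c', a', b', h'⟩ := hy
      exact ⟨_, _, _, by rw [Units.val_mul, h, h', T_mul hω]⟩
    | inv x _ hx =>
      obtain ⟨c, a, b, h⟩ := hx
      refine ⟨-c + ∑ i, (-a) i * b i, -a, -b, ?_⟩
      have h1 : x = TGL hω c a b := Units.ext h
      rw [h1]
      rfl
  · rintro ⟨c, a, b, h⟩
    have h1 : g = TGL hω c a b := Units.ext h
    rw [h1]
    exact r1_TGL_mem hω ht c a b

end Cfsg.Agent.Lib.Helper23.UAE3Leaf
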