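import Mathlib
import Cfsg.Agent.Lib.Helper2.BGCorI
import Cfsg.Agent.Lib.Helper24.BGBeta2
import Cfsg.Agent.Lib.Helper16.StabChain
import Cfsg.Agent.Lib.Helper16.BGPrimD
import Cfsg.Agent.Lib.Helper17.BGTrans
import Cfsg.Agent.S1408
import Cfsg.Agent.S1414
import Cfsg.Agent.S1416
import Cfsg.Agent.S1417
import Cfsg.Agent.S1418
import Cfsg.Agent.S1422
import Cfsg.Agent.S1423
import Cfsg.Agent.S1424
import Cfsg.Agent.Lib.Helper8.BGEx1

/-!
# B & G Theorem 12.15(d1), (e2) and the prime-ordering trick (helper23)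

`M`, `L` maximal subgroups of the minimal simple group `G` of odd order, `q ∈ σ(M)`, `X ≠ 1` a
`q`-subgroup of `M` with `N_G(X) ≤ L ≠ M`.

* `thm12_15d1`, `thm12_15d1_both`: if `q ∈ σ(L)` then `L = L_β (M ∩ L)` and `M = M_β (M ∩ L)`.
* `thm12_15e2`: if `q ∉ σ(L)` then `π(M) ∩ σ(L) ⊆ β(L)`.
* `po_commute`: for `s ∣ |N|`, `s ∉ β(N)` and a prime `t > s`, a `t`-subgroup of `N` normalizing an
  `s`-subgroup of `N` centralizes it.
* `frattini_hall`: the Frattini argument through a characteristic Hall subgroup.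
* `h16`, ..., `h24`: the hypothesis-`Prop`s of helper2 / helper16 / helper23, discharged from the
  proved statements S1416, S1417, S1418, S1422, S1423, S1424.

See `notes/bg13/NOTES_h23.md` for the paper proofs.
-/

set_option autoImplicit false
set_option linter.style.haveILetI false
open scoped commutatorElement

namespace Cfsg.Agent.Lib.Helper23.BG1215

open Cfsg Cfsg.Agent.Lib.Helper1.BGX
open Cfsg.Agent.Lib.Helper8 (mem_map_conj conj_mem_map_conj map_conj_map_conj map_conj_one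
  map_conj_le_iff map_conj_eq_iff card_map_conj mem_normalizer_iff_map_conj IsSylIn sylow_smul_coe
  isSylIn_of_card_le card_dvd_of_isPGroup_le sylow_map_subtype_isSylIn)
open Cfsg.Agent.Lib.Helper8.BGEx (isSylIn_cj isSylIn_exists_conj exists_isSylIn_ge)
open Cfsg.Agent.Lib.Helper24.BGBeta (hallInf hallInf_not_dvd_card hallInf_not_dvd_index)
open Cfsg.Agent.Lib.Helper17.BGU (exists_coatom_ge normalizer_ne_top isCoatom_map_conj
  inUniqueMaximal_map_conj normalizer_eq_of_coatom not_pRankLE_of_elemAb pRankLE_of_sylow)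
open Cfsg.Agent.Lib.Helper16.BGPrim (H17n H18a H23 H24 lemmaW exists_normal_isSylIn
  exists_sylow_eq_of_not_dvd_index sigma_map_conj isSylIn_of_not_dvd_relIndex
  le_sigmaCore_of_isPGroup)
open Cfsg.Agent.Lib.Helper2.BGCor (H22 H23b H18e nonconj_symm wp_not_beta wp_not_nilpotent
  thm12_14fg)
open Cfsg.Agent.Lib.Helper23.BGY (H16 H17 exists_elemAb_sq)
open Cfsg.Agent.Lib.Helper17 (piCoreOf_le le_normalizer_piCoreOf)

universe u

variable {G : Type u} [Group G]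

/-- a Sylow `p`-subgroup of `K` has index prime to `p`. -/
theorem not_dvd_relIndex_of_isSylIn [Finite G] {p : ℕ} [Fact p.Prime] {P K : Subgroup G}
    (hP : IsSylIn p P K) : ¬ p ∣ P.relIndex K := by
  have hpp : p.Prime := Fact.out
  intro hd
  have h1 : Nat.card P * P.relIndex K = Nat.card K := by
    have := (P.subgroupOf K).card_mul_index
    rwa [Cfsg.Agent.Lib.Helper1.card_subgroupOf_of_le hP.1] at this
  have h2 : p ^ ((Nat.card K).factorization p + 1) ∣ Nat.card K := by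
    have h4 : p ^ ((Nat.card K).factorization p + 1) ∣ Nat.card P * P.relIndex K := by
      rw [hP.2, pow_succ]
      exact Nat.mul_dvd_mul_left _ hd
    rwa [h1] at h4
  have h3 := (Nat.Prime.pow_dvd_iff_le_factorization hpp Nat.card_pos.ne').mp h2
  omega

/-- a `p`-subgroup of `L` lies in every subgroup normalized by `L` of index prime to `p`. -/
theorem le_of_not_dvd_relIndex [Finite G] {p : ℕ} [Fact p.Prime] {B L P : Subgroup G}
    (hBL : B ≤ L) (hLB : L ≤ Subgroup.normalizer (B : Set G)) (hidx : ¬ p ∣ B.relIndex L)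
    (hP : IsPGroup p P) (hPL : P ≤ L) : P ≤ B := by
  have hpp : p.Prime := Fact.out
  haveI hn : (B.subgroupOf L).Normal :=
    (Subgroup.normal_subgroupOf_iff_le_normalizer hBL).mpr hLB
  have hcop : (Nat.card (P.subgroupOf L)).Coprime (B.subgroupOf L).index := by
    have hP' : IsPGroup p ↥(P.subgroupOf L) := hP.comap_subtype
    obtain ⟨k, hk⟩ := IsPGroup.iff_card.mp hP'
    rw [hk]
    exact Nat.Coprime.pow_left k ((Nat.Prime.coprime_iff_not_dvd hpp).mpr hidx)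
  have h2 := Cfsg.Agent.Lib.Helper23.BGY.le_of_coprime_index_normal
    (B.subgroupOf L) (P.subgroupOf L) hcop
  intro y hy
  have h3 : (⟨y, hPL hy⟩ : ↥L) ∈ B.subgroupOf L := h2 (Subgroup.mem_subgroupOf.mpr hy)
  exact Subgroup.mem_subgroupOf.mp h3

/-- Frattini argument through the characteristic Hall `(ρ ∪ {q})`-subgroup of `T`:
`L = B N_L(S)`. -/
theorem frattini_hall [Finite G] {L T B S : Subgroup G} {q : ℕ} [Fact q.Prime] (ρ : Set ℕ)
    (hTL : T ≤ L) (hLT : L ≤ Subgroup.normalizer (T : Set G))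
    (hLB : L ≤ Subgroup.normalizer (B : Set G))
    (hB : ∀ p : ℕ, p.Prime → p ∈ ρ → ∀ P : Subgroup G, IsPGroup p P → P ≤ L → P ≤ B)
    (hnpc : ∀ p : ℕ, p.Prime → p ∉ ρ → p ∣ Nat.card T → Cfsg.HasNormalPComplement p ↥T)
    (hqρ : q ∉ ρ) (hST : S ≤ T) (hS : IsSylIn q S L) :
    ∀ l ∈ L, ∃ b ∈ B, ∃ n ∈ L ⊓ Subgroup.normalizer (S : Set G), l = b * n := by
  classical
  have hqp : q.Prime := Fact.out
  obtain ⟨ρ', hρ'⟩ : ∃ ρ' : Set ℕ, ρ' = {p | p ∉ ρ ∧ p ≠ q} := ⟨_, rfl⟩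
  obtain ⟨K0, hK0⟩ : ∃ K0 : Subgroup ↥T, K0 = hallInf ρ' ↥T := ⟨_, rfl⟩
  obtain ⟨K, hK⟩ : ∃ K : Subgroup G, K = K0.map T.subtype := ⟨_, rfl⟩
  haveI hK0c : K0.Characteristic := by rw [hK0]; infer_instance
  haveI hK0n : K0.Normal := Subgroup.normal_of_characteristic _
  have hKT : K ≤ T := hK ▸ Subgroup.map_subtype_le _
  have hKL : K ≤ L := hKT.trans hTL
  have hcardK : Nat.card K = Nat.card K0 := by
    rw [hK]; exact Subgroup.card_map_of_injective T.subtype_injective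
  have hKprimes : ∀ p : ℕ, p.Prime → p ∣ Nat.card K → p ∈ ρ ∨ p = q := by
    intro p hp hd
    by_contra hcon
    push Not at hcon
    rw [hcardK, hK0] at hd
    exact hallInf_not_dvd_card ρ' hp (by rw [hρ']; exact ⟨hcon.1, hcon.2⟩) hd
  have hqidx : ¬ q ∣ K0.index := by
    rw [hK0]
    refine hallInf_not_dvd_index ρ' (fun p hp hpρ' hpT => ?_) hqp (by rw [hρ']; exact fun h => h.2 rfl)
    rw [hρ'] at hpρ'
    exact hnpc p hp hpρ'.1 hpT
  -- `S ≤ K`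
  have hSK : S ≤ K := by
    have hS0 : IsPGroup q ↥(S.subgroupOf T) := hS.isPGroup.comap_subtype
    have hcop : (Nat.card (S.subgroupOf T)).Coprime K0.index := by
      obtain ⟨k, hk⟩ := IsPGroup.iff_card.mp hS0
      rw [hk]
      exact Nat.Coprime.pow_left k ((Nat.Prime.coprime_iff_not_dvd hqp).mpr hqidx)
    have h2 := Cfsg.Agent.Lib.Helper23.BGY.le_of_coprime_index_normal K0 (S.subgroupOf T) hcop
    intro s hs
    rw [hK]
    exact ⟨⟨s, hST hs⟩, h2 (Subgroup.mem_subgroupOf.mpr hs), rfl⟩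
  -- `L` normalizes `K`
  have hLK : L ≤ Subgroup.normalizer (K : Set G) := by
    apply Cfsg.Agent.Lib.Helper16.BGPrim.le_normalizer_of_conj_mem
    intro l hl x hx
    rw [hK] at hx ⊢
    exact Cfsg.Agent.Lib.Helper16.conj_mem_map_of_characteristic K0 (hLT hl) hx
  -- `S` is a Sylow subgroup of `K`
  have hSylK : IsSylIn q S K := by
    refine isSylIn_of_card_le hS.isPGroup hSK ?_
    rw [hS.2]
    apply Nat.pow_le_pow_right hqp.pos
    exact (Nat.factorization_le_iff_dvd Nat.card_pos.ne' Nat.card_pos.ne').mpr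
      (Subgroup.card_dvd_of_le hKL) q
  -- `K ≤ B S`
  have hKJ : K ≤ B ⊔ S := by
    rw [← Subgroup.relIndex_eq_one]
    by_contra hne
    obtain ⟨p, hp, hpd⟩ := Nat.exists_prime_and_dvd hne
    haveI : Fact p.Prime := ⟨hp⟩
    have hpK : p ∣ Nat.card K := hpd.trans (Subgroup.relIndex_dvd_card _ _)
    rcases hKprimes p hp hpK with hpρ | hpq
    · obtain ⟨P, hP, -⟩ := exists_isSylIn_ge (q := p) (U := ⊥) (L := K) IsPGroup.of_bot bot_le
      have hPB : P ≤ B := hB p hp hpρ P hP.isPGroup (hP.1.trans hKL)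
      have h1 : (B ⊔ S).relIndex K ∣ P.relIndex K :=
        Subgroup.relIndex_dvd_of_le_left K (hPB.trans le_sup_left)
      exact not_dvd_relIndex_of_isSylIn hP (hpd.trans h1)
    · subst hpq
      have h1 : (B ⊔ S).relIndex K ∣ S.relIndex K :=
        Subgroup.relIndex_dvd_of_le_left K le_sup_right
      exact not_dvd_relIndex_of_isSylIn hSylK (hpd.trans h1)
  -- Frattini
  intro l hl
  have h1 : IsSylIn q (S.map (MulAut.conj l).toMonoidHom) K := by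
    have h : IsSylIn q (S.map (MulAut.conj l).toMonoidHom) (K.map (MulAut.conj l).toMonoidHom) :=
      isSylIn_cj hSylK l
    rwa [show K.map (MulAut.conj l).toMonoidHom = K from
      mem_normalizer_iff_map_conj.mp (hLK hl)] at h
  obtain ⟨k, hkK, hk⟩ : ∃ k ∈ K, S.map (MulAut.conj l).toMonoidHom =
      S.map (MulAut.conj k).toMonoidHom := isSylIn_exists_conj hSylK h1
  have hn : k⁻¹ * l ∈ Subgroup.normalizer (S : Set G) := by
    rw [mem_normalizer_iff_map_conj, ← map_conj_map_conj, hk, map_conj_map_conj, inv_mul_cancel,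
      map_conj_one]
  have hk' : k ∈ ((B ⊔ S : Subgroup G) : Set G) := hKJ hkK
  rw [Subgroup.coe_mul_of_right_le_normalizer_left B S (hS.1.trans hLB)] at hk'
  obtain ⟨b, hb, s, hs, rfl⟩ := hk'
  refine ⟨b, hb, s * ((b * s)⁻¹ * l), ⟨L.mul_mem (hS.1 hs) (L.mul_mem (L.inv_mem (hKL hkK)) hl),
    (Subgroup.normalizer (S : Set G)).mul_mem (Subgroup.le_normalizer hs) hn⟩, by group⟩

/-! ### the hypotheses `H16`, ..., `H24` hold (the frozen statements are proved) -/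

theorem h16 [Finite G] (hG : Cfsg.IsMinSimpleOddOrder G) : H16 G :=
  fun M hM p _ A hA => (Cfsg.Agent.S1416.result hG M hM p A hA).1

theorem h17 [Finite G] (hG : Cfsg.IsMinSimpleOddOrder G) : H17 G :=
  fun M hM p _ hp A hA =>
    ⟨fun P => ((Cfsg.Agent.S1417.result hG M hM p hp A hA).2.1 P).1,
      (Cfsg.Agent.S1417.result hG M hM p hp A hA).2.2.2.2.1⟩

theorem h17n [Finite G] (hG : Cfsg.IsMinSimpleOddOrder G) : H17n G :=
  fun M hM p _ hp A hA => (Cfsg.Agent.S1417.result hG M hM p hp A hA).1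

theorem h18a [Finite G] (hG : Cfsg.IsMinSimpleOddOrder G) : H18a G :=
  fun M hM E hE p _ hp A hA =>
    ⟨(Cfsg.Agent.S1418.result hG M hM E hE p hp A hA).1.1,
      (Cfsg.Agent.S1418.result hG M hM E hE p hp A hA).2.1.2.2⟩

theorem h18e [Finite G] (hG : Cfsg.IsMinSimpleOddOrder G) : H18e G :=
  fun M hM E hE p _ hp A hA => (Cfsg.Agent.S1418.result hG M hM E hE p hp A hA).2.1.2.1

theorem h22 [Finite G] (hG : Cfsg.IsMinSimpleOddOrder G) : H22 G :=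
  fun p _ P hP hPna => Cfsg.Agent.S1422.result hG p P hP hPna

theorem h23 [Finite G] (hG : Cfsg.IsMinSimpleOddOrder G) : H23 G :=
  fun M hM p _ hp X hXM hX P hXd =>
    (Cfsg.Agent.S1423.result hG M hM p hp X hXM hX P (Or.inr hXd)).2

theorem h23b [Finite G] (hG : Cfsg.IsMinSimpleOddOrder G) : H23b G :=
  fun M hM p _ hp X hXM hX P hβ =>
    (Cfsg.Agent.S1423.result hG M hM p hp X hXM hX P (Or.inl hβ)).2

theorem h24 [Finite G] (hG : Cfsg.IsMinSimpleOddOrder G) : H24 G :=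
  fun M hM q _ hq X hXq hX1 hXM Mstar hMs hne hNX S hXS =>
    Cfsg.Agent.S1424.result hG M hM q hq X hXq hX1 hXM Mstar hMs hne hNX S hXS

/-! ### B & G 12.15(d1) -/

/-- **B & G 12.15(d1)**: `q ∈ σ(M) ∩ σ(L)`, `X ≠ 1` a `q`-subgroup of `M` with
`N_G(X) ≤ L ≠ M`.  Then `L = L_β (M ∩ L)`. -/
theorem thm12_15d1 [Finite G] (hG : Cfsg.IsMinSimpleOddOrder G)
    {M L : Subgroup G} (hM : IsCoatom M) (hL : IsCoatom L) (hLM : L ≠ M)
    {q : ℕ} [Fact q.Prime] (hqM : q ∈ Cfsg.sigma M) (hqL : q ∈ Cfsg.sigma L)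
    {X : Subgroup G} (hXq : IsPGroup q X) (hX1 : X ≠ ⊥) (hXM : X ≤ M)
    (hNX : Subgroup.normalizer (X : Set G) ≤ L) :
    ∀ l ∈ L, ∃ b ∈ Cfsg.piCoreOf (Cfsg.beta L) L, ∃ m ∈ M ⊓ L, l = b * m := by
  have hqp : q.Prime := Fact.out
  have hXL : X ≤ L := Subgroup.le_normalizer.trans hNX
  obtain ⟨S, hXS⟩ := exists_sylow_in_ge (show X ≤ M ⊓ L from le_inf hXM hXL) hXq
  obtain ⟨hnc, hNS, hidx⟩ := h24 hG M hM q hqM X hXq hX1 hXM L hL hLM hNX S hXS
  obtain ⟨S', hS'def⟩ : ∃ S' : Subgroup G,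
    S' = (S : Subgroup ↥(M ⊓ L)).map (M ⊓ L).subtype := ⟨_, rfl⟩
  rw [← hS'def] at hXS hNS hidx
  have hS'ML : S' ≤ M ⊓ L := hS'def ▸ Subgroup.map_subtype_le _
  have hS'q : IsPGroup q S' := hS'def ▸ S.isPGroup'.map _
  have hS'L : IsSylIn q S' L := isSylIn_of_not_dvd_relIndex hS'q (hS'ML.trans inf_le_right) hidx
  have hS'σ : S' ≤ Cfsg.sigmaCore L :=
    le_sigmaCore_of_isPGroup hG hL hqL hS'q (hS'ML.trans inf_le_right)
  have hqβ : q ∉ Cfsg.beta L := wp_not_beta hG (h23b hG) hM hL (nonconj_symm hnc) hqM hqL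
  obtain ⟨⟨-, -, hBidx⟩, -, -, -, hnpc⟩ := Cfsg.Agent.S1414.result hG L hL
  have key := frattini_hall (L := L) (T := Cfsg.sigmaCore L) (B := Cfsg.piCoreOf (Cfsg.beta L) L)
    (S := S') (Cfsg.beta L) (Cfsg.Agent.Lib.Helper2.BGCor.sigmaCore_le L) (Cfsg.Agent.Lib.Helper23.BGY.le_normalizer_sigmaCore L)
    (le_normalizer_piCoreOf L)
    (fun p hp hpβ P hP hPL => by
      haveI : Fact p.Prime := ⟨hp⟩
      exact le_of_not_dvd_relIndex (piCoreOf_le L) (le_normalizer_piCoreOf L) (hBidx p hp hpβ) hP hPL)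
    (fun p hp hpβ hpT =>
      (hnpc p hp (hpT.trans (Subgroup.card_dvd_of_le (Cfsg.Agent.Lib.Helper2.BGCor.sigmaCore_le L))) hpβ).2.1)
    hqβ hS'σ hS'L
  intro l hl
  obtain ⟨b, hb, n, hn, rfl⟩ := key l hl
  exact ⟨b, hb, n, ⟨hNS hn.2, hn.1⟩, rfl⟩

/-- **B & G 12.15(d1)**, both directions: `L = L_β (M ∩ L)` and `M = M_β (M ∩ L)`. -/
theorem thm12_15d1_both [Finite G] (hG : Cfsg.IsMinSimpleOddOrder G)
    {M L : Subgroup G} (hM : IsCoatom M) (hL : IsCoatom L) (hLM : L ≠ M)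
    {q : ℕ} [Fact q.Prime] (hqM : q ∈ Cfsg.sigma M) (hqL : q ∈ Cfsg.sigma L)
    {X : Subgroup G} (hXq : IsPGroup q X) (hX1 : X ≠ ⊥) (hXM : X ≤ M)
    (hNX : Subgroup.normalizer (X : Set G) ≤ L) :
    (∀ l ∈ L, ∃ b ∈ Cfsg.piCoreOf (Cfsg.beta L) L, ∃ m ∈ M ⊓ L, l = b * m) ∧
      ∀ m ∈ M, ∃ b ∈ Cfsg.piCoreOf (Cfsg.beta M) M, ∃ l ∈ M ⊓ L, m = b * l := by
  refine ⟨thm12_15d1 hG hM hL hLM hqM hqL hXq hX1 hXM hNX, ?_⟩
  have hXL : X ≤ L := Subgroup.le_normalizer.trans hNX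
  obtain ⟨S, hXS⟩ := exists_sylow_in_ge (show X ≤ M ⊓ L from le_inf hXM hXL) hXq
  obtain ⟨-, hNS, -⟩ := h24 hG M hM q hqM X hXq hX1 hXM L hL hLM hNX S hXS
  obtain ⟨S', hS'def⟩ : ∃ S' : Subgroup G,
    S' = (S : Subgroup ↥(M ⊓ L)).map (M ⊓ L).subtype := ⟨_, rfl⟩
  rw [← hS'def] at hXS hNS
  have hS'ML : S' ≤ M ⊓ L := hS'def ▸ Subgroup.map_subtype_le _
  have hS'q : IsPGroup q S' := hS'def ▸ S.isPGroup'.map _
  have hS'1 : S' ≠ ⊥ := fun h => hX1 (le_bot_iff.mp (h ▸ hXS))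
  intro m hm
  obtain ⟨b, hb, l, hl, rfl⟩ := thm12_15d1 hG hL hM hLM.symm hqL hqM hS'q hS'1
    (hS'ML.trans inf_le_right) hNS m hm
  exact ⟨b, hb, l, ⟨hl.2, hl.1⟩, rfl⟩

/-! ### the prime-ordering trick (PO) -/

/-- **(PO)**: `s ∣ |N|`, `s ∉ β(N)`, `t > s` a prime.  A `t`-subgroup of `N` normalizing an
`s`-subgroup of `N` centralizes it (it lies in `O_{s'}(N)` by the last clause of S1414). -/
theorem po_commute [Finite G] (hG : Cfsg.IsMinSimpleOddOrder G) {N : Subgroup G} (hN : IsCoatom N)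
    {s t : ℕ} (hs : s.Prime) (hsN : s ∣ Nat.card N) (hsβ : s ∉ Cfsg.beta N) (ht : t.Prime)
    (hst : s < t) {S0 T1 : Subgroup G} (hS0 : IsPGroup s S0) (hT1 : IsPGroup t T1)
    (hS0N : S0 ≤ N) (hT1N : T1 ≤ N) (hnorm : T1 ≤ Subgroup.normalizer (S0 : Set G)) :
    ∀ x ∈ S0, ∀ y ∈ T1, x * y = y * x := by
  haveI : Fact s.Prime := ⟨hs⟩
  haveI : Fact t.Prime := ⟨ht⟩
  obtain ⟨-, -, -, -, h⟩ := Cfsg.Agent.S1414.result hG N hN
  have h3 := (h s hs hsN hsβ).2.2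
  haveI hOc : (Cfsg.pPrimeCore s ↥N).Characteristic :=
    Cfsg.Agent.Lib.Helper12.pPrimeCore_characteristic s
  haveI hOn : (Cfsg.pPrimeCore s ↥N).Normal := Subgroup.normal_of_characteristic _
  have htidx : ¬ t ∣ (Cfsg.pPrimeCore s ↥N).index := fun hd => by
    have := h3 t ht hd
    omega
  have hT1O : T1.subgroupOf N ≤ Cfsg.pPrimeCore s ↥N := by
    apply Cfsg.Agent.Lib.Helper23.BGY.le_of_coprime_index_normal
    have hT1' : IsPGroup t ↥(T1.subgroupOf N) := hT1.comap_subtype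
    obtain ⟨k, hk⟩ := IsPGroup.iff_card.mp hT1'
    rw [hk]
    exact Nat.Coprime.pow_left k ((Nat.Prime.coprime_iff_not_dvd ht).mpr htidx)
  have hbot : Cfsg.pPrimeCore s ↥N ⊓ S0.subgroupOf N = ⊥ := by
    apply Disjoint.eq_bot
    apply Subgroup.disjoint_of_coprime_natCard
    have hS0' : IsPGroup s ↥(S0.subgroupOf N) := hS0.comap_subtype
    obtain ⟨k, hk⟩ := IsPGroup.iff_card.mp hS0'
    rw [hk]
    exact Nat.Coprime.pow_right k (Cfsg.Agent.Lib.Helper12.pPrimeCore_coprime s)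
  intro x hx y hy
  have hy' : (⟨y, hT1N hy⟩ : ↥N) ∈ Cfsg.pPrimeCore s ↥N := hT1O (Subgroup.mem_subgroupOf.mpr hy)
  have hc1 : (⟨x, hS0N hx⟩ : ↥N) * ⟨y, hT1N hy⟩ * (⟨x, hS0N hx⟩ : ↥N)⁻¹ * (⟨y, hT1N hy⟩ : ↥N)⁻¹ ∈
      Cfsg.pPrimeCore s ↥N :=
    Subgroup.mul_mem _ (hOn.conj_mem _ hy' _) (Subgroup.inv_mem _ hy')
  have hc2 : (⟨x, hS0N hx⟩ : ↥N) * ⟨y, hT1N hy⟩ * (⟨x, hS0N hx⟩ : ↥N)⁻¹ * (⟨y, hT1N hy⟩ : ↥N)⁻¹ ∈
      S0.subgroupOf N := by
    rw [Subgroup.mem_subgroupOf]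
    have h1 : y * x⁻¹ * y⁻¹ ∈ S0 :=
      (Subgroup.mem_normalizer_iff.mp (hnorm hy) x⁻¹).mp (S0.inv_mem hx)
    have h2 := S0.mul_mem hx h1
    have e : ((⟨x, hS0N hx⟩ * ⟨y, hT1N hy⟩ * (⟨x, hS0N hx⟩ : ↥N)⁻¹ * (⟨y, hT1N hy⟩ : ↥N)⁻¹ : ↥N) : G)
        = x * (y * x⁻¹ * y⁻¹) := by
      simp only [Subgroup.coe_mul, Subgroup.coe_inv]
      group
    rw [e]; exact h2
  have hc : (⟨x, hS0N hx⟩ : ↥N) * ⟨y, hT1N hy⟩ * (⟨x, hS0N hx⟩ : ↥N)⁻¹ * (⟨y, hT1N hy⟩ : ↥N)⁻¹ = 1 := by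
    have : _ ∈ Cfsg.pPrimeCore s ↥N ⊓ S0.subgroupOf N := ⟨hc1, hc2⟩
    rwa [hbot, Subgroup.mem_bot] at this
  have hc' : x * y * x⁻¹ * y⁻¹ = 1 := by
    have := congrArg (fun z : ↥N => (z : G)) hc
    simpa using this
  calc x * y = (x * y * x⁻¹ * y⁻¹) * (y * x) := by group
    _ = y * x := by rw [hc', one_mul]

/-! ### B & G 12.15(e2) -/

/-- **B & G 12.15(e2)**: `q ∈ σ(M)`, `X ≠ 1` a `q`-subgroup of `M`, `L ≠ M` a maximal subgroup
containing `N_G(X)` with `q ∉ σ(L)`.  Then `π(M) ∩ σ(L) ⊆ β(L)`. -/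
theorem thm12_15e2 [Finite G] (hG : Cfsg.IsMinSimpleOddOrder G)
    {M L : Subgroup G} (hM : IsCoatom M) (hL : IsCoatom L) (hLM : L ≠ M)
    {q : ℕ} [Fact q.Prime] (hqM : q ∈ Cfsg.sigma M) (hqL : q ∉ Cfsg.sigma L)
    {X : Subgroup G} (hXq : IsPGroup q X) (hX1 : X ≠ ⊥) (hXM : X ≤ M)
    (hNX : Subgroup.normalizer (X : Set G) ≤ L) {t : ℕ} (htM : t ∣ Nat.card M)
    (htL : t ∈ Cfsg.sigma L) : t ∈ Cfsg.beta L := by
  by_contra htβ
  have hqp : q.Prime := Fact.out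
  have htp : t.Prime := htL.1
  haveI : Fact t.Prime := ⟨htp⟩
  have htq : t ≠ q := fun h => hqL (h ▸ htL)
  -- (G)
  obtain ⟨hqτ, hnil, -, hE⟩ := thm12_14fg hG (h16 hG) (h17 hG) (h17n hG) (h18e hG) (h24 hG)
    hM hL hLM hqM hqL hXq hX1 hXM hNX
  -- the Sylow `q`-subgroup `S'` of `M ∩ L`
  have hXL : X ≤ L := Subgroup.le_normalizer.trans hNX
  obtain ⟨S, hXS⟩ := exists_sylow_in_ge (show X ≤ M ⊓ L from le_inf hXM hXL) hXq
  obtain ⟨hnc, -, hidx⟩ := h24 hG M hM q hqM X hXq hX1 hXM L hL hLM hNX S hXS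
  obtain ⟨S', hS'def⟩ : ∃ S' : Subgroup G,
    S' = (S : Subgroup ↥(M ⊓ L)).map (M ⊓ L).subtype := ⟨_, rfl⟩
  rw [← hS'def] at hXS hidx
  have hS'ML : S' ≤ M ⊓ L := hS'def ▸ Subgroup.map_subtype_le _
  have hS'q : IsPGroup q S' := hS'def ▸ S.isPGroup'.map _
  have hS'L : IsSylIn q S' L := isSylIn_of_not_dvd_relIndex hS'q (hS'ML.trans inf_le_right) hidx
  -- `A ≤ S'` elementary abelian of order `q ^ 2`
  have hr1S : ¬ Cfsg.PRankLE q 1 ↥S' := fun h => hqτ.2.2.2 (pRankLE_of_isSylIn hS'L h)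
  obtain ⟨A, hAS', hAe, hAc⟩ := exists_elemAb_sq (p := q) hr1S
  have hAML : A ≤ M ⊓ L := hAS'.trans hS'ML
  have hAL : A ≤ L := hAML.trans inf_le_right
  have hAq : IsPGroup q A := hS'q.to_le hAS'
  have hCσ : Cfsg.sigmaCore L ⊓ Subgroup.centralizer (A : Set G) = ⊥ :=
    (Cfsg.Agent.S1417.result hG L hL q hqτ A ⟨hAL, hAe, hAc⟩).2.2.2.1
  have hCA : Subgroup.centralizer (A : Set G) ≤ M ⊓ L := by
    obtain ⟨-, ⟨h1, h2, -⟩, -⟩ := Cfsg.Agent.S1418.result hG L hL (M ⊓ L) hE q hqτ A ⟨hAML, hAe, hAc⟩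
    exact h1.trans h2.le
  -- the normal Sylow `t`-subgroup of `L`
  obtain ⟨Tst, hTst, hTstn⟩ := exists_normal_isSylIn hG hL hnil htL
  have hTst1 : Tst ≠ ⊥ := Cfsg.Agent.Lib.Helper16.BGPrim.isSylIn_ne_bot hTst htL.2.1
  have hTstσ : Tst ≤ Cfsg.sigmaCore L := le_sigmaCore_of_isPGroup hG hL htL hTst.isPGroup hTst.1
  -- (1) `q < t`
  have hqt : q < t := by
    by_contra hcon
    have hlt : t < q := lt_of_le_of_ne (not_lt.mp hcon) htq
    have hcomm := po_commute hG hL htp htL.2.1 htβ hqp hlt hTst.isPGroup hAq hTst.1 hAL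
      (hAL.trans hTstn)
    apply hTst1
    rw [eq_bot_iff, ← hCσ]
    refine le_inf hTstσ ?_
    intro x hx
    rw [Subgroup.mem_centralizer_iff]
    intro a ha
    exact (hcomm x hx a ha).symm
  -- (2) `q ∉ β(M)`
  have hqβM : q ∉ Cfsg.beta M := fun h =>
    (Cfsg.Agent.S1408.result hG L hL q hqL hqτ.2.2.1 hqτ.2.2.2).1 h.2
  -- (3) `t ∉ σ(M)`
  have htσM : t ∉ Cfsg.sigma M := by
    intro htM'
    obtain ⟨SM, hSMM, -, -⟩ := exists_sylow_of_mem_sigma htM'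
    obtain ⟨SL, hSLL, hSL1, -⟩ := exists_sylow_of_mem_sigma htL
    obtain ⟨g, hg⟩ := MulAction.exists_smul_eq G SM SL
    have hSLcoe : (SL : Subgroup G) = (SM : Subgroup G).map (MulAut.conj g).toMonoidHom := by
      rw [← hg, sylow_smul_coe]
    have hSLM' : (SL : Subgroup G) ≤ M.map (MulAut.conj g).toMonoidHom := by
      rw [hSLcoe]; exact Subgroup.map_mono hSMM
    have hnc' : ∀ h : G, L ≠ (M.map (MulAut.conj g).toMonoidHom).map (MulAut.conj h).toMonoidHom := by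
      intro h
      rw [map_conj_map_conj]
      exact hnc (h * g)
    exact wp_not_nilpotent hG (h24 hG) (isCoatom_map_conj g hM) hL hnc' (sigma_map_conj htM' g) htL
      SL.isPGroup' hSL1 hSLM' hSLL hnil
  -- a Sylow `t`-subgroup `T1` of `M` and a `T1`-invariant Sylow `q`-subgroup `Q1` of `M_σ`
  obtain ⟨T1, hT1, -⟩ := exists_isSylIn_ge (q := t) (U := ⊥) (L := M) IsPGroup.of_bot bot_le
  have hT11 : T1 ≠ ⊥ := Cfsg.Agent.Lib.Helper16.BGPrim.isSylIn_ne_bot hT1 htM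
  have hcop : (Nat.card T1).Coprime (Nat.card (Cfsg.sigmaCore M)) := by
    obtain ⟨k, hk⟩ := IsPGroup.iff_card.mp hT1.isPGroup
    rw [hk]
    exact Nat.Coprime.pow_left k ((Nat.Prime.coprime_iff_not_dvd htp).mpr
      (fun hd => htσM (Cfsg.Agent.Lib.Helper2.BGCor.primes_card_sigmaCore M t htp hd)))
  have hsolv : Group.IsSolvable ↥T1 := by
    haveI : Group.IsNilpotent ↥T1 := hT1.isPGroup.isNilpotent
    infer_instance
  obtain ⟨Q1, hQ1, -, hT1Q1⟩ := Cfsg.Agent.Lib.Helper8.exists_invariant_isSylIn_ge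
    (hT1.1.trans (Cfsg.Agent.Lib.Helper23.BGY.le_normalizer_sigmaCore M)) hcop (Or.inl hsolv) q ⊥
    bot_le IsPGroup.of_bot (Cfsg.Agent.Lib.Helper16.BGPrim.le_normalizer_of_conj_mem
      (fun b _ u hu => by rw [Subgroup.mem_bot] at hu ⊢; rw [hu]; group))
  obtain ⟨⟨-, -, hidxM⟩, -, -⟩ := Cfsg.Agent.S1350.result hG M hM
  have hQ1M : IsSylIn q Q1 M :=
    isSylIn_of_hall hQ1 (Cfsg.Agent.Lib.Helper2.BGCor.sigmaCore_le M) (hidxM q hqp hqM)
  -- `T1` centralizes `Q1`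
  have hcomm := po_commute hG hM hqp hqM.2.1 hqβM htp hqt hQ1M.isPGroup hT1.isPGroup hQ1M.1 hT1.1
    hT1Q1
  -- conjugate so that `A ≤ Q1 ^ m`
  obtain ⟨Q2, hQ2, hS'Q2⟩ := exists_isSylIn_ge hS'q (hS'ML.trans inf_le_left)
  obtain ⟨m, hmM, hm⟩ : ∃ m ∈ M, Q2 = Q1.map (MulAut.conj m).toMonoidHom :=
    isSylIn_exists_conj hQ1M hQ2
  have hT2 : T1.map (MulAut.conj m).toMonoidHom ≤ M ⊓ L := by
    refine le_trans ?_ hCA
    rintro _ ⟨y, hy, rfl⟩
    rw [Subgroup.mem_centralizer_iff]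
    intro a ha
    have ha' : a ∈ Q1.map (MulAut.conj m).toMonoidHom := hm ▸ hS'Q2 (hAS' ha)
    obtain ⟨x, hx, rfl⟩ := ha'
    simp only [MulEquiv.coe_toMonoidHom, MulAut.conj_apply]
    have := hcomm x hx y hy
    calc m * x * m⁻¹ * (m * y * m⁻¹) = m * (x * y) * m⁻¹ := by group
      _ = m * (y * x) * m⁻¹ := by rw [this]
      _ = m * y * m⁻¹ * (m * x * m⁻¹) := by group
  -- `t ∣ |M ∩ L|`, a contradiction
  have hd : t ∣ Nat.card ↥(M ⊓ L) := by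
    obtain ⟨k, hk⟩ := IsPGroup.iff_card.mp hT1.isPGroup
    have hk0 : k ≠ 0 := by
      rintro rfl
      rw [pow_zero] at hk
      exact hT11 (Subgroup.card_eq_one.mp hk)
    have h1 : t ∣ Nat.card (T1.map (MulAut.conj m).toMonoidHom) := by
      rw [card_map_conj, hk]
      exact dvd_pow_self t hk0
    exact h1.trans (Subgroup.card_dvd_of_le hT2)
  exact Cfsg.Agent.Lib.Helper23.BGY.not_mem_sigma_of_dvd_compl hG hL hE htp hd htL

end Cfsg.Agent.Lib.Helper23.BG1215
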