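import Mathlib
import Cfsg.Prelude.Def_Classical
import Cfsg.Agent.Lib.Helper26.OOMinDefs
import Cfsg.Agent.Lib.Helper26.OPMinCon1Rel

/-!
# S2344 leaf CONB1 (helper23), part REL: matrix identities on `Unit ⊕ (Fin n ⊕ Fin n)`

Coordinates `(x₀ | x | y)`: `mkv a x y`, `p0`, `px`, `py`; the action of `shoMat c`, `nsMat a`, `embO A`
on vectors, and the relations between `shoMat`, `nsMat`, `radMatO`, `leviMatO`, `wMatO` as matrix identities.
-/

set_option autoImplicit false
set_option linter.unusedSimpArgs false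
set_option linter.unusedSectionVars false

namespace Cfsg.Agent.Lib.Helper23.OOMin

open Matrix Cfsg.Agent.Lib.Helper27.OPMin Cfsg.Agent.Lib.Helper26.OOMin Cfsg.Agent.Lib.Helper26.OPMin

variable {F : Type*} [Field F] {n : ℕ}

/-! ### coordinates -/

/-- the vector with coordinates `(a | x | y)` -/
def mkv (a : F) (x y : Fin n → F) : IO n → F := Sum.elim (fun _ => a) (Sum.elim x y)

/-- the coordinate `x₀` -/
def p0 (v : IO n → F) : F := v (Sum.inl ())

/-- the coordinates `x` -/
def px (v : IO n → F) : Fin n → F := fun i => v (Sum.inr (Sum.inl i))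

/-- the coordinates `y` -/
def py (v : IO n → F) : Fin n → F := fun i => v (Sum.inr (Sum.inr i))

@[simp] theorem p0_mkv (a : F) (x y : Fin n → F) : p0 (mkv a x y) = a := rfl

@[simp] theorem px_mkv (a : F) (x y : Fin n → F) : px (mkv a x y) = x := rfl

@[simp] theorem py_mkv (a : F) (x y : Fin n → F) : py (mkv a x y) = y := rfl

theorem mkv_eta (v : IO n → F) : mkv (p0 v) (px v) (py v) = v := by
  funext k
  rcases k with ⟨⟩ | i | i <;> rfl

theorem quadFormOdd_eq (v : IO n → F) :
    Cfsg.quadFormOdd n F v = p0 v ^ 2 + px v ⬝ᵥ py v := rfl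

theorem quadFormOdd_eq_plus (v : IO n → F) :
    Cfsg.quadFormOdd n F v = p0 v ^ 2 + Cfsg.quadFormPlus n F (v ∘ Sum.inr) := rfl

/-! ### `embO` -/

theorem embO_mul (A B : Matrix (Fin n ⊕ Fin n) (Fin n ⊕ Fin n) F) :
    embO (A * B) = embO A * embO B := by
  unfold embO
  rw [fromBlocks_multiply]
  simp only [Matrix.mul_one, Matrix.mul_zero, Matrix.zero_mul, add_zero, zero_add]

theorem embO_one : embO (1 : Matrix (Fin n ⊕ Fin n) (Fin n ⊕ Fin n) F) = 1 := by
  unfold embO
  rw [fromBlocks_one]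

theorem embO_mulVec (A : Matrix (Fin n ⊕ Fin n) (Fin n ⊕ Fin n) F) (v : IO n → F) :
    embO A *ᵥ v = Sum.elim (fun _ => p0 v) (A *ᵥ (v ∘ Sum.inr)) := by
  unfold embO
  rw [fromBlocks_mulVec]
  simp only [Matrix.zero_mulVec, Matrix.one_mulVec, zero_add, add_zero]
  congr 1

theorem quadFormOdd_embO {A : Matrix (Fin n ⊕ Fin n) (Fin n ⊕ Fin n) F}
    (hA : ∀ w, Cfsg.quadFormPlus n F (A *ᵥ w) = Cfsg.quadFormPlus n F w) (v : IO n → F) :
    Cfsg.quadFormOdd n F (embO A *ᵥ v) = Cfsg.quadFormOdd n F v := by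
  rw [quadFormOdd_eq_plus, quadFormOdd_eq_plus, embO_mulVec]
  have h1 : (Sum.elim (fun _ => p0 v) (A *ᵥ (v ∘ Sum.inr)) : IO n → F) ∘ Sum.inr =
      A *ᵥ (v ∘ Sum.inr) := rfl
  rw [h1, hA]
  rfl

theorem radMatO_mulVec (R : Matrix (Fin n) (Fin n) F) (v : IO n → F) :
    radMatO R *ᵥ v = mkv (p0 v) (px v + (R - Rᵀ) *ᵥ py v) (py v) := by
  unfold radMatO
  rw [embO_mulVec]
  unfold radMat mkv
  rw [fromBlocks_mulVec]
  simp only [Matrix.zero_mulVec, Matrix.one_mulVec, zero_add]
  rfl

theorem leviMatO_mulVec (g : Matrix (Fin n) (Fin n) F) (v : IO n → F) :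
    leviMatO g *ᵥ v = mkv (p0 v) (g *ᵥ px v) ((g⁻¹)ᵀ *ᵥ py v) := by
  unfold leviMatO
  rw [embO_mulVec]
  unfold leviMat mkv
  rw [fromBlocks_mulVec]
  simp only [Matrix.zero_mulVec, zero_add, add_zero]
  rfl

/-! ### `shoMat`, `nsMat` on vectors -/

theorem shoMat_mulVec (c : Fin n → F) (v : IO n → F) :
    shoMat c *ᵥ v =
      mkv (p0 v - c ⬝ᵥ py v) ((2 * p0 v) • c + px v - (c ⬝ᵥ py v) • c) (py v) := by
  funext k
  rcases k with ⟨⟩ | i | i
  · simp [shoMat, mkv, p0, py, mulVec, dotProduct, Fintype.sum_sum_type, Matrix.one_apply,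
      sub_eq_add_neg]
  · simp [shoMat, mkv, p0, px, py, mulVec, dotProduct, Fintype.sum_sum_type, Matrix.one_apply,
      vecMulVec_apply, Finset.sum_neg_distrib]
    rw [Finset.sum_mul]
    have : ∀ x, c i * c x * v (Sum.inr (Sum.inr x)) = c x * v (Sum.inr (Sum.inr x)) * c i :=
      fun x => by ring
    simp only [this]
    ring
  · simp [shoMat, mkv, p0, px, py, mulVec, dotProduct, Fintype.sum_sum_type, Matrix.one_apply]

theorem mkv_congr {a a' : F} {x x' y y' : Fin n → F} (ha : a = a') (hx : x = x') (hy : y = y') :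
    mkv a x y = mkv a' x' y' := by
  rw [ha, hx, hy]

theorem nsMat_mulVec (a : Fin n) (v : IO n → F) :
    nsMat a *ᵥ v =
      mkv (-p0 v) (px v - (px v a + py v a) • Pi.single a 1)
        (py v - (py v a + px v a) • Pi.single a 1) := by
  funext k
  rcases k with ⟨⟩ | i | i
  · simp [nsMat, mkv, p0, mulVec, dotProduct, Fintype.sum_sum_type, Matrix.one_apply]
  · by_cases h : i = a
    · subst h
      simp [nsMat, mkv, p0, px, py, mulVec, dotProduct, Fintype.sum_sum_type, Matrix.one_apply,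
        Matrix.single_apply, Matrix.sub_apply, Matrix.neg_apply, sub_mul, Finset.sum_sub_distrib]
    · have h' : ¬ a = i := fun e => h e.symm
      simp [nsMat, mkv, p0, px, py, mulVec, dotProduct, Fintype.sum_sum_type, Matrix.one_apply,
        Matrix.single_apply, Matrix.sub_apply, Matrix.neg_apply, sub_mul, Finset.sum_sub_distrib,
        h, h']
  · by_cases h : i = a
    · subst h
      simp [nsMat, mkv, p0, px, py, mulVec, dotProduct, Fintype.sum_sum_type, Matrix.one_apply,
        Matrix.single_apply, Matrix.sub_apply, Matrix.neg_apply, sub_mul, Finset.sum_sub_distrib]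
    · have h' : ¬ a = i := fun e => h e.symm
      simp [nsMat, mkv, p0, px, py, mulVec, dotProduct, Fintype.sum_sum_type, Matrix.one_apply,
        Matrix.single_apply, Matrix.sub_apply, Matrix.neg_apply, sub_mul, Finset.sum_sub_distrib,
        h, h']

theorem swapMatO_mulVec (a : Fin n) (v : IO n → F) :
    embO (swapMat a) *ᵥ v =
      mkv (p0 v) (px v - (px v a - py v a) • Pi.single a 1)
        (py v - (py v a - px v a) • Pi.single a 1) := by
  funext k
  rcases k with ⟨⟩ | i | i
  · simp [embO, swapMat, mkv, p0, mulVec, dotProduct, Fintype.sum_sum_type, Matrix.one_apply]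
  · by_cases h : i = a
    · subst h
      simp [embO, swapMat, mkv, p0, px, py, mulVec, dotProduct, Fintype.sum_sum_type,
        Matrix.one_apply, Matrix.single_apply, Matrix.sub_apply, sub_mul, Finset.sum_sub_distrib]
    · have h' : ¬ a = i := fun e => h e.symm
      simp [embO, swapMat, mkv, p0, px, py, mulVec, dotProduct, Fintype.sum_sum_type,
        Matrix.one_apply, Matrix.single_apply, Matrix.sub_apply, sub_mul, Finset.sum_sub_distrib,
        h, h']
  · by_cases h : i = a
    · subst h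
      simp [embO, swapMat, mkv, p0, px, py, mulVec, dotProduct, Fintype.sum_sum_type,
        Matrix.one_apply, Matrix.single_apply, Matrix.sub_apply, sub_mul, Finset.sum_sub_distrib]
    · have h' : ¬ a = i := fun e => h e.symm
      simp [embO, swapMat, mkv, p0, px, py, mulVec, dotProduct, Fintype.sum_sum_type,
        Matrix.one_apply, Matrix.single_apply, Matrix.sub_apply, sub_mul, Finset.sum_sub_distrib,
        h, h']

/-! ### invariance of the form -/

theorem quadFormOdd_shoMat (c : Fin n → F) (v : IO n → F) :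
    Cfsg.quadFormOdd n F (shoMat c *ᵥ v) = Cfsg.quadFormOdd n F v := by
  rw [quadFormOdd_eq, quadFormOdd_eq, shoMat_mulVec]
  simp only [p0_mkv, px_mkv, py_mkv, add_dotProduct, sub_dotProduct, smul_dotProduct, smul_eq_mul]
  ring

theorem quadFormOdd_nsMat (a : Fin n) (v : IO n → F) :
    Cfsg.quadFormOdd n F (nsMat a *ᵥ v) = Cfsg.quadFormOdd n F v := by
  rw [quadFormOdd_eq, quadFormOdd_eq, nsMat_mulVec]
  simp only [p0_mkv, px_mkv, py_mkv, add_dotProduct, sub_dotProduct, smul_dotProduct, smul_eq_mul,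
    dotProduct_sub, dotProduct_smul, dotProduct_single, single_dotProduct, mul_one, one_mul,
    Pi.single_eq_same, Pi.sub_apply, Pi.smul_apply]
  ring

/-! ### the relations -/

theorem mat_ext_mulVec {A B : Matrix (IO n) (IO n) F} (h : ∀ v, A *ᵥ v = B *ᵥ v) : A = B :=
  Matrix.ext_iff_mulVec.mpr h

theorem shoMat_mul_shoMat (c c' : Fin n → F) :
    shoMat c * shoMat c' = shoMat (c + c') * radMatO (vecMulVec c' c) := by
  apply mat_ext_mulVec
  intro v
  rw [← Matrix.mulVec_mulVec, ← Matrix.mulVec_mulVec, shoMat_mulVec, shoMat_mulVec, radMatO_mulVec,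
    shoMat_mulVec]
  simp only [p0_mkv, px_mkv, py_mkv]
  refine mkv_congr ?_ ?_ rfl
  · rw [add_dotProduct]
    ring
  · funext i
    simp only [Matrix.sub_mulVec, transpose_vecMulVec, vecMulVec_mulVec, add_dotProduct,
      Pi.add_apply, Pi.sub_apply, Pi.smul_apply, smul_eq_mul, MulOpposite.smul_eq_mul_unop,
      MulOpposite.unop_op]
    ring

theorem shoMat_zero : shoMat (0 : Fin n → F) = 1 := by
  apply mat_ext_mulVec
  intro v
  rw [shoMat_mulVec, Matrix.one_mulVec]
  simp only [zero_dotProduct, sub_zero, smul_zero, zero_add]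
  exact mkv_eta v

theorem radMatO_of_symm (R : Matrix (Fin n) (Fin n) F) (h : Rᵀ = R) : radMatO R = 1 := by
  unfold radMatO
  rw [radMat_of_symm R h, embO_one]

theorem shoMat_mul_neg (c : Fin n → F) : shoMat c * shoMat (-c) = 1 := by
  rw [shoMat_mul_shoMat, add_neg_cancel, shoMat_zero, Matrix.one_mul]
  apply radMatO_of_symm
  rw [transpose_vecMulVec]
  ext i j
  simp only [vecMulVec_apply, Pi.neg_apply]
  ring

theorem shoMat_neg_mul (c : Fin n → F) : shoMat (-c) * shoMat c = 1 := by
  have := shoMat_mul_neg (-c)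
  rwa [neg_neg] at this

theorem radMatO_mul_shoMat (R : Matrix (Fin n) (Fin n) F) (c : Fin n → F) :
    radMatO R * shoMat c = shoMat c * radMatO R := by
  apply mat_ext_mulVec
  intro v
  rw [← Matrix.mulVec_mulVec, ← Matrix.mulVec_mulVec, shoMat_mulVec, radMatO_mulVec,
    radMatO_mulVec, shoMat_mulVec]
  simp only [p0_mkv, px_mkv, py_mkv]
  refine mkv_congr rfl ?_ rfl
  abel

theorem mulVec_dotProduct_inv_transpose {g : Matrix (Fin n) (Fin n) F} (hg : IsUnit g.det)
    (c y : Fin n → F) : (g *ᵥ c) ⬝ᵥ ((g⁻¹)ᵀ *ᵥ y) = c ⬝ᵥ y := by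
  rw [Matrix.dotProduct_mulVec, Matrix.vecMul_transpose, Matrix.mulVec_mulVec,
    Matrix.nonsing_inv_mul _ hg, Matrix.one_mulVec]

theorem leviMatO_mul_shoMat {g : Matrix (Fin n) (Fin n) F} (hg : IsUnit g.det) (c : Fin n → F) :
    leviMatO g * shoMat c = shoMat (g *ᵥ c) * leviMatO g := by
  apply mat_ext_mulVec
  intro v
  rw [← Matrix.mulVec_mulVec, ← Matrix.mulVec_mulVec, shoMat_mulVec, leviMatO_mulVec,
    leviMatO_mulVec, shoMat_mulVec]
  simp only [p0_mkv, px_mkv, py_mkv, mulVec_dotProduct_inv_transpose hg]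
  refine mkv_congr rfl ?_ rfl
  rw [Matrix.mulVec_sub, Matrix.mulVec_add, Matrix.mulVec_smul, Matrix.mulVec_smul]

theorem swapMatO_mul_shoMat (a : Fin n) (c : Fin n → F) (hc : c a = 0) :
    embO (swapMat a) * shoMat c = shoMat c * embO (swapMat a) := by
  apply mat_ext_mulVec
  intro v
  rw [← Matrix.mulVec_mulVec, ← Matrix.mulVec_mulVec, shoMat_mulVec, swapMatO_mulVec,
    swapMatO_mulVec, shoMat_mulVec]
  simp only [p0_mkv, px_mkv, py_mkv, dotProduct_sub, dotProduct_smul, dotProduct_single, hc,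
    mul_one, smul_zero, sub_zero, Pi.add_apply, Pi.sub_apply, Pi.smul_apply, smul_eq_mul, mul_zero,
    zero_mul, add_zero, zero_add]
  refine mkv_congr rfl ?_ rfl
  abel

theorem wMatO_mul_shoMat (a b : Fin n) (c : Fin n → F) (ha : c a = 0) (hb : c b = 0) :
    wMatO a b * shoMat c = shoMat c * wMatO a b := by
  unfold wMatO
  rw [embO_mul, Matrix.mul_assoc, swapMatO_mul_shoMat b c hb, ← Matrix.mul_assoc,
    swapMatO_mul_shoMat a c ha, Matrix.mul_assoc]

/-! ### the Weyl element `nsMat a` -/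

/-- the `2n × 2n` block of `nsMat a` -/
def nsBlk (a : Fin n) : Matrix (Fin n ⊕ Fin n) (Fin n ⊕ Fin n) F :=
  fromBlocks (1 - Matrix.single a a 1) (-(Matrix.single a a 1)) (-(Matrix.single a a 1))
    (1 - Matrix.single a a 1)

theorem nsMat_eq (a : Fin n) : (nsMat a : Matrix (IO n) (IO n) F) = fromBlocks (-1) 0 0 (nsBlk a) :=
  rfl

theorem nsMat_mul_embO (a : Fin n) (A : Matrix (Fin n ⊕ Fin n) (Fin n ⊕ Fin n) F) :
    nsMat a * embO A = fromBlocks (-1) 0 0 (nsBlk a * A) := by
  rw [nsMat_eq]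
  unfold embO
  rw [fromBlocks_multiply]
  simp only [Matrix.mul_one, Matrix.mul_zero, Matrix.zero_mul, add_zero, zero_add]

theorem embO_mul_nsMat (a : Fin n) (A : Matrix (Fin n ⊕ Fin n) (Fin n ⊕ Fin n) F) :
    embO A * nsMat a = fromBlocks (-1) 0 0 (A * nsBlk a) := by
  rw [nsMat_eq]
  unfold embO
  rw [fromBlocks_multiply]
  simp only [Matrix.one_mul, Matrix.mul_zero, Matrix.zero_mul, add_zero, zero_add]

theorem nsBlk_mul_self (a : Fin n) : (nsBlk a : Matrix _ _ F) * nsBlk a = 1 := by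
  unfold nsBlk
  rw [fromBlocks_multiply, ← fromBlocks_one]
  have hP := single_self_mul_self (F := F) a
  congr 1 <;>
  · simp only [Matrix.sub_mul, Matrix.mul_sub, Matrix.one_mul, Matrix.mul_one, hP, Matrix.neg_mul,
      Matrix.mul_neg, neg_neg]
    abel

theorem nsMat_mul_self (a : Fin n) : (nsMat a : Matrix (IO n) (IO n) F) * nsMat a = 1 := by
  rw [nsMat_eq, fromBlocks_multiply, ← fromBlocks_one]
  simp only [Matrix.mul_zero, Matrix.zero_mul, add_zero, zero_add, nsBlk_mul_self, Matrix.neg_mul,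
    Matrix.mul_neg, neg_neg, Matrix.one_mul, neg_zero]

theorem nsBlk_mul_radMat_comm (a : Fin n) (R : Matrix (Fin n) (Fin n) F)
    (hR : ∀ i j, R i j ≠ 0 → i ≠ a ∧ j ≠ a) :
    nsBlk a * radMat R = radMat R * nsBlk a := by
  have hra : ∀ j, R a j = 0 := fun j => by
    by_contra h
    exact (hR a j h).1 rfl
  have hca : ∀ i, R i a = 0 := fun i => by
    by_contra h
    exact (hR i a h).2 rfl
  have h1 : single a a (1 : F) * (R - Rᵀ) = 0 := by
    rw [Matrix.mul_sub, single_self_mul_eq_zero a R hra,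
      single_self_mul_eq_zero a Rᵀ (fun j => hca j), sub_zero]
  have h2 : (R - Rᵀ) * single a a (1 : F) = 0 := by
    rw [Matrix.sub_mul, mul_single_self_eq_zero a R hca,
      mul_single_self_eq_zero a Rᵀ (fun j => hra j), sub_zero]
  unfold nsBlk radMat
  generalize R - Rᵀ = B at h1 h2 ⊢
  rw [fromBlocks_multiply, fromBlocks_multiply]
  simp only [Matrix.mul_one, Matrix.one_mul, Matrix.mul_zero, Matrix.zero_mul, add_zero, zero_add,
    Matrix.sub_mul, Matrix.mul_sub, Matrix.neg_mul, Matrix.mul_neg, h1, h2, sub_zero, neg_zero]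
  congr 1
  abel

theorem nsMat_mul_radMatO_comm (a : Fin n) (R : Matrix (Fin n) (Fin n) F)
    (hR : ∀ i j, R i j ≠ 0 → i ≠ a ∧ j ≠ a) :
    nsMat a * radMatO R = radMatO R * nsMat a := by
  unfold radMatO
  rw [nsMat_mul_embO, embO_mul_nsMat, nsBlk_mul_radMat_comm a R hR]

theorem nsBlk_mul_radMat_single {a i : Fin n} (hia : i ≠ a) (t : F) :
    nsBlk a * radMat (single i a t) = leviMat (1 + single i a (-t)) * nsBlk a := by
  unfold nsBlk radMat leviMat
  rw [inv_one_add_single hia, fromBlocks_multiply, fromBlocks_multiply]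
  have hs : (single i a (-t) : Matrix (Fin n) (Fin n) F) = - single i a t := (single_neg i a t).symm
  have hs' : (single a i (-t) : Matrix (Fin n) (Fin n) F) = - single a i t := (single_neg a i t).symm
  simp only [transpose_sub, transpose_one, transpose_single, hs, hs', transpose_neg]
  simp only [Matrix.mul_zero, Matrix.zero_mul, add_zero, zero_add,
    Matrix.sub_mul, Matrix.mul_sub, Matrix.add_mul, Matrix.mul_add, Matrix.neg_mul, Matrix.mul_neg,
    single_mul_single_same,
    single_mul_single_of_ne _ _ _ _ hia, single_mul_single_of_ne _ _ _ _ hia.symm, mul_one, one_mul,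
    sub_zero, Matrix.one_mul, Matrix.mul_one, neg_zero]
  congr 1 <;> abel

theorem nsMat_mul_radMatO_single {a i : Fin n} (hia : i ≠ a) (t : F) :
    nsMat a * radMatO (single i a t) = leviMatO (1 + single i a (-t)) * nsMat a := by
  unfold radMatO leviMatO
  rw [nsMat_mul_embO, embO_mul_nsMat, nsBlk_mul_radMat_single hia t]

theorem nsMat_mul_leviMatO_single {a i : Fin n} (hia : i ≠ a) (t : F) :
    nsMat a * leviMatO (1 + single i a t) = radMatO (single i a (-t)) * nsMat a := by
  have h := nsMat_mul_radMatO_single (F := F) hia (-t)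
  rw [neg_neg] at h
  calc nsMat a * leviMatO (1 + single i a t)
      = nsMat a * (leviMatO (1 + single i a t) * nsMat a) * nsMat a := by
        rw [Matrix.mul_assoc, Matrix.mul_assoc, nsMat_mul_self, Matrix.mul_one]
    _ = nsMat a * (nsMat a * radMatO (single i a (-t))) * nsMat a := by rw [h]
    _ = radMatO (single i a (-t)) * nsMat a := by
        rw [← Matrix.mul_assoc, nsMat_mul_self, Matrix.one_mul]

theorem nsMat_mul_shoMat (a : Fin n) (c : Fin n → F) (hc : c a = 0) :
    nsMat a * shoMat c = shoMat (-c) * nsMat a := by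
  apply mat_ext_mulVec
  intro v
  rw [← Matrix.mulVec_mulVec, ← Matrix.mulVec_mulVec, shoMat_mulVec, nsMat_mulVec,
    nsMat_mulVec, shoMat_mulVec]
  simp only [p0_mkv, px_mkv, py_mkv, dotProduct_sub, dotProduct_smul, dotProduct_single, hc,
    mul_one, smul_zero, sub_zero, Pi.add_apply, Pi.sub_apply, Pi.smul_apply, smul_eq_mul, mul_zero,
    zero_mul, add_zero, zero_add, neg_dotProduct, Pi.neg_apply, neg_zero]
  refine mkv_congr ?_ ?_ rfl
  · ring
  · funext j
    simp only [Pi.add_apply, Pi.sub_apply, Pi.smul_apply, smul_eq_mul, Pi.neg_apply]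
    ring

/-- `n_a = x_a(1) x_{-a}(1) x_a(1)` with `x_{-a}(1) = n_a x_a(1) n_a` -/
theorem nsMat_eq_prod (a : Fin n) :
    (nsMat a : Matrix (IO n) (IO n) F) =
      shoMat (Pi.single a 1) * (nsMat a * shoMat (Pi.single a 1) * nsMat a) *
        shoMat (Pi.single a 1) := by
  apply mat_ext_mulVec
  intro v
  simp only [← Matrix.mulVec_mulVec]
  simp only [shoMat_mulVec, nsMat_mulVec, p0_mkv, px_mkv, py_mkv, dotProduct_sub, dotProduct_smul,
    dotProduct_single, single_dotProduct, mul_one, one_mul, Pi.add_apply, Pi.sub_apply,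
    Pi.smul_apply, smul_eq_mul, Pi.single_eq_same, dotProduct_add, sub_dotProduct, add_dotProduct,
    smul_dotProduct]
  refine mkv_congr ?_ ?_ ?_
  · ring
  · funext j
    by_cases h : j = a
    · subst h
      simp only [Pi.add_apply, Pi.sub_apply, Pi.smul_apply, smul_eq_mul, Pi.single_eq_same]
      ring
    · simp only [Pi.add_apply, Pi.sub_apply, Pi.smul_apply, smul_eq_mul, Pi.single_eq_of_ne h]
      ring
  · funext j
    by_cases h : j = a
    · subst h
      simp only [Pi.add_apply, Pi.sub_apply, Pi.smul_apply, smul_eq_mul, Pi.single_eq_same]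
      ring
    · simp only [Pi.add_apply, Pi.sub_apply, Pi.smul_apply, smul_eq_mul, Pi.single_eq_of_ne h]
      ring

end Cfsg.Agent.Lib.Helper23.OOMin
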