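import Mathlib
import Cfsg.Prelude.Def_Classical
import Cfsg.Agent.Lib.Helper26.OOMinDefs
import Cfsg.Agent.Lib.Helper26.OPMinCon1
import Cfsg.Agent.Lib.Helper23.OOMinCONB1Rel

/-!
# S2344 leaf CONB1 (helper23): the odd Siegel datum of `Ω_{2n+1}(F)`

`exists_siegelB`: for `n ≥ 3`, `|F| > 3`, `2 ≠ 0` there is a `SiegelB F n Ω_{2n+1}(F)` (helper26's structure)
with the matrices `radMatO`, `leviMatO`, `wMatO`, `shoMat`, `nsMat`.  The part `rad`, `levi`, `tor`, `w` is the
image of helper26's `Ω⁺_{2n}` datum under the embedding `embOO : O⁺_{2n} → O_{2n+1}`, `A ↦ 1 ⊕ A`.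
Memberships in the commutator subgroup: `sho c = ⁅levi (l • 1), sho (c / (l - 1))⁆` with `l ≠ 0, 1`;
`ns a = sho e_a * (ns a * sho e_a * ns a) * sho e_a` is a product of conjugates of elements of `Ω`.
-/

set_option autoImplicit false
set_option linter.unusedVariables false

namespace Cfsg.Agent.Lib.Helper23.OOMin

open Matrix Cfsg.Agent.Lib.Helper27.OPMin Cfsg.Agent.Lib.Helper26.OOMin Cfsg.Agent.Lib.Helper26.OPMin

open scoped commutatorElement

variable {F : Type*} [Field F] {n : ℕ}

/-- the isometry group of the odd form -/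
abbrev OGO (n : ℕ) (F : Type*) [Field F] : Type _ :=
  ↥(Cfsg.isometryGroup F (Cfsg.quadFormOdd n F))

/-- the matrix of an isometry -/
def matOO (x : OGO n F) : Matrix (IO n) (IO n) F :=
  ((x : GL (IO n) F) : Matrix (IO n) (IO n) F)

theorem matOO_injective : Function.Injective (matOO (n := n) (F := F)) :=
  fun _ _ h => Subtype.ext (Units.ext h)

theorem matOO_mul (x y : OGO n F) : matOO (x * y) = matOO x * matOO y := rfl

theorem matOO_one : matOO (1 : OGO n F) = 1 := rfl

/-- an isometry from a matrix, a two-sided inverse and the invariance of the form -/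
def mkOO (M N : Matrix (IO n) (IO n) F) (h1 : M * N = 1) (h2 : N * M = 1)
    (hQ : ∀ v, Cfsg.quadFormOdd n F (M *ᵥ v) = Cfsg.quadFormOdd n F v) : OGO n F :=
  ⟨⟨M, N, h1, h2⟩, fun u _ => hQ u⟩

theorem matOO_mkOO (M N : Matrix (IO n) (IO n) F) (h1 : M * N = 1) (h2 : N * M = 1)
    (hQ : ∀ v, Cfsg.quadFormOdd n F (M *ᵥ v) = Cfsg.quadFormOdd n F v) :
    matOO (mkOO M N h1 h2 hQ) = M := rfl

/-- the embedding `O⁺_{2n} → O_{2n+1}`, `A ↦ 1 ⊕ A` -/
def embOO : OG n F →* OGO n F where
  toFun x := mkOO (embO (matO x)) (embO (matO x⁻¹))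
    (by rw [← embO_mul, ← matO_mul, mul_inv_cancel, matO_one, embO_one])
    (by rw [← embO_mul, ← matO_mul, inv_mul_cancel, matO_one, embO_one])
    (quadFormOdd_embO (fun w => x.2 w w))
  map_one' := matOO_injective (by
    show embO (matO (1 : OG n F)) = 1
    rw [matO_one, embO_one])
  map_mul' x y := matOO_injective (by
    show embO (matO (x * y)) = embO (matO x) * embO (matO y)
    rw [matO_mul, embO_mul])

theorem matOO_embOO (x : OG n F) : matOO (embOO x) = embO (matO x) := rfl

theorem embOO_mem {x : OG n F} (hx : x ∈ commutator (OG n F)) :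
    embOO x ∈ commutator (OGO n F) := by
  rw [commutator_def] at hx ⊢
  have h1 : embOO x ∈ Subgroup.map (embOO (n := n) (F := F)) ⁅⊤, ⊤⁆ :=
    Subgroup.mem_map_of_mem _ hx
  rw [Subgroup.map_commutator] at h1
  exact Subgroup.commutator_mono le_top le_top h1

/-- the short root part of the radical -/
def shoOO (c : Fin n → F) : OGO n F :=
  mkOO (shoMat c) (shoMat (-c)) (shoMat_mul_neg c) (shoMat_neg_mul c) (quadFormOdd_shoMat c)

/-- the Weyl element of the short root `ε_a` -/
def nsOO (a : Fin n) : OGO n F :=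
  mkOO (nsMat a) (nsMat a) (nsMat_mul_self a) (nsMat_mul_self a) (quadFormOdd_nsMat a)

theorem matOO_shoOO (c : Fin n → F) : matOO (shoOO c) = shoMat c := rfl

theorem matOO_nsOO (a : Fin n) : matOO (nsOO a : OGO n F) = nsMat a := rfl

theorem matOO_embOO_radO (R : Matrix (Fin n) (Fin n) F) : matOO (embOO (radO R)) = radMatO R := rfl

theorem matOO_embOO_leviO (g : Matrix (Fin n) (Fin n) F) (hg : IsUnit g.det) :
    matOO (embOO (leviO g hg)) = leviMatO g := rfl

theorem matOO_embOO_leviHom (g : SpecialLinearGroup (Fin n) F) :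
    matOO (embOO (leviHom g)) = leviMatO (g : Matrix (Fin n) (Fin n) F) := rfl

/-! ### memberships in `Ω` -/

theorem mem_commutator_of_matOO {x y z : OGO n F}
    (h : matOO x * matOO y = matOO z * matOO y * matOO x) : z ∈ commutator (OGO n F) := by
  have h1 : x * y = z * y * x := matOO_injective h
  have hz : z = ⁅x, y⁆ := by
    rw [commutatorElement_def, eq_mul_inv_iff_mul_eq, eq_mul_inv_iff_mul_eq]
    exact h1.symm
  rw [hz, commutator_def]
  exact Subgroup.commutator_mem_commutator (Subgroup.mem_top x) (Subgroup.mem_top y)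

theorem shoOO_mem [Fintype F] (hq : 3 < Fintype.card F) (c : Fin n → F) :
    shoOO c ∈ commutator (OGO n F) := by
  obtain ⟨l, hl0, hl2⟩ := exists_sq_ne_one hq
  have hl1 : l - 1 ≠ 0 := by
    intro h
    apply hl2
    have : l = 1 := by linear_combination h
    rw [this, one_pow]
  have hu : IsUnit (l • (1 : Matrix (Fin n) (Fin n) F)).det := by
    rw [Matrix.det_smul, Matrix.det_one, mul_one]
    exact (isUnit_iff_ne_zero.mpr hl0).pow _
  refine mem_commutator_of_matOO (x := embOO (leviO (l • 1) hu)) (y := shoOO ((l - 1)⁻¹ • c)) ?_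
  rw [matOO_embOO_leviO, matOO_shoOO, matOO_shoOO, leviMatO_mul_shoMat hu, shoMat_mul_shoMat]
  have h1 : (l • (1 : Matrix (Fin n) (Fin n) F)) *ᵥ ((l - 1)⁻¹ • c) = c + (l - 1)⁻¹ • c := by
    rw [Matrix.smul_mulVec, Matrix.one_mulVec, smul_smul]
    nth_rewrite 2 [← one_smul F c]
    rw [← add_smul]
    congr 1
    field_simp
    ring
  have h2 : radMatO (vecMulVec ((l - 1)⁻¹ • c) c) = 1 := by
    apply radMatO_of_symm
    rw [transpose_vecMulVec]
    ext i j
    simp only [vecMulVec_apply, Pi.smul_apply, smul_eq_mul]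
    ring
  rw [h1, h2, Matrix.mul_one]

theorem nsOO_mem [Fintype F] (hq : 3 < Fintype.card F) (a : Fin n) :
    (nsOO a : OGO n F) ∈ commutator (OGO n F) := by
  have hs := shoOO_mem hq (Pi.single a (1 : F) : Fin n → F)
  have hN : (commutator (OGO n F)).Normal := inferInstance
  have h1 : nsOO a * shoOO (Pi.single a 1) * (nsOO a)⁻¹ ∈ commutator (OGO n F) :=
    hN.conj_mem _ hs _
  have h2 : (nsOO a : OGO n F)⁻¹ = nsOO a := by
    rw [inv_eq_iff_mul_eq_one]
    apply matOO_injective
    exact nsMat_mul_self a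
  rw [h2] at h1
  have h3 : (nsOO a : OGO n F) =
      shoOO (Pi.single a 1) * (nsOO a * shoOO (Pi.single a 1) * nsOO a) * shoOO (Pi.single a 1) := by
    apply matOO_injective
    exact nsMat_eq_prod a
  rw [h3]
  exact mul_mem (mul_mem hs h1) hs

/-! ### the datum -/

/-- the group `Ω_{2n+1}(F)` -/
abbrev OmO (n : ℕ) (F : Type*) [Field F] : Type _ :=
  ↥(Cfsg.Omega F (Cfsg.quadFormOdd n F))

theorem omO_ext {x y : OmO n F} (h : matOO (x : OGO n F) = matOO (y : OGO n F)) : x = y :=
  Subtype.ext (matOO_injective h)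

theorem omMatO_eq (x : OmO n F) : omMatO x = matOO (x : OGO n F) := rfl

section main

variable {F : Type*} [Field F] [Fintype F] {n : ℕ}

/-- CONB1: the odd Siegel datum of `Ω_{2n+1}(F)`. -/
theorem exists_siegelB [DecidableEq F] (hn : 3 ≤ n) (hq : 3 < Fintype.card F) (hchar : (2 : F) ≠ 0) :
    ∃ D : SiegelB F n ↥(Cfsg.Omega F (Cfsg.quadFormOdd n F)),
      (∀ R, omMatO (D.rad R) = radMatO R) ∧
      (∀ g : SpecialLinearGroup (Fin n) F,
        omMatO (D.levi g) = leviMatO (g : Matrix (Fin n) (Fin n) F)) ∧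
      (∀ (a : Fin n) (s : Fˣ), omMatO (D.tor a s) = leviMatO (dsq a s)) ∧
      (∀ a b : Fin n, omMatO (D.w a b) = wMatO a b) ∧
      (∀ c, omMatO (D.sho c) = shoMat c) ∧
      ∀ a, omMatO (D.ns a) = nsMat a := by
  classical
  refine ⟨{
    rad := fun R => ⟨embOO (radO R), embOO_mem (radO_mem hq R)⟩
    levi := ((embOO (n := n) (F := F)).comp (leviHom (n := n) (F := F))).codRestrict
      (Cfsg.Omega F (Cfsg.quadFormOdd n F)) (fun g => embOO_mem (leviHom_mem hn g))
    tor := fun a s => ⟨embOO (leviO (dsq a s) (isUnit_det_dsq a s)), embOO_mem (torO_mem a s)⟩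
    w := fun a b => if h : a = b then 1 else ⟨embOO (swO a * swO b), embOO_mem (wO_mem h)⟩
    sho := fun c => ⟨shoOO c, shoOO_mem hq c⟩
    ns := fun a => ⟨nsOO a, nsOO_mem hq a⟩
    rad_add := ?_
    rad_of_symm := ?_
    levi_rad := ?_
    tor_rad := ?_
    w_rad_comm := ?_
    w_rad_single_left := ?_
    w_rad_single_right := ?_
    sho_mul := ?_
    rad_sho := ?_
    levi_sho := ?_
    tor_sho := ?_
    w_sho_comm := ?_
    ns_rad_comm := ?_
    ns_rad_single := ?_
    ns_levi_transvection := ?_
    ns_sho := ?_ }, fun R => rfl, fun g => rfl, fun a s => rfl, ?_, fun c => rfl, fun a => rfl⟩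
  · intro R S
    apply omO_ext
    show radMatO (R + S) = radMatO R * radMatO S
    unfold radMatO
    rw [radMat_add, embO_mul]
  · intro R hR
    apply omO_ext
    show radMatO R = 1
    exact radMatO_of_symm R hR
  · intro g R
    rw [mul_inv_eq_iff_eq_mul]
    apply omO_ext
    show leviMatO (g : Matrix (Fin n) (Fin n) F) * radMatO R =
      radMatO ((g : Matrix (Fin n) (Fin n) F) * R * (g : Matrix (Fin n) (Fin n) F)ᵀ) *
        leviMatO (g : Matrix (Fin n) (Fin n) F)
    unfold leviMatO radMatO
    rw [← embO_mul, ← embO_mul, leviMat_mul_radMat (isUnit_det_sl g) R]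
  · intro a s R
    rw [mul_inv_eq_iff_eq_mul]
    apply omO_ext
    show leviMatO (dsq a s) * radMatO R = radMatO (dsq a s * R * dsq a s) * leviMatO (dsq a s)
    have := leviMat_mul_radMat (isUnit_det_dsq a s) R
    rw [dsq_transpose] at this
    unfold leviMatO radMatO
    rw [← embO_mul, ← embO_mul, this]
  · intro a b R hR
    by_cases h : a = b
    · rw [dif_pos h, one_mul, mul_one]
    · rw [dif_neg h]
      apply omO_ext
      show embO (swapMat a * swapMat b) * radMatO R = radMatO R * embO (swapMat a * swapMat b)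
      unfold radMatO
      rw [← embO_mul, ← embO_mul, swapMat_mul_swapMat h, wMat_mul_radMat_comm a b R hR]
  · intro a b i hab hia hib t
    rw [mul_inv_eq_iff_eq_mul, dif_neg hab]
    apply omO_ext
    show embO (swapMat a * swapMat b) * radMatO (single i a t) =
      leviMatO ((SpecialLinearGroup.transvection hia t : SpecialLinearGroup (Fin n) F) :
        Matrix (Fin n) (Fin n) F) * embO (swapMat a * swapMat b)
    unfold radMatO leviMatO
    rw [← embO_mul, ← embO_mul, swapMat_mul_swapMat hab,
      Matrix.SpecialLinearGroup.transvection_coe, wMat_mul_radMat_single hab hia hib t]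
  · intro a b i hab hia hib t
    rw [mul_inv_eq_iff_eq_mul, dif_neg hab]
    apply omO_ext
    show embO (swapMat a * swapMat b) * radMatO (single i b t) =
      leviMatO ((SpecialLinearGroup.transvection hib t : SpecialLinearGroup (Fin n) F) :
        Matrix (Fin n) (Fin n) F) * embO (swapMat a * swapMat b)
    unfold radMatO leviMatO
    rw [← embO_mul, ← embO_mul, swapMat_mul_swapMat hab,
      Matrix.SpecialLinearGroup.transvection_coe, wMat_comm,
      wMat_mul_radMat_single hab.symm hib hia t]
  · intro c c'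
    apply omO_ext
    exact shoMat_mul_shoMat c c'
  · intro R c
    apply omO_ext
    exact radMatO_mul_shoMat R c
  · intro g c
    rw [mul_inv_eq_iff_eq_mul]
    apply omO_ext
    exact leviMatO_mul_shoMat (isUnit_det_sl g) c
  · intro a s c
    rw [mul_inv_eq_iff_eq_mul]
    apply omO_ext
    exact leviMatO_mul_shoMat (isUnit_det_dsq a s) c
  · intro a b c ha hb
    by_cases h : a = b
    · rw [dif_pos h, one_mul, mul_one]
    · rw [dif_neg h]
      apply omO_ext
      exact wMatO_mul_shoMat a b c ha hb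
  · intro a R hR
    apply omO_ext
    exact nsMat_mul_radMatO_comm a R hR
  · intro a i hia t
    rw [mul_inv_eq_iff_eq_mul]
    apply omO_ext
    show nsMat a * radMatO (single i a t) =
      leviMatO ((SpecialLinearGroup.transvection hia (-t) : SpecialLinearGroup (Fin n) F) :
        Matrix (Fin n) (Fin n) F) * nsMat a
    rw [Matrix.SpecialLinearGroup.transvection_coe]
    exact nsMat_mul_radMatO_single hia t
  · intro a i hia t
    rw [mul_inv_eq_iff_eq_mul]
    apply omO_ext
    show nsMat a * leviMatO ((SpecialLinearGroup.transvection hia t :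
        SpecialLinearGroup (Fin n) F) : Matrix (Fin n) (Fin n) F) =
      radMatO (single i a (-t)) * nsMat a
    rw [Matrix.SpecialLinearGroup.transvection_coe]
    exact nsMat_mul_leviMatO_single hia t
  · intro a c hc
    rw [mul_inv_eq_iff_eq_mul]
    apply omO_ext
    exact nsMat_mul_shoMat a c hc
  · intro a b
    by_cases h : a = b
    · subst h
      show omMatO (if h : a = a then (1 : OmO n F) else _) = wMatO a a
      rw [dif_pos rfl]
      unfold wMatO
      rw [swapMat_mul_self, embO_one]
      rfl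
    · show omMatO (if h : a = b then (1 : OmO n F) else _) = wMatO a b
      rw [dif_neg h]
      rfl

end main

end Cfsg.Agent.Lib.Helper23.OOMin
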