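/-
Helper23: SF market (S2752) leaf `exists_component`: if `O₂(H) = 1`, `A ≠ 1` is a `2`-subgroup and `F(H) ≤ C(A)`,
then some component of `H` is not centralized by `A`.  Else `F*(H) ≤ C(A)`, `A ≤ C(F*) ≤ F*`, so `A` lies in the
`2`-torsion of the abelian normal subgroup `Z(F*)`, a normal `2`-subgroup of `H`.
-/
import Mathlib
import Cfsg.Statements.S2752
import Cfsg.Agent.Lib.Helper16.SFDefs
import Cfsg.Agent.Lib.Helper8.ThTwoA
import Cfsg.Agent.Lib.Helper8.ThTwoE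
import Cfsg.Agent.Lib.Helper9.FStar

set_option autoImplicit false
universe u v
open Cfsg Cfsg.Agent.Lib.Helper16.SF Cfsg.Agent.Lib.Helper8.ThTwo

namespace Cfsg.Agent.Lib.Helper23.SFLeaf

section grp
variable {H : Type u} [Group H] [Finite H]

/-- the `2`-torsion of `Z ∩ C(Z)` for a normal subgroup `Z`: a normal `2`-subgroup -/
def SFecTor (Z : Subgroup H) : Subgroup H where
  carrier := {x | x ∈ Z ∧ x ∈ Subgroup.centralizer (Z : Set H) ∧ ∃ n : ℕ, x ^ 2 ^ n = 1}
  one_mem' := ⟨Z.one_mem, Subgroup.one_mem _, 0, by simp⟩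
  mul_mem' := by
    rintro x y ⟨hx, hxc, n, hn⟩ ⟨hy, hyc, m, hm⟩
    refine ⟨Z.mul_mem hx hy, Subgroup.mul_mem _ hxc hyc, n + m, ?_⟩
    have hcomm : Commute x y := (Subgroup.mem_centralizer_iff.mp hyc x hx)
    rw [hcomm.mul_pow, pow_add, pow_mul, hn, one_pow, one_mul, mul_comm (2 ^ n) (2 ^ m), pow_mul, hm, one_pow]
  inv_mem' := by
    rintro x ⟨hx, hxc, n, hn⟩
    exact ⟨Z.inv_mem hx, Subgroup.inv_mem _ hxc, n, by rw [inv_pow, hn, inv_one]⟩

theorem SFecTor_normal (Z : Subgroup H) [hZ : Z.Normal] : (SFecTor Z).Normal := by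
  refine ⟨fun x hx g => ?_⟩
  obtain ⟨hx, hxc, n, hn⟩ := hx
  haveI : (Subgroup.centralizer (Z : Set H)).Normal := Subgroup.normal_centralizer
  exact ⟨hZ.conj_mem x hx g, ‹(Subgroup.centralizer (Z : Set H)).Normal›.conj_mem x hxc g, n, by
    rw [conj_pow, hn, mul_one, mul_inv_cancel]⟩

theorem SFecTor_isPGroup (Z : Subgroup H) : IsPGroup 2 (SFecTor Z) := by
  rintro ⟨x, hx, hxc, n, hn⟩
  exact ⟨n, Subtype.ext (by simpa using hn)⟩

/-- **exists_component**.  Else `E(H)F(H) = F*(H) ≤ C(A)`, so `A ≤ C(F*) ≤ F*`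
(`Helper9.FStar.centralizer_generalizedFittingSubgroup_le`), `A ≤ Z(F*) ≤ F(H)` of odd order (`fitting_odd`). -/
theorem exists_component (ha : Cfsg.pCore 2 H = ⊥) (A : Subgroup H) (hA : IsPGroup 2 A) (hA1 : A ≠ ⊥)
    (hAF : Cfsg.fittingSubgroup H ≤ Subgroup.centralizer (A : Set H)) :
    ∃ K : Subgroup H, Cfsg.IsComponent K ∧ ¬ K ≤ Subgroup.centralizer (A : Set H) := by
  by_contra hcon
  push_neg at hcon
  have hL : Cfsg.layer H ≤ Subgroup.centralizer (A : Set H) := sSup_le (fun K hK => hcon K hK)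
  have hFs : Cfsg.generalizedFittingSubgroup H ≤ Subgroup.centralizer (A : Set H) := sup_le hL hAF
  have hAC : A ≤ Subgroup.centralizer (Cfsg.generalizedFittingSubgroup H : Set H) := by
    intro a ha' x hx
    exact ((Subgroup.mem_centralizer_iff.mp (hFs hx)) a ha').symm
  have hAFs : A ≤ Cfsg.generalizedFittingSubgroup H :=
    hAC.trans Cfsg.Agent.Lib.Helper9.centralizer_generalizedFittingSubgroup_le
  haveI : (Cfsg.generalizedFittingSubgroup H).Normal :=
    Cfsg.Agent.Lib.Helper9.generalizedFittingSubgroup_normal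
  have hTn : (SFecTor (Cfsg.generalizedFittingSubgroup H)).Normal := SFecTor_normal _
  have hT : SFecTor (Cfsg.generalizedFittingSubgroup H) ≤ Cfsg.pCore 2 H :=
    le_sSup ⟨hTn, SFecTor_isPGroup _⟩
  rw [ha] at hT
  apply hA1
  rw [eq_bot_iff]
  intro a haA
  apply hT
  obtain ⟨n, hn⟩ := hA ⟨a, haA⟩
  refine ⟨hAFs haA, hAC haA, n, ?_⟩
  have := congrArg Subtype.val hn
  simpa using this

end grp

end Cfsg.Agent.Lib.Helper23.SFLeaf
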