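/-
helper23: leaf L3 of S4551 (Alperin–Dade at the character level, planner helper17):
every member of the principal block of `N` is `G`-invariant, when `N ⊴ G` has index prime to `p`
and `G = N C_G(P)` for a Sylow `p`-subgroup `P` of `G`.
-/
import Mathlib
import Cfsg.Prelude.Def_Blocks
import Cfsg.Agent.S4708
import Cfsg.Agent.Lib.Helper6.Clifford
import Cfsg.Agent.Lib.Helper6.CliffordCorrGen
import Cfsg.Agent.Lib.Helper24.LocalRing
import Cfsg.Agent.Lib.Helper22.Frobenius

set_option autoImplicit false

namespace Cfsg.Agent.Lib.Helper23.AlpDade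

open Cfsg Cfsg.Agent.CharLib Cfsg.Agent.Lib.Helper6 Cfsg.Agent.Lib.Helper24

universe u
variable {G : Type u} [Group G]

/-- An induced function vanishes off the conjugates of the subgroup. -/
theorem exists_conj_mem_of_indFun_ne_zero [Fintype G] (T : Subgroup G) (ψ : T → ℂ) (g : G)
    (h : indFun T ψ g ≠ 0) : ∃ x : G, x⁻¹ * g * x ∈ T := by
  classical
  by_contra hcon
  push Not at hcon
  apply h
  unfold indFun
  rw [Finset.sum_eq_zero, mul_zero]
  intro x _
  unfold extendByZero
  rw [Function.extend_apply']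
  · rfl
  · rintro ⟨t, ht⟩
    apply hcon x
    rw [← ht]
    exact t.2

/-- A member of the principal block does not vanish on the centralizer of a Sylow `p`-subgroup
(the class size is prime to `p`, and the central character is congruent to it). -/
theorem principal_apply_ne_zero [Finite G] (p : ℕ) [Fact p.Prime] (M : Ideal AlgInt)
    (hM : IsPModular p M) (P : Sylow p G) (χ : IrrCharacter G) (hχ : χ ∈ principalBlock M G)
    (c : G) (hc : c ∈ Subgroup.centralizer ((P : Subgroup G) : Set G)) :
    (χ : G → ℂ) c ≠ 0 := by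
  classical
  have hprime : M.IsPrime := isPrime_of_isPModular hM
  intro h0
  have h1 : MemLocalIdeal M (centralChar (fun _ : G => (1 : ℂ)) c - centralChar (χ : G → ℂ) c) :=
    hχ c
  have hle : (P : Subgroup G) ≤ Subgroup.centralizer ({c} : Set G) := by
    intro x hx
    rw [Subgroup.mem_centralizer_iff]
    intro y hy
    rw [Set.mem_singleton_iff] at hy
    subst hy
    exact (Subgroup.mem_centralizer_iff.mp hc x hx).symm
  have hdvd : (Subgroup.centralizer ({c} : Set G)).index ∣ (P : Subgroup G).index :=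
    Subgroup.index_dvd_of_le hle
  have hnp : ¬ p ∣ (Subgroup.centralizer ({c} : Set G)).index := by
    intro hp
    exact P.not_dvd_index (dvd_trans hp hdvd)
  have h2 : centralChar (fun _ : G => (1 : ℂ)) c - centralChar (χ : G → ℂ) c =
      (((Subgroup.centralizer ({c} : Set G)).index : AlgInt) : ℂ) := by
    unfold centralChar
    rw [h0]
    simp
  rw [h2, memLocalIdeal_coe_iff] at h1
  exact natCast_not_mem_of_not_dvd hM hnp h1

/-- The inertia subgroup, in the form used below. -/
def inertiaSub (N : Subgroup G) [hN : N.Normal] (θ : N → ℂ) : Subgroup G where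
  carrier := {g | conjFun N g θ = θ}
  mul_mem' := by
    intro a b ha hb
    change conjFun N (a * b) θ = θ
    rw [conjFun_mul, ha, hb]
  one_mem' := conjFun_one N θ
  inv_mem' := by
    intro a ha
    change conjFun N a⁻¹ θ = θ
    have := conjFun_inv_conjFun N a θ
    rw [ha] at this
    exact this

/-- L3: every member of `B₀(N)` is `G`-invariant. -/
theorem conjFun_eq_of_mem_principal [Finite G] (p : ℕ) [Fact p.Prime] (M : Ideal AlgInt)
    (hM : IsPModular p M) (N : Subgroup G) [N.Normal] (hidx : ¬ p ∣ N.index) (P : Sylow p G)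
    (hsup : N ⊔ Subgroup.centralizer ((P : Subgroup G) : Set G) = ⊤)
    (θ : IrrCharacter N) (hθ : θ ∈ principalBlock M N) (g : G) :
    conjFun N g (θ : N → ℂ) = (θ : N → ℂ) := by
  classical
  let _ : Fintype G := Fintype.ofFinite G
  let _ : Fintype N := Fintype.ofFinite N
  obtain ⟨χ, hχ, hover⟩ := Cfsg.Agent.S4708.exists_over_principal N p M hM θ hθ
  set T : Subgroup G := inertiaSub N (θ : N → ℂ) with hT
  let _ : Fintype T := Fintype.ofFinite T
  have hθcf : IsClassFunction N (θ : N → ℂ) :=
    IsCharacter.isClassFunction (IsIrrCharacter.isCharacter θ.2)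
  have hNT : N ≤ T := fun n hn => conjFun_of_mem N hθcf hn
  obtain ⟨ψ, -, hind, -⟩ := exists_indFun_eq_of_inertia_le hNT θ.2
    (fun g hg => (show g ∈ T from hg)) χ.2 hover
  by_contra hne
  have hTtop : T ≠ ⊤ := by
    intro htop
    apply hne
    have : g ∈ T := by rw [htop]; exact Subgroup.mem_top g
    exact this
  obtain ⟨x, -, hx⟩ := Cfsg.Agent.Lib.Helper22.exists_ne_one_forall_conj_not_mem T hTtop
  have hxtop : x ∈ ((N ⊔ Subgroup.centralizer ((P : Subgroup G) : Set G) : Subgroup G) : Set G) := by
    rw [hsup]; exact Subgroup.mem_top x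
  rw [Subgroup.normal_mul] at hxtop
  obtain ⟨n, hn, c, hc, rfl⟩ := Set.mem_mul.mp hxtop
  have hχc : (χ : G → ℂ) c ≠ 0 := principal_apply_ne_zero p M hM P χ hχ c hc
  rw [← hind] at hχc
  obtain ⟨y, hy⟩ := exists_conj_mem_of_indFun_ne_zero T ψ c hχc
  apply hx y
  have : y⁻¹ * (n * c) * y = (y⁻¹ * n * y⁻¹⁻¹) * (y⁻¹ * c * y) := by group
  rw [this]
  exact T.mul_mem (hNT (‹N.Normal›.conj_mem n hn y⁻¹)) hy

end Cfsg.Agent.Lib.Helper23.AlpDade
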