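/- helper23: B & G 14.6, clause (1) of S1379: `M~ ∩ N~ = ∅` for non-conjugate maximal subgroups
(no `τ₂` hypothesis), and the normal form of the elements of `M~`.
Hypothesis form (`SP G`, `H1428 G`) and real form. -/
import Mathlib
import Cfsg.Agent.Lib.Helper9.BG145B
import Cfsg.Agent.Lib.Helper27.BGPCountD

set_option autoImplicit false
set_option linter.style.haveILetI false
set_option linter.unusedSectionVars false

namespace Cfsg.Agent.Lib.Helper23.BG146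

open Cfsg
open Cfsg.Agent.Lib.Helper9.BG144
open Cfsg.Agent.Lib.Helper17.BGR2 (H1428)
open Cfsg.Agent.Lib.Helper2.BGCor (sigmaCore_le primes_card_sigmaCore)
open Cfsg.Agent.Lib.Helper8 (mem_map_conj conj_mem_map_conj map_conj_map_conj)
open Cfsg.Agent.Lib.Helper17.BGU (isCoatom_map_conj)

variable {G : Type*} [Group G] [Finite G]

/-- normal form of an element of `N~`: it is `a r` with `a ∈ N'_σ^#`, `r ∈ R_{N'}(a)` for a
conjugate `N'` of `N`. -/
theorem exists_of_mem_tilde (hG : Cfsg.IsMinSimpleOddOrder G) (hSP : SP G) (h28 : H1428 G)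
    {N : Subgroup G} (hN : IsCoatom N) {g : G}
    (hg : g ∈ Cfsg.tildeOf N ((Cfsg.sigmaCore N : Set G) \ {1})) :
    ∃ y : G, ∃ a ∈ Cfsg.sigmaCore (N.map (MulAut.conj y).toMonoidHom), a ≠ 1 ∧
      ∃ r ∈ Cfsg.supportR (N.map (MulAut.conj y).toMonoidHom) a, g = a * r := by
  obtain ⟨a, ⟨ha, ha1⟩, r, hr, y, hy⟩ := hg
  have ha1' : a ≠ 1 := fun h => ha1 (Set.mem_singleton_iff.mpr h)
  refine ⟨y, y * a * y⁻¹, ?_, ?_, y * r * y⁻¹, conj_mem_supportR hG hSP h28 hN ha ha1' hr y, ?_⟩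
  · rw [mem_sigmaCore_map_conj hG hN]
    have : y⁻¹ * (y * a * y⁻¹) * y = a := by group
    rw [this]; exact ha
  · intro h
    apply ha1'
    have : a = y⁻¹ * (y * a * y⁻¹) * y := by group
    rw [this, h]; group
  · rw [hy]; group

/-- the orders of a `σ(M)`-element and a `σ(N)`-element are coprime when `σ(M) ∩ σ(N) = ∅`. -/
theorem coprime_orderOf_of_sigma_disjoint {M N : Subgroup G}
    (hd : ∀ p : ℕ, p ∈ Cfsg.sigma M → p ∉ Cfsg.sigma N) {a b : G}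
    (ha : a ∈ Cfsg.sigmaCore M) (hb : b ∈ Cfsg.sigmaCore N) :
    (orderOf a).Coprime (orderOf b) := by
  apply Nat.coprime_of_dvd
  intro p hp h1 h2
  exact hd p
    (primes_card_sigmaCore M p hp (h1.trans (Subgroup.orderOf_dvd_natCard _ ha)))
    (primes_card_sigmaCore N p hp (h2.trans (Subgroup.orderOf_dvd_natCard _ hb)))

/-- the orders of `a ∈ M_σ` and `r ∈ R_M(a)` are coprime. -/
theorem coprime_orderOf_supportR (hG : Cfsg.IsMinSimpleOddOrder G) (hSP : SP G) (h28 : H1428 G)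
    {M : Subgroup G} (hM : IsCoatom M) {a : G} (ha : a ∈ Cfsg.sigmaCore M) (ha1 : a ≠ 1) {r : G}
    (hr : r ∈ Cfsg.supportR M a) {b : G} (hb : b ∈ Cfsg.sigmaCore M) :
    (orderOf b).Coprime (orderOf r) := by
  apply Nat.coprime_of_dvd
  intro p hp h1 h2
  exact primes_of_mem_supportR hG hSP h28 hM ha ha1 hr p hp h2
    (primes_card_sigmaCore M p hp (h1.trans (Subgroup.orderOf_dvd_natCard _ hb)))

/-- the core of 14.6(a): `a r = a' r'` is impossible for `a ∈ M_σ^#`, `a' ∈ N_σ^#`,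
`σ(M) ∩ σ(N) = ∅`. -/
theorem mul_ne_mul_of_sigma_disjoint (hG : Cfsg.IsMinSimpleOddOrder G) (hSP : SP G)
    (h28 : H1428 G) {M N : Subgroup G} (hM : IsCoatom M) (hN : IsCoatom N)
    (hd : ∀ p : ℕ, p ∈ Cfsg.sigma M → p ∉ Cfsg.sigma N)
    {a r a' r' : G} (ha : a ∈ Cfsg.sigmaCore M) (ha1 : a ≠ 1) (hr : r ∈ Cfsg.supportR M a)
    (ha' : a' ∈ Cfsg.sigmaCore N) (ha1' : a' ≠ 1) (hr' : r' ∈ Cfsg.supportR N a') :
    a * r ≠ a' * r' := by
  intro h
  have hd' : ∀ p : ℕ, p ∈ Cfsg.sigma N → p ∉ Cfsg.sigma M := fun p h1 h2 => hd p h2 h1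
  have hc := comm_of_mem_supportR hG hSP h28 hM ha ha1 hr
  have hc' := comm_of_mem_supportR hG hSP h28 hN ha' ha1' hr'
  have hcop1 := coprime_orderOf_supportR hG hSP h28 hM ha ha1 hr ha
  have hcop2 := coprime_orderOf_supportR hG hSP h28 hN ha' ha1' hr' ha'
  have hcop3 : (orderOf a').Coprime (orderOf a) := coprime_orderOf_of_sigma_disjoint hd' ha' ha
  -- `a' ∈ ⟨r⟩` and `a ∈ ⟨r'⟩`
  have h1 : a' ∈ Subgroup.zpowers r := mem_zpowers_of_decomp hc hc' hcop1 hcop2 hcop3 h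
  have h2 : a ∈ Subgroup.zpowers r' := mem_zpowers_of_decomp hc' hc hcop2 hcop1 hcop3.symm h.symm
  -- so `r, r' ≠ 1`
  rcases mem_supportR_cases hG hSP h28 hM ha ha1 hr with rfl | ⟨L, hL, hrL⟩
  · rw [Subgroup.zpowers_one_eq_bot, Subgroup.mem_bot] at h1
    exact ha1' h1
  rcases mem_supportR_cases hG hSP h28 hN ha' ha1' hr' with rfl | ⟨L', hL', hrL'⟩
  · rw [Subgroup.zpowers_one_eq_bot, Subgroup.mem_bot] at h2
    exact ha1 h2
  have ha'L : a' ∈ Cfsg.sigmaCore L := (Subgroup.zpowers_le.mpr hrL.1) h1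
  have haL' : a ∈ Cfsg.sigmaCore L' := (Subgroup.zpowers_le.mpr hrL'.1) h2
  have haL : a ∈ L := hL.cent_le (self_mem_centralizer a)
  -- a prime of `a`
  have hoa : orderOf a ≠ 1 := fun h => ha1 (orderOf_eq_one_iff.mp h)
  obtain ⟨p, hp, hpd⟩ := Nat.exists_prime_and_dvd hoa
  have hpM : p ∈ Cfsg.sigma M :=
    primes_card_sigmaCore M p hp (hpd.trans (Subgroup.orderOf_dvd_natCard _ ha))
  have hpL' : p ∈ Cfsg.sigma L' :=
    primes_card_sigmaCore L' p hp (hpd.trans (Subgroup.orderOf_dvd_natCard _ haL'))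
  by_cases hCL : Subgroup.centralizer ({a'} : Set G) ≤ L
  · -- then `L = L'`, but `σ(L) ∩ σ(M) = ∅`
    have hLL' : L = L' := hL'.uniq L hL.coatom hCL
    rw [← hLL'] at hpL'
    exact hL.sigma_disjoint hSP hM ha ha1 hpL' hpM
  · -- 14.4 for `(L, a')`: the subgroup is `L'` again, and `L'_σ ∩ L = 1` contains `a`
    obtain ⟨L'', hL''⟩ := exists_rdata hG hSP h28 hL.coatom ha'L ha1' hCL
    have e : L'' = L' := hL'.uniq L'' hL''.coatom hL''.cent_le
    rw [e] at hL''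
    have : a ∈ Cfsg.sigmaCore L' ⊓ L := ⟨haL', haL⟩
    rw [hL''.inf_bot, Subgroup.mem_bot] at this
    exact ha1 this

/-- **S1379 (1)**, hypothesis form. -/
theorem tilde_disjoint_of (hG : Cfsg.IsMinSimpleOddOrder G) (hSP : SP G) (h28 : H1428 G)
    {M N : Subgroup G} (hM : IsCoatom M) (hN : IsCoatom N)
    (hnc : ∀ g : G, N ≠ M.map (MulAut.conj g).toMonoidHom) :
    Cfsg.tildeOf M ((Cfsg.sigmaCore M : Set G) \ {1}) ∩
      Cfsg.tildeOf N ((Cfsg.sigmaCore N : Set G) \ {1}) = ∅ := by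
  rw [Set.eq_empty_iff_forall_notMem]
  rintro g ⟨hgM, hgN⟩
  obtain ⟨y, a, ha, ha1, r, hr, hg⟩ := exists_of_mem_tilde hG hSP h28 hM hgM
  obtain ⟨y', a', ha', ha1', r', hr', hg'⟩ := exists_of_mem_tilde hG hSP h28 hN hgN
  have hM' := isCoatom_map_conj y hM
  have hN' := isCoatom_map_conj y' hN
  have hd : ∀ p : ℕ, p ∈ Cfsg.sigma (M.map (MulAut.conj y).toMonoidHom) →
      p ∉ Cfsg.sigma (N.map (MulAut.conj y').toMonoidHom) := by
    intro p h1 h2
    rw [sigma_map_conj_iff] at h1 h2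
    obtain ⟨k, hk⟩ := hSP M N hM hN ⟨p, h1, h2⟩
    exact hnc k hk
  exact mul_ne_mul_of_sigma_disjoint hG hSP h28 hM' hN' hd ha ha1 hr ha' ha1' hr'
    (hg.symm.trans hg')

/-- **S1379 (1)**. -/
theorem tilde_disjoint (hG : Cfsg.IsMinSimpleOddOrder G) {M N : Subgroup G} (hM : IsCoatom M)
    (hN : IsCoatom N) (hnc : ∀ g : G, N ≠ M.map (MulAut.conj g).toMonoidHom) :
    Cfsg.tildeOf M ((Cfsg.sigmaCore M : Set G) \ {1}) ∩
      Cfsg.tildeOf N ((Cfsg.sigmaCore N : Set G) \ {1}) = ∅ :=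
  tilde_disjoint_of hG (Cfsg.Agent.Lib.Helper27.BGPCount.sp_real hG)
    (Cfsg.Agent.Lib.Helper27.BGPCount.h1428_real hG) hM hN hnc

end Cfsg.Agent.Lib.Helper23.BG146
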