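/- helper23: B & G 14.6, last clause of S1379: no conjugate of an element of
`Ẑ = K K* − (K ∪ K*)` lies in any `Ñ`. -/
import Mathlib
import Cfsg.Agent.Lib.Helper23.BG146A
import Cfsg.Agent.S1430
import Cfsg.Agent.S1431

set_option autoImplicit false
set_option linter.style.haveILetI false
set_option linter.unusedSectionVars false

namespace Cfsg.Agent.Lib.Helper23.BG146

open Cfsg
open Cfsg.Agent.Lib.Helper9.BG144
open Cfsg.Agent.Lib.Helper17.BGR2 (H1428)
open Cfsg.Agent.Lib.Helper2.BGCor (sigmaCore_le primes_card_sigmaCore)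
open Cfsg.Agent.Lib.Helper8 (mem_map_conj conj_mem_map_conj map_conj_map_conj)
open Cfsg.Agent.Lib.Helper17.BGU (isCoatom_map_conj)

variable {G : Type*} [Group G] [Finite G]

/-- `Ñ` is closed under conjugation. -/
theorem conj_mem_tildeOf {N : Subgroup G} {A : Set G} {g : G} (hg : g ∈ Cfsg.tildeOf N A)
    (y : G) : y * g * y⁻¹ ∈ Cfsg.tildeOf N A := by
  obtain ⟨a, ha, r, hr, w, hw⟩ := hg
  refine ⟨a, ha, r, hr, y * w, ?_⟩
  rw [hw]; group

/-- elements of `K ⊔ K*` are products. -/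
theorem exists_mul_of_mem_sup_cent {K S : Subgroup G} {z : G}
    (hz : z ∈ K ⊔ (S ⊓ Subgroup.centralizer (K : Set G))) :
    ∃ k ∈ K, ∃ s ∈ S ⊓ Subgroup.centralizer (K : Set G), z = k * s ∧ k * s = s * k := by
  have hle : S ⊓ Subgroup.centralizer (K : Set G) ≤ Subgroup.normalizer (K : Set G) :=
    inf_le_right.trans (Subgroup.centralizer_le_normalizer _)
  have h := Subgroup.coe_mul_of_right_le_normalizer_left K _ hle
  have hz' : z ∈ ((K ⊔ (S ⊓ Subgroup.centralizer (K : Set G)) : Subgroup G) : Set G) := hz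
  rw [h] at hz'
  obtain ⟨k, hk, s, hs, rfl⟩ := hz'
  refine ⟨k, hk, s, hs, rfl, ?_⟩
  exact Subgroup.mem_centralizer_iff.mp hs.2 k hk

/-- primes of an element of a Hall `κ(M)`-subgroup are not in `σ(M)`. -/
theorem not_mem_sigma_of_mem_kappaHall {M K : Subgroup G}
    (hK : Cfsg.IsPiHallOf (Cfsg.kappa M) K M) {k : G} (hk : k ∈ K) :
    ∀ p : ℕ, p.Prime → p ∣ orderOf k → p ∉ Cfsg.sigma M := by
  intro p hp hd
  exact (hK.2.1 p hp (hd.trans (Subgroup.orderOf_dvd_natCard _ hk))).2.2.1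

/-- `C_G(s) ≤ M` for `s ∈ K*^#`. -/
theorem centralizer_le_of_mem_kstar (hG : Cfsg.IsMinSimpleOddOrder G) {M K : Subgroup G}
    (hM : IsCoatom M) (hK : Cfsg.IsPiHallOf (Cfsg.kappa M) K M) (hK1 : K ≠ ⊥) {s : G}
    (hs : s ∈ Cfsg.sigmaCore M ⊓ Subgroup.centralizer (K : Set G)) (hs1 : s ≠ 1) :
    Subgroup.centralizer ({s} : Set G) ≤ M := by
  intro g hg
  by_contra hgM
  have h := (Cfsg.Agent.S1431.result hG M hM K hK hK1).1 g hgM
  have hmem : s ∈ (Cfsg.sigmaCore M ⊓ Subgroup.centralizer (K : Set G)) ⊓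
      M.map (MulAut.conj g).toMonoidHom := by
    refine ⟨hs, ?_⟩
    show s ∈ M.map (MulAut.conj g).toMonoidHom
    rw [mem_map_conj]
    have : g⁻¹ * s * g = s := by
      have := Subgroup.mem_centralizer_iff.mp hg s rfl
      rw [mul_assoc, this]; group
    rw [this]
    exact sigmaCore_le M hs.1
  rw [h, Subgroup.mem_bot] at hmem
  exact hs1 hmem

/-- **S1379, last clause** for `z = k s` in normal form. -/
theorem zhat_ne_mul (hG : Cfsg.IsMinSimpleOddOrder G) {M K : Subgroup G}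
    (hM : IsCoatom M) (hK : Cfsg.IsPiHallOf (Cfsg.kappa M) K M) (hK1 : K ≠ ⊥)
    {k s : G} (hk : k ∈ K) (hk1 : k ≠ 1)
    (hs : s ∈ Cfsg.sigmaCore M ⊓ Subgroup.centralizer (K : Set G)) (hs1 : s ≠ 1)
    {N : Subgroup G} (hN : IsCoatom N) {a r : G} (ha : a ∈ Cfsg.sigmaCore N) (ha1 : a ≠ 1)
    (hr : r ∈ Cfsg.supportR N a) : k * s ≠ a * r := by
  have hSP := Cfsg.Agent.Lib.Helper27.BGPCount.sp_real hG
  have h28 := Cfsg.Agent.Lib.Helper27.BGPCount.h1428_real hG
  intro h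
  have hks : k * s = s * k := Subgroup.mem_centralizer_iff.mp hs.2 k hk
  have hc := comm_of_mem_supportR hG hSP h28 hN ha ha1 hr
  have hkσ := not_mem_sigma_of_mem_kappaHall hK hk
  have hsσ : ∀ p : ℕ, p.Prime → p ∣ orderOf s → p ∈ Cfsg.sigma M := fun p hp hd =>
    primes_card_sigmaCore M p hp (hd.trans (Subgroup.orderOf_dvd_natCard _ hs.1))
  have hcop1 : (orderOf s).Coprime (orderOf k) := coprime_of_pi hsσ hkσ
  have hcop2 := coprime_orderOf_supportR hG hSP h28 hN ha ha1 hr ha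
  have h' : s * k = a * r := hks ▸ h
  -- the case `r ≠ 1`, `a ∈ K`
  have key : a ∈ K → r ≠ 1 → False := by
    intro haK hr1
    rcases mem_supportR_cases hG hSP h28 hN ha ha1 hr with rfl | ⟨L, hL, hrL⟩
    · exact hr1 rfl
    have hoa : orderOf a ≠ 1 := fun h => ha1 (orderOf_eq_one_iff.mp h)
    obtain ⟨q, hq, hqd⟩ := Nat.exists_prime_and_dvd hoa
    haveI := Fact.mk hq
    set b := a ^ (orderOf a / q) with hb
    have hob : orderOf b = q := orderOf_pow_orderOf_div (orderOf_pos a).ne' hqd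
    have hbK : b ∈ K := Subgroup.pow_mem _ haK _
    have hYK : Subgroup.zpowers b ≤ K := Subgroup.zpowers_le.mpr hbK
    have hYcard : (Nat.card (Subgroup.zpowers b)).Prime := by
      rw [Nat.card_zpowers, hob]; exact hq
    have hb1 : b ≠ 1 := by
      intro h1
      rw [h1, orderOf_one] at hob
      exact hq.ne_one hob.symm
    have hY1 : Subgroup.zpowers b ≠ ⊥ := by
      rw [Ne, Subgroup.zpowers_eq_bot]; exact hb1
    -- `C(a) ≤ C(Y)`
    have hCC : Subgroup.centralizer ({a} : Set G) ≤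
        Subgroup.centralizer ((Subgroup.zpowers b : Subgroup G) : Set G) := by
      intro g hg
      rw [Subgroup.mem_centralizer_iff]
      intro y hy
      have hya : y ∈ Subgroup.zpowers a :=
        (Subgroup.zpowers_le.mpr (Subgroup.pow_mem _ (Subgroup.mem_zpowers a) _)) hy
      obtain ⟨i, rfl⟩ := Subgroup.mem_zpowers_iff.mp hya
      have hga : g * a = a * g := (Subgroup.mem_centralizer_iff.mp hg a rfl).symm
      exact ((Commute.zpow_right (show Commute g a from hga) i).eq).symm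
    have hYL : Subgroup.zpowers b ≤ L := by
      apply Subgroup.zpowers_le.mpr
      apply hL.cent_le
      rw [Subgroup.mem_centralizer_iff]
      intro y hy
      rw [Set.mem_singleton_iff.mp hy, hb]
      exact ((Commute.refl a).pow_right _).eq
    haveI : IsSimpleGroup G := hG.2.1
    have hNY : Subgroup.normalizer ((Subgroup.zpowers b : Subgroup G) : Set G) ≤ L :=
      Cfsg.Agent.Lib.Helper24.BGReg.normalizer_le_of_unique hY1 hYL hL.coatom
        (fun L' hL' hC => hL.uniq L' hL' (hCC.trans hC))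
    have hYσ := ((Cfsg.Agent.S1430.result hG M hM K hK hK1).2.2 _ hYK hYcard).2.2 L hL.coatom hNY
    have hqL : q ∈ Cfsg.sigma L := by
      apply primes_card_sigmaCore L q hq
      have := Subgroup.card_dvd_of_le hYσ
      rwa [Nat.card_zpowers, hob] at this
    exact (hL.tau2 q hq hqd).2.1 hqL
  by_cases hex : ∃ p : ℕ, p ∈ Cfsg.sigma N ∧ p ∈ Cfsg.sigma M
  · -- `σ(N) = σ(M)`
    obtain ⟨p, hpN, hpM⟩ := hex
    obtain ⟨g, hg⟩ := hSP M N hM hN ⟨p, hpM, hpN⟩
    have hσ : ∀ q : ℕ, q ∈ Cfsg.sigma N ↔ q ∈ Cfsg.sigma M := by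
      intro q; rw [hg, sigma_map_conj_iff]
    have haσ : ∀ p : ℕ, p.Prime → p ∣ orderOf a → p ∈ Cfsg.sigma M := fun p hp hd =>
      (hσ p).mp (primes_card_sigmaCore N p hp (hd.trans (Subgroup.orderOf_dvd_natCard _ ha)))
    have hrσ : ∀ p : ℕ, p.Prime → p ∣ orderOf r → p ∉ Cfsg.sigma M := fun p hp hd hpM =>
      primes_of_mem_supportR hG hSP h28 hN ha ha1 hr p hp hd ((hσ p).mpr hpM)
    obtain ⟨e1, e2⟩ := decomp_unique hks.symm hc hsσ haσ hkσ hrσ h'
    -- `a = s`, `r = k`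
    subst e1 e2
    rcases mem_supportR_cases hG hSP h28 hN ha ha1 hr with rfl | ⟨L, hL, hrL⟩
    · exact hk1 rfl
    have hLM : M = L := hL.uniq M hM (centralizer_le_of_mem_kstar hG hM hK hK1 hs hs1)
    subst hLM
    have : (orderOf k).Coprime (orderOf k) :=
      coprime_of_pi (fun p hp hd => primes_card_sigmaCore M p hp
        (hd.trans (Subgroup.orderOf_dvd_natCard _ hrL.1))) hkσ
    rw [Nat.coprime_self] at this
    exact hk1 (orderOf_eq_one_iff.mp this)
  · have hd : ∀ p : ℕ, p ∈ Cfsg.sigma N → p ∉ Cfsg.sigma M := fun p h1 h2 => hex ⟨p, h1, h2⟩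
    have hcop3 : (orderOf a).Coprime (orderOf s) := coprime_orderOf_of_sigma_disjoint hd ha hs.1
    have haK : a ∈ K :=
      (Subgroup.zpowers_le.mpr hk) (mem_zpowers_of_decomp hks.symm hc hcop1 hcop2 hcop3 h')
    apply key haK
    rintro rfl
    -- `s k = a`, with `a ∈ K`: then `s ∈ K`
    rw [mul_one] at h'
    have hsK : s ∈ K := by
      have : s = a * k⁻¹ := by rw [← h']; group
      rw [this]; exact Subgroup.mul_mem _ haK (Subgroup.inv_mem _ hk)
    have : (orderOf s).Coprime (orderOf s) :=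
      coprime_of_pi hsσ (not_mem_sigma_of_mem_kappaHall hK hsK)
    rw [Nat.coprime_self] at this
    exact hs1 (orderOf_eq_one_iff.mp this)

/-- **S1379, last clause**. -/
theorem zhat_not_mem_tilde' (hG : Cfsg.IsMinSimpleOddOrder G) {M K : Subgroup G}
    (hM : IsCoatom M) (hK : Cfsg.IsPiHallOf (Cfsg.kappa M) K M) (hK1 : K ≠ ⊥)
    {N : Subgroup G} (hN : IsCoatom N) (y : G) {z : G}
    (hz : z ∈ ((↑(K ⊔ (Cfsg.sigmaCore M ⊓ Subgroup.centralizer (K : Set G))) : Set G) \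
      ((K : Set G) ∪ ↑(Cfsg.sigmaCore M ⊓ Subgroup.centralizer (K : Set G))))) :
    y * z * y⁻¹ ∉ Cfsg.tildeOf N ((Cfsg.sigmaCore N : Set G) \ {1}) := by
  have hSP := Cfsg.Agent.Lib.Helper27.BGPCount.sp_real hG
  have h28 := Cfsg.Agent.Lib.Helper27.BGPCount.h1428_real hG
  intro hmem
  have hz' : z ∈ Cfsg.tildeOf N ((Cfsg.sigmaCore N : Set G) \ {1}) := by
    have := conj_mem_tildeOf hmem y⁻¹
    have e : y⁻¹ * (y * z * y⁻¹) * y⁻¹⁻¹ = z := by group
    rwa [e] at this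
  obtain ⟨w, a, ha, ha1, r, hr, hzar⟩ := exists_of_mem_tilde hG hSP h28 hN hz'
  obtain ⟨k, hk, s, hs, hzks, -⟩ := exists_mul_of_mem_sup_cent hz.1
  have hk1 : k ≠ 1 := by
    rintro rfl
    rw [one_mul] at hzks
    exact hz.2 (Or.inr (hzks ▸ hs))
  have hs1 : s ≠ 1 := by
    rintro rfl
    rw [mul_one] at hzks
    exact hz.2 (Or.inl (hzks ▸ hk))
  exact zhat_ne_mul hG hM hK hK1 hk hk1 hs hs1 (isCoatom_map_conj w hN) ha ha1 hr
    (hzks.symm.trans hzar)

end Cfsg.Agent.Lib.Helper23.BG146
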