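/- helper23: B & G 14.6, the covering clauses of S1379: every `g ≠ 1` lies in some `Ñ` or in a
conjugate of `Ẑ(M, K)` for some maximal `M` with `κ(M) ≠ ∅`. -/
import Mathlib
import Cfsg.Agent.Lib.Helper23.BG146B
import Cfsg.Agent.Lib.Helper22.PiClasses
import Cfsg.Agent.Lib.Helper27.BGConjA
import Cfsg.Agent.Lib.Helper2.BGCorF
import Cfsg.Agent.S1378
import Cfsg.Agent.S1425
import Cfsg.Agent.S1432
import Cfsg.Agent.S1375

set_option autoImplicit false
set_option linter.style.haveILetI false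
set_option linter.unusedSectionVars false

namespace Cfsg.Agent.Lib.Helper23.BG146

open Cfsg
open Cfsg.Agent.Lib.Helper9.BG144
open Cfsg.Agent.Lib.Helper17.BGR2 (H1428)
open Cfsg.Agent.Lib.Helper2.BGCor (sigmaCore_le primes_card_sigmaCore)
open Cfsg.Agent.Lib.Helper8 (mem_map_conj conj_mem_map_conj map_conj_map_conj)
open Cfsg.Agent.Lib.Helper17.BGU (isCoatom_map_conj)
open Cfsg.Agent.Lib.Helper22.PiClasses (IsPi exists_pi_decomp)

variable {G : Type*} [Group G] [Finite G]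

/-- the set `Ẑ = K K* − (K ∪ K*)`. -/
def zhat (M K : Subgroup G) : Set G :=
  (↑(K ⊔ (Cfsg.sigmaCore M ⊓ Subgroup.centralizer (K : Set G))) : Set G) \
    ((K : Set G) ∪ ↑(Cfsg.sigmaCore M ⊓ Subgroup.centralizer (K : Set G)))

/-- the covering alternative for `g`. -/
def Cov (g : G) : Prop :=
  (∃ N : Subgroup G, IsCoatom N ∧ g ∈ Cfsg.tildeOf N ((Cfsg.sigmaCore N : Set G) \ {1})) ∨
  ∃ M K : Subgroup G, IsCoatom M ∧ Cfsg.IsPiHallOf (Cfsg.kappa M) K M ∧ K ≠ ⊥ ∧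
    ∃ y : G, ∃ z ∈ zhat M K, g = y * z * y⁻¹

theorem cov_conj {g : G} (h : Cov g) (w : G) : Cov (w * g * w⁻¹) := by
  rcases h with ⟨N, hN, hg⟩ | ⟨M, K, hM, hK, hK1, y, z, hz, hg⟩
  · exact Or.inl ⟨N, hN, conj_mem_tildeOf hg w⟩
  · refine Or.inr ⟨M, K, hM, hK, hK1, w * y, z, hz, ?_⟩
    rw [hg]; group

theorem cov_of_conj {g : G} (w : G) (h : Cov (w * g * w⁻¹)) : Cov g := by
  have := cov_conj h w⁻¹
  have e : w⁻¹ * (w * g * w⁻¹) * w⁻¹⁻¹ = g := by group
  rwa [e] at this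

theorem mul_mem_tilde {N : Subgroup G} {a r : G} (ha : a ∈ Cfsg.sigmaCore N) (ha1 : a ≠ 1)
    (hr : r ∈ Cfsg.supportR N a) :
    a * r ∈ Cfsg.tildeOf N ((Cfsg.sigmaCore N : Set G) \ {1}) :=
  ⟨a, ⟨ha, fun h => ha1 (Set.mem_singleton_iff.mp h)⟩, r, hr, 1, by group⟩

/-- an element with all primes in `π` and none in `π` is `1`. -/
theorem eq_one_of_primes {π : Set ℕ} {x : G} (h1 : ∀ p : ℕ, p.Prime → p ∣ orderOf x → p ∈ π)
    (h2 : ∀ p : ℕ, p.Prime → p ∣ orderOf x → p ∉ π) : x = 1 := by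
  rw [← orderOf_eq_one_iff]
  by_contra hne
  obtain ⟨q, hq, hd⟩ := Nat.exists_prime_and_dvd hne
  exact h2 q hq hd (h1 q hq hd)

theorem primes_of_mem_sigmaCore {M : Subgroup G} {x : G} (hx : x ∈ Cfsg.sigmaCore M) :
    ∀ p : ℕ, p.Prime → p ∣ orderOf x → p ∈ Cfsg.sigma M := fun p hp hd =>
  primes_card_sigmaCore M p hp (hd.trans (Subgroup.orderOf_dvd_natCard _ hx))

theorem mem_centralizer_singleton {x c : G} : c ∈ Subgroup.centralizer ({x} : Set G) ↔
    x * c = c * x := by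
  rw [Subgroup.mem_centralizer_iff]
  constructor
  · intro h; exact h x rfl
  · intro h z hz; rw [Set.mem_singleton_iff.mp hz]; exact h

/-- case (B) of 14.4: `x y ∈ L̃'` for a conjugate `L'` of `L`. -/
theorem cov_caseB (hG : Cfsg.IsMinSimpleOddOrder G) {M L : Subgroup G} (hM : IsCoatom M)
    (hL : IsCoatom L) {x y : G} (hx : x ∈ Cfsg.sigmaCore M) (hy1 : y ≠ 1)
    (hxy : x * y = y * x)
    (hyL : ∀ p : ℕ, p.Prime → p ∣ orderOf y → p ∈ Cfsg.sigma L)
    (hyM : ∀ p : ℕ, p.Prime → p ∣ orderOf y → p ∉ Cfsg.sigma M)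
    (hCy : Subgroup.centralizer ({y} : Set G) ≤ M)
    (hu : ∀ L' : Subgroup G, IsCoatom L' → Subgroup.centralizer ({y} : Set G) ≤ L' → L' = M) :
    Cov (x * y) := by
  have hSP := Cfsg.Agent.Lib.Helper27.BGPCount.sp_real hG
  have h28 := Cfsg.Agent.Lib.Helper27.BGPCount.h1428_real hG
  have hY1 : Subgroup.zpowers y ≠ ⊥ := by
    rw [Ne, Subgroup.zpowers_eq_bot]; exact hy1
  obtain ⟨w, hw⟩ := Cfsg.Agent.S1425.result hG L hL (Subgroup.zpowers y) hY1
    (fun p hp hd => hyL p hp (by rwa [Nat.card_zpowers] at hd))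
  have hL' := isCoatom_map_conj w⁻¹ hL
  have hyL' : y ∈ Cfsg.sigmaCore (L.map (MulAut.conj w⁻¹).toMonoidHom) := by
    rw [mem_sigmaCore_map_conj hG hL, inv_inv]
    apply hw
    rw [mem_map_conj]
    have : w⁻¹ * (w * y * w⁻¹) * w = y := by group
    rw [this]; exact Subgroup.mem_zpowers y
  have hnot : ¬ Subgroup.centralizer ({y} : Set G) ≤ L.map (MulAut.conj w⁻¹).toMonoidHom := by
    intro hle
    have e := hu _ hL' hle
    rw [e] at hyL'
    exact hy1 (eq_one_of_primes (primes_of_mem_sigmaCore hyL') hyM)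
  obtain ⟨N₁, hN₁⟩ := exists_rdata hG hSP h28 hL' hyL' hy1 hnot
  have e : M = N₁ := hN₁.uniq M hM hCy
  subst e
  have hx' : x ∈ Cfsg.supportR (L.map (MulAut.conj w⁻¹).toMonoidHom) y := by
    rw [hN₁.supportR_eq hG hnot]
    exact Subgroup.mem_inf.mpr ⟨hx, mem_centralizer_singleton.mpr hxy.symm⟩
  rw [hxy]
  exact Or.inl ⟨_, hL', mul_mem_tilde hyL' hy1 hx'⟩

/-- `x y` for `x ∈ M_σ^#`, `y ∈ C_M(x)^#` a `σ(M)'`-element. -/
theorem cov_M (hG : Cfsg.IsMinSimpleOddOrder G) {M : Subgroup G} (hM : IsCoatom M)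
    {x y : G} (hx : x ∈ Cfsg.sigmaCore M) (hx1 : x ≠ 1) (hyMem : y ∈ M) (hy1 : y ≠ 1)
    (hxy : x * y = y * x)
    (hyM : ∀ p : ℕ, p.Prime → p ∣ orderOf y → p ∉ Cfsg.sigma M) :
    Cov (x * y) := by
  have hy' : y ∈ M ⊓ Subgroup.centralizer ({x} : Set G) :=
    Subgroup.mem_inf.mpr ⟨hyMem, mem_centralizer_singleton.mpr hxy⟩
  rcases Cfsg.Agent.S1432.result hG M hM x hx hx1 y hy' hy1 hyM with
    ⟨hκ, -⟩ | ⟨-, ⟨L, hL, hyL⟩, hCy, hu⟩
  · -- case (A): `x y ∈ Ẑ`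
    obtain ⟨K, hK, hYK⟩ := Cfsg.Agent.Lib.Helper2.BGCor.exists_hall_ge hG hM (Cfsg.kappa M)
      (Y := Subgroup.zpowers y) (Subgroup.zpowers_le.mpr hyMem)
      (fun p hp hd => hκ p hp (by rwa [Nat.card_zpowers] at hd))
    have hyK : y ∈ K := hYK (Subgroup.mem_zpowers y)
    have hK1 : K ≠ ⊥ := by
      intro h
      rw [h, Subgroup.mem_bot] at hyK
      exact hy1 hyK
    have hxKs : x ∈ Cfsg.sigmaCore M ⊓ Subgroup.centralizer (K : Set G) := by
      rw [← (Cfsg.Agent.S1430.result hG M hM K hK hK1).1 y hyK hy1]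
      exact Subgroup.mem_inf.mpr ⟨hx, mem_centralizer_singleton.mpr hxy.symm⟩
    refine Or.inr ⟨M, K, hM, hK, hK1, 1, x * y, ⟨?_, ?_⟩, by group⟩
    · exact Subgroup.mul_mem _ (Subgroup.mem_sup_right hxKs) (Subgroup.mem_sup_left hyK)
    · rintro (h | h)
      · have hxK : x ∈ K := by
          have : x = (x * y) * y⁻¹ := by group
          rw [this]; exact Subgroup.mul_mem _ h (Subgroup.inv_mem _ hyK)
        exact hx1 (eq_one_of_primes (primes_of_mem_sigmaCore hx)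
          (not_mem_sigma_of_mem_kappaHall hK hxK))
      · have hyKs : y ∈ Cfsg.sigmaCore M ⊓ Subgroup.centralizer (K : Set G) := by
          have : y = x⁻¹ * (x * y) := by group
          rw [this]; exact Subgroup.mul_mem _ (Subgroup.inv_mem _ hxKs) h
        exact hy1 (eq_one_of_primes (primes_of_mem_sigmaCore hyKs.1) hyM)
  · exact cov_caseB hG hM hL hx hy1 hxy hyL hyM hCy hu

/-- orders: `o(x) ∣ o(x y)` and `o(y) ∣ o(x y)` for commuting elements of coprime orders. -/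
theorem orderOf_dvd_mul_of_coprime {x y : G} (hxy : x * y = y * x)
    (hcop : (orderOf x).Coprime (orderOf y)) :
    orderOf x ∣ orderOf (x * y) ∧ orderOf y ∣ orderOf (x * y) := by
  rw [(show Commute x y from hxy).orderOf_mul_eq_mul_orderOf_of_coprime hcop]
  exact ⟨Dvd.intro _ rfl, Dvd.intro_left _ rfl⟩

/-- the case `C_G(x) ⊄ M`, normalised. -/
theorem cov_caseII_aux (hG : Cfsg.IsMinSimpleOddOrder G) {M N : Subgroup G} (hM : IsCoatom M)
    {x : G} (hx : x ∈ Cfsg.sigmaCore M) (hx1 : x ≠ 1) (hN : RData M x N) {ys y' : G}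
    (hys : ys ∈ Cfsg.sigmaCore N ⊓ Subgroup.centralizer ({x} : Set G))
    (hy' : y' ∈ M ⊓ Subgroup.centralizer ({x} : Set G))
    (hy'M : ∀ p : ℕ, p.Prime → p ∣ orderOf y' → p ∉ Cfsg.sigma M)
    (hy'N : ∀ p : ℕ, p.Prime → p ∣ orderOf y' → p ∉ Cfsg.sigma N)
    (hc : ys * y' = y' * ys) : Cov (x * (ys * y')) := by
  have hSP := Cfsg.Agent.Lib.Helper27.BGPCount.sp_real hG
  have h28 := Cfsg.Agent.Lib.Helper27.BGPCount.h1428_real hG
  have hxM := hN.not_le
  have hxy' : x * y' = y' * x := mem_centralizer_singleton.mp hy'.2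
  have hxys : x * ys = ys * x := mem_centralizer_singleton.mp hys.2
  by_cases hy'1 : y' = 1
  · subst hy'1
    rw [mul_one]
    refine Or.inl ⟨M, hM, mul_mem_tilde hx hx1 ?_⟩
    rw [hN.supportR_eq hG hxM]; exact hys
  by_cases hys1 : ys = 1
  · subst hys1
    rw [one_mul]
    exact cov_M hG hM hx hx1 hy'.1 hy'1 hxy' hy'M
  exfalso
  -- S1432 for `(N, ys, x y')`
  have hxσ := primes_of_mem_sigmaCore hx
  have hcop : (orderOf x).Coprime (orderOf y') := coprime_of_pi hxσ hy'M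
  obtain ⟨hd1, hd2⟩ := orderOf_dvd_mul_of_coprime hxy' hcop
  have hxy'1 : x * y' ≠ 1 := by
    intro h
    rw [h, orderOf_one, Nat.dvd_one, orderOf_eq_one_iff] at hd1
    exact hx1 hd1
  have hmem : x * y' ∈ N ⊓ Subgroup.centralizer ({ys} : Set G) := by
    refine Subgroup.mem_inf.mpr
      ⟨Subgroup.mul_mem _ (hN.cent_le (self_mem_centralizer x)) (hN.cent_le hy'.2), ?_⟩
    rw [mem_centralizer_singleton]
    calc ys * (x * y') = (ys * x) * y' := by group
      _ = (x * ys) * y' := by rw [hxys]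
      _ = x * (ys * y') := by group
      _ = x * (y' * ys) := by rw [hc]
      _ = x * y' * ys := by group
  have hσ : ∀ p : ℕ, p.Prime → p ∣ orderOf (x * y') → p ∉ Cfsg.sigma N := by
    intro p hp hd hpN
    have h1 := hd.trans (show Commute x y' from hxy').orderOf_mul_dvd_lcm
    rcases (Nat.Prime.dvd_mul hp).mp (h1.trans (Nat.lcm_dvd_mul _ _)) with h2 | h2
    · exact hN.sigma_disjoint hSP hM hx hx1 hpN (hxσ p hp h2)
    · exact hy'N p hp h2 hpN
  have hox : orderOf x ≠ 1 := fun h => hx1 (orderOf_eq_one_iff.mp h)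
  obtain ⟨p, hp, hpx⟩ := Nat.exists_prime_and_dvd hox
  have hoy : orderOf y' ≠ 1 := fun h => hy'1 (orderOf_eq_one_iff.mp h)
  obtain ⟨q, hq, hqy⟩ := Nat.exists_prime_and_dvd hoy
  rcases Cfsg.Agent.S1432.result hG N hN.coatom ys hys.1 hys1 (x * y') hmem hxy'1 hσ with
    ⟨hκ, -⟩ | ⟨-, ⟨L, hL, hL2⟩, -⟩
  · have h1 := hκ p hp (hpx.trans hd1)
    exact (hN.tau2 p hp hpx).2.2.2 (Cfsg.Agent.Lib.Helper2.BGCor.pRankLE_one_of_kappa h1)
  · have hpL := hL2 p hp (hpx.trans hd1)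
    have hqL := hL2 q hq (hqy.trans hd2)
    obtain ⟨g, hg⟩ := hSP M L hM hL ⟨p, hxσ p hp hpx, hpL⟩
    rw [hg, sigma_map_conj_iff] at hqL
    exact hy'M q hq hqy hqL

theorem orderOf_conj' (c x : G) : orderOf (c * x * c⁻¹) = orderOf x := by
  have : c * x * c⁻¹ = (MulAut.conj c) x := by rw [MulAut.conj_apply]
  rw [this]
  exact MulEquiv.orderOf_eq (MulAut.conj c) x

/-- the case `C_G(x) ⊄ M`. -/
theorem cov_caseII (hG : Cfsg.IsMinSimpleOddOrder G) {M N : Subgroup G} (hM : IsCoatom M)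
    {x : G} (hx : x ∈ Cfsg.sigmaCore M) (hx1 : x ≠ 1) (hN : RData M x N) {y : G}
    (hy : y ∈ Subgroup.centralizer ({x} : Set G))
    (hyM : ∀ p : ℕ, p.Prime → p ∣ orderOf y → p ∉ Cfsg.sigma M) : Cov (x * y) := by
  have hxM := hN.not_le
  obtain ⟨ys, y', hys_mem, hy'_mem, hys_pi, hy'_pi, hmul⟩ :=
    exists_pi_decomp (Cfsg.sigma N) y (isOfFinOrder_of_finite y)
  have hzle : Subgroup.zpowers y ≤ Subgroup.centralizer ({x} : Set G) :=
    Subgroup.zpowers_le.mpr hy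
  have hysC : ys ∈ Subgroup.centralizer ({x} : Set G) := hzle hys_mem
  have hy'C : y' ∈ Subgroup.centralizer ({x} : Set G) := hzle hy'_mem
  have hysN : ys ∈ Cfsg.sigmaCore N :=
    (mem_sigmaCore_iff hG hN.coatom).mpr ⟨hN.cent_le hysC, hys_pi⟩
  have hcomm : ys * y' = y' * ys :=
    (Cfsg.Agent.Lib.Helper22.PiClasses.commute_zpowers hys_mem hy'_mem).eq
  -- the complement structure of `C_G(x)`
  obtain ⟨N', ⟨hN', hCN'⟩, -, -, -, hcompl, -, -⟩ :=
    Cfsg.Agent.S1375.result hG M hM x hx hx1 hxM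
  have e : N' = N := hN.uniq N' hN' hCN'
  subst e
  have hrel : (M ⊓ Subgroup.centralizer ({x} : Set G)).relIndex
      (Subgroup.centralizer ({x} : Set G)) =
      Nat.card ↥(Cfsg.sigmaCore N' ⊓ Subgroup.centralizer ({x} : Set G)) := by
    have h1 := Cfsg.Agent.Lib.Helper20.card_mul_relIndex_of_le
      (inf_le_right : M ⊓ Subgroup.centralizer ({x} : Set G) ≤ Subgroup.centralizer ({x} : Set G))
    have h2 := Cfsg.Agent.Lib.Helper9.isComplIn_card_mul_card hcompl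
    rw [← h2] at h1
    exact Nat.eq_of_mul_eq_mul_left Nat.card_pos h1
  have hsolvN : Group.IsSolvable ↥N' := hG.2.2.2 N' hN'.1
  have hsolv : Group.IsSolvable ↥(Subgroup.centralizer ({x} : Set G)) :=
    Group.isSolvable_of_isSolvable_injective (Subgroup.inclusion_injective hCN')
  obtain ⟨c, hc, hcY⟩ := Cfsg.Agent.Lib.Helper27.BGConj.exists_conj_le_of_pi (Cfsg.sigma N')ᶜ
    (L := Subgroup.centralizer ({x} : Set G)) (H := M ⊓ Subgroup.centralizer ({x} : Set G))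
    (Y := Subgroup.zpowers y') hsolv inf_le_right (Subgroup.zpowers_le.mpr hy'C)
    (fun p hp hd => hy'_pi p hp (by rwa [Nat.card_zpowers] at hd))
    (by
      intro p hp hpc hd
      rw [hrel] at hd
      exact hpc (primes_card_sigmaCore N' p hp (hd.trans (Subgroup.card_dvd_of_le inf_le_left))))
  have hcy' : c * y' * c⁻¹ ∈ M ⊓ Subgroup.centralizer ({x} : Set G) := by
    apply hcY
    rw [mem_map_conj]
    have : c⁻¹ * (c * y' * c⁻¹) * c = y' := by group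
    rw [this]; exact Subgroup.mem_zpowers y'
  have hcx : x * c = c * x := mem_centralizer_singleton.mp hc
  have hcys : c * ys * c⁻¹ ∈ Cfsg.sigmaCore N' ⊓ Subgroup.centralizer ({x} : Set G) := by
    refine Subgroup.mem_inf.mpr ⟨?_, Subgroup.mul_mem _ (Subgroup.mul_mem _ hc hysC)
      (Subgroup.inv_mem _ hc)⟩
    exact (Subgroup.mem_normalizer_iff.mp
      (Cfsg.Agent.Lib.Helper23.BGY.le_normalizer_sigmaCore N' (hCN' hc)) ys).mp hysN
  have key : Cov (x * ((c * ys * c⁻¹) * (c * y' * c⁻¹))) := by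
    apply cov_caseII_aux hG hM hx hx1 hN hcys hcy'
    · intro p hp hd
      rw [orderOf_conj'] at hd
      exact hyM p hp (hd.trans (orderOf_dvd_of_mem_zpowers hy'_mem))
    · intro p hp hd
      rw [orderOf_conj'] at hd
      exact hy'_pi p hp hd
    · calc c * ys * c⁻¹ * (c * y' * c⁻¹) = c * (ys * y') * c⁻¹ := by group
        _ = c * (y' * ys) * c⁻¹ := by rw [hcomm]
        _ = c * y' * c⁻¹ * (c * ys * c⁻¹) := by group
  apply cov_of_conj c
  have e : c * (x * y) * c⁻¹ = x * ((c * ys * c⁻¹) * (c * y' * c⁻¹)) := by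
    rw [← hmul]
    calc c * (x * (ys * y')) * c⁻¹ = (c * x) * (ys * y') * c⁻¹ := by group
      _ = (x * c) * (ys * y') * c⁻¹ := by rw [hcx]
      _ = x * ((c * ys * c⁻¹) * (c * y' * c⁻¹)) := by group
  rw [e]; exact key

/-- the main step: `x y` with `x ∈ M_σ^#` and `y ∈ C_G(x)` a `σ(M)'`-element. -/
theorem cov_main (hG : Cfsg.IsMinSimpleOddOrder G) {M : Subgroup G} (hM : IsCoatom M)
    {x y : G} (hx : x ∈ Cfsg.sigmaCore M) (hx1 : x ≠ 1) (hxy : x * y = y * x)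
    (hyM : ∀ p : ℕ, p.Prime → p ∣ orderOf y → p ∉ Cfsg.sigma M) : Cov (x * y) := by
  have hSP := Cfsg.Agent.Lib.Helper27.BGPCount.sp_real hG
  have h28 := Cfsg.Agent.Lib.Helper27.BGPCount.h1428_real hG
  have hyC : y ∈ Subgroup.centralizer ({x} : Set G) := mem_centralizer_singleton.mpr hxy
  by_cases hy1 : y = 1
  · subst hy1
    rw [mul_one]
    refine Or.inl ⟨M, hM, ?_⟩
    have := mul_mem_tilde hx hx1 (Subgroup.one_mem (Cfsg.supportR M x))
    rwa [mul_one] at this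
  by_cases hxM : Subgroup.centralizer ({x} : Set G) ≤ M
  · exact cov_M hG hM hx hx1 (hxM hyC) hy1 hxy hyM
  · obtain ⟨N, hN⟩ := exists_rdata hG hSP h28 hM hx hx1 hxM
    exact cov_caseII hG hM hx hx1 hN hyC hyM

/-- **the covering**: every `g ≠ 1` lies in some `Ñ` or in a conjugate of some `Ẑ(M, K)`. -/
theorem cov (hG : Cfsg.IsMinSimpleOddOrder G) {g : G} (hg : g ≠ 1) : Cov g := by
  have hog : orderOf g ≠ 1 := fun h => hg (orderOf_eq_one_iff.mp h)
  obtain ⟨p, hp, hpg⟩ := Nat.exists_prime_and_dvd hog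
  obtain ⟨M, hM, hpM⟩ := (Cfsg.Agent.S1378.result hG).1 p hp (hpg.trans (orderOf_dvd_natCard g))
  obtain ⟨x, y, hx_mem, hy_mem, hx_pi, hy_pi, hmul⟩ :=
    exists_pi_decomp (Cfsg.sigma M) g (isOfFinOrder_of_finite g)
  have hxy : x * y = y * x :=
    (Cfsg.Agent.Lib.Helper22.PiClasses.commute_zpowers hx_mem hy_mem).eq
  have hcop : (orderOf x).Coprime (orderOf y) := coprime_of_pi hx_pi hy_pi
  have hx1 : x ≠ 1 := by
    rintro rfl
    rw [one_mul] at hmul
    rw [← hmul] at hpg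
    exact hy_pi p hp hpg hpM
  have hX1 : Subgroup.zpowers x ≠ ⊥ := by
    rw [Ne, Subgroup.zpowers_eq_bot]; exact hx1
  obtain ⟨w, hw⟩ := Cfsg.Agent.S1425.result hG M hM (Subgroup.zpowers x) hX1
    (fun q hq hd => hx_pi q hq (by rwa [Nat.card_zpowers] at hd))
  have hwx : w * x * w⁻¹ ∈ Cfsg.sigmaCore M := by
    apply hw
    rw [mem_map_conj]
    have : w⁻¹ * (w * x * w⁻¹) * w = x := by group
    rw [this]; exact Subgroup.mem_zpowers x
  apply cov_of_conj w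
  have e : w * g * w⁻¹ = (w * x * w⁻¹) * (w * y * w⁻¹) := by
    rw [← hmul]; group
  rw [e]
  apply cov_main hG hM hwx
  · intro h
    apply hx1
    have : x = w⁻¹ * (w * x * w⁻¹) * w := by group
    rw [this, h]; group
  · calc w * x * w⁻¹ * (w * y * w⁻¹) = w * (x * y) * w⁻¹ := by group
      _ = w * (y * x) * w⁻¹ := by rw [hxy]
      _ = w * y * w⁻¹ * (w * x * w⁻¹) := by group
  · intro q hq hd
    rw [orderOf_conj'] at hd
    exact hy_pi q hq hd

/-- **S1379 (2)**. -/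
theorem cov_of_kappa_empty (hG : Cfsg.IsMinSimpleOddOrder G)
    (hκ : ∀ M : Subgroup G, IsCoatom M → Cfsg.kappa M = ∅) {g : G} (hg : g ≠ 1) :
    ∃ M : Subgroup G, IsCoatom M ∧ g ∈ Cfsg.tildeOf M ((Cfsg.sigmaCore M : Set G) \ {1}) := by
  rcases cov hG hg with h | ⟨M, K, hM, hK, hK1, -⟩
  · exact h
  · exfalso
    apply hK1
    rw [← Subgroup.card_eq_one]
    by_contra hne
    obtain ⟨q, hq, hd⟩ := Nat.exists_prime_and_dvd hne
    have := hK.2.1 q hq hd
    rw [hκ M hM] at this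
    exact this

end Cfsg.Agent.Lib.Helper23.BG146
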