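/- helper23: B & G 14.6, transport of `Ẑ(M, K)` to a fixed `Ẑ(M₀, K₀)` through S1366 and S1369:
every `g ≠ 1` lies in some `Ñ` or in a conjugate of the fixed `Ẑ(M₀, K₀)`. -/
import Mathlib
import Cfsg.Agent.Lib.Helper23.BG146C
import Cfsg.Agent.Lib.Helper24.BGRegE
import Cfsg.Agent.S1366
import Cfsg.Agent.S1369

set_option autoImplicit false
set_option linter.style.haveILetI false
set_option linter.unusedSectionVars false

namespace Cfsg.Agent.Lib.Helper23.BG146

open Cfsg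
open Cfsg.Agent.Lib.Helper9.BG144
open Cfsg.Agent.Lib.Helper2.BGCor (sigmaCore_le primes_card_sigmaCore)
open Cfsg.Agent.Lib.Helper8 (mem_map_conj conj_mem_map_conj map_conj_map_conj map_conj_one)
open Cfsg.Agent.Lib.Helper17.BGU (isCoatom_map_conj)

variable {G : Type*} [Group G] [Finite G]

/-! ### conjugation invariance of `κ` -/

theorem kappa_map_conj (hG : Cfsg.IsMinSimpleOddOrder G) {M : Subgroup G} (hM : IsCoatom M)
    {q : ℕ} (h : q ∈ Cfsg.kappa M) (g : G) :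
    q ∈ Cfsg.kappa (M.map (MulAut.conj g).toMonoidHom) := by
  have hrk := Cfsg.Agent.Lib.Helper2.BGCor.pRankLE_one_of_kappa h
  obtain ⟨hq, hqM, hqσ, hSyl⟩ := h
  haveI : Fact q.Prime := ⟨hq⟩
  obtain ⟨x, hxP, hx1, y, hy, hy1, hxy⟩ := (hSyl default).2
  -- an element of order `q` commuting with `y`
  have hxq : q ∣ orderOf (x : G) := by
    obtain ⟨k, hk⟩ := (default : Sylow q ↥M).2 ⟨x, hxP⟩
    have hk' : x ^ q ^ k = 1 := by
      have := congrArg Subtype.val hk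
      simpa using this
    have hd : orderOf x ∣ q ^ k := orderOf_dvd_of_pow_eq_one hk'
    obtain ⟨j, -, hj⟩ := (Nat.dvd_prime_pow hq).mp hd
    rw [Subgroup.orderOf_coe, hj]
    rcases Nat.eq_zero_or_pos j with h0 | h0
    · rw [h0, pow_zero, orderOf_eq_one_iff] at hj
      exact absurd hj hx1
    · exact dvd_pow_self q h0.ne'
  set t : G := (x : G) ^ (orderOf (x : G) / q) with ht
  have hto : orderOf t = q := orderOf_pow_orderOf_div (orderOf_pos (x : G)).ne' hxq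
  have htM : t ∈ M := Subgroup.pow_mem _ x.2 _
  have hty : t * y = y * t := ((show Commute (x : G) y from hxy).pow_left _).eq
  have e : ↥M ≃* ↥(M.map (MulAut.conj g).toMonoidHom) :=
    M.equivMapOfInjective _ (MulAut.conj g).injective
  apply Cfsg.Agent.Lib.Helper24.BGReg.mem_kappa_of_fixed hG hq
    (fun h => hqσ ((sigma_map_conj_iff g).mp h))
    (Cfsg.Agent.Lib.Helper27.BGPCount.pRankLE_of_mulEquiv e hrk)
    (conj_mem_map_conj htM) (t := g * t * g⁻¹) (y := g * y * g⁻¹)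
  · rw [orderOf_conj', hto]
  · rw [mem_sigmaCore_map_conj hG hM]
    have : g⁻¹ * (g * y * g⁻¹) * g = y := by group
    rw [this]; exact hy
  · intro h
    apply hy1
    have : y = g⁻¹ * (g * y * g⁻¹) * g := by group
    rw [this, h]; group
  · calc g * t * g⁻¹ * (g * y * g⁻¹) = g * (t * y) * g⁻¹ := by group
      _ = g * (y * t) * g⁻¹ := by rw [hty]
      _ = g * y * g⁻¹ * (g * t * g⁻¹) := by group

theorem kappa_map_conj_eq (hG : Cfsg.IsMinSimpleOddOrder G) {M : Subgroup G} (hM : IsCoatom M)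
    (g : G) : Cfsg.kappa (M.map (MulAut.conj g).toMonoidHom) = Cfsg.kappa M := by
  ext q
  constructor
  · intro h
    have := kappa_map_conj hG (isCoatom_map_conj g hM) h g⁻¹
    rwa [map_conj_map_conj, inv_mul_cancel, map_conj_one] at this
  · intro h
    exact kappa_map_conj hG hM h g

/-! ### Hall subgroups and conjugation -/

theorem card_map_conj (A : Subgroup G) (g : G) :
    Nat.card (A.map (MulAut.conj g).toMonoidHom) = Nat.card A :=
  Subgroup.card_map_of_injective (MulAut.conj g).injective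

theorem isPiHallOf_map_conj {π : Set ℕ} {K M : Subgroup G} (h : Cfsg.IsPiHallOf π K M) (g : G) :
    Cfsg.IsPiHallOf π (K.map (MulAut.conj g).toMonoidHom) (M.map (MulAut.conj g).toMonoidHom) := by
  obtain ⟨m, n, hmn, hm, hn⟩ :=
    Cfsg.Agent.Lib.Helper20.exists_pi_decomp π (Nat.card M) Nat.card_pos.ne'
  have hmn' : Nat.card (M.map (MulAut.conj g).toMonoidHom) = m * n := by
    rw [card_map_conj, hmn]
  rw [Cfsg.Agent.Lib.Helper20.isPiHallOf_iff hmn hm hn] at h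
  rw [Cfsg.Agent.Lib.Helper20.isPiHallOf_iff hmn' hm hn]
  exact ⟨Subgroup.map_mono h.1, by rw [card_map_conj, h.2]⟩

/-- Hall `π`-subgroups of a solvable subgroup `M` are conjugate in `M`. -/
theorem hall_conj_in {π : Set ℕ} {K K' M : Subgroup G} (hsolv : Group.IsSolvable ↥M)
    (h1 : Cfsg.IsPiHallOf π K M) (h2 : Cfsg.IsPiHallOf π K' M) :
    ∃ m ∈ M, K'.map (MulAut.conj m).toMonoidHom = K := by
  obtain ⟨m, hm, hle⟩ := Cfsg.Agent.Lib.Helper27.BGConj.exists_conj_le_of_pi π hsolv h1.1 h2.1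
    h2.2.1 h1.2.2
  refine ⟨m, hm, ?_⟩
  obtain ⟨a, b, hab, ha, hb⟩ :=
    Cfsg.Agent.Lib.Helper20.exists_pi_decomp π (Nat.card M) Nat.card_pos.ne'
  have c1 := ((Cfsg.Agent.Lib.Helper20.isPiHallOf_iff hab ha hb).mp h1).2
  have c2 := ((Cfsg.Agent.Lib.Helper20.isPiHallOf_iff hab ha hb).mp h2).2
  apply Subgroup.eq_of_le_of_card_ge hle
  rw [card_map_conj, c1, c2]

/-! ### `Ẑ` and conjugation -/

theorem mem_centralizer_map_conj {K : Subgroup G} {g x : G} :
    x ∈ Subgroup.centralizer ((K.map (MulAut.conj g).toMonoidHom : Subgroup G) : Set G) ↔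
      g⁻¹ * x * g ∈ Subgroup.centralizer (K : Set G) := by
  rw [Subgroup.mem_centralizer_iff, Subgroup.mem_centralizer_iff]
  constructor
  · intro h k hk
    have h1 := h (g * k * g⁻¹) (conj_mem_map_conj hk)
    calc k * (g⁻¹ * x * g) = g⁻¹ * ((g * k * g⁻¹) * x) * g := by group
      _ = g⁻¹ * (x * (g * k * g⁻¹)) * g := by rw [h1]
      _ = g⁻¹ * x * g * k := by group
  · intro h k hk
    have hk' : g⁻¹ * k * g ∈ K := mem_map_conj.mp hk
    have h1 := h _ hk'
    calc k * x = g * ((g⁻¹ * k * g) * (g⁻¹ * x * g)) * g⁻¹ := by group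
      _ = g * ((g⁻¹ * x * g) * (g⁻¹ * k * g)) * g⁻¹ := by rw [h1]
      _ = x * k := by group

theorem kstar_map_conj (hG : Cfsg.IsMinSimpleOddOrder G) {M : Subgroup G} (hM : IsCoatom M)
    (K : Subgroup G) (g : G) :
    Cfsg.sigmaCore (M.map (MulAut.conj g).toMonoidHom) ⊓
      Subgroup.centralizer ((K.map (MulAut.conj g).toMonoidHom : Subgroup G) : Set G) =
    (Cfsg.sigmaCore M ⊓ Subgroup.centralizer (K : Set G)).map (MulAut.conj g).toMonoidHom := by
  ext x
  rw [Subgroup.mem_inf, mem_map_conj, Subgroup.mem_inf, mem_sigmaCore_map_conj hG hM,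
    mem_centralizer_map_conj]

theorem mem_zhat_map_conj (hG : Cfsg.IsMinSimpleOddOrder G) {M : Subgroup G} (hM : IsCoatom M)
    (K : Subgroup G) (g z : G) :
    z ∈ zhat (M.map (MulAut.conj g).toMonoidHom) (K.map (MulAut.conj g).toMonoidHom) ↔
      g⁻¹ * z * g ∈ zhat M K := by
  unfold zhat
  rw [kstar_map_conj hG hM K g, ← Subgroup.map_sup]
  simp only [Set.mem_sdiff, Set.mem_union, SetLike.mem_coe, mem_map_conj]

/-- transport of `Ẑ` along a conjugation of the maximal subgroup. -/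
theorem zhat_transport (hG : Cfsg.IsMinSimpleOddOrder G) {M₁ K₁ : Subgroup G}
    (hM₁ : IsCoatom M₁) (hK₁ : Cfsg.IsPiHallOf (Cfsg.kappa M₁) K₁ M₁) (g : G) {K : Subgroup G}
    (hK : Cfsg.IsPiHallOf (Cfsg.kappa (M₁.map (MulAut.conj g).toMonoidHom)) K
      (M₁.map (MulAut.conj g).toMonoidHom)) {z : G}
    (hz : z ∈ zhat (M₁.map (MulAut.conj g).toMonoidHom) K) :
    ∃ w : G, w⁻¹ * z * w ∈ zhat M₁ K₁ := by
  have hM := isCoatom_map_conj g hM₁
  have hsolv : Group.IsSolvable ↥(M₁.map (MulAut.conj g).toMonoidHom) := hG.2.2.2 _ hM.1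
  have hK₁' := isPiHallOf_map_conj hK₁ g
  rw [← kappa_map_conj_eq hG hM₁ g] at hK₁'
  obtain ⟨m, hm, hmK⟩ := hall_conj_in hsolv hK hK₁'
  rw [map_conj_map_conj] at hmK
  have hMm : M₁.map (MulAut.conj (m * g)).toMonoidHom = M₁.map (MulAut.conj g).toMonoidHom := by
    rw [← map_conj_map_conj, map_conj_of_mem hm]
  refine ⟨m * g, ?_⟩
  rw [← mem_zhat_map_conj hG hM₁, hmK, hMm]
  exact hz

/-- `Ẑ(M*, K*) = Ẑ(M, K)`. -/
theorem zhat_partner {M K Mstar : Subgroup G}
    (hKst : K = Cfsg.sigmaCore Mstar ⊓ Subgroup.centralizer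
      ((Cfsg.sigmaCore M ⊓ Subgroup.centralizer (K : Set G) : Subgroup G) : Set G)) :
    zhat Mstar (Cfsg.sigmaCore M ⊓ Subgroup.centralizer (K : Set G)) = zhat M K := by
  unfold zhat
  rw [← hKst, sup_comm, Set.union_comm]

/-- **S1379 (3a)**: every `g ≠ 1` lies in some `Ñ` or in a conjugate of the fixed `Ẑ(M, K)`. -/
theorem cov_fixed (hG : Cfsg.IsMinSimpleOddOrder G) {M K U : Subgroup G} (hM : IsCoatom M)
    (hKU : Cfsg.IsSigmaDecomposition M K U) (hK1 : K ≠ ⊥) {g : G} (hg : g ≠ 1) :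
    (∃ N : Subgroup G, IsCoatom N ∧ g ∈ Cfsg.tildeOf N ((Cfsg.sigmaCore N : Set G) \ {1})) ∨
      ∃ y : G, ∃ z ∈ zhat M K, g = y * z * y⁻¹ := by
  rcases cov hG hg with h | ⟨H, KH, hH, hKH, hKH1, y, z, hz, hgz⟩
  · exact Or.inl h
  right
  obtain ⟨Mstar, ⟨hMstar, hKst, hKstH⟩, -⟩ := Cfsg.Agent.S1366.result hG M hM K U hKU hK1
  have hκ : (Cfsg.kappa H).Nonempty := by
    have hne : Nat.card KH ≠ 1 := fun h => hKH1 (Subgroup.card_eq_one.mp h)
    obtain ⟨q, hq, hd⟩ := Nat.exists_prime_and_dvd hne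
    exact ⟨q, hKH.2.1 q hq hd⟩
  obtain ⟨a, ha⟩ := (Cfsg.Agent.S1369.result hG M hM K U hKU hK1 Mstar hMstar hKst hKstH).2 H hH hκ
  have key : ∃ w : G, w⁻¹ * z * w ∈ zhat M K := by
    rcases ha with ha | ha
    · subst ha
      exact zhat_transport hG hM hKU.hall a hKH hz
    · subst ha
      obtain ⟨w, hw⟩ := zhat_transport hG hMstar hKstH a hKH hz
      exact ⟨w, zhat_partner hKst ▸ hw⟩
  obtain ⟨w, hw⟩ := key
  refine ⟨y * w, w⁻¹ * z * w, hw, ?_⟩
  rw [hgz]; group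

end Cfsg.Agent.Lib.Helper23.BG146
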