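/- helper23: towards S1384 (nilpotent Hall subgroups: the normalizer controls fusion).
Part A: generalities. Elements of coprime order commute in a nilpotent group; the `p`-part and
`p'`-part of an element; the Sylow `p`-subgroup of a nilpotent subgroup. -/
import Mathlib
import Cfsg.Agent.Lib.Helper8.BGEx1

set_option autoImplicit false
set_option linter.style.haveILetI false

namespace Cfsg.Agent.Lib.Helper23.NilHall

open Cfsg.Agent.Lib.Helper8 (IsSylIn)

/-! ### coprime orders commute in a nilpotent group -/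

theorem eq_one_of_pow_eq_one_of_coprime {K : Type*} [Group K] {z : K} {m n : ℕ}
    (hc : m.Coprime n) (h1 : z ^ m = 1) (h2 : z ^ n = 1) : z = 1 := by
  have hd := Nat.dvd_gcd (orderOf_dvd_of_pow_eq_one h1) (orderOf_dvd_of_pow_eq_one h2)
  rw [Nat.Coprime.gcd_eq_one hc, Nat.dvd_one] at hd
  exact orderOf_eq_one_iff.mp hd

/-- In a nilpotent group two elements of coprime orders commute. -/
theorem commute_of_coprime_of_nilpotent (K : Type*) [Group K] [Group.IsNilpotent K] :
    ∀ u v : K, (orderOf u).Coprime (orderOf v) → u * v = v * u := by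
  refine Group.nilpotent_center_quotient_ind
    (P := fun K _ _ => ∀ u v : K, (orderOf u).Coprime (orderOf v) → u * v = v * u) K ?_ ?_
  · intro K _ _ u v _; exact Subsingleton.elim _ _
  · intro K _ _ ih u v hc
    set π := QuotientGroup.mk' (Subgroup.center K) with hπ
    have h1 : (orderOf (π u)).Coprime (orderOf (π v)) :=
      Nat.Coprime.coprime_dvd_left (orderOf_map_dvd π u)
        (Nat.Coprime.coprime_dvd_right (orderOf_map_dvd π v) hc)
    have h2 := ih (π u) (π v) h1
    -- `z = u v u⁻¹ v⁻¹` is central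
    set z := u * v * u⁻¹ * v⁻¹ with hz
    have hzc : z ∈ Subgroup.center K := by
      rw [← QuotientGroup.ker_mk' (Subgroup.center K), MonoidHom.mem_ker]
      show π (u * v * u⁻¹ * v⁻¹) = 1
      rw [map_mul, map_mul, map_mul, map_inv, map_inv, h2]
      group
    have hzcomm : ∀ w : K, z * w = w * z := fun w => (Subgroup.mem_center_iff.mp hzc w).symm
    have e1 : u * v * u⁻¹ = z * v := by rw [hz]; group
    have e2 : v * u⁻¹ * v⁻¹ = u⁻¹ * z := by rw [hz]; group
    have hzn : z ^ orderOf v = 1 := by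
      have h3 : (u * v * u⁻¹) ^ orderOf v = 1 := by
        rw [conj_pow, pow_orderOf_eq_one]; group
      rw [e1, (show Commute z v from hzcomm v).mul_pow, pow_orderOf_eq_one, mul_one] at h3
      exact h3
    have hzm : z ^ orderOf u = 1 := by
      have h3 : (v * u⁻¹ * v⁻¹) ^ orderOf u = 1 := by
        rw [conj_pow, inv_pow, pow_orderOf_eq_one]; group
      rw [e2, (show Commute u⁻¹ z from (hzcomm u⁻¹).symm).mul_pow, inv_pow, pow_orderOf_eq_one,
        inv_one, one_mul] at h3
      exact h3
    have hz1 : z = 1 := eq_one_of_pow_eq_one_of_coprime hc hzm hzn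
    have : u * v = z * (v * u) := by rw [hz]; group
    rw [this, hz1, one_mul]

/-! ### the `p`-part and the `p'`-part of an element -/

section parts

variable {G : Type*} [Group G]

/-- the `p`-part of `y` (a power of `y`). -/
noncomputable def pPart (p : ℕ) (y : G) : G :=
  (y ^ (orderOf y / p ^ (orderOf y).factorization p)) ^
    (Nat.gcdB (p ^ (orderOf y).factorization p) (orderOf y / p ^ (orderOf y).factorization p))

/-- the `p'`-part of `y` (a power of `y`). -/
noncomputable def pPrimePart (p : ℕ) (y : G) : G :=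
  (y ^ (p ^ (orderOf y).factorization p)) ^
    (Nat.gcdA (p ^ (orderOf y).factorization p) (orderOf y / p ^ (orderOf y).factorization p))

theorem pPart_mem_zpowers (p : ℕ) (y : G) : pPart p y ∈ Subgroup.zpowers y :=
  Subgroup.zpow_mem _ (Subgroup.pow_mem _ (Subgroup.mem_zpowers y) _) _

theorem pPrimePart_mem_zpowers (p : ℕ) (y : G) : pPrimePart p y ∈ Subgroup.zpowers y :=
  Subgroup.zpow_mem _ (Subgroup.pow_mem _ (Subgroup.mem_zpowers y) _) _

theorem pPart_conj (p : ℕ) (g y : G) : pPart p (g * y * g⁻¹) = g * pPart p y * g⁻¹ := by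
  have ho : orderOf (g * y * g⁻¹) = orderOf y :=
    (SemiconjBy.orderOf_eq g (x := y) (y := g * y * g⁻¹) (by unfold SemiconjBy; group)).symm
  unfold pPart
  rw [ho, conj_pow, conj_zpow]

theorem pPrimePart_conj (p : ℕ) (g y : G) :
    pPrimePart p (g * y * g⁻¹) = g * pPrimePart p y * g⁻¹ := by
  have ho : orderOf (g * y * g⁻¹) = orderOf y :=
    (SemiconjBy.orderOf_eq g (x := y) (y := g * y * g⁻¹) (by unfold SemiconjBy; group)).symm
  unfold pPrimePart
  rw [ho, conj_pow, conj_zpow]

theorem pPart_mul_pPrimePart [Finite G] {p : ℕ} (hp : p.Prime) (y : G) :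
    pPart p y * pPrimePart p y = y := by
  have ho : orderOf y ≠ 0 := (orderOf_pos y).ne'
  set k := (orderOf y).factorization p with hk
  set m := orderOf y / p ^ k with hm
  have hcop : (p ^ k).Coprime m := (Nat.coprime_ordCompl hp ho).pow_left k
  have hb := Nat.gcd_eq_gcd_ab (p ^ k) m
  rw [Nat.Coprime.gcd_eq_one hcop] at hb
  unfold pPart pPrimePart
  rw [← hk, ← hm, ← zpow_natCast y m, ← zpow_natCast y (p ^ k), ← zpow_mul, ← zpow_mul,
    ← zpow_add]
  have : (m : ℤ) * Nat.gcdB (p ^ k) m + ((p ^ k : ℕ) : ℤ) * Nat.gcdA (p ^ k) m = 1 := by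
    rw [add_comm]; exact_mod_cast hb.symm
  rw [this, zpow_one]

theorem pPart_pow_eq_one (p : ℕ) (y : G) :
    pPart p y ^ (p ^ (orderOf y).factorization p) = 1 := by
  set k := (orderOf y).factorization p with hk
  unfold pPart
  rw [← hk, ← zpow_natCast, ← zpow_mul, mul_comm, zpow_mul, zpow_natCast, ← pow_mul,
    Nat.div_mul_cancel (Nat.ordProj_dvd _ _), pow_orderOf_eq_one, one_zpow]

theorem pPrimePart_pow_eq_one (p : ℕ) (y : G) :
    pPrimePart p y ^ (orderOf y / p ^ (orderOf y).factorization p) = 1 := by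
  set k := (orderOf y).factorization p with hk
  unfold pPrimePart
  rw [← hk, ← zpow_natCast, ← zpow_mul, mul_comm, zpow_mul, zpow_natCast, ← pow_mul,
    Nat.mul_div_cancel' (Nat.ordProj_dvd _ _), pow_orderOf_eq_one, one_zpow]

theorem coprime_orderOf_pPrimePart [Finite G] {p : ℕ} (hp : p.Prime) (y : G) :
    (orderOf (pPrimePart p y)).Coprime p := by
  have ho : orderOf y ≠ 0 := (orderOf_pos y).ne'
  have h1 := orderOf_dvd_of_pow_eq_one (pPrimePart_pow_eq_one p y)
  exact Nat.Coprime.coprime_dvd_left h1 (Nat.coprime_ordCompl hp ho).symm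

end parts

end Cfsg.Agent.Lib.Helper23.NilHall
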