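/-
helper23: S0720 (Wielandt 2p) leaf W2P-COUNT, part (a): the conjugation orbits of `N_G(P)` on `P ∖ 1`
have length `|N_G(P) : C_G(P)|` (planner helper19, notes/S0720_leaves.lean).
-/
import Mathlib

set_option autoImplicit false

namespace Cfsg.Agent.Lib.Helper23.W2PCOUNTa

universe u

variable {G : Type u} [Group G] [Finite G]

/-- every element of a subgroup of prime order is a power of a given non-identity element -/
theorem mem_zpowers_of_prime_card {p : ℕ} (hp : p.Prime) (P : Subgroup G) (hP : Nat.card P = p)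
    (x : G) (hx : x ∈ P) (hx1 : x ≠ 1) (y : G) (hy : y ∈ P) : y ∈ Subgroup.zpowers x := by
  have hord : orderOf x = p := by
    have h1 : orderOf x ∣ p := hP ▸ Subgroup.orderOf_dvd_natCard P hx
    rcases (Nat.dvd_prime hp).mp h1 with h | h
    · exact absurd (orderOf_eq_one_iff.mp h) hx1
    · exact h
  have hz : Subgroup.zpowers x = P := by
    apply Subgroup.eq_of_le_of_card_ge
    · rw [Subgroup.zpowers_le]; exact hx
    · rw [Nat.card_zpowers, hord, hP]
  rw [hz]; exact hy

/-- an `N_G(P)`-invariant finite set containing a non-identity element of `P` (`|P|` prime) has at least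
`|N_G(P) : C_G(P)|` elements -/
theorem relIndex_le_card {p : ℕ} (hp : p.Prime) (P : Subgroup G) (hP : Nat.card P = p)
    (x : G) (hx : x ∈ P) (hx1 : x ≠ 1) (A : Finset G)
    (hA : ∀ n ∈ Subgroup.normalizer (P : Set G), n * x * n⁻¹ ∈ A) :
    (Subgroup.centralizer (P : Set G)).relIndex (Subgroup.normalizer (P : Set G)) ≤ A.card := by
  classical
  set N := Subgroup.normalizer (P : Set G) with hN
  set C' := (Subgroup.centralizer (P : Set G)).subgroupOf N with hC'
  have hcomm : ∀ c : G, c * x = x * c → c ∈ Subgroup.centralizer (P : Set G) := by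
    intro c hc
    rw [Subgroup.mem_centralizer_iff]
    intro y hy
    obtain ⟨k, rfl⟩ := mem_zpowers_of_prime_card hp P hP x hx hx1 y hy
    have : Commute c x := hc
    exact (this.zpow_right k).eq.symm
  let φ : N ⧸ C' → A := fun q => Quotient.liftOn' q
    (fun n : N => (⟨(n : G) * x * (n : G)⁻¹, hA n n.2⟩ : A))
    (by
      intro n n' h
      have h1 : n⁻¹ * n' ∈ C' := QuotientGroup.leftRel_apply.mp h
      have h2 : ((n⁻¹ * n' : N) : G) ∈ Subgroup.centralizer (P : Set G) :=
        Subgroup.mem_subgroupOf.mp h1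
      have h3 := Subgroup.mem_centralizer_iff.mp h2 x hx
      apply Subtype.ext
      show (n : G) * x * (n : G)⁻¹ = (n' : G) * x * (n' : G)⁻¹
      have h4 : x * ((n : G)⁻¹ * (n' : G)) = ((n : G)⁻¹ * (n' : G)) * x := by
        simpa using h3
      calc (n : G) * x * (n : G)⁻¹ = (n : G) * (x * ((n : G)⁻¹ * (n' : G))) * (n' : G)⁻¹ := by group
        _ = (n : G) * (((n : G)⁻¹ * (n' : G)) * x) * (n' : G)⁻¹ := by rw [h4]
        _ = (n' : G) * x * (n' : G)⁻¹ := by group)
  have hinj : Function.Injective φ := by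
    intro q q'
    induction q using Quotient.inductionOn' with | _ n =>
    induction q' using Quotient.inductionOn' with | _ n' =>
    intro h
    have h1 : (n : G) * x * (n : G)⁻¹ = (n' : G) * x * (n' : G)⁻¹ := congrArg Subtype.val h
    apply Quotient.sound'
    rw [QuotientGroup.leftRel_apply]
    apply Subgroup.mem_subgroupOf.mpr
    apply hcomm
    show ((n⁻¹ * n' : N) : G) * x = x * ((n⁻¹ * n' : N) : G)
    push_cast
    calc (n : G)⁻¹ * (n' : G) * x = (n : G)⁻¹ * ((n' : G) * x * (n' : G)⁻¹) * (n' : G) := by group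
      _ = (n : G)⁻¹ * ((n : G) * x * (n : G)⁻¹) * (n' : G) := by rw [h1]
      _ = x * ((n : G)⁻¹ * (n' : G)) := by group
  have h1 := Nat.card_le_card_of_injective φ hinj
  have h2 : Nat.card (N ⧸ C') =
      (Subgroup.centralizer (P : Set G)).relIndex (Subgroup.normalizer (P : Set G)) := rfl
  rw [h2, Nat.card_eq_fintype_card, Fintype.card_coe] at h1
  exact h1

end Cfsg.Agent.Lib.Helper23.W2PCOUNTa
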