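/-
helper23: S0720 (Wielandt 2p) leaf W2P-COUNT `card_S_eq` (planner helper19, notes/S0720_leaves.lean).
-/
import Mathlib
import Cfsg.Agent.Lib.Helper19.W2PDefs
import Cfsg.Agent.Lib.Helper23.W2PCOUNTa

set_option autoImplicit false

namespace Cfsg.Agent.Lib.Helper23.W2PCOUNT

open Cfsg Cfsg.Agent.CharLib Cfsg.Agent.Lib.Helper19.CentAlg Cfsg.Agent.Lib.Helper19.W2P
open Cfsg.Agent.Lib.Helper23.W2PCOUNTa

open scoped Classical

universe u v

variable {G : Type u} [Group G] [Fintype G] {Ω : Type v} [Fintype Ω] [DecidableEq Ω] [MulAction G Ω]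

section facts

variable {P : Subgroup G} {χ₁ : G → ℂ} {a : ℕ} {S : Set G}

/-- `ent (a₀, (n x n⁻¹) a₀) = ent (n⁻¹ a₀, x n⁻¹ a₀)` -/
theorem ent_conj (d : OrbData (Ω := Ω) P χ₁ a S) (a₀ : Ω) (n x : G) :
    ent χ₁ a₀ ((n * x * n⁻¹) • a₀) = ent χ₁ (n⁻¹ • a₀) (x • (n⁻¹ • a₀)) := by
  have h := d.ent_smul n⁻¹ a₀ ((n * x * n⁻¹) • a₀)
  rw [← h]
  congr 1
  rw [← mul_smul, ← mul_smul]
  congr 1
  group

theorem conj_mem_P (n : G) (hn : n ∈ Subgroup.normalizer (P : Set G)) (x : G) (hx : x ∈ P) :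
    n * x * n⁻¹ ∈ P :=
  (Subgroup.mem_normalizer_iff.mp hn x).mp hx

theorem conj_ne_one (n x : G) (hx1 : x ≠ 1) : n * x * n⁻¹ ≠ 1 := by
  intro h
  apply hx1
  have : x = n⁻¹ * (n * x * n⁻¹) * n := by group
  rw [this, h]; group

/-- `S` is invariant under `N_G(P)` -/
theorem S_conj (d : OrbData (Ω := Ω) P χ₁ a S) (a₀ : Ω) (n : G)
    (hn : n ∈ Subgroup.normalizer (P : Set G)) (x : G) (hx : x ∈ S) : n * x * n⁻¹ ∈ S := by
  obtain ⟨hxP, hx1⟩ := d.S_sub x hx
  rw [← d.supp (n * x * n⁻¹) (conj_mem_P n hn x hxP) (conj_ne_one n x hx1) a₀, ent_conj d]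
  exact (d.supp x hxP hx1 (n⁻¹ • a₀)).mpr hx

/-- the complement of `S` in `P ∖ 1` is invariant under `N_G(P)` -/
theorem notS_conj (d : OrbData (Ω := Ω) P χ₁ a S) (a₀ : Ω) (n : G)
    (hn : n ∈ Subgroup.normalizer (P : Set G)) (x : G) (hxP : x ∈ P) (hx1 : x ≠ 1) (hx : x ∉ S) :
    n * x * n⁻¹ ∉ S := by
  rw [← d.supp (n * x * n⁻¹) (conj_mem_P n hn x hxP) (conj_ne_one n x hx1) a₀, ent_conj d,
    not_not]
  by_contra h
  exact hx ((d.supp x hxP hx1 (n⁻¹ • a₀)).mp h)

/-- conjugates of a type-`0` element give the same suborbit -/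
theorem orbit_conj (d : OrbData (Ω := Ω) P χ₁ a S) (a₀ : Ω) (n : G) (x : G) (hxP : x ∈ P)
    (hx1 : x ≠ 1) (hx : x ∉ S) :
    (Quotient.mk'' ((n * x * n⁻¹) • a₀) : MulAction.orbitRel.Quotient (MulAction.stabilizer G a₀) Ω) =
      Quotient.mk'' (x • a₀) := by
  obtain ⟨g, hg1, hg2⟩ := d.type0 x hxP hx1 hx a₀ (n⁻¹ • a₀)
  apply Quotient.sound'
  have hmem : n * g ∈ MulAction.stabilizer G a₀ := by
    rw [MulAction.mem_stabilizer_iff, mul_smul, hg1, smul_inv_smul]
  show (n * x * n⁻¹) • a₀ ∈ MulAction.orbit (MulAction.stabilizer G a₀) (x • a₀)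
  refine ⟨⟨n * g, hmem⟩, ?_⟩
  show (n * g) • (x • a₀) = (n * x * n⁻¹) • a₀
  rw [mul_smul, hg2, ← mul_smul, ← mul_smul]

end facts

/-- W2P-COUNT: the supports are single `N`-orbits. -/
theorem card_S_eq {p : ℕ} (hp : p.Prime) (hodd : p ≠ 2) [MulAction.IsPretransitive G Ω]
    (hcard : Fintype.card Ω = 2 * p) (P : Subgroup G) (hP : Nat.card P = p)
    (hsemi : Semireg P Ω) (χ₁ : G → ℂ) (a : ℕ) (S : Set G) (d : OrbData (Ω := Ω) P χ₁ a S)
    (a₀ : Ω) (t : ℕ)
    (hrank : Nat.card (MulAction.orbitRel.Quotient (MulAction.stabilizer G a₀) Ω) = t + 2)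
    (hblk : (Subgroup.centralizer (P : Set G)).relIndex (Subgroup.normalizer (P : Set G)) * t =
      p - 1) :
    Nat.card S =
      (Subgroup.centralizer (P : Set G)).relIndex (Subgroup.normalizer (P : Set G)) := by
  set e := (Subgroup.centralizer (P : Set G)).relIndex (Subgroup.normalizer (P : Set G)) with he
  set H := MulAction.stabilizer G a₀ with hH
  -- the finsets
  set Pn : Finset G := Finset.univ.filter (fun x => x ∈ P ∧ x ≠ 1) with hPn
  set Sf : Finset G := Finset.univ.filter (fun x => x ∈ S) with hSf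
  set Rf : Finset G := Finset.univ.filter (fun x => x ∈ P ∧ x ≠ 1 ∧ x ∉ S) with hRf
  have hcS : Nat.card S = Sf.card := by
    rw [Nat.card_eq_fintype_card, Fintype.card_subtype]
  have hcPn : Pn.card = p - 1 := by
    have h1 : (Finset.univ.filter (fun x : G => x ∈ P)).card = p := by
      rw [← hP, Nat.card_eq_fintype_card, Fintype.card_subtype]
    have h2 : Pn = (Finset.univ.filter (fun x : G => x ∈ P)).erase 1 := by
      ext x
      simp only [hPn, Finset.mem_filter, Finset.mem_univ, true_and, Finset.mem_erase]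
      tauto
    rw [h2, Finset.card_erase_of_mem (by simp [one_mem]), h1]
  have hsplit : Sf.card + Rf.card = p - 1 := by
    rw [← hcPn]
    have h1 : Pn = Sf ∪ Rf := by
      ext x
      simp only [hPn, hSf, hRf, Finset.mem_filter, Finset.mem_univ, true_and, Finset.mem_union]
      constructor
      · rintro ⟨h1, h2⟩
        by_cases h : x ∈ S
        · left; exact h
        · right; exact ⟨h1, h2, h⟩
      · rintro (h | h)
        · exact d.S_sub x h
        · exact ⟨h.1, h.2.1⟩
    have h2 : Disjoint Sf Rf := by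
      rw [Finset.disjoint_left]
      intro x hx hx'
      simp only [hSf, hRf, Finset.mem_filter, Finset.mem_univ, true_and] at hx hx'
      exact hx'.2.2 hx
    rw [h1, Finset.card_union_of_disjoint h2]
  -- `e ≤ |S|`
  have hSne : Sf.Nonempty := by
    rw [← Finset.card_pos, ← hcS, d.S_card]
    have := d.apos
    positivity
  obtain ⟨xS, hxS⟩ := hSne
  have hxS' : xS ∈ S := by simpa [hSf] using hxS
  have heS : e ≤ Sf.card := by
    apply relIndex_le_card hp P hP xS (d.S_sub xS hxS').1 (d.S_sub xS hxS').2 Sf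
    intro n hn
    simp only [hSf, Finset.mem_filter, Finset.mem_univ, true_and]
    exact S_conj d a₀ n hn xS hxS'
  -- the classifying map on `Rf`
  let f : G → MulAction.orbitRel.Quotient H Ω := fun x => Quotient.mk'' (x • a₀)
  set Z : Finset (MulAction.orbitRel.Quotient H Ω) := Rf.image f with hZ
  have hfib : ∀ q ∈ Z, e ≤ (Rf.filter (fun x => f x = q)).card := by
    intro q hq
    obtain ⟨x, hxR, hxq⟩ := Finset.mem_image.mp hq
    have hxR' : x ∈ P ∧ x ≠ 1 ∧ x ∉ S := by simpa [hRf] using hxR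
    apply relIndex_le_card hp P hP x hxR'.1 hxR'.2.1
    intro n hn
    simp only [hRf, Finset.mem_filter, Finset.mem_univ, true_and]
    refine ⟨⟨conj_mem_P n hn x hxR'.1, conj_ne_one n x hxR'.2.1,
      notS_conj d a₀ n hn x hxR'.1 hxR'.2.1 hxR'.2.2⟩, ?_⟩
    rw [← hxq]
    exact orbit_conj d a₀ n x hxR'.1 hxR'.2.1 hxR'.2.2
  have hR : Z.card * e ≤ Rf.card := by
    rw [Finset.card_eq_sum_card_fiberwise (f := f) (t := Z)
      (fun x hx => Finset.mem_image_of_mem f hx)]
    calc Z.card * e = ∑ _q ∈ Z, e := by rw [Finset.sum_const, smul_eq_mul]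
      _ ≤ ∑ q ∈ Z, (Rf.filter (fun x => f x = q)).card := Finset.sum_le_sum hfib
  -- the other suborbits: at most three
  have hc0 : (1 : ℂ) / (2 * (2 * (a : ℂ) + 1)) ≠ 0 := by
    have h1 : (2 * (a : ℂ) + 1) ≠ 0 := by
      have : ((2 * a + 1 : ℕ) : ℂ) ≠ 0 := Nat.cast_ne_zero.mpr (by omega)
      push_cast at this
      exact this
    apply div_ne_zero one_ne_zero
    exact mul_ne_zero two_ne_zero h1
  have hposne : Nonempty {β : Ω // ent χ₁ a₀ β = 1 / (2 * (2 * (a : ℂ) + 1))} := by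
    have h1 := d.card_pos a₀
    have h2 : 0 < Nat.card {β : Ω // ent χ₁ a₀ β = 1 / (2 * (2 * (a : ℂ) + 1))} := by
      rw [h1]; have := d.apos; positivity
    exact (Nat.card_pos_iff.mp h2).1
  have hnegne : Nonempty {β : Ω // ent χ₁ a₀ β = -(1 / (2 * (2 * (a : ℂ) + 1)))} := by
    have h1 := d.card_neg a₀
    have h2 : 0 < Nat.card {β : Ω // ent χ₁ a₀ β = -(1 / (2 * (2 * (a : ℂ) + 1)))} := by
      rw [h1]; positivity
    exact (Nat.card_pos_iff.mp h2).1
  obtain ⟨βp, hβp⟩ := hposne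
  obtain ⟨βm, hβm⟩ := hnegne
  have hcover : (Finset.univ : Finset (MulAction.orbitRel.Quotient H Ω)) ⊆
      insert (Quotient.mk'' a₀) (insert (Quotient.mk'' βp) (insert (Quotient.mk'' βm) Z)) := by
    intro q _
    induction q using Quotient.inductionOn' with | _ β =>
    by_cases hβ : β = a₀
    · rw [hβ]; exact Finset.mem_insert_self _ _
    · have hne : a₀ ≠ β := fun h => hβ h.symm
      rcases d.ent_vals a₀ β hne with h | h | h
      · -- type 0
        obtain ⟨x, hxP, hx1, hxS, g, hg1, hg2⟩ := d.type0_surj a₀ β hne h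
        apply Finset.mem_insert_of_mem
        apply Finset.mem_insert_of_mem
        apply Finset.mem_insert_of_mem
        rw [hZ, Finset.mem_image]
        refine ⟨x, by simp [hRf, hxP, hx1, hxS], ?_⟩
        symm
        apply Quotient.sound'
        show β ∈ MulAction.orbit H (x • a₀)
        exact ⟨⟨g, MulAction.mem_stabilizer_iff.mpr hg1⟩, hg2⟩
      · obtain ⟨g, hg1, hg2⟩ := d.orb_pos a₀ βp a₀ β hβp h
        apply Finset.mem_insert_of_mem
        have : (Quotient.mk'' β : MulAction.orbitRel.Quotient H Ω) = Quotient.mk'' βp := by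
          apply Quotient.sound'
          show β ∈ MulAction.orbit H βp
          exact ⟨⟨g, MulAction.mem_stabilizer_iff.mpr hg1⟩, hg2⟩
        rw [this]; exact Finset.mem_insert_self _ _
      · obtain ⟨g, hg1, hg2⟩ := d.orb_neg a₀ βm a₀ β hβm h
        apply Finset.mem_insert_of_mem
        apply Finset.mem_insert_of_mem
        have : (Quotient.mk'' β : MulAction.orbitRel.Quotient H Ω) = Quotient.mk'' βm := by
          apply Quotient.sound'
          show β ∈ MulAction.orbit H βm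
          exact ⟨⟨g, MulAction.mem_stabilizer_iff.mpr hg1⟩, hg2⟩
        rw [this]; exact Finset.mem_insert_self _ _
  have hZcard : t + 2 ≤ Z.card + 3 := by
    have h1 := Finset.card_le_card hcover
    rw [Finset.card_univ, ← Nat.card_eq_fintype_card, hrank] at h1
    have h2 := Finset.card_insert_le (Quotient.mk'' a₀ : MulAction.orbitRel.Quotient H Ω)
      (insert (Quotient.mk'' βp) (insert (Quotient.mk'' βm) Z))
    have h3 := Finset.card_insert_le (Quotient.mk'' βp : MulAction.orbitRel.Quotient H Ω)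
      (insert (Quotient.mk'' βm) Z)
    have h4 := Finset.card_insert_le (Quotient.mk'' βm : MulAction.orbitRel.Quotient H Ω) Z
    omega
  -- arithmetic
  rw [hcS]
  have hpp : 1 ≤ p - 1 := by have := hp.two_le; omega
  have hepos : 0 < e := by
    rcases Nat.eq_zero_or_pos e with h | h
    · rw [h, zero_mul] at hblk; omega
    · exact h
  have htpos : 0 < t := by
    rcases Nat.eq_zero_or_pos t with h | h
    · rw [h, mul_zero] at hblk; omega
    · exact h
  have h5 : (Z.card + 1) * e ≤ e * t := by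
    rw [hblk, ← hsplit]
    have : (Z.card + 1) * e = Z.card * e + e := by ring
    omega
  have h6 : Z.card + 1 ≤ t := by
    rw [mul_comm e t] at h5
    exact Nat.le_of_mul_le_mul_right h5 hepos
  have h7 : Z.card + 1 = t := by omega
  have h8 : (t - 1) * e ≤ Rf.card := by
    have : t - 1 = Z.card := by omega
    rw [this]; exact hR
  have h9 : e * t = (t - 1) * e + e := by
    have : t = (t - 1) + 1 := by omega
    conv_lhs => rw [this]
    ring
  omega

end Cfsg.Agent.Lib.Helper23.W2PCOUNT
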