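/-
helper23: S0720 (Wielandt 2p) leaf W2P-DECOMP, part (a): the Fourier functionals along a cyclic subgroup
of prime order (planner helper19, notes/S0720_leaves.lean).
-/
import Mathlib
import Cfsg.Agent.Lib.Helper19.W2PDefs
import Cfsg.Agent.Lib.Lead.PermChar
import Cfsg.Agent.Lib.Helper15.BREPMULT
import Cfsg.Agent.Lib.Helper23.GaloisChar

set_option autoImplicit false

namespace Cfsg.Agent.Lib.Helper23.W2PDECOMPa

open Cfsg Cfsg.Agent.CharLib Cfsg.Agent.Lib.Helper27.DO Cfsg.Agent.Lib.Helper19.W2P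
open scoped ComplexConjugate

universe u v

variable {G : Type u} [Group G]

/-- the `i`-th Fourier functional along `⟨x0⟩` -/
noncomputable def SS (p : ℕ) (x0 : G) (i : ℕ) (f : G → ℂ) : ℂ :=
  ∑ j ∈ Finset.range p, f (x0 ^ j) * conj (zetaP p ^ (i * j))

theorem SS_sum {ι : Type*} (s : Finset ι) (p : ℕ) (x0 : G) (i : ℕ) (c : ι → ℂ)
    (F : ι → G → ℂ) :
    SS p x0 i (∑ k ∈ s, c k • F k) = ∑ k ∈ s, c k * SS p x0 i (F k) := by
  unfold SS
  simp only [Finset.sum_apply, Pi.smul_apply, smul_eq_mul, Finset.sum_mul, Finset.mul_sum]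
  rw [Finset.sum_comm]
  apply Finset.sum_congr rfl
  intro k _
  apply Finset.sum_congr rfl
  intro j _
  ring

theorem zeta_prim (p : ℕ) [hp : Fact p.Prime] : IsPrimitiveRoot (zetaP p) p :=
  Complex.isPrimitiveRoot_exp p hp.out.ne_zero

/-- geometric sums of conjugates of powers of `ζ` -/
theorem sum_conj_zeta (p : ℕ) [hp : Fact p.Prime] (j : ℕ) (hj0 : 0 < j) (hjp : j < p) :
    ∑ i ∈ Finset.range p, conj (zetaP p ^ (i * j)) = 0 := by
  set w : ℂ := conj (zetaP p ^ j) with hw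
  have hζ := zeta_prim p
  have hwp : w ^ p = 1 := by
    rw [hw, ← map_pow, ← pow_mul, mul_comm, pow_mul, hζ.pow_eq_one, one_pow, map_one]
  have hw1 : w ≠ 1 := by
    intro h
    have h2 : zetaP p ^ j = 1 := by
      have := congrArg conj h
      rw [hw, Complex.conj_conj, map_one] at this
      exact this
    exact hζ.pow_ne_one_of_pos_of_lt (Nat.pos_iff_ne_zero.mp hj0) hjp h2
  have h1 : ∀ i : ℕ, conj (zetaP p ^ (i * j)) = w ^ i := by
    intro i
    rw [hw, ← map_pow, ← pow_mul, mul_comm]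
  simp only [h1]
  have h2 := geom_sum_mul w p
  rw [hwp, sub_self] at h2
  rcases mul_eq_zero.mp h2 with h | h
  · exact h
  · exact absurd (sub_eq_zero.mp h) hw1

theorem sum_SS (p : ℕ) [hp : Fact p.Prime] (x0 : G) (f : G → ℂ) :
    ∑ i ∈ Finset.range p, SS p x0 i f = (p : ℂ) * f 1 := by
  unfold SS
  rw [Finset.sum_comm]
  have h0 : (0 : ℕ) ∈ Finset.range p := Finset.mem_range.mpr hp.out.pos
  rw [Finset.sum_eq_single_of_mem 0 h0]
  · simp only [mul_zero, pow_zero, map_one, mul_one, Finset.sum_const, Finset.card_range,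
      nsmul_eq_mul]
  · intro j hj hj0
    rw [← Finset.mul_sum, sum_conj_zeta p j (Nat.pos_of_ne_zero hj0) (Finset.mem_range.mp hj),
      mul_zero]

/-- a function vanishing on the non-identity powers of `x0` -/
theorem SS_of_vanish (p : ℕ) [hp : Fact p.Prime] (x0 : G) (i : ℕ) (f : G → ℂ)
    (hf : ∀ j : ℕ, 0 < j → j < p → f (x0 ^ j) = 0) : SS p x0 i f = f 1 := by
  unfold SS
  have h0 : (0 : ℕ) ∈ Finset.range p := Finset.mem_range.mpr hp.out.pos
  rw [Finset.sum_eq_single_of_mem 0 h0]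
  · simp
  · intro j hj hj0
    rw [hf j (Nat.pos_of_ne_zero hj0) (Finset.mem_range.mp hj), zero_mul]

/-- a function constant `d` on the non-identity powers of `x0` -/
theorem SS_zero_of_const (p : ℕ) [hp : Fact p.Prime] (x0 : G) (f : G → ℂ) (d : ℂ)
    (hf : ∀ j : ℕ, 0 < j → j < p → f (x0 ^ j) = d) :
    SS p x0 0 f = f 1 + ((p : ℂ) - 1) * d := by
  unfold SS
  have hp1 : p = (p - 1) + 1 := (Nat.succ_pred_eq_of_pos hp.out.pos).symm
  rw [hp1, Finset.sum_range_succ']
  simp only [zero_mul, pow_zero, map_one, mul_one]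
  rw [add_comm]
  congr 1
  have h1 : ∀ j ∈ Finset.range (p - 1), f (x0 ^ (j + 1)) = d := by
    intro j hj
    apply hf
    · omega
    · have := Finset.mem_range.mp hj; omega
  rw [Finset.sum_congr rfl h1, Finset.sum_const, Finset.card_range, nsmul_eq_mul]
  congr 1
  rw [← hp1, Nat.cast_sub hp.out.one_le, Nat.cast_one]

theorem SS_one_of_const (p : ℕ) [hp : Fact p.Prime] (x0 : G) (i : ℕ) (hi0 : 0 < i) (hip : i < p)
    (f : G → ℂ) (d : ℂ) (hf : ∀ j : ℕ, 0 < j → j < p → f (x0 ^ j) = d) :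
    SS p x0 i f = f 1 - d := by
  -- ∑_j conj ζ^(i j) = 0
  have hsum : ∑ j ∈ Finset.range p, conj (zetaP p ^ (i * j)) = 0 := by
    have := sum_conj_zeta p i hi0 hip
    simpa only [mul_comm] using this
  have h2 : SS p x0 i f = (f 1 - d) + d * ∑ j ∈ Finset.range p, conj (zetaP p ^ (i * j)) := by
    unfold SS
    have h0 : (0 : ℕ) ∈ Finset.range p := Finset.mem_range.mpr hp.out.pos
    rw [Finset.mul_sum, ← Finset.add_sum_erase _ _ h0, ← Finset.add_sum_erase _ _ h0]
    simp only [mul_zero, pow_zero, map_one, mul_one]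
    have h3 : ∑ j ∈ (Finset.range p).erase 0, f (x0 ^ j) * conj (zetaP p ^ (i * j)) =
        ∑ j ∈ (Finset.range p).erase 0, d * conj (zetaP p ^ (i * j)) := by
      apply Finset.sum_congr rfl
      intro j hj
      rw [Finset.mem_erase, Finset.mem_range] at hj
      rw [hf j (Nat.pos_of_ne_zero hj.1) hj.2]
    rw [h3]
    ring
  rw [h2, hsum, mul_zero, add_zero]

section fin

variable [Finite G]

theorem exists_mu {p : ℕ} [Fact p.Prime] (χ : G → ℂ) (hχ : IsCharacter G χ) (x0 : G)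
    (hx0 : orderOf x0 = p) (i : ℕ) (hi : i < p) :
    ∃ m : ℕ, SS p x0 i χ = (p : ℂ) * (m : ℂ) := by
  obtain ⟨m, hm⟩ := Cfsg.Agent.Lib.Helper15.BREPMULT.exists_sum_twist χ hχ x0 hx0 (i : ZMod p)
  refine ⟨m, ?_⟩
  rw [ZMod.val_cast_of_lt hi] at hm
  exact hm

/-- invariance of the `0`-th functional under `g ↦ g ^ k`, `k` prime to `p` -/
theorem SS_zero_comp_pow {p : ℕ} [hp : Fact p.Prime] (x0 : G) (hx0 : orderOf x0 = p) (k : ℕ)
    (hk : p.Coprime k) (f : G → ℂ) :
    SS p x0 0 (fun g => f (g ^ k)) = SS p x0 0 f := by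
  classical
  have hfin : IsOfFinOrder x0 := by
    rw [← orderOf_pos_iff, hx0]; exact hp.out.pos
  let _ : Fintype ↥(Subgroup.zpowers x0) := Fintype.ofFinite _
  have key : ∀ F : G → ℂ, SS p x0 0 F = ∑ x : ↥(Subgroup.zpowers x0), F (x : G) := by
    intro F
    unfold SS
    simp only [zero_mul, pow_zero, map_one, mul_one]
    have e1 : ∑ x : ↥(Subgroup.zpowers x0), F (x : G) =
        ∑ n : Fin (orderOf x0), F (x0 ^ (n : ℕ)) := by
      symm
      apply Fintype.sum_equiv (finEquivZPowers hfin)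
      intro n
      rw [finEquivZPowers_apply]
    rw [e1, Fin.sum_univ_eq_sum_range (fun n => F (x0 ^ n)) (orderOf x0), hx0]
  rw [key, key]
  have hc : (Nat.card ↥(Subgroup.zpowers x0)).Coprime k := by
    rw [Nat.card_zpowers, hx0]; exact hk
  have := Equiv.sum_comp (powCoprime hc) (fun x : ↥(Subgroup.zpowers x0) => f (x : G))
  rw [← this]
  apply Finset.sum_congr rfl
  intro x _
  rfl

end fin

end Cfsg.Agent.Lib.Helper23.W2PDECOMPa
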