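/-
helper23: S0720 (Wielandt 2p) leaf W2P-DECOMP, part (b): general lemmas on permutation characters
(invariance under coprime powers, linear constituents) (planner helper19, notes/S0720_leaves.lean).
-/
import Mathlib
import Cfsg.Agent.Lib.Helper19.W2PDefs
import Cfsg.Agent.Lib.Lead.PermChar
import Cfsg.Agent.Lib.Helper23.LinTwist

set_option autoImplicit false

namespace Cfsg.Agent.Lib.Helper23.W2PDECOMPb

open Cfsg Cfsg.Agent.CharLib Cfsg.Agent.Lib.Helper19.W2P
open scoped ComplexConjugate

universe u v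

section general

variable {G : Type u} [Group G] [Fintype G]

/-- `classInner f (h ∘ (· ^ k)) = classInner f h` if `f` is invariant under `g ↦ g ^ k`, `k` prime to `|G|`. -/
theorem classInner_comp_pow (f h : G → ℂ) (k : ℕ) (hk : (Nat.card G).Coprime k)
    (hf : ∀ g : G, f (g ^ k) = f g) :
    classInner f (fun g => h (g ^ k)) = classInner f h := by
  unfold classInner
  congr 1
  have := Equiv.sum_comp (powCoprime hk) (fun g : G => f g * conj (h g))
  rw [← this]
  apply Finset.sum_congr rfl
  intro g _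
  show f g * conj (h (g ^ k)) = f (g ^ k) * conj (h (g ^ k))
  rw [hf]

/-- a unit of `ZMod n` lifting a prescribed residue modulo a prime divisor `p` of `n` -/
theorem exists_coprime_modEq {n p : ℕ} (hn : 0 < n) (hp : p.Prime) (hpn : p ∣ n) (j : ℕ)
    (hj : ¬ p ∣ j) : ∃ k : ℕ, n.Coprime k ∧ k ≡ j [MOD p] := by
  haveI : NeZero n := ⟨hn.ne'⟩
  have hcop : j.Coprime p := ((Nat.Prime.coprime_iff_not_dvd hp).mpr hj).symm
  obtain ⟨u, hu⟩ := ZMod.unitsMap_surjective hpn (ZMod.unitOfCoprime j hcop)
  refine ⟨(u : ZMod n).val, (ZMod.val_coe_unit_coprime u).symm, ?_⟩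
  rw [Units.ext_iff, ZMod.unitsMap_def, Units.coe_map, ZMod.coe_unitOfCoprime] at hu
  have hu' : (ZMod.castHom hpn (ZMod p)) (u : ZMod n) = (j : ZMod p) := hu
  rw [ZMod.castHom_apply, ZMod.cast_eq_val, ZMod.natCast_eq_natCast_iff] at hu'
  exact hu'

end general

section perm

variable {G : Type u} [Group G] [Fintype G] {Ω : Type v} [Fintype Ω] [DecidableEq Ω] [MulAction G Ω]

/-- the permutation character is invariant under coprime powers -/
theorem permChar_pow (g : G) (k : ℕ) (hk : (Nat.card G).Coprime k) :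
    permChar G Ω (g ^ k) = permChar G Ω g := by
  unfold permChar
  have hset : MulAction.fixedBy Ω (g ^ k) = MulAction.fixedBy Ω g := by
    apply Set.Subset.antisymm
    · have h1 : (g ^ k) ^ (Nat.card G).gcdB k = g := (powCoprime hk).left_inv g
      have h2 := MulAction.fixedBy_subset_fixedBy_zpow Ω (g ^ k) ((Nat.card G).gcdB k)
      rwa [h1] at h2
    · have h2 := MulAction.fixedBy_subset_fixedBy_zpow Ω g (k : ℤ)
      rwa [zpow_natCast] at h2
  rw [hset]


theorem permChar_eq_sum (g : G) :
    permChar G Ω g = ∑ ω : Ω, if g • ω = ω then (1 : ℂ) else 0 := by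
  unfold permChar
  rw [Finset.sum_boole, Nat.card_eq_fintype_card, Fintype.card_subtype]
  rfl

theorem permChar_one : permChar G Ω 1 = (Fintype.card Ω : ℂ) := by
  rw [permChar_eq_sum]
  simp

/-- a fixed-point-free element -/
theorem permChar_eq_zero (g : G) (hg : ∀ a : Ω, g • a ≠ a) : permChar G Ω g = 0 := by
  rw [permChar_eq_sum]
  apply Finset.sum_eq_zero
  intro ω _
  rw [if_neg (hg ω)]

/-- a linear constituent of a permutation character is trivial on some point stabilizer -/
theorem exists_stabilizer_le_ker (φ : G →* ℂˣ)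
    (h : classInner (permChar G Ω) (Cfsg.Agent.Lib.Helper23.lin φ : G → ℂ) ≠ 0) :
    ∃ ω : Ω, ∀ g ∈ MulAction.stabilizer G ω, φ g = 1 := by
  classical
  by_contra hcon
  push Not at hcon
  apply h
  unfold classInner
  have hsum : ∑ g : G, permChar G Ω g * conj ((Cfsg.Agent.Lib.Helper23.lin φ : G → ℂ) g) = 0 := by
    -- the hom `g ↦ conj (φ g)`
    let ψ : G →* ℂ := ((starRingEnd ℂ : ℂ →+* ℂ) : ℂ →* ℂ).comp ((Units.coeHom ℂ).comp φ)
    have hψ : ∀ g : G, conj ((Cfsg.Agent.Lib.Helper23.lin φ : G → ℂ) g) = ψ g := fun g => rfl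
    simp only [hψ, permChar_eq_sum, Finset.sum_mul]
    rw [Finset.sum_comm]
    apply Finset.sum_eq_zero
    intro ω _
    obtain ⟨g0, hg0, hg0φ⟩ := hcon ω
    have h1 : ∑ g : G, (if g • ω = ω then (1 : ℂ) else 0) * ψ g =
        ∑ g : MulAction.stabilizer G ω, ψ (g : G) := by
      have h2 : ∑ g : G, (if g • ω = ω then (1 : ℂ) else 0) * ψ g =
          ∑ g ∈ Finset.univ.filter (fun g : G => g ∈ MulAction.stabilizer G ω), ψ g := by
        rw [Finset.sum_filter]
        apply Finset.sum_congr rfl
        intro g _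
        by_cases hg : g • ω = ω
        · rw [if_pos hg, if_pos (MulAction.mem_stabilizer_iff.mpr hg), one_mul]
        · rw [if_neg hg, if_neg (fun h' => hg (MulAction.mem_stabilizer_iff.mp h')), zero_mul]
      rw [h2]
      exact Finset.sum_subtype _ (fun g => by simp) _
    rw [h1]
    have h3 : (ψ.comp (MulAction.stabilizer G ω).subtype) ≠ 1 := by
      intro h4
      have h5 := DFunLike.congr_fun h4 ⟨g0, hg0⟩
      have h6 : conj ((φ g0 : ℂˣ) : ℂ) = 1 := h5
      have h7 : ((φ g0 : ℂˣ) : ℂ) = 1 := by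
        have := congrArg conj h6
        rwa [Complex.conj_conj, map_one] at this
      exact hg0φ (Units.ext h7)
    exact sum_hom_units_eq_zero (ψ.comp (MulAction.stabilizer G ω).subtype) h3
  rw [hsum, mul_zero]

end perm

end Cfsg.Agent.Lib.Helper23.W2PDECOMPb
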