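/-
helper23: S0720 (Wielandt 2p) leaf W2P-DECOMP, part (c): the distinguished constituent `χ₁`
(planner helper19, notes/S0720_leaves.lean).
-/
import Mathlib
import Cfsg.Agent.Lib.Helper19.W2PDefs
import Cfsg.Agent.Lib.Lead.PermChar
import Cfsg.Agent.Lib.Helper19.CentAlgRank
import Cfsg.Agent.Lib.Helper23.W2PDECOMPa
import Cfsg.Agent.Lib.Helper23.W2PDECOMPb

set_option autoImplicit false

namespace Cfsg.Agent.Lib.Helper23.W2PDECOMPc

open Cfsg Cfsg.Agent.CharLib Cfsg.Agent.Lib.Helper27.DO Cfsg.Agent.Lib.Helper19.W2P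
open Cfsg.Agent.Lib.Helper19.CentAlg
open Cfsg.Agent.Lib.Helper23.W2PDECOMPa Cfsg.Agent.Lib.Helper23.W2PDECOMPb
open scoped ComplexConjugate

universe u v

variable {G : Type u} [Group G] [Fintype G] {Ω : Type v} [Fintype Ω] [DecidableEq Ω] [MulAction G Ω]

/-- a generator of a subgroup of prime order -/
theorem exists_gen {p : ℕ} (hp : p.Prime) (P : Subgroup G) (hP : Nat.card P = p) :
    ∃ x0 ∈ P, x0 ≠ 1 ∧ orderOf x0 = p ∧
      ∀ x ∈ P, x ≠ 1 → ∃ j : ℕ, 0 < j ∧ j < p ∧ x = x0 ^ j := by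
  have hnt : Nontrivial P := by
    rw [← Finite.one_lt_card_iff_nontrivial, hP]; exact hp.one_lt
  obtain ⟨⟨x0, hx0P⟩, hx0ne⟩ := exists_ne (1 : P)
  have hx01 : x0 ≠ 1 := fun h => hx0ne (Subtype.ext h)
  have hord : orderOf x0 = p := by
    have h1 : orderOf x0 ∣ p := hP ▸ Subgroup.orderOf_dvd_natCard P hx0P
    rcases (Nat.dvd_prime hp).mp h1 with h | h
    · exact absurd (orderOf_eq_one_iff.mp h) hx01
    · exact h
  refine ⟨x0, hx0P, hx01, hord, ?_⟩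
  have hz : Subgroup.zpowers x0 = P := by
    apply Subgroup.eq_of_le_of_card_ge
    · rw [Subgroup.zpowers_le]; exact hx0P
    · rw [Nat.card_zpowers, hord, hP]
  intro x hx hx1
  rw [← hz] at hx
  have hfin : IsOfFinOrder x0 := by
    rw [← orderOf_pos_iff, hord]; exact hp.pos
  rw [← mem_powers_iff_mem_zpowers] at hx
  obtain ⟨n, hn⟩ := hx
  have hn' : x0 ^ n = x := hn
  refine ⟨n % p, ?_, Nat.mod_lt _ hp.pos, ?_⟩
  · rcases Nat.eq_zero_or_pos (n % p) with h | h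
    · exfalso
      apply hx1
      rw [← hn', ← pow_mod_orderOf, hord, h, pow_zero]
    · exact h
  · rw [← hn', ← hord, pow_mod_orderOf]

/-- the multiplicity data of the permutation character along `⟨x0⟩` -/
structure MData (p : ℕ) (x0 : G) (m d : IrrCharacter G → ℕ) (μ : IrrCharacter G → Fin p → ℕ) :
    Prop where
  hm : ∀ χ : IrrCharacter G, classInner (permChar G Ω) (χ : G → ℂ) = m χ
  hd : ∀ χ : IrrCharacter G, (χ : G → ℂ) 1 = d χ
  hdpos : ∀ χ : IrrCharacter G, 0 < d χ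
  hμ : ∀ (χ : IrrCharacter G) (i : Fin p), SS p x0 i (χ : G → ℂ) = (p : ℂ) * (μ χ i : ℂ)

variable [Fintype (IrrCharacter G)]

theorem exists_mdata {p : ℕ} [Fact p.Prime] [MulAction.IsPretransitive G Ω] (a₀ : Ω) (x0 : G)
    (hx0 : orderOf x0 = p) :
    ∃ (m d : IrrCharacter G → ℕ) (μ : IrrCharacter G → Fin p → ℕ), MData (Ω := Ω) p x0 m d μ ∧
      ∑ χ, m χ * d χ = Fintype.card Ω := by
  obtain ⟨m, d, hm, hd, hdpos, -, hsum⟩ := Cfsg.Agent.Lib.Helper19.CentAlgRank.exists_mult (G := G) (Ω := Ω) a₀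
  have hμ : ∀ (χ : IrrCharacter G) (i : Fin p), ∃ n : ℕ,
      SS p x0 i (χ : G → ℂ) = (p : ℂ) * (n : ℂ) := fun χ i =>
    exists_mu (χ : G → ℂ) (IsIrrCharacter.isCharacter χ.2) x0 hx0 i i.2
  choose μ hμ using hμ
  exact ⟨m, d, μ, ⟨hm, hd, hdpos, hμ⟩, hsum⟩

/-- the key equation: `∑_χ m χ μ χ i = 2` -/
theorem sum_mul_mu {p : ℕ} [hp : Fact p.Prime] (hcard : Fintype.card Ω = 2 * p) (x0 : G)
    (hx0 : orderOf x0 = p) (hfree : ∀ j : ℕ, 0 < j → j < p → ∀ a : Ω, (x0 ^ j) • a ≠ a)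
    (m d : IrrCharacter G → ℕ) (μ : IrrCharacter G → Fin p → ℕ)
    (D : MData (Ω := Ω) p x0 m d μ) (i : Fin p) : ∑ χ, m χ * μ χ i = 2 := by
  have hπc : IsCharacter G (permChar G Ω) := isCharacter_card_fixedBy
  have hexp := classFunction_eq_sum (IsCharacter.isClassFunction hπc)
  have h1 : SS p x0 i (permChar G Ω) = ∑ χ : IrrCharacter G,
      classInner (permChar G Ω) (χ : G → ℂ) * SS p x0 i (χ : G → ℂ) := by
    conv_lhs => rw [hexp]
    exact SS_sum Finset.univ p x0 i _ _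
  have h2 : SS p x0 i (permChar G Ω) = (2 * p : ℂ) := by
    rw [SS_of_vanish p x0 i (permChar G Ω)
      (fun j hj0 hjp => permChar_eq_zero _ (hfree j hj0 hjp)), permChar_one, hcard]
    push_cast; ring
  rw [h2] at h1
  have hp0 : (p : ℂ) ≠ 0 := Nat.cast_ne_zero.mpr hp.out.ne_zero
  have h3 : ((∑ χ, m χ * μ χ i : ℕ) : ℂ) = 2 := by
    push_cast
    have h4 : (p : ℂ) * ∑ χ : IrrCharacter G, (m χ : ℂ) * (μ χ i : ℂ) = (p : ℂ) * 2 := by
      rw [Finset.mul_sum, mul_comm (p : ℂ) 2, h1]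
      apply Finset.sum_congr rfl
      intro χ _
      rw [D.hm, D.hμ]
      ring
    exact mul_left_cancel₀ hp0 h4
  exact_mod_cast h3

/-- `∑_i μ χ i = d χ` -/
theorem sum_mu {p : ℕ} [hp : Fact p.Prime] (x0 : G)
    (m d : IrrCharacter G → ℕ) (μ : IrrCharacter G → Fin p → ℕ)
    (D : MData (Ω := Ω) p x0 m d μ) (χ : IrrCharacter G) : ∑ i : Fin p, μ χ i = d χ := by
  have h1 := sum_SS p x0 (χ : G → ℂ)
  rw [← Fin.sum_univ_eq_sum_range (fun i => SS p x0 i (χ : G → ℂ)) p] at h1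
  have hp0 : (p : ℂ) ≠ 0 := Nat.cast_ne_zero.mpr hp.out.ne_zero
  have h3 : ((∑ i : Fin p, μ χ i : ℕ) : ℂ) = (d χ : ℂ) := by
    push_cast
    have h4 : (p : ℂ) * ∑ i : Fin p, (μ χ i : ℂ) = (p : ℂ) * (d χ : ℂ) := by
      rw [Finset.mul_sum, ← D.hd, ← h1]
      apply Finset.sum_congr rfl
      intro i _
      rw [D.hμ]
    exact mul_left_cancel₀ hp0 h4
  exact_mod_cast h3

end Cfsg.Agent.Lib.Helper23.W2PDECOMPc
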