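/-
helper23: S0720 (Wielandt 2p) leaf W2P-DECOMP, part (d): uniqueness, Galois invariance, constancy on `P ∖ 1`
(planner helper19, notes/S0720_leaves.lean).
-/
import Mathlib
import Cfsg.Agent.Lib.Helper23.W2PDECOMPc

set_option autoImplicit false

namespace Cfsg.Agent.Lib.Helper23.W2PDECOMPd

open Cfsg Cfsg.Agent.CharLib Cfsg.Agent.Lib.Helper27.DO Cfsg.Agent.Lib.Helper19.W2P
open Cfsg.Agent.Lib.Helper19.CentAlg
open Cfsg.Agent.Lib.Helper23.W2PDECOMPa Cfsg.Agent.Lib.Helper23.W2PDECOMPb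
open Cfsg.Agent.Lib.Helper23.W2PDECOMPc
open scoped ComplexConjugate

universe u v

/-- a sum of naturals equal to `2` with a term equal to `1`: exactly one other term, equal to `1` -/
theorem exists_unique_term {ι : Type*} [Fintype ι] [DecidableEq ι] (t : ι → ℕ) (i₀ : ι)
    (h0 : t i₀ = 1) (hs : ∑ i, t i = 2) :
    ∃ i₁, i₁ ≠ i₀ ∧ t i₁ = 1 ∧ ∀ i, i ≠ i₀ → i ≠ i₁ → t i = 0 := by
  have h1 : ∑ i ∈ Finset.univ.erase i₀, t i = 1 := by
    have := Finset.add_sum_erase Finset.univ t (Finset.mem_univ i₀)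
    omega
  have hne : ∑ i ∈ Finset.univ.erase i₀, t i ≠ 0 := by omega
  obtain ⟨i₁, hi₁, hti₁⟩ := Finset.exists_ne_zero_of_sum_ne_zero hne
  have h2 := Finset.add_sum_erase (Finset.univ.erase i₀) t hi₁
  have hi₁ne : i₁ ≠ i₀ := (Finset.mem_erase.mp hi₁).1
  have h3 : t i₁ = 1 ∧ ∑ i ∈ (Finset.univ.erase i₀).erase i₁, t i = 0 := by omega
  refine ⟨i₁, hi₁ne, h3.1, ?_⟩
  intro i hi0 hi1
  have := Finset.sum_eq_zero_iff.mp h3.2 i
    (Finset.mem_erase.mpr ⟨hi1, Finset.mem_erase.mpr ⟨hi0, Finset.mem_univ i⟩⟩)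
  exact this

variable {G : Type u} [Group G] [Fintype G] {Ω : Type v} [Fintype Ω] [DecidableEq Ω] [MulAction G Ω]

/-- the distinguished constituent -/
structure Pick {p : ℕ} (m : IrrCharacter G → ℕ) (μ : IrrCharacter G → Fin p → ℕ) (i0 : Fin p)
    (χ₁ : IrrCharacter G) : Prop where
  ne : χ₁ ≠ trivIrr G
  m1 : m χ₁ = 1
  mu1 : μ χ₁ i0 = 1
  uniq : ∀ χ : IrrCharacter G, χ ≠ trivIrr G → χ ≠ χ₁ → m χ * μ χ i0 = 0

variable [Fintype (IrrCharacter G)]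

theorem m_triv [MulAction.IsPretransitive G Ω] [Nonempty Ω] {p : ℕ} (x0 : G)
    (m d : IrrCharacter G → ℕ) (μ : IrrCharacter G → Fin p → ℕ)
    (D : MData (Ω := Ω) p x0 m d μ) : m (trivIrr G) = 1 := by
  have h1 := D.hm (trivIrr G)
  have h2 : classInner (permChar G Ω) ((trivIrr G : IrrCharacter G) : G → ℂ) = 1 := by
    have h3 := classInner_perm_one (G := G) (Ω := Ω)
    have h4 : (permRep ℂ G Ω).character = permChar G Ω := by
      funext g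
      rw [permRep_character]
      rfl
    rw [h4] at h3
    exact h3
  rw [h2] at h1
  exact_mod_cast h1.symm

theorem mu_triv {p : ℕ} [hp : Fact p.Prime] (x0 : G)
    (m d : IrrCharacter G → ℕ) (μ : IrrCharacter G → Fin p → ℕ)
    (D : MData (Ω := Ω) p x0 m d μ) : μ (trivIrr G) ⟨0, hp.out.pos⟩ = 1 := by
  have h1 := D.hμ (trivIrr G) ⟨0, hp.out.pos⟩
  have h2 : SS p x0 0 ((trivIrr G : IrrCharacter G) : G → ℂ) = (p : ℂ) := by
    rw [SS_zero_of_const p x0 _ 1 (fun j _ _ => rfl)]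
    show (1 : ℂ) + ((p : ℂ) - 1) * 1 = p
    ring
  have h3 : SS p x0 ((⟨0, hp.out.pos⟩ : Fin p) : ℕ) ((trivIrr G : IrrCharacter G) : G → ℂ) =
      (p : ℂ) := h2
  rw [h3] at h1
  have hp0 : (p : ℂ) ≠ 0 := Nat.cast_ne_zero.mpr hp.out.ne_zero
  have h4 : (p : ℂ) * 1 = (p : ℂ) * (μ (trivIrr G) ⟨0, hp.out.pos⟩ : ℂ) := by rw [mul_one]; exact h1
  have h5 := mul_left_cancel₀ hp0 h4
  exact_mod_cast h5.symm

theorem exists_pick [MulAction.IsPretransitive G Ω] [Nonempty Ω] {p : ℕ} [hp : Fact p.Prime]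
    (hcard : Fintype.card Ω = 2 * p) (x0 : G)
    (hx0 : orderOf x0 = p) (hfree : ∀ j : ℕ, 0 < j → j < p → ∀ a : Ω, (x0 ^ j) • a ≠ a)
    (m d : IrrCharacter G → ℕ) (μ : IrrCharacter G → Fin p → ℕ)
    (D : MData (Ω := Ω) p x0 m d μ) :
    ∃ χ₁ : IrrCharacter G, Pick m μ ⟨0, hp.out.pos⟩ χ₁ := by
  classical
  have key := sum_mul_mu hcard x0 hx0 hfree m d μ D ⟨0, hp.out.pos⟩
  obtain ⟨χ₁, hne, h1, huniq⟩ := exists_unique_term
    (fun χ => m χ * μ χ ⟨0, hp.out.pos⟩) (trivIrr G)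
    (by
      show m (trivIrr G) * μ (trivIrr G) ⟨0, hp.out.pos⟩ = 1
      rw [m_triv x0 m d μ D, mu_triv x0 m d μ D]) key
  have h1' : m χ₁ * μ χ₁ ⟨0, hp.out.pos⟩ = 1 := h1
  exact ⟨χ₁, hne, Nat.eq_one_of_mul_eq_one_right h1', Nat.eq_one_of_mul_eq_one_left h1', huniq⟩

/-- Galois invariance of the distinguished constituent -/
theorem pick_pow {p : ℕ} [hp : Fact p.Prime] (hpG : p ∣ Nat.card G) (x0 : G)
    (hx0 : orderOf x0 = p)
    (m d : IrrCharacter G → ℕ) (μ : IrrCharacter G → Fin p → ℕ)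
    (D : MData (Ω := Ω) p x0 m d μ) (χ₁ : IrrCharacter G) (hχ₁ : Pick m μ ⟨0, hp.out.pos⟩ χ₁)
    (k : ℕ) (hk : (Nat.card G).Coprime k) (g : G) :
    (χ₁ : G → ℂ) (g ^ k) = (χ₁ : G → ℂ) g := by
  set χ' : IrrCharacter G := ⟨fun g => (χ₁ : G → ℂ) (g ^ k),
    Cfsg.Agent.Lib.Helper23.isIrrCharacter_comp_pow χ₁.2 k hk.symm⟩ with hχ'
  have hp0 : (p : ℂ) ≠ 0 := Nat.cast_ne_zero.mpr hp.out.ne_zero
  -- multiplicity
  have hm' : m χ' = 1 := by
    have h1 := D.hm χ'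
    have h2 : classInner (permChar G Ω) (χ' : G → ℂ) =
        classInner (permChar G Ω) (χ₁ : G → ℂ) :=
      classInner_comp_pow (permChar G Ω) (χ₁ : G → ℂ) k hk (fun g => permChar_pow g k hk)
    rw [h2, D.hm χ₁, hχ₁.m1] at h1
    exact_mod_cast h1.symm
  -- μ at 0
  have hμ' : μ χ' ⟨0, hp.out.pos⟩ = 1 := by
    have h1 := D.hμ χ' ⟨0, hp.out.pos⟩
    have hkp : p.Coprime k := Nat.Coprime.coprime_dvd_left hpG hk
    have h2 : SS p x0 0 (χ' : G → ℂ) = SS p x0 0 (χ₁ : G → ℂ) :=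
      SS_zero_comp_pow x0 hx0 k hkp (χ₁ : G → ℂ)
    have h3 := D.hμ χ₁ ⟨0, hp.out.pos⟩
    have h4 : SS p x0 ((⟨0, hp.out.pos⟩ : Fin p) : ℕ) (χ' : G → ℂ) =
        SS p x0 ((⟨0, hp.out.pos⟩ : Fin p) : ℕ) (χ₁ : G → ℂ) := h2
    rw [h4, h3, hχ₁.mu1] at h1
    have h5 := mul_left_cancel₀ hp0 h1
    exact_mod_cast h5.symm
  -- not trivial
  have hne' : χ' ≠ trivIrr G := by
    intro h
    apply hχ₁.ne
    apply Subtype.ext
    funext g
    have h1 : ∀ g : G, (χ₁ : G → ℂ) (g ^ k) = 1 := fun g => congrFun (congrArg Subtype.val h) g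
    obtain ⟨g', hg'⟩ := (powCoprime hk).surjective g
    have hg'' : g' ^ k = g := hg'
    rw [← hg'', h1 g']
    rfl
  have heq : χ' = χ₁ := by
    by_contra hcon
    have := hχ₁.uniq χ' hne' hcon
    rw [hm', hμ'] at this
    omega
  have := congrFun (congrArg Subtype.val heq) g
  exact this

/-- the distinguished constituent is constant on the non-identity powers of `x0` -/
theorem pick_const {p : ℕ} [hp : Fact p.Prime] (hpG : p ∣ Nat.card G) (x0 : G)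
    (hx0 : orderOf x0 = p)
    (m d : IrrCharacter G → ℕ) (μ : IrrCharacter G → Fin p → ℕ)
    (D : MData (Ω := Ω) p x0 m d μ) (χ₁ : IrrCharacter G) (hχ₁ : Pick m μ ⟨0, hp.out.pos⟩ χ₁)
    (j : ℕ) (hj0 : 0 < j) (hjp : j < p) :
    (χ₁ : G → ℂ) (x0 ^ j) = (χ₁ : G → ℂ) x0 := by
  have hnd : ¬ p ∣ j := fun h => absurd (Nat.le_of_dvd hj0 h) (not_le.mpr hjp)
  obtain ⟨k, hk, hkj⟩ := exists_coprime_modEq (Nat.card_pos (α := G)) hp.out hpG j hnd
  have h1 : x0 ^ k = x0 ^ j := by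
    rw [pow_eq_pow_iff_modEq, hx0]; exact hkj
  rw [← h1]
  exact pick_pow hpG x0 hx0 m d μ D χ₁ hχ₁ k hk x0

end Cfsg.Agent.Lib.Helper23.W2PDECOMPd
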