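/-
helper23: S0720 (Wielandt 2p) leaf W2P-DECOMP `exists_chi1` (planner helper19, notes/S0720_leaves.lean).
-/
import Mathlib
import Cfsg.Agent.Lib.Helper23.W2PDECOMPd

set_option autoImplicit false

namespace Cfsg.Agent.Lib.Helper23.W2PDECOMP

open Cfsg Cfsg.Agent.CharLib Cfsg.Agent.Lib.Helper27.DO Cfsg.Agent.Lib.Helper19.W2P
open Cfsg.Agent.Lib.Helper19.CentAlg
open Cfsg.Agent.Lib.Helper23.W2PDECOMPa Cfsg.Agent.Lib.Helper23.W2PDECOMPb
open Cfsg.Agent.Lib.Helper23.W2PDECOMPc Cfsg.Agent.Lib.Helper23.W2PDECOMPd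
open scoped ComplexConjugate

universe u v

section aux

variable {G : Type u} [Group G] [Fintype G] {Ω : Type v} [Fintype Ω] [DecidableEq Ω] [MulAction G Ω]

variable [Fintype (IrrCharacter G)]

/-- the two equations for the constant value `dd = χ₁ x0` and `a = μ χ₁ 1` -/
theorem pick_eqs {p : ℕ} [hp : Fact p.Prime] (x0 : G)
    (m d : IrrCharacter G → ℕ) (μ : IrrCharacter G → Fin p → ℕ)
    (D : MData (Ω := Ω) p x0 m d μ) (χ₁ : IrrCharacter G) (hχ₁ : Pick m μ ⟨0, hp.out.pos⟩ χ₁)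
    (hconst : ∀ j : ℕ, 0 < j → j < p → (χ₁ : G → ℂ) (x0 ^ j) = (χ₁ : G → ℂ) x0) :
    (χ₁ : G → ℂ) x0 = 1 - (μ χ₁ ⟨1, hp.out.one_lt⟩ : ℂ) ∧
      d χ₁ = μ χ₁ ⟨1, hp.out.one_lt⟩ * (p - 1) + 1 ∧
      ∀ i : Fin p, (i : ℕ) ≠ 0 →
        (p : ℂ) * (μ χ₁ i : ℂ) = (d χ₁ : ℂ) - (χ₁ : G → ℂ) x0 := by
  have hp0 : (p : ℂ) ≠ 0 := Nat.cast_ne_zero.mpr hp.out.ne_zero
  have e0 := D.hμ χ₁ ⟨0, hp.out.pos⟩
  have e0' : SS p x0 0 (χ₁ : G → ℂ) = (p : ℂ) * (μ χ₁ ⟨0, hp.out.pos⟩ : ℂ) := e0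
  rw [SS_zero_of_const p x0 _ _ hconst, hχ₁.mu1, D.hd] at e0'
  have hgen : ∀ i : Fin p, (i : ℕ) ≠ 0 →
      (p : ℂ) * (μ χ₁ i : ℂ) = (d χ₁ : ℂ) - (χ₁ : G → ℂ) x0 := by
    intro i hi
    have e1 := D.hμ χ₁ i
    rw [SS_one_of_const p x0 i (Nat.pos_of_ne_zero hi) i.2 _ _ hconst, D.hd] at e1
    exact e1.symm
  have e1 := hgen ⟨1, hp.out.one_lt⟩ (by simp)
  set a : ℕ := μ χ₁ ⟨1, hp.out.one_lt⟩ with ha
  set dd : ℂ := (χ₁ : G → ℂ) x0 with hdd
  have hdd' : dd = 1 - (a : ℂ) := by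
    have h1 : (p : ℂ) * dd = (p : ℂ) * (1 - (a : ℂ)) := by
      push_cast at e0'
      linear_combination e0' + e1
    exact mul_left_cancel₀ hp0 h1
  refine ⟨hdd', ?_, hgen⟩
  have h2 : ((d χ₁ : ℕ) : ℂ) = ((a * (p - 1) + 1 : ℕ) : ℂ) := by
    rw [Nat.cast_add, Nat.cast_mul, Nat.cast_sub hp.out.one_le, Nat.cast_one]
    rw [hdd'] at e1
    linear_combination -e1
  exact_mod_cast h2

/-- `a ≤ 2` -/
theorem pick_le_two {p : ℕ} [hp : Fact p.Prime] (hcard : Fintype.card Ω = 2 * p) (x0 : G)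
    (m d : IrrCharacter G → ℕ) (μ : IrrCharacter G → Fin p → ℕ)
    (D : MData (Ω := Ω) p x0 m d μ) (hsum : ∑ χ, m χ * d χ = Fintype.card Ω)
    (hmtriv : m (trivIrr G) = 1)
    (χ₁ : IrrCharacter G) (hχ₁ : Pick m μ ⟨0, hp.out.pos⟩ χ₁) (a : ℕ)
    (hd : d χ₁ = a * (p - 1) + 1) : a ≤ 2 := by
  classical
  have hdt : d (trivIrr G) = 1 := by
    have := D.hd (trivIrr G)
    have h1 : ((trivIrr G : IrrCharacter G) : G → ℂ) 1 = 1 := rfl
    rw [h1] at this
    exact_mod_cast this.symm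
  have h1 : ∑ χ ∈ ({trivIrr G, χ₁} : Finset (IrrCharacter G)), m χ * d χ ≤ ∑ χ, m χ * d χ :=
    Finset.sum_le_sum_of_subset (Finset.subset_univ _)
  rw [Finset.sum_pair hχ₁.ne.symm, hmtriv, hdt, hχ₁.m1, hd, hsum, hcard] at h1
  have hp1 : 1 ≤ p - 1 := by have := hp.out.two_le; omega
  have h2 : a * (p - 1) ≤ 2 * (p - 1) := by have := hp.out.two_le; omega
  exact Nat.le_of_mul_le_mul_right h2 hp1

end aux

section main

variable {G : Type u} [Group G] [Fintype G] {Ω : Type v} [Fintype Ω] [DecidableEq Ω] [MulAction G Ω]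

/-- W2P-DECOMP. -/
theorem exists_chi1 {p : ℕ} (hp : p.Prime) (hodd : p ≠ 2) [FaithfulSMul G Ω]
    (hcard : Fintype.card Ω = 2 * p) (hprim : MulAction.IsPreprimitive G Ω)
    (h2 : ¬ MulAction.IsMultiplyPretransitive G Ω 2)
    (P : Subgroup G) (hP : Nat.card P = p) (hSyl : ¬ p ∣ P.index) (hsemi : Semireg P Ω) :
    ∃ χ₁ : IrrCharacter G, Chi1 p P Ω χ₁ := by
  classical
  let _ : Fintype (IrrCharacter G) := Fintype.ofFinite _
  have hpf : Fact p.Prime := ⟨hp⟩
  have htr : MulAction.IsPretransitive G Ω := hprim.toIsPretransitive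
  have hcpos : 0 < Fintype.card Ω := by rw [hcard]; have := hp.pos; omega
  have hne : Nonempty Ω := Fintype.card_pos_iff.mp hcpos
  obtain ⟨a₀⟩ := hne
  have hne : Nonempty Ω := ⟨a₀⟩
  obtain ⟨x0, hx0P, hx01, hord, hgen⟩ := exists_gen hp P hP
  have hpG : p ∣ Nat.card G := by
    rw [← hP]; exact Subgroup.card_subgroup_dvd_card P
  have hfree : ∀ j : ℕ, 0 < j → j < p → ∀ a : Ω, (x0 ^ j) • a ≠ a := by
    intro j hj0 hjp
    apply hsemi (x0 ^ j) (pow_mem hx0P j)
    intro h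
    have h1 := orderOf_dvd_of_pow_eq_one h
    rw [hord] at h1
    exact absurd (Nat.le_of_dvd hj0 h1) (not_le.mpr hjp)
  obtain ⟨m, d, μ, D, hsum⟩ := exists_mdata (Ω := Ω) a₀ x0 hord
  have hmtriv := m_triv x0 m d μ D
  obtain ⟨χ₁, hχ₁⟩ := exists_pick hcard x0 hord hfree m d μ D
  have hconst := pick_const hpG x0 hord m d μ D χ₁ hχ₁
  obtain ⟨hdd, hd, hμi⟩ := pick_eqs x0 m d μ D χ₁ hχ₁ hconst
  set a : ℕ := μ χ₁ ⟨1, hp.one_lt⟩ with ha
  have ha2 : a ≤ 2 := pick_le_two hcard x0 m d μ D hsum hmtriv χ₁ hχ₁ a hd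
  have hπc : IsCharacter G (permChar G Ω) := isCharacter_card_fixedBy
  have hexp := classFunction_eq_sum (IsCharacter.isClassFunction hπc)
  have hcases : a = 0 ∨ a = 1 ∨ a = 2 := by omega
  rcases hcases with h0 | h1 | h2'
  · -- linear case
    exfalso
    rw [h0] at hd hdd
    have hd1 : d χ₁ = 1 := by omega
    have hdeg1 : charDegree (χ₁ : G → ℂ) = 1 := by
      apply charDegree_eq_of_apply_one
      rw [D.hd, hd1]
    obtain ⟨φ, hφ⟩ := Cfsg.Agent.Lib.Helper23.exists_lin_eq χ₁ hdeg1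
    have hmne : classInner (permChar G Ω) (Cfsg.Agent.Lib.Helper23.lin φ : G → ℂ) ≠ 0 := by
      rw [hφ, D.hm, hχ₁.m1]; norm_num
    obtain ⟨ω, hω⟩ := exists_stabilizer_le_ker φ hmne
    have hle : MulAction.stabilizer G ω ≤ φ.ker := fun g hg => MonoidHom.mem_ker.mpr (hω g hg)
    have hnt : Nontrivial Ω := by
      rw [← Fintype.one_lt_card_iff_nontrivial, hcard]; have := hp.two_le; omega
    have hco := MulAction.IsPreprimitive.isCoatom_stabilizer_of_isPreprimitive (G := G) ω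
    have hkertop : φ.ker ≠ ⊤ := by
      intro h
      apply hχ₁.ne
      rw [← hφ]
      apply Subtype.ext
      funext g
      have hg : φ g = 1 := MonoidHom.mem_ker.mp (h ▸ Subgroup.mem_top g)
      show ((φ g : ℂˣ) : ℂ) = (1 : G → ℂ) g
      rw [hg]; rfl
    have hker : φ.ker = MulAction.stabilizer G ω := by
      rcases hco.le_iff.mp hle with h | h
      · exact absurd h hkertop
      · exact h
    have hx0ker : x0 ∈ φ.ker := by
      rw [MonoidHom.mem_ker]
      apply Units.ext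
      have h1 : (Cfsg.Agent.Lib.Helper23.lin φ : G → ℂ) x0 = 1 := by
        rw [hφ, hdd]; push_cast; ring
      exact h1
    rw [hker, MulAction.mem_stabilizer_iff] at hx0ker
    exact hsemi x0 hx0P hx01 ω hx0ker
  · -- the main case
    rw [h1] at hd hdd
    have hdp : d χ₁ = p := by have := hp.one_le; omega
    have hdd0 : (χ₁ : G → ℂ) x0 = 0 := by rw [hdd]; push_cast; ring
    refine ⟨χ₁, ?_, ?_, ?_, ?_⟩
    · rw [D.hd, hdp]
    · intro x hx hx1
      obtain ⟨j, hj0, hjp, rfl⟩ := hgen x hx hx1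
      rw [hconst j hj0 hjp, hdd0]
    · rw [D.hm, hχ₁.m1]; norm_num
    · intro χ
      rw [D.hm]
      have hle : m χ ≤ 1 := by
        by_contra hcon
        have hm2 : 2 ≤ m χ := by omega
        have hχt : χ ≠ trivIrr G := by
          intro h; rw [h, hmtriv] at hm2; omega
        have hχ1 : χ ≠ χ₁ := by
          intro h; rw [h, hχ₁.m1] at hm2; omega
        have hsμ := sum_mu x0 m d μ D χ
        have hne0 : ∑ i : Fin p, μ χ i ≠ 0 := by
          rw [hsμ]; exact (D.hdpos χ).ne'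
        obtain ⟨i, -, hi⟩ := Finset.exists_ne_zero_of_sum_ne_zero hne0
        by_cases hi0 : (i : ℕ) = 0
        · have hi' : i = ⟨0, hp.pos⟩ := Fin.ext hi0
          have := hχ₁.uniq χ hχt hχ1
          rw [← hi'] at this
          rcases Nat.mul_eq_zero.mp this with h | h
          · omega
          · exact hi h
        · have hμ1 : μ χ₁ i = 1 := by
            have h3 := hμi i hi0
            rw [hdd0, sub_zero, hdp] at h3
            have hp0 : (p : ℂ) ≠ 0 := Nat.cast_ne_zero.mpr hp.ne_zero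
            have h4 : (p : ℂ) * (μ χ₁ i : ℂ) = (p : ℂ) * 1 := by rw [mul_one]; exact h3
            have h5 := mul_left_cancel₀ hp0 h4
            exact_mod_cast h5
          have key := sum_mul_mu hcard x0 hord hfree m d μ D i
          have h6 : ∑ χ' ∈ ({χ₁, χ} : Finset (IrrCharacter G)), m χ' * μ χ' i ≤
              ∑ χ', m χ' * μ χ' i :=
            Finset.sum_le_sum_of_subset (Finset.subset_univ _)
          rw [Finset.sum_pair hχ1.symm, hχ₁.m1, hμ1, key] at h6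
          have h7 : 2 * 1 ≤ m χ * μ χ i :=
            Nat.mul_le_mul hm2 (Nat.one_le_iff_ne_zero.mpr hi)
          omega
      rcases Nat.le_one_iff_eq_zero_or_eq_one.mp hle with h | h
      · left; rw [h]; norm_num
      · right; rw [h]; norm_num
  · -- 2-transitive case
    exfalso
    apply h2
    rw [h2'] at hd
    have hd2 : d χ₁ = 2 * p - 1 := by have := hp.two_le; omega
    have hdt : d (trivIrr G) = 1 := by
      have := D.hd (trivIrr G)
      have h1 : ((trivIrr G : IrrCharacter G) : G → ℂ) 1 = 1 := rfl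
      rw [h1] at this
      exact_mod_cast this.symm
    -- all other multiplicities vanish
    have hrest : ∀ χ : IrrCharacter G, χ ≠ trivIrr G → χ ≠ χ₁ → m χ = 0 := by
      intro χ hχt hχ1
      have e1 := Finset.add_sum_erase Finset.univ (fun χ => m χ * d χ) (Finset.mem_univ (trivIrr G))
      have hmem : χ₁ ∈ Finset.univ.erase (trivIrr G) :=
        Finset.mem_erase.mpr ⟨hχ₁.ne, Finset.mem_univ _⟩
      have e2 := Finset.add_sum_erase (Finset.univ.erase (trivIrr G)) (fun χ => m χ * d χ) hmem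
      beta_reduce at e1 e2
      rw [hsum, hcard, hmtriv, hdt] at e1
      rw [hχ₁.m1, hd2] at e2
      have hz : ∑ χ ∈ (Finset.univ.erase (trivIrr G)).erase χ₁, m χ * d χ = 0 := by
        have := hp.two_le; omega
      have hmem2 : χ ∈ (Finset.univ.erase (trivIrr G)).erase χ₁ :=
        Finset.mem_erase.mpr ⟨hχ1, Finset.mem_erase.mpr ⟨hχt, Finset.mem_univ _⟩⟩
      have := Finset.sum_eq_zero_iff.mp hz χ hmem2
      rcases Nat.mul_eq_zero.mp this with h | h
      · exact h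
      · exact absurd h (D.hdpos χ).ne'
    have hπ : permChar G Ω = fun g => 1 + (χ₁ : G → ℂ) g := by
      have e1 : ∑ χ : IrrCharacter G, classInner (permChar G Ω) (χ : G → ℂ) • (χ : G → ℂ) =
          ∑ χ ∈ ({trivIrr G, χ₁} : Finset (IrrCharacter G)),
            classInner (permChar G Ω) (χ : G → ℂ) • (χ : G → ℂ) := by
        symm
        apply Finset.sum_subset (Finset.subset_univ _)
        intro χ _ hχ
        rw [Finset.mem_insert, Finset.mem_singleton, not_or] at hχ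
        rw [D.hm, hrest χ hχ.1 hχ.2]
        simp
      rw [e1, Finset.sum_pair hχ₁.ne.symm, D.hm, D.hm, hmtriv, hχ₁.m1] at hexp
      rw [hexp]
      funext g
      simp only [Nat.cast_one, one_smul, Pi.add_apply]
      rfl
    have hX : 2 ≤ Nat.card Ω := by
      rw [Nat.card_eq_fintype_card, hcard]; have := hp.two_le; omega
    rw [← Cfsg.Agent.CharLib.isIrrCharacter_card_fixedBy_sub_one_iff hX]
    have : (fun g : G => (Nat.card (MulAction.fixedBy Ω g) : ℂ) - 1) = (χ₁ : G → ℂ) := by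
      funext g
      have := congrFun hπ g
      show permChar G Ω g - 1 = _
      rw [this]; ring
    rw [this]
    exact χ₁.2

end main

end Cfsg.Agent.Lib.Helper23.W2PDECOMP
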