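/-
helper23: S4700 / S0996 wrapper market (planner helper27, `notes/S4700_W_leaves.lean`), leaf OMEGAS:
`∑_{1 ≠ x ∈ P} ψ(x) = c` (an integer) ⇒ `ψ(1) ∣ c |G : N_G(P)|` (central character of the sum of all conjugates of `P \ 1`).
-/
import Mathlib
import Cfsg.Prelude.Def_BlockRank
import Cfsg.Prelude.Def_CaseTheorems
import Cfsg.Agent.Lib.Helper6.BRHDefs
import Cfsg.Agent.Lib.Helper27.BRWDefs
import Cfsg.Agent.Lib.Helper6.DefectOrder
import Cfsg.Agent.Lib.Helper6.Osima
import Cfsg.Agent.Lib.Helper24.IrrFacts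
import Cfsg.Agent.Lib.Helper23.BRWOMEGA

set_option autoImplicit false

namespace Cfsg.Agent.Lib.Helper23.BRWOMEGAS

open Cfsg Cfsg.Agent.Lib.Helper8.DOM Cfsg.Agent.Lib.Helper27.DO Cfsg.Agent.CharLib
open Cfsg.Agent.Lib.Helper6.BRH Cfsg.Agent.Lib.Helper27.BRW
open scoped ComplexConjugate

universe u

variable {G : Type u} [Group G]

/-- the set `{h | h⁻¹ g h ∈ P}` is a union of left cosets of `N_G(P)` -/
theorem card_conj_mem (P : Subgroup G) [Finite G] (g : G) :
    ∃ m : ℕ, Nat.card {h : G // h⁻¹ * g * h ∈ P} = Nat.card (Nz P) * m := by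
  set t : Set (G ⧸ Nz P) := QuotientGroup.mk '' {h : G | h⁻¹ * g * h ∈ P} with ht
  have h1 : (QuotientGroup.mk ⁻¹' t : Set G) = {h : G | h⁻¹ * g * h ∈ P} := by
    ext h
    constructor
    · rintro ⟨h', hh', heq⟩
      have hn : h'⁻¹ * h ∈ Nz P := QuotientGroup.eq.mp heq
      have hmem := (Subgroup.mem_normalizer_iff.mp ((Nz P).inv_mem hn)) (h'⁻¹ * g * h')
      have hh'' : h'⁻¹ * g * h' ∈ P := hh'
      have h2 := hmem.mp hh''
      have h3 : (h'⁻¹ * h)⁻¹ * (h'⁻¹ * g * h') * (h'⁻¹ * h)⁻¹⁻¹ = h⁻¹ * g * h := by group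
      rw [h3] at h2
      exact h2
    · intro hh
      exact ⟨h, hh, rfl⟩
  refine ⟨Nat.card t, ?_⟩
  rw [← QuotientGroup.card_preimage_mk, h1]
  rfl

variable [Finite G] {p : ℕ} [Fact p.Prime]

/-- OMEGAS : `∑_{1 ≠ x ∈ P} ψ(x) = c` (an integer) ⇒ `ψ(1) ∣ c |G : N_G(P)|` (central character of the sum of ALL conjugates of `P \ 1`). -/
theorem degree_dvd_psum (P : Subgroup G) (hP : Nat.card P = p) (ψ : IrrCharacter G) (c : ℤ)
    (hsum : ∑ᶠ x ∈ {x : G | x ∈ P ∧ x ≠ 1}, (ψ : G → ℂ) x = (c : ℂ)) :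
    (charDegree (ψ : G → ℂ) : ℤ) ∣ c * ((Nz P).index : ℤ) := by
  classical
  let _ : Fintype G := Fintype.ofFinite G
  let _ : Fintype (ConjClasses G) := Fintype.ofFinite _
  have hψcls : IsClassFunction G (ψ : G → ℂ) :=
    IsCharacter.isClassFunction (IsIrrCharacter.isCharacter ψ.2)
  have hN0 : (Nat.card (Nz P) : ℂ) ≠ 0 := Nat.cast_ne_zero.mpr Nat.card_pos.ne'
  -- the count
  set T : G → ℕ := fun g => (Finset.univ.filter (fun h : G => h⁻¹ * g * h ∈ P)).card with hTdef
  have hTcard : ∀ g, T g = Nat.card {h : G // h⁻¹ * g * h ∈ P} := by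
    intro g
    rw [Nat.card_eq_fintype_card, Fintype.card_subtype]
  choose m hm using fun g => card_conj_mem P g
  -- the class function
  set a : G → ℂ := fun g => if g = 1 then 0 else (m g : ℂ) with hadef
  have hTm : ∀ g, (T g : ℂ) = (Nat.card (Nz P) : ℂ) * (m g : ℂ) := by
    intro g
    rw [hTcard g, hm g]
    push_cast
    ring
  have hTconj : ∀ g k : G, T (k * g * k⁻¹) = T g := by
    intro g k
    rw [hTdef]
    simp only
    apply Finset.card_bij (fun h _ => k⁻¹ * h)
    · intro h hh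
      rw [Finset.mem_filter] at hh ⊢
      refine ⟨Finset.mem_univ _, ?_⟩
      have : (k⁻¹ * h)⁻¹ * g * (k⁻¹ * h) = h⁻¹ * (k * g * k⁻¹) * h := by group
      rw [this]
      exact hh.2
    · intro h1 _ h2 _ h12
      exact mul_left_cancel h12
    · intro h hh
      rw [Finset.mem_filter] at hh
      refine ⟨k * h, ?_, by group⟩
      rw [Finset.mem_filter]
      refine ⟨Finset.mem_univ _, ?_⟩
      have : (k * h)⁻¹ * (k * g * k⁻¹) * (k * h) = h⁻¹ * g * h := by group
      rw [this]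
      exact hh.2
  have hmconj : ∀ g k : G, m (k * g * k⁻¹) = m g := by
    intro g k
    have h1 := hTm (k * g * k⁻¹)
    rw [hTconj g k, hTm g] at h1
    have h2 := mul_left_cancel₀ hN0 h1
    exact_mod_cast h2.symm
  have ha : IsClassFunction G a := by
    intro g k
    rw [hadef]
    simp only
    have h1 : k * g * k⁻¹ = 1 ↔ g = 1 := by
      constructor
      · intro h
        have : g = k⁻¹ * (k * g * k⁻¹) * k := by group
        rw [this, h]; group
      · intro h; rw [h]; group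
    by_cases hg : g = 1
    · rw [if_pos hg, if_pos (h1.mpr hg)]
    · rw [if_neg hg, if_neg (fun h => hg (h1.mp h)), hmconj g k]
  -- the sum `∑ a ψ`
  have hsum' : ∑ x : G, (if x ∈ P ∧ x ≠ 1 then (ψ : G → ℂ) x else 0) = (c : ℂ) := by
    rw [← hsum, finsum_mem_eq_finite_toFinset_sum _ (Set.toFinite _), ← Finset.sum_filter]
    apply Finset.sum_congr
    · ext x
      simp
    · intro x _; rfl
  have hS : ∑ g : G, a g * (ψ : G → ℂ) g = ((Nz P).index : ℂ) * (c : ℂ) := by
    have h1 : ∀ g : G, (Nat.card (Nz P) : ℂ) * (a g * (ψ : G → ℂ) g) =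
        ∑ h : G, (if h⁻¹ * g * h ∈ P ∧ h⁻¹ * g * h ≠ 1 then (ψ : G → ℂ) (h⁻¹ * g * h) else 0) := by
      intro g
      rw [hadef]
      simp only
      by_cases hg : g = 1
      · rw [if_pos hg, zero_mul, mul_zero]
        symm
        apply Finset.sum_eq_zero
        intro h _
        rw [if_neg]
        rintro ⟨-, h2⟩
        apply h2
        rw [hg]; group
      · rw [if_neg hg, ← mul_assoc, ← hTm g, hTdef]
        simp only
        rw [Finset.card_filter, Nat.cast_sum, Finset.sum_mul]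
        apply Finset.sum_congr rfl
        intro h _
        have hne : h⁻¹ * g * h ≠ 1 := by
          intro h1
          apply hg
          have : g = h * (h⁻¹ * g * h) * h⁻¹ := by group
          rw [this, h1]; group
        have hval : (ψ : G → ℂ) (h⁻¹ * g * h) = (ψ : G → ℂ) g := by
          have := hψcls g h⁻¹
          rwa [inv_inv] at this
        by_cases hmem : h⁻¹ * g * h ∈ P
        · rw [if_pos hmem, if_pos ⟨hmem, hne⟩, hval]
          simp
        · rw [if_neg hmem, if_neg (fun h' => hmem h'.1)]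
          simp
    have h2 : (Nat.card (Nz P) : ℂ) * ∑ g : G, a g * (ψ : G → ℂ) g =
        (Nat.card G : ℂ) * (c : ℂ) := by
      rw [Finset.mul_sum, Finset.sum_congr rfl (fun g _ => h1 g), Finset.sum_comm]
      have h3 : ∀ h : G, ∑ g : G, (if h⁻¹ * g * h ∈ P ∧ h⁻¹ * g * h ≠ 1 then
          (ψ : G → ℂ) (h⁻¹ * g * h) else 0) = (c : ℂ) := by
        intro h
        rw [← hsum']
        exact Fintype.sum_equiv (MulAut.conj h⁻¹).toEquiv _ _ (fun g => by simp)
      rw [Finset.sum_congr rfl (fun h _ => h3 h), Finset.sum_const, Finset.card_univ, nsmul_eq_mul,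
        Nat.card_eq_fintype_card]
    have h4 : (Nat.card G : ℂ) = ((Nz P).index : ℂ) * (Nat.card (Nz P) : ℂ) := by
      rw [← Subgroup.index_mul_card (Nz P)]
      push_cast
      ring
    rw [h4] at h2
    apply mul_left_cancel₀ hN0
    rw [h2]; ring
  -- integrality
  have hint : IsIntegral ℤ (Cfsg.Agent.Lib.Helper6.omegaFun (ψ : G → ℂ) a) := by
    rw [Cfsg.Agent.Lib.Helper6.omegaFun_eq_sum_conjClasses ψ ha]
    apply IsIntegral.sum
    intro C _
    apply IsIntegral.mul
    · rw [hadef]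
      simp only
      split_ifs
      · exact isIntegral_zero
      · have h0 : IsIntegral ℤ (algebraMap ℤ ℂ ((m (Quotient.out C) : ℕ) : ℤ)) := isIntegral_algebraMap
        simpa using h0
    · exact Cfsg.Agent.Lib.Helper6.isIntegral_centralChar ψ _
  unfold Cfsg.Agent.Lib.Helper6.omegaFun at hint
  rw [hS, Cfsg.Agent.Lib.Helper24.irr_apply_one ψ] at hint
  have hpos := Cfsg.Agent.Lib.Helper24.irr_charDegree_pos ψ
  have h2 : (((Nz P).index : ℂ) * (c : ℂ) / (charDegree (ψ : G → ℂ) : ℂ)) =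
      (((c * ((Nz P).index : ℤ) : ℤ) : ℂ) / (charDegree (ψ : G → ℂ) : ℂ)) := by
    push_cast; ring
  rw [h2] at hint
  exact Cfsg.Agent.Lib.Helper23.BRWOMEGA.dvd_of_isIntegral_div hpos hint

end Cfsg.Agent.Lib.Helper23.BRWOMEGAS
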