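import Cfsg.Agent.Lib.Helper17.FrCDefs

/-!
CORE13 (S5679 + S5696, helper17's market), block A: leaf A4 `special_kill` in core form
(the fact `1/16` is not special, part of A2 `sp_facts`, as a hypothesis).
-/

set_option autoImplicit false
set_option linter.unusedSectionVars false
set_option linter.unusedVariables false
set_option linter.unusedSimpArgs false

namespace Cfsg.Agent.Lib.Helper23.FrCLeaf

open Module QuadraticMap Matrix Cfsg.Agent.Lib.Helper25.CD Cfsg.Agent.Lib.Helper25.Spin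
  Cfsg.Agent.Lib.Helper5.NSMax Cfsg.Agent.Lib.Helper5.PairMax Cfsg.Agent.Lib.Helper17.OC2
  Cfsg.Agent.Lib.Helper29.FrStd Cfsg.Agent.Lib.Helper11.Mono Cfsg.Agent.Lib.Helper17.FrC

variable {κ : Type} [Fintype κ] [DecidableEq κ] {F : Type*} [Field F] [Fintype F]
  {c : F} {M : Subgroup ↥(Cfsg.isometryGroup F ⇑(stdQ κ F c))}

/-- the reflected root `a - 2 (a·b) b` has a coordinate whose square is `1/16` -/
theorem frc_kill (hA21 : ∀ x : F, 16 * x = 1 → ¬ Sp x) {R : (κ → F) → Prop} (hS : Sys R)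
    (h1 : ∀ b, R b → ∀ i, Sp (b i ^ 2)) {a b : κ → F} (ha : R a) (hb : R b) (t : κ) (hat : a t = 0)
    (h16 : 16 * (4 * (a ⬝ᵥ b) ^ 2 * (b t) ^ 2) = 1) : False := by
  have hr := hS.refl a b ha hb
  have h := h1 _ hr t
  have h2 : (a - (2 * (a ⬝ᵥ b)) • b) t ^ 2 = 4 * (a ⬝ᵥ b) ^ 2 * (b t) ^ 2 := by
    simp only [Pi.sub_apply, Pi.smul_apply, smul_eq_mul, hat]
    ring
  rw [h2] at h
  exact hA21 _ h16 h

theorem frc_dot_supp (a b : κ → F) (S : Finset κ) (h : ∀ l, l ∉ S → a l = 0) :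
    a ⬝ᵥ b = ∑ l ∈ S, a l * b l := by
  unfold dotProduct
  symm
  apply Finset.sum_subset (Finset.subset_univ S)
  intro l _ hl
  rw [h l hl, zero_mul]

theorem frc_exists_spares (hκ : Fintype.card κ = 13) (S : Finset κ) (hS : S.card ≤ 4) :
    ∃ f : Fin 5 → κ, Function.Injective f ∧ ∀ n, f n ∉ S := by
  have hc : 5 ≤ Sᶜ.card := by
    rw [Finset.card_compl, hκ]
    omega
  obtain ⟨T, hTsub, hTcard⟩ := Finset.exists_subset_card_eq hc
  let eqv := (Finset.equivFinOfCardEq hTcard).symm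
  refine ⟨fun n => ((eqv n : T) : κ), ?_, ?_⟩
  · intro m n hmn
    exact eqv.injective (Subtype.val_injective hmn)
  · intro n
    have := hTsub (eqv n).2
    exact Finset.mem_compl.1 this

/-- A4 in core form -/
theorem special_kill_core (hA21 : ∀ x : F, 16 * x = 1 → ¬ Sp x) (hκ : Fintype.card κ = 13)
    {R : (κ → F) → Prop} (hS : Sys R) (h1 : ∀ b, R b → ∀ i, Sp (b i ^ 2)) {a : κ → F} (ha : R a)
    (htype : (∃ S : Finset κ, S.card = 4 ∧ (∀ l ∈ S, 4 * a l ^ 2 = 1) ∧ ∀ l, l ∉ S → a l = 0) ∨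
      (∃ i j k : κ, i ≠ j ∧ i ≠ k ∧ j ≠ k ∧ 4 * a i ^ 2 = 1 ∧ 4 * a j ^ 2 = 1 ∧ 2 * a k ^ 2 = 1 ∧
        ∀ l, l ≠ i → l ≠ j → l ≠ k → a l = 0) ∨
      (∃ i j k : κ, i ≠ j ∧ i ≠ k ∧ j ≠ k ∧ 4 * a i ^ 2 = 1 ∧ 16 * a j ^ 2 * a k ^ 2 = 1 ∧
        4 * a j ^ 2 + 4 * a k ^ 2 = 3 ∧ ∀ l, l ≠ i → l ≠ j → l ≠ k → a l = 0)) : False := by
  rcases htype with ⟨S, hScard, hSQ, hSz⟩ | ⟨i, j, k, hij, hik, hjk, hi, hj, hk, hz⟩ |
    ⟨i, j, k, hij, hik, hjk, hi, hjk16, hjk3, hz⟩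
  · -- type (1/4)^4
    obtain ⟨s1, s2, s3, s4, h12, h13, h14, h23, h24, h34, rfl⟩ := Finset.card_eq_four.1 hScard
    obtain ⟨f, hf, hfS⟩ := frc_exists_spares hκ _ (le_of_eq hScard)
    have hmem : ∀ n, f n ≠ s1 ∧ f n ≠ s2 ∧ f n ≠ s3 ∧ f n ≠ s4 := by
      intro n
      have := hfS n
      simpa using this
    have f01 : f 0 ≠ f 1 := hf.ne (by decide)
    have f02 : f 0 ≠ f 2 := hf.ne (by decide)
    have f03 : f 0 ≠ f 3 := hf.ne (by decide)
    have f04 : f 0 ≠ f 4 := hf.ne (by decide)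
    have f12 : f 1 ≠ f 2 := hf.ne (by decide)
    have f13 : f 1 ≠ f 3 := hf.ne (by decide)
    have f14 : f 1 ≠ f 4 := hf.ne (by decide)
    have f23 : f 2 ≠ f 3 := hf.ne (by decide)
    have f24 : f 2 ≠ f 4 := hf.ne (by decide)
    have f34 : f 3 ≠ f 4 := hf.ne (by decide)
    obtain ⟨a01, a02, a03, a04⟩ := hmem 0
    obtain ⟨a11, a12, a13, a14⟩ := hmem 1
    obtain ⟨a21, a22, a23, a24⟩ := hmem 2
    obtain ⟨a31, a32, a33, a34⟩ := hmem 3
    obtain ⟨a41, a42, a43, a44⟩ := hmem 4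
    set σ : Equiv.Perm κ := Equiv.swap s2 (f 0) * Equiv.swap s3 (f 1) * Equiv.swap s4 (f 2) *
      Equiv.swap (f 3) (f 4) with hσ
    have hsign : Equiv.Perm.sign σ = 1 := by
      rw [hσ, Equiv.Perm.sign_mul, Equiv.Perm.sign_mul, Equiv.Perm.sign_mul,
        Equiv.Perm.sign_swap a02.symm, Equiv.Perm.sign_swap a13.symm, Equiv.Perm.sign_swap a24.symm,
        Equiv.Perm.sign_swap f34]
      decide
    have hσ1 : σ s1 = s1 := by
      simp [hσ, Equiv.swap_apply_of_ne_of_ne, h12, h13, h14, a01.symm, a11.symm, a21.symm, a31.symm, a41.symm]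
    have hσ2 : σ s2 = f 0 := by
      simp [hσ, Equiv.swap_apply_of_ne_of_ne, h12, h13, h14, h23, h24, h34, a02.symm, a12.symm, a22.symm,
        a32.symm, a42.symm, f01, f02, f03, f04, a03, a04]
    have hσ3 : σ s3 = f 1 := by
      simp [hσ, Equiv.swap_apply_of_ne_of_ne, h12, h13, h14, h23, h24, h34, a03.symm, a13.symm, a23.symm,
        a33.symm, a43.symm, f01, f12, f13, f14, f12.symm, f01.symm, a12, a14, h23.symm, h34.symm]
    have hσ4 : σ s4 = f 2 := by
      simp [hσ, Equiv.swap_apply_of_ne_of_ne, h12, h13, h14, h23, h24, h34, a04.symm, a14.symm, a24.symm,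
        a34.symm, a44.symm, f02.symm, f12.symm, f23, f24, a22, a23, h24.symm, h34.symm]
    have hσt : σ (f 0) = s2 := by
      simp [hσ, Equiv.swap_apply_of_ne_of_ne, a01, a02, a03, a04, f01, f02, f03, f04, h23, h24]
    have hb := hS.perm a σ hsign ha
    have hdot : a ⬝ᵥ (a ∘ σ) = a s1 ^ 2 := by
      rw [frc_dot_supp a (a ∘ σ) _ hSz, Finset.sum_insert (by simp [h12, h13, h14]),
        Finset.sum_insert (by simp [h23, h24]), Finset.sum_insert (by simp [h34]), Finset.sum_singleton]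
      simp only [Function.comp_apply, hσ1, hσ2, hσ3, hσ4, hSz _ (hfS 0), hSz _ (hfS 1), hSz _ (hfS 2)]
      ring
    apply frc_kill hA21 hS h1 ha hb (f 0) (hSz _ (hfS 0))
    rw [hdot, Function.comp_apply, hσt]
    have e1 := hSQ s1 (by simp)
    have e2 := hSQ s2 (by simp)
    linear_combination (4 * a s1 ^ 2 + 1) * (4 * a s2 ^ 2) * e1 + e2
  · -- type (1/4, 1/4, 1/2)
    have hSz : ∀ l, l ∉ ({i, j, k} : Finset κ) → a l = 0 := by
      intro l hl
      simp only [Finset.mem_insert, Finset.mem_singleton, not_or] at hl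
      exact hz l hl.1 hl.2.1 hl.2.2
    obtain ⟨f, hf, hfS⟩ := frc_exists_spares hκ ({i, j, k} : Finset κ)
      (by rw [Finset.card_eq_three.2 ⟨i, j, k, hij, hik, hjk, rfl⟩]; norm_num)
    have hmem : ∀ n, f n ≠ i ∧ f n ≠ j ∧ f n ≠ k := by
      intro n
      have := hfS n
      simpa using this
    have f01 : f 0 ≠ f 1 := hf.ne (by decide)
    obtain ⟨a01, a02, a03⟩ := hmem 0
    obtain ⟨a11, a12, a13⟩ := hmem 1
    set σ : Equiv.Perm κ := Equiv.swap j (f 0) * Equiv.swap k (f 1) with hσ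
    have hsign : Equiv.Perm.sign σ = 1 := by
      rw [hσ, Equiv.Perm.sign_mul, Equiv.Perm.sign_swap a02.symm, Equiv.Perm.sign_swap a13.symm]
      decide
    have hσi : σ i = i := by
      simp [hσ, Equiv.swap_apply_of_ne_of_ne, hij, hik, a01.symm, a11.symm]
    have hσj : σ j = f 0 := by
      simp [hσ, Equiv.swap_apply_of_ne_of_ne, hjk, a12.symm]
    have hσk : σ k = f 1 := by
      simp [hσ, Equiv.swap_apply_of_ne_of_ne, hjk.symm, a12, f01.symm]
    have hσt : σ (f 0) = j := by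
      simp [hσ, Equiv.swap_apply_of_ne_of_ne, a03, f01]
    have hb := hS.perm a σ hsign ha
    have hdot : a ⬝ᵥ (a ∘ σ) = a i ^ 2 := by
      rw [frc_dot_supp a (a ∘ σ) _ hSz, Finset.sum_insert (by simp [hij, hik]),
        Finset.sum_insert (by simp [hjk]), Finset.sum_singleton]
      simp only [Function.comp_apply, hσi, hσj, hσk, hSz _ (hfS 0), hSz _ (hfS 1)]
      ring
    apply frc_kill hA21 hS h1 ha hb (f 0) (hSz _ (hfS 0))
    rw [hdot, Function.comp_apply, hσt]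
    linear_combination (4 * a i ^ 2 + 1) * (4 * a j ^ 2) * hi + hj
  · -- type (1/4, α, α')
    have hSz : ∀ l, l ∉ ({i, j, k} : Finset κ) → a l = 0 := by
      intro l hl
      simp only [Finset.mem_insert, Finset.mem_singleton, not_or] at hl
      exact hz l hl.1 hl.2.1 hl.2.2
    obtain ⟨f, hf, hfS⟩ := frc_exists_spares hκ ({i, j, k} : Finset κ)
      (by rw [Finset.card_eq_three.2 ⟨i, j, k, hij, hik, hjk, rfl⟩]; norm_num)
    have hmem : ∀ n, f n ≠ i ∧ f n ≠ j ∧ f n ≠ k := by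
      intro n
      have := hfS n
      simpa using this
    have f01 : f 0 ≠ f 1 := hf.ne (by decide)
    have f02 : f 0 ≠ f 2 := hf.ne (by decide)
    have f03 : f 0 ≠ f 3 := hf.ne (by decide)
    have f12 : f 1 ≠ f 2 := hf.ne (by decide)
    have f13 : f 1 ≠ f 3 := hf.ne (by decide)
    have f23 : f 2 ≠ f 3 := hf.ne (by decide)
    obtain ⟨a01, a02, a03⟩ := hmem 0
    obtain ⟨a11, a12, a13⟩ := hmem 1
    obtain ⟨a21, a22, a23⟩ := hmem 2
    obtain ⟨a31, a32, a33⟩ := hmem 3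
    -- t = f 0, u = f 1, v = f 2, v' = f 3
    set σ : Equiv.Perm κ := Equiv.swap i (f 0) * (Equiv.swap k j * Equiv.swap j (f 1)) *
      Equiv.swap (f 2) (f 3) with hσ
    have hsign : Equiv.Perm.sign σ = 1 := by
      rw [hσ, Equiv.Perm.sign_mul, Equiv.Perm.sign_mul, Equiv.Perm.sign_mul,
        Equiv.Perm.sign_swap a01.symm, Equiv.Perm.sign_swap hjk.symm, Equiv.Perm.sign_swap a12.symm,
        Equiv.Perm.sign_swap f23]
      decide
    have hσi : σ i = f 0 := by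
      simp [hσ, Equiv.swap_apply_of_ne_of_ne, hij, hik, a21.symm, a31.symm, a11.symm]
    have hσj : σ j = f 1 := by
      simp [hσ, Equiv.swap_apply_of_ne_of_ne, hij.symm, hjk, a22.symm, a32.symm, a12, a13, a11, f01.symm]
    have hσk : σ k = j := by
      simp [hσ, Equiv.swap_apply_of_ne_of_ne, hik.symm, hjk.symm, a23.symm, a33.symm, a13.symm, hij.symm,
        a02.symm]
    have hσt : σ (f 0) = i := by
      simp [hσ, Equiv.swap_apply_of_ne_of_ne, f02, f03, f01, a02, a03]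
    have hb := hS.perm a σ hsign ha
    have hdot : a ⬝ᵥ (a ∘ σ) = a k * a j := by
      rw [frc_dot_supp a (a ∘ σ) _ hSz, Finset.sum_insert (by simp [hij, hik]),
        Finset.sum_insert (by simp [hjk]), Finset.sum_singleton]
      simp only [Function.comp_apply, hσi, hσj, hσk, hSz _ (hfS 0), hSz _ (hfS 1)]
      ring
    apply frc_kill hA21 hS h1 ha hb (f 0) (hSz _ (hfS 0))
    rw [hdot, Function.comp_apply, hσt]
    linear_combination (16 * a j ^ 2 * a k ^ 2) * hi + hjk16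

end Cfsg.Agent.Lib.Helper23.FrCLeaf
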