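import Cfsg.Agent.Lib.Helper17.FrCDefs
import Cfsg.Agent.Lib.Helper9.FrCSp
import Cfsg.Agent.Lib.Helper23.FrCA3
import Cfsg.Agent.Lib.Helper23.FrCA4
import Cfsg.Agent.Lib.Helper23.FrCA5

/-!
CORE13 (S5679 + S5696, helper17's market), block A: leaves A3 `special_types`, A4 `special_kill`,
A5 `allB_of_special` with the EXACT signatures of `notes/S5679_core_leaves.lean`
(cores in `FrCA3/4/5`, A1/A2 = helper9's `FrCSp`).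
-/

set_option autoImplicit false
set_option linter.unusedSectionVars false
set_option linter.unusedVariables false

namespace Cfsg.Agent.Lib.Helper23.FrCLeaf

open Module QuadraticMap Matrix Cfsg.Agent.Lib.Helper25.CD Cfsg.Agent.Lib.Helper25.Spin
  Cfsg.Agent.Lib.Helper5.NSMax Cfsg.Agent.Lib.Helper5.PairMax Cfsg.Agent.Lib.Helper17.OC2
  Cfsg.Agent.Lib.Helper29.FrStd Cfsg.Agent.Lib.Helper11.Mono Cfsg.Agent.Lib.Helper17.FrC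

variable {κ : Type} [Fintype κ] [DecidableEq κ] {F : Type*} [Field F] [Fintype F]
  {c : F} {M : Subgroup ↥(Cfsg.isometryGroup F ⇑(stdQ κ F c))}

theorem special_types (hp : (Fintype.card F).Prime) (h11 : 11 ≤ Fintype.card F) (hκ : Fintype.card κ = 13)
    (lam : κ → F) (hsum : ∑ l, lam l = 1)
    (h3 : 3 ≤ (supp lam).card)
    (hsp : ∀ l, Sp (lam l)) (hpair : ∀ i l, i ≠ l → lam i ≠ 0 → lam l ≠ 0 →
      Sp (4 * lam i * lam l) ∧ 4 * lam i * lam l ≠ 1)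
    (hfree : ∀ T : Finset κ, (∃ l ∈ T, lam l ≠ 0) → (∃ l, l ∉ T ∧ lam l ≠ 0) → ∑ l ∈ T, lam l ≠ 0) :
    (∃ S : Finset κ, S.card = 4 ∧ (∀ l ∈ S, 4 * lam l = 1) ∧ ∀ l, l ∉ S → lam l = 0) ∨
    (∃ i j k : κ, i ≠ j ∧ i ≠ k ∧ j ≠ k ∧ 4 * lam i = 1 ∧ 4 * lam j = 1 ∧ 2 * lam k = 1 ∧
      ∀ l, l ≠ i → l ≠ j → l ≠ k → lam l = 0) ∨
    (∃ i j k : κ, i ≠ j ∧ i ≠ k ∧ j ≠ k ∧ 4 * lam i = 1 ∧ 16 * lam j * lam k = 1 ∧ 4 * lam j + 4 * lam k = 3 ∧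
      ∀ l, l ≠ i → l ≠ j → l ≠ k → lam l = 0) :=
  special_types_core hp h11 (Cfsg.Agent.Lib.Helper9.FrCLeaf.sp_facts hp h11) lam hsum h3 hsp hpair hfree

theorem special_kill (hp : (Fintype.card F).Prime) (h11 : 11 ≤ Fintype.card F) (hκ : Fintype.card κ = 13)
    {R : (κ → F) → Prop} (hS : Sys R) (h1 : ∀ b, R b → ∀ i, Sp (b i ^ 2)) {a : κ → F} (ha : R a)
    (htype : (∃ S : Finset κ, S.card = 4 ∧ (∀ l ∈ S, 4 * a l ^ 2 = 1) ∧ ∀ l, l ∉ S → a l = 0) ∨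
      (∃ i j k : κ, i ≠ j ∧ i ≠ k ∧ j ≠ k ∧ 4 * a i ^ 2 = 1 ∧ 4 * a j ^ 2 = 1 ∧ 2 * a k ^ 2 = 1 ∧
        ∀ l, l ≠ i → l ≠ j → l ≠ k → a l = 0) ∨
      (∃ i j k : κ, i ≠ j ∧ i ≠ k ∧ j ≠ k ∧ 4 * a i ^ 2 = 1 ∧ 16 * a j ^ 2 * a k ^ 2 = 1 ∧
        4 * a j ^ 2 + 4 * a k ^ 2 = 3 ∧ ∀ l, l ≠ i → l ≠ j → l ≠ k → a l = 0)) : False :=
  special_kill_core (Cfsg.Agent.Lib.Helper9.FrCLeaf.sp_facts hp h11).1 hκ hS h1 ha htype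

theorem allB_of_special (hp : (Fintype.card F).Prime) (h11 : 11 ≤ Fintype.card F) (hκ : Fintype.card κ = 13)
    {R : (κ → F) → Prop} (hS : Sys R) (h1 : ∀ b, R b → ∀ i, Sp (b i ^ 2))
    (h0 : ∀ b, R b → ∀ T : Finset κ, (∃ l ∈ T, b l ≠ 0) → (∃ l, l ∉ T ∧ b l ≠ 0) → ∑ l ∈ T, b l ^ 2 ≠ 0) :
    ∀ a, R a → IsB a :=
  allB_of_special_core hp h11 hκ
    (fun x y hx hy hxy => Cfsg.Agent.Lib.Helper9.FrCLeaf.sp_add_eq_one hp (by omega) hx hy hxy)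
    (Cfsg.Agent.Lib.Helper9.FrCLeaf.sp_facts hp h11) hS h1 h0

end Cfsg.Agent.Lib.Helper23.FrCLeaf
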