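import Mathlib
import Cfsg.Agent.Lib.Helper21.LSBasic

/-!
helper23: S5286 leaf (FS) - one step of fusion: conjugating an `F`-map by `τ(i,ε) ι(s)`.
-/

set_option autoImplicit false
universe u
open Cfsg
open Cfsg.Agent.Lib.Helper21.LS

namespace Cfsg.Agent.Lib.Helper23.LSFS

variable {Ω : Type u} [Group Ω] {S : Subgroup Ω} (F : FusionSystem S)

/-- follow a map with values in `S` by conjugation with `s⁻¹`, `s ∈ S` -/
theorem exists_conj_comp (R : Subgroup Ω) (ψ₁ : R →* Ω) (hψ₁ : ψ₁ ∈ F.Hom R) (s : ↥S) :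
    ∃ ψ ∈ F.Hom R, ∀ x : R, ψ x = (s : Ω)⁻¹ * ψ₁ x * (s : Ω) := by
  have hS : ∀ x : R, ψ₁ x ∈ S := (F.le_of_mem hψ₁).2
  refine ⟨(conjHom S ((s : Ω)⁻¹)).comp (ψ₁.codRestrict S hS),
    F.comp_mem hψ₁ (F.conj_mem le_rfl (S.inv_mem s.2)) hS, ?_⟩
  intro x
  show (s : Ω)⁻¹ * ψ₁ x * ((s : Ω)⁻¹)⁻¹ = _
  rw [inv_inv]

theorem fus_step (hσ : ∀ i : Idx F, SigGood F i (sig F i)) (R : Subgroup Ω) (ψ' : R →* Ω)
    (hψ' : ψ' ∈ F.Hom R) (a : Step F)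
    (hQ : a.ε = true → ∀ x : R, ψ' x ∈ a.i.Q) (hP : a.ε = false → ∀ x : R, ψ' x ∈ a.i.P) :
    ∃ ψ ∈ F.Hom R, ∀ (x : R) (y' y : ↥S), (y' : Ω) = ψ' x → (y : Ω) = ψ x →
      iotaHat F y =
        (iotaHat F a.s)⁻¹ * (tau F a.i a.ε)⁻¹ * iotaHat F y' * tau F a.i a.ε * iotaHat F a.s := by
  obtain ⟨i, ε, s⟩ := a
  cases ε with
  | false =>
    have hP' : ∀ x : R, ψ' x ∈ i.P := hP rfl
    obtain ⟨ψ, hψ, hψx⟩ := exists_conj_comp F R (i.φ.comp (ψ'.codRestrict i.P hP'))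
      (F.comp_mem hψ' i.mem hP') s
    refine ⟨ψ, hψ, ?_⟩
    intro x y' y hy' hy
    show iotaHat F y = (iotaHat F s)⁻¹ * ((t F i)⁻¹)⁻¹ * iotaHat F y' * (t F i)⁻¹ * iotaHat F s
    set u : i.P := ⟨ψ' x, hP' x⟩ with hu
    have e1 : y' = ⟨(u : Ω), i.P_le u.2⟩ := Subtype.ext hy'
    have e2 : y = s⁻¹ * ⟨i.φ u, i.φ_mem u⟩ * s := by
      apply Subtype.ext
      rw [hy, hψx]
      rfl
    rw [e2, map_mul, map_mul, map_inv, ← t_conj F i (hσ i) u, ← e1, inv_inv]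
    simp only [mul_assoc]
  | true =>
    have hQ' : ∀ x : R, ψ' x ∈ i.φ.range := hQ rfl
    obtain ⟨χ, hχ, hχx⟩ := F.inv_mem i.mem
    obtain ⟨ψ, hψ, hψx⟩ := exists_conj_comp F R (χ.comp (ψ'.codRestrict i.φ.range hQ'))
      (F.comp_mem hψ' hχ hQ') s
    refine ⟨ψ, hψ, ?_⟩
    intro x y' y hy' hy
    show iotaHat F y = (iotaHat F s)⁻¹ * (t F i)⁻¹ * iotaHat F y' * t F i * iotaHat F s
    obtain ⟨u, hu⟩ := hQ' x
    have e1 : y' = ⟨i.φ u, i.φ_mem u⟩ := Subtype.ext (by rw [hy', ← hu])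
    have e3 : χ ((ψ'.codRestrict i.φ.range hQ') x) = (u : Ω) := by
      rw [← hχx u]
      congr 1
      exact Subtype.ext hu.symm
    have e2 : y = s⁻¹ * ⟨(u : Ω), i.P_le u.2⟩ * s := by
      apply Subtype.ext
      rw [hy, hψx]
      show (s : Ω)⁻¹ * χ ((ψ'.codRestrict i.φ.range hQ') x) * (s : Ω) = _
      rw [e3]
      rfl
    rw [e2, map_mul, map_mul, map_inv, ← t_inv_conj F i (hσ i) u, ← e1]
    simp only [mul_assoc]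

end Cfsg.Agent.Lib.Helper23.LSFS
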