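import Mathlib
import Cfsg.Agent.Lib.Helper21.LSBasic

/-!
helper23: S5286 leaf (GEO) - the vertex word of a reduced word: one new letter per step, no cancellation.
-/

set_option autoImplicit false
universe u
open Cfsg
open Cfsg.Agent.Lib.Helper21.LS

namespace Cfsg.Agent.Lib.Helper23.LSGEO

variable {Ω : Type u} [Group Ω] {S : Subgroup Ω} (F : FusionSystem S)

/-- the `left` component after one more step -/
theorem evalR_cons_left (s0 : ↥S) (a : Step F) (l : List (Step F)) :
    (evalR F s0 (a :: l)).left =
      (evalR F s0 l).left * FreeGroup.mk [lsmul (evalR F s0 l).right (letter F a.i a.ε)] := by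
  show (evalR F s0 l * tau F a.i a.ε * iotaHat F a.s).left = _
  rw [SemidirectProduct.mul_left, SemidirectProduct.mul_left, iotaHat_left, map_one, mul_one,
    tau_left, actHom_mk]
  rfl

/-- the `right` component after one more step -/
theorem evalR_cons_right (s0 : ↥S) (a : Step F) (l : List (Step F)) :
    (evalR F s0 (a :: l)).right = (evalR F s0 l).right * rho F a.i a.ε * lam S a.s := by
  show (evalR F s0 l * tau F a.i a.ε * iotaHat F a.s).right = _
  rw [SemidirectProduct.mul_right, SemidirectProduct.mul_right, iotaHat_right, tau_right]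

theorem evalR_cons_left_of
    (hPC : ∀ b a : Step F, ¬ Pinch F b a → ¬ Cancel F b a)
    (s0 : ↥S) (a : Step F) (l : List (Step F)) (h : Reduced F (a :: l)) :
    ∃ L : List (X F × Bool),
      FreeGroup.IsReduced (L ++ [lsmul (evalR F s0 l).right (letter F a.i a.ε)]) ∧
      FreeGroup.mk L = (evalR F s0 l).left ∧
      FreeGroup.mk (L ++ [lsmul (evalR F s0 l).right (letter F a.i a.ε)]) = (evalR F s0 (a :: l)).left := by
  induction l generalizing a with
  | nil =>
    refine ⟨[], ?_, ?_, ?_⟩
    · exact FreeGroup.IsReduced.singleton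
    · rfl
    · rw [evalR_cons_left]
      show _ = (iotaHat F s0).left * _
      rw [iotaHat_left, one_mul]
      rfl
  | cons b l'' ih =>
    have h' : ¬ Pinch F b a ∧ Reduced F (b :: l'') := List.isChain_cons_cons.mp h
    obtain ⟨L', hred, hmk, hmk'⟩ := ih b h'.2
    refine ⟨L' ++ [lsmul (evalR F s0 l'').right (letter F b.i b.ε)], ?_, hmk', ?_⟩
    · apply FreeGroup.IsReduced.append_overlap hred _ (by simp)
      rw [List.singleton_append, FreeGroup.isReduced_cons_cons]
      refine ⟨?_, FreeGroup.IsReduced.singleton⟩
      intro h1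
      have hnc := hPC b a h'.1
      rw [evalR_cons_right] at h1 ⊢
      have h2 : (lsmul (rho F b.i b.ε * lam S b.s) (letter F a.i a.ε)).1 = (letter F b.i b.ε).1 := by
        have h3 : (evalR F s0 l'').right • (letter F b.i b.ε).1 =
            (evalR F s0 l'').right • ((rho F b.i b.ε * lam S b.s) • (letter F a.i a.ε).1) := by
          rw [← mul_smul, ← mul_assoc]
          exact h1
        exact (MulAction.injective _ h3).symm
      have h4 : ¬ ((lsmul (rho F b.i b.ε * lam S b.s) (letter F a.i a.ε)).2 =
          !(letter F b.i b.ε).2) := fun h5 => hnc ⟨h2, h5⟩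
      show (letter F b.i b.ε).2 = (letter F a.i a.ε).2
      have h6 : (lsmul (rho F b.i b.ε * lam S b.s) (letter F a.i a.ε)).2 = (letter F a.i a.ε).2 := rfl
      rw [h6] at h4
      revert h4
      cases (letter F a.i a.ε).2 <;> cases (letter F b.i b.ε).2 <;> simp
    · rw [evalR_cons_left F s0 a, ← hmk']
      rfl

end Cfsg.Agent.Lib.Helper23.LSGEO
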