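/-
helper23: S4017 leaf MIX-GCENT `g_centralizes` (planner helper26, notes/S4017_leaves.lean).
-/
import Mathlib
import Cfsg.Prelude.Def_Local
import Cfsg.Agent.Lib.Helper26.MixDefs

set_option autoImplicit false

namespace Cfsg.Agent.Lib.Helper23.MIXGCENT

open Cfsg Cfsg.Agent.Lib.Helper26.Mix

universe u

variable {G : Type u} [Group G] [Finite G] {p a : ℕ} {Q : Subgroup G} {g : G}

/-- in the critical configuration `|G|` is even. -/
theorem two_dvd_card_of_le (c : Ctx G p a Q g) (N : Subgroup G) (hQN : Q ≤ N) :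
    2 ∣ Nat.card N := by
  have h1 : Nat.card Q ∣ Nat.card N := Subgroup.card_dvd_of_le hQN
  rw [c.hQcard] at h1
  have h2 : (2 : ℕ) ∣ 2 ^ a := dvd_pow_self 2 (by have := c.ha; omega)
  exact h2.trans h1

/-- a subgroup of odd order whose normalizer contains `Q` is a `p`-group (simple `G`). -/
theorem isPGroup_of_odd (c : Ctx G p a Q g) (hsimple : Simple G) (W : Subgroup G)
    (hW : Odd (Nat.card W)) (hWQ : Q ≤ Subgroup.normalizer (W : Set G)) : IsPGroup p W := by
  have hp : Fact p.Prime := ⟨c.hp⟩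
  by_cases hbot : W = ⊥
  · subst hbot
    exact IsPGroup.of_bot
  have hNtop : Subgroup.normalizer (W : Set G) ≠ ⊤ := by
    intro h
    have hn : W.Normal := Subgroup.normalizer_eq_top_iff.mp h
    rcases hsimple W hn with h1 | h1
    · exact hbot h1
    · have h2 : 2 ∣ Nat.card W := by
        apply two_dvd_card_of_le c W
        rw [h1]; exact le_top
      rcases hW with ⟨k, hk⟩
      omega
  have h2N : 2 ∣ Nat.card (Subgroup.normalizer (W : Set G)) := two_dvd_card_of_le c _ hWQ
  have hstar := c.hstar _ hNtop h2N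
  have hWN : W ≤ Subgroup.normalizer (W : Set G) := Subgroup.le_normalizer
  have hcard : Nat.card W = p ^ (Nat.card W).primeFactorsList.length := by
    apply Nat.eq_prime_pow_of_unique_prime_dvd Nat.card_pos.ne'
    intro d hd hdW
    rcases hstar d hd (hdW.trans (Subgroup.card_dvd_of_le hWN)) with h | h
    · subst h
      rcases hW with ⟨k, hk⟩
      omega
    · exact h
  exact IsPGroup.of_card hcard

/-- GCENT : `g` centralizes every subgroup of odd order normalized by `Q` and `g`. -/
theorem g_centralizes (c : Ctx G p a Q g) (hsimple : Simple G) (W : Subgroup G)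
    (hW : Odd (Nat.card W)) (hWQ : Q ≤ Subgroup.normalizer (W : Set G))
    (hWg : g ∈ Subgroup.normalizer (W : Set G)) : ∀ w ∈ W, g * w = w * g := by
  intro w hw
  have hp : Fact p.Prime := ⟨c.hp⟩
  have hWp : IsPGroup p W := isPGroup_of_odd c hsimple W hW hWQ
  have hgp : IsPGroup p (Subgroup.zpowers g) := by
    obtain ⟨k, hk⟩ := c.hgp
    rintro ⟨y, hy⟩
    obtain ⟨j, rfl⟩ := hy
    refine ⟨k, ?_⟩
    apply Subtype.ext
    simp only [Subgroup.coe_pow, Subgroup.coe_one]
    rw [← zpow_natCast, ← zpow_mul, mul_comm, zpow_mul, zpow_natCast, hk, one_zpow]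
  have hle : Subgroup.zpowers g ≤ Subgroup.normalizer (W : Set G) := by
    rw [Subgroup.zpowers_le]; exact hWg
  have hS : IsPGroup p (Subgroup.zpowers g ⊔ W : Subgroup G) :=
    IsPGroup.to_sup_of_normal_right' hgp hWp hle
  exact c.hab _ hS g ((le_sup_left : Subgroup.zpowers g ≤ _) (Subgroup.mem_zpowers g)) w
    ((le_sup_right : W ≤ Subgroup.zpowers g ⊔ W) hw)

end Cfsg.Agent.Lib.Helper23.MIXGCENT
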