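/-
helper23: S4017 leaf MIX-INV `inverts_of_P0Triv` (planner helper26, notes/S4017_leaves.lean).
`P0Triv G Q` of the notes file is stated unfolded here (definitionally equal).
-/
import Mathlib
import Cfsg.Prelude.Def_Local
import Cfsg.Agent.Lib.Helper26.MixDefs
import Cfsg.Agent.Lib.Helper2.MIXCORELE

set_option autoImplicit false

namespace Cfsg.Agent.Lib.Helper23.MIXINV

open Cfsg Cfsg.Agent.Lib.Helper26.Mix

universe u

variable {G : Type u} [Group G] [Finite G] {p a : ℕ} {Q : Subgroup G} {g : G}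

/-- the hypothesis `C_{θ t}(Q) = 1` for all `t ∈ Q \ 1` (same body as `MixLeaves.P0Triv`) -/
def P0Triv (G : Type u) [Group G] (Q : Subgroup G) : Prop :=
  ∀ t ∈ Q, t ≠ 1 → ∀ z ∈ centralizerPPrimeCore 2 t, (∀ u ∈ Q, z * u = u * z) → z = 1

theorem two_dvd_card_of_le (c : Ctx G p a Q g) (N : Subgroup G) (hQN : Q ≤ N) :
    2 ∣ Nat.card N := by
  have h1 : Nat.card Q ∣ Nat.card N := Subgroup.card_dvd_of_le hQN
  rw [c.hQcard] at h1
  have h2 : (2 : ℕ) ∣ 2 ^ a := dvd_pow_self 2 (by have := c.ha; omega)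
  exact h2.trans h1

/-- there is a non-identity element of `Q` different from `t`. -/
theorem exists_ne (c : Ctx G p a Q g) (t : G) : ∃ v ∈ Q, v ≠ 1 ∧ v ≠ t := by
  by_contra hcon
  push_neg at hcon
  -- Q ⊆ {1, t}
  have hsub : (Q : Set G) ⊆ ({1, t} : Set G) := by
    intro v hv
    by_cases h1 : v = 1
    · left; exact h1
    · right; exact hcon v hv h1
  have hle : Nat.card Q ≤ 2 := by
    have hQn : Nat.card Q = (Q : Set G).ncard := Nat.card_coe_set_eq (Q : Set G)
    rw [hQn]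
    calc (Q : Set G).ncard ≤ ({1, t} : Set G).ncard :=
          Set.ncard_le_ncard hsub (Set.toFinite _)
      _ ≤ 2 := by
          calc ({1, t} : Set G).ncard ≤ ({t} : Set G).ncard + 1 := Set.ncard_insert_le 1 {t}
            _ = 2 := by rw [Set.ncard_singleton]
  rw [c.hQcard] at hle
  have h4 : 2 ^ 2 ≤ 2 ^ a := Nat.pow_le_pow_right (by norm_num) c.ha
  omega

/-- `C_G(t)` is a proper subgroup for `t ∈ Q \ 1`. -/
theorem centralizer_ne_top (c : Ctx G p a Q g) (t : G) (ht : t ∈ Q) (ht1 : t ≠ 1) :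
    Subgroup.centralizer ({t} : Set G) ≠ ⊤ := by
  intro h
  obtain ⟨v, hv, hv1, hvt⟩ := exists_ne c t
  obtain ⟨i, hi⟩ := c.htrans t ht ht1 v hv hv1
  have hmem : g ^ i ∈ Subgroup.centralizer ({t} : Set G) := by rw [h]; trivial
  have hcomm : t * g ^ i = g ^ i * t := by
    have := Subgroup.mem_centralizer_iff.mp hmem t (Set.mem_singleton t)
    exact this
  apply hvt
  rw [← hi, ← hcomm]
  group

/-- `θ t` is a `p`-group for `t ∈ Q \ 1`. -/
theorem core_isPGroup (c : Ctx G p a Q g) (t : G) (ht : t ∈ Q) (ht1 : t ≠ 1) :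
    IsPGroup p ↥(centralizerPPrimeCore 2 t) := by
  have hp : Fact p.Prime := ⟨c.hp⟩
  obtain ⟨hle, -, hodd⟩ := Cfsg.Agent.Lib.Helper2.MIXCORELE.core_basic t
  have hQC : Q ≤ Subgroup.centralizer ({t} : Set G) := by
    intro u hu
    rw [Subgroup.mem_centralizer_iff]
    intro y hy
    rw [Set.mem_singleton_iff] at hy
    subst hy
    exact (c.hQab u hu y ht).symm
  have h2 : 2 ∣ Nat.card (Subgroup.centralizer ({t} : Set G)) := two_dvd_card_of_le c _ hQC
  have hstar := c.hstar _ (centralizer_ne_top c t ht ht1) h2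
  have hcard : Nat.card ↥(centralizerPPrimeCore 2 t) =
      p ^ (Nat.card ↥(centralizerPPrimeCore 2 t)).primeFactorsList.length := by
    apply Nat.eq_prime_pow_of_unique_prime_dvd Nat.card_pos.ne'
    intro d hd hdW
    rcases hstar d hd (hdW.trans (Subgroup.card_dvd_of_le hle)) with h | h
    · subst h
      rcases hodd with ⟨k, hk⟩
      omega
    · exact h
  exact IsPGroup.of_card hcard

/-- for `a = 2`: an element commuting with `t` and `s` (distinct non-identity elements of `Q`) commutes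
with all of `Q`. -/
theorem comm_all (c : Ctx G p a Q g) (ha2 : a = 2) (t : G) (ht : t ∈ Q) (ht1 : t ≠ 1) (s : G)
    (hs : s ∈ Q) (hs1 : s ≠ 1) (hst : s ≠ t) (z : G) (hzt : z * t = t * z) (hzs : z * s = s * z) :
    ∀ u ∈ Q, z * u = u * z := by
  set Z : Subgroup G := Q ⊓ Subgroup.centralizer ({z} : Set G) with hZ
  have hmemZ : ∀ u : G, u ∈ Q → z * u = u * z → u ∈ Z := by
    intro u hu hzu
    refine ⟨hu, ?_⟩
    show u ∈ Subgroup.centralizer ({z} : Set G)
    rw [Subgroup.mem_centralizer_iff]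
    intro y hy
    rw [Set.mem_singleton_iff] at hy
    subst hy
    exact hzu
  have hsub : ({1, t, s} : Set G) ⊆ (Z : Set G) := by
    intro u hu
    rcases hu with rfl | rfl | rfl
    · exact one_mem Z
    · exact hmemZ _ ht hzt
    · exact hmemZ _ hs hzs
  have h3 : ({1, t, s} : Set G).ncard = 3 := by
    rw [Set.ncard_eq_three]
    exact ⟨1, t, s, fun h => ht1 h.symm, fun h => hs1 h.symm, fun h => hst h.symm, rfl⟩
  have hge : 3 ≤ Nat.card Z := by
    have hZn : Nat.card Z = (Z : Set G).ncard := Nat.card_coe_set_eq (Z : Set G)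
    rw [hZn, ← h3]
    exact Set.ncard_le_ncard hsub (Set.toFinite _)
  have hdvd : Nat.card Z ∣ Nat.card Q := Subgroup.card_dvd_of_le inf_le_left
  have hQ4 : Nat.card Q = 4 := by rw [c.hQcard, ha2]; norm_num
  rw [hQ4] at hdvd
  have hZ4 : Nat.card Z = 4 := by
    have hle : Nat.card Z ≤ 4 := Nat.le_of_dvd (by norm_num) hdvd
    interval_cases h : Nat.card Z
    · exfalso; revert hdvd; norm_num
    · rfl
  have hZQ : Z = Q := Subgroup.eq_of_le_of_card_ge inf_le_left (by rw [hZ4, hQ4])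
  intro u hu
  have huZ : u ∈ Z := by rw [hZQ]; exact hu
  have := Subgroup.mem_centralizer_iff.mp huZ.2 z (Set.mem_singleton z)
  exact this

/-- INV : if `C_{θ t}(Q) = 1` then every `s ∈ Q \ <t>` inverts `θ t`. -/
theorem inverts_of_P0Triv (c : Ctx G p a Q g) (ha2 : a = 2) (h0 : P0Triv G Q) (t : G) (ht : t ∈ Q)
    (ht1 : t ≠ 1) (s : G) (hs : s ∈ Q) (hs1 : s ≠ 1) (hst : s ≠ t) :
    ∀ w ∈ centralizerPPrimeCore 2 t, s * w * s⁻¹ = w⁻¹ := by
  intro w hw
  obtain ⟨hle, hnorm, -⟩ := Cfsg.Agent.Lib.Helper2.MIXCORELE.core_basic t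
  have hsC : s ∈ Subgroup.centralizer ({t} : Set G) := by
    rw [Subgroup.mem_centralizer_iff]
    intro y hy
    rw [Set.mem_singleton_iff] at hy
    subst hy
    exact (c.hQab s hs y ht).symm
  have hw' : s * w * s⁻¹ ∈ centralizerPPrimeCore 2 t := hnorm s hsC w hw
  have hab := c.hab _ (core_isPGroup c t ht ht1)
  have hss : s * s = 1 := c.hQexp s hs
  have hsinv : s⁻¹ = s := inv_eq_of_mul_eq_one_left hss
  set z : G := w * (s * w * s⁻¹) with hz
  have hzmem : z ∈ centralizerPPrimeCore 2 t := mul_mem hw hw'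
  have hzt : z * t = t * z := by
    have := Subgroup.mem_centralizer_iff.mp (hle hzmem) t (Set.mem_singleton t)
    exact this.symm
  have hzs : z * s = s * z := by
    have hcomm : w * (s * w * s⁻¹) = (s * w * s⁻¹) * w := hab w hw _ hw'
    have h1 : s * z * s⁻¹ = z := by
      calc s * z * s⁻¹ = (s * w * s⁻¹) * (s * (s * w * s⁻¹) * s⁻¹) := by rw [hz]; group
        _ = (s * w * s⁻¹) * ((s * s) * w * (s * s)⁻¹) := by group
        _ = (s * w * s⁻¹) * w := by rw [hss]; group
        _ = z := by rw [hz, hcomm]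
    calc z * s = (s * z * s⁻¹) * s := by rw [h1]
      _ = s * z := by group
  have hall := comm_all c ha2 t ht ht1 s hs hs1 hst z hzt hzs
  have hz1 : z = 1 := h0 t ht ht1 z hzmem hall
  have : s * w * s⁻¹ = w⁻¹ := by
    have h2 : w * (s * w * s⁻¹) = 1 := by rw [← hz]; exact hz1
    exact (eq_inv_of_mul_eq_one_right h2)
  exact this

end Cfsg.Agent.Lib.Helper23.MIXINV
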