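import Cfsg.Agent.Lib.Helper17.OC2Defs
import Cfsg.Agent.Lib.Helper17.OC2Tool

/-!
# S5677 leaf C4 (`block_le`) (helper17 market)

If the root module of a singular vector `z` of the block `D i` meets another block `D l` non-trivially,
it contains all of `D l` (irreducibility of `Ω(D l)` on `D l`, helper5 `NDMax.irred`).
-/

set_option autoImplicit false
set_option linter.unusedSectionVars false
set_option linter.unusedVariables false
set_option linter.unusedSimpArgs false

namespace Cfsg.Agent.Lib.Helper23.OC2Leaf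

open Module QuadraticMap Matrix Cfsg.Agent.Lib.Helper25.CD Cfsg.Agent.Lib.Helper25.Spin
  Cfsg.Agent.Lib.Helper15 Cfsg.Agent.Lib.Helper5.NSMax Cfsg.Agent.Lib.Helper5.PairMax
  Cfsg.Agent.Lib.Helper17.OC2 Cfsg.Agent.Lib.Helper17.OC2Leaf

variable {ι : Type} [Fintype ι] [DecidableEq ι] {F : Type*} [Field F] [Fintype F]
  {Q : QuadraticForm F (ι → F)} {t : ℕ} {D : Fin t → Submodule F (ι → F)} {k : ℕ}
  {M : Subgroup ↥(Cfsg.isometryGroup F ⇑Q)}

/-- a third block -/
theorem exists_third (ht : 3 ≤ t) (i l : Fin t) : ∃ j : Fin t, j ≠ i ∧ j ≠ l := by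
  classical
  by_contra hcon
  push Not at hcon
  have h1 : (Finset.univ : Finset (Fin t)) ⊆ {i, l} := by
    intro j _
    by_cases hji : j = i
    · simp [hji]
    · simp [hcon j hji]
  have h2 := Finset.card_le_card h1
  have h3 : ({i, l} : Finset (Fin t)).card ≤ 2 := Finset.card_le_two
  rw [Finset.card_univ, Fintype.card_fin] at h2
  omega

/-- C4 -/
theorem block_le (hS : MS Q M D k) {i l : Fin t} (hli : l ≠ i) {z v : ι → F} (hz : z ∈ D i)
    (hz0 : z ≠ 0) (hQz : Q z = 0) (hv : v ∈ D l) (hv0 : v ≠ 0) (h : InA Q M z v) :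
    ∀ w ∈ D l, InA Q M z w := by
  have hG : Geo Q D k := hS.toGeo
  have hzl : ∀ y ∈ D l, polar Q z y = 0 := fun y hy => hG.orth i l (Ne.symm hli) z hz y hy
  -- the subspace `A`
  let A : Submodule F (ι → F) :=
    { carrier := {w | w ∈ D l ∧ InA Q M z w}
      add_mem' := by
        rintro a b ⟨ha, ha'⟩ ⟨hb, hb'⟩
        exact ⟨(D l).add_mem ha hb, InA.add hQz (hzl a ha) (hzl b hb) ha' hb'⟩
      zero_mem' := ⟨(D l).zero_mem, Cfsg.Agent.Lib.Helper5.NDMax.inA_zero M z⟩
      smul_mem' := by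
        rintro c a ⟨ha, ha'⟩
        exact ⟨(D l).smul_mem c ha, ha'.smul c⟩ }
  have hAle : A ≤ D l := fun w hw => hw.1
  have hA0 : A ≠ ⊥ := by
    intro h0
    have hvA : v ∈ A := ⟨hv, h⟩
    rw [h0, Submodule.mem_bot] at hvA
    exact hv0 hvA
  have hmemM : ∀ g ∈ Cfsg.Omega F ⇑Q, Fixes Q D g → g ∈ M := fun g hg hf =>
    hS.stab g hg hf.isPerm
  have key : D l ≤ A := by
    apply Cfsg.Agent.Lib.Helper5.NDMax.irred Q (ndOn hG l) hAle hA0
    · -- reflections
      rintro x ⟨hxl, hxA⟩ w hw hQw hwx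
      obtain ⟨j, hji, hjl⟩ := exists_third hG.t3 i l
      obtain ⟨d, hd, hQd⟩ := Cfsg.Agent.Lib.Helper25.OGeom.universal Q (ndOn hG j)
        (by rw [hG.fr j]; have := hG.k3; omega) (Q w)
      have hQd0 : Q d ≠ 0 := by rw [hQd]; exact hQw
      have hΩ : reflM Q w * reflM Q d ∈ Cfsg.Omega F ⇑Q := by
        rw [pair_mem_omega_iff hG hQw hQd0, hQd]
        exact ⟨Q w, rfl⟩
      have hM : reflM Q w * reflM Q d ∈ M :=
        hmemM _ hΩ ((reflM_fixes hG hw).mul (reflM_fixes hG hd))
      have hfz : toOG Q (reflM Q w * reflM Q d) z = z := by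
        rw [map_mul, LinearEquiv.mul_apply,
          toOG_reflM_of_perp (hG.orth j i hji d hd z hz),
          toOG_reflM_of_perp (hG.orth l i hli w hw z hz)]
      have hfx : toOG Q (reflM Q w * reflM Q d) x = x - ((Q w)⁻¹ * polar Q w x) • w := by
        rw [map_mul, LinearEquiv.mul_apply,
          toOG_reflM_of_perp (hG.orth j l hjl d hd x hxl), toOG_reflM, reflE_apply]
      have h1 := InA.conj hM hxA
      rw [hfz, hfx] at h1
      -- `InA z (c • w)` with `c ≠ 0`
      have hc : (Q w)⁻¹ * polar Q w x ≠ 0 := mul_ne_zero (inv_ne_zero hQw) hwx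
      have h2 : InA Q M z (((Q w)⁻¹ * polar Q w x) • w) := by
        have h3 := InA.add hQz (hzl x hxl)
          (by rw [polar_smul_right, polar_sub_right, hzl x hxl, polar_smul_right, hzl w hw]; simp)
          hxA (h1.smul (-1))
        have e : x + (-1 : F) • (x - ((Q w)⁻¹ * polar Q w x) • w)
            = ((Q w)⁻¹ * polar Q w x) • w := by
          module
        rwa [e] at h3
      have h4 := h2.smul ((Q w)⁻¹ * polar Q w x)⁻¹
      rw [smul_smul, inv_mul_cancel₀ hc, one_smul] at h4
      exact ⟨hw, h4⟩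
    · -- generalised Siegel maps
      rintro x ⟨hxl, hxA⟩ p hp hQp z'' hz'' hpz''
      by_cases hp0 : p = 0
      · have e : egen Q p z'' x = x := by
          rw [hp0]
          unfold egen
          simp
        rw [e]
        exact ⟨hxl, hxA⟩
      · obtain ⟨g, hgΩ, hg⟩ := exists_egen Q hG.nd hG.card hp0 hQp hpz''
        have hgf : Fixes Q D g := egen_fixes hG hp hz'' hg
        have hgM : g ∈ M := hmemM g hgΩ hgf
        have hfz : toOG Q g z = z := by
          rw [hg]
          exact egen_fix Q (hG.orth l i hli p hp z hz) (hG.orth l i hli z'' hz'' z hz)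
        have h1 := InA.conj hgM hxA
        rw [hfz, hg] at h1
        refine ⟨?_, h1⟩
        rw [← hg]
        exact hgf l x hxl
    · rintro ⟨-, h2, -⟩
      rw [hG.fr l] at h2
      have := hG.k3
      omega
  intro w hw
  exact (key hw).2

end Cfsg.Agent.Lib.Helper23.OC2Leaf
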