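import Cfsg.Agent.Lib.Helper17.OC2Defs
import Cfsg.Agent.Lib.Helper17.OC2Tool

/-!
# S5677 leaves L1 (`span_class`) and L2 (`no_split`) (helper17 market)

Quadratic spaces over a finite field of odd characteristic: the vectors of a fixed square class span a
nondegenerate space of dimension at least three, and no proper orthogonal splitting catches all of them.
-/

set_option autoImplicit false
set_option linter.unusedSectionVars false
set_option linter.unusedVariables false
set_option linter.unusedSimpArgs false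

namespace Cfsg.Agent.Lib.Helper23.OC2Leaf

open Module QuadraticMap Matrix Cfsg.Agent.Lib.Helper25.CD Cfsg.Agent.Lib.Helper25.Spin
  Cfsg.Agent.Lib.Helper15 Cfsg.Agent.Lib.Helper5.NSMax Cfsg.Agent.Lib.Helper5.PairMax
  Cfsg.Agent.Lib.Helper17.OC2

variable {ι : Type} [Fintype ι] [DecidableEq ι] {F : Type*} [Field F] [Fintype F]
  {Q : QuadraticForm F (ι → F)} {t : ℕ} {D : Fin t → Submodule F (ι → F)} {k : ℕ}
  {M : Subgroup ↥(Cfsg.isometryGroup F ⇑Q)}

/-- a nonzero nondegenerate space contains a nonsingular vector -/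
theorem exists_nonsing_of_ndOn {B : Submodule F (ι → F)} (hB : NdOn Q B) (hB0 : B ≠ ⊥) :
    ∃ b ∈ B, Q b ≠ 0 := by
  by_contra hcon
  push Not at hcon
  obtain ⟨x, hxB, hx0⟩ := (Submodule.ne_bot_iff B).1 hB0
  apply hx0
  apply hB x hxB
  intro w hw
  unfold polar
  rw [hcon _ (B.add_mem hxB hw), hcon x hxB, hcon w hw]
  ring

/-- the orthogonal complement of a nonsingular vector inside a nondegenerate space is nondegenerate -/
theorem ndOn_inf_ker (h2 : (2 : F) ≠ 0) {U : Submodule F (ι → F)} (hU : NdOn Q U) {u : ι → F}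
    (hu : u ∈ U) (hQu : Q u ≠ 0) : NdOn Q (U ⊓ LinearMap.ker (polarBilin Q u)) := by
  intro w hw hall
  obtain ⟨hwU, hwu⟩ := hw
  rw [SetLike.mem_coe, LinearMap.mem_ker, polarBilin_apply_apply] at hwu
  apply hU w hwU
  intro v hv
  have hpuu : polar Q u u ≠ 0 := by
    rw [Cfsg.Agent.Lib.Helper25.MaxTS.polar_self]
    exact mul_ne_zero h2 hQu
  have hv' : v - (polar Q u v / polar Q u u) • u ∈ U ⊓ LinearMap.ker (polarBilin Q u) := by
    refine ⟨U.sub_mem hv (U.smul_mem _ hu), ?_⟩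
    rw [SetLike.mem_coe, LinearMap.mem_ker, polarBilin_apply_apply, polar_sub_right,
      polar_smul_right, smul_eq_mul, div_mul_cancel₀ _ hpuu, sub_self]
  have h := hall _ hv'
  rw [polar_sub_right, polar_smul_right, polar_comm Q w u, hwu, smul_zero, sub_zero] at h
  exact h

/-- the orthogonal complement of a vector inside a subspace has codimension at most one -/
theorem finrank_inf_ker_ge (Q : QuadraticForm F (ι → F)) (U : Submodule F (ι → F)) (u : ι → F) :
    finrank F U ≤ finrank F (U ⊓ LinearMap.ker (polarBilin Q u) : Submodule F (ι → F)) + 1 := by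
  let φ : U →ₗ[F] F := (polarBilin Q u).comp U.subtype
  have hker : LinearMap.ker φ
      = Submodule.comap U.subtype (U ⊓ LinearMap.ker (polarBilin Q u)) := by
    ext w
    simp [φ]
  have h1 := LinearMap.finrank_range_add_finrank_ker φ
  have h2 : finrank F (LinearMap.range φ) ≤ 1 := by
    have := Submodule.finrank_le (LinearMap.range φ)
    rwa [finrank_self] at this
  rw [hker, (Submodule.comapSubtypeEquivOfLe
    (inf_le_left : U ⊓ LinearMap.ker (polarBilin Q u) ≤ U)).finrank_eq] at h1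
  omega

/-- L1 : the vectors of a fixed square class span a nondegenerate space of dimension ≥ 3 -/
theorem span_class (h2 : (2 : F) ≠ 0) {U : Submodule F (ι → F)} (hU : NdOn Q U)
    (h3 : 3 ≤ finrank F U) {τ : F} (hτ : τ ≠ 0) :
    Submodule.span F {c | c ∈ U ∧ Q c ≠ 0 ∧ IsSquare (τ * Q c)} = U := by
  have hSU : Submodule.span F {c | c ∈ U ∧ Q c ≠ 0 ∧ IsSquare (τ * Q c)} ≤ U :=
    Submodule.span_le.2 (fun c hc => hc.1)
  by_contra hne
  have hex : ∃ y ∈ U, y ∉ Submodule.span F {c | c ∈ U ∧ Q c ≠ 0 ∧ IsSquare (τ * Q c)} := by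
    by_contra hcon
    push Not at hcon
    exact hne (le_antisymm hSU hcon)
  obtain ⟨y, hyU, hyS⟩ := hex
  obtain ⟨u, huU, huS, huy⟩ := Cfsg.Agent.Lib.Helper5.NDMax.exists_dual_nd Q hU hyU hyS
  have hcl : ∀ c ∈ U, Q c ≠ 0 → IsSquare (τ * Q c) → polar Q u c = 0 := fun c hc h1 h2 =>
    huS c (Submodule.subset_span ⟨hc, h1, h2⟩) hc
  have hu0 : u ≠ 0 := by
    rintro rfl
    rw [polar_zero_left] at huy
    exact zero_ne_one huy
  by_cases hQu : Q u = 0
  · obtain ⟨u', hu'U, hQu', huu'⟩ := exists_hyp_partner Q U hU huU hu0 hQu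
    have hQc : Q (u + τ • u') = τ := by
      rw [Cfsg.Agent.Lib.Helper25.MaxTS.Q_add_smul, hQu, hQu', huu']
      ring
    have h := hcl (u + τ • u') (U.add_mem huU (U.smul_mem _ hu'U)) (by rw [hQc]; exact hτ)
      (by rw [hQc]; exact ⟨τ, rfl⟩)
    rw [polar_add_right, polar_smul_right, huu', polar_self_of_singular Q hQu, zero_add,
      smul_eq_mul, mul_one] at h
    exact hτ h
  · by_cases hcls : IsSquare (τ * Q u)
    · have h := hcl u huU hQu hcls
      rw [Cfsg.Agent.Lib.Helper25.MaxTS.polar_self] at h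
      exact (mul_ne_zero h2 hQu) h
    · have hnd := ndOn_inf_ker h2 hU huU hQu
      have hfr := finrank_inf_ker_ge Q U u
      have hne' : τ - Q u ≠ 0 := by
        intro h
        apply hcls
        rw [← sub_eq_zero.mp h]
        exact ⟨τ, rfl⟩
      obtain ⟨p, hp, hQp⟩ := Cfsg.Agent.Lib.Helper25.OGeom.universal Q hnd (by omega) (τ - Q u)
      obtain ⟨hpU, hpu⟩ := hp
      rw [SetLike.mem_coe, LinearMap.mem_ker, polarBilin_apply_apply] at hpu
      have hQc : Q (u + p) = τ := by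
        rw [Cfsg.Agent.Lib.Helper25.MaxTS.Q_add, hpu, hQp]
        ring
      have h := hcl (u + p) (U.add_mem huU hpU) (by rw [hQc]; exact hτ)
        (by rw [hQc]; exact ⟨τ, rfl⟩)
      rw [polar_add_right, hpu, add_zero, Cfsg.Agent.Lib.Helper25.MaxTS.polar_self] at h
      exact (mul_ne_zero h2 hQu) h

/-- a class-`τ` vector with non-zero components in two orthogonal nondegenerate spaces -/
theorem exists_mixed_class {A B : Submodule F (ι → F)} (hA : NdOn Q A)
    (hB : NdOn Q B) (horth : ∀ a ∈ A, ∀ b ∈ B, polar Q a b = 0) (hB0 : B ≠ ⊥)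
    (hdA : 2 ≤ finrank F A) (hex : 5 ≤ Fintype.card F ∨ 3 ≤ finrank F A) {τ : F} (hτ : τ ≠ 0) :
    ∃ a ∈ A, ∃ b ∈ B, a ≠ 0 ∧ b ≠ 0 ∧ Q (a + b) ≠ 0 ∧ IsSquare (τ * Q (a + b)) := by
  classical
  obtain ⟨b, hbB, hQb⟩ := exists_nonsing_of_ndOn hB hB0
  have hb0 : b ≠ 0 := by
    rintro rfl
    exact hQb (QuadraticMap.map_zero Q)
  -- a value `t₀` of the class and a non-zero `a ∈ A` with `Q a = t₀ - Q b`
  have gen : ∀ t₀ : F, t₀ - Q b ≠ 0 → ∃ a ∈ A, a ≠ 0 ∧ Q a = t₀ - Q b := by
    intro t₀ hne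
    obtain ⟨a, haA, hQa⟩ := Cfsg.Agent.Lib.Helper25.OGeom.universal Q hA hdA (t₀ - Q b)
    refine ⟨a, haA, ?_, hQa⟩
    rintro rfl
    rw [QuadraticMap.map_zero] at hQa
    exact hne hQa.symm
  have key : ∃ t₀ : F, t₀ ≠ 0 ∧ IsSquare (τ * t₀) ∧ ∃ a ∈ A, a ≠ 0 ∧ Q a = t₀ - Q b := by
    by_cases hτb : τ = Q b
    · rcases hex with h5 | h3
      · obtain ⟨l, hl⟩ : ∃ l : F, l ∉ ({0, 1, -1} : Finset F) := by
          by_contra hcon
          push Not at hcon
          have h5' : ({0, 1, -1} : Finset F) = Finset.univ := Finset.eq_univ_iff_forall.2 hcon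
          have h6 := Finset.card_le_three (a := (0 : F)) (b := 1) (c := -1)
          rw [h5', Finset.card_univ] at h6
          omega
        simp only [Finset.mem_insert, Finset.mem_singleton, not_or] at hl
        obtain ⟨hl0, hl1, hl2⟩ := hl
        have hne : τ * l ^ 2 - Q b ≠ 0 := by
          rw [← hτb]
          intro h
          have h' : τ * ((l - 1) * (l + 1)) = 0 := by linear_combination h
          rcases mul_eq_zero.1 h' with h'' | h''
          · exact hτ h''
          · rcases mul_eq_zero.1 h'' with h''' | h'''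
            · exact hl1 (sub_eq_zero.1 h''')
            · exact hl2 (eq_neg_of_add_eq_zero_left h''')
        obtain ⟨a, haA, ha0, hQa⟩ := gen (τ * l ^ 2) hne
        exact ⟨τ * l ^ 2, mul_ne_zero hτ (pow_ne_zero 2 hl0), ⟨τ * l, by ring⟩, a, haA, ha0, hQa⟩
      · obtain ⟨a, haA, ha0, hQa⟩ := exists_singular_in Q A h3
        exact ⟨τ, hτ, ⟨τ, rfl⟩, a, haA, ha0, by rw [hQa, hτb, sub_self]⟩
    · obtain ⟨a, haA, ha0, hQa⟩ := gen τ (sub_ne_zero.mpr hτb)
      exact ⟨τ, hτ, ⟨τ, rfl⟩, a, haA, ha0, hQa⟩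
  obtain ⟨t₀, ht0, hsq, a, haA, ha0, hQa⟩ := key
  have hQab : Q (a + b) = t₀ := by
    rw [Cfsg.Agent.Lib.Helper25.MaxTS.Q_add, horth a haA b hbB, hQa]
    ring
  exact ⟨a, haA, b, hbB, ha0, hb0, by rw [hQab]; exact ht0, by rw [hQab]; exact hsq⟩

/-- the part of `U` orthogonal to `R` -/
def perpIn (Q : QuadraticForm F (ι → F)) (U R : Submodule F (ι → F)) : Submodule F (ι → F) where
  carrier := {x | x ∈ U ∧ ∀ r ∈ R, polar Q x r = 0}
  add_mem' := by
    rintro a b ⟨ha, ha'⟩ ⟨hb, hb'⟩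
    refine ⟨U.add_mem ha hb, fun r hr => ?_⟩
    rw [polar_add_left, ha' r hr, hb' r hr, add_zero]
  zero_mem' := ⟨U.zero_mem, fun r _ => polar_zero_left _ _⟩
  smul_mem' := by
    rintro c a ⟨ha, ha'⟩
    refine ⟨U.smul_mem c ha, fun r hr => ?_⟩
    rw [polar_smul_left, ha' r hr, smul_zero]

theorem mem_perpIn {U R : Submodule F (ι → F)} {x : ι → F} :
    x ∈ perpIn Q U R ↔ x ∈ U ∧ ∀ r ∈ R, polar Q x r = 0 := Iff.rfl

/-- L2 : no proper orthogonal splitting of `U` catches all vectors of a square class (this is where `(q,k) ≠ (3,3)`) -/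
theorem no_split (h2 : (2 : F) ≠ 0) {U : Submodule F (ι → F)} (hU : NdOn Q U)
    (h3 : 3 ≤ finrank F U) (hex : 5 ≤ Fintype.card F ∨ 5 ≤ finrank F U) {τ : F} (hτ : τ ≠ 0)
    {R : Submodule F (ι → F)} (hR : R ≤ U)
    (h : ∀ c ∈ U, Q c ≠ 0 → IsSquare (τ * Q c) → c ∈ R ∨ ∀ r ∈ R, polar Q c r = 0) :
    R = ⊥ ∨ R = U := by
  by_contra hcon
  push Not at hcon
  obtain ⟨hR0, hRU⟩ := hcon
  have hR'U : perpIn Q U R ≤ U := fun x hx => hx.1
  have hsup : R ⊔ perpIn Q U R = U := by
    apply le_antisymm (sup_le hR hR'U)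
    have hsp := span_class h2 hU h3 hτ
    intro x hx
    rw [← hsp] at hx
    revert x
    apply Submodule.span_le.2
    rintro c ⟨hcU, hQc, hsq⟩
    rcases h c hcU hQc hsq with h1 | h1
    · exact Submodule.mem_sup_left h1
    · exact Submodule.mem_sup_right ⟨hcU, h1⟩
  have hinf : R ⊓ perpIn Q U R = ⊥ := by
    rw [eq_bot_iff]
    rintro x ⟨hxR, hxR'⟩
    rw [Submodule.mem_bot]
    apply hU x (hR hxR)
    intro w hw
    rw [← hsup] at hw
    obtain ⟨r, hr, r', hr', rfl⟩ := Submodule.mem_sup.1 hw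
    rw [polar_add_right, hxR'.2 r hr, polar_comm, hr'.2 x hxR, add_zero]
  have hndR : NdOn Q R := by
    intro x hx hall
    have hx' : x ∈ R ⊓ perpIn Q U R := ⟨hx, hR hx, hall⟩
    rw [hinf] at hx'
    exact (Submodule.mem_bot F).1 hx'
  have hndR' : NdOn Q (perpIn Q U R) := by
    intro x hx hall
    apply hU x hx.1
    intro w hw
    rw [← hsup] at hw
    obtain ⟨r, hr, r', hr', rfl⟩ := Submodule.mem_sup.1 hw
    rw [polar_add_right, hx.2 r hr, hall r' hr', add_zero]
  have hR'0 : perpIn Q U R ≠ ⊥ := by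
    intro h0
    apply hRU
    rw [← hsup, h0, sup_bot_eq]
  have hfr := Submodule.finrank_sup_add_finrank_inf_eq R (perpIn Q U R)
  rw [hsup, hinf, finrank_bot, add_zero] at hfr
  have horth : ∀ a ∈ R, ∀ b ∈ perpIn Q U R, polar Q a b = 0 := fun a ha b hb => by
    rw [polar_comm]
    exact hb.2 a ha
  have horth' : ∀ a ∈ perpIn Q U R, ∀ b ∈ R, polar Q a b = 0 := fun a ha b hb => ha.2 b hb
  have hposR : 1 ≤ finrank F R := by
    obtain ⟨x, hx, hx0⟩ := (Submodule.ne_bot_iff R).1 hR0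
    exact Module.finrank_pos_iff_exists_ne_zero.2 ⟨⟨x, hx⟩, fun hh => hx0 (congrArg Subtype.val hh)⟩
  have hposR' : 1 ≤ finrank F (perpIn Q U R) := by
    obtain ⟨x, hx, hx0⟩ := (Submodule.ne_bot_iff _).1 hR'0
    exact Module.finrank_pos_iff_exists_ne_zero.2 ⟨⟨x, hx⟩, fun hh => hx0 (congrArg Subtype.val hh)⟩
  rcases le_total (finrank F (perpIn Q U R)) (finrank F R) with hle | hle
  · obtain ⟨a, ha, b, hb, ha0, hb0, hQ, hsq⟩ := exists_mixed_class hndR hndR' horth hR'0
      (by omega) (by rcases hex with h5 | h5; · left; exact h5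
                     · right; omega) hτ
    rcases h (a + b) (U.add_mem (hR ha) hb.1) hQ hsq with h1 | h1
    · have hb' : b ∈ R ⊓ perpIn Q U R := by
        refine ⟨?_, hb⟩
        have := R.sub_mem h1 ha
        rwa [add_sub_cancel_left] at this
      rw [hinf] at hb'
      exact hb0 ((Submodule.mem_bot F).1 hb')
    · have hab : a + b ∈ perpIn Q U R := ⟨U.add_mem (hR ha) hb.1, h1⟩
      have ha' : a ∈ R ⊓ perpIn Q U R := by
        refine ⟨ha, ?_⟩
        have := (perpIn Q U R).sub_mem hab hb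
        rwa [add_sub_cancel_right] at this
      rw [hinf] at ha'
      exact ha0 ((Submodule.mem_bot F).1 ha')
  · obtain ⟨a, ha, b, hb, ha0, hb0, hQ, hsq⟩ := exists_mixed_class hndR' hndR horth' hR0
      (by omega) (by rcases hex with h5 | h5; · left; exact h5
                     · right; omega) hτ
    rcases h (a + b) (U.add_mem ha.1 (hR hb)) hQ hsq with h1 | h1
    · have ha' : a ∈ R ⊓ perpIn Q U R := by
        refine ⟨?_, ha⟩
        have := R.sub_mem h1 hb
        rwa [add_sub_cancel_right] at this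
      rw [hinf] at ha'
      exact ha0 ((Submodule.mem_bot F).1 ha')
    · have hab : a + b ∈ perpIn Q U R := ⟨U.add_mem ha.1 (hR hb), h1⟩
      have hb' : b ∈ R ⊓ perpIn Q U R := by
        refine ⟨hb, ?_⟩
        have := (perpIn Q U R).sub_mem hab ha
        rwa [add_sub_cancel_left] at this
      rw [hinf] at hb'
      exact hb0 ((Submodule.mem_bot F).1 hb')

end Cfsg.Agent.Lib.Helper23.OC2Leaf
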