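import Mathlib
import Cfsg.Agent.Lib.Helper23.HeightZeroH
import Cfsg.Agent.Lib.Helper23.DefectClassCriterion

set_option autoImplicit false

namespace Cfsg.Agent.Lib.Helper23

open Cfsg Cfsg.Agent.CharLib Cfsg.Agent.Lib.Helper24 Cfsg.Agent.Lib.Helper6
open scoped ComplexConjugate

universe u

section orbitSum

theorem orbit_sum_eq {P X : Type*} [Group P] [Fintype X] [MulAction P X]
    (F : X → ℂ) (hF : ∀ (g : P) (x : X), F (g • x) = F x) :
    ∑ x, F x = ∑ᶠ q : MulAction.orbitRel.Quotient P X,
      ((MulAction.stabilizer P q.out).index : ℂ) * F q.out := by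
  classical
  haveI : Fintype (MulAction.orbitRel.Quotient P X) := Fintype.ofFinite _
  rw [finsum_eq_sum_of_fintype]
  rw [← Fintype.sum_fiberwise (fun x : X => (Quotient.mk'' x : MulAction.orbitRel.Quotient P X)) F]
  apply Finset.sum_congr rfl
  intro q _
  have h1 : ∀ x : {x : X // (Quotient.mk'' x : MulAction.orbitRel.Quotient P X) = q},
      F x.1 = F q.out := by
    intro x
    have h2 : (Quotient.mk'' x.1 : MulAction.orbitRel.Quotient P X) = Quotient.mk'' q.out := by
      rw [x.2]; exact (Quotient.out_eq' q).symm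
    have h3 := Quotient.exact' h2
    rw [MulAction.orbitRel_apply] at h3
    obtain ⟨g, hg⟩ := h3
    rw [← hg]
    exact hF g _
  rw [Finset.sum_congr rfl (fun x _ => h1 x), Finset.sum_const, Finset.card_univ, nsmul_eq_mul]
  congr 1
  rw [MulAction.index_stabilizer, ← Nat.card_eq_fintype_card, ← Nat.card_coe_set_eq]
  congr 1
  apply Nat.card_congr
  refine Equiv.subtypeEquivRight ?_
  intro x
  rw [MulAction.mem_orbit_iff]
  constructor
  · intro hx
    have h2 : (Quotient.mk'' x : MulAction.orbitRel.Quotient P X) = Quotient.mk'' q.out := by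
      rw [hx]; exact (Quotient.out_eq' q).symm
    have h3 := Quotient.exact' h2
    rw [MulAction.orbitRel_apply] at h3
    exact h3
  · rintro ⟨g, hg⟩
    rw [← hg, ← Quotient.out_eq' q]
    apply Quotient.sound'
    rw [MulAction.orbitRel_apply]
    exact ⟨g, by rw [Quotient.out_eq' q]⟩

theorem exists_of_orbit_sum {M : Ideal AlgInt} {p : ℕ} [hpp : Fact p.Prime] (hM : IsPModular p M)
    {P X : Type*} [Group P] [Finite P] [Fintype X] [MulAction P X]
    (a d : ℕ) (hPa : Nat.card P = p ^ a) (hd : d ≤ a)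
    (F : X → ℂ) (hF : ∀ (g : P) (x : X), F (g • x) = F x) (hFR : ∀ x, MemLocalRing M (F x))
    (hstab : ∀ x : X, Nat.card (MulAction.stabilizer P x) ≤ p ^ d)
    (hsum : ¬ MemLocalIdeal M ((∑ x, F x) / (p : ℂ) ^ (a - d))) :
    ∃ x : X, Nat.card (MulAction.stabilizer P x) = p ^ d ∧ ¬ MemLocalIdeal M (F x) := by
  classical
  have hprime : M.IsPrime := isPrime_of_isPModular hM
  have hp : p.Prime := hpp.out
  have hpI : MemLocalIdeal M (p : ℂ) := memLocalIdeal_natCast_prime hM
  have hp0 : (p : ℂ) ≠ 0 := Nat.cast_ne_zero.mpr hp.ne_zero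
  by_contra hcon
  push Not at hcon
  apply hsum
  have : Fintype (MulAction.orbitRel.Quotient P X) := Fintype.ofFinite _
  rw [orbit_sum_eq F hF, finsum_eq_sum_of_fintype, Finset.sum_div]
  apply sum_memLocalIdeal
  intro q _
  set x := q.out with hx
  obtain ⟨s, hs, hcard⟩ := (Nat.dvd_prime_pow hp).mp
    (hPa ▸ Subgroup.card_subgroup_dvd_card (MulAction.stabilizer P x))
  have hsd : s ≤ d := by
    have := hstab x
    rw [hcard] at this
    exact (Nat.pow_le_pow_iff_right hp.one_lt).mp this
  have hidx : (MulAction.stabilizer P x).index = p ^ (a - s) := by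
    have h1 := Subgroup.index_mul_card (MulAction.stabilizer P x)
    rw [hcard, hPa] at h1
    have h2 : p ^ a = p ^ (a - s) * p ^ s := by rw [← pow_add]; congr 1; omega
    rw [h2] at h1
    exact Nat.eq_of_mul_eq_mul_right (pow_pos hp.pos s) h1
  rw [hidx]
  have h3 : ((p ^ (a - s) : ℕ) : ℂ) * F x / (p : ℂ) ^ (a - d) = (p : ℂ) ^ (d - s) * F x := by
    have h4 : a - s = (a - d) + (d - s) := by omega
    rw [Nat.cast_pow, h4, pow_add]
    field_simp
  rw [h3]
  rcases Nat.eq_or_lt_of_le hsd with h5 | h5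
  · have h6 := hcon x (by rw [hcard, h5])
    rw [h5, Nat.sub_self, pow_zero, one_mul]
    exact h6
  · have h7 : (p : ℂ) ^ (d - s) = (p : ℂ) * (p : ℂ) ^ (d - s - 1) := by
      rw [← pow_succ']; congr 1; omega
    rw [h7, mul_assoc]
    apply memLocalIdeal_mul_right hpI
    apply memLocalRing_mul _ (hFR x)
    have := memLocalRing_natCast (M := M) (p ^ (d - s - 1))
    rwa [Nat.cast_pow] at this

end orbitSum

end Cfsg.Agent.Lib.Helper23
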