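import Mathlib
import Cfsg.Agent.Lib.Helper23.GreenOrbit
import Cfsg.Agent.Lib.Helper6.InducedDefect
import Cfsg.Agent.Lib.Helper23.HeightZeroD
import Cfsg.Agent.Lib.Helper23.DefectClassValues

set_option autoImplicit false

namespace Cfsg.Agent.Lib.Helper23

open Cfsg Cfsg.Agent.CharLib Cfsg.Agent.Lib.Helper24 Cfsg.Agent.Lib.Helper6
open scoped ComplexConjugate

universe u

section greenTau

variable {G : Type u} [Group G] [Fintype G] {M : Ideal AlgInt} {p : ℕ} [hpp : Fact p.Prime]

omit hpp in
theorem blockCoeff_singleton (χ : IrrCharacter G) (g : G) :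
    blockCoeff ({χ} : Set (IrrCharacter G)) g =
      (Nat.card G : ℂ)⁻¹ * ((χ : G → ℂ) 1 * conj ((χ : G → ℂ) g)) := by
  unfold blockCoeff
  rw [finsum_mem_singleton]

open Classical in
/-- Expansion of `K̂ e_B` in terms of the primitive central idempotents. -/
theorem conv_classInd_blockCoeff [Fintype (IrrCharacter G)] (B : Set (IrrCharacter G)) (y₀ : G) :
    conv (classInd y₀) (blockCoeff B) =
      ∑ χ : IrrCharacter G, (if χ ∈ B then centralChar (χ : G → ℂ) y₀ else 0) •
        blockCoeff ({χ} : Set (IrrCharacter G)) := by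
  apply eq_of_omegaFun_eq
  · exact conv_isClassFunction (classInd_isClassFunction y₀) (blockCoeff_isClassFunction B)
  · intro x h
    rw [Finset.sum_apply, Finset.sum_apply]
    apply Finset.sum_congr rfl
    intro χ _
    rw [Pi.smul_apply, Pi.smul_apply, blockCoeff_isClassFunction _ x h]
  · intro ψ
    rw [omegaFun_conv ψ (classInd_isClassFunction y₀) (blockCoeff_isClassFunction B),
      omegaFun_classInd, omegaFun_blockCoeff, omegaFun_sum]
    have : ∀ χ : IrrCharacter G, omegaFun (ψ : G → ℂ)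
        ((if χ ∈ B then centralChar (χ : G → ℂ) y₀ else 0) •
          blockCoeff ({χ} : Set (IrrCharacter G))) =
        if χ = ψ then (if ψ ∈ B then centralChar (ψ : G → ℂ) y₀ else 0) else 0 := by
      intro χ
      rw [omegaFun_smul, omegaFun_blockCoeff]
      by_cases h : χ = ψ
      · subst h
        simp
      · have : ψ ∉ ({χ} : Set (IrrCharacter G)) := fun h' => h (Set.mem_singleton_iff.mp h').symm
        rw [if_neg this, if_neg h, mul_zero]
    rw [Finset.sum_congr rfl (fun χ _ => this χ), Finset.sum_ite_eq' Finset.univ ψ]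
    simp only [Finset.mem_univ, if_true]
    split_ifs <;> simp

open Classical in
/-- `τ(K̂ e_B) / p^{a-d}` is a unit, for a defect class `K` of `B` (`τ` = sum of coefficients over a
Sylow `p`-subgroup). -/
theorem tau_not_memLocalIdeal [Fintype (IrrCharacter G)] (hM : IsPModular p M)
    (χ₀ : IrrCharacter G) (y₀ : G)
    (hy₀ : ¬ MemLocalIdeal M (centralChar (χ₀ : G → ℂ) y₀)) (P : Sylow p G)
    [Fintype (P : Subgroup G)] :
    ¬ MemLocalIdeal M ((∑ w : (P : Subgroup G),
      conv (classInd y₀) (blockCoeff (blockOf M (χ₀ : G → ℂ))) (w : G)) /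
        (p : ℂ) ^ (minVal p (blockOf M (χ₀ : G → ℂ)))) := by
  have hprime : M.IsPrime := isPrime_of_isPModular hM
  have hp : p.Prime := hpp.out
  set B := blockOf M (χ₀ : G → ℂ) with hB
  have hBblock : IsPBlock M B := ⟨χ₀, rfl⟩
  set e := minVal p B with he
  set a := (Nat.card G).factorization p with ha
  have hcardP : Nat.card (P : Subgroup G) = p ^ a := P.card_eq_multiplicity
  have hp0 : (p : ℂ) ≠ 0 := Nat.cast_ne_zero.mpr hp.ne_zero
  have hpe0 : ((p : ℂ) ^ e) ≠ 0 := pow_ne_zero _ hp0
  -- degrees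
  set k : IrrCharacter G → ℕ := fun χ => charDegree (χ : G → ℂ) / p ^ e with hk
  have hkB : ∀ χ ∈ B, charDegree (χ : G → ℂ) = p ^ e * k χ := by
    intro χ hχ
    have h1 : p ^ e ∣ charDegree (χ : G → ℂ) :=
      (hp.pow_dvd_iff_le_factorization (irr_charDegree_pos χ).ne').mpr (minVal_le hχ)
    rw [hk]
    exact (Nat.mul_div_cancel' h1).symm
  -- S'
  set S' : ℕ := ∑ χ : IrrCharacter G, (if χ ∈ B then k χ * sylowMult P χ else 0) with hS'
  have hS'p : ¬ p ∣ S' := by
    have h1 := sum_degree_sq_eq hM P χ₀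
    have h2 := factorization_sum_degree_sq (p := p) hM hBblock
    rw [← hB] at h1
    have h3 : ∑ ψ : IrrCharacter G, (if ψ ∈ B then charDegree (ψ : G → ℂ) * sylowMult P ψ else 0) =
        p ^ e * S' := by
      rw [hS', Finset.mul_sum]
      apply Finset.sum_congr rfl
      intro χ _
      by_cases hχ : χ ∈ B
      · rw [if_pos hχ, if_pos hχ, hkB χ hχ]; ring
      · rw [if_neg hχ, if_neg hχ, mul_zero]
    rw [h3] at h1
    rw [h1] at h2
    intro hdvd
    have hS0 : S' ≠ 0 := by
      intro h0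
      rw [h0, mul_zero, mul_zero] at h1
      have hpos : 0 < ∑ ψ : IrrCharacter G,
          (if ψ ∈ B then charDegree (ψ : G → ℂ) ^ 2 else 0) := by
        apply Finset.sum_pos'
        · intro _ _; positivity
        · refine ⟨χ₀, Finset.mem_univ _, ?_⟩
          rw [if_pos (mem_blockOf_self χ₀)]
          exact pow_pos (irr_charDegree_pos χ₀) 2
      omega
    have h4 : (p ^ a * (p ^ e * S')).factorization p = a + e + S'.factorization p := by
      rw [Nat.factorization_mul (pow_ne_zero _ hp.ne_zero)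
        (mul_ne_zero (pow_ne_zero _ hp.ne_zero) hS0),
        Nat.factorization_mul (pow_ne_zero _ hp.ne_zero) hS0]
      simp only [Finsupp.coe_add, Pi.add_apply, Nat.Prime.factorization_pow hp,
        Finsupp.single_eq_same]
      ring
    rw [h4] at h2
    have h5 : 1 ≤ S'.factorization p :=
      (hp.dvd_iff_one_le_factorization hS0).mp hdvd
    omega
  -- the computation
  have hcomp : ∑ w : (P : Subgroup G), conv (classInd y₀) (blockCoeff B) (w : G) =
      ((p ^ a : ℕ) : ℂ) / (Nat.card G : ℂ) * ((p : ℂ) ^ e *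
        ∑ χ : IrrCharacter G, (if χ ∈ B then
          centralChar (χ : G → ℂ) y₀ * ((k χ * sylowMult P χ : ℕ) : ℂ) else 0)) := by
    rw [conv_classInd_blockCoeff]
    simp only [Finset.sum_apply, Pi.smul_apply, smul_eq_mul]
    rw [Finset.sum_comm, Finset.mul_sum, Finset.mul_sum]
    apply Finset.sum_congr rfl
    intro χ _
    by_cases hχ : χ ∈ B
    · rw [if_pos hχ, if_pos hχ, ← Finset.mul_sum]
      simp only [blockCoeff_singleton]
      rw [← Finset.mul_sum, ← Finset.mul_sum, ← map_sum, sylowMult_spec, hcardP,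
        irr_apply_one χ, hkB χ hχ]
      simp only [map_mul, map_natCast, Nat.cast_mul, Nat.cast_pow, map_pow]
      ring
    · rw [if_neg hχ, if_neg hχ]
      simp
  rw [hcomp]
  -- reduce
  set T : ℂ := ∑ χ : IrrCharacter G, (if χ ∈ B then
          centralChar (χ : G → ℂ) y₀ * ((k χ * sylowMult P χ : ℕ) : ℂ) else 0) with hT
  have hratio : ((p ^ a : ℕ) : ℂ) / (Nat.card G : ℂ) =
      ((1 : ℕ) : ℂ) / ((Nat.card G / p ^ a : ℕ) : ℂ) := by
    have hGc : p ^ a * (Nat.card G / p ^ a) = Nat.card G := Nat.ordProj_mul_ordCompl_eq_self _ p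
    have hk0 : ((Nat.card G / p ^ a : ℕ) : ℂ) ≠ 0 := by
      have : Nat.card G / p ^ a ≠ 0 := by
        rintro h0; rw [h0, mul_zero] at hGc; exact Nat.card_pos.ne' hGc.symm
      exact_mod_cast this
    have hG0 : (Nat.card G : ℂ) ≠ 0 := by exact_mod_cast Nat.card_pos.ne'
    rw [div_eq_div_iff hG0 hk0, ← Nat.cast_mul, ← Nat.cast_mul, hGc, one_mul]
  have hunit := natCast_div_unit hM (k := 1) (c := Nat.card G / p ^ a)
    (by rw [Nat.dvd_one]; exact hp.one_lt.ne') (Nat.not_dvd_ordCompl hp Nat.card_pos.ne')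
  have hTR : MemLocalRing M T ∧ ¬ MemLocalIdeal M T := by
    have hsplit : T = centralChar (χ₀ : G → ℂ) y₀ * (S' : ℂ) +
        ∑ χ : IrrCharacter G, (if χ ∈ B then
          (centralChar (χ : G → ℂ) y₀ - centralChar (χ₀ : G → ℂ) y₀) *
            ((k χ * sylowMult P χ : ℕ) : ℂ) else 0) := by
      rw [hT, hS', Nat.cast_sum, Finset.mul_sum, ← Finset.sum_add_distrib]
      apply Finset.sum_congr rfl
      intro χ _
      by_cases hχ : χ ∈ B
      · rw [if_pos hχ, if_pos hχ, if_pos hχ]; ring
      · rw [if_neg hχ, if_neg hχ, if_neg hχ]; simp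
    have h2 : MemLocalIdeal M (∑ χ : IrrCharacter G, (if χ ∈ B then
          (centralChar (χ : G → ℂ) y₀ - centralChar (χ₀ : G → ℂ) y₀) *
            ((k χ * sylowMult P χ : ℕ) : ℂ) else 0)) := by
      apply sum_memLocalIdeal
      intro χ _
      by_cases hχ : χ ∈ B
      · rw [if_pos hχ]
        apply memLocalIdeal_mul_right _ (memLocalRing_natCast _)
        have := hχ y₀
        have h3 := memLocalIdeal_neg this
        rwa [neg_sub] at h3
      · rw [if_neg hχ]
        exact memLocalIdeal_zero hprime.one_notMem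
    have h1R : MemLocalRing M (centralChar (χ₀ : G → ℂ) y₀ * (S' : ℂ)) :=
      memLocalRing_mul (memLocalRing_centralChar χ₀ y₀) (memLocalRing_natCast _)
    have hS'u : ¬ MemLocalIdeal M (S' : ℂ) := by
      have := (natCast_div_unit hM (k := S') (c := 1) hS'p
        (by rw [Nat.dvd_one]; exact hp.one_lt.ne')).2
      simpa using this
    have h1U : ¬ MemLocalIdeal M (centralChar (χ₀ : G → ℂ) y₀ * (S' : ℂ)) :=
      not_memLocalIdeal_mul (memLocalRing_centralChar χ₀ y₀) (memLocalRing_natCast _) hy₀ hS'u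
    constructor
    · rw [hsplit]
      exact memLocalRing_add h1R (memLocalRing_of_memLocalIdeal h2)
    · rw [hsplit]
      intro h
      apply h1U
      have := memLocalIdeal_sub h h2
      rwa [add_sub_cancel_right] at this
  have hfinal : ((p ^ a : ℕ) : ℂ) / (Nat.card G : ℂ) * ((p : ℂ) ^ e * T) / (p : ℂ) ^ e =
      ((1 : ℕ) : ℂ) / ((Nat.card G / p ^ a : ℕ) : ℂ) * T := by
    rw [hratio]
    field_simp
  rw [hfinal]
  exact not_memLocalIdeal_mul hunit.1 hTR.1 hunit.2 hTR.2

end greenTau

end Cfsg.Agent.Lib.Helper23
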