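import Mathlib
import Cfsg.Agent.Lib.Helper23.GreenTau
import Cfsg.Agent.Lib.Helper23.BlockCount

set_option autoImplicit false

namespace Cfsg.Agent.Lib.Helper23

open Cfsg Cfsg.Agent.CharLib Cfsg.Agent.Lib.Helper24 Cfsg.Agent.Lib.Helper6
open scoped ComplexConjugate

universe u

section greenMain

variable {G : Type u} [Group G] [Fintype G] {M : Ideal AlgInt} {p : ℕ} [hpp : Fact p.Prime]

/-- conjugation action of a subgroup on a conjugacy class (as a subtype). -/
@[reducible] def conjClassAction (P : Subgroup G) (y₀ : G) :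
    MulAction P {y : G // IsConj y₀ y} where
  smul u y := ⟨(u : G) * y.1 * (u : G)⁻¹, y.2.trans (isConj_iff.mpr ⟨(u : G), rfl⟩)⟩
  one_smul y := by
    apply Subtype.ext
    show ((1 : P) : G) * y.1 * ((1 : P) : G)⁻¹ = y.1
    simp
  mul_smul u v y := by
    apply Subtype.ext
    show ((u * v : P) : G) * y.1 * ((u * v : P) : G)⁻¹ =
      (u : G) * ((v : G) * y.1 * (v : G)⁻¹) * (u : G)⁻¹
    rw [Subgroup.coe_mul]
    group

omit [Fintype G] in
theorem conjClassAction_smul (P : Subgroup G) (y₀ : G) (u : P) (y : {y : G // IsConj y₀ y}) :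
    letI := conjClassAction P y₀
    ((u • y : {y : G // IsConj y₀ y}) : G) = (u : G) * y.1 * (u : G)⁻¹ := rfl

omit [Fintype G] in
theorem card_stabilizer_conjClassAction [Finite G] (P : Subgroup G) (y₀ : G)
    (y : {y : G // IsConj y₀ y}) :
    letI := conjClassAction P y₀
    Nat.card (MulAction.stabilizer P y) =
      Nat.card (P ⊓ Subgroup.centralizer ({y.1} : Set G) : Subgroup G) := by
  letI := conjClassAction P y₀
  have h1 : (MulAction.stabilizer P y).map P.subtype =
      P ⊓ Subgroup.centralizer ({y.1} : Set G) := by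
    ext u
    rw [Subgroup.mem_map, Subgroup.mem_inf, Subgroup.mem_centralizer_singleton_iff]
    constructor
    · rintro ⟨v, hv, rfl⟩
      refine ⟨v.2, ?_⟩
      rw [MulAction.mem_stabilizer_iff] at hv
      have h2 := congrArg Subtype.val hv
      rw [conjClassAction_smul] at h2
      show (v : G) * y.1 = y.1 * (v : G)
      calc (v : G) * y.1 = ((v : G) * y.1 * (v : G)⁻¹) * (v : G) := by group
        _ = y.1 * (v : G) := by rw [h2]
    · rintro ⟨huP, huc⟩
      refine ⟨⟨u, huP⟩, ?_, rfl⟩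
      rw [MulAction.mem_stabilizer_iff]
      apply Subtype.ext
      rw [conjClassAction_smul]
      show u * y.1 * u⁻¹ = y.1
      rw [huc]
      group
  rw [← h1, Subgroup.card_map_of_injective (Subgroup.subtype_injective _)]

/-- twisted action of `Q ≤ P ∩ y⁻¹Py` on `P`: `u • w = (y u y⁻¹) w u⁻¹`. -/
@[reducible] def twistedAction (P Q : Subgroup G) (y : G) (hQP : Q ≤ P)
    (hQy : ∀ u ∈ Q, y * u * y⁻¹ ∈ P) : MulAction Q P where
  smul u w := ⟨y * (u : G) * y⁻¹ * (w : G) * (u : G)⁻¹,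
    P.mul_mem (P.mul_mem (hQy u u.2) w.2) (P.inv_mem (hQP u.2))⟩
  one_smul w := by
    apply Subtype.ext
    show y * ((1 : Q) : G) * y⁻¹ * (w : G) * ((1 : Q) : G)⁻¹ = w
    simp
  mul_smul u v w := by
    apply Subtype.ext
    show y * ((u * v : Q) : G) * y⁻¹ * (w : G) * ((u * v : Q) : G)⁻¹ =
      y * (u : G) * y⁻¹ * (y * (v : G) * y⁻¹ * (w : G) * (v : G)⁻¹) * (u : G)⁻¹
    rw [Subgroup.coe_mul]
    group

omit [Fintype G] in
theorem twistedAction_smul (P Q : Subgroup G) (y : G) (hQP : Q ≤ P)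
    (hQy : ∀ u ∈ Q, y * u * y⁻¹ ∈ P) (u : Q) (w : P) :
    letI := twistedAction P Q y hQP hQy
    ((u • w : P) : G) = y * (u : G) * y⁻¹ * (w : G) * (u : G)⁻¹ := rfl

omit [Fintype G] in
theorem card_le_of_le_centralizer [Finite G] (P : Sylow p G) {Q : Subgroup G}
    (hQP : Q ≤ (P : Subgroup G)) {z : G} (hQz : Q ≤ Subgroup.centralizer ({z} : Set G)) {d : ℕ}
    (hz : (Nat.card (Subgroup.centralizer ({z} : Set G))).factorization p ≤ d) :
    Nat.card Q ≤ p ^ d := by
  have hp : p.Prime := hpp.out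
  obtain ⟨s, hs⟩ := (P.isPGroup'.to_le hQP).exists_card_eq
  rw [hs]
  apply Nat.pow_le_pow_right hp.pos
  have h1 : p ^ s ∣ Nat.card (Subgroup.centralizer ({z} : Set G)) := by
    rw [← hs]
    exact Subgroup.card_dvd_of_le hQz
  exact le_trans ((hp.pow_dvd_iff_le_factorization Nat.card_pos.ne').mp h1) hz

open Classical in
/-- Key step of Green's theorem: for a defect class `K` of `B` and a Sylow `p`-subgroup `P` there
is `y ∈ K` with `C_P(y)` of order `p^d` and `P ∩ y⁻¹Py = C_P(y)`. -/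
theorem green_aux (hM : IsPModular p M) (χ₀ : IrrCharacter G) (y₀ : G)
    (hy₀ : IsDefectClass M (blockOf M (χ₀ : G → ℂ)) y₀) (P : Sylow p G) :
    ∃ y : G, IsConj y₀ y ∧
      Nat.card ((P : Subgroup G) ⊓ Subgroup.centralizer ({y} : Set G) : Subgroup G) =
        p ^ blockDefect p (blockOf M (χ₀ : G → ℂ)) ∧
      (P : Subgroup G) ⊓ (P : Subgroup G).map (MulAut.conj y⁻¹).toMonoidHom =
        (P : Subgroup G) ⊓ Subgroup.centralizer ({y} : Set G) := by
  let _ := fintypeIrr G
  let _ : Fintype (P : Subgroup G) := Fintype.ofFinite _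
  have hprime : M.IsPrime := isPrime_of_isPModular hM
  have hp : p.Prime := hpp.out
  set B := blockOf M (χ₀ : G → ℂ) with hBdef
  have hB : IsPBlock M B := ⟨χ₀, rfl⟩
  set d := blockDefect p B with hd
  set a := (Nat.card G).factorization p with ha
  set e := minVal p B with he
  have hea : e ≤ a := minVal_le_factorization_card (p := p) ⟨χ₀, mem_blockOf_self χ₀⟩
  have hde : d = a - e := blockDefect_eq B
  have hda : d ≤ a := by omega
  have hade : a - d = e := by omega
  have hcardP : Nat.card (P : Subgroup G) = p ^ a := P.card_eq_multiplicity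
  have haC : IsClassFunction G (blockCoeff B) := blockCoeff_isClassFunction B
  have haR : ∀ g, MemLocalRing M (blockCoeff B g) := memLocalRing_blockCoeff_blockOf χ₀
  -- (F1)
  have hC0 : (Nat.card (Subgroup.centralizer ({y₀} : Set G))).factorization p = d := by
    obtain ⟨S⟩ : Nonempty (Sylow p (Subgroup.centralizer ({y₀} : Set G))) := inferInstance
    have hD : IsDefectGroup p M B ((S : Subgroup (Subgroup.centralizer ({y₀} : Set G))).map
        (Subgroup.centralizer ({y₀} : Set G)).subtype) := ⟨y₀, hy₀, S, rfl⟩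
    have h1 := card_defectGroup_eq hM B hB _ hD
    rw [Subgroup.card_map_of_injective (Subgroup.subtype_injective _), S.card_eq_multiplicity] at h1
    exact Nat.pow_right_injective hp.two_le h1
  have hCy : ∀ y : G, IsConj y₀ y →
      (Nat.card (Subgroup.centralizer ({y} : Set G))).factorization p = d := by
    intro y hy
    rw [← card_centralizer_eq_of_isConj' hy, hC0]
  -- first orbit argument
  letI act1 := conjClassAction (P : Subgroup G) y₀
  set F₁ : {y : G // IsConj y₀ y} → ℂ :=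
    fun y => ∑ w : (P : Subgroup G), blockCoeff B (y.1⁻¹ * (w : G)) with hF₁
  have hF₁inv : ∀ (u : (P : Subgroup G)) (y : {y : G // IsConj y₀ y}), F₁ (u • y) = F₁ y := by
    intro u y
    simp only [hF₁]
    rw [← Equiv.sum_comp (MulAut.conj u).toEquiv
      (fun w : (P : Subgroup G) => blockCoeff B ((u • y).1⁻¹ * (w : G)))]
    apply Finset.sum_congr rfl
    intro w _
    rw [conjClassAction_smul]
    have h1 : ((u : G) * y.1 * (u : G)⁻¹)⁻¹ * (((MulAut.conj u).toEquiv w : (P : Subgroup G)) : G) =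
        (u : G) * (y.1⁻¹ * (w : G)) * (u : G)⁻¹ := by
      show ((u : G) * y.1 * (u : G)⁻¹)⁻¹ * ((u * w * u⁻¹ : (P : Subgroup G)) : G) = _
      rw [Subgroup.coe_mul, Subgroup.coe_mul, Subgroup.coe_inv]
      group
    rw [h1, haC]
  have hF₁R : ∀ y, MemLocalRing M (F₁ y) := fun y => sum_memLocalRing _ _ (fun w _ => haR _)
  have hstab₁ : ∀ y : {y : G // IsConj y₀ y},
      Nat.card (MulAction.stabilizer (P : Subgroup G) y) ≤ p ^ d := by
    intro y
    rw [card_stabilizer_conjClassAction]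
    exact card_le_of_le_centralizer P inf_le_left inf_le_right (hCy y.1 y.2).le
  have hsum₁ : ∑ y : {y : G // IsConj y₀ y}, F₁ y =
      ∑ w : (P : Subgroup G), conv (classInd y₀) (blockCoeff B) (w : G) := by
    simp only [hF₁]
    rw [Finset.sum_comm]
    apply Finset.sum_congr rfl
    intro w _
    unfold conv classInd
    rw [← Finset.sum_subtype (Finset.univ.filter (fun g : G => IsConj y₀ g))
      (fun g => by simp) (fun g => blockCoeff B (g⁻¹ * (w : G))), Finset.sum_filter]
    apply Finset.sum_congr rfl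
    intro g _
    split_ifs <;> simp
  have hnot₁ : ¬ MemLocalIdeal M ((∑ y : {y : G // IsConj y₀ y}, F₁ y) / (p : ℂ) ^ (a - d)) := by
    rw [hsum₁, hade]
    exact tau_not_memLocalIdeal hM χ₀ y₀ (hy₀.2.2 χ₀ (mem_blockOf_self χ₀)) P
  obtain ⟨y₁, hy₁stab, hy₁F⟩ := exists_of_orbit_sum hM a d hcardP hda F₁ hF₁inv hF₁R hstab₁ hnot₁
  rw [card_stabilizer_conjClassAction] at hy₁stab
  -- second orbit argument
  set y : G := y₁.1 with hy
  set Q : Subgroup G := (P : Subgroup G) ⊓ (P : Subgroup G).map (MulAut.conj y⁻¹).toMonoidHom with hQ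
  have hQP : Q ≤ (P : Subgroup G) := inf_le_left
  have hQy : ∀ u ∈ Q, y * u * y⁻¹ ∈ (P : Subgroup G) := by
    intro u hu
    have h1 : u ∈ (P : Subgroup G).map (MulAut.conj y⁻¹).toMonoidHom := hu.2
    rw [Subgroup.mem_map] at h1
    obtain ⟨v, hv, rfl⟩ := h1
    have : y * ((MulAut.conj y⁻¹).toMonoidHom v) * y⁻¹ = v := by
      show y * (y⁻¹ * v * y⁻¹⁻¹) * y⁻¹ = v
      group
    rw [this]
    exact hv
  letI act2 := twistedAction (P : Subgroup G) Q y hQP hQy
  set F₂ : ↥(P : Subgroup G) → ℂ := fun w => blockCoeff B (y⁻¹ * (w : G)) with hF₂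
  have hF₂inv : ∀ (u : Q) (w : ↥(P : Subgroup G)), F₂ (u • w) = F₂ w := by
    intro u w
    simp only [hF₂]
    rw [twistedAction_smul]
    have h1 : y⁻¹ * (y * (u : G) * y⁻¹ * (w : G) * (u : G)⁻¹) =
        (u : G) * (y⁻¹ * (w : G)) * (u : G)⁻¹ := by group
    rw [h1, haC]
  obtain ⟨k, hk⟩ := (P.isPGroup'.to_le hQP).exists_card_eq
  have hnot₂ : ¬ MemLocalIdeal M ((∑ w : (P : Subgroup G), F₂ w) / (p : ℂ) ^ (k - k)) := by
    rw [Nat.sub_self, pow_zero, div_one]
    exact hy₁F
  obtain ⟨w₀, hw₀stab, hw₀F⟩ := exists_of_orbit_sum hM k k hk le_rfl F₂ hF₂inv (fun w => haR _)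
    (fun w => by rw [← hk]; exact Subgroup.card_le_card_group _) hnot₂
  have htop : MulAction.stabilizer Q w₀ = ⊤ := by
    rw [← Subgroup.card_eq_iff_eq_top, hw₀stab, hk]
  set z : G := y⁻¹ * (w₀ : G) with hz
  have hQz : Q ≤ Subgroup.centralizer ({z} : Set G) := by
    intro u hu
    rw [Subgroup.mem_centralizer_singleton_iff]
    have h1 : (⟨u, hu⟩ : Q) ∈ MulAction.stabilizer Q w₀ := by rw [htop]; trivial
    rw [MulAction.mem_stabilizer_iff] at h1
    have h2 := congrArg Subtype.val h1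
    rw [twistedAction_smul] at h2
    have h3 : u * z * u⁻¹ = z := by
      calc u * z * u⁻¹ = y⁻¹ * (y * u * y⁻¹ * (w₀ : G) * u⁻¹) := by rw [hz]; group
        _ = z := by rw [h2]
    calc u * z = (u * z * u⁻¹) * u := by group
      _ = z * u := by rw [h3]
  have hzd : (Nat.card (Subgroup.centralizer ({z} : Set G))).factorization p ≤ d :=
    le_blockDefect_of_blockCoeff hM χ₀ z hw₀F
  have hQcard : Nat.card Q ≤ p ^ d := card_le_of_le_centralizer P hQP hQz hzd
  have hEQ : (P : Subgroup G) ⊓ Subgroup.centralizer ({y} : Set G) ≤ Q := by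
    intro u hu
    refine ⟨hu.1, ?_⟩
    show u ∈ (P : Subgroup G).map (MulAut.conj y⁻¹).toMonoidHom
    rw [Subgroup.mem_map]
    refine ⟨u, hu.1, ?_⟩
    have h1 := Subgroup.mem_centralizer_singleton_iff.mp hu.2
    show y⁻¹ * u * y⁻¹⁻¹ = u
    rw [inv_inv, mul_assoc, h1]
    group
  refine ⟨y, y₁.2, hy₁stab, ?_⟩
  exact (Subgroup.eq_of_le_of_card_ge hEQ (by rw [hy₁stab]; exact hQcard)).symm

/-- Green's theorem when the defect group is normal. -/
theorem green_normal (hM : IsPModular p M) (B : Set (IrrCharacter G)) (hB : IsPBlock M B)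
    (D : Subgroup G) [hDn : D.Normal] (hD : IsDefectGroup p M B D) (P : Sylow p G) :
    ∃ x : G, ¬ p ∣ orderOf x ∧
      (∃ S : Sylow p (Subgroup.centralizer ({x} : Set G)),
        (S : Subgroup (Subgroup.centralizer ({x} : Set G))).map
          (Subgroup.centralizer ({x} : Set G)).subtype = D) ∧
      (P : Subgroup G) ⊓ (P : Subgroup G).map (MulAut.conj x).toMonoidHom = D := by
  have hp : p.Prime := hpp.out
  have hprime : M.IsPrime := isPrime_of_isPModular hM
  have hDp : IsPGroup p D := by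
    obtain ⟨g, _, S, rfl⟩ := hD
    exact S.isPGroup'.map _
  have hDcard : Nat.card D = p ^ blockDefect p B := card_defectGroup_eq hM B hB D hD
  obtain ⟨χ₀, rfl⟩ := hB
  obtain ⟨y₀, hy₀, S₀, hDS⟩ := hD
  obtain ⟨y, hconj, hcard, heq⟩ := green_aux hM χ₀ y₀ hy₀ P
  have hDP : D ≤ (P : Subgroup G) := hDp.le_sylow_of_normal P
  have hDy₀ : D ≤ Subgroup.centralizer ({y₀} : Set G) := by
    rw [hDS]; exact Subgroup.map_subtype_le _
  obtain ⟨c, hc⟩ := isConj_iff.mp hconj
  have hDy : D ≤ Subgroup.centralizer ({y} : Set G) := by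
    intro u hu
    rw [Subgroup.mem_centralizer_singleton_iff]
    have h1 : c⁻¹ * u * c⁻¹⁻¹ ∈ D := hDn.conj_mem u hu c⁻¹
    have h2 := Subgroup.mem_centralizer_singleton_iff.mp (hDy₀ h1)
    rw [← hc]
    rw [inv_inv] at h2
    calc u * (c * y₀ * c⁻¹) = c * ((c⁻¹ * u * c) * y₀) * c⁻¹ := by group
      _ = c * (y₀ * (c⁻¹ * u * c)) * c⁻¹ := by rw [h2]
      _ = c * y₀ * c⁻¹ * u := by group
  have hDE : D = (P : Subgroup G) ⊓ Subgroup.centralizer ({y} : Set G) :=
    Subgroup.eq_of_le_of_card_ge (le_inf hDP hDy) (by rw [hcard, hDcard])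
  have hyreg : ¬ p ∣ orderOf y := by
    intro hdvd
    have h1 := blockCoeff_eq_zero_of_dvd_orderOf hM χ₀ y hdvd
    have h2 : blockCoeff (blockOf M (χ₀ : G → ℂ)) y = blockCoeff (blockOf M (χ₀ : G → ℂ)) y₀ := by
      rw [← hc]
      exact blockCoeff_isClassFunction _ y₀ c
    apply hy₀.2.1
    rw [← h2, h1]
    exact memLocalIdeal_zero hprime.one_notMem
  refine ⟨y⁻¹, by rwa [orderOf_inv], ?_, ?_⟩
  · have hCeq : Subgroup.centralizer ({y⁻¹} : Set G) = Subgroup.centralizer ({y} : Set G) := by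
      ext u
      rw [Subgroup.mem_centralizer_singleton_iff, Subgroup.mem_centralizer_singleton_iff]
      constructor
      · intro h
        calc u * y = y * (y⁻¹ * u) * y := by group
          _ = y * (u * y⁻¹) * y := by rw [h]
          _ = y * u := by group
      · intro h
        calc u * y⁻¹ = y⁻¹ * (y * u) * y⁻¹ := by group
          _ = y⁻¹ * (u * y) * y⁻¹ := by rw [h]
          _ = y⁻¹ * u := by group
    have hDC : D ≤ Subgroup.centralizer ({y⁻¹} : Set G) := by rw [hCeq]; exact hDy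
    have hfac : (Nat.card (Subgroup.centralizer ({y⁻¹} : Set G))).factorization p =
        blockDefect p (blockOf M (χ₀ : G → ℂ)) := by
      rw [hCeq, ← card_centralizer_eq_of_isConj' hconj]
      obtain ⟨S⟩ : Nonempty (Sylow p (Subgroup.centralizer ({y₀} : Set G))) := inferInstance
      have hD' : IsDefectGroup p M (blockOf M (χ₀ : G → ℂ))
          ((S : Subgroup (Subgroup.centralizer ({y₀} : Set G))).map
          (Subgroup.centralizer ({y₀} : Set G)).subtype) := ⟨y₀, hy₀, S, rfl⟩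
      have h1 := card_defectGroup_eq hM _ ⟨χ₀, rfl⟩ _ hD'
      rw [Subgroup.card_map_of_injective (Subgroup.subtype_injective _),
        S.card_eq_multiplicity] at h1
      exact Nat.pow_right_injective hp.two_le h1
    have hcardsub : Nat.card (D.subgroupOf (Subgroup.centralizer ({y⁻¹} : Set G))) =
        p ^ (Nat.card (Subgroup.centralizer ({y⁻¹} : Set G))).factorization p := by
      rw [hfac, ← hDcard]
      exact Nat.card_congr (Subgroup.subgroupOfEquivOfLe hDC).toEquiv
    refine ⟨Sylow.ofCard _ hcardsub, ?_⟩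
    rw [Sylow.coe_ofCard]
    exact Subgroup.map_subgroupOf_eq_of_le hDC
  · rw [heq, ← hDE]

end greenMain

end Cfsg.Agent.Lib.Helper23
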