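import Mathlib
import Cfsg.Agent.Lib.Helper23.GreenMain
import Cfsg.Agent.Lib.Helper6.ExtFirstMain

set_option autoImplicit false

namespace Cfsg.Agent.Lib.Helper23

open Cfsg Cfsg.Agent.CharLib Cfsg.Agent.Lib.Helper24 Cfsg.Agent.Lib.Helper6
open scoped ComplexConjugate

universe u

section greenFinal

variable {G : Type u} [Group G] [Fintype G] {M : Ideal AlgInt} {p : ℕ} [hpp : Fact p.Prime]

omit [Fintype G] in
/-- Normalizers grow in `p`-groups: a `p`-subgroup `Q ≥ D` all of whose elements normalizing `D`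
lie in `D` equals `D`. -/
theorem le_of_normalizer_inf_le [Finite G] {D Q : Subgroup G} (hQ : IsPGroup p Q) (hDQ : D ≤ Q)
    (h : ∀ u ∈ Q, u ∈ Subgroup.normalizer (D : Set G) → u ∈ D) : Q ≤ D := by
  haveI : Group.IsNilpotent Q := hQ.isNilpotent
  have hnc : NormalizerCondition Q := Group.normalizerCondition_of_isNilpotent
  set H : Subgroup Q := D.subgroupOf Q with hH
  by_cases htop : H = ⊤
  · intro u hu
    have : (⟨u, hu⟩ : Q) ∈ H := by rw [htop]; trivial
    exact this
  · exfalso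
    have hlt : H < ⊤ := lt_top_iff_ne_top.mpr htop
    have h2 := hnc H hlt
    obtain ⟨u, huN, huH⟩ := SetLike.exists_of_lt h2
    apply huH
    show (u : G) ∈ D
    apply h (u : G) u.2
    rw [Subgroup.mem_normalizer_iff]
    intro v
    rw [Subgroup.mem_normalizer_iff] at huN
    constructor
    · intro hv
      have h3 := (huN ⟨v, hDQ hv⟩).mp hv
      exact h3
    · intro hv
      have hvQ : v ∈ Q := by
        have h4 : (u : G) * v * (u : G)⁻¹ ∈ Q := hDQ hv
        have h5 : v = (u : G)⁻¹ * ((u : G) * v * (u : G)⁻¹) * (u : G) := by group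
        rw [h5]
        exact Q.mul_mem (Q.mul_mem (Q.inv_mem u.2) h4) u.2
      exact (huN ⟨v, hvQ⟩).mpr hv

/-- **Green's theorem** (S0956). -/
theorem green_theorem (hM : IsPModular p M) (B : Set (IrrCharacter G)) (hB : IsPBlock M B)
    (D : Subgroup G) (hD : IsDefectGroup p M B D) (P : Sylow p G) (hDP : D ≤ (P : Subgroup G)) :
    ∃ x : G, ¬ p ∣ orderOf x ∧
      (∃ S : Sylow p (Subgroup.centralizer ({x} : Set G)),
        (S : Subgroup (Subgroup.centralizer ({x} : Set G))).map
          (Subgroup.centralizer ({x} : Set G)).subtype = D) ∧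
      (P : Subgroup G) ⊓ (P : Subgroup G).map (MulAut.conj x).toMonoidHom = D := by
  classical
  have hp : p.Prime := hpp.out
  set N : Subgroup G := Subgroup.normalizer (D : Set G) with hN
  let _ : Fintype N := Fintype.ofFinite _
  have hDp : IsPGroup p D := by
    obtain ⟨g, _, S, rfl⟩ := hD
    exact S.isPGroup'.map _
  have hDN : D ≤ N := Subgroup.le_normalizer
  have hCN : Subgroup.centralizer (D : Set G) ≤ N := Subgroup.centralizer_le_normalizer _
  obtain ⟨b, hind⟩ := (induced_from_iff_le_defectGroup p hM D N hDp (sup_le hDN hCN) le_rfl B hB).mpr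
    ⟨D, hD, 1, by
      intro u hu
      rw [Subgroup.mem_map] at hu
      obtain ⟨v, hv, rfl⟩ := hu
      simpa using hv⟩
  have hbD : IsDefectGroup p M b (D.subgroupOf N) :=
    ExtFirstMain.isDefectGroup_of_induced hM B D hD N hDN le_rfl b hind
  haveI : (D.subgroupOf N).Normal := Subgroup.normal_subgroupOf_of_le_normalizer le_rfl
  have hPN : IsPGroup p (((P : Subgroup G) ⊓ N).subgroupOf N) :=
    (P.isPGroup'.to_le inf_le_left).comap_subtype
  obtain ⟨S, hS⟩ := hPN.exists_le_sylow
  obtain ⟨x', hx'reg, ⟨S', hS'⟩, hx'eq⟩ := green_normal hM b hind.1 (D.subgroupOf N) hbD S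
  have hmemN : ∀ {u : G}, u ∈ N ↔ ∀ h, h ∈ D ↔ u * h * u⁻¹ ∈ D := fun {u} =>
    Subgroup.mem_normalizer_iff
  have hxN : (x' : G) ∈ N := x'.2
  -- D ≤ C_G(x)
  have hDC : D ≤ Subgroup.centralizer ({(x' : G)} : Set G) := by
    intro u hu
    rw [Subgroup.mem_centralizer_singleton_iff]
    have h1 : (⟨u, hDN hu⟩ : N) ∈ D.subgroupOf N := hu
    rw [← hS', Subgroup.mem_map] at h1
    obtain ⟨s, _, hs⟩ := h1
    have h2 := Subgroup.mem_centralizer_singleton_iff.mp s.2
    have h3 := congrArg (fun w : N => (w : G)) h2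
    simp only [Subgroup.coe_mul] at h3
    have h4 : ((s : N) : G) = u := congrArg (fun w : N => (w : G)) hs
    rw [h4] at h3
    exact h3
  -- D ≤ P ⊓ x P x⁻¹
  have hDQ : D ≤ (P : Subgroup G) ⊓ (P : Subgroup G).map (MulAut.conj (x' : G)).toMonoidHom := by
    refine le_inf hDP ?_
    intro u hu
    rw [Subgroup.mem_map]
    refine ⟨(x' : G)⁻¹ * u * (x' : G), ?_, ?_⟩
    · apply hDP
      have h1 := (hmemN.mp hxN) ((x' : G)⁻¹ * u * (x' : G))
      apply h1.mpr
      have : (x' : G) * ((x' : G)⁻¹ * u * (x' : G)) * (x' : G)⁻¹ = u := by group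
      rw [this]
      exact hu
    · show (x' : G) * ((x' : G)⁻¹ * u * (x' : G)) * (x' : G)⁻¹ = u
      group
  refine ⟨(x' : G), ?_, ?_, ?_⟩
  · rwa [Subgroup.orderOf_coe]
  · -- Sylow of the centralizer
    set C : Subgroup G := Subgroup.centralizer ({(x' : G)} : Set G) with hC
    have hDCp : IsPGroup p (D.subgroupOf C) := hDp.comap_subtype
    obtain ⟨T, hT⟩ := hDCp.exists_le_sylow
    refine ⟨T, ?_⟩
    set D₁ : Subgroup G := (T : Subgroup C).map C.subtype with hD₁
    have hD₁p : IsPGroup p D₁ := T.isPGroup'.map _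
    have hD₁C : D₁ ≤ C := Subgroup.map_subtype_le _
    have hDD₁ : D ≤ D₁ := by
      intro u hu
      rw [hD₁, Subgroup.mem_map]
      exact ⟨⟨u, hDC hu⟩, hT hu, rfl⟩
    apply le_antisymm _ hDD₁
    apply le_of_normalizer_inf_le hD₁p hDD₁
    intro u hu huN
    -- the p-subgroup K of C_N(x')
    set K : Subgroup (Subgroup.centralizer ({x'} : Set N)) :=
      (D₁.subgroupOf N).subgroupOf (Subgroup.centralizer ({x'} : Set N)) with hK
    have hKp : IsPGroup p K := (hD₁p.comap_subtype).comap_subtype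
    have hS'K : (S' : Subgroup (Subgroup.centralizer ({x'} : Set N))) ≤ K := by
      intro s hs
      show ((s : N) : G) ∈ D₁
      apply hDD₁
      have h1 : (s : N) ∈ (S' : Subgroup (Subgroup.centralizer ({x'} : Set N))).map
          (Subgroup.centralizer ({x'} : Set N)).subtype := Subgroup.mem_map.mpr ⟨s, hs, rfl⟩
      rw [hS'] at h1
      exact h1
    have hKS' := S'.is_maximal' hKp hS'K
    have hucomm : (⟨u, huN⟩ : N) ∈ Subgroup.centralizer ({x'} : Set N) := by
      rw [Subgroup.mem_centralizer_singleton_iff]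
      apply Subtype.ext
      simp only [Subgroup.coe_mul]
      exact Subgroup.mem_centralizer_singleton_iff.mp (hD₁C hu)
    have huK : (⟨⟨u, huN⟩, hucomm⟩ : Subgroup.centralizer ({x'} : Set N)) ∈ K := hu
    rw [hKS'] at huK
    have h1 : (⟨u, huN⟩ : N) ∈ (S' : Subgroup (Subgroup.centralizer ({x'} : Set N))).map
        (Subgroup.centralizer ({x'} : Set N)).subtype := Subgroup.mem_map.mpr ⟨_, huK, rfl⟩
    rw [hS'] at h1
    exact h1
  · apply le_antisymm _ hDQ
    apply le_of_normalizer_inf_le (P.isPGroup'.to_le inf_le_left) hDQ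
    intro u hu huN
    have huS : (⟨u, huN⟩ : N) ∈ (S : Subgroup N) := hS ⟨hu.1, huN⟩
    have huS2 : (⟨u, huN⟩ : N) ∈ (S : Subgroup N).map (MulAut.conj x').toMonoidHom := by
      have h1 : u ∈ (P : Subgroup G).map (MulAut.conj (x' : G)).toMonoidHom := hu.2
      rw [Subgroup.mem_map] at h1
      obtain ⟨w, hw, hwu⟩ := h1
      have hwu' : (x' : G) * w * (x' : G)⁻¹ = u := hwu
      have hwN : w ∈ N := by
        have h2 : w = (x' : G)⁻¹ * u * (x' : G) := by rw [← hwu']; group
        rw [h2]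
        exact N.mul_mem (N.mul_mem (N.inv_mem hxN) huN) hxN
      rw [Subgroup.mem_map]
      refine ⟨⟨w, hwN⟩, hS ⟨hw, hwN⟩, ?_⟩
      apply Subtype.ext
      show ((x' * ⟨w, hwN⟩ * x'⁻¹ : N) : G) = u
      rw [Subgroup.coe_mul, Subgroup.coe_mul, Subgroup.coe_inv]
      exact hwu'
    have h3 : (⟨u, huN⟩ : N) ∈ (S : Subgroup N) ⊓
        (S : Subgroup N).map (MulAut.conj x').toMonoidHom := ⟨huS, huS2⟩
    rw [hx'eq] at h3
    exact h3

end greenFinal

end Cfsg.Agent.Lib.Helper23
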