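/-
helper23: S4395 (helper21's market, `notes/S4395_leaves.lean`): commutator calculus in a frame
(`P` of class at most two with central kernel `ker π`), used by the leaves B2A-B2D.
-/
import Mathlib
import Cfsg.Prelude.Def_Transfer
import Cfsg.Agent.Lib.Helper21.SchDefs

set_option autoImplicit false
universe u v
open Cfsg
open Cfsg.Agent.Lib.Helper21.Sch

namespace Cfsg.Agent.Lib.Helper23.SchCalc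

variable {p : ℕ} {K : Type*} [Field K] {ω : K} {X : Type*} [Group X]

/-- `π` as a `K`-valued function on elements with a membership proof -/
def pv (𝔣 : Frame p ω X) (x : X) (hx : x ∈ 𝔣.P) : K := Multiplicative.toAdd (𝔣.π ⟨x, hx⟩)

theorem pv_mul (𝔣 : Frame p ω X) {x x' : X} (hx : x ∈ 𝔣.P) (hx' : x' ∈ 𝔣.P) :
    pv 𝔣 (x * x') (𝔣.P.mul_mem hx hx') = pv 𝔣 x hx + pv 𝔣 x' hx' := by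
  have h : (⟨x * x', 𝔣.P.mul_mem hx hx'⟩ : ↥𝔣.P) = ⟨x, hx⟩ * ⟨x', hx'⟩ := rfl
  unfold pv
  rw [h, map_mul, toAdd_mul]

theorem pv_one (𝔣 : Frame p ω X) : pv 𝔣 1 𝔣.P.one_mem = 0 := by
  have h : (⟨1, 𝔣.P.one_mem⟩ : ↥𝔣.P) = 1 := rfl
  unfold pv
  rw [h, map_one, toAdd_one]

theorem pv_inv (𝔣 : Frame p ω X) {x : X} (hx : x ∈ 𝔣.P) :
    pv 𝔣 x⁻¹ (𝔣.P.inv_mem hx) = - pv 𝔣 x hx := by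
  have h : (⟨x⁻¹, 𝔣.P.inv_mem hx⟩ : ↥𝔣.P) = ⟨x, hx⟩⁻¹ := rfl
  unfold pv
  rw [h, map_inv, toAdd_inv]

theorem pv_pow (𝔣 : Frame p ω X) {x : X} (hx : x ∈ 𝔣.P) (n : ℕ) :
    pv 𝔣 (x ^ n) (𝔣.P.pow_mem hx n) = n • pv 𝔣 x hx := by
  have h : (⟨x ^ n, 𝔣.P.pow_mem hx n⟩ : ↥𝔣.P) = ⟨x, hx⟩ ^ n := rfl
  unfold pv
  rw [h, map_pow, toAdd_pow]

theorem pv_conj (𝔣 : Frame p ω X) {x : X} (hx : x ∈ 𝔣.P) :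
    pv 𝔣 (𝔣.y * x * 𝔣.y⁻¹) (𝔣.y_norm x hx) = ω * pv 𝔣 x hx := 𝔣.π_conj x hx

theorem pv_congr (𝔣 : Frame p ω X) {x x' : X} (h : x = x') (hx : x ∈ 𝔣.P) (hx' : x' ∈ 𝔣.P) :
    pv 𝔣 x hx = pv 𝔣 x' hx' := by
  subst h; rfl

theorem pv_surj (𝔣 : Frame p ω X) (v : K) : ∃ (x : X) (hx : x ∈ 𝔣.P), pv 𝔣 x hx = v := by
  obtain ⟨x, hx⟩ := 𝔣.π_surj (Multiplicative.ofAdd v)
  exact ⟨x.1, x.2, by unfold pv; rw [Subtype.coe_eta, hx]; rfl⟩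

theorem pv_eq_zero_iff (𝔣 : Frame p ω X) {z : X} (hz : z ∈ 𝔣.P) :
    pv 𝔣 z hz = 0 ↔ 𝔣.π ⟨z, hz⟩ = 1 := by
  unfold pv
  exact toAdd_eq_zero

/-- kernel elements commute with `P` -/
theorem ker_comm (𝔣 : Frame p ω X) {z : X} (hz : z ∈ 𝔣.P) (hz0 : pv 𝔣 z hz = 0) {u : X}
    (hu : u ∈ 𝔣.P) : z * u = u * z :=
  congrArg Subtype.val (𝔣.ker_central ⟨z, hz⟩ ((pv_eq_zero_iff 𝔣 hz).mp hz0) ⟨u, hu⟩)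

theorem ker_pow (𝔣 : Frame p ω X) {z : X} (hz : z ∈ 𝔣.P) (hz0 : pv 𝔣 z hz = 0) : z ^ p = 1 :=
  congrArg Subtype.val (𝔣.ker_exp ⟨z, hz⟩ ((pv_eq_zero_iff 𝔣 hz).mp hz0))

theorem ker_conj (𝔣 : Frame p ω X) {z : X} (hz : z ∈ 𝔣.P) (hz0 : pv 𝔣 z hz = 0) :
    𝔣.y * z * 𝔣.y⁻¹ = z :=
  𝔣.ker_fixed ⟨z, hz⟩ ((pv_eq_zero_iff 𝔣 hz).mp hz0)

theorem comm_mem (𝔣 : Frame p ω X) {x x' : X} (hx : x ∈ 𝔣.P) (hx' : x' ∈ 𝔣.P) :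
    x * x' * x⁻¹ * x'⁻¹ ∈ 𝔣.P :=
  𝔣.P.mul_mem (𝔣.P.mul_mem (𝔣.P.mul_mem hx hx') (𝔣.P.inv_mem hx)) (𝔣.P.inv_mem hx')

theorem pv_comm (𝔣 : Frame p ω X) {x x' : X} (hx : x ∈ 𝔣.P) (hx' : x' ∈ 𝔣.P) :
    pv 𝔣 (x * x' * x⁻¹ * x'⁻¹) (comm_mem 𝔣 hx hx') = 0 := by
  have h := pv_mul 𝔣 (𝔣.P.mul_mem (𝔣.P.mul_mem hx hx') (𝔣.P.inv_mem hx)) (𝔣.P.inv_mem hx')
  have h2 := pv_mul 𝔣 (𝔣.P.mul_mem hx hx') (𝔣.P.inv_mem hx)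
  have h3 := pv_mul 𝔣 hx hx'
  rw [pv_inv 𝔣 hx'] at h
  rw [pv_inv 𝔣 hx] at h2
  rw [h, h2, h3]
  ring

/-- commutators are central in `P` -/
theorem comm_central (𝔣 : Frame p ω X) {x x' u : X} (hx : x ∈ 𝔣.P) (hx' : x' ∈ 𝔣.P)
    (hu : u ∈ 𝔣.P) : x * x' * x⁻¹ * x'⁻¹ * u = u * (x * x' * x⁻¹ * x'⁻¹) :=
  ker_comm 𝔣 (comm_mem 𝔣 hx hx') (pv_comm 𝔣 hx hx') hu

/-- `[x, a b] = [x, a] [x, b]` -/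
theorem comm_mul_right (𝔣 : Frame p ω X) {x a b : X} (hx : x ∈ 𝔣.P) (ha : a ∈ 𝔣.P)
    (hb : b ∈ 𝔣.P) :
    x * (a * b) * x⁻¹ * (a * b)⁻¹ = (x * a * x⁻¹ * a⁻¹) * (x * b * x⁻¹ * b⁻¹) := by
  have h := comm_central 𝔣 hx hb (𝔣.P.inv_mem ha)
  calc x * (a * b) * x⁻¹ * (a * b)⁻¹
      = x * a * x⁻¹ * a⁻¹ * (a * (x * b * x⁻¹ * b⁻¹) * a⁻¹) := by group
    _ = x * a * x⁻¹ * a⁻¹ * (a * ((x * b * x⁻¹ * b⁻¹) * a⁻¹)) := by group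
    _ = x * a * x⁻¹ * a⁻¹ * (a * (a⁻¹ * (x * b * x⁻¹ * b⁻¹))) := by rw [h]
    _ = (x * a * x⁻¹ * a⁻¹) * (x * b * x⁻¹ * b⁻¹) := by group

/-- `[a b, x] = [a, x] [b, x]` -/
theorem comm_mul_left (𝔣 : Frame p ω X) {x a b : X} (hx : x ∈ 𝔣.P) (ha : a ∈ 𝔣.P)
    (hb : b ∈ 𝔣.P) :
    (a * b) * x * (a * b)⁻¹ * x⁻¹ = (a * x * a⁻¹ * x⁻¹) * (b * x * b⁻¹ * x⁻¹) := by
  have h := comm_central 𝔣 hb hx (𝔣.P.inv_mem ha)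
  calc (a * b) * x * (a * b)⁻¹ * x⁻¹
      = a * ((b * x * b⁻¹ * x⁻¹) * a⁻¹) * (a * x * a⁻¹ * x⁻¹) := by group
    _ = a * (a⁻¹ * (b * x * b⁻¹ * x⁻¹)) * (a * x * a⁻¹ * x⁻¹) := by rw [h]
    _ = (b * x * b⁻¹ * x⁻¹) * (a * x * a⁻¹ * x⁻¹) := by group
    _ = (a * x * a⁻¹ * x⁻¹) * (b * x * b⁻¹ * x⁻¹) :=
        comm_central 𝔣 hb hx (comm_mem 𝔣 ha hx)

theorem comm_one_right (x : X) : x * 1 * x⁻¹ * (1 : X)⁻¹ = 1 := by group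

theorem comm_one_left (x : X) : 1 * x * (1 : X)⁻¹ * x⁻¹ = 1 := by group

theorem comm_inv_swap (x a : X) : (x * a * x⁻¹ * a⁻¹)⁻¹ = a * x * a⁻¹ * x⁻¹ := by group

/-- `[x, a⁻¹] = [x, a]⁻¹` -/
theorem comm_inv_right (𝔣 : Frame p ω X) {x a : X} (hx : x ∈ 𝔣.P) (ha : a ∈ 𝔣.P) :
    x * a⁻¹ * x⁻¹ * a⁻¹⁻¹ = (x * a * x⁻¹ * a⁻¹)⁻¹ := by
  have h := comm_mul_right 𝔣 hx ha (𝔣.P.inv_mem ha)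
  rw [mul_inv_cancel, comm_one_right] at h
  exact eq_inv_of_mul_eq_one_right h.symm

/-- `[a⁻¹, x] = [a, x]⁻¹` -/
theorem comm_inv_left (𝔣 : Frame p ω X) {x a : X} (hx : x ∈ 𝔣.P) (ha : a ∈ 𝔣.P) :
    a⁻¹ * x * a⁻¹⁻¹ * x⁻¹ = (a * x * a⁻¹ * x⁻¹)⁻¹ := by
  have h := comm_mul_left 𝔣 hx ha (𝔣.P.inv_mem ha)
  rw [mul_inv_cancel, comm_one_left] at h
  exact eq_inv_of_mul_eq_one_right h.symm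

/-- a kernel factor on the left does not change the commutator -/
theorem comm_mul_ker_left (𝔣 : Frame p ω X) {x x' z : X} (hx : x ∈ 𝔣.P) (hx' : x' ∈ 𝔣.P)
    (hz : z ∈ 𝔣.P) (hz0 : pv 𝔣 z hz = 0) :
    (x * z) * x' * (x * z)⁻¹ * x'⁻¹ = x * x' * x⁻¹ * x'⁻¹ := by
  rw [comm_mul_left 𝔣 hx' hx hz]
  have h : z * x' * z⁻¹ * x'⁻¹ = 1 := by
    rw [ker_comm 𝔣 hz hz0 hx']; group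
  rw [h, mul_one]

/-- a kernel factor on the right does not change the commutator -/
theorem comm_mul_ker_right (𝔣 : Frame p ω X) {x x' z : X} (hx : x ∈ 𝔣.P) (hx' : x' ∈ 𝔣.P)
    (hz : z ∈ 𝔣.P) (hz0 : pv 𝔣 z hz = 0) :
    x * (x' * z) * x⁻¹ * (x' * z)⁻¹ = x * x' * x⁻¹ * x'⁻¹ := by
  rw [comm_mul_right 𝔣 hx hx' hz]
  have h : x * z * x⁻¹ * z⁻¹ = 1 := by
    rw [← ker_comm 𝔣 hz hz0 hx]; group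
  rw [h, mul_one]

/-- two elements with the same image differ by a kernel element -/
theorem exists_ker_of_pv_eq (𝔣 : Frame p ω X) {x a : X} (hx : x ∈ 𝔣.P) (ha : a ∈ 𝔣.P)
    (h : pv 𝔣 x hx = pv 𝔣 a ha) :
    ∃ (z : X) (hz : z ∈ 𝔣.P), pv 𝔣 z hz = 0 ∧ x = a * z := by
  refine ⟨a⁻¹ * x, 𝔣.P.mul_mem (𝔣.P.inv_mem ha) hx, ?_, by group⟩
  rw [pv_mul 𝔣 (𝔣.P.inv_mem ha) hx, pv_inv 𝔣 ha, h]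
  ring

/-- commutators depend only on the images -/
theorem comm_congr (𝔣 : Frame p ω X) {x a x' a' : X} (hx : x ∈ 𝔣.P) (ha : a ∈ 𝔣.P)
    (hx' : x' ∈ 𝔣.P) (ha' : a' ∈ 𝔣.P) (h : pv 𝔣 x hx = pv 𝔣 a ha)
    (h' : pv 𝔣 x' hx' = pv 𝔣 a' ha') :
    x * x' * x⁻¹ * x'⁻¹ = a * a' * a⁻¹ * a'⁻¹ := by
  obtain ⟨z, hz, hz0, rfl⟩ := exists_ker_of_pv_eq 𝔣 hx ha h
  obtain ⟨z', hz', hz0', rfl⟩ := exists_ker_of_pv_eq 𝔣 hx' ha' h'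
  rw [comm_mul_ker_left 𝔣 ha (𝔣.P.mul_mem ha' hz') hz hz0, comm_mul_ker_right 𝔣 ha ha' hz' hz0']

/-- conjugation by `y` of a commutator -/
theorem conj_comm (g x x' : X) :
    g * (x * x' * x⁻¹ * x'⁻¹) * g⁻¹ =
      (g * x * g⁻¹) * (g * x' * g⁻¹) * (g * x * g⁻¹)⁻¹ * (g * x' * g⁻¹)⁻¹ := by group

/-- commutators are fixed by `y` -/
theorem comm_fixed (𝔣 : Frame p ω X) {x x' : X} (hx : x ∈ 𝔣.P) (hx' : x' ∈ 𝔣.P) :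
    (𝔣.y * x * 𝔣.y⁻¹) * (𝔣.y * x' * 𝔣.y⁻¹) * (𝔣.y * x * 𝔣.y⁻¹)⁻¹ * (𝔣.y * x' * 𝔣.y⁻¹)⁻¹ =
      x * x' * x⁻¹ * x'⁻¹ := by
  rw [← conj_comm]
  exact ker_conj 𝔣 (comm_mem 𝔣 hx hx') (pv_comm 𝔣 hx hx')

/-- conjugation by `y` is onto `P` -/
theorem conj_surj (𝔣 : Frame p ω X) (hω0 : ω ≠ 0) {x' : X} (hx' : x' ∈ 𝔣.P) :
    ∃ (b : X) (_ : b ∈ 𝔣.P), x' = 𝔣.y * b * 𝔣.y⁻¹ := by
  obtain ⟨a, ha, hav⟩ := pv_surj 𝔣 (ω⁻¹ * pv 𝔣 x' hx')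
  have h1 : pv 𝔣 x' hx' = pv 𝔣 (𝔣.y * a * 𝔣.y⁻¹) (𝔣.y_norm a ha) := by
    rw [pv_conj 𝔣 ha, hav, ← mul_assoc, mul_inv_cancel₀ hω0, one_mul]
  obtain ⟨z, hz, hz0, hxz⟩ := exists_ker_of_pv_eq 𝔣 hx' (𝔣.y_norm a ha) h1
  refine ⟨a * z, 𝔣.P.mul_mem ha hz, ?_⟩
  have h2 := ker_conj 𝔣 hz hz0
  rw [hxz]
  conv_lhs => rw [← h2]
  group

/-- the set of commutators with `x₀` -/
def Gam (𝔣 : Frame p ω X) (x₀ : X) : Set X := {c | ∃ x'' ∈ 𝔣.P, c = x₀ * x'' * x₀⁻¹ * x''⁻¹}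

theorem Gam_one (𝔣 : Frame p ω X) (x₀ : X) : (1 : X) ∈ Gam 𝔣 x₀ :=
  ⟨1, 𝔣.P.one_mem, (comm_one_right x₀).symm⟩

theorem Gam_mul (𝔣 : Frame p ω X) {x₀ : X} (hx₀ : x₀ ∈ 𝔣.P) {c c' : X} (hc : c ∈ Gam 𝔣 x₀)
    (hc' : c' ∈ Gam 𝔣 x₀) : c * c' ∈ Gam 𝔣 x₀ := by
  obtain ⟨a, ha, rfl⟩ := hc
  obtain ⟨b, hb, rfl⟩ := hc'
  exact ⟨a * b, 𝔣.P.mul_mem ha hb, (comm_mul_right 𝔣 hx₀ ha hb).symm⟩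

theorem Gam_inv (𝔣 : Frame p ω X) {x₀ : X} (hx₀ : x₀ ∈ 𝔣.P) {c : X} (hc : c ∈ Gam 𝔣 x₀) :
    c⁻¹ ∈ Gam 𝔣 x₀ := by
  obtain ⟨a, ha, rfl⟩ := hc
  exact ⟨a⁻¹, 𝔣.P.inv_mem ha, (comm_inv_right 𝔣 hx₀ ha).symm⟩

theorem Gam_sub_P (𝔣 : Frame p ω X) {x₀ : X} (hx₀ : x₀ ∈ 𝔣.P) {c : X} (hc : c ∈ Gam 𝔣 x₀) :
    ∃ hcP : c ∈ 𝔣.P, pv 𝔣 c hcP = 0 := by
  obtain ⟨a, ha, rfl⟩ := hc
  exact ⟨comm_mem 𝔣 hx₀ ha, pv_comm 𝔣 hx₀ ha⟩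

end Cfsg.Agent.Lib.Helper23.SchCalc
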