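import Mathlib
import Cfsg.Agent.Lib.Helper23.Q8Aut

set_option autoImplicit false
open QuaternionGroup
open scoped Pointwise
open Cfsg.Agent.Lib.Helper23.Q8Aut

namespace Cfsg.Agent.Lib.Helper23.Q8Normal

set_option linter.unusedSectionVars false

variable {X : Type*} [Group X] (R : Subgroup X) [hR : R.Normal] (e : R ≃* Q)

/-- the conjugation action on a normal `Q8`, transported to `Aut(Q8)`. -/
noncomputable def Θ : X →* MulAut Q :=
  (MulAut.congr e).toMonoidHom.comp (MulAut.conjNormal (H := R))

theorem Θ_apply (g : X) (q : Q) :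
    Θ R e g q = e (MulAut.conjNormal g (e.symm q)) := rfl

theorem Θ_apply_e (g : X) (r : R) :
    Θ R e g (e r) = e (MulAut.conjNormal g r) := by
  rw [Θ_apply, MulEquiv.symm_apply_apply]

theorem Θ_eq_one_iff (g : X) : Θ R e g = 1 ↔ ∀ r ∈ R, g * r = r * g := by
  constructor
  · intro h r hr
    have h1 := Θ_apply_e R e g ⟨r, hr⟩
    rw [h, MulAut.one_apply] at h1
    have h2 := e.injective h1
    have h3 := congrArg Subtype.val h2
    rw [MulAut.conjNormal_apply] at h3
    simp only at h3
    calc g * r = (g * r * g⁻¹) * g := by group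
      _ = r * g := by rw [← h3]
  · intro h
    apply MulEquiv.ext
    intro q
    obtain ⟨r, rfl⟩ := e.surjective q
    rw [Θ_apply_e, MulAut.one_apply]
    congr 1
    apply Subtype.ext
    rw [MulAut.conjNormal_apply, h r r.2]
    group

theorem Θ_coe (r : R) : Θ R e (r : X) = MulAut.conj (e r) := by
  apply MulEquiv.ext
  intro q
  obtain ⟨r', rfl⟩ := e.surjective q
  rw [Θ_apply_e, MulAut.conj_apply, ← map_inv, ← map_mul, ← map_mul]
  congr 1

/-- the central involution of `R` -/
noncomputable def z : X := ((e.symm (a 2) : R) : X)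

theorem z_mem : z R e ∈ R := (e.symm (a 2)).2

theorem e_z : e ⟨z R e, z_mem R e⟩ = a 2 := by
  show e (e.symm (a 2)) = a 2
  rw [MulEquiv.apply_symm_apply]

theorem z_ne_one : z R e ≠ 1 := by
  intro h
  have h1 : (e.symm (a 2) : R) = 1 := Subtype.ext h
  have h2 : (a 2 : Q) = 1 := by
    have := congrArg e h1
    rwa [MulEquiv.apply_symm_apply, map_one] at this
  exact a_two_ne_one h2

theorem z_mul_self : z R e * z R e = 1 := by
  have h1 : (e.symm (a 2) : R) * e.symm (a 2) = 1 := by
    rw [← map_mul, a_two_mul_self, map_one]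
  exact congrArg Subtype.val h1

theorem z_comm_of_mem (r : X) (hr : r ∈ R) : z R e * r = r * z R e := by
  have h1 : (e.symm (a 2) : R) * ⟨r, hr⟩ = ⟨r, hr⟩ * e.symm (a 2) := by
    apply e.injective
    rw [map_mul, map_mul, MulEquiv.apply_symm_apply]
    exact a_two_central _
  exact congrArg Subtype.val h1

theorem Θ_z : Θ R e (z R e) = 1 := by
  rw [Θ_eq_one_iff]
  exact fun r hr => z_comm_of_mem R e r hr

/-- an involution of `R` is `z`. -/
theorem eq_z_of_involution (r : X) (hr : r ∈ R) (h2 : r * r = 1) (h1 : r ≠ 1) : r = z R e := by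
  have h3 : e ⟨r, hr⟩ * e ⟨r, hr⟩ = 1 := by
    rw [← map_mul]
    have : (⟨r, hr⟩ : R) * ⟨r, hr⟩ = 1 := Subtype.ext h2
    rw [this, map_one]
  rcases involution_Q _ h3 with h | h
  · exfalso
    apply h1
    have := e.injective (h.trans (map_one e).symm)
    exact congrArg Subtype.val this
  · have : (⟨r, hr⟩ : R) = e.symm (a 2) := by
      rw [← h, MulEquiv.symm_apply_apply]
    exact congrArg Subtype.val this

variable (hC : Subgroup.centralizer (R : Set X) ≤ R)
include hC

theorem eq_one_or_z_of_Θ_eq_one (g : X) (h : Θ R e g = 1) : g = 1 ∨ g = z R e := by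
  rw [Θ_eq_one_iff] at h
  have hgR : g ∈ R := by
    apply hC
    rw [Subgroup.mem_centralizer_iff]
    intro r hr
    exact (h r hr).symm
  have hcen : ∀ q : Q, e ⟨g, hgR⟩ * q = q * e ⟨g, hgR⟩ := by
    intro q
    obtain ⟨r, rfl⟩ := e.surjective q
    rw [← map_mul, ← map_mul]
    congr 1
    apply Subtype.ext
    exact h r r.2
  rcases center_Q _ hcen with h1 | h1
  · left
    have := e.injective (h1.trans (map_one e).symm)
    exact congrArg Subtype.val this
  · right
    have : (⟨g, hgR⟩ : R) = e.symm (a 2) := by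
      rw [← h1, MulEquiv.symm_apply_apply]
    exact congrArg Subtype.val this

theorem z_central (g : X) : g * z R e = z R e * g := by
  have h1 : Θ R e (g * z R e * g⁻¹) = 1 := by
    rw [map_mul, map_mul, Θ_z, mul_one, ← map_mul, mul_inv_cancel, map_one]
  rcases eq_one_or_z_of_Θ_eq_one R e hC _ h1 with h | h
  · exfalso
    apply z_ne_one R e
    have : g * z R e = g := by
      calc g * z R e = (g * z R e * g⁻¹) * g := by group
        _ = g := by rw [h, one_mul]
    exact mul_left_cancel (this.trans (mul_one g).symm)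
  · calc g * z R e = (g * z R e * g⁻¹) * g := by group
      _ = z R e * g := by rw [h]

theorem card_ker [Finite X] : Nat.card (Θ R e).ker = 2 := by
  have hsub : ((Θ R e).ker : Set X) = {1, z R e} := by
    ext g
    simp only [SetLike.mem_coe, MonoidHom.mem_ker, Set.mem_insert_iff, Set.mem_singleton_iff]
    constructor
    · exact eq_one_or_z_of_Θ_eq_one R e hC g
    · rintro (rfl | rfl)
      · exact map_one _
      · exact Θ_z R e
  have : Nat.card (Θ R e).ker = Set.ncard ((Θ R e).ker : Set X) := by
    rw [← Nat.card_coe_set_eq]; rfl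
  rw [this, hsub, Set.ncard_pair (Ne.symm (z_ne_one R e))]

theorem card_eq [Finite X] : Nat.card X = 2 * Nat.card (Θ R e).range := by
  rw [← Subgroup.card_mul_index (Θ R e).ker, Subgroup.index_ker, card_ker R e hC]

include e in
theorem card_dvd [Finite X] : Nat.card X ∣ 48 := by
  rw [card_eq R e hC]
  have h1 : Nat.card (Θ R e).range ∣ Nat.card (MulAut Q) := Subgroup.card_subgroup_dvd_card _
  rw [card_mulAut] at h1
  obtain ⟨c, hc⟩ := h1
  exact ⟨c, by rw [mul_assoc, ← hc]; norm_num⟩


theorem Θ_surjective [Finite X] (h48 : Nat.card X = 48) : Function.Surjective (Θ R e) := by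
  have h1 := card_eq R e hC
  rw [h48] at h1
  have h2 : Nat.card (Θ R e).range = Nat.card (MulAut Q) := by rw [card_mulAut]; omega
  have h3 : (Θ R e).range = ⊤ := Subgroup.eq_top_of_card_eq _ h2
  exact MonoidHom.range_eq_top.mp h3


omit hR hC in
theorem mem_zpowers_involution {t k : X} (ht : t * t = 1) (hk : k ∈ Subgroup.zpowers t) :
    k = 1 ∨ k = t := by
  obtain ⟨n, rfl⟩ := Subgroup.mem_zpowers_iff.mp hk
  have h2 : t ^ (2 : ℤ) = 1 := by rw [zpow_two]; exact ht
  have : t ^ n = t ^ (n % 2) := by
    conv_lhs => rw [← Int.emod_add_mul_ediv n 2]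
    rw [zpow_add, zpow_mul, h2, one_zpow, mul_one]
  rw [this]
  rcases Int.emod_two_eq_zero_or_one n with h | h
  · left; rw [h, zpow_zero]
  · right; rw [h, zpow_one]

omit hC in
include e in
theorem card_R : Nat.card R = 8 := by
  rw [Nat.card_congr e.toEquiv, Nat.card_eq_fintype_card, QuaternionGroup.card]

include e in
/-- if `|X| = 48` and there is an involution outside `R`, then `R` has a complement acting
faithfully on `R`. -/
theorem exists_complement [Finite X] (h48 : Nat.card X = 48) (t : X) (ht : t * t = 1)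
    (htR : t ∉ R) :
    ∃ W : Subgroup X, R.IsComplement' W ∧ ∀ w ∈ W, (∀ r ∈ R, w * r = r * w) → w = 1 := by
  have hzc := z_central R e hC
  have hz1 := z_ne_one R e
  have hzz := z_mul_self R e
  have ht1 : t ≠ 1 := by
    rintro rfl
    exact htR (one_mem R)
  have htinv : t⁻¹ = t := inv_eq_of_mul_eq_one_left ht
  set τ := Θ R e t with hτ
  have h2 : τ * τ = 1 := by rw [hτ, ← map_mul, ht, map_one]
  have hout : ∀ q : Q, τ ≠ MulAut.conj q := by
    intro q hq
    set r : R := e.symm q with hr
    have h1 : Θ R e (t * (r : X)⁻¹) = 1 := by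
      rw [map_mul, map_inv, Θ_coe, hr, MulEquiv.apply_symm_apply, ← hτ, hq, mul_inv_cancel]
    rcases eq_one_or_z_of_Θ_eq_one R e hC _ h1 with h | h
    · apply htR
      have : t = (r : X) := by
        calc t = (t * (r : X)⁻¹) * r := by group
          _ = r := by rw [h, one_mul]
      rw [this]; exact r.2
    · apply htR
      have : t = z R e * (r : X) := by
        calc t = (t * (r : X)⁻¹) * r := by group
          _ = z R e * r := by rw [h]
      rw [this]; exact R.mul_mem (z_mem R e) r.2
  obtain ⟨σ, hσ3, hσ1, hστ⟩ := exists_inverted τ h2 hout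
  obtain ⟨s₁, hs₁⟩ := Θ_surjective R e hC h48 σ
  set s := s₁ ^ 4 with hs
  have hΘs : Θ R e s = σ := by
    rw [hs, map_pow, hs₁]
    calc σ ^ 4 = σ ^ 3 * σ := by rw [pow_succ]
      _ = σ := by rw [hσ3, one_mul]
  have hs3 : s ^ 3 = 1 := by
    have h1 : Θ R e (s₁ ^ 3) = 1 := by rw [map_pow, hs₁, hσ3]
    have h6 : (s₁ ^ 3) * (s₁ ^ 3) = 1 := by
      rcases eq_one_or_z_of_Θ_eq_one R e hC _ h1 with h | h
      · rw [h, one_mul]
      · rw [h, hzz]
    calc s ^ 3 = (s₁ ^ 3 * s₁ ^ 3) * (s₁ ^ 3 * s₁ ^ 3) := by
          rw [hs, ← pow_mul, ← pow_add, ← pow_add]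
      _ = 1 := by rw [h6, one_mul]
  have hs1 : s ≠ 1 := by
    intro h
    apply hσ1
    rw [← hΘs, h, map_one]
  -- t inverts s
  have hinv : t * s * t⁻¹ = s⁻¹ := by
    have h1 : Θ R e (t * s * t⁻¹ * s) = 1 := by
      rw [map_mul, map_mul, map_mul, map_inv, hΘs, ← hτ, hστ, inv_mul_cancel]
    rcases eq_one_or_z_of_Θ_eq_one R e hC _ h1 with h | h
    · exact eq_inv_of_mul_eq_one_left h
    · exfalso
      have h3 : t * s * t⁻¹ = z R e * s⁻¹ := by
        calc t * s * t⁻¹ = (t * s * t⁻¹ * s) * s⁻¹ := by group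
          _ = z R e * s⁻¹ := by rw [h]
      have h4 : (t * s * t⁻¹) ^ 3 = 1 := by
        calc (t * s * t⁻¹) ^ 3 = t * s ^ 3 * t⁻¹ := by
              simp only [pow_succ, pow_zero, one_mul]; group
          _ = 1 := by rw [hs3]; group
      have hcomm : Commute (z R e) s⁻¹ := (hzc s⁻¹).symm
      have h5 : (z R e * s⁻¹) ^ 3 = z R e := by
        rw [hcomm.mul_pow, inv_pow, hs3, inv_one, mul_one]
        calc z R e ^ 3 = (z R e * z R e) * z R e := by
              simp only [pow_succ, pow_zero, one_mul]
          _ = z R e := by rw [hzz, one_mul]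
      rw [h3, h5] at h4
      exact hz1 h4
  set A := Subgroup.zpowers s with hA
  set K := Subgroup.zpowers t with hK
  have htN : t ∈ Subgroup.normalizer (A : Set X) := by
    rw [Subgroup.mem_normalizer_iff_map_conj_eq, hA]
    have := MonoidHom.map_zpowers (MulAut.conj t).toMonoidHom s
    rw [MulEquiv.coe_toMonoidHom, MulAut.conj_apply, hinv, Subgroup.zpowers_inv] at this
    exact this
  have hKN : K ≤ Subgroup.normalizer (A : Set X) := by
    rw [hK, Subgroup.zpowers_le]; exact htN
  set W := K ⊔ A with hW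
  have hWset : (W : Set X) = (K : Set X) * (A : Set X) :=
    Subgroup.coe_mul_of_left_le_normalizer_right K A hKN
  have hWmem : ∀ w ∈ W, ∃ a' ∈ A, w = a' ∨ w = t * a' := by
    intro w hw
    have : w ∈ (K : Set X) * (A : Set X) := by rw [← hWset]; exact hw
    obtain ⟨k, hk, a', ha', rfl⟩ := Set.mem_mul.mp this
    refine ⟨a', ha', ?_⟩
    rcases mem_zpowers_involution ht hk with h | h
    · left; rw [h, one_mul]
    · right; rw [h]
  have hA3 : ∀ a' ∈ A, a' ^ 3 = 1 := by
    intro a' ha'
    obtain ⟨n, rfl⟩ := Subgroup.mem_zpowers_iff.mp ha'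
    rw [← zpow_natCast, ← zpow_mul, mul_comm, zpow_mul, zpow_natCast, hs3, one_zpow]
  -- z ∉ W
  have hzW : z R e ∉ W := by
    intro hzWm
    obtain ⟨a', ha', h | h⟩ := hWmem _ hzWm
    · have h3 := hA3 a' ha'
      rw [← h] at h3
      apply hz1
      calc z R e = (z R e * z R e) * z R e := by rw [hzz, one_mul]
        _ = z R e ^ 3 := by simp only [pow_succ, pow_zero, one_mul]
        _ = 1 := h3
    · have h3 := hA3 a' ha'
      have ha'eq : a' = t * z R e := by
        calc a' = t⁻¹ * (t * a') := by group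
          _ = t * z R e := by rw [← h, htinv]
      have hsq : (t * z R e) * (t * z R e) = 1 := by
        calc (t * z R e) * (t * z R e) = t * (z R e * t) * z R e := by group
          _ = t * (t * z R e) * z R e := by rw [← hzc t]
          _ = (t * t) * (z R e * z R e) := by group
          _ = 1 := by rw [ht, hzz, one_mul]
      rw [ha'eq] at h3
      have h1 : t * z R e = 1 := by
        calc t * z R e = ((t * z R e) * (t * z R e)) * (t * z R e) := by rw [hsq, one_mul]
          _ = (t * z R e) ^ 3 := by simp only [pow_succ, pow_zero, one_mul]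
          _ = 1 := h3
      apply htR
      have : t = z R e := by
        calc t = (t * z R e) * z R e := by rw [mul_assoc, hzz, mul_one]
          _ = z R e := by rw [h1, one_mul]
      rw [this]; exact z_mem R e
  -- Θ injective on W
  have hWinj : ∀ w ∈ W, Θ R e w = 1 → w = 1 := by
    intro w hw h
    rcases eq_one_or_z_of_Θ_eq_one R e hC _ h with h' | h'
    · exact h'
    · exfalso; apply hzW; rw [← h']; exact hw
  -- cardinalities
  have hordt : orderOf t = 2 := orderOf_eq_prime (by rw [pow_two]; exact ht) ht1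
  have hords : orderOf s = 3 := by
    haveI : Fact (Nat.Prime 3) := ⟨Nat.prime_three⟩
    exact orderOf_eq_prime hs3 hs1
  have hcardA : Nat.card A = 3 := by rw [hA, Nat.card_zpowers, hords]
  have hcardK : Nat.card K = 2 := by rw [hK, Nat.card_zpowers, hordt]
  have hcardW : Nat.card W = 6 := by
    have h3 : 3 ∣ Nat.card W := by
      rw [← hcardA]; exact Subgroup.card_dvd_of_le le_sup_right
    have h2' : 2 ∣ Nat.card W := by
      rw [← hcardK]; exact Subgroup.card_dvd_of_le le_sup_left
    have hle : Nat.card W ≤ 6 := by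
      have h1 : Nat.card W = Nat.card ((K : Set X) * (A : Set X) : Set X) := by
        rw [← hWset]; rfl
      rw [h1]
      calc Nat.card ((K : Set X) * (A : Set X) : Set X)
          ≤ Nat.card (K : Set X) * Nat.card (A : Set X) := Set.natCard_mul_le
        _ = 6 := by
          have e1 : Nat.card (K : Set X) = Nat.card K := rfl
          have e2 : Nat.card (A : Set X) = Nat.card A := rfl
          rw [e1, e2, hcardA, hcardK]
    have hpos : 0 < Nat.card W := Nat.card_pos
    omega
  have hdisj : Disjoint R W := by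
    rw [Subgroup.disjoint_def]
    intro w hwR hwW
    by_contra hw1
    have ho8 : orderOf w ∣ 8 := by
      rw [← card_R R e]
      have := Subgroup.orderOf_dvd_natCard R hwR
      exact this
    have ho6 : orderOf w ∣ 6 := by
      rw [← hcardW]
      exact Subgroup.orderOf_dvd_natCard W hwW
    have ho2 : orderOf w ∣ 2 := by
      have := Nat.dvd_gcd ho8 ho6
      simpa using this
    have hw2 : w * w = 1 := by
      rw [← pow_two]; exact orderOf_dvd_iff_pow_eq_one.mp ho2
    have := eq_z_of_involution R e w hwR hw2 hw1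
    apply hzW
    rw [← this]; exact hwW
  refine ⟨W, ?_, ?_⟩
  · apply Subgroup.isComplement'_of_card_mul_and_disjoint
    · rw [card_R R e, hcardW, h48]
    · exact hdisj
  · intro w hw hcomm
    apply hWinj w hw
    rw [Θ_eq_one_iff]
    exact hcomm

end Cfsg.Agent.Lib.Helper23.Q8Normal
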