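import Mathlib
import Cfsg.Agent.Lib.Helper27.GGDefs
import Cfsg.Agent.Lib.Lead.CharBasic

/-!
# S2318, leaf A1 `sph_isSph` (helper23)

`E = |U|⁻¹ Σ_u ρ(u)` is an idempotent with `ρ(u) E = E = E ρ(u)`; `sph U χ g = tr (ρ(g) E)`.
If `tr E = 1` then `E` has rank one and `E A E = tr (A E) • E` for every endomorphism `A`.
-/

set_option autoImplicit false

namespace Cfsg.Agent.Lib.Helper23.GG

open Cfsg.Agent.Lib.Helper27.GG
open scoped ComplexConjugate

variable {G : Type*} [Group G] [Finite G] {V : Type*} [AddCommGroup V] [Module ℂ V]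
  [FiniteDimensional ℂ V]

/-- the averaging operator `|U|⁻¹ Σ_{u ∈ U} ρ(u)` -/
noncomputable def avgE (ρ : Representation ℂ G V) (U : Subgroup G) : Module.End ℂ V :=
  (Nat.card U : ℂ)⁻¹ • ∑ᶠ u : U, ρ (u : G)

theorem card_ne_zero' (U : Subgroup G) : (Nat.card U : ℂ) ≠ 0 :=
  Nat.cast_ne_zero.mpr Nat.card_pos.ne'

theorem rho_mul_sum (ρ : Representation ℂ G V) (U : Subgroup G) (u₀ : U) :
    ρ (u₀ : G) * ∑ᶠ u : U, ρ (u : G) = ∑ᶠ u : U, ρ (u : G) := by
  classical
  have : Fintype U := Fintype.ofFinite U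
  rw [finsum_eq_sum_of_fintype, Finset.mul_sum]
  refine Fintype.sum_equiv (Equiv.mulLeft u₀) _ _ fun u => ?_
  show ρ (u₀ : G) * ρ (u : G) = ρ ((u₀ * u : U) : G)
  rw [Subgroup.coe_mul, map_mul]

theorem sum_mul_rho (ρ : Representation ℂ G V) (U : Subgroup G) (u₀ : U) :
    (∑ᶠ u : U, ρ (u : G)) * ρ (u₀ : G) = ∑ᶠ u : U, ρ (u : G) := by
  classical
  have : Fintype U := Fintype.ofFinite U
  rw [finsum_eq_sum_of_fintype, Finset.sum_mul]
  refine Fintype.sum_equiv (Equiv.mulRight u₀) _ _ fun u => ?_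
  show ρ (u : G) * ρ (u₀ : G) = ρ ((u * u₀ : U) : G)
  rw [Subgroup.coe_mul, map_mul]

theorem rho_mul_avgE (ρ : Representation ℂ G V) (U : Subgroup G) {u₀ : G} (hu : u₀ ∈ U) :
    ρ u₀ * avgE ρ U = avgE ρ U := by
  unfold avgE
  rw [mul_smul_comm, rho_mul_sum ρ U ⟨u₀, hu⟩]

theorem avgE_mul_rho (ρ : Representation ℂ G V) (U : Subgroup G) {u₀ : G} (hu : u₀ ∈ U) :
    avgE ρ U * ρ u₀ = avgE ρ U := by
  unfold avgE
  rw [smul_mul_assoc, sum_mul_rho ρ U ⟨u₀, hu⟩]

theorem avgE_idem (ρ : Representation ℂ G V) (U : Subgroup G) :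
    avgE ρ U * avgE ρ U = avgE ρ U := by
  classical
  have : Fintype U := Fintype.ofFinite U
  have h : (∑ᶠ u : U, ρ (u : G)) * avgE ρ U = (Nat.card U : ℂ) • avgE ρ U := by
    rw [finsum_eq_sum_of_fintype, Finset.sum_mul]
    rw [Finset.sum_congr rfl fun u _ => rho_mul_avgE ρ U u.2]
    rw [Finset.sum_const, Finset.card_univ, Nat.card_eq_fintype_card, Nat.cast_smul_eq_nsmul]
  calc avgE ρ U * avgE ρ U = ((Nat.card U : ℂ)⁻¹ • ∑ᶠ u : U, ρ (u : G)) * avgE ρ U := rfl
    _ = (Nat.card U : ℂ)⁻¹ • ((∑ᶠ u : U, ρ (u : G)) * avgE ρ U) := smul_mul_assoc _ _ _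
    _ = avgE ρ U := by rw [h, smul_smul, inv_mul_cancel₀ (card_ne_zero' U), one_smul]

/-- `sph U χ g = tr (ρ(g) E)` -/
theorem sph_eq_trace (ρ : Representation ℂ G V) (U : Subgroup G) (g : G) :
    sph U ρ.character g = LinearMap.trace ℂ V (ρ g * avgE ρ U) := by
  classical
  have : Fintype U := Fintype.ofFinite U
  have h : ∑ᶠ u : U, ρ.character (g * (u : G)) =
      LinearMap.trace ℂ V (ρ g * ∑ᶠ u : U, ρ (u : G)) := by
    rw [finsum_eq_sum_of_fintype, finsum_eq_sum_of_fintype, Finset.mul_sum, map_sum]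
    refine Finset.sum_congr rfl fun u _ => ?_
    show LinearMap.trace ℂ V (ρ (g * (u : G))) = _
    rw [map_mul]
  unfold sph avgE
  rw [mul_smul_comm, map_smul, smul_eq_mul, h]

/-- averaging `ρ(g u g')` over `U` -/
theorem avg_conj (ρ : Representation ℂ G V) (U : Subgroup G) (g g' : G) :
    (Nat.card U : ℂ)⁻¹ • ∑ᶠ u : U, ρ (g * (u : G) * g') = ρ g * avgE ρ U * ρ g' := by
  classical
  have : Fintype U := Fintype.ofFinite U
  unfold avgE
  rw [mul_smul_comm, smul_mul_assoc, finsum_eq_sum_of_fintype, finsum_eq_sum_of_fintype,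
    Finset.mul_sum, Finset.sum_mul]
  congr 1
  refine Finset.sum_congr rfl fun u _ => ?_
  rw [map_mul, map_mul]

/-- an idempotent of trace one has rank one: `E A E = tr (A E) • E` -/
theorem rank_one_sandwich (E : Module.End ℂ V) (hE : E * E = E) (htr : LinearMap.trace ℂ V E = 1)
    (A : Module.End ℂ V) : E * A * E = LinearMap.trace ℂ V (A * E) • E := by
  have hidem : IsIdempotentElem E := hE
  have hrank : Module.finrank ℂ (LinearMap.range E) = 1 := by
    have h := (LinearMap.IsIdempotentElem.isProj_range E hidem).trace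
    rw [htr] at h
    exact_mod_cast h.symm
  obtain ⟨⟨v, hvr⟩, hv0, hv⟩ := finrank_eq_one_iff'.mp hrank
  -- `E (A v) = a • v`
  have hEv : E v = v := by
    obtain ⟨x, rfl⟩ := hvr
    show (E * E) x = E x
    rw [hE]
  obtain ⟨a, ha⟩ : ∃ a : ℂ, a • v = E (A v) := by
    obtain ⟨a, ha⟩ := hv ⟨E (A v), LinearMap.mem_range_self E (A v)⟩
    exact ⟨a, congrArg Subtype.val ha⟩
  have key : E * A * E = a • E := by
    apply LinearMap.ext
    intro x
    obtain ⟨c, hc⟩ : ∃ c : ℂ, c • v = E x := by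
      obtain ⟨c, hc⟩ := hv ⟨E x, LinearMap.mem_range_self E x⟩
      exact ⟨c, congrArg Subtype.val hc⟩
    show E (A (E x)) = a • E x
    rw [← hc, map_smul, map_smul, ← ha, smul_comm]
  have htr2 : LinearMap.trace ℂ V (E * A * E) = a := by
    rw [key, map_smul, htr, smul_eq_mul, mul_one]
  have htr3 : LinearMap.trace ℂ V (E * A * E) = LinearMap.trace ℂ V (A * E) := by
    rw [LinearMap.trace_mul_cycle, hE, LinearMap.trace_mul_comm]
  rw [key, ← htr2, htr3]

/-- **A1** -/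
theorem sph_isSph (ρ : Representation ℂ G V) (U : Subgroup G) (h1 : sph U ρ.character 1 = 1) :
    IsSph U (sph U ρ.character) := by
  classical
  have : Fintype U := Fintype.ofFinite U
  have htr : LinearMap.trace ℂ V (avgE ρ U) = 1 := by
    have := sph_eq_trace ρ U 1
    rw [h1, map_one, one_mul] at this
    exact this.symm
  refine ⟨h1, ?_, ?_, ?_, ?_⟩
  · intro u hu g
    rw [sph_eq_trace, sph_eq_trace, map_mul ρ, LinearMap.trace_mul_cycle,
      avgE_mul_rho ρ U hu, LinearMap.trace_mul_comm]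
  · intro u hu g
    rw [sph_eq_trace, sph_eq_trace, map_mul ρ, mul_assoc, rho_mul_avgE ρ U hu]
  · intro g
    unfold sph
    rw [map_mul, map_inv₀, Complex.conj_natCast, finsum_eq_sum_of_fintype,
      finsum_eq_sum_of_fintype, map_sum]
    congr 1
    refine Fintype.sum_equiv (Equiv.inv U) _ _ fun u => ?_
    show ρ.character (g⁻¹ * (u : G)) = conj (ρ.character (g * ((u⁻¹ : U) : G)))
    rw [← Cfsg.Agent.CharLib.char_inv, mul_inv_rev, Subgroup.coe_inv, inv_inv]
    unfold Representation.character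
    rw [map_mul ρ, map_mul ρ, LinearMap.trace_mul_comm]
  · intro g g'
    have h2 : (Nat.card U : ℂ)⁻¹ * ∑ᶠ u : U, sph U ρ.character (g * (u : G) * g') =
        LinearMap.trace ℂ V (((Nat.card U : ℂ)⁻¹ • ∑ᶠ u : U, ρ (g * (u : G) * g')) * avgE ρ U) := by
      rw [smul_mul_assoc, map_smul, smul_eq_mul, finsum_eq_sum_of_fintype,
        finsum_eq_sum_of_fintype, Finset.sum_mul, map_sum]
      congr 1
      exact Finset.sum_congr rfl fun u _ => sph_eq_trace ρ U _
    rw [h2, avg_conj, mul_assoc, mul_assoc, ← mul_assoc (avgE ρ U),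
      rank_one_sandwich (avgE ρ U) (avgE_idem ρ U) htr (ρ g'), mul_smul_comm, map_smul,
      smul_eq_mul, ← sph_eq_trace, ← sph_eq_trace, mul_comm]

end Cfsg.Agent.Lib.Helper23.GG
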