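import Mathlib
import Cfsg.Agent.Lib.Helper23.GGsph_isSph

/-!
# S2318, leaf A2 `sph_norm` (helper23)

Schur: `T = Σ_g ρ(g) E ρ(g⁻¹)` commutes with `ρ`, so `T = λ • 1`, `λ dim V = tr T = |G| tr E = |G|`.
With `E ρ(g⁻¹) E = c(g⁻¹) E` (rank one): `c(g) c(g⁻¹) = tr (ρ(g) E ρ(g⁻¹) E)`, and the sum over `g` is
`tr (T E) = λ tr E = λ`.
-/

set_option autoImplicit false

namespace Cfsg.Agent.Lib.Helper23.GG

open Cfsg.Agent.Lib.Helper27.GG
open scoped ComplexConjugate

variable {G : Type*} [Group G] [Finite G] {V : Type*} [AddCommGroup V] [Module ℂ V]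
  [FiniteDimensional ℂ V]

/-- Schur's lemma in operator form -/
theorem schur_scalar (ρ : Representation ℂ G V) [ρ.IsIrreducible] (T : Module.End ℂ V)
    (hT : ∀ g, T * ρ g = ρ g * T) : ∃ c : ℂ, T = c • (1 : Module.End ℂ V) := by
  let f : Representation.IntertwiningMap ρ ρ := ⟨T, fun g => hT g⟩
  obtain ⟨c, hc⟩ :=
    (Representation.IsIrreducible.algebraMap_intertwiningMap_bijective_of_isAlgClosed (ρ := ρ)).2 f
  refine ⟨c, ?_⟩
  apply LinearMap.ext
  intro v
  have h : f v = (algebraMap ℂ (Representation.IntertwiningMap ρ ρ) c) v := by rw [hc]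
  rw [Representation.IntertwiningMap.algebraMap_apply] at h
  exact h

/-- the Schur average of an operator -/
theorem schur_avg (ρ : Representation ℂ G V) [ρ.IsIrreducible] (A : Module.End ℂ V) :
    ∑ᶠ g : G, ρ g * A * ρ g⁻¹ =
      ((Nat.card G : ℂ) * LinearMap.trace ℂ V A / (Module.finrank ℂ V : ℂ)) •
        (1 : Module.End ℂ V) := by
  classical
  have : Fintype G := Fintype.ofFinite G
  have hV : (Module.finrank ℂ V : ℂ) ≠ 0 := by
    have : Nontrivial V := by
      by_contra hn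
      rw [not_nontrivial_iff_subsingleton] at hn
      have hsub : Subsingleton (Subrepresentation ρ) := by
        refine ⟨fun a b => ?_⟩
        apply Subrepresentation.toSubmodule_injective
        apply SetLike.ext
        intro x
        rw [Subsingleton.elim x 0]
        exact ⟨fun _ => Submodule.zero_mem _, fun _ => Submodule.zero_mem _⟩
      exact not_subsingleton (Subrepresentation ρ) hsub
    exact Nat.cast_ne_zero.mpr Module.finrank_pos.ne'
  have hcomm : ∀ h : G, (∑ᶠ g : G, ρ g * A * ρ g⁻¹) * ρ h = ρ h * ∑ᶠ g : G, ρ g * A * ρ g⁻¹ := by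
    intro h
    rw [finsum_eq_sum_of_fintype, Finset.sum_mul, Finset.mul_sum]
    refine Fintype.sum_equiv (Equiv.mulLeft h⁻¹) _ _ fun g => ?_
    show ρ g * A * ρ g⁻¹ * ρ h = ρ h * (ρ (h⁻¹ * g) * A * ρ (h⁻¹ * g)⁻¹)
    rw [mul_inv_rev, inv_inv, map_mul ρ h⁻¹ g, map_mul ρ g⁻¹ h]
    simp only [← mul_assoc]
    rw [← map_mul ρ h h⁻¹, mul_inv_cancel, map_one, one_mul]
  obtain ⟨c, hc⟩ := schur_scalar ρ _ hcomm
  have htr : LinearMap.trace ℂ V (∑ᶠ g : G, ρ g * A * ρ g⁻¹) =
      (Nat.card G : ℂ) * LinearMap.trace ℂ V A := by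
    rw [finsum_eq_sum_of_fintype, map_sum]
    have h2 : ∀ g : G, LinearMap.trace ℂ V (ρ g * A * ρ g⁻¹) = LinearMap.trace ℂ V A := by
      intro g
      rw [LinearMap.trace_mul_cycle, ← map_mul ρ, inv_mul_cancel, map_one, one_mul]
    rw [Finset.sum_congr rfl fun g _ => h2 g, Finset.sum_const, Finset.card_univ,
      Nat.card_eq_fintype_card, nsmul_eq_mul]
  rw [hc, map_smul, LinearMap.trace_one, smul_eq_mul] at htr
  rw [hc, ← htr, mul_div_assoc, div_self hV, mul_one]

/-- **A2** -/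
theorem sph_norm (ρ : Representation ℂ G V) [ρ.IsIrreducible] (U : Subgroup G)
    (h1 : sph U ρ.character 1 = 1) :
    ∑ᶠ g : G, sph U ρ.character g * sph U ρ.character g⁻¹ =
      (Nat.card G : ℂ) / (Module.finrank ℂ V : ℂ) := by
  classical
  have : Fintype G := Fintype.ofFinite G
  have htr : LinearMap.trace ℂ V (avgE ρ U) = 1 := by
    have := sph_eq_trace ρ U 1
    rw [h1, map_one, one_mul] at this
    exact this.symm
  have hterm : ∀ g : G, sph U ρ.character g * sph U ρ.character g⁻¹ =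
      LinearMap.trace ℂ V (ρ g * avgE ρ U * ρ g⁻¹ * avgE ρ U) := by
    intro g
    rw [mul_assoc, mul_assoc, ← mul_assoc (avgE ρ U),
      rank_one_sandwich (avgE ρ U) (avgE_idem ρ U) htr (ρ g⁻¹), mul_smul_comm, map_smul,
      smul_eq_mul, ← sph_eq_trace, ← sph_eq_trace, mul_comm]
  rw [finsum_congr hterm, finsum_eq_sum_of_fintype, ← map_sum, ← Finset.sum_mul,
    ← finsum_eq_sum_of_fintype, schur_avg ρ (avgE ρ U), htr, mul_one, smul_mul_assoc, one_mul,
    map_smul, htr, smul_eq_mul, mul_one]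

end Cfsg.Agent.Lib.Helper23.GG
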