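import Mathlib
import Cfsg.Prelude.Def_GeometricClasses
import Cfsg.Agent.Lib.Helper5.TMCalc
import Cfsg.Agent.Lib.Helper18.C2Defs

/-!
# S5634 C2A leaf L4b: a block transposition inside `Hs D`
-/

set_option autoImplicit false

namespace Cfsg.Agent.Lib.Helper23.C2Leaf
open Cfsg Matrix Cfsg.Agent.Lib.Helper5.TMCalc Cfsg.Agent.Lib.Helper18.C2

variable {F : Type*} [Field F] {n t m : ℕ} {D : Fin t → Submodule F (Fin n → F)}

/-- the block map `v ↦ e (p_a v)` -/
noncomputable def blk (hD : Cfsg.Geo.IsMDecomposition m D) (a b : Fin t) (e : D a →ₗ[F] D b) :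
    (Fin n → F) →ₗ[F] (Fin n → F) :=
  (D b).subtype ∘ₗ e ∘ₗ (pr hD a).codRestrict (D a) (pr_mem hD a)

lemma blk_apply (hD : Cfsg.Geo.IsMDecomposition m D) (a b : Fin t) (e : D a →ₗ[F] D b)
    (v : Fin n → F) : blk hD a b e v = (e ⟨pr hD a v, pr_mem hD a v⟩ : Fin n → F) := rfl

lemma blk_mem (hD : Cfsg.Geo.IsMDecomposition m D) (a b : Fin t) (e : D a →ₗ[F] D b)
    (v : Fin n → F) : blk hD a b e v ∈ D b := (e _).2

lemma blk_of_mem (hD : Cfsg.Geo.IsMDecomposition m D) (a b : Fin t) (e : D a →ₗ[F] D b)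
    {v : Fin n → F} (hv : v ∈ D a) : blk hD a b e v = (e ⟨v, hv⟩ : Fin n → F) := by
  rw [blk_apply]
  have : (⟨pr hD a v, pr_mem hD a v⟩ : D a) = ⟨v, hv⟩ := Subtype.ext (pr_same hD hv)
  rw [this]

lemma blk_of_ne (hD : Cfsg.Geo.IsMDecomposition m D) (a b : Fin t) (e : D a →ₗ[F] D b)
    {j : Fin t} (hj : j ≠ a) {v : Fin n → F} (hv : v ∈ D j) : blk hD a b e v = 0 := by
  rw [blk_apply]
  have : (⟨pr hD a v, pr_mem hD a v⟩ : D a) = 0 := Subtype.ext (pr_ne hD hj hv)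
  rw [this, map_zero]
  rfl

lemma det_one_add_of {A P : Matrix (Fin n) (Fin n) F} (h1 : A * P = A) (h2 : P * A = 0) :
    (1 + A).det = 1 := by
  rw [← h1, Matrix.det_one_add_mul_comm, h2, add_zero, Matrix.det_one]

lemma blk_mul_pr (hD : Cfsg.Geo.IsMDecomposition m D) (a b : Fin t) (e : D a →ₗ[F] D b) :
    LinearMap.toMatrix' (blk hD a b e) * LinearMap.toMatrix' (pr hD a) =
      LinearMap.toMatrix' (blk hD a b e) := by
  rw [← LinearMap.toMatrix'_comp]
  congr 1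
  apply LinearMap.ext
  intro v
  rw [LinearMap.comp_apply, blk_of_mem hD a b e (pr_mem hD a v), blk_apply]

lemma pr_mul_blk (hD : Cfsg.Geo.IsMDecomposition m D) {a b : Fin t} (hab : a ≠ b)
    (e : D a →ₗ[F] D b) :
    LinearMap.toMatrix' (pr hD a) * LinearMap.toMatrix' (blk hD a b e) = 0 := by
  rw [← LinearMap.toMatrix'_comp]
  have : pr hD a ∘ₗ blk hD a b e = 0 := by
    apply LinearMap.ext
    intro v
    rw [LinearMap.comp_apply, pr_ne hD (Ne.symm hab) (blk_mem hD a b e v), LinearMap.zero_apply]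
  rw [this, map_zero]

lemma det_one_add_blk (hD : Cfsg.Geo.IsMDecomposition m D) {a b : Fin t} (hab : a ≠ b)
    (e : D a →ₗ[F] D b) : (1 + LinearMap.toMatrix' (blk hD a b e)).det = 1 :=
  det_one_add_of (blk_mul_pr hD a b e) (pr_mul_blk hD hab e)

lemma det_one_sub_blk (hD : Cfsg.Geo.IsMDecomposition m D) {a b : Fin t} (hab : a ≠ b)
    (e : D a →ₗ[F] D b) : (1 - LinearMap.toMatrix' (blk hD a b e)).det = 1 := by
  rw [sub_eq_add_neg]
  apply det_one_add_of (P := LinearMap.toMatrix' (pr hD a))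
  · rw [Matrix.neg_mul, blk_mul_pr]
  · rw [Matrix.mul_neg, pr_mul_blk hD hab, neg_zero]

/-- L4b: a block transposition inside `Hs D`. -/
theorem exists_swap (hD : Cfsg.Geo.IsMDecomposition m D) (a b : Fin t) (hab : a ≠ b) :
    ∃ w ∈ Hs D, ∀ j, ∀ v ∈ D j, (w : Matrix (Fin n) (Fin n) F) *ᵥ v ∈ D (Equiv.swap a b j) := by
  classical
  have hfr : Module.finrank F (D a) = Module.finrank F (D b) := by
    rw [hD.finrank_eq, hD.finrank_eq]
  let e : D a ≃ₗ[F] D b := LinearEquiv.ofFinrankEq (D a) (D b) hfr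
  set N₁ := blk hD a b e.toLinearMap with hN₁
  set N₂ := blk hD b a e.symm.toLinearMap with hN₂
  set W : Matrix (Fin n) (Fin n) F :=
    (1 + LinearMap.toMatrix' N₁) * (1 - LinearMap.toMatrix' N₂) * (1 + LinearMap.toMatrix' N₁)
    with hW
  have hdet : W.det = 1 := by
    rw [hW, Matrix.det_mul, Matrix.det_mul, det_one_add_blk hD hab, det_one_sub_blk hD hab.symm]
    ring
  have hX : ∀ v, (1 + LinearMap.toMatrix' N₁) *ᵥ v = v + N₁ v := by
    intro v
    rw [Matrix.add_mulVec, Matrix.one_mulVec, LinearMap.toMatrix'_mulVec]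
  have hY : ∀ v, (1 - LinearMap.toMatrix' N₂) *ᵥ v = v - N₂ v := by
    intro v
    rw [Matrix.sub_mulVec, Matrix.one_mulVec, LinearMap.toMatrix'_mulVec]
  have hWv : ∀ v, W *ᵥ v = (v + N₁ v - N₂ (v + N₁ v)) + N₁ (v + N₁ v - N₂ (v + N₁ v)) := by
    intro v
    rw [hW, ← Matrix.mulVec_mulVec, ← Matrix.mulVec_mulVec, hX v, hY, hX]
  set w : GL (Fin n) F := Matrix.GeneralLinearGroup.mkOfDetNeZero W (by rw [hdet]; exact one_ne_zero)
    with hw
  have hwW : (w : Matrix (Fin n) (Fin n) F) = W := rfl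
  have hmaps : ∀ j, ∀ v ∈ D j, (w : Matrix (Fin n) (Fin n) F) *ᵥ v ∈ D (Equiv.swap a b j) := by
    intro j v hv
    rw [hwW, hWv]
    by_cases hja : j = a
    · subst hja
      rw [Equiv.swap_apply_left]
      -- v ∈ D a
      have h1 : N₁ v = (e ⟨v, hv⟩ : Fin n → F) := blk_of_mem hD _ _ _ hv
      have h2 : N₂ v = 0 := blk_of_ne hD _ _ _ hab hv
      have h3 : N₂ (N₁ v) = v := by
        rw [h1, hN₂, blk_of_mem hD _ _ _ (e ⟨v, hv⟩).2]
        simp
      have h4 : N₁ (N₁ v) = 0 := blk_of_ne hD _ _ _ hab.symm (blk_mem hD _ _ _ v)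
      rw [map_add, h2, h3, zero_add, add_sub_cancel_left, h4, add_zero]
      exact blk_mem hD _ _ _ v
    · by_cases hjb : j = b
      · subst hjb
        rw [Equiv.swap_apply_right]
        have h1 : N₁ v = 0 := blk_of_ne hD _ _ _ hja hv
        have h2 : N₂ v = (e.symm ⟨v, hv⟩ : Fin n → F) := blk_of_mem hD _ _ _ hv
        have h3 : N₁ (N₂ v) = v := by
          rw [h2, hN₁, blk_of_mem hD _ _ _ (e.symm ⟨v, hv⟩).2]
          simp
        rw [h1, add_zero, map_sub, h1, h3, zero_sub]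
        have : v - N₂ v + -v = - N₂ v := by abel
        rw [this]
        exact (D a).neg_mem (blk_mem hD _ _ _ v)
      · rw [Equiv.swap_apply_of_ne_of_ne hja hjb]
        have h1 : N₁ v = 0 := blk_of_ne hD _ _ _ hja hv
        have h2 : N₂ v = 0 := blk_of_ne hD _ _ _ hjb hv
        rw [h1, add_zero, h2, sub_zero, h1, add_zero]
        exact hv
  have hsl : w ∈ Cfsg.Geo.specialLinear (Fin n) F := by
    rw [mem_specialLinear_iff, hwW, hdet]
  exact ⟨w, ⟨mem_stab_of_mapsTo hD (Equiv.swap a b) w hmaps, hsl⟩, hmaps⟩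

end Cfsg.Agent.Lib.Helper23.C2Leaf
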