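import Mathlib
import Cfsg.Prelude.Def_ClassicalGeometry
import Cfsg.Prelude.Def_GeometricClasses
import Cfsg.Agent.Lib.Helper18.T23.H2.SOTDefs
import Cfsg.Agent.Lib.Helper18.T23.H2.SOTGDefs
import Cfsg.Agent.Lib.Helper18.T23.H27.SOTLADefs
import Cfsg.Agent.Lib.Helper18.T23.H27.SOTLAU5
import Cfsg.Agent.Lib.Helper18.T23.H6.SOTLAU2
import Cfsg.Agent.Lib.Helper25.TensQ

/-!
S5804 conjunct (7) `Sp_2(q) ⊗ O_3(q) < Sp_6(q)` (owner helper18), leaf **N3** `fc_caseB_two_three`: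
`m⁻¹ (kA e_o 1) m = 1 ⊗ β₂` is impossible on `F² ⊗ F³`, for ANY `m ∈ GL`.  Pure linear algebra: with `n := m⁻¹`, `ν := 1 - β₂`,
`X := 1 ⊗ ν`: `n EN = X n`, `ν² = 0` on `F³`, so the range of `ν` has dimension `≤ 1`; the two maps
`z ↦ ν ((n (e_o' ⊗ z))_i)` (`i = o, o'`) have kernels of dimension `≥ 2` in `F³`, which meet in some `z ≠ 0`; then
`n (e_o ⊗ z) = n EN (e_o' ⊗ z) = X n (e_o' ⊗ z) = 0`, contradicting the invertibility of `n`.
-/

set_option autoImplicit false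
set_option linter.unusedSectionVars false
set_option linter.unusedVariables false

namespace Cfsg.Agent.Lib.Helper23.C4Leaf
open Matrix Module
open Cfsg.Agent.Lib.Helper25.Tens Cfsg.Agent.Lib.Helper25.SpT Cfsg.Agent.Lib.Helper19.OSub
open Cfsg.Agent.Lib.Helper18.T23.H2.SOT Cfsg.Agent.Lib.Helper18.T23.H27.SOTLA
open scoped Kronecker

variable {F : Type*} [Field F] [Fintype F] {a b : ℕ} {G : Matrix (Fin b) (Fin b) F}
  {M : Subgroup (GL (Idx a b) F)}

/-- `(1 - 1 ⊗ β) w` blockwise -/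
lemma n3_X_mulVec (β : Matrix (Fin b) (Fin b) F) (w : Idx a b → F) (i : Fin a) (k : Fin b) :
    (((1 : Matrix (Idx a b) (Idx a b) F) - (1 : Matrix (Fin a) (Fin a) F) ⊗ₖ β) *ᵥ w) (i, k) =
      ((1 - β) *ᵥ fun l => w (i, l)) k := by
  rw [Matrix.sub_mulVec, Matrix.one_mulVec, Matrix.sub_mulVec, Matrix.one_mulVec, Pi.sub_apply, Pi.sub_apply]
  congr 1
  simp only [Matrix.mulVec, dotProduct, Fintype.sum_prod_type, Matrix.kroneckerMap_apply, Matrix.one_apply]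
  rw [Finset.sum_eq_single i]
  · simp
  · intro j _ hj
    simp [Ne.symm hj]
  · intro h; exact absurd (Finset.mem_univ i) h

/-- a square-zero endomorphism of `F³` has rank at most one -/
lemma n3_finrank_range (ν : Matrix (Fin 3) (Fin 3) F) (hν : ∀ y, ν *ᵥ (ν *ᵥ y) = 0) :
    finrank F (LinearMap.range (Matrix.toLin' ν)) ≤ 1 := by
  have h1 : LinearMap.range (Matrix.toLin' ν) ≤ LinearMap.ker (Matrix.toLin' ν) := by
    rintro _ ⟨y, rfl⟩
    rw [LinearMap.mem_ker, Matrix.toLin'_apply, Matrix.toLin'_apply]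
    exact hν y
  have h2 := Submodule.finrank_mono h1
  have h3 := LinearMap.finrank_range_add_finrank_ker (Matrix.toLin' ν)
  have h4 : finrank F (Fin 3 → F) = 3 := by simp
  omega


/-- the projection to the `i`-th block -/
def n3_proj (i : Fin a) : (Idx a b → F) →ₗ[F] (Fin b → F) := LinearMap.funLeft F F (fun l => (i, l))

lemma n3_proj_apply (i : Fin a) (w : Idx a b → F) : n3_proj i w = fun l => w (i, l) := rfl

/-- the kernel of a map `F³ → F³` through a space of dimension `≤ 1` has dimension `≥ 2` -/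
lemma n3_finrank_ker (L : (Fin 3 → F) →ₗ[F] (Fin 3 → F)) (S : Submodule F (Fin 3 → F))
    (hS : finrank F S ≤ 1) (hL : LinearMap.range L ≤ S) : 2 ≤ finrank F (LinearMap.ker L) := by
  have h2 := Submodule.finrank_mono hL
  have h3 := LinearMap.finrank_range_add_finrank_ker L
  have h4 : finrank F (Fin 3 → F) = 3 := by simp
  omega

/-- two subspaces of `F³` of dimension `≥ 2` meet non-trivially -/
lemma n3_exists_inf (K₁ K₂ : Submodule F (Fin 3 → F)) (h1 : 2 ≤ finrank F K₁) (h2 : 2 ≤ finrank F K₂) :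
    ∃ z : Fin 3 → F, z ≠ 0 ∧ z ∈ K₁ ∧ z ∈ K₂ := by
  have h3 := Submodule.finrank_sup_add_finrank_inf_eq K₁ K₂
  have h4 : finrank F ↥(K₁ ⊔ K₂) ≤ 3 := by
    have := Submodule.finrank_le (K₁ ⊔ K₂)
    simpa using this
  have h5 : 0 < finrank F ↥(K₁ ⊓ K₂) := by omega
  rw [Module.finrank_pos_iff_exists_ne_zero] at h5
  obtain ⟨⟨z, hz⟩, hz0⟩ := h5
  refine ⟨z, ?_, hz.1, hz.2⟩
  intro h
  apply hz0
  exact Subtype.ext h

/-- **N3** (FC, case B) at `(a,b) = (2,3)`: `m⁻¹ (kA e_o 1) m = 1 ⊗ β₂` is impossible for ANY `m`. -/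
theorem fc_caseB_two_three {G : Matrix (Fin 3) (Fin 3) F} (h : Ctx 2 3 G) {o o' : Fin 2}
    (ho : o.val = 0) (ho' : o'.val = 1) (m : GL (Idx 2 3) F) (β₂ : Matrix (Fin 3) (Fin 3) F)
    (hk : ((m⁻¹ * (kA (Pi.single o 1) 1 : GL (Idx 2 3) F) * m : GL (Idx 2 3) F) :
      Matrix (Idx 2 3) (Idx 2 3) F) = (1 : Matrix (Fin 2) (Fin 2) F) ⊗ₖ β₂) : False := by
  classical
  have hoo' : o ≠ o' := fun h' => by rw [h'] at ho; omega
  have hcases : ∀ i : Fin 2, i = o ∨ i = o' := by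
    intro i
    rcases Nat.lt_or_ge i.val 1 with hi | hi
    · left; apply Fin.ext; omega
    · right; apply Fin.ext; have := i.isLt; omega
  -- the matrix of `kA e_o 1`
  have hkA : ((kA (Pi.single o 1) 1 : GL (Idx 2 3) F) : Matrix (Idx 2 3) (Idx 2 3) F) = 1 - EN o o' := by
    rw [Cfsg.Agent.Lib.Helper18.T23.H27.SOTLALeaf.kA_single_eq (by decide : Even 2) ho ho']
    unfold uMat EN
    ext ⟨i, k⟩ ⟨j, l⟩
    simp [Matrix.kroneckerMap_apply, Matrix.sub_apply, Matrix.add_apply, sub_eq_add_neg]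
  set n : Matrix (Idx 2 3) (Idx 2 3) F := ((m⁻¹ : GL (Idx 2 3) F) : Matrix (Idx 2 3) (Idx 2 3) F) with hn
  have hnm : n * (m : Matrix (Idx 2 3) (Idx 2 3) F) = 1 := by
    rw [hn, ← Units.val_mul, inv_mul_cancel, Units.val_one]
  have hmn : (m : Matrix (Idx 2 3) (Idx 2 3) F) * n = 1 := by
    rw [hn, ← Units.val_mul, mul_inv_cancel, Units.val_one]
  -- the relation `n EN = X n`
  have hrel : n * EN o o' = (1 - (1 : Matrix (Fin 2) (Fin 2) F) ⊗ₖ β₂) * n := by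
    have h1 : n * (1 - EN o o') * (m : Matrix (Idx 2 3) (Idx 2 3) F) = (1 : Matrix (Fin 2) (Fin 2) F) ⊗ₖ β₂ := by
      rw [← hkA, ← hk, Units.val_mul, Units.val_mul]
    have h2 : n * (1 - EN o o') = (1 : Matrix (Fin 2) (Fin 2) F) ⊗ₖ β₂ * n := by
      rw [← h1, Matrix.mul_assoc, hmn, Matrix.mul_one]
    rw [Matrix.sub_mul, Matrix.one_mul, ← h2, Matrix.mul_sub, Matrix.mul_one]
    abel
  have hrelv : ∀ v : Idx 2 3 → F,
      n *ᵥ (EN o o' *ᵥ v) = (1 - (1 : Matrix (Fin 2) (Fin 2) F) ⊗ₖ β₂) *ᵥ (n *ᵥ v) := by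
    intro v
    rw [Matrix.mulVec_mulVec, Matrix.mulVec_mulVec, hrel]
  -- `EN² = 0`
  have hEN2 : ∀ v : Idx 2 3 → F, EN o o' *ᵥ (EN o o' *ᵥ v) = 0 := by
    intro v
    funext p
    rw [Cfsg.Agent.Lib.Helper18.T23.H6.SOTLALeaf.EN_mulVec]
    split_ifs with hp
    · rw [Cfsg.Agent.Lib.Helper18.T23.H6.SOTLALeaf.EN_mulVec, if_neg (fun h' : o' = o => hoo' h'.symm)]
      rfl
    · rfl
  -- `X² = 0`
  have hX2 : ∀ w : Idx 2 3 → F, (1 - (1 : Matrix (Fin 2) (Fin 2) F) ⊗ₖ β₂) *ᵥ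
      ((1 - (1 : Matrix (Fin 2) (Fin 2) F) ⊗ₖ β₂) *ᵥ w) = 0 := by
    intro w
    have hw : w = n *ᵥ ((m : Matrix (Idx 2 3) (Idx 2 3) F) *ᵥ w) := by
      rw [Matrix.mulVec_mulVec, hnm, Matrix.one_mulVec]
    rw [hw, ← hrelv, ← hrelv, hEN2, Matrix.mulVec_zero]
  -- `ν² = 0`
  have hν2 : ∀ y : Fin 3 → F, (1 - β₂) *ᵥ ((1 - β₂) *ᵥ y) = 0 := by
    intro y
    have hpt : ∀ y' : Fin 3 → F, (1 - (1 : Matrix (Fin 2) (Fin 2) F) ⊗ₖ β₂) *ᵥ pt (Pi.single o 1) y' =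
        pt (Pi.single o (1 : F)) ((1 - β₂) *ᵥ y') := by
      intro y'
      funext ⟨i, k⟩
      rw [n3_X_mulVec]
      simp only [pt, Matrix.mulVec, dotProduct]
      rw [Finset.mul_sum]
      apply Finset.sum_congr rfl
      intro l _
      ring
    have h1 := hX2 (pt (Pi.single o 1) y)
    rw [hpt, hpt, pt_eq_zero_iff] at h1
    rcases h1 with h1 | h1
    · exfalso
      have := congrFun h1 o
      simp at this
    · exact h1
  have hrange := n3_finrank_range (1 - β₂) hν2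
  -- the two maps
  set L : Fin 2 → ((Fin 3 → F) →ₗ[F] (Fin 3 → F)) := fun i =>
    (Matrix.toLin' (1 - β₂)).comp ((n3_proj i).comp ((Matrix.toLin' n).comp (Cfsg.Agent.Lib.Helper25.TensLeaf.ptR (Pi.single o' (1 : F))))) with hL
  have hLker : ∀ i, 2 ≤ finrank F (LinearMap.ker (L i)) := by
    intro i
    apply n3_finrank_ker (L i) _ hrange
    exact LinearMap.range_comp_le_range _ _
  obtain ⟨z, hz0, hz1, hz2⟩ := n3_exists_inf _ _ (hLker o) (hLker o')
  have hLz : ∀ i, (1 - β₂) *ᵥ (fun l => (n *ᵥ pt (Pi.single o' (1 : F)) z) (i, l)) = 0 := by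
    intro i
    have hi : L i z = 0 := by
      rcases hcases i with rfl | rfl
      · exact hz1
      · exact hz2
    exact hi
  -- the contradiction
  have hEpt : EN o o' *ᵥ pt (Pi.single o' (1 : F)) z = pt (Pi.single o (1 : F)) z := by
    funext ⟨i, k⟩
    rw [Cfsg.Agent.Lib.Helper18.T23.H6.SOTLALeaf.EN_mulVec]
    simp only [pt]
    by_cases hi : i = o
    · subst hi
      simp
    · rw [if_neg hi, Pi.single_eq_of_ne hi, zero_mul]
  have hzero : n *ᵥ pt (Pi.single o (1 : F)) z = 0 := by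
    rw [← hEpt, hrelv]
    funext ⟨i, k⟩
    rw [n3_X_mulVec, hLz i]
    rfl
  have := Cfsg.Agent.Lib.Helper25.TensLeaf.gl_mulVec_eq_zero (m⁻¹) hzero
  rw [pt_eq_zero_iff] at this
  rcases this with h1 | h1
  · have := congrFun h1 o
    simp at this
  · exact hz0 h1

end Cfsg.Agent.Lib.Helper23.C4Leaf
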