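/-
helper23: S4359 market "GLAUB" (`notes/S4359_leaves.lean`, planner helper18), leaf G3 (the regularity lemma for a
prime `p`): the prime-`p` port of my `SIMST2B2.Fc_eq_bot_of_stable`.
-/
import Mathlib
import Cfsg.Agent.Lib.Helper18.GlaubDefs
import Cfsg.Agent.Lib.Helper23.SIMST2B2

set_option autoImplicit false

namespace Cfsg.Agent.Lib.Helper23.GLAUBG3

open Cfsg Cfsg.Agent.Lib.Helper18.Sims3 Cfsg.Agent.Lib.Helper18.Glaub
open Cfsg.Agent.Lib.Helper29.TWPair
open Cfsg.Agent.Lib.Helper12.SIMST2B1 Cfsg.Agent.Lib.Helper12.SIMST2B3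
open Cfsg.Agent.Lib.Helper23.SIMST2B2

variable {G : Type*} [Group G]

/-- in a finite `p`-group a subgroup of index `p` is normal -/
theorem le_normalizer_of_relIndex_p [Finite G] {p : ℕ} (hp : p.Prime) {K M : Subgroup G}
    (hKM : K ≤ M) (hM : IsPGroup p ↥M) (hidx : K.relIndex M = p) :
    M ≤ Subgroup.normalizer (K : Set G) := by
  haveI : Fact p.Prime := ⟨hp⟩
  obtain ⟨n, hn⟩ := IsPGroup.iff_card.mp hM
  have hdvd : p ∣ Nat.card ↥M := by
    have h1 : (K.subgroupOf M).index ∣ Nat.card ↥M := Subgroup.index_dvd_card _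
    have h2 : (K.subgroupOf M).index = p := hidx
    rwa [h2] at h1
  have hn0 : n ≠ 0 := by
    rintro rfl
    rw [hn, pow_zero] at hdvd
    exact hp.one_lt.ne' (Nat.dvd_one.mp hdvd)
  have h3 : (K.subgroupOf M).Normal := by
    apply Subgroup.normal_of_index_eq_minFac_card
    rw [hn, Nat.Prime.pow_minFac hp hn0]
    exact hidx
  exact (Subgroup.normal_subgroupOf_iff_le_normalizer hKM).mp h3

/-- LEAF G3 (regularity lemma). -/
theorem Fc_eq_bot_of_stable_p [Finite G] (γ : G) (P : Subgroup G) (p : ℕ) (hp : p.Prime)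
    (hP : IsPGroup p ↥P)
    (h1 : ∀ Q : Subgroup G, Q ≤ P → (Q.subgroupOf P).Normal → cj γ Q = Q → Q = ⊥)
    (hstep : ∀ i k, (Fc γ P i (k + 1)).relIndex (Fc γ P i k) ∣ p) (k : ℕ)
    (hstrict : ∀ j, j < k → Fc γ P 0 (j + 1) ≠ Fc γ P 0 j)
    (hstab : Fc γ P 0 (k + 1) = Fc γ P 0 k) : Fc γ P 0 k = ⊥ := by
  -- the case `k = 0`
  rcases Nat.eq_zero_or_pos k with hk0 | hkpos
  · rw [hk0] at hstab ⊢
    have hle : Fc γ P 0 0 ≤ Fc γ P (0 + 1) 0 := by
      rw [← hstab]
      exact Fc_succ_le_start γ P 0 0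
    rw [← cj_Fc, Fc_zero_zero] at hle
    have hcj : cj γ P = P := by
      symm
      apply Subgroup.eq_of_le_of_card_ge hle
      rw [card_cj]
    rw [Fc_zero_zero]
    refine h1 P le_rfl ?_ hcj
    rw [Subgroup.subgroupOf_self]
    infer_instance
  -- `k ≥ 1`
  obtain ⟨k', rfl⟩ : ∃ k', k = k' + 1 := ⟨k - 1, by omega⟩
  have hEle : Fc γ P 0 (k' + 1) ≤ Fc γ P (0 + 1) (k' + 1) := by
    rw [← hstab]
    exact Fc_succ_le_start γ P 0 (k' + 1)
  rw [← cj_Fc] at hEle
  set E := Fc γ P 0 (k' + 1) with hE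
  -- `γ` normalizes `E`
  have hgE : cj γ E = E := by
    symm
    apply Subgroup.eq_of_le_of_card_ge hEle
    rw [card_cj]
  have hgN : γ ∈ Subgroup.normalizer (E : Set G) := mem_normalizer_of_cj_eq hgE
  -- `Fc 0 j ≤ P`
  have hFP : ∀ j, Fc γ P 0 j ≤ P := by
    intro j
    have h1' : Fc γ P 0 j ≤ Dn γ P (0 + 0) := Fc_le_Dn γ P 0 j 0 (by omega)
    have h2 : Dn γ P (0 + 0) = P := by
      unfold Dn
      ext y
      rw [Nat.add_zero, pow_zero, mem_cj_iff]
      simp
    rwa [h2] at h1'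
  -- exact index `p` along the strict part of the chain
  have hidx : ∀ j, j < k' + 1 → (Fc γ P 0 (j + 1)).relIndex (Fc γ P 0 j) = p := by
    intro j hj
    have hd := hstep 0 j
    rcases (Nat.dvd_prime hp).mp hd with h1' | h2
    · exfalso
      rw [Subgroup.relIndex_eq_one] at h1'
      exact hstrict j hj (le_antisymm (Fc_succ_le γ P 0 j) h1')
    · exact h2
  -- `Fc 0 k'` normalizes `E`
  have hFN : Fc γ P 0 k' ≤ Subgroup.normalizer (E : Set G) :=
    le_normalizer_of_relIndex_p hp (Fc_succ_le γ P 0 k') (hP.to_le (hFP k')) (hidx k' (by omega))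
  -- `T = ⟨γ, Fc 0 k'⟩ ≥ P`
  set T : Subgroup G := Subgroup.closure ({γ} ∪ (Fc γ P 0 k' : Set G)) with hT
  have hgT : γ ∈ T := Subgroup.subset_closure (Or.inl rfl)
  have hcjT : ∀ S : Subgroup G, S ≤ T → cj γ S ≤ T := by
    intro S hS y hy
    rw [mem_cj_iff] at hy
    have : y = γ * (γ⁻¹ * y * γ) * γ⁻¹ := by group
    rw [this]
    exact mul_mem (mul_mem hgT (hS hy)) (inv_mem hgT)
  have hcjT' : ∀ S : Subgroup G, cj γ S ≤ T → S ≤ T := by
    intro S hS y hy
    have h1' := hS (conj_mem_cj γ S hy)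
    have : y = γ⁻¹ * (γ * y * γ⁻¹) * γ := by group
    rw [this]
    exact mul_mem (mul_mem (inv_mem hgT) h1') hgT
  have hdown : ∀ d, d ≤ k' → Fc γ P 0 (k' - d) ≤ T := by
    intro d
    induction d with
    | zero =>
      intro _
      rw [Nat.sub_zero]
      intro y hy
      exact Subgroup.subset_closure (Or.inr hy)
    | succ d ih =>
      intro hd
      have ih' := ih (by omega)
      set j := k' - (d + 1) with hj
      have hj1 : k' - d = j + 1 := by omega
      rw [hj1] at ih'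
      have h1' : Fc γ P 1 (j + 1) ≤ T := by
        have := hcjT _ ih'
        rwa [cj_Fc] at this
      have hsup : Fc γ P 1 (j + 1) ⊔ Fc γ P 0 (j + 1) = Fc γ P 1 j := by
        apply sup_eq_of_prime_relIndex (Fc_succ_le γ P 1 j) (Fc_succ_le_start γ P 0 j) hp
        · have := relIndex_cj γ (Fc γ P 0 (j + 1)) (Fc γ P 0 j)
          rw [cj_Fc, cj_Fc] at this
          rw [this]
          exact hidx j (by omega)
        · intro hle
          apply hstrict (j + 1) (by omega)
          rw [Fc_succ γ P 0 (j + 1)]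
          apply le_antisymm inf_le_left
          apply le_inf le_rfl
          have h3 := Fc_le_Dn γ P 1 (j + 1) (j + 1) le_rfl
          have e : 1 + (j + 1) = 0 + (j + 1 + 1) := by omega
          rw [e] at h3
          exact le_trans hle h3
      have h2 : Fc γ P 1 j ≤ T := by
        rw [← hsup]
        exact sup_le h1' ih'
      apply hcjT'
      rw [cj_Fc]
      exact h2
  have hPT : P ≤ T := by
    have := hdown k' le_rfl
    rwa [Nat.sub_self, Fc_zero_zero] at this
  -- `T` normalizes `E`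
  have hTN : T ≤ Subgroup.normalizer (E : Set G) := by
    rw [hT, Subgroup.closure_le]
    rintro y (hy | hy)
    · rw [Set.mem_singleton_iff] at hy
      rw [hy]
      exact hgN
    · exact hFN hy
  have hEP : E ≤ P := hFP (k' + 1)
  have hEn : (E.subgroupOf P).Normal :=
    (Subgroup.normal_subgroupOf_iff_le_normalizer hEP).mpr (le_trans hPT hTN)
  exact h1 E hEP hEn hgE

end Cfsg.Agent.Lib.Helper23.GLAUBG3
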