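import Mathlib
import Cfsg.Prelude.Def_ClassicalGeometry
import Cfsg.Prelude.Def_GeometricClasses
import Cfsg.Agent.Lib.Helper5.SpMax
import Cfsg.Agent.Lib.Helper22.C3sDefs

/-!
S5664 leaf market (helper22), leaf TR: the `E`-transvections are transitive on the non-zero vectors.
-/

set_option autoImplicit false
set_option linter.unusedSectionVars false
set_option linter.unusedVariables false

namespace Cfsg.Agent.Lib.Helper23.C3sLeaf
open Cfsg Matrix Module Cfsg.Agent.Lib.Helper5 Cfsg.Agent.Lib.Helper5.SpMax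
  Cfsg.Agent.Lib.Helper22.C3 Cfsg.Agent.Lib.Helper22.C3s

universe u
variable {F : Type u} [Field F] {m : ℕ} {E : Type u} [Field E] [Algebra F E]

local notation "𝕍" => (Fin m ⊕ Fin m → F)
local notation "𝕄" => Matrix (Fin m ⊕ Fin m) (Fin m ⊕ Fin m) F

/-- one `E`-transvection maps `u` to `u'` when `fE u u' ≠ 0` -/
theorem exists_kt_map_of_ne (S : KS m F E) {u u' : 𝕍} (h : S.fE u u' ≠ 0) :
    ∃ s : GL (Fin m ⊕ Fin m) F, s ∈ spGL m F ∧ (∀ e : E, (s : 𝕄) * S.ρ e = S.ρ e * (s : 𝕄)) ∧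
      (s : 𝕄) *ᵥ u = u' := by
  refine ⟨S.kt (u' - u) (S.fE u u')⁻¹, S.kt_mem _ _, fun e => S.kt_comm _ _ e, ?_⟩
  rw [S.kt_mulVec, S.fE_sub_right, S.alt, sub_zero, inv_mul_cancel₀ h, S.act_one]
  abel

/-- TR: the `E`-transvections are transitive on the non-zero vectors -/
theorem exists_kt_map (S : KS m F E) {u u' : 𝕍} (hu : u ≠ 0) (hu' : u' ≠ 0) :
    ∃ s : GL (Fin m ⊕ Fin m) F, s ∈ spGL m F ∧ (∀ e : E, (s : 𝕄) * S.ρ e = S.ρ e * (s : 𝕄)) ∧
      (s : 𝕄) *ᵥ u = u' := by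
  by_cases h : S.fE u u' = 0
  · -- find `y` with `fE u y ≠ 0` and `fE u' y ≠ 0`
    have hy : ∃ y : 𝕍, S.fE u y ≠ 0 ∧ S.fE u' y ≠ 0 := by
      obtain ⟨y1, hy1⟩ := S.fE_nondeg hu
      obtain ⟨y2, hy2⟩ := S.fE_nondeg hu'
      by_cases h1 : S.fE u' y1 = 0
      · by_cases h2 : S.fE u y2 = 0
        · refine ⟨y1 + y2, ?_, ?_⟩
          · rw [S.fE_add_right, h2, add_zero]; exact hy1
          · rw [S.fE_add_right, h1, zero_add]; exact hy2
        · exact ⟨y2, h2, hy2⟩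
      · exact ⟨y1, hy1, h1⟩
    obtain ⟨y, hy1, hy2⟩ := hy
    have hy2' : S.fE y u' ≠ 0 := by
      rw [S.skew]
      exact neg_ne_zero.mpr hy2
    obtain ⟨s1, hs1, hc1, hm1⟩ := exists_kt_map_of_ne S hy1
    obtain ⟨s2, hs2, hc2, hm2⟩ := exists_kt_map_of_ne S hy2'
    refine ⟨s2 * s1, (spGL m F).mul_mem hs2 hs1, ?_, ?_⟩
    · intro e
      rw [Units.val_mul, mul_assoc, hc1 e, ← mul_assoc, hc2 e, mul_assoc]
    · rw [Units.val_mul, ← Matrix.mulVec_mulVec, hm1, hm2]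
  · exact exists_kt_map_of_ne S h

end Cfsg.Agent.Lib.Helper23.C3sLeaf
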