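import Mathlib
import Cfsg.Prelude.Def_ClassicalGeometry
import Cfsg.Prelude.Def_GeometricClasses
import Cfsg.Agent.Lib.Helper5.SpMax
import Cfsg.Agent.Lib.Helper22.C3sDefs
import Cfsg.Agent.Lib.Helper23.C3sTR

/-!
S5664 leaf market (helper22), leaf E: a subgroup of `Sp` containing the centraliser of `E` in `Sp`
and one non-trivial `F`-transvection is all of `Sp`.
-/

set_option autoImplicit false
set_option linter.unusedSectionVars false
set_option linter.unusedVariables false

namespace Cfsg.Agent.Lib.Helper23.C3sLeaf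
open Cfsg Matrix Module Cfsg.Agent.Lib.Helper5 Cfsg.Agent.Lib.Helper5.SpMax
  Cfsg.Agent.Lib.Helper22.C3 Cfsg.Agent.Lib.Helper22.C3s

universe u
variable {F : Type u} [Field F] {m : ℕ} {E : Type u} [Field E] [Algebra F E]

local notation "𝕍" => (Fin m ⊕ Fin m → F)
local notation "𝕄" => Matrix (Fin m ⊕ Fin m) (Fin m ⊕ Fin m) F

/-- every element of a finite field is a sum of two squares -/
theorem exists_sq_add_sq_finite [Fintype F] (x : F) : ∃ a b : F, a ^ 2 + b ^ 2 = x := by
  classical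
  by_cases h2 : ringChar F = 2
  · obtain ⟨a, ha⟩ := FiniteField.isSquare_of_char_two h2 x
    refine ⟨a, 0, ?_⟩
    rw [ha]; ring
  · have hodd : Fintype.card F % 2 = 1 := FiniteField.odd_card_of_char_ne_two h2
    obtain ⟨a, b, hab⟩ := FiniteField.exists_root_sum_quadratic
      (f := (Polynomial.X : Polynomial F) ^ 2) (g := Polynomial.X ^ 2 - Polynomial.C x)
      (Polynomial.degree_X_pow 2) (Polynomial.degree_X_pow_sub_C (by decide) _) hodd
    refine ⟨a, b, ?_⟩
    simp only [Polynomial.eval_pow, Polynomial.eval_X, Polynomial.eval_sub, Polynomial.eval_C] at hab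
    linear_combination hab

lemma tvc_smul_center (t : F) (a : 𝕍) (c : F) : tvc (t • a) c = tvc a (t ^ 2 * c) := by
  apply Units.ext
  apply mat_eq_of_mulVec
  intro x
  rw [tvc_mulVec, tvc_mulVec, sympForm_smul_right, smul_smul]
  congr 2
  ring

lemma tvc_mul_same (a : 𝕍) (c d : F) : tvc a c * tvc a d = tvc a (c + d) := by
  apply Units.ext
  apply mat_eq_of_mulVec
  intro x
  rw [Units.val_mul, ← Matrix.mulVec_mulVec, tvc_mulVec, tvc_mulVec, tvc_mulVec,
    sympForm_add_left, sympForm_smul_left, sympForm_self, mul_zero, add_zero, add_assoc,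
    ← add_smul]
  congr 2
  ring

lemma tvc_zero_center (c : F) : tvc (0 : 𝕍) c = 1 := by
  apply Units.ext
  apply mat_eq_of_mulVec
  intro x
  rw [tvc_mulVec, smul_zero, add_zero, Units.val_one, Matrix.one_mulVec]

/-- E: one transvection is enough -/
theorem le_of_tvc_mem [Fintype F] (S : KS m F E) (M : Subgroup (GL (Fin m ⊕ Fin m) F))
    (hMS : M ≤ spGL m F)
    (hM : ∀ g ∈ spGL m F, (∀ e : E, (g : 𝕄) * S.ρ e = S.ρ e * (g : 𝕄)) → g ∈ M)
    {v : 𝕍} (hv : v ≠ 0) {c : F} (hc : c ≠ 0) (h : tvc v c ∈ M) : spGL m F ≤ M := by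
  -- all transvections with parameter `c` are in `M`
  have h1 : ∀ v' : 𝕍, tvc v' c ∈ M := by
    intro v'
    by_cases hv' : v' = 0
    · rw [hv', tvc_zero_center]
      exact M.one_mem
    · obtain ⟨s, hs, hsc, hsv⟩ := exists_kt_map S hv hv'
      have hsM : s ∈ M := hM s hs hsc
      rw [← hsv, ← conj_tvc hs]
      exact M.mul_mem (M.mul_mem hsM h) (M.inv_mem hsM)
  apply le_of_forall_mem_Sset
  intro a d
  obtain ⟨s, t, hst⟩ := exists_sq_add_sq_finite (d / c)
  have hd : d = s ^ 2 * c + t ^ 2 * c := by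
    rw [← add_mul, hst, div_mul_cancel₀ _ hc]
  rw [hd, ← tvc_mul_same, ← tvc_smul_center, ← tvc_smul_center]
  exact M.mul_mem (h1 _) (h1 _)

end Cfsg.Agent.Lib.Helper23.C3sLeaf
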