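import Mathlib
import Cfsg.Prelude.Def_ClassicalGeometry
import Cfsg.Prelude.Def_GeometricClasses
import Cfsg.Agent.Lib.Helper5.TSMax
import Cfsg.Agent.Lib.Helper19.OSubDefs
import Cfsg.Agent.Lib.Helper19.OSubBasic
import Cfsg.Agent.Lib.Helper19.OSubEM
import Cfsg.Agent.Lib.Helper20.OSubI4

/-!
# S5683 leaf X4 (core): a good involution of rank 4 from a rational frame fixed by `y`
-/

set_option autoImplicit false
set_option linter.unusedSectionVars false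
set_option linter.unusedVariables false

namespace Cfsg.Agent.Lib.Helper23.OSubLeaf
open Cfsg Matrix QuadraticMap Module Cfsg.Agent.Lib.Helper25.Siegel Cfsg.Agent.Lib.Helper19.OSub
open scoped commutatorElement

variable {ι : Type} [Fintype ι] [DecidableEq ι] {F : Type*} [Field F] [Fintype F]
  {F₀ : Subfield F} {Q : QuadraticForm F (ι → F)} {M : Subgroup (GL ι F)}

theorem x_mem_Eig (z : GL ι F) (ε : F) (x : ι → F) : x ∈ Eig z ε ↔ mv z x = ε • x := by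
  unfold Eig
  rw [Module.End.mem_eigenspace_iff, Matrix.toLin'_apply]

/-- the projection onto the hyperbolic 4-space `⟨e₀, f₀, e₁, f₁⟩` -/
def hp4 (Q : QuadraticForm F (ι → F)) (e₀ f₀ e₁ f₁ x : ι → F) : ι → F :=
  polar Q f₀ x • e₀ + polar Q e₀ x • f₀ + polar Q f₁ x • e₁ + polar Q e₁ x • f₁

/-- hyperbolic 4-space data -/
structure H4 (Q : QuadraticForm F (ι → F)) (e₀ f₀ e₁ f₁ : ι → F) : Prop where
  Qe₀ : Q e₀ = 0
  Qf₀ : Q f₀ = 0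
  Qe₁ : Q e₁ = 0
  Qf₁ : Q f₁ = 0
  e₀f₀ : polar Q e₀ f₀ = 1
  e₁f₁ : polar Q e₁ f₁ = 1
  e₀e₁ : polar Q e₀ e₁ = 0
  f₀f₁ : polar Q f₀ f₁ = 0
  e₀f₁ : polar Q e₀ f₁ = 0
  e₁f₀ : polar Q e₁ f₀ = 0

section H4
variable {e₀ f₀ e₁ f₁ : ι → F}

theorem polar_self_zero {u : ι → F} (hu : Q u = 0) : polar Q u u = 0 := polar_self_sing hu

theorem H4.pol_f₀ (H : H4 Q e₀ f₀ e₁ f₁) (x : ι → F) :
    polar Q f₀ (hp4 Q e₀ f₀ e₁ f₁ x) = polar Q f₀ x := by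
  unfold hp4
  rw [polar_add_right, polar_add_right, polar_add_right, polar_smul_right, polar_smul_right,
    polar_smul_right, polar_smul_right, polar_comm Q f₀ e₀, H.e₀f₀, polar_self_zero H.Qf₀,
    polar_comm Q f₀ e₁, H.e₁f₀, H.f₀f₁]
  simp

theorem H4.pol_e₀ (H : H4 Q e₀ f₀ e₁ f₁) (x : ι → F) :
    polar Q e₀ (hp4 Q e₀ f₀ e₁ f₁ x) = polar Q e₀ x := by
  unfold hp4
  rw [polar_add_right, polar_add_right, polar_add_right, polar_smul_right, polar_smul_right,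
    polar_smul_right, polar_smul_right, polar_self_zero H.Qe₀, H.e₀f₀, H.e₀e₁, H.e₀f₁]
  simp

theorem H4.pol_f₁ (H : H4 Q e₀ f₀ e₁ f₁) (x : ι → F) :
    polar Q f₁ (hp4 Q e₀ f₀ e₁ f₁ x) = polar Q f₁ x := by
  unfold hp4
  rw [polar_add_right, polar_add_right, polar_add_right, polar_smul_right, polar_smul_right,
    polar_smul_right, polar_smul_right, polar_comm Q f₁ e₀, H.e₀f₁, polar_comm Q f₁ f₀, H.f₀f₁,
    polar_comm Q f₁ e₁, H.e₁f₁, polar_self_zero H.Qf₁]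
  simp

theorem H4.pol_e₁ (H : H4 Q e₀ f₀ e₁ f₁) (x : ι → F) :
    polar Q e₁ (hp4 Q e₀ f₀ e₁ f₁ x) = polar Q e₁ x := by
  unfold hp4
  rw [polar_add_right, polar_add_right, polar_add_right, polar_smul_right, polar_smul_right,
    polar_smul_right, polar_smul_right, polar_comm Q e₁ e₀, H.e₀e₁, H.e₁f₀,
    polar_self_zero H.Qe₁, H.e₁f₁]
  simp

theorem hp4_eq (e₀ f₀ e₁ f₁ y : ι → F) : hp4 Q e₀ f₀ e₁ f₁ y =
    polar Q f₀ y • e₀ + polar Q e₀ y • f₀ + polar Q f₁ y • e₁ + polar Q e₁ y • f₁ := rfl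

theorem H4.hp4_hp4 (H : H4 Q e₀ f₀ e₁ f₁) (x : ι → F) :
    hp4 Q e₀ f₀ e₁ f₁ (hp4 Q e₀ f₀ e₁ f₁ x) = hp4 Q e₀ f₀ e₁ f₁ x := by
  rw [hp4_eq e₀ f₀ e₁ f₁ (hp4 Q e₀ f₀ e₁ f₁ x), H.pol_f₀, H.pol_e₀, H.pol_f₁, H.pol_e₁]
  rfl

theorem hp4_add (e₀ f₀ e₁ f₁ x y : ι → F) :
    hp4 Q e₀ f₀ e₁ f₁ (x + y) = hp4 Q e₀ f₀ e₁ f₁ x + hp4 Q e₀ f₀ e₁ f₁ y := by
  unfold hp4
  rw [polar_add_right, polar_add_right, polar_add_right, polar_add_right]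
  module

theorem hp4_smul (e₀ f₀ e₁ f₁ : ι → F) (c : F) (x : ι → F) :
    hp4 Q e₀ f₀ e₁ f₁ (c • x) = c • hp4 Q e₀ f₀ e₁ f₁ x := by
  unfold hp4
  rw [polar_smul_right, polar_smul_right, polar_smul_right, polar_smul_right]
  simp only [smul_eq_mul]
  module

theorem H4.hp4_e₀ (H : H4 Q e₀ f₀ e₁ f₁) : hp4 Q e₀ f₀ e₁ f₁ e₀ = e₀ := by
  unfold hp4
  rw [polar_comm Q f₀ e₀, H.e₀f₀, polar_self_zero H.Qe₀, polar_comm Q f₁ e₀, H.e₀f₁,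
    polar_comm Q e₁ e₀, H.e₀e₁]
  simp

theorem H4.hp4_f₀ (H : H4 Q e₀ f₀ e₁ f₁) : hp4 Q e₀ f₀ e₁ f₁ f₀ = f₀ := by
  unfold hp4
  rw [polar_self_zero H.Qf₀, H.e₀f₀, polar_comm Q f₁ f₀, H.f₀f₁, H.e₁f₀]
  simp

theorem H4.hp4_e₁ (H : H4 Q e₀ f₀ e₁ f₁) : hp4 Q e₀ f₀ e₁ f₁ e₁ = e₁ := by
  unfold hp4
  rw [polar_comm Q f₀ e₁, H.e₁f₀, H.e₀e₁, polar_comm Q f₁ e₁, H.e₁f₁, polar_self_zero H.Qe₁]
  simp

theorem H4.hp4_f₁ (H : H4 Q e₀ f₀ e₁ f₁) : hp4 Q e₀ f₀ e₁ f₁ f₁ = f₁ := by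
  unfold hp4
  rw [H.f₀f₁, H.e₀f₁, polar_self_zero H.Qf₁, H.e₁f₁]
  simp

/-- the four vectors are linearly independent -/
theorem H4.linIndep (H : H4 Q e₀ f₀ e₁ f₁) : LinearIndependent F ![e₀, f₀, e₁, f₁] := by
  rw [Fintype.linearIndependent_iff]
  intro g hg
  rw [Fin.sum_univ_four] at hg
  simp only [Matrix.cons_val_zero, Matrix.cons_val_one, Matrix.cons_val_two,
    Matrix.cons_val_three, Matrix.head_cons, Matrix.tail_cons] at hg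
  have k0 := congrArg (polar Q f₀) hg
  have k1 := congrArg (polar Q e₀) hg
  have k2 := congrArg (polar Q f₁) hg
  have k3 := congrArg (polar Q e₁) hg
  rw [polar_add_right, polar_add_right, polar_add_right, polar_smul_right, polar_smul_right,
    polar_smul_right, polar_smul_right] at k0 k1 k2 k3
  rw [polar_comm Q f₀ e₀, H.e₀f₀, polar_self_zero H.Qf₀, polar_comm Q f₀ e₁, H.e₁f₀, H.f₀f₁] at k0
  rw [polar_self_zero H.Qe₀, H.e₀f₀, H.e₀e₁, H.e₀f₁] at k1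
  rw [polar_comm Q f₁ e₀, H.e₀f₁, polar_comm Q f₁ f₀, H.f₀f₁, polar_comm Q f₁ e₁, H.e₁f₁,
    polar_self_zero H.Qf₁] at k2
  rw [polar_comm Q e₁ e₀, H.e₀e₁, H.e₁f₀, polar_self_zero H.Qe₁, H.e₁f₁] at k3
  simp only [smul_eq_mul, mul_one, mul_zero, add_zero, zero_add, QuadraticMap.polar_zero_right] at k0 k1 k2 k3
  intro i
  fin_cases i
  · exact k0
  · exact k1
  · exact k2
  · exact k3

/-- the eigenspace for `-1` of `x ↦ x - 2 hp4 x` is the hyperbolic 4-space -/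
theorem H4.eig_neg (H : H4 Q e₀ f₀ e₁ f₁) (h2 : (2 : F) ≠ 0) {t : GL ι F}
    (ht : ∀ x, mv t x = x - (2 : F) • hp4 Q e₀ f₀ e₁ f₁ x) :
    Eig t (-1) = Submodule.span F (Set.range ![e₀, f₀, e₁, f₁]) := by
  have hmem : ∀ i, ![e₀, f₀, e₁, f₁] i ∈ Submodule.span F (Set.range ![e₀, f₀, e₁, f₁]) :=
    fun i => Submodule.subset_span ⟨i, rfl⟩
  apply le_antisymm
  · intro x hx
    rw [x_mem_Eig, ht] at hx
    have hx' : hp4 Q e₀ f₀ e₁ f₁ x = x := by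
      have e : (2 : F) • hp4 Q e₀ f₀ e₁ f₁ x = (2 : F) • x := by
        have : x - (2 : F) • hp4 Q e₀ f₀ e₁ f₁ x = (-1 : F) • x := hx
        have e2 : (2 : F) • x = x - (-1 : F) • x := by module
        rw [e2, ← this]
        abel
      exact smul_right_injective _ h2 e
    rw [← hx', hp4_eq]
    exact Submodule.add_mem _ (Submodule.add_mem _ (Submodule.add_mem _
      (Submodule.smul_mem _ _ (hmem 0)) (Submodule.smul_mem _ _ (hmem 1)))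
      (Submodule.smul_mem _ _ (hmem 2))) (Submodule.smul_mem _ _ (hmem 3))
  · rw [Submodule.span_le]
    rintro _ ⟨i, rfl⟩
    rw [SetLike.mem_coe, x_mem_Eig, ht]
    fin_cases i
    · change e₀ - (2 : F) • hp4 Q e₀ f₀ e₁ f₁ e₀ = (-1 : F) • e₀
      rw [H.hp4_e₀]; module
    · change f₀ - (2 : F) • hp4 Q e₀ f₀ e₁ f₁ f₀ = (-1 : F) • f₀
      rw [H.hp4_f₀]; module
    · change e₁ - (2 : F) • hp4 Q e₀ f₀ e₁ f₁ e₁ = (-1 : F) • e₁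
      rw [H.hp4_e₁]; module
    · change f₁ - (2 : F) • hp4 Q e₀ f₀ e₁ f₁ f₁ = (-1 : F) • f₁
      rw [H.hp4_f₁]; module

theorem H4.finrank_eig_neg (H : H4 Q e₀ f₀ e₁ f₁) (h2 : (2 : F) ≠ 0) {t : GL ι F}
    (ht : ∀ x, mv t x = x - (2 : F) • hp4 Q e₀ f₀ e₁ f₁ x) :
    finrank F (Eig t (-1)) = 4 := by
  rw [H.eig_neg h2 ht, finrank_span_eq_card H.linIndep]
  rfl

theorem H4.sq (H : H4 Q e₀ f₀ e₁ f₁) {t : GL ι F}
    (ht : ∀ x, mv t x = x - (2 : F) • hp4 Q e₀ f₀ e₁ f₁ x) : t * t = 1 := by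
  apply gl_ext
  intro x
  rw [mv_mul, mv_one, ht, ht x]
  have e : hp4 Q e₀ f₀ e₁ f₁ (x - (2 : F) • hp4 Q e₀ f₀ e₁ f₁ x) =
      hp4 Q e₀ f₀ e₁ f₁ x - (2 : F) • hp4 Q e₀ f₀ e₁ f₁ x := by
    rw [sub_eq_add_neg, ← neg_smul, hp4_add, hp4_smul, H.hp4_hp4]
    module
  rw [e]
  module

/-- an isometry fixing the four vectors commutes with `x ↦ x - 2 hp4 x` -/
theorem H4.comm (H : H4 Q e₀ f₀ e₁ f₁) {t y : GL ι F}
    (ht : ∀ x, mv t x = x - (2 : F) • hp4 Q e₀ f₀ e₁ f₁ x)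
    (hy : y ∈ Cfsg.isometryGroup F ⇑Q) (he₀ : mv y e₀ = e₀) (hf₀ : mv y f₀ = f₀)
    (he₁ : mv y e₁ = e₁) (hf₁ : mv y f₁ = f₁) : t * y = y * t := by
  apply gl_ext
  intro x
  rw [mv_mul, mv_mul, ht, ht x, mv_sub, mv_smul]
  congr 2
  have k0 : polar Q f₀ (mv y x) = polar Q f₀ x := by
    conv_lhs => rw [← hf₀]
    exact iso_polar hy _ _
  have k1 : polar Q e₀ (mv y x) = polar Q e₀ x := by
    conv_lhs => rw [← he₀]
    exact iso_polar hy _ _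
  have k2 : polar Q f₁ (mv y x) = polar Q f₁ x := by
    conv_lhs => rw [← hf₁]
    exact iso_polar hy _ _
  have k3 : polar Q e₁ (mv y x) = polar Q e₁ x := by
    conv_lhs => rw [← he₁]
    exact iso_polar hy _ _
  rw [hp4_eq, hp4_eq, k0, k1, k2, k3, mv_add, mv_add, mv_add, mv_smul, mv_smul, mv_smul, mv_smul,
    he₀, hf₀, he₁, hf₁]

/-- vectors negated by such an isometry are fixed by `t` -/
theorem H4.fix_of_neg (H : H4 Q e₀ f₀ e₁ f₁) (h2 : (2 : F) ≠ 0) {t y : GL ι F}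
    (ht : ∀ x, mv t x = x - (2 : F) • hp4 Q e₀ f₀ e₁ f₁ x)
    (hy : y ∈ Cfsg.isometryGroup F ⇑Q) (he₀ : mv y e₀ = e₀) (hf₀ : mv y f₀ = f₀)
    (he₁ : mv y e₁ = e₁) (hf₁ : mv y f₁ = f₁) {v : ι → F} (hv : mv y v = -v) : mv t v = v := by
  have key : ∀ d : ι → F, mv y d = d → polar Q d v = 0 := by
    intro d hd
    have h1 : polar Q d v = polar Q d (-v) := by
      conv_lhs => rw [← iso_polar hy d v, hd, hv]
    rw [polar_neg_right] at h1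
    have h3 : (2 : F) * polar Q d v = 0 := by linear_combination h1
    exact (mul_eq_zero.1 h3).resolve_left h2
  rw [ht, hp4_eq, key f₀ hf₀, key e₀ he₀, key f₁ hf₁, key e₁ he₁]
  simp

/-- the image of `t - 1` is orthogonal to everything orthogonal to the four vectors -/
theorem H4.polar_sub (H : H4 Q e₀ f₀ e₁ f₁) {t : GL ι F}
    (ht : ∀ x, mv t x = x - (2 : F) • hp4 Q e₀ f₀ e₁ f₁ x) {d : ι → F}
    (h0 : polar Q e₀ d = 0) (h1 : polar Q f₀ d = 0) (h2' : polar Q e₁ d = 0)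
    (h3 : polar Q f₁ d = 0) (v : ι → F) : polar Q (mv t v - v) d = 0 := by
  rw [ht, hp4_eq]
  have e : v - (2 : F) • (polar Q f₀ v • e₀ + polar Q e₀ v • f₀ + polar Q f₁ v • e₁ +
      polar Q e₁ v • f₁) - v = (-2 * polar Q f₀ v) • e₀ + (-2 * polar Q e₀ v) • f₀ +
      (-2 * polar Q f₁ v) • e₁ + (-2 * polar Q e₁ v) • f₁ := by module
  rw [e, polar_add_left, polar_add_left, polar_add_left, polar_smul_left, polar_smul_left,
    polar_smul_left, polar_smul_left, h0, h1, h2', h3]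
  simp

end H4

theorem frame_h4 {k : ℕ} (fr : Frame F₀ Q k) {i j : Fin k} (hij : i ≠ j) :
    H4 Q (fr.e i) (fr.f i) (fr.e j) (fr.f j) where
  Qe₀ := fr.Qe i
  Qf₀ := fr.Qf i
  Qe₁ := fr.Qe j
  Qf₁ := fr.Qf j
  e₀f₀ := by rw [fr.ef, if_pos rfl]
  e₁f₁ := by rw [fr.ef, if_pos rfl]
  e₀e₁ := fr.ee i j
  f₀f₁ := fr.ff i j
  e₀f₁ := by rw [fr.ef, if_neg hij]
  e₁f₀ := by rw [fr.ef, if_neg hij.symm]

/-- X4 core: the involution `inv4` of the first two pairs of a rational frame fixed by `y` is good -/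
theorem ginv4_of_frame (h : QCtx F₀ Q) (h2 : (2 : F) ≠ 0) {y : GL ι F}
    (hy : y ∈ Cfsg.isometryGroup F ⇑Q) (fr : Frame F₀ Q 4)
    (hfix : ∀ i, mv y (fr.e i) = fr.e i ∧ mv y (fr.f i) = fr.f i)
    (hI4 : ∀ x, mv (inv4 Q (fr.e 0) (fr.f 0) (fr.e 1) (fr.f 1)) x =
      x - (2 : F) • (polar Q (fr.f 0) x • fr.e 0 + polar Q (fr.e 0) x • fr.f 0 +
        polar Q (fr.f 1) x • fr.e 1 + polar Q (fr.e 1) x • fr.f 1)) :
    ∃ t, GInv F₀ Q t ∧ t * y = y * t ∧ (∀ v, mv y v = -v → mv t v = v) ∧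
      finrank F (Eig t (-1)) = 4 := by
  have h01 : (0 : Fin 4) ≠ 1 := by decide
  have H := frame_h4 fr h01
  have ht : ∀ x, mv (inv4 Q (fr.e 0) (fr.f 0) (fr.e 1) (fr.f 1)) x =
      x - (2 : F) • hp4 Q (fr.e 0) (fr.f 0) (fr.e 1) (fr.f 1) x := hI4
  have hpair : ∀ i : Fin 4, HypPair F₀ Q (fr.e i) (fr.f i) := fun i =>
    ⟨fr.rat_e i, fr.rat_f i, fr.Qe i, fr.Qf i, by rw [fr.ef, if_pos rfl]⟩
  have hfe : ∀ i j : Fin 4, i ≠ j → polar Q (fr.f i) (fr.e j) = 0 := fun i j hij => by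
    rw [polar_comm, fr.ef, if_neg hij.symm]
  refine ⟨inv4 Q (fr.e 0) (fr.f 0) (fr.e 1) (fr.f 1), ⟨?_, H.sq ht, ?_, ?_⟩,
    H.comm ht hy (hfix 0).1 (hfix 0).2 (hfix 1).1 (hfix 1).2,
    fun v hv => H.fix_of_neg h2 ht hy (hfix 0).1 (hfix 0).2 (hfix 1).1 (hfix 1).2 hv,
    H.finrank_eig_neg h2 ht⟩
  · unfold inv4
    have ha := rt_mem_H0 h (fr.rat_e 0) (fr.rat_e 1) (c := 1) F₀.one_mem
    have hb := rt_mem_H0 h (fr.rat_f 0) (fr.rat_f 1) (c := 1) F₀.one_mem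
    exact Subgroup.pow_mem _ (Subgroup.mul_mem _ (Subgroup.mul_mem _ ha hb) ha) 2
  · refine ⟨fr.e 0, (-(1 / 2 : F)) • fr.e 0, fr.rat_e 0, ?_, fr.Qe 0, ?_⟩
    · intro h0
      have := H.e₀f₀
      rw [h0, polar_zero_left] at this
      exact zero_ne_one this
    · rw [ht, hp4_smul, H.hp4_e₀]
      have e : (-(1 / 2 : F)) • fr.e 0 - (2 : F) • (-(1 / 2 : F)) • fr.e 0 - (-(1 / 2 : F)) • fr.e 0 =
          ((2 : F) * (1 / 2)) • fr.e 0 := by module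
      rw [e, mul_one_div_cancel h2, one_smul]
  · have h02 : (0 : Fin 4) ≠ 2 := by decide
    have h03 : (0 : Fin 4) ≠ 3 := by decide
    have h12 : (1 : Fin 4) ≠ 2 := by decide
    have h13 : (1 : Fin 4) ≠ 3 := by decide
    have h23 : (2 : Fin 4) ≠ 3 := by decide
    refine ⟨fr.e 2, fr.f 2, fr.e 3, fr.f 3, hpair 2, hpair 3, fr.ee 2 3, ?_, ?_, fr.ff 2 3, ?_⟩
    · rw [fr.ef, if_neg h23]
    · rw [hfe 2 3 h23]
    · intro v
      refine ⟨H.polar_sub ht (fr.ee 0 2) (hfe 0 2 h02) (fr.ee 1 2) (hfe 1 2 h12) v,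
        H.polar_sub ht ?_ (fr.ff 0 2) ?_ (fr.ff 1 2) v,
        H.polar_sub ht (fr.ee 0 3) (hfe 0 3 h03) (fr.ee 1 3) (hfe 1 3 h13) v,
        H.polar_sub ht ?_ (fr.ff 0 3) ?_ (fr.ff 1 3) v⟩
      · rw [fr.ef, if_neg h02]
      · rw [fr.ef, if_neg h12]
      · rw [fr.ef, if_neg h03]
      · rw [fr.ef, if_neg h13]

/-- X4 with G3 (`exists_frame_eig`) as a hypothesis, stated verbatim -/
theorem exists_ginv4_core (h : QCtx F₀ Q) (h2 : (2 : F) ≠ 0)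
    (G3 : ∀ {y : GL ι F}, RatInv F₀ Q y → 9 ≤ finrank F (Eig y 1) →
      ∃ fr : Frame F₀ Q 4, ∀ i, mv y (fr.e i) = fr.e i ∧ mv y (fr.f i) = fr.f i)
    {y : GL ι F} (hy : RatInv F₀ Q y) (hk : finrank F (Eig y (-1)) ≤ 2) :
    ∃ t, GInv F₀ Q t ∧ t * y = y * t ∧ (∀ v, mv y v = -v → mv t v = v) ∧
      finrank F (Eig t (-1)) = 4 := by
  have hadd := finrank_eig_add h2 hy.sq
  have hn := h.card
  obtain ⟨fr, hfr⟩ := G3 hy (by omega)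
  have h01 : (0 : Fin 4) ≠ 1 := by decide
  have H := frame_h4 fr h01
  exact ginv4_of_frame h h2 hy.iso fr hfr
    (fun x => Cfsg.Agent.Lib.Helper20.OSubLeaf.mv_inv4 H.Qe₀ H.Qf₀ H.Qe₁ H.Qf₁ H.e₀f₀ H.e₁f₁
      H.e₀e₁ H.f₀f₁ H.e₀f₁ H.e₁f₀ x)

end Cfsg.Agent.Lib.Helper23.OSubLeaf
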