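import Mathlib
import Cfsg.Agent.Lib.Helper5.TWU.Defs
import Cfsg.Agent.Lib.Helper23.TWUT
import Cfsg.Agent.Lib.Helper23.TWUQMain
import Cfsg.Agent.Lib.Helper23.TWUQSc
import Cfsg.Agent.Lib.Helper22.TWExtMore
import Cfsg.Agent.Lib.Helper14.TWIIDefs
import Cfsg.Agent.Lib.Helper19.TWGrow
import Cfsg.Agent.Lib.Helper19.TWU3Defs
import Cfsg.Agent.Lib.Helper26.TWFibB
import Cfsg.Agent.Lib.Helper6.TWT1

/-!
S5672-III (sub-planner helper19) leaves A4 `root_of_skew_family`, A6 `not_le_Gstd_rank2` (helper23), exact signatures of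
`notes/S5672_III_leaves.lean`.
-/

set_option autoImplicit false
set_option linter.unusedSectionVars false
set_option linter.unusedVariables false

namespace Cfsg.Agent.Lib.Helper23.TWU3Leaf
open Matrix Cfsg.Geo Cfsg.Agent.Lib.Helper18.AschA89 Cfsg.Agent.Lib.Helper20.AschLeaf Cfsg.Agent.Lib.Helper8.TW
open Cfsg.Agent.Lib.Helper5.TWU Cfsg.Agent.Lib.Helper19.TWU3
open Cfsg.Agent.Lib.Helper20.UT (hv)
open Cfsg.Agent.Lib.Helper23.TWUT (adjM)

variable {F : Type*} [Field F] [Fintype F] {t k q : ℕ}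

/-- A4 (M) rigidity for a skew family -/
theorem root_of_skew_family (hF : Fintype.card F = q ^ 2) (hk : 3 ≤ k) (hex : ¬ (q = 2 ∧ k = 3))
    (N : Matrix (Idx t k) (Idx t k) F) (hN0 : N ≠ 0) (hNN : N * N = 0) (hrk : N.rank ≤ k ^ (t - 1))
    (h : ∀ c : F, c ^ q = -c → InM (Gstd t k F) (1 + c • N)) :
    ∃ (c₁ : F) (j : Fin t) (z ζ : Fin k → F), c₁ ≠ 0 ∧ z ≠ 0 ∧ ζ ≠ 0 ∧ c₁ • N = rootN j z ζ := by
  have hS := Cfsg.Agent.Lib.Helper23.TWUQ.hS_unitary hF hk hex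
  have hmem : ∀ c : F, c ∈ Cfsg.Agent.Lib.Helper23.TWUQ.skewS F q → InM (Gstd t k F) (1 + c • N) := by
    intro c hc
    apply h
    have : c + c ^ q = 0 := hc
    exact eq_neg_of_add_eq_zero_right this
  have hsm0 : ∀ c₁ : F, c₁ ≠ 0 → c₁ • N ≠ 0 := by
    intro c₁ hc₁ h'
    rcases smul_eq_zero.1 h' with h' | h'
    · exact hc₁ h'
    · exact hN0 h'
  have hsmNN : ∀ c₁ : F, (c₁ • N) * (c₁ • N) = 0 := by
    intro c₁
    rw [Matrix.smul_mul, Matrix.mul_smul, hNN, smul_zero, smul_zero]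
  have hsmrk : ∀ c₁ : F, (c₁ • N).rank ≤ k ^ (t - 1) := by
    intro c₁
    by_cases hc₁ : c₁ = 0
    · rw [hc₁, zero_smul, Matrix.rank_zero]; exact Nat.zero_le _
    · have : (c₁ • N).rank = N.rank := by
        have hu : IsUnit c₁ := isUnit_iff_ne_zero.2 hc₁
        have e : c₁ • N = (c₁ • (1 : Matrix (Idx t k) (Idx t k) F)) * N := by
          rw [Matrix.smul_mul, Matrix.one_mul]
        rw [e]
        apply Matrix.rank_mul_eq_right_of_isUnit_det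
        rw [Matrix.det_smul, Matrix.det_one, mul_one]
        exact hu.pow _
      rw [this]; exact hrk
  rcases hS with ⟨c₁, hc₁S, c₂, hc₂S, hc₁, hc₂, hne⟩ | ⟨h2, hsq, hm4, c₁, hc₁S, hc₁⟩
  · have hdiv0 : c₂ / c₁ ≠ 0 := div_ne_zero hc₂ hc₁
    have hdiv1 : c₂ / c₁ ≠ 1 := by
      intro h'
      apply hne
      rw [div_eq_one_iff_eq hc₁] at h'
      exact h'.symm
    obtain ⟨j, z, ζ, hz, hζ, -, hN⟩ := Cfsg.Agent.Lib.Helper23.TWUQLeaf.rootlike_is_root_two (by omega) _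
      (hsm0 c₁ hc₁) (hsmNN c₁) (hsmrk c₁) (c₂ / c₁) hdiv0 hdiv1 (hmem c₁ hc₁S)
      (by
        have := hmem c₂ hc₂S
        rwa [smul_smul, div_mul_cancel₀ _ hc₁])
    exact ⟨c₁, j, z, ζ, hc₁, hz, hζ, hN⟩
  · obtain ⟨j, z, ζ, hz, hζ, -, hN⟩ := Cfsg.Agent.Lib.Helper23.TWUQFinal.rootlike_invol h2 hsq hm4 _
      (hsm0 c₁ hc₁) (hsmNN c₁) (hsmrk c₁) (hmem c₁ hc₁S)
    exact ⟨c₁, j, z, ζ, hc₁, hz, hζ, hN⟩

/-- A6 (M) a skew family of rank `≤ 2` is not inside `G` (`t ≥ 2`, `k ≥ 3`) -/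
theorem not_le_Gstd_rank2 (hF : Fintype.card F = q ^ 2) (hk : 3 ≤ k) (hex : ¬ (q = 2 ∧ k = 3)) (ht : 2 ≤ t)
    (K : Subgroup (GL (Idx t k) F)) (N : Matrix (Idx t k) (Idx t k) F) (hN0 : N ≠ 0) (hNN : N * N = 0)
    (hrk : N.rank ≤ 2) (h : ∀ c : F, c ^ q = -c → InM K (1 + c • N)) : ¬ K ≤ Gstd t k F := by
  intro hle
  have hpow : 3 ≤ k ^ (t - 1) := by
    calc 3 ≤ k := hk
      _ = k ^ 1 := (pow_one k).symm
      _ ≤ k ^ (t - 1) := Nat.pow_le_pow_right (by omega) (by omega)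
  obtain ⟨c₁, j, z, ζ, hc₁, hz, hζ, hN⟩ := root_of_skew_family hF hk hex N hN0 hNN (by omega)
    (fun c hc => by
      obtain ⟨g, hg, hgv⟩ := h c hc
      exact ⟨g, hle hg, hgv⟩)
  -- rank of the right side is `k^(t-1) ≥ 3`, of the left side `≤ 2`
  have h1 : (rootN j z ζ).rank = k ^ (t - 1) := by
    have hr : (rootN j z ζ).rank = Module.finrank F (LinearMap.range (Matrix.toLin' (rootN j z ζ))) := by
      unfold Matrix.rank
      rfl
    rw [hr, Cfsg.Agent.Lib.Helper6.TWLeaf.range_rootN j z ζ hζ]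
    unfold Wf
    rw [Cfsg.Agent.Lib.Helper26.TWLeaf.finrank_fib, finrank_span_singleton hz, mul_one]
  have h2 : (c₁ • N).rank ≤ 2 := by
    have hu : IsUnit c₁ := isUnit_iff_ne_zero.2 hc₁
    have e : c₁ • N = (c₁ • (1 : Matrix (Idx t k) (Idx t k) F)) * N := by
      rw [Matrix.smul_mul, Matrix.one_mul]
    rw [e, Matrix.rank_mul_eq_right_of_isUnit_det]
    · exact hrk
    · rw [Matrix.det_smul, Matrix.det_one, mul_one]
      exact hu.pow _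
  rw [hN, h1] at h2
  omega

end Cfsg.Agent.Lib.Helper23.TWU3Leaf
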