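import Mathlib
import Cfsg.Agent.Lib.Helper2.EQDefs

/-!
# EQ (S2344): elementary facts on the torus `Tor m F`, the coroots `hc` and `permTor` (helper23)
Shared by the combinatorial leaves R7 `weights_trivial` and R8a `weights_three`.
-/

set_option autoImplicit false

namespace Cfsg.Agent.Lib.Helper23.EQ

open Cfsg.Agent.Lib.Helper2.EQ

variable {F : Type*} [Field F] {m : ℕ}

theorem hc_val (a b : Fin m) (t : Fˣ) :
    ((hc a b t : Tor m F) : Fin m → Fˣ) = Pi.mulSingle a t * Pi.mulSingle b t⁻¹ := rfl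

theorem permTor_val (σ : Equiv.Perm (Fin m)) (t : Tor m F) (i : Fin m) :
    ((permTor σ t : Tor m F) : Fin m → Fˣ) i = (t : Fin m → Fˣ) (σ⁻¹ i) := rfl

theorem permTor_hc (σ : Equiv.Perm (Fin m)) (a b : Fin m) (t : Fˣ) :
    permTor σ (hc a b t : Tor m F) = hc (σ a) (σ b) t := by
  apply Subtype.ext
  funext i
  rw [permTor_val, hc_val, hc_val]
  simp only [Pi.mul_apply, Pi.mulSingle_apply]
  have h1 : σ⁻¹ i = a ↔ i = σ a := by
    rw [Equiv.Perm.inv_eq_iff_eq]
  have h2 : σ⁻¹ i = b ↔ i = σ b := by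
    rw [Equiv.Perm.inv_eq_iff_eq]
  simp only [h1, h2]

theorem hc_mul_hc (a b c : Fin m) (t : Fˣ) :
    (hc a b t : Tor m F) * hc b c t = hc a c t := by
  apply Subtype.ext
  show (Pi.mulSingle a t * Pi.mulSingle b t⁻¹) * (Pi.mulSingle b t * Pi.mulSingle c t⁻¹)
    = (Pi.mulSingle a t * Pi.mulSingle c t⁻¹ : Fin m → Fˣ)
  have : (Pi.mulSingle b t⁻¹ : Fin m → Fˣ) * Pi.mulSingle b t = 1 := by
    rw [← Pi.mulSingle_mul, inv_mul_cancel, Pi.mulSingle_one]
  calc (Pi.mulSingle a t * Pi.mulSingle b t⁻¹) * (Pi.mulSingle b t * Pi.mulSingle c t⁻¹)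
      = Pi.mulSingle a t * (Pi.mulSingle b t⁻¹ * Pi.mulSingle b t) * Pi.mulSingle c t⁻¹ := by
        simp only [mul_assoc]
    _ = (Pi.mulSingle a t * Pi.mulSingle c t⁻¹ : Fin m → Fˣ) := by rw [this, mul_one]

theorem hc_self (a : Fin m) (t : Fˣ) : (hc a a t : Tor m F) = 1 := by
  apply Subtype.ext
  show (Pi.mulSingle a t * Pi.mulSingle a t⁻¹ : Fin m → Fˣ) = 1
  rw [← Pi.mulSingle_mul, mul_inv_cancel, Pi.mulSingle_one]

theorem hc_swap (a b : Fin m) (t : Fˣ) : (hc b a t : Tor m F) = (hc a b t)⁻¹ := by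
  rw [eq_inv_iff_mul_eq_one, hc_mul_hc, hc_self]

/-- Every element of the torus is a product of coroot elements `hc i a (t i)`. -/
theorem eq_prod_hc (a : Fin m) (t : Tor m F) :
    t = ∏ i : Fin m, hc i a ((t : Fin m → Fˣ) i) := by
  apply Subtype.ext
  rw [Subgroup.val_finsetProd]
  have h1 : ∀ i : Fin m, ((hc i a ((t : Fin m → Fˣ) i) : Tor m F) : Fin m → Fˣ) =
      Pi.mulSingle i ((t : Fin m → Fˣ) i) * Pi.mulSingle a ((t : Fin m → Fˣ) i)⁻¹ := fun i => rfl
  simp only [h1]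
  rw [Finset.prod_mul_distrib, Finset.univ_prod_mulSingle]
  have h2 : ∏ i : Fin m, (Pi.mulSingle a ((t : Fin m → Fˣ) i)⁻¹ : Fin m → Fˣ) = 1 := by
    have h3 : ∏ i : Fin m, (Pi.mulSingle a ((t : Fin m → Fˣ) i)⁻¹ : Fin m → Fˣ) =
        Pi.mulSingle a (∏ i : Fin m, ((t : Fin m → Fˣ) i)⁻¹) := by
      exact (map_prod (MonoidHom.mulSingle (fun _ : Fin m => Fˣ) a)
        (fun i => ((t : Fin m → Fˣ) i)⁻¹) Finset.univ).symm
    rw [h3, Finset.prod_inv_distrib]
    have h4 : ∏ i : Fin m, (t : Fin m → Fˣ) i = 1 := by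
      have := t.2
      rw [MonoidHom.mem_ker] at this
      exact this
    rw [h4, inv_one, Pi.mulSingle_one]
  rw [h2, mul_one]

/-- A character of the torus which is trivial on all coroot elements is trivial. -/
theorem eq_one_of_hc {H : Type*} [CommMonoid H] (θ : Tor m F →* H)
    (h : ∀ (a b : Fin m) (t : Fˣ), θ (hc a b t) = 1) : θ = 1 := by
  rcases m with _ | m
  · ext t
    have : t = 1 := by
      apply Subtype.ext
      funext i
      exact i.elim0
    rw [this, map_one, MonoidHom.one_apply]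
  · ext t
    rw [eq_prod_hc (0 : Fin (m + 1)) t, map_prod, MonoidHom.one_apply]
    exact Finset.prod_eq_one fun i _ => h _ _ _

/-- the translate of a character by a permutation, evaluated on a coroot element -/
theorem comp_permTor_hc {H : Type*} [Monoid H] (θ : Tor m F →* H) (σ : Equiv.Perm (Fin m))
    (a b : Fin m) (t : Fˣ) :
    (θ.comp (permTor σ).toMonoidHom) (hc a b t) = θ (hc (σ a) (σ b) t) := by
  show θ (permTor σ (hc a b t)) = _
  rw [permTor_hc]

theorem permTor_mul (σ τ : Equiv.Perm (Fin m)) (t : Tor m F) :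
    permTor (σ * τ) t = permTor σ (permTor τ t) := by
  apply Subtype.ext
  funext i
  rw [permTor_val, permTor_val, permTor_val, mul_inv_rev]
  rfl

theorem permTor_one (t : Tor m F) : permTor (1 : Equiv.Perm (Fin m)) t = t := by
  apply Subtype.ext
  funext i
  rw [permTor_val]
  simp

theorem comp_permTor_mul {H : Type*} [Monoid H] (θ : Tor m F →* H) (σ τ : Equiv.Perm (Fin m)) :
    (θ.comp (permTor σ).toMonoidHom).comp (permTor τ).toMonoidHom =
      θ.comp (permTor (σ * τ)).toMonoidHom := by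
  ext t
  show θ (permTor σ (permTor τ t)) = θ (permTor (σ * τ) t)
  rw [permTor_mul]

theorem comp_permTor_one {H : Type*} [Monoid H] (θ : Tor m F →* H) :
    θ.comp (permTor (1 : Equiv.Perm (Fin m))).toMonoidHom = θ := by
  ext t
  show θ (permTor 1 t) = θ t
  rw [permTor_one]

end Cfsg.Agent.Lib.Helper23.EQ
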