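import Mathlib
import Cfsg.Agent.Lib.Helper2.EQDefs
import Cfsg.Agent.Lib.Helper23.EQTorus

/-!
# EQ (S2344) leaf R7 `weights_trivial` (planner helper2): combinatorics of torus characters,
`n = N + 1 ≥ 4` (helper23)
-/

set_option autoImplicit false

namespace Cfsg.Agent.Lib.Helper23.EQ

open Matrix Module Cfsg.Agent.Lib.Helper16.SLMin Cfsg.Agent.Lib.Helper16.SLMinSpine
  Cfsg.Agent.Lib.Helper2.EQ

section R

variable {F : Type*} [Field F] {N : ℕ}

/-- `χ` is non-trivial on the coroot `(u, v)` -/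
def Edge (χ : Tor (N + 1) F →* ℂˣ) (u v : Fin (N + 1)) : Prop := ∃ t : Fˣ, χ (hc u v t) ≠ 1

theorem Edge.symm {χ : Tor (N + 1) F →* ℂˣ} {u v : Fin (N + 1)} (h : Edge χ u v) :
    Edge χ v u := by
  obtain ⟨t, ht⟩ := h
  refine ⟨t, fun h1 => ht ?_⟩
  rw [hc_swap, map_inv, inv_eq_one] at h1
  exact h1

theorem not_edge_self (χ : Tor (N + 1) F →* ℂˣ) (u : Fin (N + 1)) : ¬ Edge χ u u := by
  rintro ⟨t, ht⟩
  exact ht (by rw [hc_self, map_one])

theorem Edge.tri {χ : Tor (N + 1) F →* ℂˣ} {u w : Fin (N + 1)} (h : Edge χ u w)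
    (v : Fin (N + 1)) : Edge χ u v ∨ Edge χ v w := by
  obtain ⟨t, ht⟩ := h
  by_cases h1 : χ (hc u v t) = 1
  · right
    refine ⟨t, fun h2 => ht ?_⟩
    rw [← hc_mul_hc u v w t, map_mul, h1, h2, one_mul]
  · left
    exact ⟨t, h1⟩

theorem edge_act (χ : Tor (N + 1) F →* ℂˣ) (σ : Equiv.Perm (Fin (N + 1))) (u v : Fin (N + 1)) :
    Edge (χ.comp (permTor σ).toMonoidHom) u v ↔ Edge χ (σ u) (σ v) := by
  unfold Edge
  constructor
  · rintro ⟨t, ht⟩
    exact ⟨t, by rwa [comp_permTor_hc] at ht⟩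
  · rintro ⟨t, ht⟩
    exact ⟨t, by rwa [comp_permTor_hc]⟩

theorem exists_ne3 (hN : 3 ≤ N) (p q r : Fin (N + 1)) : ∃ y, y ≠ p ∧ y ≠ q ∧ y ≠ r := by
  classical
  by_contra h
  push Not at h
  have hsub : (Finset.univ : Finset (Fin (N + 1))) ⊆ {p, q, r} := by
    intro y _
    simp only [Finset.mem_insert, Finset.mem_singleton]
    by_cases h1 : y = p
    · exact Or.inl h1
    · by_cases h2 : y = q
      · exact Or.inr (Or.inl h2)
      · exact Or.inr (Or.inr (h y h1 h2))
  have h1 := Finset.card_le_card hsub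
  have h2 : ({p, q, r} : Finset (Fin (N + 1))).card ≤ 3 := Finset.card_le_three
  rw [Finset.card_univ, Fintype.card_fin] at h1
  omega

end R

section R'

variable {F : Type*} [Field F] [Fintype F] [DecidableEq F]

variable {N : ℕ}

/-- R7: COMBINATORICS (`n = N + 1 ≥ 4`): a Weyl-stable set of at most `N` characters of the torus
satisfying locality consists of the trivial character only -/
theorem weights_trivial (hN : 3 ≤ N) (occ : (Tor (N + 1) F →* ℂˣ) → Prop)
    (hperm : ∀ θ σ, occ θ → occ (θ.comp (permTor σ).toMonoidHom))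
    (hloc : ∀ θ, occ θ → ∀ i j : Fin N, i.val = 0 → 2 ≤ j.val →
      ¬ ((∃ t : Fˣ, θ (hc i.castSucc i.succ t) ≠ 1) ∧ ∃ t : Fˣ, θ (hc j.castSucc j.succ t) ≠ 1))
    (hcard : ∀ S : Finset (Tor (N + 1) F →* ℂˣ), (∀ θ ∈ S, occ θ) → S.card ≤ N) :
    ∀ θ, occ θ → θ = 1 := by
  classical
  -- (L): no two disjoint edges
  have L : ∀ χ, occ χ → ∀ a b c d : Fin (N + 1), a ≠ b → a ≠ c → a ≠ d → b ≠ c → b ≠ d → c ≠ d →
      ¬ (Edge χ a b ∧ Edge χ c d) := by
    intro χ hχ a b c d hab hac had hbc hbd hcd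
    let f : Fin 4 → Fin (N + 1) := fun k => ⟨k.val, by omega⟩
    have hf : Function.Injective f := by
      intro k l hkl
      have : (f k).val = (f l).val := congrArg Fin.val hkl
      exact Fin.ext this
    have hg : Function.Injective (![a, b, c, d] : Fin 4 → Fin (N + 1)) := by
      intro k l hkl
      fin_cases k <;> fin_cases l <;> simp_all
    obtain ⟨σ, hσ⟩ := Equiv.Perm.exists_extending_pair f ![a, b, c, d] hf hg
    have h0 : σ ⟨0, by omega⟩ = a := hσ 0
    have h1 : σ ⟨1, by omega⟩ = b := hσ 1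
    have h2 : σ ⟨2, by omega⟩ = c := hσ 2
    have h3 : σ ⟨3, by omega⟩ = d := hσ 3
    have hl := hloc _ (hperm χ σ hχ) (⟨0, by omega⟩ : Fin N) (⟨2, by omega⟩ : Fin N) rfl
      (le_refl 2)
    rintro ⟨hE1, hE2⟩
    apply hl
    constructor
    · have : Edge (χ.comp (permTor σ).toMonoidHom) (⟨0, by omega⟩ : Fin (N + 1))
          (⟨1, by omega⟩ : Fin (N + 1)) := by
        rw [edge_act, h0, h1]; exact hE1
      exact this
    · have : Edge (χ.comp (permTor σ).toMonoidHom) (⟨2, by omega⟩ : Fin (N + 1))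
          (⟨3, by omega⟩ : Fin (N + 1)) := by
        rw [edge_act, h2, h3]; exact hE2
      exact this
  -- the star lemma
  have star : ∀ χ, occ χ → ∀ a b x : Fin (N + 1), a ≠ b → a ≠ x → b ≠ x →
      Edge χ a b → Edge χ a x →
      (∀ y, y ≠ a → Edge χ a y) ∧ (∀ u v, u ≠ a → v ≠ a → ¬ Edge χ u v) := by
    intro χ hχ a b x hab hax hbx hEab hEax
    have hall : ∀ y, y ≠ a → Edge χ a y := by
      intro y hya
      by_cases hyb : y = b
      · rw [hyb]; exact hEab
      by_cases hyx : y = x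
      · rw [hyx]; exact hEax
      rcases hEab.tri y with h | h
      · exact h
      · exfalso
        exact L χ hχ a x y b hax (Ne.symm hya) hab (Ne.symm hyx) (Ne.symm hbx) hyb ⟨hEax, h⟩
    refine ⟨hall, ?_⟩
    intro u v hua hva hE
    have huv : u ≠ v := fun h => not_edge_self χ u (h ▸ hE)
    obtain ⟨y, hya, hyu, hyv⟩ := exists_ne3 hN a u v
    exact L χ hχ a y u v (Ne.symm hya) (Ne.symm hua) (Ne.symm hva) hyu hyv huv
      ⟨hall y hya, hE⟩
  intro θ hθ
  by_contra hne
  -- an edge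
  have hedge : ∃ a b, Edge θ a b := by
    by_contra hcon
    push Not at hcon
    apply hne
    apply eq_one_of_hc
    intro a b t
    by_contra h
    exact hcon a b ⟨t, h⟩
  obtain ⟨a, b, hEab⟩ := hedge
  have hab : a ≠ b := fun h => not_edge_self θ a (h ▸ hEab)
  -- a star centre
  have hstar : ∃ z, (∀ y, y ≠ z → Edge θ z y) ∧ (∀ u v, u ≠ z → v ≠ z → ¬ Edge θ u v) := by
    obtain ⟨x, hxa, hxb, -⟩ := exists_ne3 hN a b b
    by_cases hEax : Edge θ a x
    · exact ⟨a, star θ hθ a b x hab (Ne.symm hxa) (Ne.symm hxb) hEab hEax⟩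
    · have hExb : Edge θ x b := by
        rcases hEab.tri x with h | h
        · exact absurd h hEax
        · exact h
      exact ⟨b, star θ hθ b a x (Ne.symm hab) (Ne.symm hxb) (Ne.symm hxa) hEab.symm hExb.symm⟩
  obtain ⟨z, hz1, hz2⟩ := hstar
  -- the translates
  let χ : Fin (N + 1) → (Tor (N + 1) F →* ℂˣ) :=
    fun x => θ.comp (permTor (Equiv.swap z x)).toMonoidHom
  have hχocc : ∀ x, occ (χ x) := fun x => hperm θ _ hθ
  have hχ1 : ∀ x y, y ≠ x → Edge (χ x) x y := by
    intro x y hyx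
    show Edge (θ.comp (permTor (Equiv.swap z x)).toMonoidHom) x y
    rw [edge_act, Equiv.swap_apply_right]
    apply hz1
    intro h
    apply hyx
    have : Equiv.swap z x y = Equiv.swap z x x := by rw [h, Equiv.swap_apply_right]
    exact (Equiv.swap z x).injective this
  have hχ2 : ∀ x u v, u ≠ x → v ≠ x → ¬ Edge (χ x) u v := by
    intro x u v hux hvx
    show ¬ Edge (θ.comp (permTor (Equiv.swap z x)).toMonoidHom) u v
    rw [edge_act]
    apply hz2
    · intro h
      apply hux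
      have : Equiv.swap z x u = Equiv.swap z x x := by rw [h, Equiv.swap_apply_right]
      exact (Equiv.swap z x).injective this
    · intro h
      apply hvx
      have : Equiv.swap z x v = Equiv.swap z x x := by rw [h, Equiv.swap_apply_right]
      exact (Equiv.swap z x).injective this
  have hinj : Function.Injective χ := by
    intro x y hxy
    by_contra hne'
    obtain ⟨v, hvx, hvy, -⟩ := exists_ne3 hN x y y
    have h1 : Edge (χ x) x v := hχ1 x v hvx
    rw [hxy] at h1
    exact hχ2 y x v hne' hvy h1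
  have hS := hcard (Finset.univ.image χ) (by
    intro ψ hψ
    rw [Finset.mem_image] at hψ
    obtain ⟨x, -, rfl⟩ := hψ
    exact hχocc x)
  rw [Finset.card_image_of_injective _ hinj, Finset.card_univ, Fintype.card_fin] at hS
  omega

end R'

end Cfsg.Agent.Lib.Helper23.EQ
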