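import Mathlib
import Cfsg.Agent.Lib.Helper2.EQDefs
import Cfsg.Agent.Lib.Helper23.EQTorus

/-!
# EQ (S2344) leaf R8a `weights_three` (planner helper2): combinatorics of torus characters, `n = 3`
(helper23)
-/

set_option autoImplicit false

namespace Cfsg.Agent.Lib.Helper23.EQ

open Matrix Module Cfsg.Agent.Lib.Helper16.SLMin Cfsg.Agent.Lib.Helper16.SLMinSpine
  Cfsg.Agent.Lib.Helper2.EQ

section R

variable {F : Type*} [Field F] [Fintype F] [DecidableEq F]

/-- R8a: COMBINATORICS (`n = 3`): a non-trivial occurring weight is moved to the same character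
by both simple reflections (and the orbit is `{θ, θ'}`) -/
theorem weights_three (occ : (Tor 3 F →* ℂˣ) → Prop)
    (hperm : ∀ θ σ, occ θ → occ (θ.comp (permTor σ).toMonoidHom))
    (hcard : ∀ S : Finset (Tor 3 F →* ℂˣ), (∀ θ ∈ S, occ θ) → S.card ≤ 2)
    (θ : Tor 3 F →* ℂˣ) (hθ : occ θ) (hne : θ ≠ 1) :
    θ.comp (permTor (Equiv.swap (0 : Fin 3) 1)).toMonoidHom =
        θ.comp (permTor (Equiv.swap (1 : Fin 3) 2)).toMonoidHom ∧
      θ.comp (permTor (Equiv.swap (0 : Fin 3) 1)).toMonoidHom ≠ θ ∧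
      (∀ t : Fˣ, θ (hc 0 1 t) ^ 3 = 1) ∧ ∃ t : Fˣ, θ (hc 0 1 t) ≠ 1 := by
  classical
  set s : Equiv.Perm (Fin 3) := Equiv.swap 0 1 with hs
  set r : Equiv.Perm (Fin 3) := Equiv.swap 1 2 with hr
  set c : Equiv.Perm (Fin 3) := s * r with hc'
  have hc3 : c * c * c = 1 := by rw [hc', hs, hr]; decide
  have hrr : r * r = 1 := by rw [hr]; decide
  have hc0 : c 0 = 1 := by rw [hc', hs, hr]; decide
  have hc1 : c 1 = 2 := by rw [hc', hs, hr]; decide
  have hc2 : c 2 = 0 := by rw [hc', hs, hr]; decide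
  -- notation
  let act : (Tor 3 F →* ℂˣ) → Equiv.Perm (Fin 3) → (Tor 3 F →* ℂˣ) :=
    fun χ σ => χ.comp (permTor σ).toMonoidHom
  have hact : ∀ χ σ τ, act (act χ σ) τ = act χ (σ * τ) := fun χ σ τ => comp_permTor_mul χ σ τ
  have hact1 : ∀ χ, act χ 1 = χ := fun χ => comp_permTor_one χ
  -- step (a): `θ` is fixed by the 3-cycle
  have hfix : act θ c = θ := by
    by_contra hcon
    have h01 : θ ≠ act θ c := fun h => hcon h.symm
    have h02 : θ ≠ act θ (c * c) := by
      intro h
      apply hcon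
      have : act θ c = act (act θ (c * c)) c := by rw [← h]
      rw [this, hact, hc3, hact1]
    have h12 : act θ c ≠ act θ (c * c) := by
      intro h
      apply hcon
      have h' : act (act θ c) (c * c) = act (act θ (c * c)) (c * c) := by rw [h]
      rw [hact, hact] at h'
      have e1 : c * (c * c) = 1 := by rw [← mul_assoc]; exact hc3
      have e2 : c * c * (c * c) = c := by
        calc c * c * (c * c) = (c * c * c) * c := by simp only [mul_assoc]
          _ = c := by rw [hc3, one_mul]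
      rw [e1, e2, hact1] at h'
      exact h'.symm
    have hS : ({θ, act θ c, act θ (c * c)} : Finset (Tor 3 F →* ℂˣ)).card = 3 :=
      Finset.card_eq_three.mpr ⟨_, _, _, h01, h02, h12, rfl⟩
    have := hcard {θ, act θ c, act θ (c * c)} (by
      intro χ hχ
      simp only [Finset.mem_insert, Finset.mem_singleton] at hχ
      rcases hχ with rfl | rfl | rfl
      · exact hθ
      · exact hperm θ c hθ
      · exact hperm θ (c * c) hθ)
    omega
  -- consequences on coroot elements
  have hinv : ∀ (u v : Fin 3) (t : Fˣ), θ (hc (c u) (c v) t) = θ (hc u v t) := by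
    intro u v t
    rw [← comp_permTor_hc θ c u v t]
    exact congrArg (fun χ : Tor 3 F →* ℂˣ => χ (hc u v t)) hfix
  have h12 : ∀ t : Fˣ, θ (hc 1 2 t) = θ (hc 0 1 t) := fun t => by
    have := hinv 0 1 t
    rwa [hc0, hc1] at this
  have h20 : ∀ t : Fˣ, θ (hc 2 0 t) = θ (hc 0 1 t) := fun t => by
    have := hinv 1 2 t
    rw [hc1, hc2] at this
    rw [this, h12]
  have h02 : ∀ t : Fˣ, θ (hc 0 2 t) = θ (hc 0 1 t) * θ (hc 0 1 t) := fun t => by
    rw [← hc_mul_hc 0 1 2 t, map_mul, h12]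
  have hcube : ∀ t : Fˣ, θ (hc 0 1 t) ^ 3 = 1 := fun t => by
    have h1 : θ (hc 2 0 t) * θ (hc 0 2 t) = 1 := by
      rw [← map_mul, hc_mul_hc, hc_self, map_one]
    rw [h20, h02] at h1
    rw [pow_succ, pow_two, mul_assoc]
    exact h1
  have hex : ∃ t : Fˣ, θ (hc 0 1 t) ≠ 1 := by
    by_contra hcon
    push Not at hcon
    apply hne
    apply eq_one_of_hc
    -- all `θ (hc 0 v t) = 1`
    have h0v : ∀ (v : Fin 3) (t : Fˣ), θ (hc 0 v t) = 1 := by
      intro v t
      fin_cases v
      · show θ (hc 0 0 t) = 1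
        rw [hc_self, map_one]
      · exact hcon t
      · show θ (hc 0 2 t) = 1
        rw [h02, hcon, one_mul]
    intro a b t
    rw [← hc_mul_hc a 0 b t, map_mul, h0v, mul_one, hc_swap, map_inv, h0v, inv_one]
  refine ⟨?_, ?_, hcube, hex⟩
  · -- `θ·s = θ·r`
    have h1 : act (act θ s) r = θ := by rw [hact]; exact hfix
    have h2 : act (act (act θ s) r) r = act θ r := by rw [h1]
    rw [hact, hrr, hact1] at h2
    exact h2
  · -- `θ·s ≠ θ`
    intro hcon
    obtain ⟨t, ht⟩ := hex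
    apply ht
    have h1 : θ (hc (s 0) (s 1) t) = θ (hc 0 1 t) := by
      rw [← comp_permTor_hc θ s 0 1 t]
      exact congrArg (fun χ : Tor 3 F →* ℂˣ => χ (hc 0 1 t)) hcon
    have hs0 : s 0 = 1 := by rw [hs]; decide
    have hs1 : s 1 = 0 := by rw [hs]; decide
    rw [hs0, hs1, hc_swap, map_inv] at h1
    -- x⁻¹ = x and x³ = 1 give x = 1
    have hx3 := hcube t
    set x := θ (hc 0 1 t) with hx
    have hx2 : x * x = 1 := by
      calc x * x = x⁻¹ * x := by rw [h1]
        _ = 1 := inv_mul_cancel x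
    calc x = x ^ 3 * (x * x)⁻¹ := by rw [pow_succ, pow_two]; group
      _ = 1 := by rw [hx3, hx2]; simp

end R

end Cfsg.Agent.Lib.Helper23.EQ
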