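/-
helper23: S4637 leaf (L3), `_of` form: a 2-block with a defect group of order 4 containing a central
involution of the group has 2-regular rank one, GIVEN (D2) (a block with a defect group of order 2
has 2-regular rank one) as an explicit hypothesis.
-/
import Mathlib
import Cfsg.Agent.Lib.Helper23.RankQuotApp

set_option autoImplicit false

namespace Cfsg.Agent.Lib.Helper23.KleinL3Of

open Cfsg Cfsg.Agent.CharLib Cfsg.Agent.Lib.Helper24 Cfsg.Agent.Lib.Helper6 Cfsg.Agent.Lib.Helper25
open Cfsg.Agent.Lib.Helper23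

universe u

variable {M : Ideal AlgInt}

/-- the image of a subgroup `D` of order `4` containing the normal subgroup `Z` of order `2` in the
quotient by `Z` has order `2`. -/
theorem card_map_mk_eq_two {H : Type u} [Group H] [Finite H] (Z : Subgroup H) [Z.Normal]
    (D : Subgroup H) (hZD : Z ≤ D) (hZ : Nat.card Z = 2) (hD : Nat.card D = 4) :
    Nat.card (D.map (QuotientGroup.mk' Z)) = 2 := by
  have h1 : Nat.card (D.map (QuotientGroup.mk' Z)) * Nat.card Z = Nat.card D := by
    let f : D →* H ⧸ Z := (QuotientGroup.mk' Z).comp D.subtype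
    have hker : f.ker = Z.subgroupOf D := by
      ext x
      rw [MonoidHom.mem_ker, Subgroup.mem_subgroupOf]
      change ((x : H) : H ⧸ Z) = 1 ↔ _
      exact QuotientGroup.eq_one_iff _
    have hrange : f.range = D.map (QuotientGroup.mk' Z) := by
      ext y
      constructor
      · rintro ⟨x, rfl⟩
        exact ⟨x, x.2, rfl⟩
      · rintro ⟨x, hx, rfl⟩
        exact ⟨⟨x, hx⟩, rfl⟩
    have h2 := Subgroup.card_mul_index f.ker
    rw [Subgroup.index_ker, hker, hrange] at h2
    have h3 : Nat.card (Z.subgroupOf D) = Nat.card Z :=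
      Nat.card_congr (Subgroup.subgroupOfEquivOfLe hZD).toEquiv
    rw [h3] at h2
    rw [mul_comm]
    exact h2
  rw [hZ, hD] at h1
  omega

theorem blockRank_eq_one_of_central_involution_of
    (hD2 : ∀ {K : Type u} [Group K] [Fintype K] (b' : Set (IrrCharacter K)), IsPBlock M b' →
      ∀ D' : Subgroup K, IsDefectGroup 2 M b' D' → Nat.card D' = 2 → blockRank 2 b' = 1)
    {H : Type u} [Group H] [Fintype H]
    (hM : IsPModular 2 M) (b : Set (IrrCharacter H)) (hb : IsPBlock M b) (D : Subgroup H)
    (hD : IsDefectGroup 2 M b D) (hcard : Nat.card D = 4) (w : H) (hwD : w ∈ D)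
    (hw2 : orderOf w = 2) (hwZ : w ∈ Subgroup.center H) : blockRank 2 b = 1 := by
  classical
  have hp2 : Fact (2 : ℕ).Prime := ⟨Nat.prime_two⟩
  set Z : Subgroup H := Subgroup.zpowers w with hZdef
  have hZcenter : Z ≤ Subgroup.center H := by
    rw [hZdef, Subgroup.zpowers_le]
    exact hwZ
  have hZn : Z.Normal := by
    constructor
    intro n hn g
    have := Subgroup.mem_center_iff.mp (hZcenter hn) g
    have h2 : g * n * g⁻¹ = n := by rw [this]; group
    rw [h2]
    exact hn
  have hZcard : Nat.card Z = 2 := by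
    rw [hZdef, Nat.card_zpowers, hw2]
  have hZD : Z ≤ D := by
    rw [hZdef, Subgroup.zpowers_le]
    exact hwD
  have hP : IsPGroup 2 Z := by
    apply IsPGroup.of_card (n := 1)
    rw [hZcard, pow_one]
  have hC : ∃ k : ℕ, (Subgroup.centralizer (Z : Set H)).index = 2 ^ k := by
    refine ⟨0, ?_⟩
    have : Subgroup.centralizer (Z : Set H) = ⊤ := by
      rw [eq_top_iff]
      intro g _
      rw [Subgroup.mem_centralizer_iff]
      intro n hn
      exact (Subgroup.mem_center_iff.mp (hZcenter hn) g).symm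
    rw [this, Subgroup.index_top, pow_zero]
  obtain ⟨ψ₀, rfl⟩ := hb
  rw [blockRank_eq_blockRank_quotient Z hM hP hC ψ₀]
  obtain ⟨hblock, hdef⟩ := quotient_block_eq hM Z hP hC ψ₀
  set Bbar := {γ : IrrCharacter (H ⧸ Z) | inflateIrr Z γ ∈ blockOf M (ψ₀ : H → ℂ)} with hBbar
  have hDbar : IsDefectGroup 2 M Bbar (D.map (QuotientGroup.mk' Z)) := by
    rw [hdef]
    exact ⟨D, hD, rfl⟩
  exact hD2 Bbar hblock _ hDbar (card_map_mk_eq_two Z D hZD hZcard hcard)

end Cfsg.Agent.Lib.Helper23.KleinL3Of
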