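/-
helper23: S4637 leaf (L3), EXACT name + binders of `notes/S4637_leaves.lean`: a 2-block with a defect
group of order 4 containing a central involution of the group has 2-regular rank one.
Proof: `KleinL3Of` (reduction to the quotient by the central involution: `RankQuot` + `quotient_block_eq`)
closed with helper29's (D2) `Cfsg.Agent.Lib.Helper29.KleinD2.blockRank_eq_one_of_card_two`.
-/
import Mathlib
import Cfsg.Agent.Lib.Helper23.KleinL3Of
import Cfsg.Agent.Lib.Helper29.KleinD2

set_option autoImplicit false

namespace Cfsg.Agent.Lib.Helper23.KleinL3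

open Cfsg

universe u

variable {M : Ideal AlgInt}

/-- (L3) a `2`-block with a defect group of order `4` containing a central involution of the group
has `2`-regular rank one. -/
theorem blockRank_eq_one_of_central_involution {H : Type u} [Group H] [Fintype H]
    (hM : IsPModular 2 M) (b : Set (IrrCharacter H)) (hb : IsPBlock M b) (D : Subgroup H)
    (hD : IsDefectGroup 2 M b D) (hcard : Nat.card D = 4) (w : H) (hwD : w ∈ D)
    (hw2 : orderOf w = 2) (hwZ : w ∈ Subgroup.center H) : blockRank 2 b = 1 :=
  Cfsg.Agent.Lib.Helper23.KleinL3Of.blockRank_eq_one_of_central_involution_of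
    (fun {_K} _ _ b' hb' D' hD' hc' =>
      Cfsg.Agent.Lib.Helper29.KleinD2.blockRank_eq_one_of_card_two hM b' hb' D' hD' hc')
    hM b hb D hD hcard w hwD hw2 hwZ

end Cfsg.Agent.Lib.Helper23.KleinL3
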