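/-
helper23: S4482-LOC sub-leaf CENT (helper20's sub-market, `notes/S4482_LOC_leaves.lean`).
-/
import Mathlib

set_option autoImplicit false

namespace Cfsg.Agent.Lib.Helper23.BOFLCENT

universe u

open DihedralGroup

/-- `j + j = 0` in `ZMod (2^(n-1))` means `j = 0` or `j = 2^(n-2)` -/
theorem eq_zero_or_half (n : ℕ) (hn : 2 ≤ n) (j : ZMod (2 ^ (n - 1))) (h2 : j + j = 0) :
    j = 0 ∨ j = ((2 ^ (n - 2) : ℕ) : ZMod (2 ^ (n - 1))) := by
  have hm : 2 ^ (n - 1) = 2 * 2 ^ (n - 2) := by
    have : n - 1 = (n - 2) + 1 := by omega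
    rw [this, pow_succ, mul_comm]
  have hlt := ZMod.val_lt j
  have hj : ((j.val : ℕ) : ZMod (2 ^ (n - 1))) = j := ZMod.natCast_zmod_val j
  have h3 : ((j.val + j.val : ℕ) : ZMod (2 ^ (n - 1))) = 0 := by
    rw [Nat.cast_add, hj, h2]
  rw [ZMod.natCast_eq_zero_iff] at h3
  obtain ⟨c, hc⟩ := h3
  have hpos : 0 < 2 ^ (n - 2) := by positivity
  have hc2 : c < 2 := by
    by_contra hcc
    have : 2 ^ (n - 1) * 2 ≤ 2 ^ (n - 1) * c := Nat.mul_le_mul_left _ (by omega)
    omega
  interval_cases c
  · left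
    rw [← hj, show j.val = 0 by omega, Nat.cast_zero]
  · right
    rw [← hj]
    congr 1
    omega

theorem half_ne_zero (n : ℕ) (hn : 2 ≤ n) : ((2 ^ (n - 2) : ℕ) : ZMod (2 ^ (n - 1))) ≠ 0 := by
  rw [Ne, ZMod.natCast_eq_zero_iff]
  intro h
  have hpos : 0 < 2 ^ (n - 2) := by positivity
  have h1 := Nat.le_of_dvd hpos h
  have h2 : 2 ^ (n - 2) < 2 ^ (n - 1) := Nat.pow_lt_pow_right (by norm_num) (by omega)
  omega

/-- (LOC-CENT) `κ` restricted to `C_X(s)` has kernel `C_N(s)` and image `C_D(sr i) = {1, r (m/2), sr i, sr (i + m/2)}`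
(the image contains `κ s = sr i` and `κ J = r (m/2)`, `J` being central). -/
theorem card_centralizer_eq {X : Type u} [Group X] [Finite X] (n : ℕ) (hn : 2 ≤ n)
    (N : Subgroup X) [N.Normal] (σ : X) (hJc : ∀ g : X, Commute (σ ^ (2 ^ (n - 2))) g)
    (κ : X →* DihedralGroup (2 ^ (n - 1))) (hker : κ.ker = N) (hκσ : κ σ = r 1)
    (s : X) (i : ZMod (2 ^ (n - 1))) (hκs : κ s = sr i) :
    Nat.card (Subgroup.centralizer ({s} : Set X)) =
      4 * Nat.card (N ⊓ Subgroup.centralizer ({s} : Set X) : Subgroup X) := by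
  classical
  set h : ZMod (2 ^ (n - 1)) := ((2 ^ (n - 2) : ℕ) : ZMod (2 ^ (n - 1))) with hh
  have hh0 : h ≠ 0 := half_ne_zero n hn
  have hκJ : κ (σ ^ (2 ^ (n - 2))) = r h := by
    rw [map_pow, hκσ, r_one_pow]
  have hsC : s ∈ Subgroup.centralizer ({s} : Set X) := by
    rw [Subgroup.mem_centralizer_iff]
    intro y hy
    rw [Set.mem_singleton_iff] at hy
    rw [hy]
  have hJC : σ ^ (2 ^ (n - 2)) ∈ Subgroup.centralizer ({s} : Set X) := by
    rw [Subgroup.mem_centralizer_iff]
    intro y hy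
    rw [Set.mem_singleton_iff] at hy
    rw [hy]
    exact ((hJc s).eq).symm
  let φ : ↥(Subgroup.centralizer ({s} : Set X)) →* DihedralGroup (2 ^ (n - 1)) :=
    κ.comp (Subgroup.centralizer ({s} : Set X)).subtype
  have hcard := Subgroup.card_eq_card_quotient_mul_card_subgroup φ.ker
  have h1 : Nat.card (↥(Subgroup.centralizer ({s} : Set X)) ⧸ φ.ker) = Nat.card φ.range :=
    Nat.card_congr (QuotientGroup.quotientKerEquivRange φ).toEquiv
  have h2 : Nat.card φ.ker = Nat.card (N ⊓ Subgroup.centralizer ({s} : Set X) : Subgroup X) := by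
    refine Nat.card_congr
      { toFun := fun g => ⟨g.1.1, ?_, g.1.2⟩
        invFun := fun g => ⟨⟨g.1, g.2.2⟩, ?_⟩
        left_inv := fun g => rfl
        right_inv := fun g => rfl }
    · have h5 : κ g.1.1 = 1 := MonoidHom.mem_ker.mp g.2
      have h6 : g.1.1 ∈ κ.ker := MonoidHom.mem_ker.mpr h5
      rw [hker] at h6
      exact h6
    · have h5 : g.1 ∈ κ.ker := by rw [hker]; exact g.2.1
      have h6 : κ g.1 = 1 := MonoidHom.mem_ker.mp h5
      exact MonoidHom.mem_ker.mpr h6
  have h3 : Nat.card φ.range = 4 := by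
    have hset : (φ.range : Set (DihedralGroup (2 ^ (n - 1)))) =
        ↑({r 0, r h, sr i, sr (i + h)} : Finset (DihedralGroup (2 ^ (n - 1)))) := by
      ext d
      simp only [SetLike.mem_coe, MonoidHom.mem_range, Finset.coe_insert, Finset.coe_singleton,
        Set.mem_insert_iff, Set.mem_singleton_iff]
      constructor
      · rintro ⟨g, rfl⟩
        have hg := (Subgroup.mem_centralizer_iff.mp g.2) s rfl
        have hg' : κ s * κ g.1 = κ g.1 * κ s := by rw [← map_mul, ← map_mul, hg]
        show κ g.1 = _ ∨ κ g.1 = _ ∨ κ g.1 = _ ∨ κ g.1 = _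
        rw [hκs] at hg'
        rcases hd : κ g.1 with j | j
        · rw [hd, sr_mul_r, r_mul_sr, sr.injEq] at hg'
          have : j + j = 0 := by linear_combination hg'
          rcases eq_zero_or_half n hn j this with rfl | rfl
          · left; rfl
          · right; left; rfl
        · rw [hd, sr_mul_sr, sr_mul_sr, r.injEq] at hg'
          have : (j - i) + (j - i) = 0 := by linear_combination hg'
          rcases eq_zero_or_half n hn (j - i) this with h0 | h0
          · right; right; left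
            rw [sub_eq_zero.mp h0]
          · right; right; right
            rw [hh, ← h0]; congr 1; ring
      · rintro (rfl | rfl | rfl | rfl)
        · exact ⟨1, map_one φ⟩
        · exact ⟨⟨σ ^ (2 ^ (n - 2)), hJC⟩, hκJ⟩
        · exact ⟨⟨s, hsC⟩, hκs⟩
        · refine ⟨⟨s * σ ^ (2 ^ (n - 2)), Subgroup.mul_mem _ hsC hJC⟩, ?_⟩
          show κ (s * σ ^ (2 ^ (n - 2))) = sr (i + h)
          rw [map_mul, hκs, hκJ, sr_mul_r]
    show Nat.card ↥(φ.range : Set (DihedralGroup (2 ^ (n - 1)))) = 4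
    rw [hset, Nat.card_coe_set_eq, Set.ncard_coe_finset]
    have e1 : (r 0 : DihedralGroup (2 ^ (n - 1))) ≠ r h := by
      rw [Ne, r.injEq]; exact fun e => hh0 e.symm
    have e2 : (sr i : DihedralGroup (2 ^ (n - 1))) ≠ sr (i + h) := by
      rw [Ne, sr.injEq]; intro e; apply hh0
      have := congrArg (fun t => t - i) e
      simp only [sub_self, add_sub_cancel_left] at this
      exact this.symm
    rw [Finset.card_insert_of_notMem, Finset.card_insert_of_notMem, Finset.card_insert_of_notMem,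
      Finset.card_singleton]
    · simp only [Finset.mem_singleton]; exact e2
    · simp only [Finset.mem_insert, Finset.mem_singleton]
      rintro (e | e) <;> cases e
    · simp only [Finset.mem_insert, Finset.mem_singleton]
      rintro (e | e | e)
      · exact e1 e
      · cases e
      · cases e
  rw [hcard, h1, h2, h3]

end Cfsg.Agent.Lib.Helper23.BOFLCENT
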