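/-
helper23: S4482-LOC sub-leaf KAPPA (helper20's sub-market, `notes/S4482_LOC_leaves.lean`).
-/
import Mathlib
import Cfsg.Agent.Lib.Helper3.Dihedral

set_option autoImplicit false

namespace Cfsg.Agent.Lib.Helper23.BOFLKAPPA

universe u

open DihedralGroup

/-- an element of 2-power order keeps its order modulo a normal subgroup of odd order -/
theorem orderOf_mk_eq {X : Type u} [Group X] [Finite X] (N : Subgroup X) [N.Normal]
    (hNodd : Odd (Nat.card N)) (σ : X) (k : ℕ) (hσo : orderOf σ = 2 ^ k) :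
    orderOf (QuotientGroup.mk' N σ) = 2 ^ k := by
  rw [← hσo]
  apply Nat.dvd_antisymm (orderOf_map_dvd _ σ)
  set j := orderOf (QuotientGroup.mk' N σ) with hj
  have h1 : (QuotientGroup.mk' N σ) ^ j = 1 := pow_orderOf_eq_one _
  rw [← map_pow, QuotientGroup.mk'_apply, QuotientGroup.eq_one_iff] at h1
  have h2 : orderOf (σ ^ j) ∣ Nat.card N := by
    have := orderOf_dvd_natCard (⟨σ ^ j, h1⟩ : N)
    rwa [← Subgroup.orderOf_coe] at this
  have h3 : orderOf (σ ^ j) ∣ 2 ^ k := by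
    rw [← hσo]; exact orderOf_pow_dvd j
  have h4 : Nat.Coprime (Nat.card N) (2 ^ k) :=
    Nat.Coprime.pow_right k (Nat.Coprime.symm (Nat.coprime_two_left.mpr hNodd))
  have h5 : orderOf (σ ^ j) = 1 := Nat.eq_one_of_dvd_coprimes h4 h2 h3
  rw [orderOf_eq_one_iff] at h5
  exact orderOf_dvd_of_pow_eq_one h5

/-- (LOC-KAPPA) the projection onto the dihedral quotient.  `q : X → X ⧸ N`; `q σ` has order `2^(n-1)` (`⟨σ⟩ ∩ N = 1`),
`q τ` is an involution inverting it, not in `⟨q σ⟩` (else `q σ` has order `≤ 2`); `Cfsg.Agent.Lib.Helper3.dihLift`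
(`Lib/Helper3/Dihedral.lean`: `r i ↦ x^i`, `sr i ↦ s x^i`) is injective (`dihLift_injective`), hence bijective by
cardinality (`|X ⧸ N| = 2^n = |D|`); `κ` = its inverse after `q`. -/
theorem exists_kappa {X : Type u} [Group X] [Finite X] (n : ℕ) (hn : 3 ≤ n)
    (N : Subgroup X) [N.Normal] (hNodd : Odd (Nat.card N)) (hidx : N.index = 2 ^ n)
    (σ τ : X) (hσo : orderOf σ = 2 ^ (n - 1)) (hτo : orderOf τ = 2) (hrel : τ * σ * τ⁻¹ = σ⁻¹) :
    ∃ κ : X →* DihedralGroup (2 ^ (n - 1)), Function.Surjective κ ∧ κ.ker = N ∧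
      κ σ = r 1 ∧ κ τ = sr 0 := by
  have hττ : τ * τ = 1 := by rw [← pow_two, ← hτo]; exact pow_orderOf_eq_one τ
  have hτi : τ⁻¹ = τ := inv_eq_of_mul_eq_one_left hττ
  set q := QuotientGroup.mk' N with hq
  have hx : (q σ) ^ (2 ^ (n - 1)) = 1 := by
    rw [← map_pow, ← hσo, pow_orderOf_eq_one, map_one]
  have hs : q τ * q τ = 1 := by rw [← map_mul, hττ, map_one]
  have hsx : q τ * q σ * q τ = (q σ)⁻¹ := by
    rw [← map_mul, ← map_mul, ← map_inv]
    congr 1
    rw [← hrel, hτi]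
  have hord : orderOf (q σ) = 2 ^ (n - 1) := orderOf_mk_eq N hNodd σ (n - 1) hσo
  have hs' : q τ ∉ Subgroup.zpowers (q σ) := by
    intro hmem
    obtain ⟨k, hk⟩ := Subgroup.mem_zpowers_iff.mp hmem
    have hc : q τ * q σ = q σ * q τ := by
      rw [← hk]
      exact ((Commute.refl (q σ)).zpow_left k).eq
    have h1 : (q σ)⁻¹ = q σ := by
      rw [← hsx, hc, mul_assoc, hs, mul_one]
    have h2 : (q σ) ^ 2 = 1 := by
      rw [pow_two]
      nth_rewrite 1 [← h1]
      exact inv_mul_cancel _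
    have h3 : 2 ^ (n - 1) ∣ 2 := by
      rw [← hord]; exact orderOf_dvd_of_pow_eq_one h2
    have h4 : 2 ^ (n - 1) ≤ 2 := Nat.le_of_dvd (by norm_num) h3
    have h5 : 2 ^ 2 ≤ 2 ^ (n - 1) := Nat.pow_le_pow_right (by norm_num) (by omega)
    omega
  have hinj := Cfsg.Agent.Lib.Helper3.dihLift_injective (q σ) (q τ) hx hs hsx hord hs'
  have hcard : Nat.card (X ⧸ N) ≤ Nat.card (DihedralGroup (2 ^ (n - 1))) := by
    rw [DihedralGroup.nat_card, ← Subgroup.index_eq_card, hidx]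
    have : n = (n - 1) + 1 := by omega
    conv_lhs => rw [this, pow_succ]
    rw [mul_comm]
  have hbij := hinj.bijective_of_nat_card_le hcard
  let e : DihedralGroup (2 ^ (n - 1)) ≃* X ⧸ N :=
    MulEquiv.ofBijective (Cfsg.Agent.Lib.Helper3.dihLift (q σ) (q τ) hx hs hsx) hbij
  refine ⟨e.symm.toMonoidHom.comp q, ?_, ?_, ?_, ?_⟩
  · exact e.symm.surjective.comp (QuotientGroup.mk'_surjective N)
  · ext g
    rw [MonoidHom.mem_ker]
    show e.symm (q g) = 1 ↔ g ∈ N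
    rw [MulEquiv.map_eq_one_iff, hq, QuotientGroup.mk'_apply, QuotientGroup.eq_one_iff]
  · show e.symm (q σ) = r 1
    rw [MulEquiv.symm_apply_eq]
    exact (Cfsg.Agent.Lib.Helper3.dihLift_r_one (q σ) (q τ) hx hs hsx).symm
  · show e.symm (q τ) = sr 0
    rw [MulEquiv.symm_apply_eq]
    exact (Cfsg.Agent.Lib.Helper3.dihLift_sr_zero (q σ) (q τ) hx hs hsx).symm

end Cfsg.Agent.Lib.Helper23.BOFLKAPPA
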