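/-
S5825 conjunct (8), Om7E (planner helper20): leaf E0 `ratact_of_mem` (helper23).
-/
import Mathlib
import Cfsg.Prelude.Def_ClassicalGeometry
import Cfsg.Prelude.Def_GeometricClasses
import Cfsg.Agent.Lib.Helper5.LSubC
import Cfsg.Agent.Lib.Helper20.Om7S.Wrap
import Cfsg.Agent.Lib.Helper20.Om7S.KDefs
import Cfsg.Agent.Lib.Helper20.Om7S.EDefs
import Cfsg.Agent.Lib.Helper23.Om7SL0
import Cfsg.Agent.Lib.Helper22.Om7SL0cd
import Cfsg.Agent.Lib.Helper1.Om7K1a
import Cfsg.Agent.Lib.Helper7.Om7SK2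
import Cfsg.Agent.Lib.Helper11.Om7SK7

set_option linter.dupNamespace false
set_option linter.ambiguousOpen false

namespace Cfsg.Agent.Lib.Helper20.Om7S

set_option autoImplicit false
set_option linter.unusedSectionVars false
set_option linter.unusedVariables false

open Cfsg Matrix QuadraticMap Module Cfsg.Agent.Lib.Helper25.Siegel Cfsg.Agent.Lib.Helper19.OSub
open _root_.Cfsg _root_.Cfsg.Agent.Lib.Helper25.Siegel
open Cfsg.Agent.Lib.Helper26.OSubLeaf
open S7
open Cfsg.Agent.Lib.Helper23.Om7SLeaf Cfsg.Agent.Lib.Helper22.Om7SLeaf Cfsg.Agent.Lib.Helper1.Om7Leaf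
open Cfsg.Agent.Lib.Helper7.Om7SLeaf Cfsg.Agent.Lib.Helper11.Om7SLeaf

namespace Cfsg.Agent.Lib.Helper23.Om7ELeaf

variable {ι : Type} [Fintype ι] [DecidableEq ι] {F : Type*} [Field F] [Fintype F]
  {F₀ : Subfield F} {Q : QuadraticForm F (ι → F)} {M : Subgroup (GL ι F)}

/-- E0 [S]: in characteristic 2 an isometry in the subfield group acts rationally -/
theorem ratact_of_mem (h : QCtx F₀ Q) (hc2 : (2 : F) = 0) {z : GL ι F}
    (hz : z ∈ Cfsg.Geo.subfieldSubgroup F₀ (1 : GL ι F)) (hzI : z ∈ Cfsg.isometryGroup F ⇑Q) :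
    ∀ x, RatV F₀ x → RatV F₀ (mv z x) := by
  classical
  obtain ⟨μ, hμ0, hμ⟩ := rat_of_mem_sub1 F₀ z hz
  -- a rational vector with `Q e ≠ 0`
  obtain ⟨e, he, hQe⟩ : ∃ e, RatV F₀ e ∧ Q e ≠ 0 := by
    by_contra hcon
    push Not at hcon
    have hQ0 : ∀ x, Q x = 0 := qf_zero_of_rat (F₀ := F₀) (fun y hy => hcon y hy)
    have hι : Nonempty ι := by
      have := h.card
      exact Fintype.card_pos_iff.1 (by omega)
    obtain ⟨i⟩ := hι
    have hs : (Pi.single i (1 : F) : ι → F) ≠ 0 := by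
      intro h0
      have := congrFun h0 i
      rw [Pi.single_eq_same] at this
      exact one_ne_zero this
    apply hs
    apply h.nd.1
    intro y
    rw [polarBilin_apply_apply]
    unfold polar
    rw [hQ0, hQ0, hQ0]; ring
  obtain ⟨r, hr, hzr⟩ := hμ e he
  have hQ : Q e = μ * μ * Q r := by
    rw [← iso_Q hzI e, hzr, QuadraticMap.map_smul, smul_eq_mul]
  have hQr0 : Q r ≠ 0 := by
    intro h0
    rw [h0, mul_zero] at hQ
    exact hQe hQ
  have hμ2 : μ * μ ∈ F₀ := by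
    have : μ * μ = Q e * (Q r)⁻¹ := by
      rw [hQ]; field_simp
    rw [this]
    exact F₀.mul_mem (h.ratQ e he) (F₀.inv_mem (h.ratQ r hr))
  -- Frobenius of the finite field `F₀` (char 2) is onto
  have hμmem : μ ∈ F₀ := by
    have h20 : (2 : ↥F₀) = 0 := by
      apply Subtype.ext
      push_cast
      exact hc2
    have hchar : CharP ↥F₀ 2 := CharTwo.of_one_ne_zero_of_two_eq_zero one_ne_zero h20
    have hrc : ringChar ↥F₀ = 2 := ringChar.eq ↥F₀ 2
    obtain ⟨b, hb⟩ := FiniteField.isSquare_of_char_two hrc (⟨μ * μ, hμ2⟩ : ↥F₀)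
    have hb' : μ * μ = (b : F) * (b : F) := by
      have := congrArg (fun x : ↥F₀ => (x : F)) hb
      simpa using this
    have h0 : (μ - (b : F)) * (μ - (b : F)) = 0 := by
      have e : (μ - (b : F)) * (μ - (b : F)) = μ * μ + (b : F) * (b : F) - 2 * (μ * (b : F)) := by ring
      rw [e, hc2, zero_mul, sub_zero, hb', ← two_mul, hc2, zero_mul]
    have h1 : μ - (b : F) = 0 := by
      rcases mul_eq_zero.1 h0 with h | h <;> exact h
    rw [sub_eq_zero.1 h1]
    exact b.2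
  intro x hx
  obtain ⟨r', hr', hzr'⟩ := hμ x hx
  rw [hzr']
  exact ratV_smul hμmem hr'

end Cfsg.Agent.Lib.Helper23.Om7ELeaf

end Cfsg.Agent.Lib.Helper20.Om7S
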