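import Mathlib
import Cfsg.Agent.Lib.Helper29.SpPrfDefs
import Cfsg.Agent.Lib.Helper29.AschKF2
import Cfsg.Agent.Lib.Helper26.AschNL
import Cfsg.Agent.Lib.Helper9.TensSwap
import Cfsg.Agent.Lib.Helper17.SpAschQ0
import Cfsg.Agent.Lib.Helper17.SpAschZ
import Cfsg.Agent.Lib.Helper20.SpTnsDefs
import Cfsg.Agent.Lib.Helper23.SpPrfB1

/-!
S5662 block TNS (sub-planner helper20), leaf K3 `tensor_similitudes` (exact signature of `notes/S5662_TNS_leaves.lean`).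
-/

set_option autoImplicit false
set_option linter.unusedSectionVars false
set_option linter.unusedVariables false

namespace Cfsg.Agent.Lib.Helper23.SpTnsLeaf
open Matrix Cfsg Cfsg.Geo Cfsg.Agent.Lib.Helper20.Asch Cfsg.Agent.Lib.Helper29.SpAsch
  Cfsg.Agent.Lib.Helper20.SpTns
open scoped Kronecker

variable {F : Type*} [Field F] [Fintype F] {n m : ℕ} {J : Matrix (Fin n) (Fin n) F}
  {H N : Subgroup (GL (Fin n) F)}

/-- two equal Kronecker products, the right-hand factors non-zero: the factors are proportional -/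
lemma k3_kron_eq {s k : ℕ} (A G₁ : Matrix (Fin s) (Fin s) F) (B G₂ : Matrix (Fin k) (Fin k) F)
    (hG₁ : G₁ ≠ 0) (hG₂ : G₂ ≠ 0) (h : A ⊗ₖ B = G₁ ⊗ₖ G₂) :
    ∃ c : F, c ≠ 0 ∧ A = c • G₁ ∧ B = c⁻¹ • G₂ := by
  have hent : ∀ i j p q, A i j * B p q = G₁ i j * G₂ p q := by
    intro i j p q
    have := congrFun (congrFun h (i, p)) (j, q)
    simpa [Matrix.kroneckerMap_apply] using this
  have h1 : ∃ i j, G₁ i j ≠ 0 := by
    by_contra hne
    push Not at hne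
    exact hG₁ (by ext i j; exact hne i j)
  have h2 : ∃ p q, G₂ p q ≠ 0 := by
    by_contra hne
    push Not at hne
    exact hG₂ (by ext p q; exact hne p q)
  obtain ⟨i₀, j₀, hx⟩ := h1
  obtain ⟨p₀, q₀, hy⟩ := h2
  have h0 := hent i₀ j₀ p₀ q₀
  have hα : A i₀ j₀ ≠ 0 := by
    intro hz
    rw [hz, zero_mul] at h0
    exact mul_ne_zero hx hy h0.symm
  have hβ : B p₀ q₀ ≠ 0 := by
    intro hz
    rw [hz, mul_zero] at h0
    exact mul_ne_zero hx hy h0.symm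
  refine ⟨G₂ p₀ q₀ / B p₀ q₀, div_ne_zero hy hβ, ?_, ?_⟩
  · ext i j
    rw [Matrix.smul_apply, smul_eq_mul]
    have := hent i j p₀ q₀
    field_simp
    linear_combination this
  · ext p q
    rw [Matrix.smul_apply, smul_eq_mul, inv_div]
    have h3 := hent i₀ j₀ p q
    field_simp
    have h4 : A i₀ j₀ * (B p q * G₂ p₀ q₀ - B p₀ q₀ * G₂ p q) = 0 := by
      linear_combination G₂ p₀ q₀ * h3 - G₂ p q * h0
    rcases mul_eq_zero.mp h4 with h5 | h5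
    · exact absurd h5 hα
    · linear_combination h5

/-- (K3) [M] THE ELEMENTS OF `H` IN COORDINATES. -/
theorem tensor_similitudes {s k : ℕ} (e : Fin n ≃ Fin s × Fin k) (P : GL (Fin n) F)
    (G₁ : Matrix (Fin s) (Fin s) F) (G₂ : Matrix (Fin k) (Fin k) F) (hG₁ : G₁ ≠ 0) (hG₂ : G₂ ≠ 0)
    (hgram : gramT e P J = G₁ ⊗ₖ G₂) (g : GL (Fin n) F) (hgJ : g ∈ isoG J)
    (hg : g ∈ tensorProductSubgroup s k e P) :
    ∃ (a : GL (Fin s) F) (b : GL (Fin k) F) (c : F), c ≠ 0 ∧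
      (g : Matrix (Fin n) (Fin n) F) =
        conjR e P ((a : Matrix (Fin s) (Fin s) F) ⊗ₖ (b : Matrix (Fin k) (Fin k) F)) ∧
      (a : Matrix (Fin s) (Fin s) F)ᵀ * G₁ * (a : Matrix (Fin s) (Fin s) F) = c • G₁ ∧
      (b : Matrix (Fin k) (Fin k) F)ᵀ * G₂ * (b : Matrix (Fin k) (Fin k) F) = c⁻¹ • G₂ := by
  obtain ⟨a, b, hab⟩ := (Cfsg.Agent.Lib.Helper20.Asch.mem_tensorProductSubgroup_iff e P g).1 hg
  obtain ⟨-, hp2, -, -, hp5⟩ := Cfsg.Agent.Lib.Helper23.SpPrfLeaf.stdM_props (J := J) e P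
  have hiso := hp5 g hgJ
  rw [hab, hp2, hgram, ← Matrix.kroneckerMap_transpose, ← Matrix.mul_kronecker_mul,
    ← Matrix.mul_kronecker_mul] at hiso
  obtain ⟨c, hc, hA, hB⟩ := k3_kron_eq _ G₁ _ G₂ hG₁ hG₂ hiso
  exact ⟨a, b, c, hc, hab, hA, hB⟩

end Cfsg.Agent.Lib.Helper23.SpTnsLeaf
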