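/-
helper23: leaf HYP of helper29's S3572 market "WD" (`notes/S3572_leaves.lean`):
all level sets of `η(T)²` are trivial when the rotation part is `P`-invariant, so `T` is a
reversible difference set (`Hyp n X Y k l l`).
-/
import Mathlib
import Cfsg.Agent.Lib.Helper29.WDDefs
import Cfsg.Agent.Lib.Helper29.WDBAS
import Cfsg.Agent.Lib.Helper15.WDSQ
import Cfsg.Agent.Lib.Helper21.WDF12
import Cfsg.Agent.Lib.Helper7.DHBGP
import Cfsg.Agent.Lib.Helper7.DHB2S

set_option autoImplicit false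
set_option linter.unusedSectionVars false
set_option linter.unusedVariables false

namespace Cfsg.Agent.Lib.Helper23.WDLeaf

open Finset DihedralGroup
open Cfsg.Agent.Lib.Helper19.SchurCyclic
open Cfsg.Agent.Lib.Helper7.DHB
open Cfsg.Agent.Lib.Helper29.WD

variable {n : ℕ} [NeZero n] {U : Type*} [Group U] {star : U → DihedralGroup n → DihedralGroup n}
variable {T T' T₁ T₂ : Finset (DihedralGroup n)}

/-- `rep X Y` is `P`-invariant when `X` is. -/
theorem rep_add_of_pinv {p : ℕ} (X Y : Finset (ZMod n)) (hX : PInv p X) (j t : ZMod n)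
    (ht : p • t = 0) : rep X Y (j + t) = rep X Y j := by
  unfold rep
  refine Finset.card_bij (fun q _ => (q.1 - t, q.2)) ?_ ?_ ?_
  · intro q hq
    simp only [mem_filter, mem_product] at hq ⊢
    refine ⟨⟨?_, hq.1.2⟩, ?_⟩
    · have h := hX q.1 hq.1.1 (-t) (by rw [smul_neg, ht, neg_zero])
      rwa [← sub_eq_add_neg] at h
    · rw [sub_add_eq_add_sub, hq.2, add_sub_cancel_right]
  · intro q₁ _ q₂ _ h
    simp only [Prod.mk.injEq, sub_left_inj] at h
    exact Prod.ext h.1 h.2
  · intro q hq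
    simp only [mem_filter, mem_product] at hq
    refine ⟨(q.1 + t, q.2), ?_, ?_⟩
    · simp only [mem_filter, mem_product]
      refine ⟨⟨hX q.1 hq.1.1 t ht, hq.1.2⟩, ?_⟩
      rw [add_right_comm, hq.2]
    · simp

/-- the number of solutions of `t₁ t₂ = 1` in an inverse-closed set -/
theorem card_pairs_one {H : Type*} [Group H] [DecidableEq H] (T : Finset H)
    (hinv : ∀ t ∈ T, t⁻¹ ∈ T) : ((T ×ˢ T).filter (fun q => q.1 * q.2 = 1)).card = T.card := by
  symm
  refine Finset.card_bij (fun t _ => (t, t⁻¹)) ?_ ?_ ?_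
  · intro t ht
    simp only [mem_filter, mem_product]
    exact ⟨⟨ht, hinv t ht⟩, mul_inv_cancel t⟩
  · intro a _ b _ h
    exact (Prod.mk.injEq _ _ _ _ ▸ h).1
  · intro q hq
    simp only [mem_filter, mem_product] at hq
    refine ⟨q.1, hq.1.1, ?_⟩
    have : q.2 = q.1⁻¹ := (eq_inv_of_mul_eq_one_right hq.2)
    exact Prod.ext rfl this.symm

/-- `hyp_of_sub`, over the symmetry (F1) of the rotation part. -/
theorem hyp_of_sub_of {p : ℕ} (hax : Ax star) (hn : 3 ≤ n)
    (hsub : ∀ T' : Finset (DihedralGroup n), Inv star T' → (1 : DihedralGroup n) ∉ T' →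
      PInv p (YY T') → Triv T')
    (hT : Inv star T) (h1 : (1 : DihedralGroup n) ∉ T) (hXinv : PInv p (XX T))
    (hsymm : ∀ i ∈ XX T, -i ∈ XX T) :
    ∃ l : ℕ, Hyp n (XX T) (YY T) T.card l l := by
  classical
  haveI : Fact (1 < n) := ⟨by omega⟩
  set c : DihedralGroup n → ℕ := fun g => ((eta ℕ T) ^ 2).coeff g with hc
  have hcstar : ∀ u g, c (star u g) = c g := fun u g =>
    Cfsg.Agent.Lib.Helper29.WDLeaf.coeff_pow_star hax hT ℕ 2 u g
  have hcr : ∀ i : ZMod n, c (r i) = rep (XX T) (XX T) i + dif (YY T) (YY T) i := fun i =>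
    Cfsg.Agent.Lib.Helper15.WDLeaf.coeff_sq_r T i
  have hcsr : ∀ j : ZMod n, c (sr j) = 2 * rep (XX T) (YY T) j := fun j =>
    Cfsg.Agent.Lib.Helper15.WDLeaf.coeff_sq_sr T hsymm j
  -- the level sets
  set L : ℕ → Finset (DihedralGroup n) := fun a =>
    ((univ : Finset (DihedralGroup n)).filter (fun g => c g = a)).erase 1 with hL
  have hLinv : ∀ a, Inv star (L a) := fun a =>
    Cfsg.Agent.Lib.Helper29.WDLeaf.inv_erase_one hax
      (Cfsg.Agent.Lib.Helper29.WDLeaf.inv_filter hax c hcstar (fun x => x = a)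
        Cfsg.Agent.Lib.Helper29.WDLeaf.inv_univ)
  have hL1 : ∀ a, (1 : DihedralGroup n) ∉ L a := fun a => Finset.notMem_erase _ _
  have hmemL : ∀ a g, g ∈ L a ↔ g ≠ 1 ∧ c g = a := by
    intro a g
    simp [hL]
  have hsr1 : ∀ j : ZMod n, (sr j : DihedralGroup n) ≠ 1 := by
    intro j h
    rw [DihedralGroup.one_def] at h
    cases h
  have hLY : ∀ a, PInv p (YY (L a)) := by
    intro a i hi t ht
    rw [mem_YY, hmemL] at hi ⊢
    refine ⟨hsr1 _, ?_⟩
    rw [hcsr, rep_add_of_pinv _ _ hXinv i t ht, ← hcsr]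
    exact hi.2
  have hLtriv : ∀ a, Triv (L a) := fun a => hsub (L a) (hLinv a) (hL1 a) (hLY a)
  -- a base point
  have hg0 : (r (1 : ZMod n) : DihedralGroup n) ≠ 1 := by
    intro h
    rw [DihedralGroup.one_def] at h
    exact one_ne_zero (DihedralGroup.r.inj h)
  have hconst : ∀ g : DihedralGroup n, g ≠ 1 → c g = c (r 1) := by
    intro g hg
    rcases hLtriv (c (r 1)) with h | h
    · exfalso
      have : (r (1 : ZMod n) : DihedralGroup n) ∈ L (c (r 1)) := (hmemL _ _).2 ⟨hg0, rfl⟩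
      rw [h] at this
      exact absurd this (Finset.notMem_empty _)
    · have : g ∈ L (c (r 1)) := by
        rw [h]
        exact Finset.mem_erase.2 ⟨hg, Finset.mem_univ _⟩
      exact ((hmemL _ _).1 this).2
  have hinvT : ∀ t ∈ T, t⁻¹ ∈ T := by
    intro t ht
    rcases t with i | j
    · have := hsymm i (mem_XX.2 ht)
      rw [mem_XX] at this
      simpa using this
    · simpa using ht
  refine ⟨c (r 1), ?_, hsymm, ?_, ?_⟩
  · intro h0
    rw [mem_XX] at h0
    exact h1 (by rw [DihedralGroup.one_def]; exact h0)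
  · intro i
    rw [← hcr]
    by_cases hi : i = 0
    · subst hi
      rw [if_pos rfl]
      have : (r (0 : ZMod n) : DihedralGroup n) = 1 := (DihedralGroup.one_def).symm
      rw [this, hc]
      simp only
      rw [Cfsg.Agent.Lib.Helper15.WDLeaf.coeff_eta_sq, card_pairs_one T hinvT]
    · rw [if_neg hi, ite_self]
      apply hconst
      intro h
      rw [DihedralGroup.one_def] at h
      exact hi (DihedralGroup.r.inj h)
  · intro j
    rw [← hcsr, ite_self]
    exact hconst _ (hsr1 j)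

/-- all level sets of `η(T)²` are trivial, so `T` is a reversible difference set. -/
theorem hyp_of_sub {p : ℕ} (hax : Ax star) (hprim : Prim star) (hn : 3 ≤ n) (hp : p.Prime) (hpn : p ∣ n)
    (hsub : ∀ T' : Finset (DihedralGroup n), Inv star T' → (1 : DihedralGroup n) ∉ T' → PInv p (YY T') → Triv T')
    (hT : Inv star T) (h1 : (1 : DihedralGroup n) ∉ T) (hXinv : PInv p (XX T)) :
    ∃ l : ℕ, Hyp n (XX T) (YY T) T.card l l :=
  hyp_of_sub_of hax hn hsub hT h1 hXinv (Cfsg.Agent.Lib.Helper21.WDLeaf.symm hax hprim hT)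

end Cfsg.Agent.Lib.Helper23.WDLeaf
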