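/-
helper23: S4561 (Gagola) leaf (Q3), EXACT name + binders of `notes/S4561_leaves.lean`:
the centre of `H ⧸ kerLam D` embeds in `ℂˣ` via `c ↦ lam (Quotient.out c)`.
Also the stronger `exists_center_hom_spec` (the embedding sends `mk z` to `lam z` for `z ∈ Z`), used
for (Q5).
-/
import Mathlib
import Cfsg.Agent.Lib.Helper21.GagDefs
import Cfsg.Agent.Lib.Helper9.GagQ2

set_option autoImplicit false

namespace Cfsg.Agent.Lib.Helper23.GagQ3

open RegularWreathProduct Cfsg.Agent.Lib.Helper21.Gag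

universe u

variable {G : Type u} [Group G] {n : ℕ} {H : Type u} [Group H] {Z : Subgroup H}
  {lam : H → ℂˣ} {s : G → H} {m : ℕ}

/-- `lam` is constant on the cosets of `kerLam D` inside `Z`. -/
theorem lam_eq_of_mk_eq (D : GDatum G n H Z lam s m) [hK : (kerLam D).Normal] {a b : H}
    (ha : a ∈ Z) (hb : b ∈ Z)
    (hab : (QuotientGroup.mk a : H ⧸ kerLam D) = QuotientGroup.mk b) : lam a = lam b := by
  rw [QuotientGroup.eq, mem_kerLam] at hab
  have h1 : b = a * (a⁻¹ * b) := by group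
  rw [h1, D.lam_mul a ha _ hab.1, hab.2, mul_one]

theorem out_mem (D : GDatum G n H Z lam s m) [hK : (kerLam D).Normal]
    (c : Subgroup.center (H ⧸ kerLam D)) : Quotient.out (c : H ⧸ kerLam D) ∈ Z := by
  rw [← Cfsg.Agent.Lib.Helper9.GagQ2.mk_mem_center_iff D]
  have h1 : (QuotientGroup.mk (Quotient.out (c : H ⧸ kerLam D)) : H ⧸ kerLam D) = c :=
    QuotientGroup.out_eq' _
  rw [h1]
  exact c.2

/-- the embedding of the centre of `H ⧸ kerLam D` in `ℂˣ`, with its value on the image of `Z`. -/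
theorem exists_center_hom_spec (D : GDatum G n H Z lam s m) [hK : (kerLam D).Normal] :
    ∃ mu : Subgroup.center (H ⧸ kerLam D) →* ℂˣ, Function.Injective mu ∧
      ∀ (z : H) (_ : z ∈ Z) (hc : (QuotientGroup.mk z : H ⧸ kerLam D) ∈
        Subgroup.center (H ⧸ kerLam D)), mu ⟨QuotientGroup.mk z, hc⟩ = lam z := by
  have hmkout : ∀ x : H ⧸ kerLam D, (QuotientGroup.mk (Quotient.out x) : H ⧸ kerLam D) = x :=
    fun x => QuotientGroup.out_eq' x
  have hmul : ∀ c₁ c₂ : Subgroup.center (H ⧸ kerLam D),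
      lam (Quotient.out ((c₁ * c₂ : Subgroup.center (H ⧸ kerLam D)) : H ⧸ kerLam D)) =
        lam (Quotient.out (c₁ : H ⧸ kerLam D)) * lam (Quotient.out (c₂ : H ⧸ kerLam D)) := by
    intro c₁ c₂
    rw [← D.lam_mul _ (out_mem D c₁) _ (out_mem D c₂)]
    apply lam_eq_of_mk_eq D (out_mem D (c₁ * c₂)) (Z.mul_mem (out_mem D c₁) (out_mem D c₂))
    rw [hmkout, QuotientGroup.mk_mul, hmkout, hmkout]
    rfl
  refine ⟨MonoidHom.mk' (fun c => lam (Quotient.out (c : H ⧸ kerLam D))) hmul, ?_, ?_⟩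
  · rw [injective_iff_map_eq_one]
    intro c hc
    change lam (Quotient.out (c : H ⧸ kerLam D)) = 1 at hc
    have h1 : Quotient.out (c : H ⧸ kerLam D) ∈ kerLam D := ⟨out_mem D c, hc⟩
    have h2 : (c : H ⧸ kerLam D) = 1 := by
      rw [← hmkout (c : H ⧸ kerLam D)]
      exact (QuotientGroup.eq_one_iff _).mpr h1
    exact Subtype.ext h2
  · intro z hz hc
    change lam (Quotient.out (QuotientGroup.mk z : H ⧸ kerLam D)) = lam z
    exact lam_eq_of_mk_eq D (out_mem D ⟨_, hc⟩) hz (hmkout _)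

/-- (Q3) the centre of the quotient embeds in `ℂˣ`. -/
theorem exists_injective_center_hom (D : GDatum G n H Z lam s m) [hK : (kerLam D).Normal] :
    ∃ mu : Subgroup.center (H ⧸ kerLam D) →* ℂˣ, Function.Injective mu := by
  obtain ⟨mu, hmu, -⟩ := exists_center_hom_spec D
  exact ⟨mu, hmu⟩

end Cfsg.Agent.Lib.Helper23.GagQ3
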