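/-
helper23: S4561 (Gagola) leaf (Q5), EXACT name + binders of `notes/S4561_leaves.lean`:
the centre of `H ⧸ kerLam D` has squarefree order whose prime divisors are those of `n`.
The centre embeds in `ℂˣ` (Q3), so it is cyclic; its exponent divides `m` (`D.lam_pow`), so its order
divides the squarefree `m`; the witnesses of `D` give elements of each prime order `q ∣ n`.
-/
import Mathlib
import Cfsg.Agent.Lib.Helper21.GagDefs
import Cfsg.Agent.Lib.Helper9.GagQ2
import Cfsg.Agent.Lib.Helper23.GagQ3

set_option autoImplicit false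

namespace Cfsg.Agent.Lib.Helper23.GagQ5

open RegularWreathProduct Cfsg.Agent.Lib.Helper21.Gag Cfsg.Agent.Lib.Helper23.GagQ3

universe u

variable {G : Type u} [Group G] {n : ℕ} {H : Type u} [Group H] {Z : Subgroup H}
  {lam : H → ℂˣ} {s : G → H} {m : ℕ}

/-- (Q5) order of the centre of the quotient. -/
theorem card_center_quot (D : GDatum G n H Z lam s m) [Finite H] [hK : (kerLam D).Normal] :
    Squarefree (Nat.card (Subgroup.center (H ⧸ kerLam D))) ∧
      ∀ q : ℕ, q.Prime → (q ∣ Nat.card (Subgroup.center (H ⧸ kerLam D)) ↔ q ∣ n) := by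
  obtain ⟨mu, hmu, hspec⟩ := exists_center_hom_spec D
  have hinj : Function.Injective ((Units.coeHom ℂ).comp mu) := by
    intro a b hab
    apply hmu
    exact Units.ext hab
  have hcyc : IsCyclic (Subgroup.center (H ⧸ kerLam D)) :=
    isCyclic_of_injective_ringHom ((Units.coeHom ℂ).comp mu) hinj
  -- every element of the centre has order dividing `m`
  have hpow : ∀ c : Subgroup.center (H ⧸ kerLam D), c ^ m = 1 := by
    intro c
    apply hmu
    rw [map_pow, map_one]
    have h1 : (QuotientGroup.mk (Quotient.out (c : H ⧸ kerLam D)) : H ⧸ kerLam D) = c :=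
      QuotientGroup.out_eq' _
    have hc : (QuotientGroup.mk (Quotient.out (c : H ⧸ kerLam D)) : H ⧸ kerLam D) ∈
        Subgroup.center (H ⧸ kerLam D) := by rw [h1]; exact c.2
    have h2 : c = ⟨QuotientGroup.mk (Quotient.out (c : H ⧸ kerLam D)), hc⟩ :=
      Subtype.ext h1.symm
    rw [h2, hspec _ (out_mem D c) hc]
    exact D.lam_pow _ (out_mem D c)
  have hdvd : Nat.card (Subgroup.center (H ⧸ kerLam D)) ∣ m := by
    rw [← IsCyclic.exponent_eq_card]
    exact Monoid.exponent_dvd_of_forall_pow_eq_one hpow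
  refine ⟨D.sqfree.squarefree_of_dvd hdvd, ?_⟩
  intro q hq
  constructor
  · intro h
    exact D.primes_m q hq (h.trans hdvd)
  · intro h
    obtain ⟨z, hzZ, hz1, hzq⟩ := D.witness q hq h
    have hc : (QuotientGroup.mk z : H ⧸ kerLam D) ∈ Subgroup.center (H ⧸ kerLam D) :=
      (Cfsg.Agent.Lib.Helper9.GagQ2.mk_mem_center_iff D z).mpr hzZ
    set c : Subgroup.center (H ⧸ kerLam D) := ⟨QuotientGroup.mk z, hc⟩ with hcdef
    have hmuc : mu c = lam z := hspec z hzZ hc
    have hc1 : c ≠ 1 := by
      intro h1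
      apply hz1
      rw [← hmuc, h1, map_one]
    have hcq : c ^ q = 1 := by
      apply hmu
      rw [map_pow, map_one, hmuc]
      exact hzq
    have hord : orderOf c = q := by
      haveI : Fact q.Prime := ⟨hq⟩
      exact orderOf_eq_prime hcq hc1
    rw [← hord]
    exact orderOf_dvd_natCard c

end Cfsg.Agent.Lib.Helper23.GagQ5
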