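/-
helper23: S4395 leaf B2B (helper21's market, `notes/S4395_leaves.lean`): every `p`-th power of `P` is a
commutator with `x₀`.
-/
import Mathlib
import Cfsg.Prelude.Def_Transfer
import Cfsg.Agent.Lib.Helper21.SchDefs
import Cfsg.Agent.Lib.Helper23.SchCalc

set_option autoImplicit false
universe u v
open Cfsg
open Cfsg.Agent.Lib.Helper21.Sch

namespace Cfsg.Agent.Lib.Helper23.SchB2B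

open Cfsg.Agent.Lib.Helper23.SchCalc

section B
variable {p : ℕ} [Fact p.Prime] {K : Type*} [Field K] {ω : K} {X : Type*} [Group X]

theorem Gam_pow (𝔣 : Frame p ω X) {x₀ : X} (hx₀ : x₀ ∈ 𝔣.P) {c : X} (hc : c ∈ Gam 𝔣 x₀) (n : ℕ) :
    c ^ n ∈ Gam 𝔣 x₀ := by
  induction n with
  | zero => rw [pow_zero]; exact Gam_one 𝔣 x₀
  | succ n ih => rw [pow_succ]; exact Gam_mul 𝔣 hx₀ ih hc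

/-- elements of `Γ` commute with `P` -/
theorem Gam_comm (𝔣 : Frame p ω X) {x₀ : X} (hx₀ : x₀ ∈ 𝔣.P) {c : X} (hc : c ∈ Gam 𝔣 x₀) {u : X}
    (hu : u ∈ 𝔣.P) : c * u = u * c := by
  obtain ⟨hcP, hc0⟩ := Gam_sub_P 𝔣 hx₀ hc
  exact ker_comm 𝔣 hcP hc0 hu

theorem aux_step (A B x x' c γ : X) (h_c : B * x = c * (x * B)) (hγ : γ * (x * x') = (x * x') * γ)
    (hcA : A * c = c * A) (hc2 : c * (A * x * (B * x')) = (A * x * (B * x')) * c) :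
    A * B * γ * (x * x') = A * x * (B * x') * (c * γ) := by
  calc A * B * γ * (x * x') = A * B * (γ * (x * x')) := by rw [mul_assoc]
    _ = A * B * ((x * x') * γ) := by rw [hγ]
    _ = A * (B * x) * x' * γ := by simp only [mul_assoc]
    _ = A * (c * (x * B)) * x' * γ := by rw [h_c]
    _ = (A * c) * (x * B * x') * γ := by simp only [mul_assoc]
    _ = (c * A) * (x * B * x') * γ := by rw [hcA]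
    _ = c * (A * x * (B * x')) * γ := by simp only [mul_assoc]
    _ = (A * x * (B * x')) * c * γ := by rw [hc2]
    _ = A * x * (B * x') * (c * γ) := by simp only [mul_assoc]

/-- `(x x')^n ∈ x^n x'^n Γ` -/
theorem mul_pow_Gam (𝔣 : Frame p ω X) {x₀ : X} (hx₀ : x₀ ∈ 𝔣.P)
    (hcomm : ∀ x ∈ 𝔣.P, ∀ x' ∈ 𝔣.P, x * x' * x⁻¹ * x'⁻¹ ∈ Gam 𝔣 x₀)
    {x x' : X} (hx : x ∈ 𝔣.P) (hx' : x' ∈ 𝔣.P) (n : ℕ) :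
    ∃ γ ∈ Gam 𝔣 x₀, (x * x') ^ n = x ^ n * x' ^ n * γ := by
  induction n with
  | zero => exact ⟨1, Gam_one 𝔣 x₀, by simp⟩
  | succ n ih =>
    obtain ⟨γ, hγ, hn⟩ := ih
    have hB : x' ^ n ∈ 𝔣.P := 𝔣.P.pow_mem hx' n
    have hA : x ^ n ∈ 𝔣.P := 𝔣.P.pow_mem hx n
    have hc := hcomm (x' ^ n) hB x hx
    refine ⟨x' ^ n * x * (x' ^ n)⁻¹ * x⁻¹ * γ, Gam_mul 𝔣 hx₀ hc hγ, ?_⟩
    rw [pow_succ, hn, pow_succ, pow_succ]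
    apply aux_step
    · group
    · exact Gam_comm 𝔣 hx₀ hγ (𝔣.P.mul_mem hx hx')
    · exact (Gam_comm 𝔣 hx₀ hc hA).symm
    · exact Gam_comm 𝔣 hx₀ hc (𝔣.P.mul_mem (𝔣.P.mul_mem hA hx) (𝔣.P.mul_mem hB hx'))

/-- a kernel factor does not change the `p`-th power -/
theorem pow_mul_ker (𝔣 : Frame p ω X) {x z : X} (hx : x ∈ 𝔣.P) (hz : z ∈ 𝔣.P)
    (hz0 : pv 𝔣 z hz = 0) : (x * z) ^ p = x ^ p := by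
  have hc : Commute x z := (ker_comm 𝔣 hz hz0 hx).symm
  rw [hc.mul_pow, ker_pow 𝔣 hz hz0, mul_one]

/-- `p`-th powers lie in the kernel -/
theorem pv_pow_p [CharP K p] (𝔣 : Frame p ω X) {x : X} (hx : x ∈ 𝔣.P) :
    pv 𝔣 (x ^ p) (𝔣.P.pow_mem hx p) = 0 := by
  rw [pv_pow 𝔣 hx p, nsmul_eq_mul, CharP.cast_eq_zero, zero_mul]

/-- `Q(ω v) = Q(v)` -/
theorem conj_pow_p [CharP K p] (𝔣 : Frame p ω X) {x : X} (hx : x ∈ 𝔣.P) :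
    (𝔣.y * x * 𝔣.y⁻¹) ^ p = x ^ p := by
  rw [conj_pow]
  exact ker_conj 𝔣 (𝔣.P.pow_mem hx p) (pv_pow_p 𝔣 hx)

/-- the elements `y^i x₀ y^-i` -/
theorem conj_iter (𝔣 : Frame p ω X) {x₀ : X} (hx₀ : x₀ ∈ 𝔣.P) (i : ℕ) :
    ∃ h : 𝔣.y ^ i * x₀ * (𝔣.y ^ i)⁻¹ ∈ 𝔣.P,
      pv 𝔣 (𝔣.y ^ i * x₀ * (𝔣.y ^ i)⁻¹) h = ω ^ i * pv 𝔣 x₀ hx₀ := by
  induction i with
  | zero =>
    have e : 𝔣.y ^ 0 * x₀ * (𝔣.y ^ 0)⁻¹ = x₀ := by group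
    have h : 𝔣.y ^ 0 * x₀ * (𝔣.y ^ 0)⁻¹ ∈ 𝔣.P := by rw [e]; exact hx₀
    exact ⟨h, by rw [pv_congr 𝔣 e h hx₀, pow_zero, one_mul]⟩
  | succ i ih =>
    obtain ⟨h, hv⟩ := ih
    have e : 𝔣.y ^ (i + 1) * x₀ * (𝔣.y ^ (i + 1))⁻¹ =
        𝔣.y * (𝔣.y ^ i * x₀ * (𝔣.y ^ i)⁻¹) * 𝔣.y⁻¹ := by
      rw [pow_succ']; group
    have h' : 𝔣.y ^ (i + 1) * x₀ * (𝔣.y ^ (i + 1))⁻¹ ∈ 𝔣.P := by
      rw [e]; exact 𝔣.y_norm _ h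
    refine ⟨h', ?_⟩
    rw [pv_congr 𝔣 e h' (𝔣.y_norm _ h), pv_conj 𝔣 h, hv, pow_succ']
    ring

theorem conj_iter_pow_p [CharP K p] (𝔣 : Frame p ω X) {x₀ : X} (hx₀ : x₀ ∈ 𝔣.P) (i : ℕ) :
    (𝔣.y ^ i * x₀ * (𝔣.y ^ i)⁻¹) ^ p = x₀ ^ p := by
  induction i with
  | zero => simp
  | succ i ih =>
    obtain ⟨h, -⟩ := conj_iter 𝔣 hx₀ i
    have e : 𝔣.y ^ (i + 1) * x₀ * (𝔣.y ^ (i + 1))⁻¹ =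
        𝔣.y * (𝔣.y ^ i * x₀ * (𝔣.y ^ i)⁻¹) * 𝔣.y⁻¹ := by
      rw [pow_succ']; group
    rw [e, conj_pow_p 𝔣 h, ih]

/-- the partial products `∏_{i<m} y^i x₀ y^-i` -/
theorem prod_iter [CharP K p] (𝔣 : Frame p ω X) {x₀ : X} (hx₀ : x₀ ∈ 𝔣.P)
    (hcomm : ∀ x ∈ 𝔣.P, ∀ x' ∈ 𝔣.P, x * x' * x⁻¹ * x'⁻¹ ∈ Gam 𝔣 x₀) (m : ℕ) :
    ∃ (A : X) (hA : A ∈ 𝔣.P), pv 𝔣 A hA = (∑ i ∈ Finset.range m, ω ^ i) * pv 𝔣 x₀ hx₀ ∧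
      ∃ γ ∈ Gam 𝔣 x₀, A ^ p = (x₀ ^ p) ^ m * γ := by
  induction m with
  | zero =>
    exact ⟨1, 𝔣.P.one_mem, by rw [pv_one, Finset.sum_range_zero, zero_mul], 1, Gam_one 𝔣 x₀, by simp⟩
  | succ m ih =>
    obtain ⟨A, hA, hAv, γ, hγ, hAp⟩ := ih
    obtain ⟨ha, hav⟩ := conj_iter 𝔣 hx₀ m
    refine ⟨A * (𝔣.y ^ m * x₀ * (𝔣.y ^ m)⁻¹), 𝔣.P.mul_mem hA ha, ?_, ?_⟩
    · rw [pv_mul 𝔣 hA ha, hAv, hav, Finset.sum_range_succ]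
      ring
    · obtain ⟨γ', hγ', h⟩ := mul_pow_Gam 𝔣 hx₀ hcomm hA ha p
      refine ⟨γ * γ', Gam_mul 𝔣 hx₀ hγ hγ', ?_⟩
      rw [h, hAp, conj_iter_pow_p 𝔣 hx₀ m, pow_succ]
      have hc := Gam_comm 𝔣 hx₀ hγ (𝔣.P.pow_mem hx₀ p)
      calc (x₀ ^ p) ^ m * γ * x₀ ^ p * γ' = (x₀ ^ p) ^ m * (γ * x₀ ^ p) * γ' := by
            simp only [mul_assoc]
        _ = (x₀ ^ p) ^ m * (x₀ ^ p * γ) * γ' := by rw [hc]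
        _ = (x₀ ^ p) ^ m * x₀ ^ p * (γ * γ') := by simp only [mul_assoc]

/-- the set of `v` such that `x ^ p ∈ Γ` whenever `π x = v` -/
def powSet [CharP K p] (𝔣 : Frame p ω X) (x₀ : X) (hx₀ : x₀ ∈ 𝔣.P)
    (hcomm : ∀ x ∈ 𝔣.P, ∀ x' ∈ 𝔣.P, x * x' * x⁻¹ * x'⁻¹ ∈ Gam 𝔣 x₀) : AddSubgroup K where
  carrier := {v | ∀ (x : X) (hx : x ∈ 𝔣.P), pv 𝔣 x hx = v → x ^ p ∈ Gam 𝔣 x₀}
  zero_mem' := by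
    intro x hx hv
    rw [ker_pow 𝔣 hx hv]
    exact Gam_one 𝔣 x₀
  add_mem' := by
    intro v w hv hw x hx hxv
    obtain ⟨a, ha, hav⟩ := pv_surj 𝔣 v
    obtain ⟨b, hb, hbw⟩ := pv_surj 𝔣 w
    have h1 : pv 𝔣 x hx = pv 𝔣 (a * b) (𝔣.P.mul_mem ha hb) := by
      rw [pv_mul 𝔣 ha hb, hav, hbw, hxv]
    obtain ⟨z, hz, hz0, rfl⟩ := exists_ker_of_pv_eq 𝔣 hx (𝔣.P.mul_mem ha hb) h1
    rw [pow_mul_ker 𝔣 (𝔣.P.mul_mem ha hb) hz hz0]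
    obtain ⟨γ, hγ, h⟩ := mul_pow_Gam 𝔣 hx₀ hcomm ha hb p
    rw [h]
    exact Gam_mul 𝔣 hx₀ (Gam_mul 𝔣 hx₀ (hv a ha hav) (hw b hb hbw)) hγ
  neg_mem' := by
    intro v hv x hx hxv
    obtain ⟨a, ha, hav⟩ := pv_surj 𝔣 v
    have h1 : pv 𝔣 x hx = pv 𝔣 a⁻¹ (𝔣.P.inv_mem ha) := by
      rw [pv_inv 𝔣 ha, hav, hxv]
    obtain ⟨z, hz, hz0, rfl⟩ := exists_ker_of_pv_eq 𝔣 hx (𝔣.P.inv_mem ha) h1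
    rw [pow_mul_ker 𝔣 (𝔣.P.inv_mem ha) hz hz0, inv_pow]
    exact Gam_inv 𝔣 hx₀ (hv a ha hav)

/-- **TAG B2B** every `p`-th power of `P` is a commutator with `x₀`.  `Γ = {[x₀,x'']}` is a subgroup of the central kernel
(`hmul`, `hinv`); `Q(πx) := x^p` is well defined, `Q(v+w) ∈ Q(v) Q(w) Γ` (class 2 and `hcomm`), `Q(ωv) = Q(v)`; so
`{v | Q v ∈ Γ}` is an additive subgroup closed under `ω •`; it contains `1`: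
`1 = Q(0) = Q(∑_{i<q} ω^i) ∈ Q(1)^q Γ`, `Q(1)^p = 1`, `gcd(p,q) = 1`. -/
theorem pow_mem_range [CharP K p] (𝔣 : Frame p ω X) (q : ℕ) (hpq : p.Coprime q) (hω0 : ω ≠ 0)
    (hspan : ∀ S : AddSubgroup K, (1 : K) ∈ S → (∀ v ∈ S, ω * v ∈ S) → S = ⊤)
    (hgeom : ∑ i ∈ Finset.range q, ω ^ i = 0)
    (x₀ : X) (hx₀ : x₀ ∈ 𝔣.P) (h1 : Multiplicative.toAdd (𝔣.π ⟨x₀, hx₀⟩) = 1)
    (hcomm : ∀ x ∈ 𝔣.P, ∀ x' ∈ 𝔣.P, ∃ x'' ∈ 𝔣.P, x * x' * x⁻¹ * x'⁻¹ = x₀ * x'' * x₀⁻¹ * x''⁻¹)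
    (hmul : ∀ c c' : X, (∃ x'' ∈ 𝔣.P, c = x₀ * x'' * x₀⁻¹ * x''⁻¹) → (∃ x'' ∈ 𝔣.P, c' = x₀ * x'' * x₀⁻¹ * x''⁻¹) →
      ∃ x'' ∈ 𝔣.P, c * c' = x₀ * x'' * x₀⁻¹ * x''⁻¹)
    (hinv : ∀ c : X, (∃ x'' ∈ 𝔣.P, c = x₀ * x'' * x₀⁻¹ * x''⁻¹) → ∃ x'' ∈ 𝔣.P, c⁻¹ = x₀ * x'' * x₀⁻¹ * x''⁻¹) :
    ∀ x ∈ 𝔣.P, ∃ x'' ∈ 𝔣.P, x ^ p = x₀ * x'' * x₀⁻¹ * x''⁻¹ := by
  have hcomm' : ∀ x ∈ 𝔣.P, ∀ x' ∈ 𝔣.P, x * x' * x⁻¹ * x'⁻¹ ∈ Gam 𝔣 x₀ := hcomm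
  -- `x₀ ^ p ∈ Γ`
  have hx0p : x₀ ^ p ∈ Gam 𝔣 x₀ := by
    obtain ⟨A, hA, hAv, γ, hγ, hAp⟩ := prod_iter 𝔣 hx₀ hcomm' q
    rw [hgeom, zero_mul] at hAv
    rw [ker_pow 𝔣 hA hAv] at hAp
    have h2 : (x₀ ^ p) ^ q = γ⁻¹ := eq_inv_of_mul_eq_one_left hAp.symm
    have h3 : (x₀ ^ p) ^ q ∈ Gam 𝔣 x₀ := by rw [h2]; exact Gam_inv 𝔣 hx₀ hγ
    have h4 : (x₀ ^ p) ^ p = 1 := ker_pow 𝔣 (𝔣.P.pow_mem hx₀ p) (pv_pow_p 𝔣 hx₀)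
    obtain ⟨s, -, hs⟩ := Nat.exists_mul_mod_eq_one_of_coprime hpq.symm (Fact.out : p.Prime).one_lt
    have h5 : ((x₀ ^ p) ^ q) ^ s = x₀ ^ p := by
      rw [← pow_mul, pow_eq_pow_mod (q * s) h4, hs, pow_one]
    rw [← h5]
    exact Gam_pow 𝔣 hx₀ h3 s
  have htop : powSet 𝔣 x₀ hx₀ hcomm' = ⊤ := by
    apply hspan
    · intro x hx hxv
      have h2 : pv 𝔣 x hx = pv 𝔣 x₀ hx₀ := hxv.trans h1.symm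
      obtain ⟨z, hz, hz0, rfl⟩ := exists_ker_of_pv_eq 𝔣 hx hx₀ h2
      rw [pow_mul_ker 𝔣 hx₀ hz hz0]
      exact hx0p
    · intro v hv x hx hxv
      obtain ⟨a, ha, hav⟩ := pv_surj 𝔣 v
      have h2 : pv 𝔣 x hx = pv 𝔣 (𝔣.y * a * 𝔣.y⁻¹) (𝔣.y_norm a ha) := by
        rw [pv_conj 𝔣 ha, hav, hxv]
      obtain ⟨z, hz, hz0, rfl⟩ := exists_ker_of_pv_eq 𝔣 hx (𝔣.y_norm a ha) h2
      rw [pow_mul_ker 𝔣 (𝔣.y_norm a ha) hz hz0, conj_pow_p 𝔣 ha]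
      exact hv a ha hav
  intro x hx
  have hmem : pv 𝔣 x hx ∈ powSet 𝔣 x₀ hx₀ hcomm' := by
    rw [htop]; exact AddSubgroup.mem_top _
  exact hmem x hx rfl

end B

end Cfsg.Agent.Lib.Helper23.SchB2B
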