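/-
helper23: S4395 leaf B2C (helper21's market, `notes/S4395_leaves.lean`): `|Γ| ≤ p ^ b`.
-/
import Mathlib
import Cfsg.Prelude.Def_Transfer
import Cfsg.Agent.Lib.Helper21.SchDefs
import Cfsg.Agent.Lib.Helper23.SchCalc
import Cfsg.Agent.Lib.Helper23.SchB2B

set_option autoImplicit false
universe u v
open Cfsg
open Cfsg.Agent.Lib.Helper21.Sch

namespace Cfsg.Agent.Lib.Helper23.SchB2C

open Cfsg.Agent.Lib.Helper23.SchCalc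

section B
variable {p : ℕ} [Fact p.Prime] {K : Type*} [Field K] {ω : K} {X : Type*} [Group X]

/-- kernel elements are fixed by the powers of `y` -/
theorem ker_conj_iter (𝔣 : Frame p ω X) {z : X} (hz : z ∈ 𝔣.P) (hz0 : pv 𝔣 z hz = 0) (m : ℕ) :
    𝔣.y ^ m * z * (𝔣.y ^ m)⁻¹ = z := by
  induction m with
  | zero => simp
  | succ m ih =>
    have e : 𝔣.y ^ (m + 1) * z * (𝔣.y ^ (m + 1))⁻¹ = 𝔣.y * (𝔣.y ^ m * z * (𝔣.y ^ m)⁻¹) * 𝔣.y⁻¹ := by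
      rw [pow_succ']; group
    rw [e, ih, ker_conj 𝔣 hz hz0]

/-- conjugation by `y ^ m` is onto `P` -/
theorem conj_surj_iter (𝔣 : Frame p ω X) (hω0 : ω ≠ 0) (m : ℕ) {x' : X} (hx' : x' ∈ 𝔣.P) :
    ∃ (b : X) (_ : b ∈ 𝔣.P), x' = 𝔣.y ^ m * b * (𝔣.y ^ m)⁻¹ := by
  induction m generalizing x' with
  | zero => exact ⟨x', hx', by simp⟩
  | succ m ih =>
    obtain ⟨b, hb, rfl⟩ := conj_surj 𝔣 hω0 hx'
    obtain ⟨b', hb', rfl⟩ := ih hb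
    exact ⟨b', hb', by rw [pow_succ']; group⟩

/-- the kernel of `v ↦ [x₀, x]`, `π x = v` -/
def kerSet (𝔣 : Frame p ω X) (x₀ : X) (hx₀ : x₀ ∈ 𝔣.P) : AddSubgroup K where
  carrier := {v | ∀ (x : X) (hx : x ∈ 𝔣.P), pv 𝔣 x hx = v → x₀ * x * x₀⁻¹ * x⁻¹ = 1}
  zero_mem' := by
    intro x hx hv
    rw [← ker_comm 𝔣 hx hv hx₀]; group
  add_mem' := by
    intro v w hv hw x hx hxv
    obtain ⟨a, ha, hav⟩ := pv_surj 𝔣 v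
    obtain ⟨b, hb, hbw⟩ := pv_surj 𝔣 w
    have h1 : pv 𝔣 x hx = pv 𝔣 (a * b) (𝔣.P.mul_mem ha hb) := by
      rw [pv_mul 𝔣 ha hb, hav, hbw, hxv]
    rw [comm_congr 𝔣 hx₀ hx₀ hx (𝔣.P.mul_mem ha hb) rfl h1, comm_mul_right 𝔣 hx₀ ha hb,
      hv a ha hav, hw b hb hbw, mul_one]
  neg_mem' := by
    intro v hv x hx hxv
    obtain ⟨a, ha, hav⟩ := pv_surj 𝔣 v
    have h1 : pv 𝔣 x hx = pv 𝔣 a⁻¹ (𝔣.P.inv_mem ha) := by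
      rw [pv_inv 𝔣 ha, hav, hxv]
    rw [comm_congr 𝔣 hx₀ hx₀ hx (𝔣.P.inv_mem ha) rfl h1, comm_inv_right 𝔣 hx₀ ha,
      hv a ha hav, inv_one]

theorem kerSet_mem (𝔣 : Frame p ω X) (hω0 : ω ≠ 0) (x₀ : X) (hx₀ : x₀ ∈ 𝔣.P)
    (h1 : pv 𝔣 x₀ hx₀ = 1) (m : ℕ) : ω ^ m + ω⁻¹ ^ m ∈ kerSet 𝔣 x₀ hx₀ := by
  intro x hx hxv
  obtain ⟨ha, hav⟩ := SchB2B.conj_iter 𝔣 hx₀ m
  rw [h1, mul_one] at hav
  obtain ⟨b, hb, hbx⟩ := conj_surj_iter 𝔣 hω0 m hx₀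
  obtain ⟨hb', hbv⟩ := SchB2B.conj_iter 𝔣 hb m
  have hbv' : pv 𝔣 b hb = ω⁻¹ ^ m := by
    have h2 : pv 𝔣 (𝔣.y ^ m * b * (𝔣.y ^ m)⁻¹) hb' = 1 := by
      rw [← h1]; exact pv_congr 𝔣 hbx.symm hb' hx₀
    rw [h2] at hbv
    rw [inv_pow]
    exact eq_inv_of_mul_eq_one_right hbv.symm
  -- `[x₀, b] = [a, x₀]`
  have h3 : x₀ * b * x₀⁻¹ * b⁻¹ =
      (𝔣.y ^ m * x₀ * (𝔣.y ^ m)⁻¹) * x₀ * (𝔣.y ^ m * x₀ * (𝔣.y ^ m)⁻¹)⁻¹ * x₀⁻¹ := by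
    have h4 := ker_conj_iter 𝔣 (comm_mem 𝔣 hx₀ hb) (pv_comm 𝔣 hx₀ hb) m
    rw [conj_comm, ← hbx] at h4
    exact h4.symm
  have h5 : pv 𝔣 x hx = pv 𝔣 ((𝔣.y ^ m * x₀ * (𝔣.y ^ m)⁻¹) * b) (𝔣.P.mul_mem ha hb) := by
    rw [pv_mul 𝔣 ha hb, hav, hbv', hxv]
  rw [comm_congr 𝔣 hx₀ hx₀ hx (𝔣.P.mul_mem ha hb) rfl h5, comm_mul_right 𝔣 hx₀ ha hb, h3,
    ← comm_inv_swap, inv_mul_cancel]

/-- **TAG B2C** `g : K → Γ`, `g(πx) = [x₀,x]` is a well defined surjective additive map whose kernel contains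
`ω^m + ω⁻¹^m` (`[x₀, y^m x₀ y^-m] [x₀, y^-m x₀ y^m] = 1` since `[x₀, y^-m x₀ y^m] = y^-m [y^m x₀ y^-m, x₀] y^m` and
commutators are `y`-fixed), so `|Γ| = |K : ker g| ≤ p^b`.  (`K` is finite, being an image of `P`.) -/
theorem card_range_le [Finite X] [CharP K p] (𝔣 : Frame p ω X) (hω0 : ω ≠ 0) (b : ℕ)
    (hidx : ∀ N : AddSubgroup K, (∀ m : ℕ, ω ^ m + ω⁻¹ ^ m ∈ N) → N.index ≤ p ^ b)
    (x₀ : X) (hx₀ : x₀ ∈ 𝔣.P) (h1 : Multiplicative.toAdd (𝔣.π ⟨x₀, hx₀⟩) = 1) :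
    Nat.card {c : X // ∃ x'' ∈ 𝔣.P, c = x₀ * x'' * x₀⁻¹ * x''⁻¹} ≤ p ^ b := by
  have hfinK : Finite K := by
    have : Finite (Multiplicative K) := Finite.of_surjective 𝔣.π 𝔣.π_surj
    exact Finite.of_equiv _ Multiplicative.toAdd
  refine le_trans ?_ (hidx (kerSet 𝔣 x₀ hx₀) (kerSet_mem 𝔣 hω0 x₀ hx₀ h1))
  rw [AddSubgroup.index_eq_card]
  let f : {c : X // ∃ x'' ∈ 𝔣.P, c = x₀ * x'' * x₀⁻¹ * x''⁻¹} → K ⧸ kerSet 𝔣 x₀ hx₀ :=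
    fun c => QuotientAddGroup.mk (pv 𝔣 (Classical.choose c.2) (Classical.choose_spec c.2).1)
  apply Nat.card_le_card_of_injective f
  intro c c' hcc
  have ha := (Classical.choose_spec c.2).1
  have hc := (Classical.choose_spec c.2).2
  have ha' := (Classical.choose_spec c'.2).1
  have hc' := (Classical.choose_spec c'.2).2
  have h2 : -pv 𝔣 (Classical.choose c.2) ha + pv 𝔣 (Classical.choose c'.2) ha' ∈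
      kerSet 𝔣 x₀ hx₀ := QuotientAddGroup.eq.mp hcc
  have h3 := h2 ((Classical.choose c.2)⁻¹ * Classical.choose c'.2)
    (𝔣.P.mul_mem (𝔣.P.inv_mem ha) ha') (by rw [pv_mul 𝔣 (𝔣.P.inv_mem ha) ha', pv_inv 𝔣 ha])
  rw [comm_mul_right 𝔣 hx₀ (𝔣.P.inv_mem ha) ha', comm_inv_right 𝔣 hx₀ ha, ← hc, ← hc'] at h3
  apply Subtype.ext
  exact (inv_mul_eq_one.mp h3)

end B

end Cfsg.Agent.Lib.Helper23.SchB2C
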