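/-
helper23: S4395 leaf B2D (helper21's market, `notes/S4395_leaves.lean`).
-/
import Mathlib
import Cfsg.Prelude.Def_Transfer
import Cfsg.Agent.Lib.Helper21.SchDefs
import Cfsg.Agent.Lib.Helper23.SchCalc

set_option autoImplicit false
universe u v
open Cfsg
open Cfsg.Agent.Lib.Helper21.Sch

namespace Cfsg.Agent.Lib.Helper23.SchB2D

open Cfsg.Agent.Lib.Helper23.SchCalc

section B
variable {p : ℕ} [Fact p.Prime] {K : Type*} [Field K] {ω : K} {X : Type*} [Group X]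

/-- **TAG B2D** `Γ` is closed under products and inverses (`x'' ↦ [x₀,x'']` is a hom into the central kernel). -/
theorem range_mul_mem [CharP K p] (𝔣 : Frame p ω X) (x₀ : X) (hx₀ : x₀ ∈ 𝔣.P) :
    (∀ c c' : X, (∃ x'' ∈ 𝔣.P, c = x₀ * x'' * x₀⁻¹ * x''⁻¹) → (∃ x'' ∈ 𝔣.P, c' = x₀ * x'' * x₀⁻¹ * x''⁻¹) →
      ∃ x'' ∈ 𝔣.P, c * c' = x₀ * x'' * x₀⁻¹ * x''⁻¹) ∧
    (∀ c : X, (∃ x'' ∈ 𝔣.P, c = x₀ * x'' * x₀⁻¹ * x''⁻¹) → ∃ x'' ∈ 𝔣.P, c⁻¹ = x₀ * x'' * x₀⁻¹ * x''⁻¹) :=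
  ⟨fun _ _ hc hc' => Gam_mul 𝔣 hx₀ hc hc', fun _ hc => Gam_inv 𝔣 hx₀ hc⟩

end B

end Cfsg.Agent.Lib.Helper23.SchB2D
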