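/-
helper23: S4705 market "BS", spine bridge: for the principal `TwoBlock` (`η₁ = trivIrr G`) the leaves CSET and REST in the
form over `cset (trivIrr G)` (the hypotheses `hrest0` of helper17's `BSK5.k5`).
-/
import Mathlib
import Cfsg.Prelude.Def_BlockRank
import Cfsg.Agent.Lib.Helper6.BRHDefs
import Cfsg.Agent.Lib.Helper6.BSDefs
import Cfsg.Agent.Lib.Helper23.BRVIDefs
import Cfsg.Agent.Lib.Helper23.BRVIZC
import Cfsg.Agent.Lib.Helper23.BSREST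
import Cfsg.Agent.Lib.Helper1.BSCSET
import Cfsg.Agent.Lib.Helper15.BRVIZREG

set_option autoImplicit false

namespace Cfsg.Agent.Lib.Helper23.BSB0REST

open Cfsg Cfsg.Agent.Lib.Helper8.DOM Cfsg.Agent.Lib.Helper27.DO Cfsg.Agent.CharLib
open Cfsg.Agent.Lib.Helper6.BRH Cfsg.Agent.Lib.Helper23.BRVI Cfsg.Agent.Lib.Helper6.BS
open Cfsg.Agent.Lib.Helper23.BRVIZC
open scoped ComplexConjugate

universe u

variable {G : Type u} [Group G] [Finite G] {p : ℕ} [Fact p.Prime]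

/-- `cset` only depends on the central character -/
theorem cset_eq_of_mem {ψ0 χ0 : IrrCharacter G} (h : χ0 ∈ cset ψ0) : cset ψ0 = cset χ0 := by
  ext χ
  rw [mem_cset_iff, mem_cset_iff, (mem_cset_iff ψ0 χ0).mp h]

/-- CSET for the principal block: everything lies over the trivial character of `Z(G)` -/
theorem cset_triv_of_twoBlock (hZreg : ∀ z ∈ Subgroup.center G, ¬ p ∣ orderOf z) (P : Subgroup G)
    (χ₁ : IrrCharacter G) (v : ℤ) (Y0 : Set (IrrCharacter G)) (ε0 : ℤ)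
    (d0 : TwoBlock p P (trivIrr G) χ₁ 1 v Y0 ε0) :
    trivIrr G ∈ cset (trivIrr G) ∧ χ₁ ∈ cset (trivIrr G) ∧ Y0 ⊆ cset (trivIrr G) := by
  obtain ⟨ψ0, hψ0⟩ := d0.neY
  obtain ⟨h1, h2, h3⟩ :=
    Cfsg.Agent.Lib.Helper1.BSCSET.cset_of_twoBlock hZreg P (trivIrr G) χ₁ 1 v Y0 ε0 d0 ψ0 hψ0
  have he := cset_eq_of_mem h1
  rw [he] at h1 h2 h3
  exact ⟨h1, h2, h3⟩

/-- REST for the principal block, over `cset (trivIrr G)` (= the hypothesis `hrest0` of `BSK5.k5`) -/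
theorem rest_vanish_triv (P : Subgroup G) (hP : Nat.card P = p) (hSyl : ¬ p ∣ P.index) (hnn : ¬ P.Normal)
    (hV : ∀ y ∈ Cz P, ¬ p ∣ orderOf y → y ∈ Subgroup.center G)
    (χ₁ : IrrCharacter G) (v : ℤ) (Y0 : Set (IrrCharacter G)) (ε0 : ℤ)
    (d0 : TwoBlock p P (trivIrr G) χ₁ 1 v Y0 ε0) :
    ∀ χ ∈ cset (trivIrr G), χ ≠ trivIrr G → χ ≠ χ₁ → χ ∉ Y0 → ∀ x ∈ P, x ≠ 1 → (χ : G → ℂ) x = 0 := by
  have hZreg := Cfsg.Agent.Lib.Helper15.BRVIZREG.center_regular P hP hSyl hnn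
  obtain ⟨h1, h2, h3⟩ := cset_triv_of_twoBlock hZreg P χ₁ v Y0 ε0 d0
  exact Cfsg.Agent.Lib.Helper23.BSREST.rest_vanish P hP hSyl hnn hV (trivIrr G) χ₁ 1 v Y0 ε0 d0
    (trivIrr G) h1 h2 h3

end Cfsg.Agent.Lib.Helper23.BSB0REST
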