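/-
helper23: S4705 market "BS" (`notes/S4705_leaves.lean`), leaf BS-REST: in `cset ψ0 ⊇` a `TwoBlock`, every other character
vanishes on `P \ 1` (`∑_{χ ∈ cset ψ0} |χ(x)|² = p = 1 + 1 + (p - 2)`, `BRVICOLSUM.sum_pair` at `(x, x)`).
-/
import Mathlib
import Cfsg.Prelude.Def_BlockRank
import Cfsg.Agent.Lib.Helper6.BRHDefs
import Cfsg.Agent.Lib.Helper6.BSDefs
import Cfsg.Agent.Lib.Helper23.BRVIDefs
import Cfsg.Agent.Lib.Helper23.BRVICOLSUM

set_option autoImplicit false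

namespace Cfsg.Agent.Lib.Helper23.BSREST

open Cfsg Cfsg.Agent.Lib.Helper8.DOM Cfsg.Agent.Lib.Helper27.DO Cfsg.Agent.CharLib
open Cfsg.Agent.Lib.Helper6.BRH Cfsg.Agent.Lib.Helper23.BRVI Cfsg.Agent.Lib.Helper6.BS
open scoped ComplexConjugate

universe u

variable {G : Type u} [Group G] [Finite G] {p : ℕ} [Fact p.Prime]

theorem normSq_intCast_of_sgn (v : ℤ) (hv : v = 1 ∨ v = -1) : Complex.normSq ((v : ℂ)) = 1 := by
  rcases hv with h | h
  · rw [h]; simp
  · rw [h]; simp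

/-- BS-REST : the characters outside the block vanish on `P \ 1`. -/
theorem rest_vanish (P : Subgroup G) (hP : Nat.card P = p) (hSyl : ¬ p ∣ P.index) (hnn : ¬ P.Normal)
    (hV : ∀ y ∈ Cz P, ¬ p ∣ orderOf y → y ∈ Subgroup.center G)
    (η₁ η₂ : IrrCharacter G) (v₁ v₂ : ℤ) (Y : Set (IrrCharacter G)) (ε : ℤ)
    (d : TwoBlock p P η₁ η₂ v₁ v₂ Y ε) (ψ0 : IrrCharacter G)
    (h1 : η₁ ∈ cset ψ0) (h2 : η₂ ∈ cset ψ0) (hY : Y ⊆ cset ψ0) :
    ∀ χ ∈ cset ψ0, χ ≠ η₁ → χ ≠ η₂ → χ ∉ Y → ∀ x ∈ P, x ≠ 1 → (χ : G → ℂ) x = 0 := by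
  classical
  intro χ hχ hχ1 hχ2 hχY x hx hx1
  let _ : Fintype (IrrCharacter G) := Fintype.ofFinite _
  have hS : (cset ψ0).Finite := Set.toFinite _
  have hYf : Y.Finite := Set.toFinite _
  have hxx := (Cfsg.Agent.Lib.Helper23.BRVICOLSUM.sum_pair P hP hSyl hnn hV hx hx1 hx hx1 ψ0).1
    (IsConj.refl x)
  -- the real column sum
  have hxxR : ∑ χ' ∈ hS.toFinset, Complex.normSq ((χ' : G → ℂ) x) = (p : ℝ) := by
    apply Complex.ofReal_injective
    push_cast
    rw [← hxx, finsum_mem_eq_finite_toFinset_sum _ hS]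
    apply Finset.sum_congr rfl
    intro χ' _
    rw [Complex.mul_conj]
  have hYR : ∑ χ' ∈ hYf.toFinset, Complex.normSq ((χ' : G → ℂ) x) = (p : ℝ) - 2 := by
    rw [← d.normY x hx hx1, finsum_mem_eq_finite_toFinset_sum _ hYf]
  -- the four disjoint pieces
  set T : Finset (IrrCharacter G) := insert χ (insert η₁ (insert η₂ hYf.toFinset)) with hT
  have hTsub : T ⊆ hS.toFinset := by
    intro χ' hχ'
    rw [hT] at hχ'
    simp only [Finset.mem_insert, Set.Finite.mem_toFinset] at hχ'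
    rw [Set.Finite.mem_toFinset]
    rcases hχ' with h | h | h | h
    · rw [h]; exact hχ
    · rw [h]; exact h1
    · rw [h]; exact h2
    · exact hY h
  have hle := Finset.sum_le_sum_of_subset_of_nonneg (f := fun χ' : IrrCharacter G =>
    Complex.normSq ((χ' : G → ℂ) x)) hTsub (fun χ' _ _ => Complex.normSq_nonneg _)
  have hn2 : η₂ ∉ hYf.toFinset := by
    rw [Set.Finite.mem_toFinset]; exact d.notY2
  have hn1 : η₁ ∉ insert η₂ hYf.toFinset := by
    rw [Finset.mem_insert, Set.Finite.mem_toFinset]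
    rintro (h | h)
    · exact d.ne h
    · exact d.notY1 h
  have hn0 : χ ∉ insert η₁ (insert η₂ hYf.toFinset) := by
    rw [Finset.mem_insert, Finset.mem_insert, Set.Finite.mem_toFinset]
    rintro (h | h | h)
    · exact hχ1 h
    · exact hχ2 h
    · exact hχY h
  rw [hT, Finset.sum_insert hn0, Finset.sum_insert hn1, Finset.sum_insert hn2, hYR, hxxR,
    d.val1 x hx hx1, d.val2 x hx hx1, normSq_intCast_of_sgn v₁ d.sgn1,
    normSq_intCast_of_sgn v₂ d.sgn2] at hle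
  have h0 : Complex.normSq ((χ : G → ℂ) x) = 0 := by
    have := Complex.normSq_nonneg ((χ : G → ℂ) x)
    linarith
  exact Complex.normSq_eq_zero.mp h0

end Cfsg.Agent.Lib.Helper23.BSREST
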