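/-
helper23: S4705 market "BS" (`notes/S4705_leaves.lean`), leaf BS-TCEQ (K2): if the products of two conjugates of `w` meet
the coset `x Z(G)` only in `x z0`, the sector sums `Tc (cset ψ0) w w x` all have the same modulus
(`|G| |Z| Tc (cset ψ0) w w x = ω_ψ0(z0) n(x z0)`, `n` = the number of pairs, `|ω| = 1`).
-/
import Mathlib
import Cfsg.Prelude.Def_BlockRank
import Cfsg.Agent.Lib.Helper6.BRHDefs
import Cfsg.Agent.Lib.Helper6.BSDefs
import Cfsg.Agent.Lib.Helper23.BRVIDefs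
import Cfsg.Agent.Lib.Helper23.BRVIZC
import Cfsg.Agent.Lib.Helper23.BRVITPOS
import Cfsg.Agent.Lib.Helper21.ClassMulPos

set_option autoImplicit false

namespace Cfsg.Agent.Lib.Helper23.BSTCEQ

open Cfsg Cfsg.Agent.Lib.Helper8.DOM Cfsg.Agent.Lib.Helper27.DO Cfsg.Agent.CharLib
open Cfsg.Agent.Lib.Helper6.BRH Cfsg.Agent.Lib.Helper23.BRVI Cfsg.Agent.Lib.Helper6.BS
open Cfsg.Agent.Lib.Helper23.BRVIZC Cfsg.Agent.Lib.Helper23.BRVITPOS
open scoped ComplexConjugate

universe u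

variable {G : Type u} [Group G] [Finite G]

/-- the scaled sector sum has modulus `n (x z0)`, the number of pairs, whatever the central character -/
theorem norm_card_mul_tc (w x z0 : G) (hz0 : z0 ∈ Subgroup.center G)
    (hcount : ∀ a b z : G, z ∈ Subgroup.center G → a * w * a⁻¹ * (b * w * b⁻¹) = x * z → z = z0) :
    ∃ n : ℕ, ∀ ψ : IrrCharacter G,
      ‖(Nat.card G : ℂ) * (Nat.card (Subgroup.center G) : ℂ) * Tc (cset ψ) w w x‖ = (n : ℝ) := by
  classical
  let _ : Fintype G := Fintype.ofFinite G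
  let _ : Fintype (IrrCharacter G) := Fintype.ofFinite _
  let _ : Fintype (Subgroup.center G) := Fintype.ofFinite _
  set n : G → ℕ := fun g =>
    (Finset.univ.filter (fun ab : G × G => ab.1 * w * ab.1⁻¹ * (ab.2 * w * ab.2⁻¹) = g)).card with hndef
  have hn : ∀ g : G, (Nat.card G : ℂ) * ∑ᶠ χ : IrrCharacter G,
      (χ : G → ℂ) w * (χ : G → ℂ) w * conj ((χ : G → ℂ) g) / (χ : G → ℂ) 1 = (n g : ℂ) := by
    intro g
    rw [hndef]
    simp only
    rw [Cfsg.Agent.Lib.Helper21.ClassMulPos.card_pairs_eq w w g, finsum_eq_sum_of_fintype,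
      Nat.card_eq_fintype_card]
  refine ⟨n (x * z0), ?_⟩
  intro ψ
  rw [card_mul_tc ψ w w x n hn]
  rw [Finset.sum_eq_single (⟨z0, hz0⟩ : Subgroup.center G)]
  · rw [norm_mul, norm_omegaHom, one_mul, Complex.norm_natCast]
  · intro z _ hz
    have h0 : n (x * (z : G)) = 0 := by
      rw [hndef]
      simp only
      rw [Finset.card_eq_zero, Finset.filter_eq_empty_iff]
      intro ab _ hab
      exact hz (Subtype.ext (hcount ab.1 ab.2 (z : G) z.2 hab))
    rw [h0]
    simp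
  · intro h
    exact absurd (Finset.mem_univ _) h

/-- BS-TCEQ (K2) : the sector sums have the same modulus. -/
theorem tc_norm_eq (w x z0 : G) (hz0 : z0 ∈ Subgroup.center G)
    (hcount : ∀ a b z : G, z ∈ Subgroup.center G → a * w * a⁻¹ * (b * w * b⁻¹) = x * z → z = z0)
    (ψ0 : IrrCharacter G) :
    ‖Tc (cset ψ0) w w x‖ = ‖Tc (cset (trivIrr G)) w w x‖ := by
  obtain ⟨n, hn⟩ := norm_card_mul_tc w x z0 hz0 hcount
  have h0 := hn ψ0
  have h1 := hn (trivIrr G)
  rw [norm_mul] at h0 h1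
  have hpos : 0 < ‖(Nat.card G : ℂ) * (Nat.card (Subgroup.center G) : ℂ)‖ := by
    rw [norm_pos_iff]
    apply mul_ne_zero
    · exact Nat.cast_ne_zero.mpr Nat.card_pos.ne'
    · exact Nat.cast_ne_zero.mpr Nat.card_pos.ne'
  exact mul_left_cancel₀ hpos.ne' (h0.trans h1.symm)

end Cfsg.Agent.Lib.Helper23.BSTCEQ
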