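/-
helper23: S4705 market "BS" (`notes/S4705_leaves.lean`), spine segment (K3)+(K4): the non-exceptional character `χb` of sign
`+1` in the block of `ζ` is linear.
`‖Tc (cset ζ) w w x‖ = ‖Tc (cset ψ0) w w x‖` (COUNT, TCEQ); EVAL for both blocks; INEQL against INEQR.
-/
import Mathlib
import Cfsg.Prelude.Def_BlockRank
import Cfsg.Agent.Lib.Helper6.BRHDefs
import Cfsg.Agent.Lib.Helper6.BSDefs
import Cfsg.Agent.Lib.Helper23.BRVIDefs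
import Cfsg.Agent.Lib.Helper23.BSTCEQ
import Cfsg.Agent.Lib.Helper23.BSREST
import Cfsg.Agent.Lib.Helper1.BSEVAL
import Cfsg.Agent.Lib.Helper1.BSPSUM
import Cfsg.Agent.Lib.Helper1.BSCSET
import Cfsg.Agent.Lib.Helper17.BSINVVAL
import Cfsg.Agent.Lib.Helper17.BSCOUNT
import Cfsg.Agent.Lib.Helper7.BSINEQL
import Cfsg.Agent.Lib.Helper7.BSINEQR
import Cfsg.Agent.Lib.Helper15.BRVIZREG
import Cfsg.Agent.Lib.Helper24.IrrFacts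

set_option autoImplicit false

namespace Cfsg.Agent.Lib.Helper23.BSK34

open Cfsg Cfsg.Agent.Lib.Helper8.DOM Cfsg.Agent.Lib.Helper27.DO Cfsg.Agent.CharLib
open Cfsg.Agent.Lib.Helper6.BRH Cfsg.Agent.Lib.Helper23.BRVI Cfsg.Agent.Lib.Helper6.BS
open scoped ComplexConjugate

universe u

variable {G : Type u} [Group G] [Finite G] {p : ℕ} [Fact p.Prime]

theorem norm_intCast_of_sgn (v : ℤ) (hv : v = 1 ∨ v = -1) : ‖((v : ℤ) : ℂ)‖ = 1 := by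
  rcases hv with h | h
  · rw [h]; simp
  · rw [h]; simp

/-- the data of one block at `w`: the INVVAL + PSUM numbers -/
theorem block_numbers (hp2 : p ≠ 2) (P : Subgroup G) (hP : Nat.card P = p)
    (η₁ η₂ : IrrCharacter G) (v₁ v₂ : ℤ) (Y : Set (IrrCharacter G)) (ε : ℤ)
    (d : TwoBlock p P η₁ η₂ v₁ v₂ Y ε) (w : G) (hwinv : ∀ x ∈ P, w * x * w⁻¹ = x⁻¹)
    (ψ : IrrCharacter G) (hψ : ψ ∈ Y) :
    ∃ k₁ k₂ kY : ℕ,
      ((charDegree (η₁ : G → ℂ) : ℤ) + v₁ * ((p : ℤ) - 1) = (p : ℤ) * (k₁ : ℤ)) ∧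
      ((charDegree (η₂ : G → ℂ) : ℤ) + v₂ * ((p : ℤ) - 1) = (p : ℤ) * (k₂ : ℤ)) ∧
      ((charDegree (ψ : G → ℂ) : ℤ) - 2 * ε = (p : ℤ) * (kY : ℤ)) ∧
      ‖(η₁ : G → ℂ) w‖ ≤ (k₁ : ℝ) ∧ ‖(η₂ : G → ℂ) w‖ ≤ (k₂ : ℝ) ∧ ‖(ψ : G → ℂ) w‖ ≤ (kY : ℝ) ∧
      (kY = 1 → ‖(ψ : G → ℂ) w‖ = 1) := by
  obtain ⟨hs1, hs2, hsY⟩ := Cfsg.Agent.Lib.Helper1.BSPSUM.psum_of_twoBlock P hP η₁ η₂ v₁ v₂ Y ε d
  obtain ⟨k₁, hk1, hn1, -⟩ := Cfsg.Agent.Lib.Helper17.BSINVVAL.invol_val hp2 P hP w hwinv η₁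
  obtain ⟨k₂, hk2, hn2, -⟩ := Cfsg.Agent.Lib.Helper17.BSINVVAL.invol_val hp2 P hP w hwinv η₂
  obtain ⟨kY, hkY, hnY, hnY1⟩ := Cfsg.Agent.Lib.Helper17.BSINVVAL.invol_val hp2 P hP w hwinv ψ
  refine ⟨k₁, k₂, kY, ?_, ?_, ?_, hn1, hn2, hnY, hnY1⟩
  · have h := hs1.symm.trans hk1
    rw [Cfsg.Agent.Lib.Helper24.irr_apply_one η₁] at h
    exact_mod_cast h
  · have h := hs2.symm.trans hk2
    rw [Cfsg.Agent.Lib.Helper24.irr_apply_one η₂] at h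
    exact_mod_cast h
  · have h := (hsY ψ hψ).symm.trans hkY
    rw [Cfsg.Agent.Lib.Helper24.irr_apply_one ψ] at h
    exact_mod_cast h

/-- the norm form of EVAL for one block -/
theorem norm_eval (P : Subgroup G) (hP : Nat.card P = p)
    (η₁ η₂ : IrrCharacter G) (v₁ v₂ : ℤ) (Y : Set (IrrCharacter G)) (ε : ℤ)
    (d : TwoBlock p P η₁ η₂ v₁ v₂ Y ε) (ψ0 : IrrCharacter G)
    (h1 : η₁ ∈ cset ψ0) (h2 : η₂ ∈ cset ψ0) (hY : Y ⊆ cset ψ0)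
    (x : G) (hx : x ∈ P) (hx1 : x ≠ 1)
    (hrest : ∀ χ ∈ cset ψ0, χ ≠ η₁ → χ ≠ η₂ → χ ∉ Y → (χ : G → ℂ) x = 0)
    (w : G) (hw : ¬ p ∣ orderOf w) (ψ : IrrCharacter G) (hψ : ψ ∈ Y) :
    ‖Tc (cset ψ0) w w x‖ * ((charDegree (η₁ : G → ℂ) : ℝ) * (charDegree (η₂ : G → ℂ) : ℝ) *
        (charDegree (ψ : G → ℂ) : ℝ)) =
      ‖(η₁ : G → ℂ) w * (charDegree (η₂ : G → ℂ) : ℂ) -
        (η₂ : G → ℂ) w * (charDegree (η₁ : G → ℂ) : ℂ)‖ ^ 2 := by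
  have h := Cfsg.Agent.Lib.Helper1.BSEVAL.tc_eval P hP η₁ η₂ v₁ v₂ Y ε d ψ0 h1 h2 hY x hx hx1 hrest w hw ψ hψ
  rw [Cfsg.Agent.Lib.Helper24.irr_apply_one η₁, Cfsg.Agent.Lib.Helper24.irr_apply_one η₂, Cfsg.Agent.Lib.Helper24.irr_apply_one ψ] at h
  have h3 := congrArg norm h
  rw [norm_mul, norm_mul, norm_mul, norm_mul, Complex.norm_natCast, Complex.norm_natCast,
    Complex.norm_natCast, norm_pow] at h3
  have hsgn : ‖((v₁ * v₂ * ε : ℤ) : ℂ)‖ = 1 := by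
    push_cast
    rw [norm_mul, norm_mul, norm_intCast_of_sgn v₁ d.sgn1, norm_intCast_of_sgn v₂ d.sgn2,
      norm_intCast_of_sgn ε d.sgn]
    norm_num
  rw [hsgn, one_mul] at h3
  exact h3

theorem charDegree_trivIrr' : charDegree ((trivIrr G : IrrCharacter G) : G → ℂ) = 1 := by
  have h := Cfsg.Agent.Lib.Helper24.irr_apply_one (trivIrr G)
  have h1 : ((trivIrr G : IrrCharacter G) : G → ℂ) 1 = 1 := rfl
  rw [h1] at h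
  exact_mod_cast h.symm

/-- (K3)+(K4) : `χb` is linear. -/
theorem k34 (hp7 : 7 ≤ p) (P : Subgroup G) (hP : Nat.card P = p) (hSyl : ¬ p ∣ P.index)
    (hnn : ¬ P.Normal) (hV : ∀ y ∈ Cz P, ¬ p ∣ orderOf y → y ∈ Subgroup.center G)
    (χb χa : IrrCharacter G) (Y : Set (IrrCharacter G)) (dζ : TwoBlock p P χb χa 1 (-1) Y (-1))
    (ζ : IrrCharacter G) (hζY : ζ ∈ Y) (hdeg : charDegree (ζ : G → ℂ) = p - 2)
    (hfaith : ∀ g : G, (ζ : G → ℂ) g = (ζ : G → ℂ) 1 → g = 1)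
    (χ₁ : IrrCharacter G) (v : ℤ) (Y0 : Set (IrrCharacter G)) (ε0 : ℤ)
    (d0 : TwoBlock p P (trivIrr G) χ₁ 1 v Y0 ε0)
    (w : G) (hwinv : ∀ x ∈ P, w * x * w⁻¹ = x⁻¹) (hw2 : w * w ∈ Subgroup.center G)
    (hwreg : ¬ p ∣ orderOf w) (hNC : ∀ n ∈ Nz P, n ∈ Cz P ∨ w⁻¹ * n ∈ Cz P) :
    (χb : G → ℂ) 1 = 1 := by
  have hpp : p.Prime := Fact.out
  have hp2 : p ≠ 2 := by omega
  have hZreg := Cfsg.Agent.Lib.Helper15.BRVIZREG.center_regular P hP hSyl hnn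
  -- an element of `P \ 1`
  have hnt : Nontrivial P := Finite.one_lt_card_iff_nontrivial.mp (by rw [hP]; omega)
  obtain ⟨⟨x, hx⟩, hxne⟩ := exists_ne (1 : P)
  have hx1 : x ≠ 1 := fun h => hxne (Subtype.ext h)
  -- the numbers of the two blocks
  obtain ⟨kb, ka, kζ, hkb, hka, hkζ, hnb, hna, hnζ, hnζ1⟩ :=
    block_numbers hp2 P hP χb χa 1 (-1) Y (-1) dζ w hwinv ζ hζY
  obtain ⟨ψ0, hψ0⟩ := d0.neY
  obtain ⟨kt, k₁, kY, hkt, hk1, hkY, hnt', hn1, hnY, -⟩ :=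
    block_numbers hp2 P hP (trivIrr G) χ₁ 1 v Y0 ε0 d0 w hwinv ψ0 hψ0
  have hp0 : (p : ℤ) ≠ 0 := by
    have := hpp.pos
    exact_mod_cast this.ne'
  have hcastp2 : ((p - 2 : ℕ) : ℤ) = (p : ℤ) - 2 := by
    have : 2 ≤ p := by omega
    push_cast [Nat.cast_sub this]
    ring
  have hkζ1 : kζ = 1 := by
    rw [hdeg, hcastp2] at hkζ
    have h : (p : ℤ) * 1 = (p : ℤ) * (kζ : ℤ) := by linarith
    have := mul_left_cancel₀ hp0 h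
    exact_mod_cast this.symm
  have hζw1 : ‖(ζ : G → ℂ) w‖ = 1 := hnζ1 hkζ1
  have hζw : (ζ : G → ℂ) w ≠ 0 := by
    intro h
    rw [h, norm_zero] at hζw1
    exact zero_ne_one hζw1
  -- COUNT + TCEQ
  have hcount := Cfsg.Agent.Lib.Helper17.BSCOUNT.count_pairs hp2 P hP hSyl hnn hV w hwinv hw2 hNC ζ
    hfaith hζw
  have hcnt : ∀ a b z : G, z ∈ Subgroup.center G → a * w * a⁻¹ * (b * w * b⁻¹) = x * z →
      z = w * w := fun a b z hz h => hcount a b z hz x hx hx1 h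
  have hT1 := Cfsg.Agent.Lib.Helper23.BSTCEQ.tc_norm_eq w x (w * w) hw2 hcnt ζ
  have hT2 := Cfsg.Agent.Lib.Helper23.BSTCEQ.tc_norm_eq w x (w * w) hw2 hcnt ψ0
  -- CSET, REST, EVAL
  obtain ⟨hcb, hca, hcY⟩ :=
    Cfsg.Agent.Lib.Helper1.BSCSET.cset_of_twoBlock hZreg P χb χa 1 (-1) Y (-1) dζ ζ hζY
  obtain ⟨hct, hc1, hcY0⟩ :=
    Cfsg.Agent.Lib.Helper1.BSCSET.cset_of_twoBlock hZreg P (trivIrr G) χ₁ 1 v Y0 ε0 d0 ψ0 hψ0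
  have hrestζ := Cfsg.Agent.Lib.Helper23.BSREST.rest_vanish P hP hSyl hnn hV χb χa 1 (-1) Y (-1) dζ ζ
    hcb hca hcY
  have hrest0 := Cfsg.Agent.Lib.Helper23.BSREST.rest_vanish P hP hSyl hnn hV (trivIrr G) χ₁ 1 v Y0 ε0
    d0 ψ0 hct hc1 hcY0
  have hEζ := norm_eval P hP χb χa 1 (-1) Y (-1) dζ ζ hcb hca hcY x hx hx1
    (fun χ h1 h2 h3 h4 => hrestζ χ h1 h2 h3 h4 x hx hx1) w hwreg ζ hζY
  have hE0 := norm_eval P hP (trivIrr G) χ₁ 1 v Y0 ε0 d0 ψ0 hct hc1 hcY0 x hx hx1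
    (fun χ h1 h2 h3 h4 => hrest0 χ h1 h2 h3 h4 x hx hx1) w hwreg ψ0 hψ0
  rw [hT1] at hEζ
  rw [hT2] at hE0
  set T : ℝ := ‖Tc (cset (trivIrr G)) w w x‖ with hTdef
  -- the relations at `1` and at `w`
  have h1reg : ¬ p ∣ orderOf (1 : G) := by
    rw [orderOf_one]
    exact hpp.one_lt.ne' ∘ Nat.dvd_one.mp
  have hrζ1 := dζ.relY ζ hζY 1 h1reg
  have hrζw := dζ.relY ζ hζY w hwreg
  have hr01 := d0.relY ψ0 hψ0 1 h1reg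
  have hr0w := d0.relY ψ0 hψ0 w hwreg
  have htriv : ∀ g : G, ((trivIrr G : IrrCharacter G) : G → ℂ) g = 1 := fun _ => rfl
  rw [Cfsg.Agent.Lib.Helper24.irr_apply_one ζ, Cfsg.Agent.Lib.Helper24.irr_apply_one χb, Cfsg.Agent.Lib.Helper24.irr_apply_one χa] at hrζ1
  rw [Cfsg.Agent.Lib.Helper24.irr_apply_one ψ0, htriv, Cfsg.Agent.Lib.Helper24.irr_apply_one χ₁] at hr01
  rw [htriv] at hr0w
  set b1 : ℕ := charDegree (χb : G → ℂ) with hb1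
  set a1 : ℕ := charDegree (χa : G → ℂ) with ha1
  set h : ℕ := charDegree (χ₁ : G → ℂ) with hh
  set dd : ℕ := charDegree (ψ0 : G → ℂ) with hdd
  have hb1pos : 0 < b1 := Cfsg.Agent.Lib.Helper24.irr_charDegree_pos χb
  have ha1pos : 0 < a1 := Cfsg.Agent.Lib.Helper24.irr_charDegree_pos χa
  have hhpos : 0 < h := Cfsg.Agent.Lib.Helper24.irr_charDegree_pos χ₁
  have hddpos : 0 < dd := Cfsg.Agent.Lib.Helper24.irr_charDegree_pos ψ0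
  rw [hdeg] at hrζ1 hEζ
  -- a1 = b1 + (p - 2)
  have ha1eq : a1 = b1 + (p - 2) := by
    have hz : -((p - 2 : ℕ) : ℤ) = (b1 : ℤ) - (a1 : ℤ) := by
      have : (((-1 : ℤ) : ℂ)) * ((p - 2 : ℕ) : ℂ) = (((1 : ℤ)) : ℂ) * (b1 : ℂ) + ((-1 : ℤ) : ℂ) * (a1 : ℂ) :=
        hrζ1
      have h2 : ((-((p - 2 : ℕ) : ℤ) : ℤ) : ℂ) = (((b1 : ℤ) - (a1 : ℤ) : ℤ) : ℂ) := by
        push_cast
        push_cast at this
        linear_combination this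
      exact_mod_cast h2
    omega
  -- ε0 d = 1 + v h
  have hdegrel : ε0 * (dd : ℤ) = 1 + v * (h : ℤ) := by
    have h2 : ((ε0 * (dd : ℤ) : ℤ) : ℂ) = ((1 + v * (h : ℤ) : ℤ) : ℂ) := by
      push_cast
      push_cast at hr01
      linear_combination hr01
    exact_mod_cast h2
  by_contra hne
  have hb2 : 2 ≤ b1 := by
    rcases Nat.lt_or_ge b1 2 with hlt | hge
    · exfalso
      apply hne
      have : b1 = 1 := by omega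
      rw [Cfsg.Agent.Lib.Helper24.irr_apply_one χb, ← hb1, this]
      simp
    · exact hge
  -- INEQL
  have hbnat : b1 + (p - 1) = p * kb := by
    have h2 : ((b1 + (p - 1) : ℕ) : ℤ) = ((p * kb : ℕ) : ℤ) := by
      push_cast [Nat.cast_sub hpp.one_le]
      linarith
    exact_mod_cast h2
  have hAB : ‖(χa : G → ℂ) w - (χb : G → ℂ) w‖ ≤ 1 := by
    have : (χa : G → ℂ) w - (χb : G → ℂ) w = (ζ : G → ℂ) w := by
      push_cast at hrζw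
      linear_combination hrζw
    rw [this, hζw1]
  have hL := Cfsg.Agent.Lib.Helper7.BSINEQL.ineq_left p hp7 b1 a1 kb hb2 hbnat ha1eq
    ((χa : G → ℂ) w) ((χb : G → ℂ) w) hnb hAB
  -- INEQR
  have hψn : ‖1 + (v : ℂ) * (χ₁ : G → ℂ) w‖ ≤ (kY : ℝ) := by
    have : 1 + (v : ℂ) * (χ₁ : G → ℂ) w = (ε0 : ℂ) * (ψ0 : G → ℂ) w := by
      push_cast at hr0w
      linear_combination (-1 : ℂ) * hr0w
    rw [this, norm_mul, norm_intCast_of_sgn ε0 d0.sgn, one_mul]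
    exact hnY
  have hR := Cfsg.Agent.Lib.Helper7.BSINEQR.ineq_right p hp7 h dd k₁ kY v ε0 d0.sgn2 d0.sgn hhpos hddpos
    hdegrel hk1 hkY ((χ₁ : G → ℂ) w) hn1 hψn
  -- compare
  rw [charDegree_trivIrr', htriv] at hE0
  have hcastp2r : ((p - 2 : ℕ) : ℝ) = (p : ℝ) - 2 := by
    have : 2 ≤ p := by omega
    push_cast [Nat.cast_sub this]
    ring
  rw [hcastp2r] at hEζ
  have hp7r : (7 : ℝ) ≤ (p : ℝ) := by exact_mod_cast hp7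
  have hpos1 : 0 < (a1 : ℝ) * (b1 : ℝ) * ((p : ℝ) - 2) := by
    have h1 : (0 : ℝ) < (a1 : ℝ) := by exact_mod_cast ha1pos
    have h2 : (0 : ℝ) < (b1 : ℝ) := by exact_mod_cast hb1pos
    have h3 : (0 : ℝ) < (p : ℝ) - 2 := by linarith
    positivity
  have hpos2 : 0 < (h : ℝ) * (dd : ℝ) := by
    have h1 : (0 : ℝ) < (h : ℝ) := by exact_mod_cast hhpos
    have h2 : (0 : ℝ) < (dd : ℝ) := by exact_mod_cast hddpos
    positivity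
  have hle : T * (p : ℝ) ^ 2 ≤ ((p : ℝ) - 1) ^ 2 := by
    have h3 : (T * (p : ℝ) ^ 2) * ((a1 : ℝ) * (b1 : ℝ) * ((p : ℝ) - 2)) ≤
        ((p : ℝ) - 1) ^ 2 * ((a1 : ℝ) * (b1 : ℝ) * ((p : ℝ) - 2)) := by
      calc (T * (p : ℝ) ^ 2) * ((a1 : ℝ) * (b1 : ℝ) * ((p : ℝ) - 2))
          = (T * ((b1 : ℝ) * (a1 : ℝ) * ((p : ℝ) - 2))) * (p : ℝ) ^ 2 := by ring
        _ = ‖(χb : G → ℂ) w * (a1 : ℂ) - (χa : G → ℂ) w * (b1 : ℂ)‖ ^ 2 * (p : ℝ) ^ 2 := by rw [hEζ]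
        _ ≤ ((p : ℝ) - 1) ^ 2 * ((a1 : ℝ) * (b1 : ℝ) * ((p : ℝ) - 2)) := hL
    exact le_of_mul_le_mul_right h3 hpos1
  have hlt : ((p : ℝ) - 1) ^ 2 < T * (p : ℝ) ^ 2 := by
    have h3 : ((p : ℝ) - 1) ^ 2 * ((h : ℝ) * (dd : ℝ)) < (T * (p : ℝ) ^ 2) * ((h : ℝ) * (dd : ℝ)) := by
      calc ((p : ℝ) - 1) ^ 2 * ((h : ℝ) * (dd : ℝ))
          < ‖(h : ℂ) - (χ₁ : G → ℂ) w‖ ^ 2 * (p : ℝ) ^ 2 := hR
        _ = (T * (((1 : ℕ) : ℝ) * (h : ℝ) * (dd : ℝ))) * (p : ℝ) ^ 2 := by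
            rw [hE0]
            congr 2
            push_cast
            ring_nf
        _ = (T * (p : ℝ) ^ 2) * ((h : ℝ) * (dd : ℝ)) := by push_cast; ring
    exact lt_of_mul_lt_mul_right h3 hpos2.le
  linarith

end Cfsg.Agent.Lib.Helper23.BSK34
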