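import Mathlib
import Cfsg.Agent.Lib.Helper5.UOGDefs
import Cfsg.Agent.Lib.Helper5.UOGBase

/-!
S5681 / S5709 part (G) growth (helper5's market, `notes/S5681_G_leaves.lean`): the four F4-propagation leaves
`P2_of_P1'` (S2), `P1_of_P2` (S3), `mixed` (C2), `A0_star` (C4) in `_core` form: the geometric inputs
(block T `span_opp`, `exists_nonsing_perp_two`, a nonsingular vector orthogonal to a singular one, `P1plus`)
are hypotheses.  `P1'`, `P1`, `P2`, `Sg` of the notes file are written out (they are `def`s of the notes file only).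
-/

set_option autoImplicit false
set_option linter.unusedSectionVars false
set_option linter.unusedVariables false

namespace Cfsg.Agent.Lib.Helper23.UOGLeaf
open Matrix QuadraticMap Module
open Cfsg.Agent.Lib.Helper25.Tens Cfsg.Agent.Lib.Helper2.SOT Cfsg.Agent.Lib.Helper7.OTT
  Cfsg.Agent.Lib.Helper25.CD Cfsg.Agent.Lib.Helper5.NSMax Cfsg.Agent.Lib.Helper5.PairMax
  Cfsg.Agent.Lib.Helper5.TSMax Cfsg.Agent.Lib.Helper5.NDMax Cfsg.Agent.Lib.Helper5.UOG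
  Cfsg.Agent.Lib.Helper5.UOGLeaf
open scoped Kronecker

section calculus
variable {ι : Type} [Fintype ι] [DecidableEq ι] {F : Type*} [Field F] [Fintype F]
  {Q : QuadraticForm F (ι → F)} {M' : Subgroup ↥(Cfsg.isometryGroup F ⇑Q)}

/-- `0 ∈ A(u)` -/
theorem ina_zero (u : ι → F) : InA Q M' u 0 := by
  intro c
  refine ⟨1, M'.one_mem, fun x => ?_⟩
  rw [map_one]
  unfold egen
  simp

/-- symmetry of `InA` for singular orthogonal pairs -/
theorem ina_symm {u v : ι → F} (hu : Q u = 0) (hv : Q v = 0) (huv : polar Q u v = 0)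
    (h : InA Q M' u v) : InA Q M' v u := by
  intro c
  obtain ⟨g, hg, hgx⟩ := h (-c)
  refine ⟨g, hg, fun x => ?_⟩
  rw [hgx]
  unfold egen
  simp only [polar_smul_left, QuadraticMap.map_smul, hu, hv, smul_eq_mul, mul_zero, zero_mul,
    zero_smul, sub_zero]
  module

end calculus

section model
variable {F : Type*} [Field F] [Fintype F] {a b : ℕ} {G₁ : Matrix (Fin a) (Fin a) F}
  {G₂ : Matrix (Fin b) (Fin b) F} {M : Subgroup (GL (Idx a b) F)}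

/-- the subspace `{x'' : x'' ⊗ y ∈ A(u)}` for `u ⊥ A ⊗ y` -/
theorem exists_subA (h : GCtx G₁ G₂ M) (u : Idx a b → F) (y : Fin b → F)
    (hu : QV G₁ G₂ u = 0) (hperp : ∀ x'' : Fin a → F, polar (QV G₁ G₂) u (pt x'' y) = 0) :
    ∃ X : Submodule F (Fin a → F), ∀ x'', x'' ∈ X ↔ IA (QV G₁ G₂) M u (pt x'' y) := by
  refine ⟨{ carrier := {x'' | IA (QV G₁ G₂) M u (pt x'' y)}
            zero_mem' := ?_
            add_mem' := ?_
            smul_mem' := ?_ }, fun x'' => Iff.rfl⟩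
  · intro p q hp hq
    show IA (QV G₁ G₂) M u (pt (p + q) y)
    rw [pt_add_left]
    exact InA.add hu (hperp p) (hperp q) hp hq
  · show IA (QV G₁ G₂) M u (pt 0 y)
    rw [pt_zero_left]
    exact ina_zero _
  · intro c p hp
    show IA (QV G₁ G₂) M u (pt (c • p) y)
    rw [pt_smul_left]
    exact InA.smul hp c

/-- the subspace `{z : x ⊗ z ∈ A(u)}` for `u ⊥ x ⊗ B` -/
theorem exists_subB (h : GCtx G₁ G₂ M) (u : Idx a b → F) (x : Fin a → F)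
    (hu : QV G₁ G₂ u = 0) (hperp : ∀ z : Fin b → F, polar (QV G₁ G₂) u (pt x z) = 0) :
    ∃ Z : Submodule F (Fin b → F), ∀ z, z ∈ Z ↔ IA (QV G₁ G₂) M u (pt x z) := by
  refine ⟨{ carrier := {z | IA (QV G₁ G₂) M u (pt x z)}
            zero_mem' := ?_
            add_mem' := ?_
            smul_mem' := ?_ }, fun z => Iff.rfl⟩
  · intro p q hp hq
    show IA (QV G₁ G₂) M u (pt x (p + q))
    rw [pt_add_right]
    exact InA.add hu (hperp p) (hperp q) hp hq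
  · show IA (QV G₁ G₂) M u (pt x 0)
    rw [pt_zero_right]
    exact ina_zero _
  · intro c p hp
    show IA (QV G₁ G₂) M u (pt x (c • p))
    rw [pt_smul_right]
    exact InA.smul hp c

/-- (S2) core -/
theorem P2_of_P1'_core (h : GCtx G₁ G₂ M)
    (hspan : ∀ x : Fin a → F, x ≠ 0 → QG G₁ x = 0 →
      Submodule.span F {x' : Fin a → F | QG G₁ x' = 0 ∧ polar (QG G₁) x x' ≠ 0} = ⊤)
    (hns : ∀ y y' : Fin b → F, ∃ d, polar (QG G₂) y d = 0 ∧ polar (QG G₂) y' d = 0 ∧ QG G₂ d ≠ 0)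
    (hall : ∀ x y, (x ≠ 0 ∧ fB G₁ x x = 0) → (y ≠ 0 ∧ fB G₂ y y = 0) →
      ∀ z : Fin b → F, fB G₂ y z = 0 → IA (QV G₁ G₂) M (pt x y) (pt x z)) :
    ∀ x y, (x ≠ 0 ∧ fB G₁ x x = 0) → (y ≠ 0 ∧ fB G₂ y y = 0) →
      ∀ x' : Fin a → F, IA (QV G₁ G₂) M (pt x y) (pt x' y) := by
  intro x y hx hy
  have h2 := h.two
  have hQu : ∀ x'' : Fin a → F, QV G₁ G₂ (pt x'' y) = 0 := fun x'' => by
    rw [QV_pt, hy.2, mul_zero, mul_zero]
  have hpol := fun x x' y y' => pol (G₁ := G₁) (G₂ := G₂) h.symA h.symB h2 x x' y y'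
  obtain ⟨X, hX⟩ := exists_subA h (pt x y) y (hQu x) (fun x'' => by rw [hpol, hy.2, mul_zero])
  have hXtop : X = ⊤ := by
    rw [eq_top_iff, ← hspan x hx.1 (by rw [QG_eq_fB, hx.2, mul_zero]), Submodule.span_le]
    rintro x' ⟨hx'Q, hx'p⟩
    have hx'f : fB G₁ x' x' = 0 := by
      rw [QG_eq_fB] at hx'Q
      exact (mul_eq_zero.mp hx'Q).resolve_left (inv_ne_zero h2)
    have hxx' : fB G₁ x x' ≠ 0 := by rwa [polar_QG_fB h.symA h2] at hx'p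
    have hx'0 : x' ≠ 0 := by
      rintro rfl
      apply hxx'
      simp [fB]
    obtain ⟨d, hd1, -, hdQ⟩ := hns y y
    have hyd : fB G₂ y d = 0 := by rwa [polar_QG_fB h.symB h2] at hd1
    have hdd : fB G₂ d d ≠ 0 := by
      rw [QG_eq_fB] at hdQ
      exact right_ne_zero_of_mul hdQ
    have hdy : fB G₂ d y = 0 := by rw [fB_comm G₂ h.symB]; exact hyd
    rw [SetLike.mem_coe, hX]
    exact Cfsg.Agent.Lib.Helper1.C3OLeaf.inA_comm (hQu x) (hQu x') (by rw [hpol, hy.2, mul_zero])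
      (hall x y hx hy d hyd) (hall x' y ⟨hx'0, hx'f⟩ hy d hyd)
      (by rw [hpol, hx.2, zero_mul]) (by rw [hpol, hx'f, zero_mul]) (by rw [hpol, hdy, mul_zero])
      (by rw [hpol, hdy, mul_zero]) (by rw [hpol]; exact mul_ne_zero hxx' hdd)
  intro x'
  rw [← hX, hXtop]
  trivial

/-- (S3) core -/
theorem P1_of_P2_core (h : GCtx G₁ G₂ M)
    (hspan : ∀ y : Fin b → F, y ≠ 0 → QG G₂ y = 0 →
      Submodule.span F {y' : Fin b → F | QG G₂ y' = 0 ∧ polar (QG G₂) y y' ≠ 0} = ⊤)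
    (hns : ∀ x : Fin a → F, x ≠ 0 → fB G₁ x x = 0 → ∃ a₀, fB G₁ x a₀ = 0 ∧ fB G₁ a₀ a₀ ≠ 0)
    (hall : ∀ x y, (x ≠ 0 ∧ fB G₁ x x = 0) → (y ≠ 0 ∧ fB G₂ y y = 0) →
      ∀ x' : Fin a → F, IA (QV G₁ G₂) M (pt x y) (pt x' y)) :
    ∀ x y, (x ≠ 0 ∧ fB G₁ x x = 0) → (y ≠ 0 ∧ fB G₂ y y = 0) →
      ∀ z : Fin b → F, IA (QV G₁ G₂) M (pt x y) (pt x z) := by
  intro x y hx hy
  have h2 := h.two
  have hQu : ∀ z : Fin b → F, QV G₁ G₂ (pt x z) = 0 := fun z => by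
    rw [QV_pt, hx.2, zero_mul, mul_zero]
  have hpol := fun x x' y y' => pol (G₁ := G₁) (G₂ := G₂) h.symA h.symB h2 x x' y y'
  obtain ⟨Z, hZ⟩ := exists_subB h (pt x y) x (hQu y) (fun z => by rw [hpol, hx.2, zero_mul])
  have hZtop : Z = ⊤ := by
    rw [eq_top_iff, ← hspan y hy.1 (by rw [QG_eq_fB, hy.2, mul_zero]), Submodule.span_le]
    rintro y₁ ⟨hy₁Q, hy₁p⟩
    have hy₁f : fB G₂ y₁ y₁ = 0 := by
      rw [QG_eq_fB] at hy₁Q
      exact (mul_eq_zero.mp hy₁Q).resolve_left (inv_ne_zero h2)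
    have hyy₁ : fB G₂ y y₁ ≠ 0 := by rwa [polar_QG_fB h.symB h2] at hy₁p
    have hy₁0 : y₁ ≠ 0 := by
      rintro rfl
      apply hyy₁
      simp [fB]
    obtain ⟨a₀, hxa, haa⟩ := hns x hx.1 hx.2
    have hax : fB G₁ a₀ x = 0 := by rw [fB_comm G₁ h.symA]; exact hxa
    rw [SetLike.mem_coe, hZ]
    exact Cfsg.Agent.Lib.Helper1.C3OLeaf.inA_comm (hQu y) (hQu y₁) (by rw [hpol, hx.2, zero_mul])
      (hall x y hx hy a₀) (hall x y₁ hx ⟨hy₁0, hy₁f⟩ a₀)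
      (by rw [hpol, hy.2, mul_zero]) (by rw [hpol, hy₁f, mul_zero]) (by rw [hpol, hax, zero_mul])
      (by rw [hpol, hax, zero_mul]) (by rw [hpol]; exact mul_ne_zero haa hyy₁)
  intro z
  rw [← hZ, hZtop]
  trivial

/-- (C2) core -/
theorem mixed_core (h : GCtx G₁ G₂ M)
    (hns : ∀ y y' : Fin b → F, ∃ d, polar (QG G₂) y d = 0 ∧ polar (QG G₂) y' d = 0 ∧ QG G₂ d ≠ 0)
    (h1 : ∀ x y, (x ≠ 0 ∧ fB G₁ x x = 0) → (y ≠ 0 ∧ fB G₂ y y = 0) →
      ∀ z : Fin b → F, IA (QV G₁ G₂) M (pt x y) (pt x z))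
    (h1p : ∀ (x : Fin a → F) (y d : Fin b → F), (x ≠ 0 ∧ fB G₁ x x = 0) → y ≠ 0 →
      IA (QV G₁ G₂) M (pt x y) (pt x d)) :
    ∀ (x x' : Fin a → F) (y y' : Fin b → F), (x ≠ 0 ∧ fB G₁ x x = 0) → (y ≠ 0 ∧ fB G₂ y y = 0) →
      (x' ≠ 0 ∧ fB G₁ x' x' = 0) → fB G₁ x x' ≠ 0 →
      fB G₂ y y' = 0 → IA (QV G₁ G₂) M (pt x y) (pt x' y') := by
  intro x x' y y' hx hy hx' hxx' hyy'
  have h2 := h.two
  have hpol := fun x x' y y' => pol (G₁ := G₁) (G₂ := G₂) h.symA h.symB h2 x x' y y'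
  by_cases hy'0 : y' = 0
  · rw [hy'0, pt_zero_right]
    exact ina_zero _
  obtain ⟨d, hd1, hd2, hdQ⟩ := hns y y'
  have hyd : fB G₂ y d = 0 := by rwa [polar_QG_fB h.symB h2] at hd1
  have hy'd : fB G₂ y' d = 0 := by rwa [polar_QG_fB h.symB h2] at hd2
  have hdd : fB G₂ d d ≠ 0 := by
    rw [QG_eq_fB] at hdQ
    exact right_ne_zero_of_mul hdQ
  have hdy : fB G₂ d y = 0 := by rw [fB_comm G₂ h.symB]; exact hyd
  have hdy' : fB G₂ d y' = 0 := by rw [fB_comm G₂ h.symB]; exact hy'd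
  exact Cfsg.Agent.Lib.Helper1.C3OLeaf.inA_comm
    (by rw [QV_pt, hx.2, zero_mul, mul_zero]) (by rw [QV_pt, hx'.2, zero_mul, mul_zero])
    (by rw [hpol, hyy', mul_zero])
    (h1 x y hx hy d) (h1p x' y' d hx' hy'0)
    (by rw [hpol, hx.2, zero_mul]) (by rw [hpol, hx'.2, zero_mul]) (by rw [hpol, hdy', mul_zero])
    (by rw [hpol, hdy, mul_zero]) (by rw [hpol]; exact mul_ne_zero hxx' hdd)

/-- (C4) `a₀ ⊗ ys ∈ A(x ⊗ y)` for `a₀ ⊥ x, xs` -/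
theorem A0_star_core (h : GCtx G₁ G₂ M)
    (h2 : ∀ x y, (x ≠ 0 ∧ fB G₁ x x = 0) → (y ≠ 0 ∧ fB G₂ y y = 0) →
      ∀ x' : Fin a → F, IA (QV G₁ G₂) M (pt x y) (pt x' y)) :
    ∀ (x xs a₀ : Fin a → F) (y ys : Fin b → F), (x ≠ 0 ∧ fB G₁ x x = 0) →
      (y ≠ 0 ∧ fB G₂ y y = 0) → (xs ≠ 0 ∧ fB G₁ xs xs = 0) → (ys ≠ 0 ∧ fB G₂ ys ys = 0) →
      fB G₁ x xs = 1 → fB G₂ y ys = 1 → fB G₁ x a₀ = 0 → fB G₁ xs a₀ = 0 →
      IA (QV G₁ G₂) M (pt x y) (pt a₀ ys) := by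
  intro x xs a₀ y ys hx hy hxs hys hxxs hyys hxa hxsa
  have h2' := h.two
  have hpol := fun x x' y y' => pol (G₁ := G₁) (G₂ := G₂) h.symA h.symB h2' x x' y y'
  have hax : fB G₁ a₀ x = 0 := by rw [fB_comm G₁ h.symA]; exact hxa
  have hxsx : fB G₁ xs x = 1 := by rw [fB_comm G₁ h.symA]; exact hxxs
  have hw' : IA (QV G₁ G₂) M (pt a₀ ys) (pt x ys) :=
    ina_symm (by rw [QV_pt, hys.2, mul_zero, mul_zero]) (by rw [QV_pt, hys.2, mul_zero, mul_zero])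
      (by rw [hpol, hys.2, mul_zero]) (h2 x ys hx hys a₀)
  exact Cfsg.Agent.Lib.Helper1.C3OLeaf.inA_comm
    (by rw [QV_pt, hx.2, zero_mul, mul_zero]) (by rw [QV_pt, hys.2, mul_zero, mul_zero])
    (by rw [hpol, hxa, zero_mul])
    (h2 x y hx hy xs) hw'
    (by rw [hpol, hy.2, mul_zero]) (by rw [hpol, hys.2, mul_zero]) (by rw [hpol, hxsa, zero_mul])
    (by rw [hpol, hx.2, zero_mul]) (by rw [hpol, hxsx, hyys, one_mul]; exact one_ne_zero)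

end model

end Cfsg.Agent.Lib.Helper23.UOGLeaf
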