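import Mathlib
import Cfsg.Agent.Lib.Helper5.UOGDefs
import Cfsg.Agent.Lib.Helper5.UOGDefs3
import Cfsg.Agent.Lib.Helper5.UOGBase
import Cfsg.Agent.Lib.Helper5.UOGEnd
import Cfsg.Agent.Lib.Helper10.UOGT
import Cfsg.Agent.Lib.Helper23.UOGF4

/-!
S5681 / S5709 part (G) growth (helper5's market, `notes/S5681_G_leaves.lean`): the four F4-propagation leaves
`P2_of_P1'` (S2), `P1_of_P2` (S3), `mixed` (C2), `A0_star` (C4), EXACT signatures (on helper5's `UOGDefs3` predicates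
`P1'`, `P1`, `P2`, `Sg`), from the `_core` forms of `UOGF4` + helper10's block T + helper5's `UOGEnd`.
-/

set_option autoImplicit false
set_option linter.unusedSectionVars false
set_option linter.unusedVariables false

namespace Cfsg.Agent.Lib.Helper23.UOGLeaf
open Matrix QuadraticMap Module
open Cfsg.Agent.Lib.Helper25.Tens Cfsg.Agent.Lib.Helper2.SOT Cfsg.Agent.Lib.Helper7.OTT
  Cfsg.Agent.Lib.Helper25.CD Cfsg.Agent.Lib.Helper5.NSMax Cfsg.Agent.Lib.Helper5.PairMax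
  Cfsg.Agent.Lib.Helper5.TSMax Cfsg.Agent.Lib.Helper5.NDMax Cfsg.Agent.Lib.Helper5.UOG
  Cfsg.Agent.Lib.Helper5.UOGLeaf
open scoped Kronecker

section model
variable {F : Type*} [Field F] [Fintype F] {a b : ℕ} {G₁ : Matrix (Fin a) (Fin a) F}
  {G₂ : Matrix (Fin b) (Fin b) F} {M : Subgroup (GL (Idx a b) F)}

/-- `span_opp` for the `A` side -/
theorem spanA (h : GCtx G₁ G₂ M) (x : Fin a → F) (hx0 : x ≠ 0) (hx : QG G₁ x = 0) :
    Submodule.span F {x' : Fin a → F | QG G₁ x' = 0 ∧ polar (QG G₁) x x' ≠ 0} = ⊤ :=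
  Cfsg.Agent.Lib.Helper10.UOGLeaf.span_opp (nd_QG h.symA h.detA h.two) h.two
    (by rw [Fintype.card_fin]; exact h.ha) hx0 hx

/-- `span_opp` for the `B` side -/
theorem spanB (h : GCtx G₁ G₂ M) (y : Fin b → F) (hy0 : y ≠ 0) (hy : QG G₂ y = 0) :
    Submodule.span F {y' : Fin b → F | QG G₂ y' = 0 ∧ polar (QG G₂) y y' ≠ 0} = ⊤ :=
  Cfsg.Agent.Lib.Helper10.UOGLeaf.span_opp (nd_QG h.symB h.detB h.two) h.two
    (by rw [Fintype.card_fin]; exact le_trans (by norm_num) h.hb) hy0 hy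

/-- `exists_nonsing_perp_two` for the `B` side -/
theorem nsB (h : GCtx G₁ G₂ M) (y y' : Fin b → F) :
    ∃ d, polar (QG G₂) y d = 0 ∧ polar (QG G₂) y' d = 0 ∧ QG G₂ d ≠ 0 :=
  Cfsg.Agent.Lib.Helper10.UOGLeaf.exists_nonsing_perp_two (nd_QG h.symB h.detB h.two) h.two
    (by rw [Fintype.card_fin]; exact h.hb) y y'

/-- a nonsingular vector orthogonal to a given nonzero singular vector of `A` -/
theorem nsA (h : GCtx G₁ G₂ M) (x : Fin a → F) (hx0 : x ≠ 0) (hx : fB G₁ x x = 0) :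
    ∃ a₀, fB G₁ x a₀ = 0 ∧ fB G₁ a₀ a₀ ≠ 0 := by
  obtain ⟨xs, hxs, hxxs⟩ := exists_partner h.symA h.detA h.two (x := x) ⟨hx0, hx⟩
  obtain ⟨d, hd1, -, hdQ⟩ := Cfsg.Agent.Lib.Helper10.UOGLeaf.exists_nonsing_perp_pair
    (nd_QG h.symA h.detA h.two) h.two (by rw [Fintype.card_fin]; exact h.ha)
    (QG_eq_zero_of hx) (QG_eq_zero_of hxs.2) (by rw [polar_QG_fB h.symA h.two]; exact hxxs)
  refine ⟨d, by rwa [polar_QG_fB h.symA h.two] at hd1, ?_⟩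
  rw [QG_eq_fB] at hdQ
  exact right_ne_zero_of_mul hdQ

/-- (C1) `P1` for an arbitrary second factor (own copy, used for `mixed`) -/
theorem p1plus_aux (h : GCtx G₁ G₂ M) (h1 : ∀ x y, Sg G₁ x → Sg G₂ y → P1 G₁ G₂ M x y) :
    ∀ (x : Fin a → F) (y d : Fin b → F), Sg G₁ x → y ≠ 0 →
      IA (QV G₁ G₂) M (pt x y) (pt x d) := by
  intro x y d hx hy0
  have h2 := h.two
  have hpol := fun x x' y y' => pol (G₁ := G₁) (G₂ := G₂) h.symA h.symB h2 x x' y y'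
  have hQu : ∀ z : Fin b → F, QV G₁ G₂ (pt x z) = 0 := fun z => by
    rw [QV_pt, hx.2, zero_mul, mul_zero]
  obtain ⟨Z, hZ⟩ := exists_subB h (pt x y) x (hQu y) (fun z => by rw [hpol, hx.2, zero_mul])
  have hZtop : Z = ⊤ := by
    have hsp := Cfsg.Agent.Lib.Helper25.OGeom.span_singular_eq_top (QG G₂)
      (nd_QG h.symB h.detB h.two)
      (by rw [Module.finrank_fintype_fun_eq_card, Fintype.card_fin]
          exact le_trans (by norm_num) h.hb)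
    rw [eq_top_iff, ← hsp, Submodule.span_le]
    intro y'' hy''
    have hy''Q : QG G₂ y'' = 0 := hy''
    rw [SetLike.mem_coe]
    by_cases hy''0 : y'' = 0
    · rw [hy''0]; exact Z.zero_mem
    rw [hZ]
    exact ina_symm (hQu y'') (hQu y) (by rw [hpol, hx.2, zero_mul])
      (h1 x y'' hx ⟨hy''0, fB_self_of_QG h2 hy''Q⟩ y)
  rw [← hZ, hZtop]
  trivial

/-- (S2) `P1'` everywhere ⟹ `P2` everywhere. -/
theorem P2_of_P1' (h : GCtx G₁ G₂ M)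
    (hall : ∀ x y, Sg G₁ x → Sg G₂ y → P1' G₁ G₂ M x y) :
    ∀ x y, Sg G₁ x → Sg G₂ y → P2 G₁ G₂ M x y :=
  P2_of_P1'_core h (spanA h) (nsB h) hall

/-- (S3) `P2` everywhere ⟹ `P1` everywhere. -/
theorem P1_of_P2 (h : GCtx G₁ G₂ M)
    (hall : ∀ x y, Sg G₁ x → Sg G₂ y → P2 G₁ G₂ M x y) :
    ∀ x y, Sg G₁ x → Sg G₂ y → P1 G₁ G₂ M x y :=
  P1_of_P2_core h (spanB h) (nsA h) hall

/-- (C2) mixed lines: `x' y' ∈ A(x y)` for `x'` singular opposite `x`, `y' ⊥ y` arbitrary. -/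
theorem mixed (h : GCtx G₁ G₂ M) (h1 : ∀ x y, Sg G₁ x → Sg G₂ y → P1 G₁ G₂ M x y) :
    ∀ (x x' : Fin a → F) (y y' : Fin b → F), Sg G₁ x → Sg G₂ y → Sg G₁ x' → fB G₁ x x' ≠ 0 →
      fB G₂ y y' = 0 → IA (QV G₁ G₂) M (pt x y) (pt x' y') :=
  mixed_core h (nsB h) h1 (p1plus_aux h h1)

/-- (C4) `a₀ ys ∈ A(x y)` for `a₀ ⊥ x, xs`. -/
theorem A0_star (h : GCtx G₁ G₂ M) (h2 : ∀ x y, Sg G₁ x → Sg G₂ y → P2 G₁ G₂ M x y) :
    ∀ (x xs a₀ : Fin a → F) (y ys : Fin b → F), Sg G₁ x → Sg G₂ y → Sg G₁ xs → Sg G₂ ys →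
      fB G₁ x xs = 1 → fB G₂ y ys = 1 → fB G₁ x a₀ = 0 → fB G₁ xs a₀ = 0 →
      IA (QV G₁ G₂) M (pt x y) (pt a₀ ys) :=
  A0_star_core h h2

end model

end Cfsg.Agent.Lib.Helper23.UOGLeaf
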