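/-
Helper23 library: the averaging endomorphism of an abelian subgroup `A` over `N_G(A)/A`,
and the decomposition `A = C_A(N) · [A, N]` when `|A|` is prime to `|N_G(A) : A|`.
-/
import Mathlib

set_option autoImplicit false

namespace Cfsg.Agent.Lib.Helper23

open scoped IsMulCommutative commutatorElement

section AbelianAvg

variable {G : Type*} [Group G] [Finite G] (A : Subgroup G)

/-- Fintype structure on `N_G(P)/P`. -/
noncomputable def abNQFintype :
    Fintype (↥(Subgroup.normalizer (A : Set G)) ⧸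
      A.subgroupOf (Subgroup.normalizer (A : Set G))) :=
  Fintype.ofFinite _

variable [hA : IsMulCommutative A]

/-- Elements of `P` act trivially on `P` (conjugation action of the normalizer). -/
theorem smul_eq_self_of_mem_ab (h : ↥(Subgroup.normalizer (A : Set G)))
    (hh : h ∈ A.subgroupOf (Subgroup.normalizer (A : Set G)))
    (y : A) : h • y = y := by
  apply Subtype.ext
  change (h : G) * (y : G) * (h : G)⁻¹ = y
  have hhP : (h : G) ∈ A := hh
  have := mul_comm (⟨h, hhP⟩ : A) y
  have h2 : (h : G) * (y : G) = (y : G) * (h : G) := congrArg Subtype.val this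
  rw [h2, mul_inv_cancel_right]

/-- The averaging endomorphism `y ↦ ∏_{t ∈ N/P} t y t⁻¹` of an abelian Sylow subgroup. -/
noncomputable def abAvg : A →* A :=
  letI := abNQFintype A
  { toFun := fun y => ∏ t : ↥(Subgroup.normalizer (A : Set G)) ⧸
        A.subgroupOf (Subgroup.normalizer (A : Set G)), (t.out • y)
    map_one' := by simp
    map_mul' := by
      intro a b
      simp only [smul_mul']
      exact Finset.prod_mul_distrib }

/-- Independence of the choice of coset representatives, twisted by a permutation of the cosets. -/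
theorem prod_reps_eq_abAvg
    (σ : Equiv.Perm (↥(Subgroup.normalizer (A : Set G)) ⧸
      A.subgroupOf (Subgroup.normalizer (A : Set G))))
    (r : (↥(Subgroup.normalizer (A : Set G)) ⧸
      A.subgroupOf (Subgroup.normalizer (A : Set G))) →
        ↥(Subgroup.normalizer (A : Set G)))
    (hr : ∀ t, ((r t : ↥(Subgroup.normalizer (A : Set G))) :
      ↥(Subgroup.normalizer (A : Set G)) ⧸
      A.subgroupOf (Subgroup.normalizer (A : Set G))) = σ t)
    (y : A) :
    letI := abNQFintype A
    ∏ t, (r t • y) = abAvg A y := by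
  letI := abNQFintype A
  have h1 : ∀ t, r t • y = (σ t).out • y := by
    intro t
    have hcoset : ((σ t).out)⁻¹ * r t ∈
        A.subgroupOf (Subgroup.normalizer (A : Set G)) := by
      rw [← QuotientGroup.eq, QuotientGroup.out_eq', hr t]
    have e : r t = (σ t).out * (((σ t).out)⁻¹ * r t) := by group
    rw [e, mul_smul, smul_eq_self_of_mem_ab A _ hcoset]
  rw [Finset.prod_congr rfl (fun t _ => h1 t)]
  exact Equiv.prod_comp σ (fun t => t.out • y)

/-- The average is fixed by the normalizer. -/
theorem smul_abAvg (n : ↥(Subgroup.normalizer (A : Set G)))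
    (y : A) : n • abAvg A y = abAvg A y := by
  letI := abNQFintype A
  have h0 : abAvg A y = ∏ t : ↥(Subgroup.normalizer (A : Set G)) ⧸
        A.subgroupOf (Subgroup.normalizer (A : Set G)), (t.out • y) := rfl
  conv_lhs => rw [h0, Finset.smul_prod']
  have := prod_reps_eq_abAvg A (MulAction.toPerm n) (fun t => n * t.out) (by
    intro t
    have : ((n * t.out : ↥(Subgroup.normalizer (A : Set G))) :
      ↥(Subgroup.normalizer (A : Set G)) ⧸
      A.subgroupOf (Subgroup.normalizer (A : Set G))) =
        n • ((t.out : ↥(Subgroup.normalizer (A : Set G))) :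
      ↥(Subgroup.normalizer (A : Set G)) ⧸
      A.subgroupOf (Subgroup.normalizer (A : Set G))) := rfl
    rw [this, QuotientGroup.out_eq']
    rfl) y
  rw [← this]
  apply Finset.prod_congr rfl
  intro t _
  rw [mul_smul]

/-- The average is invariant under the normalizer. -/
theorem abAvg_smul (n : ↥(Subgroup.normalizer (A : Set G)))
    (y : A) : abAvg A (n • y) = abAvg A y := by
  letI := abNQFintype A
  have h0 : abAvg A (n • y) = ∏ t : ↥(Subgroup.normalizer (A : Set G)) ⧸
        A.subgroupOf (Subgroup.normalizer (A : Set G)), (t.out • (n • y)) := rfl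
  rw [h0]
  have := prod_reps_eq_abAvg A
    (Equiv.mulRight ((n : ↥(Subgroup.normalizer (A : Set G))) :
      ↥(Subgroup.normalizer (A : Set G)) ⧸
      A.subgroupOf (Subgroup.normalizer (A : Set G))))
    (fun t => t.out * n) (by
    intro t
    rw [QuotientGroup.mk_mul, QuotientGroup.out_eq']
    rfl) y
  rw [← this]
  apply Finset.prod_congr rfl
  intro t _
  rw [mul_smul]

/-- The average of an element of `P ∩ Z(N_G(P))` is its `|N_G(P) : P|`-th power. -/
theorem abAvg_of_mem_centralizer (z : A)
    (hz : (z : G) ∈ Subgroup.centralizer ((Subgroup.normalizer (A : Set G) : Subgroup G) : Set G)) :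
    abAvg A z = z ^ A.relIndex (Subgroup.normalizer (A : Set G)) := by
  letI := abNQFintype A
  have h0 : abAvg A z = ∏ t : ↥(Subgroup.normalizer (A : Set G)) ⧸
        A.subgroupOf (Subgroup.normalizer (A : Set G)), (t.out • z) := rfl
  have h1 : ∀ n : ↥(Subgroup.normalizer (A : Set G)), n • z = z := by
    intro n
    apply Subtype.ext
    change (n : G) * (z : G) * (n : G)⁻¹ = z
    have := (Subgroup.mem_centralizer_iff.mp hz) n n.2
    rw [this, mul_inv_cancel_right]
  rw [h0, Finset.prod_congr rfl (fun t _ => h1 t.out), Finset.prod_const, Finset.card_univ]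
  congr 1
  rw [← Nat.card_eq_fintype_card]
  rfl

/-- The average lies in the centre of the normalizer. -/
theorem coe_abAvg_mem_centralizer (y : A) :
    ((abAvg A y : A) : G) ∈
      Subgroup.centralizer ((Subgroup.normalizer (A : Set G) : Subgroup G) : Set G) := by
  rw [Subgroup.mem_centralizer_iff]
  intro n hn
  have := smul_abAvg A ⟨n, hn⟩ y
  have h2 : n * ((abAvg A y : A) : G) * n⁻¹ = ((abAvg A y : A) : G) :=
    congrArg Subtype.val this
  calc n * ((abAvg A y : A) : G)
      = (n * ((abAvg A y : A) : G) * n⁻¹) * n := by group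
    _ = ((abAvg A y : A) : G) * n := by rw [h2]

/-- `y^m · avg(y)⁻¹ ∈ [P, N_G(P)]`, where `m = |N_G(P) : P|`. -/
theorem pow_mul_inv_abAvg_mem_commutator (y : A) :
    ((y ^ A.relIndex (Subgroup.normalizer (A : Set G)) *
      (abAvg A y)⁻¹ : A) : G) ∈
      ⁅A, Subgroup.normalizer (A : Set G)⁆ := by
  letI := abNQFintype A
  have h0 : abAvg A y = ∏ t : ↥(Subgroup.normalizer (A : Set G)) ⧸
        A.subgroupOf (Subgroup.normalizer (A : Set G)), (t.out • y) := rfl
  have hm : A.relIndex (Subgroup.normalizer (A : Set G)) =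
      Fintype.card (↥(Subgroup.normalizer (A : Set G)) ⧸
        A.subgroupOf (Subgroup.normalizer (A : Set G))) := by
    rw [← Nat.card_eq_fintype_card]; rfl
  have h1 : y ^ A.relIndex (Subgroup.normalizer (A : Set G)) *
      (abAvg A y)⁻¹ = ∏ t : ↥(Subgroup.normalizer (A : Set G)) ⧸
        A.subgroupOf (Subgroup.normalizer (A : Set G)),
          (y * (t.out • y)⁻¹) := by
    rw [Finset.prod_mul_distrib, Finset.prod_const, Finset.card_univ, ← hm, Finset.prod_inv_distrib, ← h0]
  rw [h1]
  have h2 : ∀ t : ↥(Subgroup.normalizer (A : Set G)) ⧸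
        A.subgroupOf (Subgroup.normalizer (A : Set G)),
      (y * (t.out • y)⁻¹) ∈ (⁅A, Subgroup.normalizer (A : Set G)⁆).subgroupOf
        A := by
    intro t
    rw [Subgroup.mem_subgroupOf]
    have e : ((y * (t.out • y)⁻¹ : A) : G) = ⁅(y : G), (t.out : G)⁆ := by
      rw [commutatorElement_def]
      change (y : G) * ((t.out : G) * (y : G) * (t.out : G)⁻¹)⁻¹ = _
      group
    rw [e]
    exact Subgroup.commutator_mem_commutator y.2 t.out.2
  exact Subgroup.prod_mem _ (fun t _ => h2 t)

/-- Decomposition `A ≤ C_A(N) · [A, N]` for an abelian subgroup `A` whose order is prime to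
`|N_G(A) : A|`. -/
theorem le_centralizer_sup_commutator_of_coprime
    (hcop : (Nat.card A).Coprime (A.relIndex (Subgroup.normalizer (A : Set G)))) :
    A ≤ (A ⊓
      Subgroup.centralizer ((Subgroup.normalizer (A : Set G) : Subgroup G) : Set G)) ⊔
      ⁅A, Subgroup.normalizer (A : Set G)⁆ := by
  intro y hy
  set m := A.relIndex (Subgroup.normalizer (A : Set G)) with hm
  set S := (A ⊓
      Subgroup.centralizer ((Subgroup.normalizer (A : Set G) : Subgroup G) : Set G)) ⊔
      ⁅A, Subgroup.normalizer (A : Set G)⁆ with hS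
  -- y^m ∈ S
  have h1 : y ^ m ∈ S := by
    have ha : ((abAvg A ⟨y, hy⟩ : A) : G) ∈ S :=
      Subgroup.mem_sup_left ⟨(abAvg A ⟨y, hy⟩).2, coe_abAvg_mem_centralizer A ⟨y, hy⟩⟩
    have hb : (((⟨y, hy⟩ : A) ^ m * (abAvg A ⟨y, hy⟩)⁻¹ : A) : G) ∈ S :=
      Subgroup.mem_sup_right (pow_mul_inv_abAvg_mem_commutator A ⟨y, hy⟩)
    have := S.mul_mem hb ha
    have e : (((⟨y, hy⟩ : A) ^ m * (abAvg A ⟨y, hy⟩)⁻¹ : A) : G) *
        ((abAvg A ⟨y, hy⟩ : A) : G) = y ^ m := by
      simp
    rw [e] at this
    exact this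
  have hcop' : Nat.Coprime (orderOf y) m := by
    have hdvd : orderOf y ∣ Nat.card A := by
      have := orderOf_dvd_natCard (⟨y, hy⟩ : A)
      rwa [Subgroup.orderOf_mk] at this
    exact Nat.Coprime.coprime_dvd_left hdvd hcop
  obtain ⟨a, ha⟩ := exists_pow_eq_self_of_coprime hcop'.symm
  rw [← ha]
  exact S.pow_mem h1 a

/-- The average kills `[A, N_G(A)]`. -/
theorem abAvg_eq_one_of_mem_commutator (y : A)
    (hy : (y : G) ∈ ⁅A, Subgroup.normalizer (A : Set G)⁆) : abAvg A y = 1 := by
  -- the kernel of the average, as a subgroup of G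
  have hle : ⁅A, Subgroup.normalizer (A : Set G)⁆ ≤ (abAvg A).ker.map A.subtype := by
    rw [Subgroup.commutator_le]
    intro a ha n hn
    have hmem : n * a⁻¹ * n⁻¹ ∈ A := (Subgroup.mem_normalizer_iff.mp hn a⁻¹).mp (A.inv_mem ha)
    refine ⟨⟨a, ha⟩ * ⟨n * a⁻¹ * n⁻¹, hmem⟩, ?_, ?_⟩
    · rw [SetLike.mem_coe, MonoidHom.mem_ker, map_mul]
      have e : (⟨n * a⁻¹ * n⁻¹, hmem⟩ : A) = (⟨n, hn⟩ : ↥(Subgroup.normalizer (A : Set G))) • (⟨a, ha⟩ : A)⁻¹ := by
        apply Subtype.ext
        rfl
      rw [e, abAvg_smul, map_inv, mul_inv_cancel]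
    · rw [commutatorElement_def]
      simp [mul_assoc]
  obtain ⟨y', hy', hyy⟩ := hle hy
  have : y' = y := Subtype.ext hyy
  rw [← this]
  exact hy'

end AbelianAvg

end Cfsg.Agent.Lib.Helper23
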