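/-
Helper23 library: the averaging endomorphism of an abelian Sylow `p`-subgroup `P` over `N_G(P)/P`,
and the decomposition `P = C_P(N) · [P, N]`.
-/
import Mathlib

set_option autoImplicit false

namespace Cfsg.Agent.Lib.Helper23

open scoped IsMulCommutative commutatorElement

section AbelianSylow

variable {G : Type*} [Group G] [Finite G] {p : ℕ} [Fact p.Prime] (P : Sylow p G)

/-- Fintype structure on `N_G(P)/P`. -/
noncomputable def sylowNQFintype :
    Fintype (↥(Subgroup.normalizer ((P : Subgroup G) : Set G)) ⧸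
      (P : Subgroup G).subgroupOf (Subgroup.normalizer ((P : Subgroup G) : Set G))) :=
  Fintype.ofFinite _

variable [hP : IsMulCommutative P]

/-- Elements of `P` act trivially on `P` (conjugation action of the normalizer). -/
theorem smul_eq_self_of_mem_sylow (h : ↥(Subgroup.normalizer ((P : Subgroup G) : Set G)))
    (hh : h ∈ (P : Subgroup G).subgroupOf (Subgroup.normalizer ((P : Subgroup G) : Set G)))
    (y : (P : Subgroup G)) : h • y = y := by
  apply Subtype.ext
  change (h : G) * (y : G) * (h : G)⁻¹ = y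
  have hhP : (h : G) ∈ (P : Subgroup G) := hh
  have := mul_comm (⟨h, hhP⟩ : (P : Subgroup G)) y
  have h2 : (h : G) * (y : G) = (y : G) * (h : G) := congrArg Subtype.val this
  rw [h2, mul_inv_cancel_right]

/-- The averaging endomorphism `y ↦ ∏_{t ∈ N/P} t y t⁻¹` of an abelian Sylow subgroup. -/
noncomputable def sylowAvg : (P : Subgroup G) →* (P : Subgroup G) :=
  letI := sylowNQFintype P
  { toFun := fun y => ∏ t : ↥(Subgroup.normalizer ((P : Subgroup G) : Set G)) ⧸
        (P : Subgroup G).subgroupOf (Subgroup.normalizer ((P : Subgroup G) : Set G)), (t.out • y)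
    map_one' := by simp
    map_mul' := by
      intro a b
      simp only [smul_mul']
      exact Finset.prod_mul_distrib }

/-- Independence of the choice of coset representatives, twisted by a permutation of the cosets. -/
theorem prod_reps_eq_sylowAvg
    (σ : Equiv.Perm (↥(Subgroup.normalizer ((P : Subgroup G) : Set G)) ⧸
      (P : Subgroup G).subgroupOf (Subgroup.normalizer ((P : Subgroup G) : Set G))))
    (r : (↥(Subgroup.normalizer ((P : Subgroup G) : Set G)) ⧸
      (P : Subgroup G).subgroupOf (Subgroup.normalizer ((P : Subgroup G) : Set G))) →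
        ↥(Subgroup.normalizer ((P : Subgroup G) : Set G)))
    (hr : ∀ t, ((r t : ↥(Subgroup.normalizer ((P : Subgroup G) : Set G))) :
      ↥(Subgroup.normalizer ((P : Subgroup G) : Set G)) ⧸
      (P : Subgroup G).subgroupOf (Subgroup.normalizer ((P : Subgroup G) : Set G))) = σ t)
    (y : (P : Subgroup G)) :
    letI := sylowNQFintype P
    ∏ t, (r t • y) = sylowAvg P y := by
  letI := sylowNQFintype P
  have h1 : ∀ t, r t • y = (σ t).out • y := by
    intro t
    have hcoset : ((σ t).out)⁻¹ * r t ∈
        (P : Subgroup G).subgroupOf (Subgroup.normalizer ((P : Subgroup G) : Set G)) := by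
      rw [← QuotientGroup.eq, QuotientGroup.out_eq', hr t]
    have e : r t = (σ t).out * (((σ t).out)⁻¹ * r t) := by group
    rw [e, mul_smul, smul_eq_self_of_mem_sylow P _ hcoset]
  rw [Finset.prod_congr rfl (fun t _ => h1 t)]
  exact Equiv.prod_comp σ (fun t => t.out • y)

/-- The average is fixed by the normalizer. -/
theorem smul_sylowAvg (n : ↥(Subgroup.normalizer ((P : Subgroup G) : Set G)))
    (y : (P : Subgroup G)) : n • sylowAvg P y = sylowAvg P y := by
  letI := sylowNQFintype P
  have h0 : sylowAvg P y = ∏ t : ↥(Subgroup.normalizer ((P : Subgroup G) : Set G)) ⧸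
        (P : Subgroup G).subgroupOf (Subgroup.normalizer ((P : Subgroup G) : Set G)), (t.out • y) := rfl
  conv_lhs => rw [h0, Finset.smul_prod']
  have := prod_reps_eq_sylowAvg P (MulAction.toPerm n) (fun t => n * t.out) (by
    intro t
    have : ((n * t.out : ↥(Subgroup.normalizer ((P : Subgroup G) : Set G))) :
      ↥(Subgroup.normalizer ((P : Subgroup G) : Set G)) ⧸
      (P : Subgroup G).subgroupOf (Subgroup.normalizer ((P : Subgroup G) : Set G))) =
        n • ((t.out : ↥(Subgroup.normalizer ((P : Subgroup G) : Set G))) :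
      ↥(Subgroup.normalizer ((P : Subgroup G) : Set G)) ⧸
      (P : Subgroup G).subgroupOf (Subgroup.normalizer ((P : Subgroup G) : Set G))) := rfl
    rw [this, QuotientGroup.out_eq']
    rfl) y
  rw [← this]
  apply Finset.prod_congr rfl
  intro t _
  rw [mul_smul]

/-- The average is invariant under the normalizer. -/
theorem sylowAvg_smul (n : ↥(Subgroup.normalizer ((P : Subgroup G) : Set G)))
    (y : (P : Subgroup G)) : sylowAvg P (n • y) = sylowAvg P y := by
  letI := sylowNQFintype P
  have h0 : sylowAvg P (n • y) = ∏ t : ↥(Subgroup.normalizer ((P : Subgroup G) : Set G)) ⧸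
        (P : Subgroup G).subgroupOf (Subgroup.normalizer ((P : Subgroup G) : Set G)), (t.out • (n • y)) := rfl
  rw [h0]
  have := prod_reps_eq_sylowAvg P
    (Equiv.mulRight ((n : ↥(Subgroup.normalizer ((P : Subgroup G) : Set G))) :
      ↥(Subgroup.normalizer ((P : Subgroup G) : Set G)) ⧸
      (P : Subgroup G).subgroupOf (Subgroup.normalizer ((P : Subgroup G) : Set G))))
    (fun t => t.out * n) (by
    intro t
    rw [QuotientGroup.mk_mul, QuotientGroup.out_eq']
    rfl) y
  rw [← this]
  apply Finset.prod_congr rfl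
  intro t _
  rw [mul_smul]

/-- The average of an element of `P ∩ Z(N_G(P))` is its `|N_G(P) : P|`-th power. -/
theorem sylowAvg_of_mem_centralizer (z : (P : Subgroup G))
    (hz : (z : G) ∈ Subgroup.centralizer ((Subgroup.normalizer ((P : Subgroup G) : Set G) : Subgroup G) : Set G)) :
    sylowAvg P z = z ^ (P : Subgroup G).relIndex (Subgroup.normalizer ((P : Subgroup G) : Set G)) := by
  letI := sylowNQFintype P
  have h0 : sylowAvg P z = ∏ t : ↥(Subgroup.normalizer ((P : Subgroup G) : Set G)) ⧸
        (P : Subgroup G).subgroupOf (Subgroup.normalizer ((P : Subgroup G) : Set G)), (t.out • z) := rfl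
  have h1 : ∀ n : ↥(Subgroup.normalizer ((P : Subgroup G) : Set G)), n • z = z := by
    intro n
    apply Subtype.ext
    change (n : G) * (z : G) * (n : G)⁻¹ = z
    have := (Subgroup.mem_centralizer_iff.mp hz) n n.2
    rw [this, mul_inv_cancel_right]
  rw [h0, Finset.prod_congr rfl (fun t _ => h1 t.out), Finset.prod_const, Finset.card_univ]
  congr 1
  rw [← Nat.card_eq_fintype_card]
  rfl

/-- The average lies in the centre of the normalizer. -/
theorem coe_sylowAvg_mem_centralizer (y : (P : Subgroup G)) :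
    ((sylowAvg P y : (P : Subgroup G)) : G) ∈
      Subgroup.centralizer ((Subgroup.normalizer ((P : Subgroup G) : Set G) : Subgroup G) : Set G) := by
  rw [Subgroup.mem_centralizer_iff]
  intro n hn
  have := smul_sylowAvg P ⟨n, hn⟩ y
  have h2 : n * ((sylowAvg P y : (P : Subgroup G)) : G) * n⁻¹ = ((sylowAvg P y : (P : Subgroup G)) : G) :=
    congrArg Subtype.val this
  calc n * ((sylowAvg P y : (P : Subgroup G)) : G)
      = (n * ((sylowAvg P y : (P : Subgroup G)) : G) * n⁻¹) * n := by group
    _ = ((sylowAvg P y : (P : Subgroup G)) : G) * n := by rw [h2]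

/-- `y^m · avg(y)⁻¹ ∈ [P, N_G(P)]`, where `m = |N_G(P) : P|`. -/
theorem pow_mul_inv_sylowAvg_mem_commutator (y : (P : Subgroup G)) :
    ((y ^ (P : Subgroup G).relIndex (Subgroup.normalizer ((P : Subgroup G) : Set G)) *
      (sylowAvg P y)⁻¹ : (P : Subgroup G)) : G) ∈
      ⁅(P : Subgroup G), Subgroup.normalizer ((P : Subgroup G) : Set G)⁆ := by
  letI := sylowNQFintype P
  have h0 : sylowAvg P y = ∏ t : ↥(Subgroup.normalizer ((P : Subgroup G) : Set G)) ⧸
        (P : Subgroup G).subgroupOf (Subgroup.normalizer ((P : Subgroup G) : Set G)), (t.out • y) := rfl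
  have hm : (P : Subgroup G).relIndex (Subgroup.normalizer ((P : Subgroup G) : Set G)) =
      Fintype.card (↥(Subgroup.normalizer ((P : Subgroup G) : Set G)) ⧸
        (P : Subgroup G).subgroupOf (Subgroup.normalizer ((P : Subgroup G) : Set G))) := by
    rw [← Nat.card_eq_fintype_card]; rfl
  have h1 : y ^ (P : Subgroup G).relIndex (Subgroup.normalizer ((P : Subgroup G) : Set G)) *
      (sylowAvg P y)⁻¹ = ∏ t : ↥(Subgroup.normalizer ((P : Subgroup G) : Set G)) ⧸
        (P : Subgroup G).subgroupOf (Subgroup.normalizer ((P : Subgroup G) : Set G)),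
          (y * (t.out • y)⁻¹) := by
    rw [Finset.prod_mul_distrib, Finset.prod_const, Finset.card_univ, ← hm, Finset.prod_inv_distrib, ← h0]
  rw [h1]
  have h2 : ∀ t : ↥(Subgroup.normalizer ((P : Subgroup G) : Set G)) ⧸
        (P : Subgroup G).subgroupOf (Subgroup.normalizer ((P : Subgroup G) : Set G)),
      (y * (t.out • y)⁻¹) ∈ (⁅(P : Subgroup G), Subgroup.normalizer ((P : Subgroup G) : Set G)⁆).subgroupOf
        (P : Subgroup G) := by
    intro t
    rw [Subgroup.mem_subgroupOf]
    have e : ((y * (t.out • y)⁻¹ : (P : Subgroup G)) : G) = ⁅(y : G), (t.out : G)⁆ := by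
      rw [commutatorElement_def]
      change (y : G) * ((t.out : G) * (y : G) * (t.out : G)⁻¹)⁻¹ = _
      group
    rw [e]
    exact Subgroup.commutator_mem_commutator y.2 t.out.2
  exact Subgroup.prod_mem _ (fun t _ => h2 t)

/-- Decomposition `P ≤ C_P(N) · [P, N]` for an abelian Sylow subgroup. -/
theorem sylow_le_centralizer_sup_commutator :
    (P : Subgroup G) ≤ ((P : Subgroup G) ⊓
      Subgroup.centralizer ((Subgroup.normalizer ((P : Subgroup G) : Set G) : Subgroup G) : Set G)) ⊔
      ⁅(P : Subgroup G), Subgroup.normalizer ((P : Subgroup G) : Set G)⁆ := by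
  intro y hy
  set m := (P : Subgroup G).relIndex (Subgroup.normalizer ((P : Subgroup G) : Set G)) with hm
  set S := ((P : Subgroup G) ⊓
      Subgroup.centralizer ((Subgroup.normalizer ((P : Subgroup G) : Set G) : Subgroup G) : Set G)) ⊔
      ⁅(P : Subgroup G), Subgroup.normalizer ((P : Subgroup G) : Set G)⁆ with hS
  -- y^m ∈ S
  have h1 : y ^ m ∈ S := by
    have ha : ((sylowAvg P ⟨y, hy⟩ : (P : Subgroup G)) : G) ∈ S :=
      Subgroup.mem_sup_left ⟨(sylowAvg P ⟨y, hy⟩).2, coe_sylowAvg_mem_centralizer P ⟨y, hy⟩⟩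
    have hb : (((⟨y, hy⟩ : (P : Subgroup G)) ^ m * (sylowAvg P ⟨y, hy⟩)⁻¹ : (P : Subgroup G)) : G) ∈ S :=
      Subgroup.mem_sup_right (pow_mul_inv_sylowAvg_mem_commutator P ⟨y, hy⟩)
    have := S.mul_mem hb ha
    have e : (((⟨y, hy⟩ : (P : Subgroup G)) ^ m * (sylowAvg P ⟨y, hy⟩)⁻¹ : (P : Subgroup G)) : G) *
        ((sylowAvg P ⟨y, hy⟩ : (P : Subgroup G)) : G) = y ^ m := by
      simp
    rw [e] at this
    exact this
  -- m is prime to p, hence to the order of y
  have hpm : ¬ p ∣ m := by
    intro hdvd
    exact P.not_dvd_index (hdvd.trans (Subgroup.relIndex_dvd_index_of_le Subgroup.le_normalizer))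
  have hcop : Nat.Coprime (orderOf y) m := by
    obtain ⟨k, hk⟩ := (IsPGroup.iff_orderOf.mp P.2) ⟨y, hy⟩
    have hk' : orderOf y = p ^ k := by
      rw [← hk, Subgroup.orderOf_mk]
    rw [hk']
    exact Nat.Coprime.pow_left k ((Nat.Prime.coprime_iff_not_dvd Fact.out).mpr hpm)
  -- y is a power of y^m
  obtain ⟨a, ha⟩ := exists_pow_eq_self_of_coprime hcop.symm
  rw [← ha]
  exact S.pow_mem h1 a

end AbelianSylow

end Cfsg.Agent.Lib.Helper23
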