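/- helper23: B&G Theorem I(b) (S1356), part A: generalities.
`F(M) ≤ C_M(M_F) M_F` for every finite `M`; elements of `M` whose order is prime to the index of a
normal subgroup lie in it. -/
import Mathlib
import Cfsg.Agent.Lib.Helper23.BGY1
import Cfsg.Agent.Lib.Helper23.NilHallA
import Cfsg.Agent.Lib.Helper9.FittingHall
import Cfsg.Agent.Lib.Helper9.TypeP
import Cfsg.Agent.Lib.Helper16.BGTyA
import Cfsg.Agent.Lib.Helper12.CNMinF
import Cfsg.Agent.Lib.Helper17.PrimeAct3
import Cfsg.Agent.Lib.Helper22.PiClasses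

set_option autoImplicit false
set_option linter.style.haveILetI false
set_option linter.unusedSectionVars false

namespace Cfsg.Agent.Lib.Helper23.BG15B

open Subgroup Cfsg

variable {G : Type*} [Group G]

/-- An element of `M` whose order is prime to the index in `M` of a normal subgroup `N` of `M`
lies in `N`. -/
theorem mem_of_coprime_relIndex [Finite G] {M N : Subgroup G}
    (hn : M ≤ normalizer (N : Set G)) {x : G} (hxM : x ∈ M)
    (hcop : (orderOf x).Coprime (N.relIndex M)) : x ∈ N := by
  haveI hN'n : (N.subgroupOf M).Normal := Subgroup.normal_subgroupOf_of_le_normalizer hn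
  have h1 : Subgroup.zpowers (⟨x, hxM⟩ : ↥M) ≤ N.subgroupOf M := by
    apply Cfsg.Agent.Lib.Helper23.BGY.le_of_coprime_index_normal
    rw [Nat.card_zpowers, Subgroup.orderOf_mk]
    exact hcop
  exact Subgroup.mem_subgroupOf.mp (h1 (Subgroup.mem_zpowers _))

theorem fittingOf_le (M : Subgroup G) : fittingOf M ≤ M := Subgroup.map_subtype_le _

/-- `F(M) ≤ C_M(M_F) M_F`. -/
theorem fittingOf_le_sup [Finite G] (M : Subgroup G) :
    fittingOf M ≤ (M ⊓ centralizer (fittingHallOf M : Set G)) ⊔ fittingHallOf M := by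
  intro x hx
  have hxM : x ∈ M := fittingOf_le M hx
  set H := fittingHallOf M with hH
  set π : Set ℕ := {p | p ∣ Nat.card H} with hπ
  obtain ⟨s, u, hs, hu, hsπ, huπ, hsu⟩ :=
    Cfsg.Agent.Lib.Helper22.PiClasses.exists_pi_decomp π x (isOfFinOrder_of_finite x)
  have hzF : zpowers x ≤ fittingOf M := (zpowers_le).mpr hx
  have hsM : s ∈ M := fittingOf_le M (hzF hs)
  have huF : u ∈ fittingOf M := hzF hu
  have hHn : M ≤ normalizer (H : Set G) :=
    Cfsg.Agent.Lib.Helper12.CNMin.le_normalizer_fittingHallOf M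
  -- `s ∈ H`
  have hsH : s ∈ H := by
    apply mem_of_coprime_relIndex hHn hsM
    apply Nat.coprime_of_dvd
    intro p hp h1 h2
    have h3 : p ∣ Nat.card H := hsπ p hp h1
    exact hp.one_lt.ne' (Nat.eq_one_of_dvd_coprimes
      (Cfsg.Agent.Lib.Helper16.BGTy.fittingHallOf_coprime_relIndex M) h3 h2)
  -- `u` centralizes `H`
  have huC : u ∈ centralizer (H : Set G) := by
    haveI : Finite ↥M := inferInstance
    apply Cfsg.Agent.Lib.Helper9.mem_centralizer_of_nilpotent_of_coprime (fittingOf M) H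
      (Cfsg.Agent.Lib.Helper9.fittingOf_isNilpotent M)
      (Cfsg.Agent.Lib.Helper9.fittingHallOf_le_fittingOf M) u huF (hHn (fittingOf_le M huF))
    apply Nat.coprime_of_dvd
    intro p hp h1 h2
    exact huπ p hp h1 h2
  rw [← hsu]
  have hcomm : s * u = u * s := by
    have := (mem_centralizer_iff.mp huC) s hsH
    exact this
  rw [hcomm]
  exact Subgroup.mul_mem _ (Subgroup.mem_sup_left (Subgroup.mem_inf.mpr ⟨fittingOf_le M huF, huC⟩))
    (Subgroup.mem_sup_right hsH)

end Cfsg.Agent.Lib.Helper23.BG15B
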