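/- helper23: B&G Theorem I(b) (S1356), part B: generic lemmas.
Commutators modulo a normalized subgroup, the second derived subgroup of `M = N E` with `E'` abelian,
nilpotency from a central kernel and a nilpotent image in a section. -/
import Mathlib
import Cfsg.Agent.Lib.Helper9.BG152C
import Cfsg.Agent.Lib.Helper1.BGZhat

set_option autoImplicit false
set_option linter.style.haveILetI false
set_option linter.unusedSectionVars false
open scoped commutatorElement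

namespace Cfsg.Agent.Lib.Helper23.BG15B

open Subgroup Cfsg Cfsg.Agent.Lib.Helper24.BG36Nab

variable {G : Type*} [Group G]

/-- if every element of `S` is a product `n b` with `n ∈ N`, `b ∈ B` and `B` normalizes `N`, then
`S' ≤ N B'`. -/
theorem commutator_le_sup {S N B : Subgroup G} (hBN : B ≤ normalizer (N : Set G))
    (hdec : ∀ g ∈ S, ∃ n ∈ N, ∃ b ∈ B, g = n * b) : ⁅S, S⁆ ≤ N ⊔ ⁅B, B⁆ := by
  rw [Subgroup.commutator_le]
  intro g₁ h₁ g₂ h₂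
  obtain ⟨n₁, hn₁, b₁, hb₁, rfl⟩ := hdec g₁ h₁
  obtain ⟨n₂, hn₂, b₂, hb₂, rfl⟩ := hdec g₂ h₂
  have e : ⁅n₁ * b₁, n₂ * b₂⁆ =
      n₁ * (b₁ * n₂ * b₁⁻¹) * ⁅b₁, b₂⁆ * (b₂ * n₁⁻¹ * b₂⁻¹) * n₂⁻¹ := by
    simp only [commutatorElement_def]; group
  rw [e]
  have c1 : b₁ * n₂ * b₁⁻¹ ∈ N := ((mem_normalizer_iff.mp (hBN hb₁)) n₂).mp hn₂
  have c2 : b₂ * n₁⁻¹ * b₂⁻¹ ∈ N :=
    ((mem_normalizer_iff.mp (hBN hb₂)) n₁⁻¹).mp (N.inv_mem hn₁)
  exact mul_mem (mul_mem (mul_mem (mul_mem (mem_sup_left hn₁) (mem_sup_left c1))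
    (mem_sup_right (commutator_mem_commutator hb₁ hb₂))) (mem_sup_left c2))
    (mem_sup_left (N.inv_mem hn₂))

theorem commutator_self_le (E : Subgroup G) : ⁅E, E⁆ ≤ E := by
  rw [Subgroup.commutator_le]
  intro a ha b hb
  rw [commutatorElement_def]
  exact E.mul_mem (E.mul_mem (E.mul_mem ha hb) (E.inv_mem ha)) (E.inv_mem hb)

/-- `M = N E`, `E` normalizes `N`, `E'` abelian: then `M'' ≤ N`. -/
theorem second_derived_le {M E N : Subgroup G} (hEN : E ≤ normalizer (N : Set G))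
    (hdec : ∀ g ∈ M, ∃ n ∈ N, ∃ e ∈ E, g = n * e)
    (hab : ∀ a ∈ ⁅E, E⁆, ∀ b ∈ ⁅E, E⁆, a * b = b * a) :
    ⁅⁅M, M⁆, ⁅M, M⁆⁆ ≤ N := by
  have h1 : ⁅M, M⁆ ≤ N ⊔ ⁅E, E⁆ := commutator_le_sup hEN hdec
  have hE'N : ⁅E, E⁆ ≤ normalizer (N : Set G) := (commutator_self_le E).trans hEN
  have h2 : ⁅N ⊔ ⁅E, E⁆, N ⊔ ⁅E, E⁆⁆ ≤ N ⊔ ⁅⁅E, E⁆, ⁅E, E⁆⁆ := by
    apply commutator_le_sup hE'N
    intro g hg
    exact Cfsg.Agent.Lib.Helper1.BGZhat.exists_mul_of_mem_sup' hE'N hg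
  have h3 : ⁅⁅E, E⁆, ⁅E, E⁆⁆ = ⊥ := by
    rw [Subgroup.commutator_eq_bot_iff_le_centralizer]
    intro a ha
    rw [mem_centralizer_iff]
    intro b hb
    exact hab b hb a ha
  calc ⁅⁅M, M⁆, ⁅M, M⁆⁆ ≤ ⁅N ⊔ ⁅E, E⁆, N ⊔ ⁅E, E⁆⁆ := Subgroup.commutator_mono h1 h1
    _ ≤ N ⊔ ⁅⁅E, E⁆, ⁅E, E⁆⁆ := h2
    _ = N := by rw [h3, sup_bot_eq]

/-- a complement decomposition `m = e n` rewritten as `m = n' e`. -/
theorem dec_swap {M E N : Subgroup G} (hEN : E ≤ normalizer (N : Set G))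
    (hdec : ∀ g ∈ M, ∃ e ∈ E, ∃ n ∈ N, g = e * n) :
    ∀ g ∈ M, ∃ n ∈ N, ∃ e ∈ E, g = n * e := by
  intro g hg
  obtain ⟨e, he, n, hn, rfl⟩ := hdec g hg
  refine ⟨e * n * e⁻¹, ((mem_normalizer_iff.mp (hEN he)) n).mp hn, e, he, by group⟩

/-- `C ∩ N` central in `C` and the image of `C` in `N(N)/N` nilpotent: then `C` is nilpotent. -/
theorem nilpotent_of_central_of_im {C N : Subgroup G} (hCN : C ≤ normalizer (N : Set G))
    (hcent : ∀ c ∈ C, ∀ z ∈ C ⊓ N, c * z = z * c) (hnil : Group.IsNilpotent ↥(im N C)) :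
    Group.IsNilpotent ↥C := by
  let f : ↥C →* Gam N := (proj N).comp (Subgroup.inclusion hCN)
  have hr : f.range = im N C := (Cfsg.Agent.Lib.Helper9.BG152.im_eq_range hCN).symm
  have hk : f.ker ≤ center ↥C := by
    intro x hx
    rw [MonoidHom.mem_ker] at hx
    have h1 : proj N ⟨x.1, hCN x.2⟩ = 1 := hx
    rw [proj_eq_one_iff] at h1
    rw [mem_center_iff]
    intro y
    apply Subtype.ext
    exact hcent y.1 y.2 x.1 (Subgroup.mem_inf.mpr ⟨x.2, h1⟩)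
  have hnil' : Group.IsNilpotent ↥f.range := by rw [hr]; exact hnil
  haveI := hnil'
  exact Subgroup.isNilpotent_of_ker_le_center f.rangeRestrict
    (by rw [MonoidHom.ker_rangeRestrict]; exact hk)

end Cfsg.Agent.Lib.Helper23.BG15B
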