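/- helper23: B&G Theorem I(b) (S1356), part C: `C_M(M_F)`; its order is prime to `|K|`; `M'' ≤ M_σ`;
the case `M_F = M_σ`. -/
import Mathlib
import Cfsg.Agent.Lib.Helper23.BG15BA
import Cfsg.Agent.Lib.Helper23.BG15BB
import Cfsg.Agent.Lib.Helper23.BG146C
import Cfsg.Agent.S1430
import Cfsg.Agent.S1364
import Cfsg.Agent.S1359
import Cfsg.Agent.S1365
import Cfsg.Agent.S1420
import Cfsg.Agent.S1350
import Cfsg.Agent.Lib.Helper27.BGConjA
import Cfsg.Agent.Lib.Helper1.BG152C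
import Cfsg.Agent.Lib.Helper9.BG144B
import Cfsg.Agent.Lib.Helper1.BGKap4
import Cfsg.Agent.Lib.Helper8.BGEx5
import Cfsg.Agent.Lib.Helper16.BGTyA
import Cfsg.Agent.Lib.Helper19.BGTyp3
import Cfsg.Agent.Lib.Helper9.BG152H

set_option autoImplicit false
set_option linter.style.haveILetI false
set_option linter.unusedSectionVars false
open scoped commutatorElement

namespace Cfsg.Agent.Lib.Helper23.BG15B

open Subgroup Cfsg Cfsg.Agent.Lib.Helper24.BG36Nab
open Cfsg.Agent.Lib.Helper2.BGCor (le_normalizer_sigmaCore sigmaCore_le)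

variable {G : Type*} [Group G] [Finite G]

/-- `C_M(M_F)` -/
abbrev cF (M : Subgroup G) : Subgroup G := M ⊓ centralizer (fittingHallOf M : Set G)

theorem cF_le (M : Subgroup G) : cF M ≤ M := inf_le_left

theorem conj_mem_cF {M : Subgroup G} {m c : G} (hm : m ∈ M) (hc : c ∈ cF M) :
    m * c * m⁻¹ ∈ cF M := by
  obtain ⟨hcM, hcC⟩ := Subgroup.mem_inf.mp hc
  refine Subgroup.mem_inf.mpr ⟨M.mul_mem (M.mul_mem hm hcM) (M.inv_mem hm), ?_⟩
  exact Cfsg.Agent.Lib.Helper9.BG152.conj_mem_centralizer_of_mem_normalizer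
    (Cfsg.Agent.Lib.Helper12.CNMin.le_normalizer_fittingHallOf M hm) hcC

theorem le_normalizer_cF (M : Subgroup G) : M ≤ normalizer ((cF M : Subgroup G) : Set G) := by
  intro m hm
  rw [mem_normalizer_iff]
  intro c
  constructor
  · exact fun hc => conj_mem_cF hm hc
  · intro hc
    have := conj_mem_cF (M.inv_mem hm) hc
    have e : m⁻¹ * (m * c * m⁻¹) * m⁻¹⁻¹ = c := by group
    rwa [e] at this

/-- `|C_M(M_F)|` is prime to `|K|`. -/
theorem coprime_card_cF_K (hG : IsMinSimpleOddOrder G) {M K U : Subgroup G} (hM : IsCoatom M)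
    (hKU : IsSigmaDecomposition M K U) : (Nat.card ↥(cF M)).Coprime (Nat.card K) := by
  apply Nat.coprime_of_dvd
  intro p hp hpC hpK
  haveI : Fact p.Prime := ⟨hp⟩
  have hK1 : K ≠ ⊥ := by
    intro h
    rw [h, Subgroup.card_bot] at hpK
    exact hp.one_lt.ne' (Nat.dvd_one.mp hpK)
  have hpκ : p ∈ kappa M := hKU.hall.2.1 p hp hpK
  obtain ⟨y, hy⟩ := exists_prime_orderOf_dvd_card' p hpC
  have hyC : (y : G) ∈ cF M := y.2
  have hyo : orderOf (y : G) = p := by rw [Subgroup.orderOf_coe]; exact hy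
  have hsolv : Group.IsSolvable ↥M := hG.2.2.2 M hM.1
  obtain ⟨m, hm, hle⟩ := Cfsg.Agent.Lib.Helper27.BGConj.exists_conj_le_of_pi (kappa M) hsolv
    hKU.hall.1 (Y := zpowers (y : G)) ((zpowers_le).mpr (cF_le M hyC))
    (fun q hq hqd => by
      rw [Nat.card_zpowers, hyo] at hqd
      rw [(Nat.prime_dvd_prime_iff_eq hq hp).mp hqd]; exact hpκ) hKU.hall.2.2
  have hkK : m * (y : G) * m⁻¹ ∈ K := hle ⟨(y : G), mem_zpowers _, rfl⟩
  have hk1 : m * (y : G) * m⁻¹ ≠ 1 := by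
    intro h
    have h2 : (y : G) = 1 := by
      have : (y : G) = m⁻¹ * (m * (y : G) * m⁻¹) * m := by group
      rw [this, h]; group
    rw [h2, orderOf_one] at hyo
    exact hp.one_lt.ne hyo
  have hkC : m * (y : G) * m⁻¹ ∈ cF M := conj_mem_cF hm hyC
  have h30 := (Cfsg.Agent.S1430.result hG M hM K hKU.hall hK1).1 _ hkK hk1
  have h64 := Cfsg.Agent.S1364.result hG M hM K U hKU hK1
  have hle2 : fittingHallOf M ≤ sigmaCore M ⊓ centralizer (K : Set G) := by
    rw [← h30]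
    refine le_inf (Cfsg.Agent.Lib.Helper9.BG144.fittingHallOf_le_sigmaCore hG hM) ?_
    intro h hh
    rw [Cfsg.Agent.Lib.Helper23.BG146.mem_centralizer_singleton]
    exact ((mem_centralizer_iff.mp (Subgroup.mem_inf.mp hkC).2) h hh).symm
  exact h64.2.2.2 (Cfsg.Agent.Lib.Helper1.BG152.isCyclic_of_le_isCyclic h64.1 hle2)

theorem le_U_sup_sup_K {M K U : Subgroup G} (hKU : IsSigmaDecomposition M K U) :
    M ≤ (U ⊔ sigmaCore M) ⊔ K := by
  intro m hm
  obtain ⟨u, hu, b, hb, rfl⟩ := hKU.compl.2.2.2 m hm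
  have h1 : K ⊔ sigmaCore M ≤ (U ⊔ sigmaCore M) ⊔ K :=
    sup_le le_sup_right (le_sup_right.trans le_sup_left)
  exact Subgroup.mul_mem _ ((le_sup_left.trans le_sup_left : U ≤ _) hu) (h1 hb)

/-- `C_M(M_F) ≤ U M_σ`. -/
theorem cF_le_U_sup (hG : IsMinSimpleOddOrder G) {M K U : Subgroup G} (hM : IsCoatom M)
    (hKU : IsSigmaDecomposition M K U) : cF M ≤ U ⊔ sigmaCore M := by
  intro x hx
  have hKM : K ≤ M := hKU.hall.1
  have hTM : U ⊔ sigmaCore M ≤ M := sup_le hKU.compl.1 (sigmaCore_le M)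
  apply Cfsg.Agent.Lib.Helper9.BG144.mem_of_coprime_of_sup hTM hKM
    (Cfsg.Agent.Lib.Helper1.BGKap.le_normalizer_U_sup_sigmaCore hKU) (le_U_sup_sup_K hKU)
    (cF_le M hx)
  exact Nat.Coprime.coprime_dvd_left (Subgroup.orderOf_dvd_natCard _ hx)
    (coprime_card_cF_K hG hM hKU)

/-- `M'' ≤ M_σ`. -/
theorem second_derived_le_sigmaCore (hG : IsMinSimpleOddOrder G) {M K U : Subgroup G}
    (hM : IsCoatom M) (hKU : IsSigmaDecomposition M K U) :
    ⁅⁅M, M⁆, ⁅M, M⁆⁆ ≤ sigmaCore M := by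
  have hHall := (Cfsg.Agent.S1350.result hG M hM).1
  have hE := Cfsg.Agent.Lib.Helper1.BGZhat.isComplIn_U_sup_K hHall hKU
  have h20 := (Cfsg.Agent.S1420.result hG M hM (U ⊔ K) hE).2.1
  have hEN : U ⊔ K ≤ normalizer ((sigmaCore M : Subgroup G) : Set G) :=
    hE.1.trans (le_normalizer_sigmaCore M)
  apply second_derived_le hEN (dec_swap hEN hE.2.2.2)
  exact Cfsg.Agent.Lib.Helper19.BGTyp.comm_of_isMulCommutative h20

/-- a nontrivial central element of a nontrivial nilpotent subgroup. -/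
theorem exists_central {H : Subgroup G} (hnil : Group.IsNilpotent ↥H) (h1 : H ≠ ⊥) :
    ∃ z ∈ H, z ≠ 1 ∧ ∀ h ∈ H, z * h = h * z := by
  haveI : Nontrivial ↥H := (Subgroup.nontrivial_iff_ne_bot H).mpr h1
  haveI := hnil
  have hc : center ↥H ≠ ⊥ := Group.IsNilpotent.center_ne_bot ↥H
  obtain ⟨z, hz1⟩ := (Subgroup.ne_bot_iff_exists_ne_one.mp hc)
  refine ⟨z.1.1, z.1.2, ?_, ?_⟩
  · intro h
    apply hz1
    apply Subtype.ext
    apply Subtype.ext
    exact h
  · intro h hh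
    have := (mem_center_iff.mp z.2) ⟨h, hh⟩
    exact (congrArg Subtype.val this).symm

/-- the case `M_F = M_σ`: `C_M(M_F)` is nilpotent. -/
theorem cF_nilpotent_of_eq (hG : IsMinSimpleOddOrder G) {M K U : Subgroup G} (hM : IsCoatom M)
    (hKU : IsSigmaDecomposition M K U) (heq : fittingHallOf M = sigmaCore M) :
    Group.IsNilpotent ↥(cF M) := by
  have hCN : cF M ≤ normalizer ((sigmaCore M : Subgroup G) : Set G) :=
    (cF_le M).trans (le_normalizer_sigmaCore M)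
  have hnilH : Group.IsNilpotent ↥(sigmaCore M) := by
    rw [← heq]; exact Cfsg.Agent.Lib.Helper16.BGTy.fittingHallOf_isNilpotent M
  have hne : sigmaCore M ≠ ⊥ := Cfsg.Agent.Lib.Helper8.BGEx.sigmaCore_ne_bot_of_coatom hG hM
  obtain ⟨z, hz, hz1, hzc⟩ := exists_central hnilH hne
  have hcentC : ∀ c ∈ cF M, ∀ s ∈ sigmaCore M, s * c = c * s := by
    intro c hc s hs
    have h1 := (Subgroup.mem_inf.mp hc).2
    rw [heq] at h1
    exact (mem_centralizer_iff.mp h1) s hs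
  apply nilpotent_of_central_of_im hCN
  · intro c hc s hs
    exact (hcentC c hc s (Subgroup.mem_inf.mp hs).2).symm
  · set A := Subgroup.closure ((U : Set G) ∩ sigmaHat M) with hA
    have h59 := Cfsg.Agent.S1359.result hG M hM K U hKU
    have hAM : A ≤ M := by
      rw [hA, Subgroup.closure_le]
      intro x hx
      exact hKU.compl.1 hx.1
    have hAN : A ≤ normalizer ((sigmaCore M : Subgroup G) : Set G) :=
      hAM.trans (le_normalizer_sigmaCore M)
    have hnilA : Group.IsNilpotent ↥(im (sigmaCore M) A) :=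
      Cfsg.Agent.Lib.Helper9.BG152.im_isNilpotent hAN
        (Cfsg.Agent.Lib.Helper19.BGTyp.isNilpotent_of_isMulCommutative h59)
    refine Cfsg.Agent.Lib.Helper9.BG152.nilp_of_le' ?_ hnilA
    intro y hy
    obtain ⟨c, hc, rfl⟩ := (mem_im_iff hCN).mp hy
    have hUN : U ≤ normalizer ((sigmaCore M : Subgroup G) : Set G) :=
      hKU.compl.1.trans (le_normalizer_sigmaCore M)
    obtain ⟨u, hu, s, hs, hcus⟩ :=
      Cfsg.Agent.Lib.Helper1.BGZhat.exists_mul_of_mem_sup hUN (cF_le_U_sup hG hM hKU hc)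
    have huhat : u ∈ sigmaHat M := by
      refine ⟨hKU.compl.1 hu, z, hz, hz1, ?_⟩
      have e : u = c * s⁻¹ := by rw [hcus]; group
      have h1 : z * c = c * z := hcentC c hc z hz
      have h2 : z * s⁻¹ = s⁻¹ * z := hzc _ ((sigmaCore M).inv_mem hs)
      calc u * z = c * (s⁻¹ * z) := by rw [e]; group
        _ = c * (z * s⁻¹) := by rw [h2]
        _ = (c * z) * s⁻¹ := by group
        _ = (z * c) * s⁻¹ := by rw [h1]
        _ = z * u := by rw [e]; group
    have huA : u ∈ A := Subgroup.subset_closure ⟨hu, huhat⟩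
    have hproj : proj (sigmaCore M) ⟨c, hCN hc⟩ = proj (sigmaCore M) ⟨u, hAN huA⟩ := by
      have e1 : (⟨c, hCN hc⟩ : ↥(normalizer ((sigmaCore M : Subgroup G) : Set G))) =
          ⟨u, hAN huA⟩ * ⟨s, le_normalizer hs⟩ := Subtype.ext hcus
      rw [e1, map_mul, (proj_eq_one_iff (le_normalizer hs)).mpr hs, mul_one]
    rw [hproj]
    exact proj_mem_im huA _

/-- the case `M_F = M_σ` of Theorem I(b). -/
theorem main_of_eq (hG : IsMinSimpleOddOrder G) {M K U : Subgroup G} (hM : IsCoatom M)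
    (hKU : IsSigmaDecomposition M K U) (heq : fittingHallOf M = sigmaCore M) :
    ⁅⁅M, M⁆, ⁅M, M⁆⁆ ≤ fittingOf M ∧
    fittingOf M = (M ⊓ centralizer (fittingHallOf M : Set G)) ⊔ fittingHallOf M ∧
    (K ≠ ⊥ → fittingOf M ≤ ⁅M, M⁆) := by
  have hHF := Cfsg.Agent.Lib.Helper9.fittingHallOf_le_fittingOf M
  have hCF : cF M ≤ fittingOf M :=
    Cfsg.Agent.Lib.Helper17.PrimeAct.le_fittingOf (cF M) M (cF_le M) (le_normalizer_cF M)
      (cF_nilpotent_of_eq hG hM hKU heq)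
  have h2 : fittingOf M = (M ⊓ centralizer (fittingHallOf M : Set G)) ⊔ fittingHallOf M :=
    le_antisymm (fittingOf_le_sup M) (sup_le hCF hHF)
  refine ⟨?_, h2, ?_⟩
  · calc ⁅⁅M, M⁆, ⁅M, M⁆⁆ ≤ sigmaCore M := second_derived_le_sigmaCore hG hM hKU
      _ = fittingHallOf M := heq.symm
      _ ≤ fittingOf M := hHF
  · intro hK1
    rw [h2, (Cfsg.Agent.S1365.result hG M hM K U hKU hK1).1]
    refine sup_le (cF_le_U_sup hG hM hKU) ?_
    rw [heq]
    exact le_sup_right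

end Cfsg.Agent.Lib.Helper23.BG15B
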