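/- helper23: B&G Theorem I(b) (S1356), part D: the case `M_F ≠ M_σ` (on top of helper9's Theorem 15.2
development) and the final assembly. -/
import Mathlib
import Cfsg.Agent.Lib.Helper23.BG15BC
import Cfsg.Agent.Lib.Helper9.BG152H
import Cfsg.Agent.Lib.Helper8.Conj
import Cfsg.Agent.S1373

set_option autoImplicit false
set_option linter.style.haveILetI false
set_option linter.unusedSectionVars false
open scoped commutatorElement

namespace Cfsg.Agent.Lib.Helper23.BG15B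

open Subgroup Cfsg Cfsg.Agent.Lib.Helper24.BG36Nab Cfsg.Agent.Lib.Helper9.BG152
open Cfsg.Agent.Lib.Helper2.BGCor (le_normalizer_sigmaCore sigmaCore_le)

variable {G : Type*} [Group G] [Finite G]

theorem mem_normalizer_commutator {A B : Subgroup G} {k : G}
    (hA : k ∈ normalizer (A : Set G)) (hB : k ∈ normalizer (B : Set G)) :
    k ∈ normalizer ((⁅A, B⁆ : Subgroup G) : Set G) := by
  rw [Cfsg.Agent.Lib.Helper8.mem_normalizer_iff_map_conj] at hA hB ⊢
  rw [Subgroup.map_commutator, hA, hB]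

section ne

variable {M K U : Subgroup G} (h : Hyp M K U)
include h

/-- `C_M(M_F) ≤ M_σ` when `M_F ≠ M_σ`. -/
theorem cF_le_sigmaCore : cF M ≤ sigmaCore M := by
  have h1 := cF_le_U_sup h.hG h.hM h.hKU
  rwa [h.U_bot, bot_sup_eq] at h1

/-- `C_M(M_F)` is nilpotent when `M_F ≠ M_σ`. -/
theorem cF_nilpotent_of_ne : Group.IsNilpotent ↥(cF M) := by
  have hCN : cF M ≤ normalizer ((QOf M K : Subgroup G) : Set G) :=
    (cF_le M).trans h.M_le_normalizer_Q
  apply nilpotent_of_central_of_im hCN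
  · intro c hc z hz
    have h1 := (Subgroup.mem_inf.mp hc).2
    have h2 : z ∈ fittingHallOf M := h.Q_le_fittingHallOf (Subgroup.mem_inf.mp hz).2
    exact ((mem_centralizer_iff.mp h1) z h2).symm
  · exact nilp_of_le' (im_mono (cF_le_sigmaCore h))
      (h.isNilpotent_im h.Q_le h.M_le_normalizer_Q h.C_le_Q)

/-- `D'` centralizes `Q`. -/
theorem comm_derived_Q {D : Subgroup G} (hD : DHyp M K D) :
    ∀ d ∈ ⁅D, D⁆, ∀ x ∈ QOf M K, d * x = x * d := by
  obtain ⟨A, Y, cf⟩ := h.exists_cf hD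
  have hA : QOf M K ⊓ centralizer (D : Set G) = A := h.cent_eq hD cf
  have hY : Y = QOf M K := h.Y_eq_Q hD cf
  obtain ⟨-, -, -, -, hfd⟩ := h.frob_data hD cf
  intro d hd
  have hdD : d ∈ D := commutator_self_le D hd
  apply Cfsg.Agent.Lib.Helper9.mem_centralizer_of_stabilizes_pair (QOf M K) A (h.A_le_Q hD cf) d
  · exact Nat.Coprime.coprime_dvd_left (Subgroup.orderOf_dvd_natCard _ hdD) (h.D_cop_Q hD)
  · intro k hk
    exact (mem_centralizer_iff.mp (h.A_cent hD cf hk)) d hdD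
  · intro x hx
    have h1 := hfd d hd x (by rw [hY]; exact hx)
    have e : ⁅x, d⁆ = (d * x * d⁻¹ * x⁻¹)⁻¹ := by rw [commutatorElement_def]; group
    rw [e]
    exact A.inv_mem h1

/-- `M'' ≤ F(M)` when `M_F ≠ M_σ`. -/
theorem second_derived_le_of_ne : ⁅⁅M, M⁆, ⁅M, M⁆⁆ ≤ fittingOf M := by
  obtain ⟨D, hD⟩ := h.exists_dhyp
  have hMs : sigmaCore M = ⁅M, M⁆ := sigmaCore_eq_commutator h.hG h.hM h.hKU h.hnn
  rw [← hMs]
  have hDM : D ≤ M := (h.D_le hD).trans (sigmaCore_le M)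
  have hDN : D ≤ normalizer ((QOf M K : Subgroup G) : Set G) := hDM.trans h.M_le_normalizer_Q
  have h1 : ⁅sigmaCore M, sigmaCore M⁆ ≤ QOf M K ⊔ ⁅D, D⁆ :=
    commutator_le_sup hDN hD.compl.2.2.2
  have hnil : Group.IsNilpotent ↥(QOf M K ⊔ ⁅D, D⁆) :=
    nilp_sup_of_commute' h.Q_nil (nilp_of_le' (commutator_self_le D) (h.D_nil hD))
      (fun a ha b hb => (comm_derived_Q h hD b hb a ha).symm)
  set T := QOf M K ⊔ ⁅sigmaCore M, sigmaCore M⁆ with hT
  have hTle : T ≤ QOf M K ⊔ ⁅D, D⁆ := sup_le le_sup_left h1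
  have hTM : T ≤ M :=
    sup_le h.Q_le_M ((commutator_self_le _).trans (sigmaCore_le M))
  have hTn : M ≤ normalizer (T : Set G) := by
    intro m hm
    exact Cfsg.Agent.Lib.Helper9.BG144.mem_normalizer_sup (h.M_le_normalizer_Q hm)
      (mem_normalizer_commutator (le_normalizer_sigmaCore M hm) (le_normalizer_sigmaCore M hm))
  have := Cfsg.Agent.Lib.Helper17.PrimeAct.le_fittingOf T M hTM hTn (nilp_of_le' hTle hnil)
  exact le_sup_right.trans this

/-- the case `M_F ≠ M_σ` of Theorem I(b). -/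
theorem main_of_ne :
    ⁅⁅M, M⁆, ⁅M, M⁆⁆ ≤ fittingOf M ∧
    fittingOf M = (M ⊓ centralizer (fittingHallOf M : Set G)) ⊔ fittingHallOf M ∧
    fittingOf M ≤ ⁅M, M⁆ := by
  have hHF := Cfsg.Agent.Lib.Helper9.fittingHallOf_le_fittingOf M
  have hCF : cF M ≤ fittingOf M :=
    Cfsg.Agent.Lib.Helper17.PrimeAct.le_fittingOf (cF M) M (cF_le M) (le_normalizer_cF M)
      (cF_nilpotent_of_ne h)
  have h2 : fittingOf M = (M ⊓ centralizer (fittingHallOf M : Set G)) ⊔ fittingHallOf M :=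
    le_antisymm (fittingOf_le_sup M) (sup_le hCF hHF)
  refine ⟨second_derived_le_of_ne h, h2, ?_⟩
  rw [h2, ← sigmaCore_eq_commutator h.hG h.hM h.hKU h.hnn]
  exact sup_le (cF_le_sigmaCore h)
    (Cfsg.Agent.Lib.Helper9.BG144.fittingHallOf_le_sigmaCore h.hG h.hM)

end ne

/-- `κ(M) ≠ ∅` forces `K ≠ 1`. -/
theorem K_ne_bot_of_kappa {M K U : Subgroup G} (hKU : IsSigmaDecomposition M K U)
    (hκ : (kappa M).Nonempty) : K ≠ ⊥ := by
  obtain ⟨p, hp⟩ := hκ
  have hpp : p.Prime := hp.1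
  have hpM : p ∣ Nat.card M := hp.2.1
  have h1 := hKU.hall.2.2 p hpp hp
  have h2 := Cfsg.Agent.Lib.Helper20.card_mul_relIndex_of_le hKU.hall.1
  rw [← h2] at hpM
  rcases (Nat.Prime.dvd_mul hpp).mp hpM with h3 | h3
  · intro hK
    rw [hK, Subgroup.card_bot] at h3
    exact hpp.one_lt.ne' (Nat.dvd_one.mp h3)
  · exact absurd h3 h1

/-- **B&G Theorem I(b)** (S1356). -/
theorem thmIb (hG : IsMinSimpleOddOrder G) (M : Subgroup G) (hM : IsCoatom M) :
    ⁅⁅M, M⁆, ⁅M, M⁆⁆ ≤ fittingOf M ∧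
    fittingOf M = (M ⊓ centralizer (fittingHallOf M : Set G)) ⊔ fittingHallOf M ∧
    ((kappa M).Nonempty → fittingOf M ≤ ⁅M, M⁆) := by
  obtain ⟨K, U, hKU⟩ := Cfsg.Agent.Lib.Helper16.BGTy.exists_sigmaDecomposition hG hM
  by_cases heq : fittingHallOf M = sigmaCore M
  · obtain ⟨h1, h2, h3⟩ := main_of_eq hG hM hKU heq
    exact ⟨h1, h2, fun hκ => h3 (K_ne_bot_of_kappa hKU hκ)⟩
  · have h : Hyp M K U := thm15_2_of hG hM hKU heq
      (fun hK1 hU => Cfsg.Agent.S1373.result hG M hM K U hKU hK1 hU)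
    obtain ⟨h1, h2, h3⟩ := main_of_ne h
    exact ⟨h1, h2, fun _ => h3⟩

end Cfsg.Agent.Lib.Helper23.BG15B
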