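/- helper23: abstract counting for the (P)-(regular P1) pair: helper24's `false_of_typeP_pair`
with the TI hypothesis on `H_σ` replaced by an arbitrary set `S` of the right size, disjoint from
the conjugates of the two other families. -/
import Mathlib
import Cfsg.Agent.Lib.Helper24.BGCount

set_option autoImplicit false

namespace Cfsg.Agent.Lib.Helper23.BGPReg

open Cfsg.Agent.Lib.Helper24.BGCount

variable {G : Type*} [Group G]

/-- **counting**: two TI-sets `A₁, A₃` with "normalizers" `N₁, N₃`, and a set `S`, all avoiding `1`,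
no conjugate of an element of `A₁` in `A₃ ∪ S`, no conjugate of an element of `A₃` in `S`. -/
theorem card_add_one_le_set [Finite G] {A₁ A₃ S : Set G} {N₁ N₃ : Subgroup G}
    (hTI₁ : ∀ g : G, ∀ a ∈ A₁, g * a * g⁻¹ ∈ A₁ → g ∈ N₁)
    (hTI₃ : ∀ g : G, ∀ a ∈ A₃, g * a * g⁻¹ ∈ A₃ → g ∈ N₃)
    (h1₁ : (1 : G) ∉ A₁) (h1₃ : (1 : G) ∉ A₃) (h1S : (1 : G) ∉ S)
    (hd₁₃ : ∀ g : G, ∀ a ∈ A₁, g * a * g⁻¹ ∉ A₃)
    (hd₁S : ∀ g : G, ∀ a ∈ A₁, g * a * g⁻¹ ∉ S)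
    (hd₃S : ∀ g : G, ∀ a ∈ A₃, g * a * g⁻¹ ∉ S) :
    Nat.card A₁ * N₁.index + S.ncard + Nat.card A₃ * N₃.index + 1 ≤ Nat.card G := by
  let Φ : Option (((G ⧸ N₁) × A₁) ⊕ (S ⊕ ((G ⧸ N₃) × A₃))) → G := fun x =>
    match x with
    | none => 1
    | some (Sum.inl x) => cmap N₁ A₁ x
    | some (Sum.inr (Sum.inl x)) => (x : G)
    | some (Sum.inr (Sum.inr x)) => cmap N₃ A₃ x
  have hcS₁ : ∀ (x : (G ⧸ N₁) × A₁) (s : S), cmap N₁ A₁ x ≠ (s : G) := by
    rintro ⟨c, a⟩ s h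
    exact hd₁S c.out a a.2 (by unfold cmap at h; simp only at h; rw [h]; exact s.2)
  have hcS₃ : ∀ (x : (G ⧸ N₃) × A₃) (s : S), cmap N₃ A₃ x ≠ (s : G) := by
    rintro ⟨c, a⟩ s h
    exact hd₃S c.out a a.2 (by unfold cmap at h; simp only at h; rw [h]; exact s.2)
  have hS1 : ∀ s : S, (s : G) ≠ 1 := fun s h => h1S (h ▸ s.2)
  have hinj : Function.Injective Φ := by
    intro x y hxy
    match x, y with
    | none, none => rfl
    | none, some (Sum.inl y) => exact absurd hxy.symm (cmap_ne_one h1₁ y)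
    | none, some (Sum.inr (Sum.inl y)) => exact absurd hxy.symm (hS1 y)
    | none, some (Sum.inr (Sum.inr y)) => exact absurd hxy.symm (cmap_ne_one h1₃ y)
    | some (Sum.inl x), none => exact absurd hxy (cmap_ne_one h1₁ x)
    | some (Sum.inr (Sum.inl x)), none => exact absurd hxy (hS1 x)
    | some (Sum.inr (Sum.inr x)), none => exact absurd hxy (cmap_ne_one h1₃ x)
    | some (Sum.inl x), some (Sum.inl y) => rw [cmap_eq_iff hTI₁ hxy]
    | some (Sum.inl x), some (Sum.inr (Sum.inl y)) => exact absurd hxy (hcS₁ x y)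
    | some (Sum.inl x), some (Sum.inr (Sum.inr y)) => exact absurd hxy (cmap_ne_of_disjoint hd₁₃ x y)
    | some (Sum.inr (Sum.inl x)), some (Sum.inl y) => exact absurd hxy.symm (hcS₁ y x)
    | some (Sum.inr (Sum.inl x)), some (Sum.inr (Sum.inl y)) =>
        have : x = y := Subtype.ext hxy
        rw [this]
    | some (Sum.inr (Sum.inl x)), some (Sum.inr (Sum.inr y)) => exact absurd hxy.symm (hcS₃ y x)
    | some (Sum.inr (Sum.inr x)), some (Sum.inl y) =>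
        exact absurd hxy.symm (cmap_ne_of_disjoint hd₁₃ y x)
    | some (Sum.inr (Sum.inr x)), some (Sum.inr (Sum.inl y)) => exact absurd hxy (hcS₃ x y)
    | some (Sum.inr (Sum.inr x)), some (Sum.inr (Sum.inr y)) => rw [cmap_eq_iff hTI₃ hxy]
  have hcard := Nat.card_le_card_of_injective Φ hinj
  have e : Nat.card (Option (((G ⧸ N₁) × A₁) ⊕ (S ⊕ ((G ⧸ N₃) × A₃)))) =
      Nat.card A₁ * N₁.index + S.ncard + Nat.card A₃ * N₃.index + 1 := by
    rw [Finite.card_option, Nat.card_sum, Nat.card_sum, Nat.card_prod, Nat.card_prod,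
      Subgroup.index, Subgroup.index, ← Nat.card_coe_set_eq S]
    ring
  rw [e] at hcard
  exact hcard

/-- the arithmetic, with an inequality for the middle family. -/
theorem arith_false' {g i₁ i₂ i₃ m h e f s : ℤ} (hg : 0 < g) (hm : 0 < m) (hh : 0 < h) (he : 0 < e)
    (hf : 0 < f) (H1 : i₁ * (m * e) = g) (H2 : i₂ * (h * f) = g) (H3 : i₃ * (e * f) = g)
    (Hs : (h - 1) * i₂ ≤ s)
    (H4 : (m - 1) * i₁ + s + (e - 1) * (f - 1) * i₃ + 1 ≤ g) (H5 : 3 * f ≤ m)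
    (H6 : 3 * e ≤ h) : False :=
  arith_false hg hm hh he hf H1 H2 H3 (by linarith) H5 H6

/-- **the counting argument** for a pair `M = M_σ E`, `H = H_σ F` (`E ≤ H_σ`, `F ≤ M_σ` commuting
elementwise, `(|M_σ|, |H_σ|) = 1`) where `M_σ` is TI with normalizer `M`, the products `e f` form a
TI-set with normalizer `E F`, and instead of `H_σ` being TI there is a set `S` with
`|S| ≥ (|H_σ| - 1) |G : H|`, `1 ∉ S`, containing no conjugate of an element of `M_σ^#` nor of a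
product `e f`. -/
theorem false_of_typeP_pair_tilde [Finite G] {M H Ms Hs E F : Subgroup G} {S : Set G}
    (hcop : (Nat.card Ms).Coprime (Nat.card Hs)) (hEH : E ≤ Hs) (hFM : F ≤ Ms)
    (hEF : ∀ e ∈ E, ∀ f ∈ F, e * f = f * e)
    (hMc : Nat.card M = Nat.card Ms * Nat.card E) (hHc : Nat.card H = Nat.card Hs * Nat.card F)
    (hTIM : ∀ g : G, ∀ a ∈ Ms, a ≠ 1 → g * a * g⁻¹ ∈ Ms → g ∈ M)
    (hTIZ : ∀ g : G, ∀ e ∈ E, e ≠ 1 → ∀ f ∈ F, f ≠ 1 → ∀ e' ∈ E, e' ≠ 1 → ∀ f' ∈ F, f' ≠ 1 →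
      g * (e * f) * g⁻¹ = e' * f' → g ∈ E ⊔ F)
    (hS1 : (1 : G) ∉ S)
    (hScard : (Nat.card Hs - 1) * H.index ≤ S.ncard)
    (hSM : ∀ g : G, ∀ a ∈ Ms, a ≠ 1 → g * a * g⁻¹ ∉ S)
    (hSZ : ∀ g : G, ∀ e ∈ E, e ≠ 1 → ∀ f ∈ F, f ≠ 1 → g * (e * f) * g⁻¹ ∉ S)
    (h3f : 3 * Nat.card F ≤ Nat.card Ms) (h3e : 3 * Nat.card E ≤ Nat.card Hs) : False := by
  set A₁ : Set G := (Ms : Set G) \ {1} with hA₁
  set A₃ : Set G := (fun x : G × G => x.1 * x.2) '' (((E : Set G) \ {1}) ×ˢ ((F : Set G) \ {1}))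
    with hA₃
  have hEFbot : E ⊓ F = ⊥ := by
    have h1 : (Nat.card E).Coprime (Nat.card F) :=
      Nat.Coprime.coprime_dvd_left (Subgroup.card_dvd_of_le hEH)
        (Nat.Coprime.coprime_dvd_right (Subgroup.card_dvd_of_le hFM) hcop.symm)
    exact (Subgroup.disjoint_of_coprime_natCard h1).eq_bot
  have hconj_pow : ∀ (g a : G) (n : ℕ), (g * a * g⁻¹) ^ n = g * a ^ n * g⁻¹ := fun g a n =>
    conj_pow
  have hc₁ : Nat.card A₁ + 1 = Nat.card Ms := by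
    rw [Nat.card_coe_set_eq, hA₁,
      Set.ncard_sdiff_singleton_add_one (Ms.one_mem) (Set.toFinite _), ← Nat.card_coe_set_eq]
    rfl
  have hcE : ((E : Set G) \ {1}).ncard + 1 = Nat.card E := by
    rw [Set.ncard_sdiff_singleton_add_one (E.one_mem) (Set.toFinite _), ← Nat.card_coe_set_eq]
    rfl
  have hcF : ((F : Set G) \ {1}).ncard + 1 = Nat.card F := by
    rw [Set.ncard_sdiff_singleton_add_one (F.one_mem) (Set.toFinite _), ← Nat.card_coe_set_eq]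
    rfl
  have hinjOn : Set.InjOn (fun x : G × G => x.1 * x.2)
      (((E : Set G) \ {1}) ×ˢ ((F : Set G) \ {1})) := by
    rintro ⟨e, f⟩ ⟨he, hf⟩ ⟨e', f'⟩ ⟨he', hf'⟩ h
    simp only at h
    have heE : e ∈ E := he.1
    have hfF : f ∈ F := hf.1
    have he'E : e' ∈ E := he'.1
    have hf'F : f' ∈ F := hf'.1
    have h1 : e'⁻¹ * e = f' * f⁻¹ := by
      have : e'⁻¹ * (e * f) * f⁻¹ = e'⁻¹ * (e' * f') * f⁻¹ := by rw [h]
      calc e'⁻¹ * e = e'⁻¹ * (e * f) * f⁻¹ := by group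
        _ = e'⁻¹ * (e' * f') * f⁻¹ := this
        _ = f' * f⁻¹ := by group
    have h2 : e'⁻¹ * e ∈ E ⊓ F :=
      Subgroup.mem_inf.mpr ⟨E.mul_mem (E.inv_mem he'E) heE, h1 ▸ F.mul_mem hf'F (F.inv_mem hfF)⟩
    rw [hEFbot, Subgroup.mem_bot] at h2
    have h3 : e = e' := by
      have := congrArg (fun z => e' * z) h2
      simpa using this
    have h4 : f' * f⁻¹ = 1 := by rw [← h1, h2]
    have h5 : f = f' := by
      have := congrArg (fun z => z * f) h4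
      simpa using this.symm
    rw [h3, h5]
  have hc₃ : Nat.card A₃ = ((E : Set G) \ {1}).ncard * ((F : Set G) \ {1}).ncard := by
    rw [Nat.card_coe_set_eq, hA₃, hinjOn.ncard_image, Set.ncard_prod]
  have hTI₁ : ∀ g : G, ∀ a ∈ A₁, g * a * g⁻¹ ∈ A₁ → g ∈ M := fun g a ha hga =>
    hTIM g a ha.1 (fun h => ha.2 (Set.mem_singleton_iff.mpr h)) hga.1
  have hTI₃ : ∀ g : G, ∀ a ∈ A₃, g * a * g⁻¹ ∈ A₃ → g ∈ E ⊔ F := by
    rintro g _ ⟨⟨e, f⟩, ⟨he, hf⟩, rfl⟩ ⟨⟨e', f'⟩, ⟨he', hf'⟩, h⟩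
    exact hTIZ g e he.1 (fun h => he.2 (Set.mem_singleton_iff.mpr h)) f hf.1
      (fun h => hf.2 (Set.mem_singleton_iff.mpr h)) e' he'.1
      (fun h => he'.2 (Set.mem_singleton_iff.mpr h)) f' hf'.1
      (fun h => hf'.2 (Set.mem_singleton_iff.mpr h)) h.symm
  have h1₁ : (1 : G) ∉ A₁ := fun h => h.2 rfl
  have h1₃ : (1 : G) ∉ A₃ := by
    rintro ⟨⟨e, f⟩, ⟨he, hf⟩, h⟩
    simp only at h
    have h2 : e ∈ E ⊓ F := by
      refine Subgroup.mem_inf.mpr ⟨he.1, ?_⟩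
      have : e = f⁻¹ := eq_inv_of_mul_eq_one_left h
      rw [this]
      exact F.inv_mem hf.1
    rw [hEFbot, Subgroup.mem_bot] at h2
    exact he.2 (Set.mem_singleton_iff.mpr h2)
  have hd₁₃ : ∀ g : G, ∀ a ∈ A₁, g * a * g⁻¹ ∉ A₃ := by
    rintro g a ha ⟨⟨e, f⟩, ⟨he, hf⟩, h⟩
    simp only at h
    apply he.2
    rw [Set.mem_singleton_iff]
    have h1 : (e * f) ^ Nat.card Ms = 1 := by
      rw [h, hconj_pow, pow_card_eq_one_of_mem ha.1]
      group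
    have hc : Commute e f := hEF e he.1 f hf.1
    rw [hc.mul_pow, pow_card_eq_one_of_mem (hFM hf.1), mul_one] at h1
    exact eq_one_of_pow_pow_coprime hcop h1 (pow_card_eq_one_of_mem (hEH he.1))
  have hd₁S : ∀ g : G, ∀ a ∈ A₁, g * a * g⁻¹ ∉ S := fun g a ha =>
    hSM g a ha.1 (fun h => ha.2 (Set.mem_singleton_iff.mpr h))
  have hd₃S : ∀ g : G, ∀ a ∈ A₃, g * a * g⁻¹ ∉ S := by
    rintro g _ ⟨⟨e, f⟩, ⟨he, hf⟩, rfl⟩
    exact hSZ g e he.1 (fun h => he.2 (Set.mem_singleton_iff.mpr h)) f hf.1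
      (fun h => hf.2 (Set.mem_singleton_iff.mpr h))
  have hcount := card_add_one_le_set hTI₁ hTI₃ h1₁ h1₃ hS1 hd₁₃ hd₁S hd₃S
  have hi₁ : M.index * (Nat.card Ms * Nat.card E) = Nat.card G := by
    rw [← hMc]; exact M.index_mul_card
  have hi₂ : H.index * (Nat.card Hs * Nat.card F) = Nat.card G := by
    rw [← hHc]; exact H.index_mul_card
  have hi₃ : (E ⊔ F).index * (Nat.card E * Nat.card F) = Nat.card G := by
    rw [← card_sup_of_commute hEF hEFbot]; exact (E ⊔ F).index_mul_card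
  rw [hc₃] at hcount
  have hm : (Nat.card A₁ : ℤ) = (Nat.card Ms : ℤ) - 1 := by rw [← hc₁]; push_cast; ring
  have he : ((((E : Set G) \ {1}).ncard : ℕ) : ℤ) = (Nat.card E : ℤ) - 1 := by
    rw [← hcE]; push_cast; ring
  have hf : ((((F : Set G) \ {1}).ncard : ℕ) : ℤ) = (Nat.card F : ℤ) - 1 := by
    rw [← hcF]; push_cast; ring
  have hHs1 : 1 ≤ Nat.card Hs := Nat.card_pos
  have hsZ : ((Nat.card Hs : ℤ) - 1) * (H.index : ℤ) ≤ (S.ncard : ℤ) := by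
    have := (Nat.cast_le (α := ℤ)).mpr hScard
    push_cast [Nat.cast_sub hHs1] at this
    exact this
  have hcountZ : ((Nat.card Ms : ℤ) - 1) * (M.index : ℤ) + (S.ncard : ℤ) +
      ((Nat.card E : ℤ) - 1) * ((Nat.card F : ℤ) - 1) * ((E ⊔ F).index : ℤ) + 1 ≤
      (Nat.card G : ℤ) := by
    have := (Nat.cast_le (α := ℤ)).mpr hcount
    push_cast at this
    rw [hm, he, hf] at this
    exact this
  refine arith_false' (g := (Nat.card G : ℤ)) (i₁ := (M.index : ℤ)) (i₂ := (H.index : ℤ))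
    (i₃ := ((E ⊔ F).index : ℤ)) (m := (Nat.card Ms : ℤ)) (h := (Nat.card Hs : ℤ))
    (e := (Nat.card E : ℤ)) (f := (Nat.card F : ℤ)) (s := (S.ncard : ℤ))
    ?_ ?_ ?_ ?_ ?_ ?_ ?_ ?_ hsZ hcountZ ?_ ?_
  · exact_mod_cast Nat.card_pos
  · exact_mod_cast Nat.card_pos
  · exact_mod_cast Nat.card_pos
  · exact_mod_cast Nat.card_pos
  · exact_mod_cast Nat.card_pos
  · exact_mod_cast hi₁
  · exact_mod_cast hi₂
  · exact_mod_cast hi₃
  · exact_mod_cast h3f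
  · exact_mod_cast h3e

end Cfsg.Agent.Lib.Helper23.BGPReg
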