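/- helper23: the set `H~ = tildeOf H (H_σ^#)` is disjoint from the conjugates of `M_σ^#` and of
the products `e f` (for the (P)-(regular P1) counting). Hypothesis form: `SP G`, `H1428 G`. -/
import Mathlib
import Cfsg.Agent.Lib.Helper9.BG144C
import Cfsg.Agent.Lib.Helper9.Basic
import Cfsg.Agent.Lib.Helper24.BGCount

set_option autoImplicit false
set_option linter.style.haveILetI false

namespace Cfsg.Agent.Lib.Helper23.BGPReg

open Cfsg
open Cfsg.Agent.Lib.Helper9.BG144 (SP thm14_4 sigmaCore_eq_fittingHallOf)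
open Cfsg.Agent.Lib.Helper17.BGR2 (H1428)
open Cfsg.Agent.Lib.Helper2.BGCor (sigmaCore_le primes_card_sigmaCore)
open Cfsg.Agent.Lib.Helper16.BGPrim (sigma_map_conj)
open Cfsg.Agent.Lib.Helper24.BGCount (eq_one_of_pow_pow_coprime pow_card_eq_one_of_mem)

variable {G : Type*} [Group G]

/-- `τ₂` is invariant under conjugation (one direction suffices). -/
theorem mem_tau2_of_map_conj [Finite G] {M : Subgroup G} {p : ℕ} {g : G}
    (hp : p ∈ Cfsg.tau2 (M.map (MulAut.conj g).toMonoidHom)) : p ∈ Cfsg.tau2 M := by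
  obtain ⟨hpp, hσ, h2, h1⟩ := hp
  have e : ↥M ≃* ↥(M.map (MulAut.conj g).toMonoidHom) :=
    M.equivMapOfInjective _ (MulAut.conj g).injective
  refine ⟨hpp, fun h => hσ (sigma_map_conj h g), ?_, ?_⟩
  · exact (Cfsg.Agent.Lib.Helper9.pRankLE_congr e p 2).mpr h2
  · exact fun h => h1 ((Cfsg.Agent.Lib.Helper9.pRankLE_congr e p 1).mp h)

/-- the shape of `R(a)` for `a ∈ H_σ^#` (B & G 14.4): either `r = 1` or `r ∈ C_{N_σ}(a)` for the
maximal subgroup `N` over `C_G(a)`, with `N_σ ∩ H = 1` and `a` a `τ₂(N)`-element. -/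
theorem supportR_cases [Finite G] (hG : Cfsg.IsMinSimpleOddOrder G) (hSP : SP G) (h28 : H1428 G)
    {H : Subgroup G} (hH : IsCoatom H) {a : G} (ha : a ∈ Cfsg.sigmaCore H) (ha1 : a ≠ 1) {r : G}
    (hr : r ∈ Cfsg.supportR H a) :
    r = 1 ∨ ∃ N : Subgroup G, IsCoatom N ∧ Cfsg.sigmaCore N ⊓ H = ⊥ ∧ r ∈ Cfsg.sigmaCore N ∧
      r * a = a * r ∧ ∀ p : ℕ, p.Prime → p ∣ orderOf a → p ∈ Cfsg.tau2 N := by
  unfold Cfsg.supportR at hr
  split_ifs at hr with h
  · right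
    obtain ⟨N, hN, -, -, hu, hnil, hNH, -, hτ2, -⟩ := thm14_4 hG hSP h28 hH ha ha1 h.1
    have hL := Classical.choose_spec h.2.exists
    have hLN : Classical.choose h.2.exists = N := hu _ hL.1 hL.2
    rw [hLN, ← sigmaCore_eq_fittingHallOf hG hN hnil] at hr
    refine ⟨N, hN, hNH, hr.1, ?_, hτ2⟩
    exact Subgroup.mem_centralizer_iff.mp hr.2 a rfl |>.symm
  · left
    exact Subgroup.mem_bot.mp hr

/-- `1 ∉ H~`. -/
theorem one_not_mem_tilde [Finite G] (hG : Cfsg.IsMinSimpleOddOrder G) (hSP : SP G)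
    (h28 : H1428 G) {H : Subgroup G} (hH : IsCoatom H) :
    (1 : G) ∉ Cfsg.tildeOf H ((Cfsg.sigmaCore H : Set G) \ {1}) := by
  rintro ⟨a, ⟨ha, ha1⟩, r, hr, y, hy⟩
  have ha1' : a ≠ 1 := fun h => ha1 (Set.mem_singleton_iff.mpr h)
  have h1 : a * r = 1 := by
    have := congrArg (fun z => y⁻¹ * z * y) hy
    simp only [mul_one, inv_mul_cancel] at this
    rw [this]; group
  rcases supportR_cases hG hSP h28 hH ha ha1' hr with rfl | ⟨N, -, hNH, hrN, -, -⟩
  · exact ha1' (by simpa using h1)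
  · have h2 : r = a⁻¹ := eq_inv_of_mul_eq_one_right h1
    have h3 : r ∈ Cfsg.sigmaCore N ⊓ H :=
      ⟨hrN, h2 ▸ H.inv_mem (sigmaCore_le H ha)⟩
    rw [hNH, Subgroup.mem_bot] at h3
    rw [h3, mul_one] at h1
    exact ha1' h1

/-- no element of `H~` lies in a conjugate of `M_σ` when `(|M_σ|, |H_σ|) = 1`. -/
theorem tilde_not_mem_conj [Finite G] (hG : Cfsg.IsMinSimpleOddOrder G) (hSP : SP G)
    (h28 : H1428 G) {H : Subgroup G} (hH : IsCoatom H) {Ms : Subgroup G}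
    (hcop : (Nat.card Ms).Coprime (Nat.card (Cfsg.sigmaCore H)))
    (g : G) {b : G} (hb : b ∈ Ms) :
    g * b * g⁻¹ ∉ Cfsg.tildeOf H ((Cfsg.sigmaCore H : Set G) \ {1}) := by
  rintro ⟨a, ⟨ha, ha1⟩, r, hr, y, hy⟩
  have ha1' : a ≠ 1 := fun h => ha1 (Set.mem_singleton_iff.mpr h)
  apply ha1'
  -- `(a r)^{|Ms|} = 1`
  have h1 : (a * r) ^ Nat.card Ms = 1 := by
    have e : a * r = (y⁻¹ * g) * b * (y⁻¹ * g)⁻¹ := by
      calc a * r = y⁻¹ * (y * (a * r) * y⁻¹) * y := by group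
        _ = y⁻¹ * (g * b * g⁻¹) * y := by rw [← hy]
        _ = (y⁻¹ * g) * b * (y⁻¹ * g)⁻¹ := by group
    rw [e, conj_pow, pow_card_eq_one_of_mem hb]; group
  have h2 : a ^ Nat.card (Cfsg.sigmaCore H) = 1 := pow_card_eq_one_of_mem ha
  rcases supportR_cases hG hSP h28 hH ha ha1' hr with rfl | ⟨N, -, hNH, hrN, hra, -⟩
  · rw [mul_one] at h1
    exact eq_one_of_pow_pow_coprime hcop h1 h2
  · have hc : Commute a r := hra.symm
    rw [hc.mul_pow] at h1
    have h3 : r ^ Nat.card Ms = (a ^ Nat.card Ms)⁻¹ := eq_inv_of_mul_eq_one_right h1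
    have h4 : r ^ Nat.card Ms ∈ Cfsg.sigmaCore N ⊓ H :=
      ⟨Subgroup.pow_mem _ hrN _, h3 ▸ H.inv_mem (H.pow_mem (sigmaCore_le H ha) _)⟩
    rw [hNH, Subgroup.mem_bot] at h4
    rw [h4, mul_one] at h1
    exact eq_one_of_pow_pow_coprime hcop h1 h2

/-- no conjugate of a product `e f` (`e ∈ H_σ`, `f ∈ M_σ^#` commuting, `(|M_σ|, |H_σ|) = 1`,
`τ₂(M) = ∅`) lies in `H~`. -/
theorem tilde_ne_conj_mul [Finite G] (hG : Cfsg.IsMinSimpleOddOrder G) (hSP : SP G)
    (h28 : H1428 G) {H M : Subgroup G} (hH : IsCoatom H) (hM : IsCoatom M)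
    (hcop : (Nat.card (Cfsg.sigmaCore M)).Coprime (Nat.card (Cfsg.sigmaCore H)))
    (hτ2 : ∀ p : ℕ, p ∉ Cfsg.tau2 M)
    (g : G) {e f : G} (he : e ∈ Cfsg.sigmaCore H) (hf : f ∈ Cfsg.sigmaCore M) (hf1 : f ≠ 1)
    (hef : e * f = f * e) :
    g * (e * f) * g⁻¹ ∉ Cfsg.tildeOf H ((Cfsg.sigmaCore H : Set G) \ {1}) := by
  rintro ⟨a, ⟨ha, ha1⟩, r, hr, y, hy⟩
  have ha1' : a ≠ 1 := fun h => ha1 (Set.mem_singleton_iff.mpr h)
  set m := Nat.card (Cfsg.sigmaCore H) with hm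
  -- `a r` is conjugate to `e f`
  have e1 : a * r = (y⁻¹ * g) * (e * f) * (y⁻¹ * g)⁻¹ := by
    calc a * r = y⁻¹ * (y * (a * r) * y⁻¹) * y := by group
      _ = y⁻¹ * (g * (e * f) * g⁻¹) * y := by rw [← hy]
      _ = (y⁻¹ * g) * (e * f) * (y⁻¹ * g)⁻¹ := by group
  have hfm : f ^ m ≠ 1 := by
    intro h
    exact hf1 (eq_one_of_pow_pow_coprime hcop (pow_card_eq_one_of_mem hf) h)
  have hem : e ^ m = 1 := pow_card_eq_one_of_mem he
  have ham : a ^ m = 1 := pow_card_eq_one_of_mem ha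
  rcases supportR_cases hG hSP h28 hH ha ha1' hr with rfl | ⟨N, hN, hNH, hrN, hra, hτ⟩
  · -- `r = 1`: then `f^m = 1`
    apply hfm
    have h2 := congrArg (fun z => z ^ m) e1
    simp only [mul_one] at h2
    rw [ham, conj_pow, (show Commute e f from hef).mul_pow, hem, one_mul] at h2
    have h3 := congrArg (fun z => (y⁻¹ * g)⁻¹ * z * (y⁻¹ * g)) h2
    simp only [mul_one, inv_mul_cancel] at h3
    rw [h3]; group
  · -- `r^m` is conjugate to `f^m`
    have hc : Commute a r := hra.symm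
    have h2 : r ^ m = (y⁻¹ * g) * f ^ m * (y⁻¹ * g)⁻¹ := by
      have := congrArg (fun z => z ^ m) e1
      rwa [hc.mul_pow, ham, one_mul, conj_pow, (show Commute e f from hef).mul_pow, hem,
        one_mul] at this
    have hrm1 : r ^ m ≠ 1 := by
      intro h
      apply hfm
      rw [h] at h2
      have h3 := congrArg (fun z => (y⁻¹ * g)⁻¹ * z * (y⁻¹ * g)) h2
      simp only [mul_one, inv_mul_cancel] at h3
      rw [h3]; group
    -- a prime `q` dividing the order of `r^m`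
    have ho1 : orderOf (r ^ m) ≠ 1 := fun h => hrm1 (orderOf_eq_one_iff.mp h)
    obtain ⟨q, hq, hqd⟩ := Nat.exists_prime_and_dvd ho1
    have hqN : q ∈ Cfsg.sigma N := by
      apply primes_card_sigmaCore N q hq
      have h3 : orderOf (r ^ m) ∣ Nat.card (Cfsg.sigmaCore N) :=
        orderOf_dvd_of_pow_eq_one (pow_card_eq_one_of_mem (Subgroup.pow_mem _ hrN _))
      exact hqd.trans h3
    have hqM : q ∈ Cfsg.sigma M := by
      apply primes_card_sigmaCore M q hq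
      have h3 : orderOf (r ^ m) ∣ Nat.card (Cfsg.sigmaCore M) := by
        apply orderOf_dvd_of_pow_eq_one
        rw [h2, conj_pow, pow_card_eq_one_of_mem (Subgroup.pow_mem _ hf _)]; group
      exact hqd.trans h3
    obtain ⟨k, hk⟩ := hSP M N hM hN ⟨q, hqM, hqN⟩
    -- a prime `p` dividing the order of `a` lies in `τ₂(N) = τ₂(M^k) = ∅`
    have hoa : orderOf a ≠ 1 := fun h => ha1' (orderOf_eq_one_iff.mp h)
    obtain ⟨p, hp, hpd⟩ := Nat.exists_prime_and_dvd hoa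
    have hpN := hτ p hp hpd
    rw [hk] at hpN
    exact hτ2 p (mem_tau2_of_map_conj hpN)

end Cfsg.Agent.Lib.Helper23.BGPReg
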