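/- helper23: general forms of the disjointness lemmas for `N~ = tildeOf N (N_σ^#)` needed for the
n-ary (P)-configuration counting (helper27's (3), (4)). Hypothesis form: `SP G`, `H1428 G`. -/
import Mathlib
import Cfsg.Agent.Lib.Helper23.BGPRegB

set_option autoImplicit false
set_option linter.style.haveILetI false

namespace Cfsg.Agent.Lib.Helper23.BGPReg

open Cfsg
open Cfsg.Agent.Lib.Helper9.BG144 (SP thm14_4 sigmaCore_eq_fittingHallOf)
open Cfsg.Agent.Lib.Helper17.BGR2 (H1428)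
open Cfsg.Agent.Lib.Helper2.BGCor (sigmaCore_le primes_card_sigmaCore)
open Cfsg.Agent.Lib.Helper16.BGPrim (sigma_map_conj)
open Cfsg.Agent.Lib.Helper24.BGCount (eq_one_of_pow_pow_coprime pow_card_eq_one_of_mem)

variable {G : Type*} [Group G]

/-- if `τ₂(N) = ∅ ≠ τ₂(L)` then `|N_σ|` and `|L_σ|` are coprime (`σ`-partition). -/
theorem coprime_card_sigmaCore_of_tau2 [Finite G] (hSP : SP G) {N L : Subgroup G}
    (hN : IsCoatom N) (hL : IsCoatom L) (hτN : ∀ p : ℕ, p ∉ Cfsg.tau2 N) {p : ℕ}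
    (hp : p ∈ Cfsg.tau2 L) :
    (Nat.card (Cfsg.sigmaCore N)).Coprime (Nat.card (Cfsg.sigmaCore L)) := by
  apply Nat.coprime_of_dvd
  intro q hq h1 h2
  obtain ⟨k, hk⟩ := hSP N L hN hL
    ⟨q, primes_card_sigmaCore N q hq h1, primes_card_sigmaCore L q hq h2⟩
  rw [hk] at hp
  exact hτN p (mem_tau2_of_map_conj hp)

/-- non-conjugate maximal subgroups have coprime `|N_σ|`, `|N'_σ|` (`σ`-partition). -/
theorem coprime_card_sigmaCore_of_not_conj [Finite G] (hSP : SP G) {N N' : Subgroup G}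
    (hN : IsCoatom N) (hN' : IsCoatom N')
    (hnc : ∀ g : G, N' ≠ N.map (MulAut.conj g).toMonoidHom) :
    (Nat.card (Cfsg.sigmaCore N)).Coprime (Nat.card (Cfsg.sigmaCore N')) := by
  apply Nat.coprime_of_dvd
  intro q hq h1 h2
  obtain ⟨k, hk⟩ := hSP N N' hN hN'
    ⟨q, primes_card_sigmaCore N q hq h1, primes_card_sigmaCore N' q hq h2⟩
  exact hnc k hk

/-- **(ii')**: let `z = e w` with `e ∈ H_σ`, `w ≠ 1` commuting with `e`, the order of `w` prime to
`|H_σ|`, and every prime divisor of the order of `w` in `σ(L)` for some maximal `L` with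
`τ₂(L) = ∅`.  Then no conjugate of `z` lies in `H~`. -/
theorem tilde_ne_conj_mul' [Finite G] (hG : Cfsg.IsMinSimpleOddOrder G) (hSP : SP G)
    (h28 : H1428 G) {H : Subgroup G} (hH : IsCoatom H)
    (g : G) {e w : G} (he : e ∈ Cfsg.sigmaCore H) (hw1 : w ≠ 1) (hew : e * w = w * e)
    (hwcop : (orderOf w).Coprime (Nat.card (Cfsg.sigmaCore H)))
    (hwσ : ∀ q : ℕ, q.Prime → q ∣ orderOf w → ∃ L : Subgroup G, IsCoatom L ∧ q ∈ Cfsg.sigma L ∧
      ∀ p : ℕ, p ∉ Cfsg.tau2 L) :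
    g * (e * w) * g⁻¹ ∉ Cfsg.tildeOf H ((Cfsg.sigmaCore H : Set G) \ {1}) := by
  rintro ⟨a, ⟨ha, ha1⟩, r, hr, y, hy⟩
  have ha1' : a ≠ 1 := fun h => ha1 (Set.mem_singleton_iff.mpr h)
  set m := Nat.card (Cfsg.sigmaCore H) with hm
  have e1 : a * r = (y⁻¹ * g) * (e * w) * (y⁻¹ * g)⁻¹ := by
    calc a * r = y⁻¹ * (y * (a * r) * y⁻¹) * y := by group
      _ = y⁻¹ * (g * (e * w) * g⁻¹) * y := by rw [← hy]
      _ = (y⁻¹ * g) * (e * w) * (y⁻¹ * g)⁻¹ := by group
  have hwm : w ^ m ≠ 1 := by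
    intro h
    exact hw1 (eq_one_of_pow_pow_coprime hwcop (pow_orderOf_eq_one w) h)
  have hem : e ^ m = 1 := pow_card_eq_one_of_mem he
  have ham : a ^ m = 1 := pow_card_eq_one_of_mem ha
  rcases supportR_cases hG hSP h28 hH ha ha1' hr with rfl | ⟨N, hN, hNH, hrN, hra, hτ⟩
  · apply hwm
    have h2 := congrArg (fun z => z ^ m) e1
    simp only [mul_one] at h2
    rw [ham, conj_pow, (show Commute e w from hew).mul_pow, hem, one_mul] at h2
    have h3 := congrArg (fun z => (y⁻¹ * g)⁻¹ * z * (y⁻¹ * g)) h2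
    simp only [mul_one, inv_mul_cancel] at h3
    rw [h3]; group
  · have hc : Commute a r := hra.symm
    have h2 : r ^ m = (y⁻¹ * g) * w ^ m * (y⁻¹ * g)⁻¹ := by
      have := congrArg (fun z => z ^ m) e1
      beta_reduce at this
      rwa [hc.mul_pow, ham, one_mul, conj_pow, (show Commute e w from hew).mul_pow, hem,
        one_mul] at this
    have hrm1 : r ^ m ≠ 1 := by
      intro h
      apply hwm
      rw [h] at h2
      have h3 := congrArg (fun z => (y⁻¹ * g)⁻¹ * z * (y⁻¹ * g)) h2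
      simp only [mul_one, inv_mul_cancel] at h3
      rw [h3]; group
    have ho1 : orderOf (r ^ m) ≠ 1 := fun h => hrm1 (orderOf_eq_one_iff.mp h)
    obtain ⟨q, hq, hqd⟩ := Nat.exists_prime_and_dvd ho1
    have hqN : q ∈ Cfsg.sigma N := by
      apply primes_card_sigmaCore N q hq
      have h3 : orderOf (r ^ m) ∣ Nat.card (Cfsg.sigmaCore N) :=
        orderOf_dvd_of_pow_eq_one (pow_card_eq_one_of_mem (Subgroup.pow_mem _ hrN _))
      exact hqd.trans h3
    have hqw : q ∣ orderOf w := by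
      have h3 : orderOf (r ^ m) ∣ orderOf w := by
        apply orderOf_dvd_of_pow_eq_one
        rw [h2, conj_pow, ← pow_mul, mul_comm, pow_mul, pow_orderOf_eq_one, one_pow]; group
      exact hqd.trans h3
    obtain ⟨L, hL, hqL, hτL⟩ := hwσ q hq hqw
    obtain ⟨k, hk⟩ := hSP L N hL hN ⟨q, hqL, hqN⟩
    have hoa : orderOf a ≠ 1 := fun h => ha1' (orderOf_eq_one_iff.mp h)
    obtain ⟨p, hp, hpd⟩ := Nat.exists_prime_and_dvd hoa
    have hpN := hτ p hp hpd
    rw [hk] at hpN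
    exact hτL p (mem_tau2_of_map_conj hpN)

/-- **(iv)**: for non-conjugate maximal subgroups `N`, `N'` with `τ₂(N) = ∅` the sets `N~` and
`N'~` are disjoint. -/
theorem tilde_disjoint_of_tau2 [Finite G] (hG : Cfsg.IsMinSimpleOddOrder G) (hSP : SP G)
    (h28 : H1428 G) {N N' : Subgroup G} (hN : IsCoatom N) (hN' : IsCoatom N')
    (hnc : ∀ g : G, N' ≠ N.map (MulAut.conj g).toMonoidHom)
    (hτN : ∀ p : ℕ, p ∉ Cfsg.tau2 N) {z : G}
    (hz : z ∈ Cfsg.tildeOf N ((Cfsg.sigmaCore N : Set G) \ {1}))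
    (hz' : z ∈ Cfsg.tildeOf N' ((Cfsg.sigmaCore N' : Set G) \ {1})) : False := by
  obtain ⟨a, ⟨ha, ha1⟩, r, hr, y, hy⟩ := hz
  obtain ⟨a', ⟨ha', ha1'⟩, r', hr', y', hy'⟩ := hz'
  have ha1n : a ≠ 1 := fun h => ha1 (Set.mem_singleton_iff.mpr h)
  have ha1n' : a' ≠ 1 := fun h => ha1' (Set.mem_singleton_iff.mpr h)
  apply ha1n
  set m := Nat.card (Cfsg.sigmaCore N) with hm
  have ham : a ^ m = 1 := pow_card_eq_one_of_mem ha
  -- `a r` is conjugate to `a' r'`
  have e1 : a * r = (y⁻¹ * y') * (a' * r') * (y⁻¹ * y')⁻¹ := by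
    calc a * r = y⁻¹ * (y * (a * r) * y⁻¹) * y := by group
      _ = y⁻¹ * (y' * (a' * r') * y'⁻¹) * y := by rw [← hy, ← hy']
      _ = (y⁻¹ * y') * (a' * r') * (y⁻¹ * y')⁻¹ := by group
  have hcopNN' := coprime_card_sigmaCore_of_not_conj hSP hN hN' hnc
  -- an exponent `n'` prime to `m` killing `a' r'`
  obtain ⟨n', hn'cop, hn'⟩ : ∃ n' : ℕ, m.Coprime n' ∧ (a' * r') ^ n' = 1 := by
    rcases supportR_cases hG hSP h28 hN' ha' ha1n' hr' with rfl | ⟨L', hL', -, hr'L, hra', hτ'⟩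
    · exact ⟨Nat.card (Cfsg.sigmaCore N'), hcopNN', by
        rw [mul_one]; exact pow_card_eq_one_of_mem ha'⟩
    · have hoa : orderOf a' ≠ 1 := fun h => ha1n' (orderOf_eq_one_iff.mp h)
      obtain ⟨p, hp, hpd⟩ := Nat.exists_prime_and_dvd hoa
      refine ⟨Nat.card (Cfsg.sigmaCore N') * Nat.card (Cfsg.sigmaCore L'),
        Nat.Coprime.mul_right hcopNN'
          (coprime_card_sigmaCore_of_tau2 hSP hN hL' hτN (hτ' p hp hpd)), ?_⟩
      have hc : Commute a' r' := hra'.symm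
      rw [hc.mul_pow, pow_mul, pow_card_eq_one_of_mem ha', one_pow, one_mul, mul_comm, pow_mul,
        pow_card_eq_one_of_mem hr'L, one_pow]
  have h1 : (a * r) ^ n' = 1 := by
    rw [e1, conj_pow, hn']; group
  rcases supportR_cases hG hSP h28 hN ha ha1n hr with rfl | ⟨L, -, hLN, hrL, hra, -⟩
  · rw [mul_one] at h1
    exact eq_one_of_pow_pow_coprime hn'cop ham h1
  · have hc : Commute a r := hra.symm
    rw [hc.mul_pow] at h1
    have h3 : r ^ n' = (a ^ n')⁻¹ := eq_inv_of_mul_eq_one_right h1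
    have h4 : r ^ n' ∈ Cfsg.sigmaCore L ⊓ N :=
      ⟨Subgroup.pow_mem _ hrL _, h3 ▸ N.inv_mem (N.pow_mem (sigmaCore_le N ha) _)⟩
    rw [hLN, Subgroup.mem_bot] at h4
    rw [h4, mul_one] at h1
    exact eq_one_of_pow_pow_coprime hn'cop ham h1

end Cfsg.Agent.Lib.Helper23.BGPReg
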