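/- helper23: `Ẑ` is a TI-set with normalizer `Z` for a (P)-configuration (helper27's (2)),
stated for an arbitrary family `𝓕` of maximal subgroups. Only `hG` (S1404, S1350 real). -/
import Mathlib
import Cfsg.Agent.Lib.Helper27.BGConjC
import Cfsg.Agent.S1404

set_option autoImplicit false
set_option linter.style.haveILetI false

namespace Cfsg.Agent.Lib.Helper23.BGPReg

open Cfsg
open Cfsg.Agent.Lib.Helper27.BGConj (le_sigmaCore_of_primes)

variable {G : Type*} [Group G]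

/-- **control of fusion** (from S1404): `a ∈ H` of prime order `p ∈ σ(H)` with `C_G(a) ≤ H`; if
`g a g⁻¹ ∈ H` then `g ∈ H`. -/
theorem mem_of_conj_mem_of_good [Finite G] (hG : Cfsg.IsMinSimpleOddOrder G) {H : Subgroup G}
    (hH : IsCoatom H) {p : ℕ} (hp : p ∈ Cfsg.sigma H) {a : G} (haH : a ∈ H) (hao : orderOf a = p)
    (hgood : Subgroup.centralizer ({a} : Set G) ≤ H) {g : G} (hg : g * a * g⁻¹ ∈ H) : g ∈ H := by
  haveI : Fact p.Prime := ⟨hp.1⟩
  set X : Subgroup G := Subgroup.zpowers a with hX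
  have hXc : Nat.card X = p := by rw [hX, Nat.card_zpowers, hao]
  have hXp : IsPGroup p X := IsPGroup.of_card (n := 1) (by rw [hXc, pow_one])
  have hX1 : X ≠ ⊥ := by
    intro h
    rw [h, Subgroup.card_bot] at hXc
    exact hp.1.one_lt.ne hXc
  have hXH : X ≤ H := Subgroup.zpowers_le.mpr haH
  have hgX : X.map (MulAut.conj g).toMonoidHom ≤ H := by
    rw [hX, MonoidHom.map_zpowers]
    apply Subgroup.zpowers_le.mpr
    simpa using hg
  obtain ⟨m, hm, c, hc, rfl⟩ := (Cfsg.Agent.S1404.result hG H hH p hp X hXp hX1 hXH).1 g hgX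
  refine H.mul_mem hm (hgood ?_)
  rw [Subgroup.mem_centralizer_iff]
  intro z hz
  rw [Set.mem_singleton_iff.mp hz]
  exact Subgroup.mem_centralizer_iff.mp hc a (Subgroup.mem_zpowers a)

/-- an element of `H` of prime order `p ∈ σ(H)` lies in `H_σ`. -/
theorem mem_sigmaCore_of_orderOf [Finite G] (hG : Cfsg.IsMinSimpleOddOrder G) {H : Subgroup G}
    (hH : IsCoatom H) {p : ℕ} (hp : p ∈ Cfsg.sigma H) {a : G} (haH : a ∈ H)
    (hao : orderOf a = p) : a ∈ Cfsg.sigmaCore H := by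
  have h := le_sigmaCore_of_primes hG hH (Subgroup.zpowers_le.mpr haH) (Y := Subgroup.zpowers a)
    (fun q hq hd => by
      rw [Nat.card_zpowers, hao] at hd
      rw [(Nat.prime_dvd_prime_iff_eq hq hp.1).mp hd]; exact hp)
  exact h (Subgroup.mem_zpowers a)

/-- an element of `H` all of whose prime divisors of the order lie in `σ(H)` lies in `H_σ`. -/
theorem mem_sigmaCore_of_primes [Finite G] (hG : Cfsg.IsMinSimpleOddOrder G) {H : Subgroup G}
    (hH : IsCoatom H) {z : G} (hzH : z ∈ H)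
    (hz : ∀ q : ℕ, q.Prime → q ∣ orderOf z → q ∈ Cfsg.sigma H) : z ∈ Cfsg.sigmaCore H := by
  have h := le_sigmaCore_of_primes hG hH (Subgroup.zpowers_le.mpr hzH) (Y := Subgroup.zpowers z)
    (fun q hq hd => by
      rw [Nat.card_zpowers] at hd
      exact hz q hq hd)
  exact h (Subgroup.mem_zpowers z)

/-- **`Ẑ` is TI with normalizer `Z`**: `𝓕` a family of maximal subgroups all containing `Z`, any two
of them meeting in `Z`, every prime divisor of `|Z|` in some `σ(H)`, `H ∈ 𝓕`, and `C_G(a) ≤ H` for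
`a ∈ (Z ∩ H_σ)^#`.  If `z ∈ Z` lies in no `H_σ` (`H ∈ 𝓕`) and `g z g⁻¹ ∈ Z` then `g ∈ Z`. -/
theorem zhat_TI [Finite G] (hG : Cfsg.IsMinSimpleOddOrder G) {𝓕 : Set (Subgroup G)}
    {Z : Subgroup G} (hco : ∀ H ∈ 𝓕, IsCoatom H) (hle : ∀ H ∈ 𝓕, Z ≤ H)
    (hprimes : ∀ p : ℕ, p.Prime → p ∣ Nat.card Z → ∃ H ∈ 𝓕, p ∈ Cfsg.sigma H)
    (hinf : ∀ H ∈ 𝓕, ∀ H' ∈ 𝓕, H ≠ H' → H ⊓ H' ≤ Z)
    (hgood : ∀ H ∈ 𝓕, ∀ a ∈ Z ⊓ Cfsg.sigmaCore H, a ≠ 1 → Subgroup.centralizer ({a} : Set G) ≤ H)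
    {g z : G} (hz : z ∈ Z) (hz1 : z ≠ 1) (hzn : ∀ H ∈ 𝓕, z ∉ Cfsg.sigmaCore H)
    (hgz : g * z * g⁻¹ ∈ Z) : g ∈ Z := by
  have hoz : orderOf z ∣ Nat.card Z := by
    have := orderOf_dvd_natCard (⟨z, hz⟩ : Z)
    rwa [Subgroup.orderOf_mk] at this
  have hopos : 0 < orderOf z := orderOf_pos z
  -- for a prime `p ∣ o(z)` with `p ∈ σ(H)`, `H ∈ 𝓕`: `g ∈ H`
  have key : ∀ p : ℕ, p.Prime → p ∣ orderOf z → ∀ H ∈ 𝓕, p ∈ Cfsg.sigma H → g ∈ H := by
    intro p hp hpd H hH hpH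
    set a := z ^ (orderOf z / p) with ha
    have hao : orderOf a = p := orderOf_pow_orderOf_div hopos.ne' hpd
    have haZ : a ∈ Z := Z.pow_mem hz _
    have haH : a ∈ H := hle H hH haZ
    have ha1 : a ≠ 1 := by
      intro h
      rw [h, orderOf_one] at hao
      exact hp.one_lt.ne hao
    have haσ : a ∈ Cfsg.sigmaCore H := mem_sigmaCore_of_orderOf hG (hco H hH) hpH haH hao
    have hga : g * a * g⁻¹ ∈ H := by
      have e : g * a * g⁻¹ = (g * z * g⁻¹) ^ (orderOf z / p) := by rw [conj_pow]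
      rw [e]
      exact hle H hH (Z.pow_mem hgz _)
    exact mem_of_conj_mem_of_good hG (hco H hH) hpH haH hao (hgood H hH a ⟨haZ, haσ⟩ ha1) hga
  -- a first prime
  have ho1 : orderOf z ≠ 1 := fun h => hz1 (orderOf_eq_one_iff.mp h)
  obtain ⟨p, hp, hpd⟩ := Nat.exists_prime_and_dvd ho1
  obtain ⟨H, hH, hpH⟩ := hprimes p hp (hpd.trans hoz)
  -- a second prime, outside `σ(H)`
  obtain ⟨q, hq, hqd, hqH⟩ : ∃ q : ℕ, q.Prime ∧ q ∣ orderOf z ∧ q ∉ Cfsg.sigma H := by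
    by_contra hcon
    push Not at hcon
    exact hzn H hH (mem_sigmaCore_of_primes hG (hco H hH) (hle H hH hz) hcon)
  obtain ⟨H', hH', hqH'⟩ := hprimes q hq (hqd.trans hoz)
  have hne : H ≠ H' := by
    rintro rfl
    exact hqH hqH'
  exact hinf H hH H' hH' hne ⟨key p hp hpd H hH hpH, key q hq hqd H' hH' hqH'⟩

end Cfsg.Agent.Lib.Helper23.BGPReg
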