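/- helper23: family versions of the disjointness lemmas for the n-ary (P)-configuration counting:
`Ẑ` avoids every `H~`, the `H~` are pairwise disjoint.  Hypothesis form: `SP G`, `H1428 G`. -/
import Mathlib
import Cfsg.Agent.Lib.Helper23.BGPRegC
import Cfsg.Agent.Lib.Helper23.BGPRegD

set_option autoImplicit false
set_option linter.style.haveILetI false

namespace Cfsg.Agent.Lib.Helper23.BGPReg

open Cfsg
open Cfsg.Agent.Lib.Helper9.BG144 (SP)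
open Cfsg.Agent.Lib.Helper17.BGR2 (H1428)
open Cfsg.Agent.Lib.Helper2.BGCor (sigmaCore_le primes_card_sigmaCore)
open Cfsg.Agent.Lib.Helper16.BGPrim (sigma_map_conj)
open Cfsg.Agent.Lib.Helper24.BGCount (eq_one_of_pow_pow_coprime pow_card_eq_one_of_mem)

variable {G : Type*} [Group G]

/-- **(ii'')**: if `z ^ |H_σ| ≠ 1` and every prime divisor of the order of `z ^ |H_σ|` lies in
`σ(L)` for some maximal `L` with `τ₂(L) = ∅`, then no conjugate of `z` lies in `H~`. -/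
theorem tilde_ne_conj_of_pow_ne_one [Finite G] (hG : Cfsg.IsMinSimpleOddOrder G) (hSP : SP G)
    (h28 : H1428 G) {H : Subgroup G} (hH : IsCoatom H) (g : G) {z : G}
    (hzm : z ^ Nat.card (Cfsg.sigmaCore H) ≠ 1)
    (hzσ : ∀ q : ℕ, q.Prime → q ∣ orderOf (z ^ Nat.card (Cfsg.sigmaCore H)) →
      ∃ L : Subgroup G, IsCoatom L ∧ q ∈ Cfsg.sigma L ∧ ∀ p : ℕ, p ∉ Cfsg.tau2 L) :
    g * z * g⁻¹ ∉ Cfsg.tildeOf H ((Cfsg.sigmaCore H : Set G) \ {1}) := by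
  rintro ⟨a, ⟨ha, ha1⟩, r, hr, y, hy⟩
  have ha1' : a ≠ 1 := fun h => ha1 (Set.mem_singleton_iff.mpr h)
  set m := Nat.card (Cfsg.sigmaCore H) with hm
  have e1 : a * r = (y⁻¹ * g) * z * (y⁻¹ * g)⁻¹ := by
    calc a * r = y⁻¹ * (y * (a * r) * y⁻¹) * y := by group
      _ = y⁻¹ * (g * z * g⁻¹) * y := by rw [← hy]
      _ = (y⁻¹ * g) * z * (y⁻¹ * g)⁻¹ := by group
  have ham : a ^ m = 1 := pow_card_eq_one_of_mem ha
  rcases supportR_cases hG hSP h28 hH ha ha1' hr with rfl | ⟨N, hN, hNH, hrN, hra, hτ⟩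
  · apply hzm
    have h2 := congrArg (fun z => z ^ m) e1
    simp only [mul_one] at h2
    rw [ham, conj_pow] at h2
    have h3 := congrArg (fun z => (y⁻¹ * g)⁻¹ * z * (y⁻¹ * g)) h2
    simp only [mul_one, inv_mul_cancel] at h3
    rw [h3]; group
  · have hc : Commute a r := hra.symm
    have h2 : r ^ m = (y⁻¹ * g) * z ^ m * (y⁻¹ * g)⁻¹ := by
      have := congrArg (fun z => z ^ m) e1
      beta_reduce at this
      rwa [hc.mul_pow, ham, one_mul, conj_pow] at this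
    have hord : orderOf (r ^ m) = orderOf (z ^ m) := by
      rw [h2]
      exact (SemiconjBy.orderOf_eq (y⁻¹ * g) (x := z ^ m)
        (y := (y⁻¹ * g) * z ^ m * (y⁻¹ * g)⁻¹) (by unfold SemiconjBy; group)).symm
    have ho1 : orderOf (z ^ m) ≠ 1 := fun h => hzm (orderOf_eq_one_iff.mp h)
    obtain ⟨q, hq, hqd⟩ := Nat.exists_prime_and_dvd ho1
    have hqN : q ∈ Cfsg.sigma N := by
      apply primes_card_sigmaCore N q hq
      have h3 : orderOf (r ^ m) ∣ Nat.card (Cfsg.sigmaCore N) :=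
        orderOf_dvd_of_pow_eq_one (pow_card_eq_one_of_mem (Subgroup.pow_mem _ hrN _))
      exact (hord ▸ hqd).trans h3
    obtain ⟨L, hL, hqL, hτL⟩ := hzσ q hq hqd
    obtain ⟨k, hk⟩ := hSP L N hL hN ⟨q, hqL, hqN⟩
    have hoa : orderOf a ≠ 1 := fun h => ha1' (orderOf_eq_one_iff.mp h)
    obtain ⟨p, hp, hpd⟩ := Nat.exists_prime_and_dvd hoa
    have hpN := hτ p hp hpd
    rw [hk] at hpN
    exact hτL p (mem_tau2_of_map_conj hpN)

/-- **`Ẑ` avoids `H~`** for a (P)-configuration `𝓕`, `Z`: if `z ∈ Z`, `z ∉ H_σ` then no conjugate of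
`z` lies in `H~` (`H ∈ 𝓕`). -/
theorem zhat_not_mem_tilde [Finite G] (hG : Cfsg.IsMinSimpleOddOrder G) (hSP : SP G)
    (h28 : H1428 G) {𝓕 : Set (Subgroup G)} {Z : Subgroup G} (hco : ∀ H ∈ 𝓕, IsCoatom H)
    (hle : ∀ H ∈ 𝓕, Z ≤ H)
    (hprimes : ∀ p : ℕ, p.Prime → p ∣ Nat.card Z → ∃ H ∈ 𝓕, p ∈ Cfsg.sigma H)
    (hτ2 : ∀ H ∈ 𝓕, ∀ p : ℕ, p ∉ Cfsg.tau2 H)
    {H : Subgroup G} (hH : H ∈ 𝓕) {z : G} (hz : z ∈ Z) (hzH : z ∉ Cfsg.sigmaCore H) (g : G) :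
    g * z * g⁻¹ ∉ Cfsg.tildeOf H ((Cfsg.sigmaCore H : Set G) \ {1}) := by
  have hoz : orderOf z ∣ Nat.card Z := by
    have := orderOf_dvd_natCard (⟨z, hz⟩ : Z)
    rwa [Subgroup.orderOf_mk] at this
  apply tilde_ne_conj_of_pow_ne_one hG hSP h28 (hco H hH) g
  · intro h
    apply hzH
    apply mem_sigmaCore_of_primes hG (hco H hH) (hle H hH hz)
    intro q hq hqd
    exact primes_card_sigmaCore H q hq (hqd.trans (orderOf_dvd_of_pow_eq_one h))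
  · intro q hq hqd
    have h1 : orderOf (z ^ Nat.card (Cfsg.sigmaCore H)) ∣ orderOf z := orderOf_pow_dvd _
    obtain ⟨L, hL, hqL⟩ := hprimes q hq ((hqd.trans h1).trans hoz)
    exact ⟨L, hco L hL, hqL, hτ2 L hL⟩

/-- maximal subgroups with disjoint `σ` are not conjugate (if `σ(H) ≠ ∅`). -/
theorem not_conj_of_sigma_disjoint [Finite G] {H H' : Subgroup G} {p : ℕ} (hp : p ∈ Cfsg.sigma H)
    (hd : ∀ p : ℕ, p ∈ Cfsg.sigma H → p ∉ Cfsg.sigma H') (g : G) :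
    H' ≠ H.map (MulAut.conj g).toMonoidHom := by
  rintro rfl
  exact hd p hp (sigma_map_conj hp g)

/-- **the `H~` are pairwise disjoint** for a (P)-configuration. -/
theorem tilde_disjoint_family [Finite G] (hG : Cfsg.IsMinSimpleOddOrder G) (hSP : SP G)
    (h28 : H1428 G) {𝓕 : Set (Subgroup G)} (hco : ∀ H ∈ 𝓕, IsCoatom H)
    (hτ2 : ∀ H ∈ 𝓕, ∀ p : ℕ, p ∉ Cfsg.tau2 H)
    (hne : ∀ H ∈ 𝓕, Cfsg.sigmaCore H ≠ ⊥)
    (hdisj : ∀ H ∈ 𝓕, ∀ H' ∈ 𝓕, H ≠ H' → ∀ p : ℕ, p ∈ Cfsg.sigma H → p ∉ Cfsg.sigma H')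
    {H H' : Subgroup G} (hH : H ∈ 𝓕) (hH' : H' ∈ 𝓕) (hHH' : H ≠ H') :
    Disjoint (Cfsg.tildeOf H ((Cfsg.sigmaCore H : Set G) \ {1}))
      (Cfsg.tildeOf H' ((Cfsg.sigmaCore H' : Set G) \ {1})) := by
  rw [Set.disjoint_left]
  intro z hz hz'
  -- a prime in `σ(H)`
  obtain ⟨p, hp, hpd⟩ : ∃ p : ℕ, p.Prime ∧ p ∣ Nat.card (Cfsg.sigmaCore H) := by
    apply Nat.exists_prime_and_dvd
    intro h
    exact hne H hH (Subgroup.card_eq_one.mp h)
  have hpH : p ∈ Cfsg.sigma H := primes_card_sigmaCore H p hp hpd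
  exact tilde_disjoint_of_tau2 hG hSP h28 (hco H hH) (hco H' hH')
    (not_conj_of_sigma_disjoint hpH (hdisj H hH H' hH' hHH')) (hτ2 H hH) hz hz'

end Cfsg.Agent.Lib.Helper23.BGPReg
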