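/-
helper23: S4482 leaf CENTCARD (helper24's market, `notes/S4482_leaves.lean`).
-/
import Mathlib
import Cfsg.Prelude.Def_Blocks
import Cfsg.Prelude.Def_Solvable

set_option autoImplicit false

namespace Cfsg.Agent.Lib.Helper23.BOFCENTCARD

open Cfsg

universe u

/-- (CENTCARD) centralizers inside `C(J)` and joint centralizers in `G`. -/
theorem card_centralizer_pair {G : Type u} [Group G] [Finite G] (J s : G)
    (s' : ↥(Subgroup.centralizer ({J} : Set G))) (hs' : (s' : G) = s) :
    Nat.card (Subgroup.centralizer ({s'} : Set ↥(Subgroup.centralizer ({J} : Set G)))) =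
      Nat.card (Subgroup.centralizer ({J, s} : Set G)) := by
  subst hs'
  refine Nat.card_congr
    { toFun := fun x => ⟨x.1.1, ?_⟩
      invFun := fun g => ⟨⟨g.1, ?_⟩, ?_⟩
      left_inv := fun x => rfl
      right_inv := fun g => rfl }
  · rw [Subgroup.mem_centralizer_iff]
    intro h hh
    rcases hh with rfl | hh
    · exact (Subgroup.mem_centralizer_iff.mp x.1.2) h rfl
    · rw [Set.mem_singleton_iff] at hh
      subst hh
      have := (Subgroup.mem_centralizer_iff.mp x.2) s' rfl
      exact congrArg Subtype.val this
  · rw [Subgroup.mem_centralizer_iff]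
    intro h hh
    rw [Set.mem_singleton_iff] at hh
    subst hh
    exact (Subgroup.mem_centralizer_iff.mp g.2) h (Set.mem_insert _ _)
  · rw [Subgroup.mem_centralizer_iff]
    intro h hh
    rw [Set.mem_singleton_iff] at hh
    subst hh
    apply Subtype.ext
    exact (Subgroup.mem_centralizer_iff.mp g.2) (h : G) (Set.mem_insert_of_mem _ rfl)

end Cfsg.Agent.Lib.Helper23.BOFCENTCARD
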