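/-
helper23: S4482 leaf JFACTS (helper24's market, `notes/S4482_leaves.lean`).
-/
import Mathlib
import Cfsg.Prelude.Def_Blocks
import Cfsg.Prelude.Def_Solvable

set_option autoImplicit false

namespace Cfsg.Agent.Lib.Helper23.BOFJFACTS

open Cfsg

universe u

/-- (JFACTS) `J = σ^(2^(n-2))` is an involution centralized by `σ` and `τ`. -/
theorem J_facts {G : Type u} [Group G] (n : ℕ) (hn : 3 ≤ n) (σ τ : G)
    (hσo : orderOf σ = 2 ^ (n - 1)) (hτo : orderOf τ = 2) (hrel : τ * σ * τ⁻¹ = σ⁻¹) :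
    orderOf (σ ^ (2 ^ (n - 2))) = 2 ∧ Commute (σ ^ (2 ^ (n - 2))) σ ∧ Commute (σ ^ (2 ^ (n - 2))) τ := by
  have hn1 : n - 1 = (n - 2) + 1 := by omega
  have ho : orderOf (σ ^ (2 ^ (n - 2))) = 2 := by
    rw [orderOf_pow_of_dvd (by positivity) (by rw [hσo, hn1, pow_succ]; exact dvd_mul_right _ _), hσo,
      hn1, pow_succ, Nat.mul_div_cancel_left _ (by positivity)]
  refine ⟨ho, (Commute.refl σ).pow_left _, ?_⟩
  have h1 : τ * σ ^ (2 ^ (n - 2)) * τ⁻¹ = (σ ^ (2 ^ (n - 2)))⁻¹ := by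
    rw [← conj_pow, hrel, inv_pow]
  have h2 : (σ ^ (2 ^ (n - 2))) * (σ ^ (2 ^ (n - 2))) = 1 := by
    have := pow_orderOf_eq_one (σ ^ (2 ^ (n - 2)))
    rwa [ho, pow_two] at this
  have h3 : (σ ^ (2 ^ (n - 2)))⁻¹ = σ ^ (2 ^ (n - 2)) := inv_eq_of_mul_eq_one_left h2
  rw [h3] at h1
  exact (mul_inv_eq_iff_eq_mul.mp h1).symm

end Cfsg.Agent.Lib.Helper23.BOFJFACTS
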