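/-
helper23: S4482 leaf REG (helper24's market, `notes/S4482_leaves.lean`): regrouping the class-algebra sum by
the involution of `⟨x y⟩`.
-/
import Mathlib
import Cfsg.Prelude.Def_Blocks
import Cfsg.Prelude.Def_Solvable

set_option autoImplicit false

namespace Cfsg.Agent.Lib.Helper23.BOFREG

open Cfsg

universe u

section

variable {G : Type u} [Group G]

/-- an involution in a finite cyclic group `⟨g⟩` is `g ^ (orderOf g / 2)`, and `orderOf g` is even -/
theorem eq_pow_half_of_mem_zpowers [Finite G] {g z : G} (hz : orderOf z = 2)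
    (hzg : z ∈ Subgroup.zpowers g) : Even (orderOf g) ∧ z = g ^ (orderOf g / 2) := by
  classical
  have hn : 0 < orderOf g := orderOf_pos g
  rw [← mem_powers_iff_mem_zpowers, mem_powers_iff_mem_range_orderOf] at hzg
  obtain ⟨k, hk, rfl⟩ := Finset.mem_image.mp hzg
  rw [Finset.mem_range] at hk
  have h1 : (g ^ k) ^ 2 = 1 := by rw [← hz]; exact pow_orderOf_eq_one _
  have h2 : g ^ k ≠ 1 := by
    intro h
    rw [h, orderOf_one] at hz
    omega
  rw [← pow_mul] at h1
  have h3 : orderOf g ∣ k * 2 := orderOf_dvd_of_pow_eq_one h1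
  have h4 : ¬ orderOf g ∣ k := fun h => h2 (orderOf_dvd_iff_pow_eq_one.mp h)
  obtain ⟨c, hc⟩ := h3
  have hc1 : c = 1 := by
    rcases c with _ | _ | c
    · exfalso; apply h4; rw [show k = 0 by omega]; exact dvd_zero _
    · rfl
    · exfalso
      have : orderOf g * (c + 1 + 1) ≥ orderOf g * 2 := Nat.mul_le_mul_left _ (by omega)
      omega
  rw [hc1, mul_one] at hc
  refine ⟨⟨k, by omega⟩, ?_⟩
  congr 1
  omega

theorem orderOf_conj' (c x : G) : orderOf (c * x * c⁻¹) = orderOf x := by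
  have := (MulAut.conj c).orderOf_eq x
  rwa [MulAut.conj_apply] at this

/-- for `g` of even order, `g ^ (orderOf g / 2)` is an involution in `⟨g⟩` -/
theorem orderOf_pow_half [Finite G] {g : G} (hg : Even (orderOf g)) :
    orderOf (g ^ (orderOf g / 2)) = 2 := by
  have hn : 0 < orderOf g := orderOf_pos g
  obtain ⟨m, hm⟩ := hg
  have hm' : orderOf g / 2 = m := by omega
  have hm0 : m ≠ 0 := by omega
  rw [hm', orderOf_pow_of_dvd hm0 ⟨2, by omega⟩]
  rw [hm, ← two_mul, Nat.mul_div_cancel _ (Nat.pos_of_ne_zero hm0)]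

end

section sums

variable {G : Type u} [Group G] [Fintype G]

open Classical in
/-- the number of involutions `z ∈ ⟨g⟩`, weighted -/
theorem sum_invol_zpowers (c : ℂ) (g : G) (hc : Odd (orderOf g) → c = 0) :
    (∑ z : G, if orderOf z = 2 ∧ z ∈ Subgroup.zpowers g then c else 0) = c := by
  by_cases hg : Even (orderOf g)
  · rw [Finset.sum_eq_single (g ^ (orderOf g / 2))]
    · rw [if_pos ⟨orderOf_pow_half hg, Subgroup.npow_mem_zpowers g _⟩]
    · intro z _ hz
      rw [if_neg]
      rintro ⟨h1, h2⟩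
      exact hz (eq_pow_half_of_mem_zpowers h1 h2).2
    · intro h; exact absurd (Finset.mem_univ _) h
  · rw [hc (Nat.not_even_iff_odd.mp hg)]
    simp

open Classical in
/-- the fibres of `a ↦ a J a⁻¹` -/
theorem card_fibre (J : G) (a₀ : G) :
    (Finset.univ.filter (fun a : G => a * J * a⁻¹ = a₀ * J * a₀⁻¹)).card =
      Nat.card (Subgroup.centralizer ({J} : Set G)) := by
  rw [Nat.card_eq_fintype_card, Fintype.card_subtype]
  apply Finset.card_nbij' (fun a => a₀⁻¹ * a) (fun c => a₀ * c)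
  · intro a ha
    simp only [Finset.coe_filter, Finset.mem_univ, true_and, Set.mem_ofPred_eq] at ha ⊢
    rw [Subgroup.mem_centralizer_iff]
    intro h hh
    rw [Set.mem_singleton_iff] at hh
    subst hh
    have h1 : a₀⁻¹ * (a * h * a⁻¹) * a₀ = h := by rw [ha]; group
    calc h * (a₀⁻¹ * a) = a₀⁻¹ * (a * h * a⁻¹) * a₀ * (a₀⁻¹ * a) := by rw [h1]
      _ = a₀⁻¹ * a * h := by group
  · intro c hc
    simp only [Finset.coe_filter, Finset.mem_univ, true_and, Set.mem_ofPred_eq] at hc ⊢
    have h1 := (Subgroup.mem_centralizer_iff.mp hc) J rfl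
    calc a₀ * c * J * (a₀ * c)⁻¹ = a₀ * (c * J) * c⁻¹ * a₀⁻¹ := by group
      _ = a₀ * (J * c) * c⁻¹ * a₀⁻¹ := by rw [h1]
      _ = a₀ * J * a₀⁻¹ := by group
  · intro a _; group
  · intro c _; group

open Classical in
/-- fibre counting for `a ↦ a J a⁻¹` -/
theorem sum_conj (J : G) (hJ : orderOf J = 2) (hall : ∀ x : G, orderOf x = 2 → IsConj J x)
    (g : G → ℂ) :
    ∑ a : G, g (a * J * a⁻¹) =
      (Nat.card (Subgroup.centralizer ({J} : Set G)) : ℂ) *
        ∑ x : G, if orderOf x = 2 then g x else 0 := by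
  rw [← Finset.sum_fiberwise Finset.univ (fun a : G => a * J * a⁻¹) (fun a => g (a * J * a⁻¹)),
    Finset.mul_sum]
  refine Finset.sum_congr rfl (fun x _ => ?_)
  by_cases hx : orderOf x = 2
  · rw [if_pos hx]
    obtain ⟨a₀, rfl⟩ := isConj_iff.mp (hall x hx)
    rw [Finset.sum_congr rfl (fun a ha => by rw [(Finset.mem_filter.mp ha).2] :
      ∀ a ∈ Finset.univ.filter (fun a : G => a * J * a⁻¹ = a₀ * J * a₀⁻¹),
        g (a * J * a⁻¹) = g (a₀ * J * a₀⁻¹)), Finset.sum_const, card_fibre, nsmul_eq_mul]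
  · rw [if_neg hx, mul_zero]
    apply Finset.sum_eq_zero
    intro a ha
    exfalso
    apply hx
    rw [← (Finset.mem_filter.mp ha).2, orderOf_conj']
    exact hJ

end sums

section main

variable {G : Type u} [Group G] [Fintype G]

open Classical in
/-- `R z`, the sum over the pairs of involutions with `z ∈ ⟨x y⟩` -/
noncomputable def Rsum (Θ : G → ℂ) (z : G) : ℂ :=
  ∑ x : G, ∑ y : G,
    if orderOf x = 2 ∧ orderOf y = 2 ∧ z ∈ Subgroup.zpowers (x * y) then Θ (x * y) else 0

open Classical in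
theorem Rsum_conj (Θ : G → ℂ) (hΘc : ∀ g h : G, Θ (h * g * h⁻¹) = Θ g) (z c : G) :
    Rsum Θ (c * z * c⁻¹) = Rsum Θ z := by
  unfold Rsum
  rw [← Equiv.sum_comp (MulAut.conj c).toEquiv]
  refine Finset.sum_congr rfl (fun x _ => ?_)
  rw [← Equiv.sum_comp (MulAut.conj c).toEquiv]
  refine Finset.sum_congr rfl (fun y _ => ?_)
  have e1 : (MulAut.conj c).toEquiv x = c * x * c⁻¹ := by simp [MulAut.conj_apply]
  have e2 : (MulAut.conj c).toEquiv y = c * y * c⁻¹ := by simp [MulAut.conj_apply]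
  rw [e1, e2]
  have e3 : c * x * c⁻¹ * (c * y * c⁻¹) = c * (x * y) * c⁻¹ := by group
  have o1 : orderOf (c * x * c⁻¹) = orderOf x := orderOf_conj' c x
  have o2 : orderOf (c * y * c⁻¹) = orderOf y := orderOf_conj' c y
  have o3 : c * z * c⁻¹ ∈ Subgroup.zpowers (c * (x * y) * c⁻¹) ↔ z ∈ Subgroup.zpowers (x * y) := by
    rw [Subgroup.mem_zpowers_iff, Subgroup.mem_zpowers_iff]
    refine exists_congr (fun k => ?_)
    rw [conj_zpow, mul_left_inj, mul_right_inj]
  rw [e3, o1, o2, hΘc]
  exact if_congr (and_congr Iff.rfl (and_congr Iff.rfl o3)) rfl rfl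

open Classical in
/-- (REG) `Θ` a class function vanishing on the elements of odd order, `J` an involution such that all involutions are
conjugate to `J`.  Then `∑_{a,b} Θ (J^a J^b) = |G| |C(J)| R(J)`, `R(J)` the sum of `Θ (x y)` over the pairs of involutions
with `J ∈ ⟨x y⟩`.  Proof: `(a, b) ↦ (a J a⁻¹, b J b⁻¹)` has fibres of size `|C(J)|^2` over the pairs of involutions; for
involutions `x, y` with `x y` of even order there is exactly one involution `z ∈ ⟨x y⟩` (a cyclic group of even order has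
exactly one involution; for odd order none, and then `Θ (x y) = 0`); swap the sums; `R (g z g⁻¹) = R z`; there are
`|G| / |C(J)|` involutions. -/
theorem regroup {G : Type u} [Group G] [Fintype G] (Θ : G → ℂ) (hΘc : ∀ g h : G, Θ (h * g * h⁻¹) = Θ g)
    (hΘo : ∀ g : G, Odd (orderOf g) → Θ g = 0) (J : G) (hJ : orderOf J = 2)
    (hall : ∀ x : G, orderOf x = 2 → IsConj J x) :
    ∑ a : G, ∑ b : G, Θ (a * J * a⁻¹ * (b * J * b⁻¹)) =
      (Nat.card G : ℂ) * (Nat.card (Subgroup.centralizer ({J} : Set G)) : ℂ) *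
        ∑ x : G, ∑ y : G,
          if orderOf x = 2 ∧ orderOf y = 2 ∧ J ∈ Subgroup.zpowers (x * y) then Θ (x * y) else 0 := by
  set C : ℂ := (Nat.card (Subgroup.centralizer ({J} : Set G)) : ℂ) with hC
  have hC0 : C ≠ 0 := by
    rw [hC]
    exact Nat.cast_ne_zero.mpr Nat.card_pos.ne'
  -- (1) the left side as a sum over pairs of involutions
  have h1 : ∑ a : G, ∑ b : G, Θ (a * J * a⁻¹ * (b * J * b⁻¹)) =
      C * C * ∑ x : G, ∑ y : G, if orderOf x = 2 ∧ orderOf y = 2 then Θ (x * y) else 0 := by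
    rw [sum_conj J hJ hall (fun x => ∑ b : G, Θ (x * (b * J * b⁻¹))), mul_assoc]
    congr 1
    rw [Finset.mul_sum]
    refine Finset.sum_congr rfl (fun x _ => ?_)
    by_cases hx : orderOf x = 2
    · rw [if_pos hx, sum_conj J hJ hall (fun y => Θ (x * y))]
      congr 1
      refine Finset.sum_congr rfl (fun y _ => ?_)
      by_cases hy : orderOf y = 2
      · rw [if_pos hy, if_pos ⟨hx, hy⟩]
      · rw [if_neg hy, if_neg (fun h => hy h.2)]
    · rw [if_neg hx, Finset.sum_eq_zero (fun y _ => if_neg (fun h => hx h.1)), mul_zero]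
  -- (2)+(3) insert the involution of `⟨x y⟩` and swap
  have h2 : (∑ x : G, ∑ y : G, if orderOf x = 2 ∧ orderOf y = 2 then Θ (x * y) else 0) =
      ∑ z : G, if orderOf z = 2 then Rsum Θ z else 0 := by
    have e : ∀ x y : G, (if orderOf x = 2 ∧ orderOf y = 2 then Θ (x * y) else 0) =
        ∑ z : G, if orderOf z = 2 then
          (if orderOf x = 2 ∧ orderOf y = 2 ∧ z ∈ Subgroup.zpowers (x * y) then Θ (x * y) else 0)
          else 0 := by
      intro x y
      by_cases hxy : orderOf x = 2 ∧ orderOf y = 2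
      · rw [if_pos hxy]
        refine (sum_invol_zpowers (Θ (x * y)) (x * y) (hΘo (x * y))).symm.trans ?_
        refine Finset.sum_congr rfl (fun z _ => ?_)
        by_cases hz : orderOf z = 2
        · rw [if_pos hz]
          exact if_congr ⟨fun h => ⟨hxy.1, hxy.2, h.2⟩, fun h => ⟨hz, h.2.2⟩⟩ rfl rfl
        · rw [if_neg hz, if_neg (fun h => hz h.1)]
      · rw [if_neg hxy]
        symm
        apply Finset.sum_eq_zero
        intro z _
        have hn : ¬ (orderOf x = 2 ∧ orderOf y = 2 ∧ z ∈ Subgroup.zpowers (x * y)) :=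
          fun h => hxy ⟨h.1, h.2.1⟩
        simp only [if_neg hn, ite_self]
    rw [Finset.sum_congr rfl (fun x _ => Finset.sum_congr rfl (fun y _ => e x y))]
    rw [Finset.sum_congr rfl (fun x _ => Finset.sum_comm)]
    rw [Finset.sum_comm]
    refine Finset.sum_congr rfl (fun z _ => ?_)
    by_cases hz : orderOf z = 2
    · simp only [if_pos hz]
      rfl
    · simp only [if_neg hz, Finset.sum_const_zero]
  -- (4) `R` is constant on the class of `J`
  have h3 : C * (∑ z : G, if orderOf z = 2 then Rsum Θ z else 0) = (Nat.card G : ℂ) * Rsum Θ J := by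
    rw [← sum_conj J hJ hall (fun z => Rsum Θ z),
      Finset.sum_congr rfl (fun a _ => Rsum_conj Θ hΘc J a), Finset.sum_const, Finset.card_univ,
      nsmul_eq_mul, Nat.card_eq_fintype_card]
  rw [h1, h2, mul_assoc C C, h3]
  show C * ((Nat.card G : ℂ) * Rsum Θ J) = (Nat.card G : ℂ) * C * Rsum Θ J
  ring

end main

end Cfsg.Agent.Lib.Helper23.BOFREG
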