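/-
helper23: S4482 leaf TRANS (helper24's market, `notes/S4482_leaves.lean`).
-/
import Mathlib
import Cfsg.Prelude.Def_Blocks
import Cfsg.Prelude.Def_Solvable

set_option autoImplicit false

namespace Cfsg.Agent.Lib.Helper23.BOFTRANS

open Cfsg

universe u

/-- an involution is its own inverse -/
theorem inv_eq_self_of_orderOf_two {G : Type u} [Group G] {x : G} (hx : orderOf x = 2) : x⁻¹ = x := by
  have h := pow_orderOf_eq_one x
  rw [hx, pow_two] at h
  exact inv_eq_of_mul_eq_one_left h

/-- involutions `x, y` with the involution `J` in `⟨x y⟩` centralize `J` -/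
theorem mem_centralizer_of_mem_zpowers {G : Type u} [Group G] {x y J : G} (hx : orderOf x = 2)
    (hy : orderOf y = 2) (hJ : orderOf J = 2) (hJxy : J ∈ Subgroup.zpowers (x * y)) :
    x ∈ Subgroup.centralizer ({J} : Set G) ∧ y ∈ Subgroup.centralizer ({J} : Set G) := by
  have hx' := inv_eq_self_of_orderOf_two hx
  have hy' := inv_eq_self_of_orderOf_two hy
  have hJ' := inv_eq_self_of_orderOf_two hJ
  obtain ⟨k, hk⟩ := Subgroup.mem_zpowers_iff.mp hJxy
  have h1 : x * (x * y) * x⁻¹ = (x * y)⁻¹ := by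
    rw [mul_inv_rev, hx', hy']
    have : x * x = 1 := by rw [← pow_two, ← hx]; exact pow_orderOf_eq_one x
    rw [← mul_assoc, this, one_mul]
  have h2 : y * (x * y) * y⁻¹ = (x * y)⁻¹ := by
    rw [mul_inv_rev, hx', hy']
    have : y * y = 1 := by rw [← pow_two, ← hy]; exact pow_orderOf_eq_one y
    rw [mul_assoc, mul_assoc, this, mul_one]
  have h3 : x * J * x⁻¹ = J := by
    rw [← hk, ← conj_zpow, h1, inv_zpow, hk, hJ']
  have h4 : y * J * y⁻¹ = J := by
    rw [← hk, ← conj_zpow, h2, inv_zpow, hk, hJ']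
  constructor
  · rw [Subgroup.mem_centralizer_iff]
    intro h hh
    rw [Set.mem_singleton_iff] at hh
    subst hh
    exact (mul_inv_eq_iff_eq_mul.mp h3).symm
  · rw [Subgroup.mem_centralizer_iff]
    intro h hh
    rw [Set.mem_singleton_iff] at hh
    subst hh
    exact (mul_inv_eq_iff_eq_mul.mp h4).symm

/-- a sum over `G` of a function supported on a subgroup is the sum over the subgroup -/
theorem sum_eq_sum_subgroup {G : Type u} [Group G] [Fintype G] (C : Subgroup G) [inst : Fintype ↥C]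
    (g : G → ℂ) (h : ∀ x, g x ≠ 0 → x ∈ C) : ∑ x : G, g x = ∑ x : ↥C, g (x : G) := by
  classical
  rw [← Finset.sum_subtype (Finset.univ.filter (· ∈ C)) (by simp) g]
  exact (Finset.sum_filter_of_ne (fun x _ hx => h x hx)).symm

open Classical in
/-- (TRANS) the pairs of involutions `(x, y)` with `J ∈ ⟨x y⟩` lie in `C(J)` (`x` inverts `x y`, hence centralizes the
only involution of `⟨x y⟩`): the sum over `G × G` is a sum over `C(J) × C(J)`. -/
theorem sum_centralizer {G : Type u} [Group G] [Fintype G] (Θ : G → ℂ) (J : G) (hJ : orderOf J = 2)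
    (J' : ↥(Subgroup.centralizer ({J} : Set G))) (hJ' : (J' : G) = J) :
    (∑ x : G, ∑ y : G,
      if orderOf x = 2 ∧ orderOf y = 2 ∧ J ∈ Subgroup.zpowers (x * y) then Θ (x * y) else 0) =
      ∑ x : ↥(Subgroup.centralizer ({J} : Set G)), ∑ y : ↥(Subgroup.centralizer ({J} : Set G)),
        if orderOf x = 2 ∧ orderOf y = 2 ∧ J' ∈ Subgroup.zpowers (x * y) then Θ ((x : G) * (y : G)) else 0 := by
  rw [sum_eq_sum_subgroup (Subgroup.centralizer ({J} : Set G))]
  · refine Finset.sum_congr rfl (fun x _ => ?_)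
    rw [sum_eq_sum_subgroup (Subgroup.centralizer ({J} : Set G))]
    · refine Finset.sum_congr rfl (fun y _ => ?_)
      apply if_congr _ rfl rfl
      rw [Subgroup.orderOf_coe, Subgroup.orderOf_coe]
      refine and_congr Iff.rfl (and_congr Iff.rfl ?_)
      rw [Subgroup.mem_zpowers_iff, Subgroup.mem_zpowers_iff]
      refine exists_congr (fun k => ?_)
      rw [Subtype.ext_iff, Subgroup.coe_zpow, Subgroup.coe_mul, hJ']
    · intro y hy
      by_cases hc : orderOf (x : G) = 2 ∧ orderOf y = 2 ∧ J ∈ Subgroup.zpowers ((x : G) * y)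
      · exact (mem_centralizer_of_mem_zpowers hc.1 hc.2.1 hJ hc.2.2).2
      · rw [if_neg hc] at hy
        exact absurd rfl hy
  · intro x hx
    obtain ⟨y, -, hy⟩ := Finset.exists_ne_zero_of_sum_ne_zero hx
    by_cases hc : orderOf x = 2 ∧ orderOf y = 2 ∧ J ∈ Subgroup.zpowers (x * y)
    · exact (mem_centralizer_of_mem_zpowers hc.1 hc.2.1 hJ hc.2.2).1
    · rw [if_neg hc] at hy
      exact absurd rfl hy

end Cfsg.Agent.Lib.Helper23.BOFTRANS
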