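/-
helper23: S4504 (VI) market (`notes/S4504_VI_leaves.lean`), leaf B0SUB (twin): the principal block lies over the trivial
character of the centre.
-/
import Mathlib
import Cfsg.Prelude.Def_BlockRank
import Cfsg.Agent.Lib.Helper6.BRHDefs
import Cfsg.Agent.Lib.Helper23.BRVIDefs
import Cfsg.Agent.Lib.Helper23.BRVIZC
import Cfsg.Agent.Lib.Helper29.DOTI

set_option autoImplicit false

namespace Cfsg.Agent.Lib.Helper23.BRVIB0SUB

open Cfsg Cfsg.Agent.Lib.Helper8.DOM Cfsg.Agent.Lib.Helper27.DO Cfsg.Agent.CharLib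
open Cfsg.Agent.Lib.Helper6.BRH Cfsg.Agent.Lib.Helper23.BRVI Cfsg.Agent.Lib.Helper23.BRVIZC
open scoped ComplexConjugate

universe u

variable {G : Type u} [Group G] [Finite G] {p : ℕ} [Fact p.Prime]

/-- B0SUB : the principal block lies over the trivial character of the centre. -/
theorem b0_subset (P : Subgroup G) (hP : Nat.card P = p)
    (hZreg : ∀ z ∈ Subgroup.center G, ¬ p ∣ orderOf z)
    (X Y : Set (IrrCharacter G)) (v : IrrCharacter G → ℤ) (ε : ℤ) (d : B0 p P X Y v ε)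
    (hYreg : ∀ ξ ∈ Y, ∀ ξ' ∈ Y, ∀ g : G, ¬ p ∣ orderOf g → (ξ : G → ℂ) g = (ξ' : G → ℂ) g) :
    X ∪ Y ⊆ cset (trivIrr G) := by
  classical
  have hpp : p.Prime := Fact.out
  -- an element of order `p`
  have hne : ∃ x : G, x ∈ P ∧ x ≠ 1 := by
    by_contra hcon
    push Not at hcon
    have : P = ⊥ := by
      rw [eq_bot_iff]
      intro x hx
      rw [Subgroup.mem_bot]
      exact hcon x hx
    rw [this] at hP
    simp at hP
    exact hpp.one_lt.ne hP
  obtain ⟨x0, hx0P, hx01⟩ := hne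
  have hord := Cfsg.Agent.Lib.Helper29.DOTI.orderOf_eq_of_mem P hP hx0P hx01
  have hsing0 : p ∣ orderOf x0 := by rw [hord]
  have hsing : ∀ z ∈ Subgroup.center G, p ∣ orderOf (x0 * z) := by
    intro z hz
    have hcomm : Commute x0 z := (Subgroup.mem_center_iff.mp hz x0)
    have hcop : Nat.Coprime (orderOf x0) (orderOf z) := by
      rw [hord]
      exact (Nat.Prime.coprime_iff_not_dvd hpp).mpr (hZreg z hz)
    rw [hcomm.orderOf_mul_eq_mul_orderOf_of_coprime hcop, hord]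
    exact dvd_mul_right p _
  have hone : ¬ p ∣ orderOf (1 : G) := by
    rw [orderOf_one]
    intro h
    exact hpp.one_lt.ne' (Nat.dvd_one.mp h)
  have htriv1 : ((trivIrr G : IrrCharacter G) : G → ℂ) 1 = 1 := rfl
  intro χ hχ z hz
  have htrivz : ((trivIrr G : IrrCharacter G) : G → ℂ) z = 1 := rfl
  rw [htriv1, htrivz, mul_one, one_mul]
  have h0 := Cfsg.Agent.Lib.Helper24.irr_apply_one_ne_zero χ
  have hmul := apply_mul_central χ z hz x0
  rcases hχ with hX | hY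
  · -- `χ ∈ X`
    have h1 := d.valX χ hX (x0 * z) (hsing z hz)
    have h2 := d.valX χ hX x0 hsing0
    rw [h1, h2] at hmul
    have hv : ((v χ : ℤ) : ℂ) ≠ 0 := by
      rcases d.sgnX χ hX with h | h <;> rw [h] <;> norm_num
    have h3 : (χ : G → ℂ) z / (χ : G → ℂ) 1 = 1 := by
      have : (1 : ℂ) * (v χ : ℂ) = (χ : G → ℂ) z / (χ : G → ℂ) 1 * (v χ : ℂ) := by
        rw [one_mul]; exact hmul
      exact (mul_right_cancel₀ hv this).symm
    rw [div_eq_one_iff_eq h0] at h3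
    exact h3
  · -- `χ ∈ Y`
    have h1 := d.sumY (x0 * z) (hsing z hz)
    have h2 := d.sumY x0 hsing0
    have h3 : ∀ ψ0 ∈ Y, (ψ0 : G → ℂ) (x0 * z) =
        (χ : G → ℂ) z / (χ : G → ℂ) 1 * (ψ0 : G → ℂ) x0 := by
      intro ψ0 hψ0
      rw [apply_mul_central ψ0 z hz x0, hYreg ψ0 hψ0 χ hY z (hZreg z hz), hYreg ψ0 hψ0 χ hY 1 hone]
    rw [finsum_mem_congr rfl h3, ← mul_finsum_mem, h2] at h1
    have hε : ((ε : ℤ) : ℂ) ≠ 0 := by
      rcases d.sgn with h | h <;> rw [h] <;> norm_num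
    have hε' : -((ε : ℤ) : ℂ) ≠ 0 := neg_ne_zero.mpr hε
    have h4 : (χ : G → ℂ) z / (χ : G → ℂ) 1 = 1 := by
      have : (χ : G → ℂ) z / (χ : G → ℂ) 1 * (-(ε : ℂ)) = 1 * (-(ε : ℂ)) := by
        rw [one_mul]; exact h1
      exact mul_right_cancel₀ hε' this
    rw [div_eq_one_iff_eq h0] at h4
    exact h4

end Cfsg.Agent.Lib.Helper23.BRVIB0SUB
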