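/-
helper23: S4504 (VI) market (`notes/S4504_VI_leaves.lean`), leaf DSIDE (twin): the alternating sum of the twisted constants
over `Irr(G | θ)`.
-/
import Mathlib
import Cfsg.Prelude.Def_BlockRank
import Cfsg.Agent.Lib.Helper6.BRHDefs
import Cfsg.Agent.Lib.Helper23.BRVIDefs

set_option autoImplicit false

namespace Cfsg.Agent.Lib.Helper23.BRVIDSIDE

open Cfsg Cfsg.Agent.Lib.Helper8.DOM Cfsg.Agent.Lib.Helper27.DO Cfsg.Agent.CharLib
open Cfsg.Agent.Lib.Helper6.BRH Cfsg.Agent.Lib.Helper23.BRVI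
open scoped ComplexConjugate

universe u

variable {G : Type u} [Group G] [Finite G] {p : ℕ} [Fact p.Prime]

/-- DSIDE : the alternating sum of the twisted constants over `Irr(G | θ)`. -/
theorem d_side (ψ ψ' : IrrCharacter G) (hne : ψ ≠ ψ') (hψ' : ψ' ∈ cset ψ) (x x' y : G) (f : ℕ) (hf : 0 < f)
    (h1 : (ψ : G → ℂ) 1 = (f : ℂ)) (h1' : (ψ' : G → ℂ) 1 = (f : ℂ))
    (hy : (ψ' : G → ℂ) y = (ψ : G → ℂ) y)
    (hxx : (ψ' : G → ℂ) x = (ψ : G → ℂ) x') (hxx' : (ψ' : G → ℂ) x' = (ψ : G → ℂ) x)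
    (hn : Complex.normSq ((ψ : G → ℂ) x - (ψ : G → ℂ) x') = (p : ℝ))
    (hcol : ∑ᶠ χ ∈ cset ψ, Complex.normSq ((χ : G → ℂ) x - (χ : G → ℂ) x') = 2 * (p : ℝ)) :
    Tc (cset ψ) x x y - Tc (cset ψ) x x' y - Tc (cset ψ) x' x y + Tc (cset ψ) x' x' y =
      2 * ((ψ : G → ℂ) x - (ψ : G → ℂ) x') ^ 2 * conj ((ψ : G → ℂ) y) / (f : ℂ) := by
  classical
  have hfin : (cset ψ).Finite := Set.toFinite _
  set s : Finset (IrrCharacter G) := hfin.toFinset with hs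
  have hmem : ∀ χ, χ ∈ s ↔ χ ∈ cset ψ := by
    intro χ
    rw [hs, Set.Finite.mem_toFinset]
  have hψs : ψ ∈ s := (hmem ψ).mpr (fun z _ => rfl)
  have hψ's : ψ' ∈ s.erase ψ := Finset.mem_erase.mpr ⟨hne.symm, (hmem ψ').mpr hψ'⟩
  have hcol' : ∑ χ ∈ s, Complex.normSq ((χ : G → ℂ) x - (χ : G → ℂ) x') = 2 * (p : ℝ) := by
    rw [← hcol, finsum_mem_eq_finite_toFinset_sum _ hfin]
  rw [← Finset.add_sum_erase s _ hψs, ← Finset.add_sum_erase (s.erase ψ) _ hψ's] at hcol'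
  have hn' : Complex.normSq ((ψ' : G → ℂ) x - (ψ' : G → ℂ) x') = (p : ℝ) := by
    rw [hxx, hxx', ← hn, ← Complex.normSq_neg]
    congr 1
    ring
  rw [hn, hn'] at hcol'
  have hrest : ∑ χ ∈ (s.erase ψ).erase ψ',
      Complex.normSq ((χ : G → ℂ) x - (χ : G → ℂ) x') = 0 := by linarith
  have hzero : ∀ χ ∈ (s.erase ψ).erase ψ', (χ : G → ℂ) x = (χ : G → ℂ) x' := by
    intro χ hχ
    have := (Finset.sum_eq_zero_iff_of_nonneg (fun χ _ => Complex.normSq_nonneg _)).mp hrest χ hχ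
    exact sub_eq_zero.mp (Complex.normSq_eq_zero.mp this)
  have hf0 : (f : ℂ) ≠ 0 := Nat.cast_ne_zero.mpr hf.ne'
  unfold Tc
  rw [finsum_mem_eq_finite_toFinset_sum _ hfin, finsum_mem_eq_finite_toFinset_sum _ hfin,
    finsum_mem_eq_finite_toFinset_sum _ hfin, finsum_mem_eq_finite_toFinset_sum _ hfin,
    ← Finset.sum_sub_distrib, ← Finset.sum_sub_distrib, ← Finset.sum_add_distrib,
    ← Finset.add_sum_erase s _ hψs, ← Finset.add_sum_erase (s.erase ψ) _ hψ's,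
    Finset.sum_eq_zero (fun χ hχ => by rw [hzero χ hχ]; ring)]
  rw [hxx, hxx', hy, h1, h1']
  field_simp
  ring

end Cfsg.Agent.Lib.Helper23.BRVIDSIDE
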