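/-
helper23: S4504 (Brauer: faithful character of degree (p-1)/2 ⇒ G/Z(G) ≅ PSL(2,p)), CORE step (VI) = (T) + (M):
`card_sylow_eq` : (V) + the Part-E data of `ψ` + the equality-case data of the principal block ⇒ `|Syl_p G| = p + 1`.
The spine of `notes/S4504_VI_leaves.lean` over the landed leaves:
TPOS, TCOL, COLSUM (helper23), ZREG, CLS, FIN (helper15), UVAL, SING, EVAL (helper29), DSIDE, BOUND, MOM (helper14),
B0SUB, ESIDE, THETA (helper4).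
-/
import Mathlib
import Cfsg.Prelude.Def_BlockRank
import Cfsg.Agent.Lib.Helper6.BRHDefs
import Cfsg.Agent.Lib.Helper23.BRVIDefs
import Cfsg.Agent.Lib.Helper23.BRVITPOS
import Cfsg.Agent.Lib.Helper23.BRVITCOL
import Cfsg.Agent.Lib.Helper23.BRVICOLSUM
import Cfsg.Agent.Lib.Helper15.BRVIZREG
import Cfsg.Agent.Lib.Helper15.BRVICLS
import Cfsg.Agent.Lib.Helper15.BRVIFIN
import Cfsg.Agent.Lib.Helper29.BRVIUVAL
import Cfsg.Agent.Lib.Helper29.BRVISING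
import Cfsg.Agent.Lib.Helper29.BRVIEVAL
import Cfsg.Agent.Lib.Helper14.BRVIDSIDE
import Cfsg.Agent.Lib.Helper14.BRVIBOUND
import Cfsg.Agent.Lib.Helper14.BRVIMOM
import Cfsg.Agent.Lib.Helper4.BRVIB0SUB
import Cfsg.Agent.Lib.Helper4.BRVIESIDE
import Cfsg.Agent.Lib.Helper4.BRVITHETA

set_option autoImplicit false

namespace Cfsg.Agent.Lib.Helper23.BRVIMain

open Cfsg Cfsg.Agent.Lib.Helper8.DOM Cfsg.Agent.Lib.Helper27.DO Cfsg.Agent.CharLib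
open Cfsg.Agent.Lib.Helper6.BRH Cfsg.Agent.Lib.Helper23.BRVI
open scoped ComplexConjugate

universe u

variable {G : Type u} [Group G] [Finite G] {p : ℕ} [Fact p.Prime]

/-- (VI) : the number of Sylow `p`-subgroups is `p + 1`.
INPUTS: (V) `hV` [helper1 `BRV`]; `x0 F ψs i` + `hx0 hF hFcard hval hreg horth hsum0` = the output of helper14 `BRE2.partE_le` for `ψ = ψs i`
(with `c = 1`, i.e. `ψ(1) = f`; `horth` = its orthogonality clause at `(i, i c)`); `h2f` = helper6 `BRHLe.partH_le`; `c ∉ F` any (it exists as `f < p - 1`);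
`X Y v ε d hYreg hdegp hdegm hcase` = the output of helper6 `BRHEq.eq_case` for `(ψ, ψ') = (ψs i, ψs (i c))`; `hrel` = the last clause of
helper6 `BRHB0X.exists_B0_full` (to be exported by `eq_case`). -/
theorem card_sylow_eq (P : Subgroup G) (hP : Nat.card P = p) (hSyl : ¬ p ∣ P.index) (hnn : ¬ P.Normal)
    (hV : ∀ y ∈ Cz P, ¬ p ∣ orderOf y → y ∈ Subgroup.center G)
    (x0 : G) (hx0 : P = Subgroup.zpowers x0) (F : Subgroup (ZMod p)ˣ)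
    (hF : ∀ u : (ZMod p)ˣ, u ∈ F ↔ ∃ n ∈ Nz P, n * x0 * n⁻¹ = x0 ^ (u : ZMod p).val)
    (hFcard : Nat.card F = (Cz P).relIndex (Nz P))
    (h2f : 2 * (Cz P).relIndex (Nz P) = p - 1) (hf2 : 2 ≤ (Cz P).relIndex (Nz P))
    (c : (ZMod p)ˣ) (hc : c ∉ F)
    (ψs : (ZMod p)ˣ → IrrCharacter G) (i : (ZMod p)ˣ)
    (hfaith : ∀ g : G, (ψs i : G → ℂ) g = (ψs i : G → ℂ) 1 → g = 1)
    (hdeg : charDegree (ψs i : G → ℂ) = (Cz P).relIndex (Nz P))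
    (hval : ∀ (i' : (ZMod p)ˣ) (j : ℕ), ¬ p ∣ j → (ψs i' : G → ℂ) (x0 ^ j) =
      ∑ᶠ w ∈ (F : Set (ZMod p)ˣ), zetaP p ^ (((w : ZMod p) * (i' : ZMod p)).val * j))
    (hreg : ∀ (i' : (ZMod p)ˣ) (g : G), ¬ p ∣ orderOf g → (ψs i' : G → ℂ) g = (ψs i : G → ℂ) g)
    (horth : ∑ᶠ a ∈ (P : Set G), (ψs i : G → ℂ) a * conj ((ψs (i * c) : G → ℂ) a) = 0)
    (hsum0 : ∑ᶠ a ∈ (P : Set G), (ψs i : G → ℂ) a = 0)
    (X Y : Set (IrrCharacter G)) (v : IrrCharacter G → ℤ) (ε : ℤ) (d : B0 p P X Y v ε)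
    (hYreg : ∀ ξ ∈ Y, ∀ ξ' ∈ Y, ∀ g : G, ¬ p ∣ orderOf g → (ξ : G → ℂ) g = (ξ' : G → ℂ) g)
    (hrel : ∀ ξ ∈ Y, ∀ g : G, ¬ p ∣ orderOf g →
      (ε : ℂ) * (ξ : G → ℂ) g = ∑ᶠ χ ∈ X, (v χ : ℂ) * (χ : G → ℂ) g)
    (hdegp : ∀ η ∈ X, v η = 1 → η ≠ trivIrr G → charDegree (η : G → ℂ) = p + 1)
    (hdegm : ∀ η ∈ X, v η = -1 → charDegree (η : G → ℂ) = p - 1)
    (hcase : CaseA ((Cz P).relIndex (Nz P)) (ψs i) (ψs (i * c)) X Y v ∨
      CaseB ((Cz P).relIndex (Nz P)) (ψs i) (ψs (i * c)) X Y v) :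
    Nat.card (Sylow p G) = p + 1 := by
  classical
  have hpp : p.Prime := Fact.out
  have hp1 : 1 < p := hpp.one_lt
  obtain ⟨hnc, hcc, hcls2, hps⟩ := Cfsg.Agent.Lib.Helper15.BRVICLS.cls_facts P hP x0 hx0 F hF _ hFcard h2f c hc
  have hf0 : 0 < (Cz P).relIndex (Nz P) := by omega
  have hf0' : (((Cz P).relIndex (Nz P) : ℕ) : ℂ) ≠ 0 := Nat.cast_ne_zero.mpr hf0.ne'
  have hone : ¬ p ∣ orderOf (1 : G) := by
    rw [orderOf_one]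
    intro h
    exact hp1.ne' (Nat.dvd_one.mp h)
  have hψ1 : (ψs i : G → ℂ) 1 = (((Cz P).relIndex (Nz P) : ℕ) : ℂ) := by
    rw [Cfsg.Agent.Lib.Helper6.BRH.apply_one_eq, hdeg]
  have hψ'1 : (ψs (i * c) : G → ℂ) 1 = (ψs i : G → ℂ) 1 := hreg (i * c) 1 hone
  obtain ⟨hu1, hu2, hn⟩ := Cfsg.Agent.Lib.Helper29.BRVIUVAL.exc_values P hP x0 hx0 F _ hf0 c hcc hps h2f ψs i hval horth hsum0 hdeg hψ'1
  have hZreg := Cfsg.Agent.Lib.Helper15.BRVIZREG.center_regular P hP hSyl hnn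
  have hx0P : x0 ∈ P := by rw [hx0]; exact Subgroup.mem_zpowers x0
  have hx'P : x0 ^ (c : ZMod p).val ∈ P := P.pow_mem hx0P _
  have hord : orderOf x0 = p := by rw [← hP, hx0, Nat.card_zpowers]
  have hx01 : x0 ≠ 1 := by
    intro h
    rw [h, orderOf_one] at hord
    exact hp1.ne hord
  have hcop : Nat.Coprime (orderOf x0) (c : ZMod p).val := by
    rw [hord]
    apply (Nat.Prime.coprime_iff_not_dvd hpp).mpr
    intro hdvd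
    have h0 : ((c : ZMod p).val : ZMod p) = 0 := (ZMod.natCast_eq_zero_iff _ _).mpr hdvd
    rw [ZMod.natCast_zmod_val] at h0
    exact c.ne_zero h0
  have hordx' : orderOf (x0 ^ (c : ZMod p).val) = p := by
    rw [Nat.Coprime.orderOf_pow hcop, hord]
  have hx'1 : x0 ^ (c : ZMod p).val ≠ 1 := by
    intro h
    rw [h, orderOf_one] at hordx'
    exact hp1.ne hordx'
  have hψ'S : ψs (i * c) ∈ cset (ψs i) := by
    intro z hz
    rw [hψ'1, hreg (i * c) z (hZreg z hz)]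
  have hpne : ((p : ℕ) : ℝ) ≠ 0 := Nat.cast_ne_zero.mpr hpp.ne_zero
  have hne : ψs i ≠ ψs (i * c) := by
    intro h
    have h1 : (ψs (i * c) : G → ℂ) x0 = (ψs i : G → ℂ) x0 := by rw [← h]
    rw [hu1] at h1
    rw [h1, sub_self, map_zero] at hn
    exact hpne hn.symm
  obtain ⟨hcolD, -⟩ := Cfsg.Agent.Lib.Helper23.BRVICOLSUM.col_sums P hP hSyl hnn hV x0 (x0 ^ (c : ZMod p).val) hx0P hx01 hx'P hx'1 hnc (ψs i)
  obtain ⟨-, hcolE⟩ := Cfsg.Agent.Lib.Helper23.BRVICOLSUM.col_sums P hP hSyl hnn hV x0 (x0 ^ (c : ZMod p).val) hx0P hx01 hx'P hx'1 hnc (trivIrr G)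
  have hsub := Cfsg.Agent.Lib.Helper4.BRVIB0SUB.b0_subset P hP hZreg X Y v ε d hYreg
  have hY : ∀ ξ ∈ Y, (ξ : G → ℂ) x0 + (ξ : G → ℂ) (x0 ^ (c : ZMod p).val) = -(ε : ℂ) := by
    intro ξ hξ
    have h1 := d.psumY ξ hξ
    rw [hps (ξ : G → ℂ) (IsCharacter.isClassFunction (IsIrrCharacter.isCharacter ξ.2))] at h1
    apply mul_left_cancel₀ hf0'
    rw [h1]
    ring
  have h2f' : 2 * (Cz P).relIndex (Nz P) + 1 = p := by omega
  -- (T)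
  have hT : ∀ y : G, ¬ p ∣ orderOf y → y ∉ Subgroup.center G →
      Complex.normSq ((ψs i : G → ℂ) y) ≤ 1 := by
    intro y hy hyZ
    have hD := Cfsg.Agent.Lib.Helper14.BRVIDSIDE.d_side (ψs i) (ψs (i * c)) hne hψ'S x0 (x0 ^ (c : ZMod p).val) y _ hf0 hψ1
      (hψ'1.trans hψ1) (hreg (i * c) y hy) hu1 hu2 hn hcolD
    have hE := Cfsg.Agent.Lib.Helper4.BRVIESIDE.e_side P hP h2f X Y v ε d hsub x0 (x0 ^ (c : ZMod p).val) y (by rw [hord])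
      (by rw [hordx']) hY hcolE
    have hEv := Cfsg.Agent.Lib.Helper29.BRVIEVAL.e_eval P hP _ rfl hf2 h2f (ψs i) (ψs (i * c)) (hreg (i * c)) X Y v ε d hYreg hdegp hdegm
      hcase y hy
    obtain ⟨r1, hr1, hb1⟩ := Cfsg.Agent.Lib.Helper23.BRVITPOS.tc_bound (ψs i) x0 x0 y
    obtain ⟨r2, hr2, hb2⟩ := Cfsg.Agent.Lib.Helper23.BRVITPOS.tc_bound (ψs i) x0 (x0 ^ (c : ZMod p).val) y
    obtain ⟨r3, hr3, hb3⟩ := Cfsg.Agent.Lib.Helper23.BRVITPOS.tc_bound (ψs i) (x0 ^ (c : ZMod p).val) x0 y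
    obtain ⟨r4, hr4, hb4⟩ := Cfsg.Agent.Lib.Helper23.BRVITPOS.tc_bound (ψs i) (x0 ^ (c : ZMod p).val) (x0 ^ (c : ZMod p).val) y
    apply Cfsg.Agent.Lib.Helper14.BRVIBOUND.le_one_of_bound (ψs i) hfaith _ hf2 hdeg h2f' y hyZ _ hn
    rw [← hD]
    have hsum : ((r1 + r2 + r3 + r4 : ℝ) : ℂ) = ((2 * (2 * (((Cz P).relIndex (Nz P) : ℕ) : ℝ) + 1) *
        ((((Cz P).relIndex (Nz P) : ℕ) : ℝ) + Complex.normSq ((ψs i : G → ℂ) y)) /
        ((((Cz P).relIndex (Nz P) : ℕ) : ℝ) * ((((Cz P).relIndex (Nz P) : ℕ) : ℝ) + 1)) : ℝ) : ℂ) := by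
      rw [← hEv, ← hE, hr1, hr2, hr3, hr4]
      push_cast
      ring
    have hsum' := Complex.ofReal_injective hsum
    rw [← hsum']
    have htri : ∀ a b c d : ℂ, ‖a - b - c + d‖ ≤ ‖a‖ + ‖b‖ + ‖c‖ + ‖d‖ := by
      intro a b c d
      calc ‖a - b - c + d‖ ≤ ‖a - b - c‖ + ‖d‖ := norm_add_le _ _
        _ ≤ ‖a - b‖ + ‖c‖ + ‖d‖ := by gcongr; exact norm_sub_le _ _
        _ ≤ ‖a‖ + ‖b‖ + ‖c‖ + ‖d‖ := by gcongr; exact norm_sub_le _ _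
    have := htri (Tc (cset (ψs i)) x0 x0 y) (Tc (cset (ψs i)) x0 (x0 ^ (c : ZMod p).val) y)
      (Tc (cset (ψs i)) (x0 ^ (c : ZMod p).val) x0 y)
      (Tc (cset (ψs i)) (x0 ^ (c : ZMod p).val) (x0 ^ (c : ZMod p).val) y)
    linarith
  -- (M)
  have hS := Cfsg.Agent.Lib.Helper29.BRVISING.card_singular P hP h2f hf2 X Y v ε d hrel
  obtain ⟨Θ, κ, t₁, t₂, h1, h2, h3, h4, h5⟩ :=
    Cfsg.Agent.Lib.Helper4.BRVITHETA.theta_data P hP _ rfl (ψs i) (ψs (i * c)) (hreg (i * c)) X Y v ε d hcase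
  have hle := Cfsg.Agent.Lib.Helper14.BRVIMOM.mom_bound (ψs i) _ hf2 hdeg h2f' hZreg hT hS Θ κ t₁ t₂ h1 h2 h3 h4 h5
  exact Cfsg.Agent.Lib.Helper15.BRVIFIN.card_sylow_of_le P hP hSyl hnn hV hle


end Cfsg.Agent.Lib.Helper23.BRVIMain
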