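/-
helper23: sections certified by homomorphisms, and two normal non-abelian subgroups with distinct
centres of order two in a `2`-group of sectional rank at most four (S4400).
-/
import Mathlib
import Cfsg.Prelude.Def_CaseTheorems
import Cfsg.Agent.Lib.Helper12.Basic
import Cfsg.Agent.Lib.Helper9.FStar2

set_option autoImplicit false

namespace Cfsg.Agent.Lib.Helper23

open Cfsg



/-- a group of exponent two is commutative -/
theorem mul_comm_of_forall_sq_eq_one {X : Type*} [Group X] (h : ∀ x : X, x ^ 2 = 1) (a b : X) :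
    a * b = b * a := by
  have hinv : ∀ x : X, x⁻¹ = x := by
    intro x
    have := h x
    rw [pow_two] at this
    exact inv_eq_of_mul_eq_one_left this
  calc a * b = (a * b)⁻¹ := (hinv _).symm
    _ = b⁻¹ * a⁻¹ := mul_inv_rev a b
    _ = b * a := by rw [hinv, hinv]

/-- sections certified by a pair of homomorphisms: if `μ : D →* S` and `φ : D →* E` is onto a group
of exponent `p` which is commutative, with `ker μ ≤ ker φ`, then `E` is a section of `S`. -/
theorem card_le_of_sectionalPRankLE {S D E : Type*} [Group S] [Group D] [Group E] (p k : ℕ)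
    (hr : Cfsg.SectionalPRankLE p k S) (μ : D →* S) (φ : D →* E) (hφ : Function.Surjective φ)
    (hcomm : ∀ a b : E, a * b = b * a)
    (hE : ∀ e : E, e ^ p = 1) (hker : μ.ker ≤ φ.ker) : Nat.card E ≤ p ^ k := by
  let ψ : ↥μ.range →* E :=
    (QuotientGroup.lift μ.ker φ hker).comp (QuotientGroup.quotientKerEquivRange μ).symm.toMonoidHom
  have hψ : Function.Surjective ψ := by
    intro e
    obtain ⟨d, rfl⟩ := hφ e
    refine ⟨(QuotientGroup.quotientKerEquivRange μ) (QuotientGroup.mk d), ?_⟩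
    simp [ψ]
  let e : ↥μ.range ⧸ ψ.ker ≃* E := QuotientGroup.quotientKerEquivOfSurjective ψ hψ
  have h := hr μ.range ψ.ker (⊤ : Subgroup (↥μ.range ⧸ ψ.ker))
    ⟨⟨fun a b => by
      apply Subtype.ext
      apply e.injective
      simp only [Subgroup.coe_mul, map_mul]
      exact hcomm _ _⟩⟩
    (fun a _ => by
      apply e.injective
      rw [map_pow, map_one]
      exact hE _)
  rw [Subgroup.card_top, Nat.card_congr e.toEquiv] at h
  exact h

/-- in a non-abelian finite `2`-group with centre of order two, every subgroup of index two contains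
the centre -/
theorem center_le_of_index_two {P : Type*} [Group P] [Finite P] (hP : IsPGroup 2 P)
    (hnc : ¬ IsMulCommutative P) (hZ : Nat.card (Subgroup.center P) = 2) (M : Subgroup P)
    (hM : M.index = 2) : Subgroup.center P ≤ M := by
  by_contra hcon
  obtain ⟨z, hzc, hzM⟩ := Set.not_subset.mp hcon
  have hMne : M ≠ ⊥ := by
    intro h
    apply hnc
    have hcard : Nat.card P = 2 := by
      rw [← M.card_mul_index, hM, h, Subgroup.card_bot, one_mul]
    have : Fact (Nat.Prime 2) := ⟨Nat.prime_two⟩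
    have : IsCyclic P := isCyclic_of_prime_card hcard
    exact IsCyclic.isMulCommutative
  have : Fact (Nat.Prime 2) := ⟨Nat.prime_two⟩
  have hMnt : Nontrivial ↥M := (Subgroup.nontrivial_iff_ne_bot M).mpr hMne
  have hcnt := (hP.to_subgroup M).center_nontrivial
  obtain ⟨w, hw1⟩ := exists_ne (1 : ↥(Subgroup.center ↥M))
  have hwM : ((w : ↥M) : P) ∈ M := (w : ↥M).2
  have hwc : ((w : ↥M) : P) ∈ Subgroup.center P := by
    rw [Subgroup.mem_center_iff]
    have hwm : ∀ m : P, m ∈ M → m * ((w : ↥M) : P) = ((w : ↥M) : P) * m := by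
      intro m hm
      have h1 := Subgroup.mem_center_iff.mp w.2 ⟨m, hm⟩
      exact congrArg Subtype.val h1
    intro g
    by_cases hg : g ∈ M
    · exact hwm g hg
    · have h1 : g * z⁻¹ ∈ M := by
        rw [Subgroup.mul_mem_iff_of_index_two hM]
        constructor
        · intro h; exact absurd h hg
        · intro h; exact absurd (M.inv_mem_iff.mp h) hzM
      have h2 := hwm _ h1
      have h3 := Subgroup.mem_center_iff.mp hzc ((w : ↥M) : P)
      calc g * ((w : ↥M) : P) = (g * z⁻¹) * (z * ((w : ↥M) : P)) := by group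
        _ = (g * z⁻¹) * (((w : ↥M) : P) * z) := by rw [h3]
        _ = ((g * z⁻¹) * ((w : ↥M) : P)) * z := by group
        _ = (((w : ↥M) : P) * (g * z⁻¹)) * z := by rw [h2]
        _ = ((w : ↥M) : P) * g := by group
  obtain ⟨y, -, hy⟩ := (Nat.card_eq_two_iff' (1 : ↥(Subgroup.center P))).mp hZ
  have h1 : (⟨z, hzc⟩ : ↥(Subgroup.center P)) = y := by
    apply hy
    intro h
    apply hzM
    have : z = 1 := congrArg Subtype.val h
    rw [this]; exact M.one_mem
  have h2 : (⟨((w : ↥M) : P), hwc⟩ : ↥(Subgroup.center P)) = y := by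
    apply hy
    intro h
    apply hw1
    have h3 : ((w : ↥M) : P) = 1 := congrArg Subtype.val h
    apply Subtype.ext
    apply Subtype.ext
    simpa using h3
  have h3 : z = ((w : ↥M) : P) := congrArg Subtype.val (h1.trans h2.symm)
  exact hzM (h3 ▸ hwM)





/-- a non-abelian finite `2`-group with centre of order two has a normal subgroup of index at least
four containing all squares and the centre -/
theorem exists_normal_index_four {P : Type*} [Group P] [Finite P] (hP : IsPGroup 2 P)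
    (hnc : ¬ IsMulCommutative P) (hZ : Nat.card (Subgroup.center P) = 2) :
    ∃ N : Subgroup P, N.Normal ∧ (∀ x : P, x ^ 2 ∈ N) ∧ 4 ≤ N.index ∧ Subgroup.center P ≤ N := by
  have : Fact (Nat.Prime 2) := ⟨Nat.prime_two⟩
  obtain ⟨n, hn⟩ := IsPGroup.iff_card.mp hP
  have hn0 : n ≠ 0 := by
    rintro rfl
    rw [pow_zero] at hn
    apply hnc
    have : Subsingleton P := (Nat.card_eq_one_iff_unique.mp hn).1
    exact ⟨⟨fun a b => Subsingleton.elim _ _⟩⟩
  obtain ⟨k, rfl⟩ := Nat.exists_eq_succ_of_ne_zero hn0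
  have hdvd : 2 ^ k ∣ Nat.card P := by rw [hn]; exact pow_dvd_pow 2 (Nat.le_succ k)
  have hidx : ∀ M : Subgroup P, Nat.card ↥M = 2 ^ k → M.index = 2 := by
    intro M hM
    have h1 := M.card_mul_index
    rw [hM, hn, pow_succ] at h1
    exact Nat.eq_of_mul_eq_mul_left (pow_pos (by norm_num) k) h1
  obtain ⟨M₁, hM₁, -⟩ := Sylow.exists_subgroup_card_pow_prime_le 2 hdvd (⊥ : Subgroup P)
    (by rw [Subgroup.card_bot, pow_zero]) (Nat.zero_le k)
  have hM₁top : M₁ ≠ ⊤ := by
    intro h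
    have := hidx M₁ hM₁
    rw [h, Subgroup.index_top] at this
    omega
  obtain ⟨x, hx⟩ : ∃ x : P, x ∉ M₁ := by
    by_contra hcon
    push Not at hcon
    exact hM₁top (eq_top_iff.mpr fun y _ => hcon y)
  have hxtop : Subgroup.zpowers x ≠ ⊤ := by
    intro h
    apply hnc
    have : IsCyclic P := ⟨⟨x, fun y => by
      have : y ∈ Subgroup.zpowers x := by rw [h]; exact Subgroup.mem_top y
      exact this⟩⟩
    exact IsCyclic.isMulCommutative
  obtain ⟨j, hj⟩ := IsPGroup.iff_card.mp (hP.to_subgroup (Subgroup.zpowers x))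
  have hjk : j ≤ k := by
    have h1 : Nat.card ↥(Subgroup.zpowers x) ∣ Nat.card P := Subgroup.card_subgroup_dvd_card _
    rw [hj, hn] at h1
    have h2 : j ≤ k + 1 := (Nat.pow_dvd_pow_iff_le_right (by norm_num)).mp h1
    rcases Nat.lt_or_ge j (k + 1) with h | h
    · omega
    · exfalso
      have h3 : j = k + 1 := le_antisymm h2 h
      apply hxtop
      rw [← Subgroup.card_eq_iff_eq_top, hj, hn, h3]
  obtain ⟨M₂, hM₂, hxM₂⟩ := Sylow.exists_subgroup_card_pow_prime_le 2 hdvd (Subgroup.zpowers x)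
    hj hjk
  have hi₁ := hidx M₁ hM₁
  have hi₂ := hidx M₂ hM₂
  have hn₁ : M₁.Normal := Subgroup.normal_of_index_eq_two hi₁
  have hn₂ : M₂.Normal := Subgroup.normal_of_index_eq_two hi₂
  refine ⟨M₁ ⊓ M₂, inferInstance, ?_, ?_, ?_⟩
  · intro y
    exact ⟨Subgroup.sq_mem_of_index_two hi₁ y, Subgroup.sq_mem_of_index_two hi₂ y⟩
  · have h1 := Subgroup.relIndex_mul_index (inf_le_left : M₁ ⊓ M₂ ≤ M₁)
    rw [hi₁] at h1
    have h2 : (M₁ ⊓ M₂).relIndex M₁ ≠ 1 := by
      intro h
      rw [Subgroup.relIndex_eq_one] at h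
      have h3 : M₁ ≤ M₂ := h.trans inf_le_right
      have h4 : M₁ = M₂ := Subgroup.eq_of_le_of_card_ge h3 (by rw [hM₁, hM₂])
      apply hx
      rw [h4]
      exact hxM₂ (Subgroup.mem_zpowers x)
    have h3 : (M₁ ⊓ M₂).relIndex M₁ ≠ 0 := by
      unfold Subgroup.relIndex
      exact Subgroup.index_ne_zero_of_finite
    have h4 : 2 ≤ (M₁ ⊓ M₂).relIndex M₁ := by omega
    calc 4 = 2 * 2 := by norm_num
      _ ≤ (M₁ ⊓ M₂).relIndex M₁ * 2 := Nat.mul_le_mul_right 2 h4
      _ = (M₁ ⊓ M₂).index := h1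
  · exact le_inf (center_le_of_index_two hP hnc hZ M₁ hi₁) (center_le_of_index_two hP hnc hZ M₂ hi₂)







/-- the centre of a normal subgroup, viewed in the ambient group, is normal -/
theorem map_center_normal {S : Type*} [Group S] (P : Subgroup S) [P.Normal] :
    ((Subgroup.center ↥P).map P.subtype).Normal := by
  rw [Cfsg.Agent.Lib.Helper9.map_subtype_center]
  have : (Subgroup.centralizer (P : Set S)).Normal := Subgroup.normal_centralizer
  infer_instance

/-- a normal subgroup of order two is central -/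
theorem le_center_of_normal_of_card_two {S : Type*} [Group S] (Z : Subgroup S) [hZn : Z.Normal]
    (hZ : Nat.card ↥Z = 2) : Z ≤ Subgroup.center S := by
  intro z hz
  rw [Subgroup.mem_center_iff]
  intro g
  by_cases hz1 : z = 1
  · rw [hz1, mul_one, one_mul]
  · obtain ⟨y, -, hy⟩ := (Nat.card_eq_two_iff' (1 : ↥Z)).mp hZ
    have h1 : (⟨z, hz⟩ : ↥Z) = y := hy _ (fun h => hz1 (congrArg Subtype.val h))
    have h2 : (⟨g * z * g⁻¹, hZn.conj_mem z hz g⟩ : ↥Z) = y := by
      apply hy
      intro h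
      have h3 : g * z * g⁻¹ = 1 := congrArg Subtype.val h
      apply hz1
      have : z = g⁻¹ * (g * z * g⁻¹) * g := by group
      rw [this, h3]; group
    have h3 : g * z * g⁻¹ = z := congrArg Subtype.val (h2.trans h1.symm)
    calc g * z = (g * z * g⁻¹) * g := by group
      _ = z * g := by rw [h3]

/-- a nontrivial normal subgroup of `S` inside the `2`-group `P` with centre of order two contains
that centre -/
theorem map_center_le_of_normal {S : Type*} [Group S] [Finite S] (h2 : IsPGroup 2 S)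
    (P : Subgroup S) (hZP : Nat.card ↥(Subgroup.center ↥P) = 2)
    (N : Subgroup S) [N.Normal] (hNP : N ≤ P) (hN : N ≠ ⊥) :
    (Subgroup.center ↥P).map P.subtype ≤ N := by
  have : Fact (Nat.Prime 2) := ⟨Nat.prime_two⟩
  have hN' : N.subgroupOf P ≠ ⊥ := by
    intro h
    rw [Subgroup.subgroupOf_eq_bot, disjoint_iff, inf_eq_left.mpr hNP] at h
    exact hN h
  obtain ⟨x, hxN, hx1, hxc⟩ :=
    Cfsg.Agent.Lib.Helper12.exists_ne_one_mem_center_of_normal (h2.to_subgroup P)
      (N.subgroupOf P) hN'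
  obtain ⟨y, -, hy⟩ := (Nat.card_eq_two_iff' (1 : ↥(Subgroup.center ↥P))).mp hZP
  have h1 : (⟨x, hxc⟩ : ↥(Subgroup.center ↥P)) = y :=
    hy _ (fun h => hx1 (congrArg Subtype.val h))
  rintro _ ⟨w, hw, rfl⟩
  by_cases hw1 : w = 1
  · rw [hw1, map_one]; exact N.one_mem
  · have h3 : (⟨w, hw⟩ : ↥(Subgroup.center ↥P)) = y :=
      hy _ (fun h => hw1 (congrArg Subtype.val h))
    have h4 : w = x := congrArg Subtype.val (h3.trans h1.symm)
    rw [h4]
    exact Subgroup.mem_subgroupOf.mp hxN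

theorem inf_eq_bot_of_centers_ne {S : Type*} [Group S] [Finite S] (h2 : IsPGroup 2 S)
    (P Q : Subgroup S) [P.Normal] [Q.Normal]
    (hZP : Nat.card ↥(Subgroup.center ↥P) = 2) (hZQ : Nat.card ↥(Subgroup.center ↥Q) = 2)
    (hne : (Subgroup.center ↥P).map P.subtype ≠ (Subgroup.center ↥Q).map Q.subtype) :
    P ⊓ Q = ⊥ := by
  by_contra hcon
  have h1 := map_center_le_of_normal h2 P hZP (P ⊓ Q) inf_le_left hcon
  have h2' := map_center_le_of_normal h2 Q hZQ (P ⊓ Q) inf_le_right hcon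
  have hn : ((Subgroup.center ↥P).map P.subtype).Normal := map_center_normal P
  have hcard : ∀ R : Subgroup S, Nat.card ↥((Subgroup.center ↥R).map R.subtype) =
      Nat.card ↥(Subgroup.center ↥R) := fun R =>
    Subgroup.card_map_of_injective (Subgroup.subtype_injective R)
  have hc : (Subgroup.center ↥P).map P.subtype ≤ Subgroup.center S :=
    le_center_of_normal_of_card_two _ (by rw [hcard, hZP])
  apply hne
  apply Subgroup.eq_of_le_of_card_ge
  · rw [Cfsg.Agent.Lib.Helper9.map_subtype_center Q]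
    refine le_inf (h1.trans inf_le_right) ?_
    intro z hz
    rw [Subgroup.mem_centralizer_iff]
    intro y _
    exact (Subgroup.mem_center_iff.mp (hc hz) y)
  · rw [hcard, hcard, hZP, hZQ]








/-- in a finite `2`-group, a subgroup `C` not contained in `R` has an element outside `R` whose
square lies in `R` -/
theorem exists_sq_mem_of_not_le {S : Type*} [Group S] [Finite S] (h2 : IsPGroup 2 S)
    (C R : Subgroup S) (h : ¬ C ≤ R) : ∃ t ∈ C, t ∉ R ∧ t ^ 2 ∈ R := by
  obtain ⟨t, htC, htR⟩ := Set.not_subset.mp h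
  obtain ⟨m, hm⟩ := h2 t
  classical
  have hex : ∃ j : ℕ, t ^ 2 ^ j ∈ R := ⟨m, by rw [hm]; exact R.one_mem⟩
  have hj0 : Nat.find hex ≠ 0 := by
    intro h0
    have := Nat.find_spec hex
    rw [h0, pow_zero, pow_one] at this
    exact htR this
  obtain ⟨i, hi⟩ := Nat.exists_eq_succ_of_ne_zero hj0
  refine ⟨t ^ 2 ^ i, C.pow_mem htC _, ?_, ?_⟩
  · exact Nat.find_min hex (by rw [hi]; exact Nat.lt_succ_self i)
  · have := Nat.find_spec hex
    rw [hi, pow_succ, pow_mul] at this
    exact this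

theorem sectional_rank_four_two_normal {S : Type*} [Group S] [Finite S] (h2 : IsPGroup 2 S)
    (hr : Cfsg.SectionalPRankLE 2 4 S)
    (P Q : Subgroup S) [P.Normal] [Q.Normal] (hP : ¬ IsMulCommutative ↥P)
    (hQ : ¬ IsMulCommutative ↥Q)
    (hZP : Nat.card ↥(Subgroup.center ↥P) = 2) (hZQ : Nat.card ↥(Subgroup.center ↥Q) = 2)
    (hne : (Subgroup.center ↥P).map P.subtype ≠ (Subgroup.center ↥Q).map Q.subtype) :
    ⁅P, Q⁆ = ⊥ ∧ P ⊓ Q = ⊥ ∧ Subgroup.centralizer ((P ⊔ Q : Subgroup S) : Set S) ≤ P ⊔ Q := by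
  have hinf := inf_eq_bot_of_centers_ne h2 P Q hZP hZQ hne
  have hcomm : ⁅P, Q⁆ = ⊥ := by
    rw [← le_bot_iff, ← hinf]
    exact Subgroup.commutator_le_inf P Q
  refine ⟨hcomm, hinf, ?_⟩
  by_contra hcon
  obtain ⟨t, htC, htR, ht2⟩ := exists_sq_mem_of_not_le h2 _ _ hcon
  set Z := Subgroup.zpowers t with hZdef
  -- commuting facts
  have hPQ : ∀ x ∈ P, ∀ y ∈ Q, x * y = y * x := by
    intro x hx y hy
    have h1 := Subgroup.commutator_eq_bot_iff_le_centralizer.mp hcomm
    have h3 := Subgroup.mem_centralizer_iff.mp (h1 hx) y hy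
    exact h3.symm
  have hZC : ∀ c ∈ Z, ∀ r ∈ P ⊔ Q, r * c = c * r := by
    intro c hc r hr'
    have h1 : c ∈ Subgroup.centralizer ((P ⊔ Q : Subgroup S) : Set S) :=
      (Subgroup.zpowers_le.mpr htC) hc
    exact Subgroup.mem_centralizer_iff.mp h1 r hr'
  let μ₁ : ↥P × ↥Q →* S := P.subtype.noncommCoprod Q.subtype
    (fun x y => hPQ x x.2 y y.2)
  have hμ₁ : ∀ d : ↥P × ↥Q, μ₁ d ∈ P ⊔ Q := by
    intro d
    show (d.1 : S) * (d.2 : S) ∈ P ⊔ Q
    exact Subgroup.mul_mem_sup d.1.2 d.2.2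
  let μ : (↥P × ↥Q) × ↥Z →* S := μ₁.noncommCoprod Z.subtype
    (fun d c => hZC c c.2 _ (hμ₁ d))
  obtain ⟨NP, hNPn, hNPsq, hNPidx, hNPc⟩ := exists_normal_index_four (h2.to_subgroup P) hP hZP
  obtain ⟨NQ, hNQn, hNQsq, hNQidx, hNQc⟩ := exists_normal_index_four (h2.to_subgroup Q) hQ hZQ
  set Z₀ : Subgroup ↥Z := (P ⊔ Q).subgroupOf Z with hZ₀
  have hZ₀n : Z₀.Normal := by
    constructor
    intro n hn g
    have : g * n * g⁻¹ = n := by
      obtain ⟨i, hi⟩ := Subgroup.mem_zpowers_iff.mp g.2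
      obtain ⟨j, hj⟩ := Subgroup.mem_zpowers_iff.mp n.2
      apply Subtype.ext
      simp only [Subgroup.coe_mul, Subgroup.coe_inv]
      rw [← hi, ← hj, zpow_mul_comm, mul_inv_cancel_right]
    rw [this]; exact hn
  have hZ₀sq : ∀ c : ↥Z, c ^ 2 ∈ Z₀ := by
    intro c
    obtain ⟨i, hi⟩ := Subgroup.mem_zpowers_iff.mp c.2
    rw [hZ₀, Subgroup.mem_subgroupOf, Subgroup.coe_pow, ← hi, ← zpow_natCast, ← zpow_mul,
      mul_comm, zpow_mul, zpow_natCast]
    exact Subgroup.zpow_mem _ ht2 i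
  have hZ₀idx : 2 ≤ Z₀.index := by
    have h0 : Z₀.index ≠ 0 := Subgroup.index_ne_zero_of_finite
    have h1 : Z₀.index ≠ 1 := by
      intro h
      rw [Subgroup.index_eq_one] at h
      have : (⟨t, Subgroup.mem_zpowers t⟩ : ↥Z) ∈ Z₀ := by rw [h]; exact Subgroup.mem_top _
      rw [hZ₀, Subgroup.mem_subgroupOf] at this
      exact htR this
    omega
  let φ : (↥P × ↥Q) × ↥Z →* ((↥P ⧸ NP) × (↥Q ⧸ NQ)) × (↥Z ⧸ Z₀) :=
    ((QuotientGroup.mk' NP).prodMap (QuotientGroup.mk' NQ)).prodMap (QuotientGroup.mk' Z₀)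
  have hφ : Function.Surjective φ := by
    rintro ⟨⟨a, b⟩, c⟩
    obtain ⟨x, rfl⟩ := QuotientGroup.mk'_surjective NP a
    obtain ⟨y, rfl⟩ := QuotientGroup.mk'_surjective NQ b
    obtain ⟨z, rfl⟩ := QuotientGroup.mk'_surjective Z₀ c
    exact ⟨((x, y), z), rfl⟩
  have hsq : ∀ e : ((↥P ⧸ NP) × (↥Q ⧸ NQ)) × (↥Z ⧸ Z₀), e ^ 2 = 1 := by
    rintro ⟨⟨a, b⟩, c⟩
    obtain ⟨x, rfl⟩ := QuotientGroup.mk'_surjective NP a
    obtain ⟨y, rfl⟩ := QuotientGroup.mk'_surjective NQ b
    obtain ⟨z, rfl⟩ := QuotientGroup.mk'_surjective Z₀ c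
    ext
    · show (QuotientGroup.mk' NP x) ^ 2 = 1
      rw [← map_pow]
      exact (QuotientGroup.eq_one_iff _).mpr (hNPsq x)
    · show (QuotientGroup.mk' NQ y) ^ 2 = 1
      rw [← map_pow]
      exact (QuotientGroup.eq_one_iff _).mpr (hNQsq y)
    · show (QuotientGroup.mk' Z₀ z) ^ 2 = 1
      rw [← map_pow]
      exact (QuotientGroup.eq_one_iff _).mpr (hZ₀sq z)
  have hker : μ.ker ≤ φ.ker := by
    rintro ⟨⟨x, y⟩, c⟩ hd
    rw [MonoidHom.mem_ker] at hd ⊢
    have hd' : (x : S) * (y : S) * (c : S) = 1 := hd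
    -- c ∈ P ⊔ Q
    have hc : (c : S) ∈ P ⊔ Q := by
      have : (c : S) = ((x : S) * (y : S))⁻¹ := by
        rw [eq_comm, inv_eq_iff_mul_eq_one]; exact hd'
      rw [this]
      exact Subgroup.inv_mem _ (Subgroup.mul_mem_sup x.2 y.2)
    have hxy : (x : S) * (y : S) ∈ Subgroup.centralizer ((P ⊔ Q : Subgroup S) : Set S) := by
      have : (x : S) * (y : S) = (c : S)⁻¹ := by
        rw [eq_comm, inv_eq_iff_mul_eq_one]
        have h1 := hZC c c.2 _ (Subgroup.mul_mem_sup x.2 y.2)
        rw [← h1]; exact hd'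
      rw [this]
      exact Subgroup.inv_mem _ ((Subgroup.zpowers_le.mpr htC) c.2)
    have hxc : x ∈ Subgroup.center ↥P := by
      rw [Subgroup.mem_center_iff]
      intro g
      apply Subtype.ext
      rw [Subgroup.coe_mul, Subgroup.coe_mul]
      have h1 := Subgroup.mem_centralizer_iff.mp hxy (g : S)
        (Subgroup.mem_sup_left g.2)
      have h3 := hPQ g g.2 y y.2
      -- g * (x*y) = (x*y) * g, g*y = y*g
      have h4 : (g : S) * (x : S) * (y : S) = (x : S) * (g : S) * (y : S) := by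
        calc (g : S) * (x : S) * (y : S) = (g : S) * ((x : S) * (y : S)) := by group
          _ = (x : S) * (y : S) * (g : S) := h1
          _ = (x : S) * ((y : S) * (g : S)) := by group
          _ = (x : S) * ((g : S) * (y : S)) := by rw [h3]
          _ = (x : S) * (g : S) * (y : S) := by group
      exact mul_right_cancel h4
    have hyc : y ∈ Subgroup.center ↥Q := by
      rw [Subgroup.mem_center_iff]
      intro g
      apply Subtype.ext
      rw [Subgroup.coe_mul, Subgroup.coe_mul]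
      have h1 := Subgroup.mem_centralizer_iff.mp hxy (g : S)
        (Subgroup.mem_sup_right g.2)
      have h3 := hPQ x x.2 g g.2
      have h4 : (x : S) * ((g : S) * (y : S)) = (x : S) * ((y : S) * (g : S)) := by
        calc (x : S) * ((g : S) * (y : S)) = ((x : S) * (g : S)) * (y : S) := by group
          _ = ((g : S) * (x : S)) * (y : S) := by rw [h3]
          _ = (g : S) * ((x : S) * (y : S)) := by group
          _ = (x : S) * (y : S) * (g : S) := h1
          _ = (x : S) * ((y : S) * (g : S)) := by group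
      exact mul_left_cancel h4
    have e1 : (QuotientGroup.mk' NP x) = 1 := (QuotientGroup.eq_one_iff _).mpr (hNPc hxc)
    have e2 : (QuotientGroup.mk' NQ y) = 1 := (QuotientGroup.eq_one_iff _).mpr (hNQc hyc)
    have e3 : (QuotientGroup.mk' Z₀ c) = 1 :=
      (QuotientGroup.eq_one_iff _).mpr (by rw [hZ₀, Subgroup.mem_subgroupOf]; exact hc)
    show (((QuotientGroup.mk' NP x), (QuotientGroup.mk' NQ y)), (QuotientGroup.mk' Z₀ c)) = 1
    rw [e1, e2, e3]; rfl
  have hle := card_le_of_sectionalPRankLE 2 4 hr μ φ hφ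
    (mul_comm_of_forall_sq_eq_one hsq) hsq hker
  rw [Nat.card_prod, Nat.card_prod, ← Subgroup.index_eq_card, ← Subgroup.index_eq_card,
    ← Subgroup.index_eq_card] at hle
  have : 4 * 4 * 2 ≤ NP.index * NQ.index * Z₀.index :=
    Nat.mul_le_mul (Nat.mul_le_mul hNPidx hNQidx) hZ₀idx
  omega


end Cfsg.Agent.Lib.Helper23
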