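/-
helper23: Blackburn's theorem (2-groups of sectional rank at most two are metacyclic), part A:
sections of sections, the unique involution of a cyclic 2-group, and lifting metacyclicity through
a central involution of the derived subgroup.
-/
import Cfsg.Agent.Lib.Helper23.SectionalRank
import Cfsg.Agent.Lib.Helper1.HuppertMeta

namespace Cfsg.Agent.Lib.Helper23.Blackburn

open Cfsg.Agent.Lib.Helper23 Cfsg.Agent.Lib.Helper1

universe u

/-- sectional rank is inherited by sections (certified by a pair of homomorphisms) -/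
theorem sectionalPRankLE_of_section {S D E : Type*} [Group S] [Group D] [Group E] (p k : ℕ)
    (hr : Cfsg.SectionalPRankLE p k S) (μ : D →* S) (φ : D →* E) (hφ : Function.Surjective φ)
    (hker : μ.ker ≤ φ.ker) : Cfsg.SectionalPRankLE p k E := by
  intro H K hK A hAc hAe
  -- H' = preimage of H in D
  let φH : ↥(H.comap φ) →* ↥H := φ.subgroupComap H
  have hφH : Function.Surjective φH := φ.subgroupComap_surjective_of_surjective H hφ
  let θ : ↥(H.comap φ) →* (↥H ⧸ K) := (QuotientGroup.mk' K).comp φH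
  have hθ : Function.Surjective θ := (QuotientGroup.mk'_surjective K).comp hφH
  let θA : ↥(A.comap θ) →* ↥A := θ.subgroupComap A
  have hθA : Function.Surjective θA := θ.subgroupComap_surjective_of_surjective A hθ
  let μ' : ↥(A.comap θ) →* S := μ.comp ((H.comap φ).subtype.comp (A.comap θ).subtype)
  have hker' : μ'.ker ≤ θA.ker := by
    intro d hd
    rw [MonoidHom.mem_ker] at hd ⊢
    have h1 : φ ((d : ↥(H.comap φ)) : D) = 1 := by
      have : ((d : ↥(H.comap φ)) : D) ∈ μ.ker := hd
      exact hker this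
    have h2 : φH (d : ↥(H.comap φ)) = 1 := Subtype.ext h1
    apply Subtype.ext
    show θ (d : ↥(H.comap φ)) = 1
    show (QuotientGroup.mk' K) (φH (d : ↥(H.comap φ))) = 1
    rw [h2, map_one]
  exact card_le_of_sectionalPRankLE p k hr μ' θA hθA
    (fun a b => hAc.is_comm.comm a b)
    (fun e => Subtype.ext (by simpa using hAe e.1 e.2)) hker'

theorem mem_zpowers_of_orderOf_two {G : Type*} [Group G] {z e : G} (hz2 : orderOf z = 2) :
    e ∈ Subgroup.zpowers z ↔ e = 1 ∨ e = z := by
  constructor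
  · intro h
    obtain ⟨k, rfl⟩ := Subgroup.mem_zpowers_iff.1 h
    have hz : z ^ 2 = 1 := by rw [← hz2]; exact pow_orderOf_eq_one z
    rcases Int.even_or_odd' k with ⟨m, hm | hm⟩
    · left
      rw [hm, zpow_mul, zpow_ofNat, hz, one_zpow]
    · right
      rw [hm, zpow_add, zpow_mul, zpow_ofNat, hz, one_zpow, one_mul, zpow_one]
  · rintro (rfl | rfl)
    · exact one_mem _
    · exact Subgroup.mem_zpowers _

/-- the unique involution of a cyclic 2-group -/
theorem involution_zpowers {G : Type*} [Group G] {g z : G} {r : ℕ} (hg : orderOf g = 2 ^ (r + 1))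
    (hz : z ∈ Subgroup.zpowers g) (hz2 : orderOf z = 2) : z = g ^ (2 ^ r) := by
  have hw2 : orderOf (g ^ (2 ^ r)) = 2 := by
    have : Fact (Nat.Prime 2) := ⟨Nat.prime_two⟩
    apply orderOf_eq_prime
    · rw [← pow_mul, ← pow_succ, ← hg]; exact pow_orderOf_eq_one g
    · apply pow_ne_one_of_lt_orderOf (by positivity)
      rw [hg, pow_succ]
      have : 0 < 2 ^ r := by positivity
      omega
  obtain ⟨k, rfl⟩ := Subgroup.mem_zpowers_iff.1 hz
  have h1 : (g ^ k) ^ (2 : ℤ) = 1 := by
    rw [zpow_ofNat, ← hz2]; exact pow_orderOf_eq_one _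
  rw [← zpow_mul] at h1
  have h2 : (orderOf g : ℤ) ∣ k * 2 := orderOf_dvd_iff_zpow_eq_one.2 h1
  rw [hg] at h2
  have h3 : ((2 : ℤ) ^ r) ∣ k := by
    have h2' : ((2 : ℤ) ^ r) * 2 ∣ k * 2 := by
      have : ((2 ^ (r + 1) : ℕ) : ℤ) = (2 : ℤ) ^ r * 2 := by push_cast; ring
      rwa [this] at h2
    exact Int.dvd_of_mul_dvd_mul_right (by norm_num) h2'
  obtain ⟨m, rfl⟩ := h3
  have hmem : g ^ ((2 : ℤ) ^ r * m) ∈ Subgroup.zpowers (g ^ (2 ^ r)) := by
    rw [zpow_mul]
    have : g ^ ((2 : ℤ) ^ r) = g ^ (2 ^ r) := by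
      rw [← zpow_natCast]; push_cast; rfl
    rw [this]
    exact Subgroup.zpow_mem_zpowers _ _
  rcases (mem_zpowers_of_orderOf_two hw2).1 hmem with h | h
  · exfalso
    rw [h, orderOf_one] at hz2
    omega
  · exact h

/-- lifting metacyclicity through a central involution of the derived subgroup -/
theorem lift_metacyclic {G : Type u} [Group G] [Finite G] (hG : IsPGroup 2 G)
    (z : G) (hzc : z ∈ Subgroup.center G) (hz2 : orderOf z = 2)
    [hn : (Subgroup.zpowers z).Normal]
    (hzG' : z ∈ commutator G) (hG'4 : 2 < Nat.card (commutator G))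
    (hq : Cfsg.IsMetacyclic (G ⧸ Subgroup.zpowers z)) : Cfsg.IsMetacyclic G := by
  obtain ⟨xb, gb, hxn, hall⟩ := HuppertMeta.exists_pair_of_isMetacyclic hq
  obtain ⟨a, rfl⟩ := QuotientGroup.mk_surjective xb
  obtain ⟨b, rfl⟩ := QuotientGroup.mk_surjective gb
  have hZc : ∀ e ∈ Subgroup.zpowers z, ∀ g : G, e * g = g * e := by
    intro e he g
    rcases (mem_zpowers_of_orderOf_two hz2).1 he with rfl | rfl
    · simp
    · exact ((Subgroup.mem_center_iff.1 hzc) g).symm
  have hz1 : z ≠ 1 := by
    intro h; rw [h, orderOf_one] at hz2; omega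
  have hzz : z * z = 1 := by
    have := pow_orderOf_eq_one z
    rw [hz2, pow_two] at this; exact this
  have hZ2 : ∀ e ∈ Subgroup.zpowers z, e * e = 1 := by
    intro e he
    rcases (mem_zpowers_of_orderOf_two hz2).1 he with rfl | rfl
    · simp
    · exact hzz
  have F1 : ∀ h : G, ∃ i j : ℤ, ∃ e ∈ Subgroup.zpowers z, h = b ^ i * a ^ j * e := by
    intro h
    obtain ⟨i, j, hij⟩ := hall (QuotientGroup.mk h)
    have h1 : (QuotientGroup.mk h : G ⧸ Subgroup.zpowers z) = QuotientGroup.mk (b ^ i * a ^ j) := by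
      rw [hij]; simp
    rw [QuotientGroup.eq] at h1
    exact ⟨i, j, (h⁻¹ * (b ^ i * a ^ j))⁻¹, inv_mem h1, by group⟩
  have F2 : ∀ g : G, ∃ k : ℤ, ∃ e ∈ Subgroup.zpowers z, g * a * g⁻¹ = a ^ k * e := by
    intro g
    have h1 := hxn.conj_mem _ (Subgroup.mem_zpowers (QuotientGroup.mk a : G ⧸ Subgroup.zpowers z))
      (QuotientGroup.mk g)
    obtain ⟨k, hk⟩ := Subgroup.mem_zpowers_iff.1 h1
    have h2 : (QuotientGroup.mk (a ^ k) : G ⧸ Subgroup.zpowers z) = QuotientGroup.mk (g * a * g⁻¹) := by
      simpa using hk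
    rw [QuotientGroup.eq] at h2
    exact ⟨k, _, h2, by group⟩
  by_cases hza : z ∈ Subgroup.zpowers a
  · -- cyclic case
    have hZa : ∀ e ∈ Subgroup.zpowers z, e ∈ Subgroup.zpowers a := by
      intro e he
      rcases (mem_zpowers_of_orderOf_two hz2).1 he with rfl | rfl
      · exact one_mem _
      · exact hza
    have hnorm : (Subgroup.zpowers a).Normal := by
      constructor
      intro n hn' g
      obtain ⟨m, rfl⟩ := Subgroup.mem_zpowers_iff.1 hn'
      obtain ⟨k, e, he, hk⟩ := F2 g
      have : g * a ^ m * g⁻¹ = (g * a * g⁻¹) ^ m := by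
        rw [conj_zpow]
      rw [this, hk]
      exact Subgroup.zpow_mem _ (mul_mem (Subgroup.zpow_mem_zpowers a k) (hZa e he)) m
    apply HuppertMeta.isMetacyclic_of_closure_pair a b hnorm
    rw [eq_top_iff]
    intro h _
    obtain ⟨i, j, e, he, rfl⟩ := F1 h
    have ma : a ∈ Subgroup.closure ({a, b} : Set G) := Subgroup.subset_closure (by simp)
    have mb : b ∈ Subgroup.closure ({a, b} : Set G) := Subgroup.subset_closure (by simp)
    have me : e ∈ Subgroup.closure ({a, b} : Set G) :=
      (Subgroup.zpowers_le.2 ma) (hZa e he)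
    exact mul_mem (mul_mem (Subgroup.zpow_mem _ mb i) (Subgroup.zpow_mem _ ma j)) me
  · -- noncyclic case: contradiction
    exfalso
    -- the predicate PA
    have hPAcomm : ∀ (j j' : ℤ) (e e' : G), e ∈ Subgroup.zpowers z → e' ∈ Subgroup.zpowers z →
        (a ^ j * e) * (a ^ j' * e') = (a ^ j' * e') * (a ^ j * e) := by
      intro j j' e e' he he'
      have h1 : e * (a ^ j' * e') = (a ^ j' * e') * e := hZc e he _
      have h2 : e' * (a ^ j * e) = (a ^ j * e) * e' := hZc e' he' _
      have h3 : a ^ j * a ^ j' = a ^ j' * a ^ j := by rw [← zpow_add, ← zpow_add, add_comm]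
      calc (a ^ j * e) * (a ^ j' * e') = a ^ j * (e * (a ^ j' * e')) := by group
        _ = a ^ j * ((a ^ j' * e') * e) := by rw [h1]
        _ = (a ^ j * a ^ j') * e' * e := by group
        _ = (a ^ j' * a ^ j) * e' * e := by rw [h3]
        _ = a ^ j' * (a ^ j * e') * e := by group
        _ = a ^ j' * (e' * a ^ j) * e := by rw [hZc e' he' (a ^ j)]
        _ = (a ^ j' * e') * (a ^ j * e) := by group
    obtain ⟨k, e0, he0, hk⟩ := F2 b
    set c : G := a * (b * a * b⁻¹)⁻¹ with hc
    -- G2: commutators of PA elements with b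
    have G2 : ∀ (x : G), (∃ j : ℤ, ∃ e ∈ Subgroup.zpowers z, x = a ^ j * e) →
        ∃ j : ℤ, x * b * x⁻¹ * b⁻¹ = c ^ j := by
      rintro x ⟨j, e, he, rfl⟩
      refine ⟨j, ?_⟩
      have h1 : a ^ j * e * b * (a ^ j * e)⁻¹ * b⁻¹ = a ^ j * (b * a * b⁻¹)⁻¹ ^ j := by
        have : e * b = b * e := hZc e he b
        calc a ^ j * e * b * (a ^ j * e)⁻¹ * b⁻¹ = a ^ j * (e * b) * e⁻¹ * (a ^ j)⁻¹ * b⁻¹ := by group
          _ = a ^ j * (b * e) * e⁻¹ * (a ^ j)⁻¹ * b⁻¹ := by rw [this]
          _ = a ^ j * (b * (a ^ j)⁻¹ * b⁻¹) := by group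
          _ = a ^ j * (b * a * b⁻¹)⁻¹ ^ j := by rw [inv_zpow, conj_zpow, conj_inv]
      rw [h1, hc]
      have hcm : Commute a (b * a * b⁻¹)⁻¹ := by
        rw [hk]
        have h3 : a * (a ^ (-k) * e0⁻¹) = (a ^ (-k) * e0⁻¹) * a := by
          have := hPAcomm 1 (-k) 1 e0⁻¹ (one_mem _) (inv_mem he0)
          simpa using this
        have h2 : (a ^ k * e0)⁻¹ = a ^ (-k) * e0⁻¹ := by
          rw [mul_inv_rev, zpow_neg]
          exact hZc _ (inv_mem he0) _
        rw [h2]
        exact h3
      rw [hcm.mul_zpow]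
    -- conjugates of c by b and b⁻¹
    have hcPA : ∃ j : ℤ, ∃ e ∈ Subgroup.zpowers z, c = a ^ j * e := by
      refine ⟨1 - k, e0⁻¹, inv_mem he0, ?_⟩
      rw [hc, hk, mul_inv_rev, sub_eq_add_neg, zpow_add, zpow_one, zpow_neg]
      rw [hZc _ (inv_mem he0) _]
      group
    have hPAa : ∃ j : ℤ, ∃ e ∈ Subgroup.zpowers z, a = a ^ j * e := ⟨1, 1, one_mem _, by simp⟩
    -- PA elements commute with c
    have hPAc : ∀ x : G, (∃ j : ℤ, ∃ e ∈ Subgroup.zpowers z, x = a ^ j * e) → x * c = c * x := by
      rintro x ⟨j, e, he, rfl⟩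
      obtain ⟨j', e', he', hc'⟩ := hcPA
      rw [hc']
      exact hPAcomm j j' e e' he he'
    have hbc : b * c * b⁻¹ ∈ Subgroup.zpowers c := by
      obtain ⟨j, hj⟩ := G2 (b * a * b⁻¹) (by obtain ⟨k', e', he', hk'⟩ := F2 b; exact ⟨k', e', he', hk'⟩)
      have : b * c * b⁻¹ = (b * a * b⁻¹) * b * (b * a * b⁻¹)⁻¹ * b⁻¹ := by
        rw [hc]; group
      rw [this, hj]
      exact Subgroup.zpow_mem_zpowers c j
    have hbc' : b⁻¹ * c * b ∈ Subgroup.zpowers c := by
      obtain ⟨j, hj⟩ := G2 (b⁻¹ * a * b) (by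
        obtain ⟨k', e', he', hk'⟩ := F2 b⁻¹
        rw [inv_inv] at hk'
        exact ⟨k', e', he', hk'⟩)
      have : b⁻¹ * c * b = (b⁻¹ * a * b) * b * (b⁻¹ * a * b)⁻¹ * b⁻¹ := by
        rw [hc]; group
      rw [this, hj]
      exact Subgroup.zpow_mem_zpowers c j
    have hbN : b ∈ Subgroup.normalizer ((Subgroup.zpowers c : Subgroup G) : Set G) := by
      rw [Subgroup.mem_normalizer_iff]
      intro h
      constructor
      · intro hh
        obtain ⟨m, rfl⟩ := Subgroup.mem_zpowers_iff.1 hh
        rw [← conj_zpow]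
        exact Subgroup.zpow_mem _ hbc m
      · intro hh
        obtain ⟨m, hm⟩ := Subgroup.mem_zpowers_iff.1 hh
        have : h = (b⁻¹ * c * b) ^ m := by
          have h1 : (b⁻¹ * c * b) ^ m = b⁻¹ * c ^ m * b := by
            have := conj_zpow (a := b⁻¹) (b := c) (i := m)
            rw [inv_inv] at this
            exact this
          rw [h1, hm]; group
        rw [this]
        exact Subgroup.zpow_mem _ hbc' m
    have hPAN : ∀ x : G, (∃ j : ℤ, ∃ e ∈ Subgroup.zpowers z, x = a ^ j * e) →
        x ∈ Subgroup.normalizer ((Subgroup.zpowers c : Subgroup G) : Set G) := by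
      intro x hx
      rw [Subgroup.mem_normalizer_iff]
      intro h
      have hcomm : ∀ m : ℤ, x * c ^ m * x⁻¹ = c ^ m := by
        intro m
        have h1 : Commute x (c ^ m) := (show Commute x c from hPAc x hx).zpow_right m
        rw [h1.eq]; group
      constructor
      · intro hh
        obtain ⟨m, rfl⟩ := Subgroup.mem_zpowers_iff.1 hh
        rw [hcomm]; exact Subgroup.zpow_mem_zpowers c m
      · intro hh
        obtain ⟨m, hm⟩ := Subgroup.mem_zpowers_iff.1 hh
        have : h = c ^ m := by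
          have h1 : Commute x (c ^ m) := (show Commute x c from hPAc x hx).zpow_right m
          calc h = x⁻¹ * (x * h * x⁻¹) * x := by group
            _ = x⁻¹ * c ^ m * x := by rw [hm]
            _ = x⁻¹ * (c ^ m * x) := by group
            _ = x⁻¹ * (x * c ^ m) := by rw [h1.eq]
            _ = c ^ m := by group
        rw [this]; exact Subgroup.zpow_mem_zpowers c m
    have hCn : (Subgroup.zpowers c).Normal := by
      rw [← Subgroup.normalizer_eq_top_iff, eq_top_iff]
      intro h _
      obtain ⟨i, j, e, he, rfl⟩ := F1 h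
      rw [mul_assoc]
      exact mul_mem (Subgroup.zpow_mem _ hbN i) (hPAN _ ⟨j, e, he, rfl⟩)
    -- commutator G ≤ zpowers c
    have hcomm_le : commutator G ≤ Subgroup.zpowers c := by
      have hπb : (QuotientGroup.mk' (Subgroup.zpowers c)) b ∈ Subgroup.center (G ⧸ Subgroup.zpowers c) ∧
          ∀ x : G, (∃ j : ℤ, ∃ e ∈ Subgroup.zpowers z, x = a ^ j * e) →
            (QuotientGroup.mk' (Subgroup.zpowers c)) x ∈ Subgroup.center (G ⧸ Subgroup.zpowers c) := by
        have key : ∀ x : G, (∃ j : ℤ, ∃ e ∈ Subgroup.zpowers z, x = a ^ j * e) →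
            Commute ((QuotientGroup.mk' (Subgroup.zpowers c)) x) ((QuotientGroup.mk' (Subgroup.zpowers c)) b) := by
          intro x hx
          obtain ⟨j, hj⟩ := G2 x hx
          have h1 : x * b * x⁻¹ * b⁻¹ ∈ Subgroup.zpowers c := by
            rw [hj]; exact Subgroup.zpow_mem_zpowers c j
          have h2 : (QuotientGroup.mk' (Subgroup.zpowers c)) (x * b * x⁻¹ * b⁻¹) = 1 :=
            (QuotientGroup.eq_one_iff _).2 h1
          rw [map_mul, map_mul, map_mul, map_inv, map_inv] at h2
          show _ * _ = _ * _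
          have := mul_inv_eq_one.1 h2
          -- this : π x * π b * (π x)⁻¹ = π b
          calc (QuotientGroup.mk' (Subgroup.zpowers c)) x * (QuotientGroup.mk' (Subgroup.zpowers c)) b
              = ((QuotientGroup.mk' (Subgroup.zpowers c)) x * (QuotientGroup.mk' (Subgroup.zpowers c)) b *
                  ((QuotientGroup.mk' (Subgroup.zpowers c)) x)⁻¹) * (QuotientGroup.mk' (Subgroup.zpowers c)) x := by group
            _ = _ := by rw [this]
        constructor
        · rw [Subgroup.mem_center_iff]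
          intro q
          obtain ⟨h, rfl⟩ := QuotientGroup.mk'_surjective _ q
          obtain ⟨i, j, e, he, rfl⟩ := F1 h
          have h1 : Commute ((QuotientGroup.mk' (Subgroup.zpowers c)) (b ^ i))
              ((QuotientGroup.mk' (Subgroup.zpowers c)) b) := by
            rw [map_zpow]; exact (Commute.refl _).zpow_left i
          have h2 := key (a ^ j * e) ⟨j, e, he, rfl⟩
          rw [mul_assoc, map_mul]
          exact (h1.mul_left h2).eq
        · intro x hx
          rw [Subgroup.mem_center_iff]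
          intro q
          obtain ⟨h, rfl⟩ := QuotientGroup.mk'_surjective _ q
          obtain ⟨i, j, e, he, rfl⟩ := F1 h
          have h1 : Commute ((QuotientGroup.mk' (Subgroup.zpowers c)) (b ^ i))
              ((QuotientGroup.mk' (Subgroup.zpowers c)) x) := by
            rw [map_zpow]; exact ((key x hx).symm).zpow_left i
          have h2 : Commute ((QuotientGroup.mk' (Subgroup.zpowers c)) (a ^ j * e))
              ((QuotientGroup.mk' (Subgroup.zpowers c)) x) := by
            obtain ⟨j', e', he', rfl⟩ := hx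
            show _ * _ = _ * _
            rw [← map_mul, ← map_mul, hPAcomm j j' e e' he he']
          rw [mul_assoc, map_mul]
          exact (h1.mul_left h2).eq
      have hall' : ∀ h : G, (QuotientGroup.mk' (Subgroup.zpowers c)) h ∈ Subgroup.center (G ⧸ Subgroup.zpowers c) := by
        intro h
        obtain ⟨i, j, e, he, rfl⟩ := F1 h
        rw [mul_assoc, map_mul, map_zpow]
        exact mul_mem (Subgroup.zpow_mem _ hπb.1 i) (hπb.2 _ ⟨j, e, he, rfl⟩)
      rw [commutator_def, Subgroup.commutator_le]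
      intro g _ h _
      rw [← QuotientGroup.eq_one_iff, ← QuotientGroup.mk'_apply, map_commutatorElement,
        commutatorElement_eq_one_iff_commute]
      exact ((Subgroup.mem_center_iff.1 (hall' g)) _).symm
    -- final contradiction
    have hzC : z ∈ Subgroup.zpowers c := hcomm_le hzG'
    have hcard : 2 < Nat.card (Subgroup.zpowers c) :=
      lt_of_lt_of_le hG'4 (Nat.card_le_card_of_injective _ (Subgroup.inclusion_injective hcomm_le))
    rw [Nat.card_zpowers] at hcard
    obtain ⟨r, hr⟩ := HuppertMeta.exists_orderOf_eq_pow (p := 2) hG c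
    have hr2 : 2 ≤ r := by
      by_contra hcon
      push Not at hcon
      rw [hr] at hcard
      interval_cases r
      · norm_num at hcard
      · norm_num at hcard
    obtain ⟨r', rfl⟩ : ∃ r', r = r' + 2 := ⟨r - 2, by omega⟩
    have hzeq : z = c ^ (2 ^ (r' + 1)) := involution_zpowers (r := r' + 1) hr hzC hz2
    obtain ⟨j, e, he, hce⟩ := hcPA
    apply hza
    rw [hzeq, pow_succ, pow_mul, hce]
    have h1 : (a ^ j * e) ^ 2 = (a ^ j) ^ 2 := by
      rw [pow_two, pow_two]
      calc a ^ j * e * (a ^ j * e) = a ^ j * (e * a ^ j) * e := by group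
        _ = a ^ j * (a ^ j * e) * e := by rw [hZc e he]
        _ = a ^ j * a ^ j * (e * e) := by group
        _ = a ^ j * a ^ j := by rw [hZ2 e he, mul_one]
    have h2 : ((a ^ j * e) ^ 2 ^ r') ^ 2 = ((a ^ j * e) ^ 2) ^ 2 ^ r' := by
      rw [← pow_mul, ← pow_mul, mul_comm]
    rw [h2, h1]
    exact Subgroup.pow_mem _ (Subgroup.pow_mem _ (Subgroup.zpow_mem_zpowers a j) 2) _

end Cfsg.Agent.Lib.Helper23.Blackburn
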