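/-
helper23: Blackburn's theorem (2-groups of sectional rank at most two are metacyclic), part B:
decomposition of two-generated abelian 2-groups, and the case of a small derived subgroup.
-/
import Cfsg.Agent.Lib.Helper23.BlackburnA

open scoped commutatorElement

namespace Cfsg.Agent.Lib.Helper23.Blackburn

open Cfsg.Agent.Lib.Helper23 Cfsg.Agent.Lib.Helper1

universe u

/-- an element of order `2 ^ (e+1)` has an involution among its powers -/
theorem orderOf_pow_two_pow {G : Type*} [Group G] {g : G} {r : ℕ} (hg : orderOf g = 2 ^ (r + 1)) :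
    orderOf (g ^ (2 ^ r)) = 2 := by
  have : Fact (Nat.Prime 2) := ⟨Nat.prime_two⟩
  apply orderOf_eq_prime
  · rw [← pow_mul, ← pow_succ, ← hg]; exact pow_orderOf_eq_one g
  · apply pow_ne_one_of_lt_orderOf (by positivity)
    rw [hg, pow_succ]
    have : 0 < 2 ^ r := by positivity
    omega

/-- one reduction step -/
theorem abDec_step {A : Type*} [CommGroup A] (x y : A) (μ ν : ℕ)
    (hx : orderOf x = 2 ^ (μ + 1)) (hy : orderOf y = 2 ^ (ν + 1)) (hle : ν ≤ μ)
    (heq : x ^ (2 ^ μ) = y ^ (2 ^ ν)) :
    ∃ y' : A, Subgroup.closure {x, y'} = Subgroup.closure {x, y} ∧ orderOf y' < orderOf y := by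
  refine ⟨y * (x ^ (2 ^ (μ - ν)))⁻¹, ?_, ?_⟩
  · apply le_antisymm
    · rw [Subgroup.closure_le]
      rintro w (rfl | rfl)
      · exact Subgroup.subset_closure (by simp)
      · exact mul_mem (Subgroup.subset_closure (by simp))
          (inv_mem (Subgroup.pow_mem _ (Subgroup.subset_closure (by simp)) _))
    · rw [Subgroup.closure_le]
      rintro w (rfl | rfl)
      · exact Subgroup.subset_closure (by simp)
      · have h1 : w = (w * (x ^ (2 ^ (μ - ν)))⁻¹) * x ^ (2 ^ (μ - ν)) := by group
        rw [h1]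
        exact mul_mem (Subgroup.subset_closure (by simp))
          (Subgroup.pow_mem _ (Subgroup.subset_closure (by simp)) _)
  · have h1 : (y * (x ^ (2 ^ (μ - ν)))⁻¹) ^ (2 ^ ν) = 1 := by
      rw [mul_pow, inv_pow, ← pow_mul, ← pow_add, Nat.sub_add_cancel hle, heq, mul_inv_cancel]
    have h2 : orderOf (y * (x ^ (2 ^ (μ - ν)))⁻¹) ≤ 2 ^ ν :=
      Nat.le_of_dvd (by positivity) (orderOf_dvd_of_pow_eq_one h1)
    rw [hy, pow_succ]
    have : 0 < 2 ^ ν := by positivity
    omega

/-- a nontrivial element of a 2-group has an involution among its powers -/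
theorem exists_involution_zpowers {G : Type*} [Group G] (hG : IsPGroup 2 G) {w : G} (hw : w ≠ 1) :
    ∃ t ∈ Subgroup.zpowers w, orderOf t = 2 := by
  have : Fact (Nat.Prime 2) := ⟨Nat.prime_two⟩
  obtain ⟨e, he⟩ := HuppertMeta.exists_orderOf_eq_pow (p := 2) hG w
  rcases Nat.eq_zero_or_pos e with rfl | hpos
  · rw [pow_zero, orderOf_eq_one_iff] at he
    exact absurd he hw
  · obtain ⟨e', rfl⟩ : ∃ e', e = e' + 1 := ⟨e - 1, by omega⟩
    exact ⟨w ^ (2 ^ e'), Subgroup.pow_mem _ (Subgroup.mem_zpowers w) _, orderOf_pow_two_pow he⟩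

/-- two-generated finite abelian 2-groups are the product of two cyclic subgroups meeting
trivially -/
theorem abDec {A : Type*} [CommGroup A] (hA : IsPGroup 2 A) :
    ∀ n : ℕ, ∀ x y : A, orderOf x + orderOf y = n → Subgroup.closure {x, y} = ⊤ →
      ∃ x' y' : A, Subgroup.closure {x', y'} = ⊤ ∧
        Subgroup.zpowers x' ⊓ Subgroup.zpowers y' = ⊥ := by
  have : Fact (Nat.Prime 2) := ⟨Nat.prime_two⟩
  intro n
  induction n using Nat.strong_induction_on with
  | _ n ih =>
    intro x y hn hxy
    by_cases hint : Subgroup.zpowers x ⊓ Subgroup.zpowers y = ⊥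
    · exact ⟨x, y, hxy, hint⟩
    · obtain ⟨w, hw1⟩ := (Subgroup.ne_bot_iff_exists_ne_one).1 hint
      have hw1' : (w : A) ≠ 1 := by
        intro h; apply hw1; exact Subtype.ext h
      obtain ⟨t, ht, ht2⟩ := exists_involution_zpowers hA hw1'
      have htx : t ∈ Subgroup.zpowers x :=
        (Subgroup.zpowers_le.2 (Subgroup.mem_inf.1 w.2).1) ht
      have hty : t ∈ Subgroup.zpowers y :=
        (Subgroup.zpowers_le.2 (Subgroup.mem_inf.1 w.2).2) ht
      have ht1 : t ≠ 1 := by
        intro h; rw [h, orderOf_one] at ht2; omega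
      obtain ⟨μ, hμ⟩ := HuppertMeta.exists_orderOf_eq_pow (p := 2) hA x
      obtain ⟨ν, hν⟩ := HuppertMeta.exists_orderOf_eq_pow (p := 2) hA y
      have hμ0 : μ ≠ 0 := by
        rintro rfl
        rw [pow_zero, orderOf_eq_one_iff] at hμ
        rw [hμ, Subgroup.zpowers_one_eq_bot, Subgroup.mem_bot] at htx
        exact ht1 htx
      have hν0 : ν ≠ 0 := by
        rintro rfl
        rw [pow_zero, orderOf_eq_one_iff] at hν
        rw [hν, Subgroup.zpowers_one_eq_bot, Subgroup.mem_bot] at hty
        exact ht1 hty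
      obtain ⟨μ', rfl⟩ : ∃ μ', μ = μ' + 1 := ⟨μ - 1, by omega⟩
      obtain ⟨ν', rfl⟩ : ∃ ν', ν = ν' + 1 := ⟨ν - 1, by omega⟩
      have e1 : t = x ^ (2 ^ μ') := involution_zpowers hμ htx ht2
      have e2 : t = y ^ (2 ^ ν') := involution_zpowers hν hty ht2
      rcases le_total ν' μ' with hle | hle
      · obtain ⟨y', hcl, hlt⟩ := abDec_step x y μ' ν' hμ hν hle (e1.symm.trans e2)
        exact ih (orderOf x + orderOf y') (by omega) x y' rfl (hcl.trans hxy)
      · have hyx : Subgroup.closure {y, x} = ⊤ := by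
          rw [Set.pair_comm]; exact hxy
        obtain ⟨x', hcl, hlt⟩ := abDec_step y x ν' μ' hν hμ hle (e2.symm.trans e1)
        exact ih (orderOf y + orderOf x') (by omega) y x' rfl (hcl.trans hyx)

/-- subgroups containing the commutator subgroup are normal -/
theorem normal_of_commutator_le {G : Type*} [Group G] (H : Subgroup G) (h : commutator G ≤ H) :
    H.Normal := by
  constructor
  intro n hn g
  have h1 : g * n * g⁻¹ = ⁅g, n⁆ * n := by rw [commutatorElement_def]; group
  rw [h1]
  rw [commutator_def] at h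
  exact mul_mem (h (Subgroup.commutator_mem_commutator (Subgroup.mem_top g) (Subgroup.mem_top n))) hn

/-- the Frattini quotient of a 2-group of sectional rank at most two has order at most four -/
theorem index_frattini_le_four {G : Type*} [Group G] [Finite G] (hG : IsPGroup 2 G)
    (hr : Cfsg.SectionalPRankLE 2 2 G) : (frattini G).index ≤ 2 ^ 2 := by
  have : Fact (Nat.Prime 2) := ⟨Nat.prime_two⟩
  rw [Subgroup.index_eq_card]
  refine card_le_of_sectionalPRankLE 2 2 hr (MonoidHom.id G) (QuotientGroup.mk' (frattini G))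
    (QuotientGroup.mk'_surjective _) ?_ ?_ ?_
  · intro a b
    obtain ⟨a, rfl⟩ := QuotientGroup.mk'_surjective _ a
    obtain ⟨b, rfl⟩ := QuotientGroup.mk'_surjective _ b
    rw [← map_mul, ← map_mul]
    apply QuotientGroup.eq.2
    have h1 : (a * b)⁻¹ * (b * a) = ⁅b⁻¹, a⁻¹⁆ := by rw [commutatorElement_def]; group
    rw [h1]
    apply IsPGroup.commutator_le_frattini hG
    rw [commutator_def]
    exact Subgroup.commutator_mem_commutator (Subgroup.mem_top _) (Subgroup.mem_top _)
  · intro e
    obtain ⟨a, rfl⟩ := QuotientGroup.mk'_surjective _ e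
    rw [← map_pow]
    exact (QuotientGroup.eq_one_iff _).2 (IsPGroup.pow_mem_frattini hG a)
  · intro d hd
    rw [MonoidHom.mem_ker] at hd
    rw [MonoidHom.mem_ker]
    have : d = 1 := hd
    rw [this, map_one]

/-- a 2-group of sectional rank at most two is two-generated -/
theorem exists_generating_pair {G : Type*} [Group G] [Finite G] (hG : IsPGroup 2 G)
    (hr : Cfsg.SectionalPRankLE 2 2 G) : ∃ x y : G, Subgroup.closure {x, y} = ⊤ := by
  have : Fact (Nat.Prime 2) := ⟨Nat.prime_two⟩
  by_cases h : ∃ y : G, y ∉ frattini G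
  · obtain ⟨y, hy⟩ := h
    obtain ⟨g, hg⟩ := HuppertMeta.exists_closure_pair_eq_top hG (index_frattini_le_four hG hr) y hy
    exact ⟨y, g, hg⟩
  · push Not at h
    have h1 : (⊥ : Subgroup G) ⊔ frattini G = ⊤ := by
      rw [bot_sup_eq, eq_top_iff]
      intro g _
      exact h g
    have h2 := frattini_nongenerating h1
    refine ⟨1, 1, ?_⟩
    rw [eq_top_iff, ← h2]
    exact bot_le

/-- a group generated by two commuting elements is commutative -/
theorem comm_of_closure_pair {G : Type*} [Group G] (x y : G) (h : Subgroup.closure {x, y} = ⊤)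
    (hc : x * y = y * x) : ∀ a b : G, a * b = b * a := by
  have h1 : Subgroup.closure {x, y} ≤ Subgroup.centralizer {x, y} := by
    rw [Subgroup.closure_le]
    rintro w (rfl | rfl)
    · intro v hv
      rcases hv with rfl | rfl
      · rfl
      · exact hc.symm
    · intro v hv
      rcases hv with rfl | rfl
      · exact hc
      · rfl
  have h2 : Subgroup.closure {x, y} ≤ Subgroup.center G := by
    rw [Subgroup.closure_le]
    rintro w hw
    rw [SetLike.mem_coe, Subgroup.mem_center_iff]
    intro g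
    have hg : g ∈ Subgroup.centralizer {x, y} := h1 (h ▸ Subgroup.mem_top g)
    exact (hg w hw).symm
  intro a b
  have ha : a ∈ Subgroup.center G := h2 (h ▸ Subgroup.mem_top a)
  exact ((Subgroup.mem_center_iff.1 ha) b).symm

/-- pairwise commuting involutions generate an elementary abelian group -/
theorem elemAb_of_involutions {G : Type*} [Group G] (k : Set G)
    (hcomm : ∀ x ∈ k, ∀ y ∈ k, x * y = y * x) (hsq : ∀ x ∈ k, x ^ 2 = 1) :
    (∀ a b : ↥(Subgroup.closure k), a * b = b * a) ∧ (∀ e : ↥(Subgroup.closure k), e ^ 2 = 1) := by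
  have hc : ∀ a b : ↥(Subgroup.closure k), a * b = b * a := by
    intro a b
    exact (Subgroup.isMulCommutative_closure hcomm).is_comm.comm a b
  refine ⟨hc, ?_⟩
  have key : ∀ g : G, ∀ hg : g ∈ Subgroup.closure k, g ^ 2 = 1 := by
    intro g hg
    induction hg using Subgroup.closure_induction with
    | mem x hx => exact hsq x hx
    | one => exact one_pow 2
    | mul x y hx hy ihx ihy =>
      have h1 : x * y = y * x := congrArg Subtype.val (hc ⟨x, hx⟩ ⟨y, hy⟩)
      have h2 : Commute x y := h1
      rw [h2.mul_pow, ihx, ihy, one_mul]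
    | inv x hx ihx => rw [inv_pow, ihx, inv_one]
  intro e
  exact Subtype.ext (key e.1 e.2)

/-- if `a ∣ b` and `a < b` then `2 * a ≤ b` -/
theorem two_mul_le_of_dvd_of_lt {a b : ℕ} (h : a ∣ b) (hlt : a < b) : 2 * a ≤ b := by
  obtain ⟨k, rfl⟩ := h
  rcases k with _ | _ | k
  · omega
  · omega
  · nlinarith

end Cfsg.Agent.Lib.Helper23.Blackburn
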