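/-
helper23: Blackburn's theorem (2-groups of sectional rank at most two are metacyclic), part C:
the case of a derived subgroup of order at most two, and the induction.
-/
import Cfsg.Agent.Lib.Helper23.BlackburnB
import Cfsg.Agent.Lib.Helper10.PGroupBasic

open scoped commutatorElement

namespace Cfsg.Agent.Lib.Helper23.Blackburn

open Cfsg.Agent.Lib.Helper23 Cfsg.Agent.Lib.Helper1

universe u

/-- the case of a derived subgroup of order at most two -/
theorem case_small_commutator {G : Type u} [Group G] [Finite G] (hG : IsPGroup 2 G)
    (hr : Cfsg.SectionalPRankLE 2 2 G) (hG' : Nat.card (commutator G) ≤ 2) :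
    Cfsg.IsMetacyclic G := by
  have : Fact (Nat.Prime 2) := ⟨Nat.prime_two⟩
  obtain ⟨x0, y0, hxy0⟩ := exists_generating_pair hG hr
  by_cases hab : ∀ a b : G, a * b = b * a
  · -- abelian
    have hn : (Subgroup.zpowers x0).Normal := by
      constructor
      intro n hn g
      rw [hab g n, mul_inv_cancel_right]; exact hn
    exact HuppertMeta.isMetacyclic_of_closure_pair x0 y0 hn hxy0
  · -- nonabelian: commutator G has order 2
    have hcm : ∀ a b : G, ⁅a, b⁆ ∈ commutator G := by
      intro a b
      rw [commutator_def]
      exact Subgroup.commutator_mem_commutator (Subgroup.mem_top _) (Subgroup.mem_top _)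
    have hne : commutator G ≠ ⊥ := by
      intro h
      apply hab
      intro a b
      have h1 := hcm a b
      rw [h, Subgroup.mem_bot] at h1
      exact (commutatorElement_eq_one_iff_mul_comm.1 h1)
    obtain ⟨z', hz'⟩ := (Subgroup.ne_bot_iff_exists_ne_one).1 hne
    obtain ⟨z, hzG'⟩ := z'
    have hz1 : z ≠ 1 := fun h => hz' (Subtype.ext h)
    have hcard2 : Nat.card (commutator G) = 2 := by
      apply le_antisymm hG'
      have : Nontrivial (commutator G) := (Subgroup.nontrivial_iff_ne_bot _).2 hne
      exact Finite.one_lt_card_iff_nontrivial.2 this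
    have helts : ∀ e ∈ commutator G, e = 1 ∨ e = z := by
      intro e he
      obtain ⟨w, -, hw⟩ := (Nat.card_eq_two_iff' (1 : ↥(commutator G))).1 hcard2
      by_cases he1 : e = 1
      · exact Or.inl he1
      · right
        have h1 : (⟨e, he⟩ : ↥(commutator G)) = w := hw _ (fun h => he1 (congrArg Subtype.val h))
        have h2 : (⟨z, hzG'⟩ : ↥(commutator G)) = w := hw _ hz'
        exact congrArg Subtype.val (h1.trans h2.symm)
    have hz2 : orderOf z = 2 := by
      have h1 : orderOf z ∣ 2 := by
        rw [← hcard2]; exact Subgroup.orderOf_dvd_natCard _ hzG'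
      rcases (Nat.dvd_prime Nat.prime_two).1 h1 with h | h
      · exact absurd (orderOf_eq_one_iff.1 h) hz1
      · exact h
    have hzz : z * z = 1 := by
      have := pow_orderOf_eq_one z
      rw [hz2, pow_two] at this; exact this
    have hzc : ∀ g : G, g * z = z * g := by
      intro g
      have h1 : g * z * g⁻¹ ∈ commutator G :=
        (inferInstance : (commutator G).Normal).conj_mem z hzG' g
      rcases helts _ h1 with h | h
      · exfalso; apply hz1
        have : z = g⁻¹ * (g * z * g⁻¹) * g := by group
        rw [this, h]; group
      · calc g * z = (g * z * g⁻¹) * g := by group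
          _ = z * g := by rw [h]
    have hle : ∀ H : Subgroup G, z ∈ H → commutator G ≤ H := by
      intro H hz e he
      rcases helts e he with rfl | rfl
      · exact one_mem _
      · exact hz
    -- decomposition of the abelianization
    have hsurj : Function.Surjective (Abelianization.of : G → Abelianization G) :=
      QuotientGroup.mk_surjective
    have hAb : IsPGroup 2 (Abelianization G) := hG.to_quotient (commutator G)
    have hgen0 : Subgroup.closure {Abelianization.of x0, Abelianization.of y0} =
        (⊤ : Subgroup (Abelianization G)) := by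
      have h1 := MonoidHom.map_closure (Abelianization.of : G →* Abelianization G) {x0, y0}
      rw [hxy0, Set.image_pair] at h1
      rw [← h1]
      exact Subgroup.map_top_of_surjective _ hsurj
    obtain ⟨xb, yb, hgen, hint⟩ := abDec hAb _ _ _ rfl hgen0
    obtain ⟨x, rfl⟩ := hsurj xb
    obtain ⟨y, rfl⟩ := hsurj yb
    have hker : ∀ g : G, Abelianization.of g = 1 → g ∈ commutator G := by
      intro g hg
      rw [← Abelianization.ker_of G]
      exact hg
    have hxy : Subgroup.closure {x, y} = ⊤ := by
      apply frattini_nongenerating
      rw [eq_top_iff]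
      intro g _
      have h1 : Abelianization.of g ∈ (Subgroup.closure {x, y}).map
          (Abelianization.of : G →* Abelianization G) := by
        rw [MonoidHom.map_closure, Set.image_pair, hgen]; trivial
      obtain ⟨k, hk, hkg⟩ := h1
      have h2 : k⁻¹ * g ∈ commutator G := by
        apply hker
        rw [map_mul, map_inv, hkg, inv_mul_cancel]
      have h3 : g = k * (k⁻¹ * g) := by group
      rw [h3]
      exact mul_mem (Subgroup.mem_sup_left hk)
        (Subgroup.mem_sup_right (IsPGroup.commutator_le_frattini hG h2))
    by_cases hzx : z ∈ Subgroup.zpowers x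
    · exact HuppertMeta.isMetacyclic_of_closure_pair x y
        (normal_of_commutator_le _ (hle _ hzx)) hxy
    by_cases hzy : z ∈ Subgroup.zpowers y
    · exact HuppertMeta.isMetacyclic_of_closure_pair y x
        (normal_of_commutator_le _ (hle _ hzy)) (by rw [Set.pair_comm]; exact hxy)
    -- neither
    have hxyz : ⁅x, y⁆ = z := by
      rcases helts _ (hcm x y) with h | h
      · exfalso
        exact hab (comm_of_closure_pair x y hxy (commutatorElement_eq_one_iff_mul_comm.1 h))
      · exact h
    have hx1 : x ≠ 1 := by
      rintro rfl
      apply hz1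
      rw [← hxyz, commutatorElement_def]; group
    have hy1 : y ≠ 1 := by
      rintro rfl
      apply hz1
      rw [← hxyz, commutatorElement_def]; group
    have sq_central : ∀ g h : G, g ^ 2 * h = h * g ^ 2 := by
      intro g h
      rcases helts _ (hcm g h) with hc | hc
      · have e1 : g * h = h * g := commutatorElement_eq_one_iff_mul_comm.1 hc
        calc g ^ 2 * h = g * (g * h) := by rw [pow_two, mul_assoc]
          _ = g * (h * g) := by rw [e1]
          _ = (g * h) * g := by rw [mul_assoc]
          _ = (h * g) * g := by rw [e1]
          _ = h * g ^ 2 := by rw [pow_two, mul_assoc]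
      · have e1 : g * h = z * h * g := by
          rw [← hc, commutatorElement_def]; group
        calc g ^ 2 * h = g * (g * h) := by rw [pow_two, mul_assoc]
          _ = g * (z * h * g) := by rw [e1]
          _ = (g * z) * h * g := by group
          _ = (z * g) * h * g := by rw [hzc g]
          _ = z * (g * h) * g := by group
          _ = z * (z * h * g) * g := by rw [e1]
          _ = (z * z) * h * g ^ 2 := by rw [pow_two]; group
          _ = h * g ^ 2 := by rw [hzz, one_mul]
    by_cases hsq : x ^ 2 = 1 ∧ y ^ 2 = 1
    · -- (xy)^2 = z
      obtain ⟨hx2, hy2⟩ := hsq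
      have hxi : x⁻¹ = x := by
        rw [pow_two] at hx2; exact inv_eq_of_mul_eq_one_left hx2
      have hyi : y⁻¹ = y := by
        rw [pow_two] at hy2; exact inv_eq_of_mul_eq_one_left hy2
      have h1 : (x * y) ^ 2 = z := by
        rw [← hxyz, commutatorElement_def, hxi, hyi, pow_two]; group
      have hzxy : z ∈ Subgroup.zpowers (x * y) := by
        rw [← h1]; exact Subgroup.pow_mem _ (Subgroup.mem_zpowers _) 2
      apply HuppertMeta.isMetacyclic_of_closure_pair (x * y) y
        (normal_of_commutator_le _ (hle _ hzxy))
      rw [eq_top_iff, ← hxy, Subgroup.closure_le]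
      rintro w (rfl | rfl)
      · have : w = (w * y) * y⁻¹ := by group
        rw [SetLike.mem_coe, this]
        exact mul_mem (Subgroup.subset_closure (by simp))
          (inv_mem (Subgroup.subset_closure (by simp)))
      · exact Subgroup.subset_closure (by simp)
    · exfalso
      obtain ⟨μ, hμ⟩ := HuppertMeta.exists_orderOf_eq_pow (p := 2) hG x
      obtain ⟨ν, hν⟩ := HuppertMeta.exists_orderOf_eq_pow (p := 2) hG y
      have hμ0 : μ ≠ 0 := by
        rintro rfl
        rw [pow_zero, orderOf_eq_one_iff] at hμ
        exact hx1 hμ
      have hν0 : ν ≠ 0 := by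
        rintro rfl
        rw [pow_zero, orderOf_eq_one_iff] at hν
        exact hy1 hν
      obtain ⟨μ', rfl⟩ : ∃ μ', μ = μ' + 1 := ⟨μ - 1, by omega⟩
      obtain ⟨ν', rfl⟩ : ∃ ν', ν = ν' + 1 := ⟨ν - 1, by omega⟩
      set u : G := x ^ (2 ^ μ') with hu
      set v : G := y ^ (2 ^ ν') with hv
      have hu2 : orderOf u = 2 := orderOf_pow_two_pow hμ
      have hv2 : orderOf v = 2 := orderOf_pow_two_pow hν
      have hux : u ∈ Subgroup.zpowers x := Subgroup.pow_mem _ (Subgroup.mem_zpowers x) _
      have hvy : v ∈ Subgroup.zpowers y := Subgroup.pow_mem _ (Subgroup.mem_zpowers y) _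
      have hu1 : u ≠ 1 := by
        intro h; rw [h, orderOf_one] at hu2; omega
      have hv1 : v ≠ 1 := by
        intro h; rw [h, orderOf_one] at hv2; omega
      have huu : u ^ 2 = 1 := by rw [← hu2]; exact pow_orderOf_eq_one u
      have hvv : v ^ 2 = 1 := by rw [← hv2]; exact pow_orderOf_eq_one v
      have huv : u * v = v * u := by
        have hsq' : x ^ 2 ≠ 1 ∨ y ^ 2 ≠ 1 := by
          by_contra hcon
          push Not at hcon
          exact hsq hcon
        rcases hsq' with h | h
        · have hμ1 : μ' ≠ 0 := by
            rintro rfl
            apply h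
            have := pow_orderOf_eq_one x
            rw [hμ] at this
            simpa using this
          obtain ⟨m, rfl⟩ : ∃ m, μ' = m + 1 := ⟨μ' - 1, by omega⟩
          have h1 : u = (x ^ 2) ^ (2 ^ m) := by
            rw [hu, ← pow_mul, ← pow_succ']
          have h2 : Commute (x ^ 2) v := sq_central x v
          rw [h1]
          exact (h2.pow_left _).eq
        · have hν1 : ν' ≠ 0 := by
            rintro rfl
            apply h
            have := pow_orderOf_eq_one y
            rw [hν] at this
            simpa using this
          obtain ⟨m, rfl⟩ : ∃ m, ν' = m + 1 := ⟨ν' - 1, by omega⟩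
          have h1 : v = (y ^ 2) ^ (2 ^ m) := by
            rw [hv, ← pow_mul, ← pow_succ']
          have h2 : Commute (y ^ 2) u := sq_central y u
          rw [h1]
          exact ((h2.pow_left _).eq).symm
      have hzsq : z ^ 2 = 1 := by rw [pow_two]; exact hzz
      obtain ⟨hEc, hEe⟩ := elemAb_of_involutions ({u, v, z} : Set G)
        (by
          rintro a (rfl | rfl | rfl) b (rfl | rfl | rfl)
          · rfl
          · exact huv
          · exact hzc _
          · exact huv.symm
          · rfl
          · exact hzc _
          · exact (hzc _).symm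
          · exact (hzc _).symm
          · rfl)
        (by
          rintro a (rfl | rfl | rfl)
          · exact huu
          · exact hvv
          · exact hzsq)
      have hcardE : Nat.card (Subgroup.closure ({u, v, z} : Set G)) ≤ 2 ^ 2 := by
        refine card_le_of_sectionalPRankLE 2 2 hr (Subgroup.closure ({u, v, z} : Set G)).subtype
          (MonoidHom.id _) Function.surjective_id hEc hEe ?_
        intro d hd
        rw [MonoidHom.mem_ker] at hd ⊢
        exact Subtype.ext hd
      -- the chain
      have hE12 : Subgroup.zpowers z < Subgroup.closure ({z, u} : Set G) := by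
        apply lt_of_le_of_ne
        · exact Subgroup.zpowers_le.2 (Subgroup.subset_closure (by simp))
        · intro h
          have h1 : u ∈ Subgroup.zpowers z := by
            rw [h]; exact Subgroup.subset_closure (by simp)
          rcases (mem_zpowers_of_orderOf_two hz2).1 h1 with h2 | h2
          · exact hu1 h2
          · apply hzx; rw [← h2]; exact hux
      have hπ2 : Subgroup.closure ({z, u} : Set G) ≤
          (Subgroup.zpowers (Abelianization.of x)).comap
            (Abelianization.of : G →* Abelianization G) := by
        rw [Subgroup.closure_le]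
        rintro w (rfl | rfl)
        · rw [SetLike.mem_coe, Subgroup.mem_comap]
          have : Abelianization.of w = 1 := by
            have : w ∈ (Abelianization.of : G →* Abelianization G).ker := by
              rw [Abelianization.ker_of]; exact hzG'
            exact this
          rw [this]; exact one_mem _
        · rw [SetLike.mem_coe, Subgroup.mem_comap, hu, map_pow]
          exact Subgroup.pow_mem _ (Subgroup.mem_zpowers _) _
      have hE23 : Subgroup.closure ({z, u} : Set G) < Subgroup.closure ({u, v, z} : Set G) := by
        apply lt_of_le_of_ne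
        · apply Subgroup.closure_mono
          rintro w (rfl | rfl)
          · simp
          · simp
        · intro h
          have h1 : v ∈ Subgroup.closure ({z, u} : Set G) := by
            rw [h]; exact Subgroup.subset_closure (by simp)
          have h2 : Abelianization.of v ∈ Subgroup.zpowers (Abelianization.of x) := hπ2 h1
          have h3 : Abelianization.of v ∈ Subgroup.zpowers (Abelianization.of y) := by
            rw [hv, map_pow]
            exact Subgroup.pow_mem _ (Subgroup.mem_zpowers _) _
          have h4 : Abelianization.of v ∈
              Subgroup.zpowers (Abelianization.of x) ⊓ Subgroup.zpowers (Abelianization.of y) :=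
            Subgroup.mem_inf.2 ⟨h2, h3⟩
          rw [hint, Subgroup.mem_bot] at h4
          rcases helts _ (hker v h4) with h5 | h5
          · exact hv1 h5
          · apply hzy; rw [← h5]; exact hvy
      have c1 : Nat.card (Subgroup.zpowers z) = 2 := by rw [Nat.card_zpowers, hz2]
      have c2 := two_mul_le_of_dvd_of_lt (Subgroup.card_dvd_of_le hE12.le)
        (HuppertMeta.card_lt_of_lt hE12)
      have c3 := two_mul_le_of_dvd_of_lt (Subgroup.card_dvd_of_le hE23.le)
        (HuppertMeta.card_lt_of_lt hE23)
      omega

/-- Blackburn: a finite 2-group of sectional 2-rank at most two is metacyclic -/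
theorem blackburn_aux : ∀ (n : ℕ) (G : Type u) [Group G] [Finite G], Nat.card G = n → IsPGroup 2 G →
    Cfsg.SectionalPRankLE 2 2 G → Cfsg.IsMetacyclic G := by
  intro n
  induction n using Nat.strong_induction_on with
  | _ n ih =>
    intro G _ _ hn hG hr
    have : Fact (Nat.Prime 2) := ⟨Nat.prime_two⟩
    by_cases hG' : Nat.card (commutator G) ≤ 2
    · exact case_small_commutator hG hr hG'
    · push Not at hG'
      have hne : commutator G ≠ ⊥ := by
        intro h; rw [h, Subgroup.card_bot] at hG'; omega
      obtain ⟨w, hwN, hwc, hw1⟩ :=
        Cfsg.Agent.Lib.Helper10.exists_mem_center_of_normal_ne_bot 2 hG (commutator G) hne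
      obtain ⟨z, hz, hz2⟩ := exists_involution_zpowers hG hw1
      have hzG' : z ∈ commutator G := (Subgroup.zpowers_le.2 hwN) hz
      have hzc : z ∈ Subgroup.center G := (Subgroup.zpowers_le.2 hwc) hz
      have hnorm : (Subgroup.zpowers z).Normal := by
        constructor
        intro e he g
        have he' : e ∈ Subgroup.center G := (Subgroup.zpowers_le.2 hzc) he
        have : g * e * g⁻¹ = e := by
          rw [(Subgroup.mem_center_iff.1 he' g), mul_inv_cancel_right]
        rw [this]; exact he
      have hq : Cfsg.IsMetacyclic (G ⧸ Subgroup.zpowers z) := by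
        apply ih (Nat.card (G ⧸ Subgroup.zpowers z)) _ (G ⧸ Subgroup.zpowers z) rfl
          (hG.to_quotient _)
        · refine sectionalPRankLE_of_section 2 2 hr (MonoidHom.id G) (QuotientGroup.mk' _)
            (QuotientGroup.mk'_surjective _) ?_
          intro d hd
          rw [MonoidHom.mem_ker] at hd ⊢
          have : d = 1 := hd
          rw [this, map_one]
        · rw [← hn, ← Subgroup.card_mul_index (Subgroup.zpowers z), Subgroup.index_eq_card,
            Nat.card_zpowers, hz2]
          have : 0 < Nat.card (G ⧸ Subgroup.zpowers z) := Nat.card_pos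
          omega
      exact lift_metacyclic hG z hzc hz2 hzG' hG' hq

/-- Blackburn: a finite 2-group of sectional 2-rank at most two is metacyclic -/
theorem blackburn {G : Type u} [Group G] [Finite G] (hG : IsPGroup 2 G)
    (hr : Cfsg.SectionalPRankLE 2 2 G) : Cfsg.IsMetacyclic G :=
  blackburn_aux _ G rfl hG hr

end Cfsg.Agent.Lib.Helper23.Blackburn
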