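import Mathlib
import Cfsg.Agent.Lib.Helper6.BlockOrth
import Cfsg.Agent.Lib.Helper6.FirstMain
import Cfsg.Agent.Lib.Helper6.Gallagher2

set_option autoImplicit false

namespace Cfsg.Agent.Lib.Helper23

open Cfsg Cfsg.Agent.CharLib Cfsg.Agent.Lib.Helper24 Cfsg.Agent.Lib.Helper6
open scoped ComplexConjugate

universe u

section

variable {G : Type u} [Group G] [Fintype G]

/-- Parseval for linear combinations of irreducible characters. -/
theorem sum_lincomb_mul_conj_lincomb [Fintype (IrrCharacter G)] (a b : IrrCharacter G → ℂ) :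
    ∑ g : G, (∑ χ : IrrCharacter G, a χ * (χ : G → ℂ) g) *
        conj (∑ ψ : IrrCharacter G, b ψ * (ψ : G → ℂ) g) =
      (Nat.card G : ℂ) * ∑ χ : IrrCharacter G, a χ * conj (b χ) := by
  classical
  have h1 : ∀ g : G, (∑ χ : IrrCharacter G, a χ * (χ : G → ℂ) g) *
        conj (∑ ψ : IrrCharacter G, b ψ * (ψ : G → ℂ) g) =
      ∑ χ : IrrCharacter G, ∑ ψ : IrrCharacter G,
        a χ * conj (b ψ) * ((χ : G → ℂ) g * conj ((ψ : G → ℂ) g)) := by
    intro g
    rw [map_sum, Finset.sum_mul]
    apply Finset.sum_congr rfl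
    intro χ _
    rw [Finset.mul_sum]
    apply Finset.sum_congr rfl
    intro ψ _
    rw [map_mul]; ring
  rw [Finset.sum_congr rfl (fun g _ => h1 g), Finset.sum_comm, Finset.mul_sum]
  apply Finset.sum_congr rfl
  intro χ _
  rw [Finset.sum_comm]
  have h2 : ∀ ψ : IrrCharacter G, ∑ g : G, a χ * conj (b ψ) *
      ((χ : G → ℂ) g * conj ((ψ : G → ℂ) g)) =
      if χ = ψ then a χ * conj (b ψ) * (Nat.card G : ℂ) else 0 := by
    intro ψ
    rw [← Finset.mul_sum, sum_irr_mul_conj_irr]
    split_ifs <;> simp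
  rw [Finset.sum_congr rfl (fun ψ _ => h2 ψ), Finset.sum_ite_eq]
  simp only [Finset.mem_univ, if_true]
  ring

/-- The block-truncated column: for `x` `p`-singular, `g ↦ ∑_{χ ∈ B} conj χ(x) χ(g)` vanishes on
`p`-regular `g`. -/
theorem block_column_vanish [Fintype (IrrCharacter G)] {M : Ideal AlgInt} {p : ℕ} [Fact p.Prime]
    (hM : IsPModular p M)
    (χ₀ : IrrCharacter G) [DecidablePred fun χ : IrrCharacter G => χ ∈ blockOf M (χ₀ : G → ℂ)]
    (x g : G) (hx : p ∣ orderOf x) (hg : ¬ p ∣ orderOf g) :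
    ∑ χ : IrrCharacter G, (if χ ∈ blockOf M (χ₀ : G → ℂ) then conj ((χ : G → ℂ) x) else 0) *
      (χ : G → ℂ) g = 0 := by
  classical
  have h3 := weak_block_orthogonality hM χ₀ g x hg hx
  rw [finsum_mem_eq_sum_ite] at h3
  refine Eq.trans (Finset.sum_congr rfl ?_) h3
  intro χ _
  split_ifs
  · ring
  · rw [zero_mul]

theorem principal_blocks_share (p q : ℕ) [Fact p.Prime] [Fact q.Prime] (hpq : p ≠ q)
    (hp : p ∣ Nat.card G) (hq : q ∣ Nat.card G) (hno : ∀ g : G, orderOf g ≠ p * q)
    (Mp Mq : Ideal AlgInt) (hMp : IsPModular p Mp) (hMq : IsPModular q Mq) :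
    ∃ χ : IrrCharacter G, (χ : G → ℂ) ≠ (fun _ => 1) ∧ χ ∈ principalBlock Mp G ∧
      χ ∈ principalBlock Mq G := by
  classical
  let _ := fintypeIrr G
  have hpp : p.Prime := Fact.out
  have hqp : q.Prime := Fact.out
  obtain ⟨x, hx⟩ := exists_prime_orderOf_dvd_card' p hp
  obtain ⟨y, hy⟩ := exists_prime_orderOf_dvd_card' q hq
  let triv : IrrCharacter G := ⟨(1 : G → ℂ), isIrrCharacter_one G⟩
  have htriv : ((triv : IrrCharacter G) : G → ℂ) = fun _ => 1 := rfl
  have hMpP : Mp.IsPrime := hMp.2.1.isPrime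
  have hMqP : Mq.IsPrime := hMq.2.1.isPrime
  have hBp : principalBlock Mp G = blockOf Mp (triv : G → ℂ) := rfl
  have hBq : principalBlock Mq G = blockOf Mq (triv : G → ℂ) := rfl
  have htp : triv ∈ principalBlock Mp G := by rw [hBp]; exact mem_blockOf_self triv
  have htq : triv ∈ principalBlock Mq G := by rw [hBq]; exact mem_blockOf_self triv
  by_contra hcon
  push Not at hcon
  have honly : ∀ χ : IrrCharacter G, χ ∈ principalBlock Mp G → χ ∈ principalBlock Mq G →
      χ = triv := by
    intro χ h1 h2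
    by_contra hne
    apply hne
    apply Subtype.ext
    by_contra hne2
    exact hcon χ (by rwa [← htriv]) h1 h2
  -- coefficients
  let a : IrrCharacter G → ℂ := fun χ =>
    if χ ∈ blockOf Mp (triv : G → ℂ) then conj ((χ : G → ℂ) x) else 0
  let b : IrrCharacter G → ℂ := fun χ =>
    if χ ∈ blockOf Mq (triv : G → ℂ) then conj ((χ : G → ℂ) y) else 0
  have ha : ∀ g : G, ¬ p ∣ orderOf g → ∑ χ : IrrCharacter G, a χ * (χ : G → ℂ) g = 0 := by
    intro g hg
    exact block_column_vanish hMp triv x g (by rw [hx]) hg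
  have hb : ∀ g : G, ¬ q ∣ orderOf g → ∑ χ : IrrCharacter G, b χ * (χ : G → ℂ) g = 0 := by
    intro g hg
    exact block_column_vanish hMq triv y g (by rw [hy]) hg
  have hzero : ∀ g : G, (∑ χ : IrrCharacter G, a χ * (χ : G → ℂ) g) *
        conj (∑ ψ : IrrCharacter G, b ψ * (ψ : G → ℂ) g) = 0 := by
    intro g
    by_cases hgp : p ∣ orderOf g
    · by_cases hgq : q ∣ orderOf g
      · exfalso
        have hcop : Nat.Coprime p q := (Nat.coprime_primes hpp hqp).mpr hpq
        have hdvd : p * q ∣ orderOf g := hcop.mul_dvd_of_dvd_of_dvd hgp hgq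
        obtain ⟨k, hk⟩ := hdvd
        have hpos : 0 < orderOf g := orderOf_pos g
        have := orderOf_pow_of_dvd (x := g) (n := k) (by
          rintro rfl
          rw [mul_zero] at hk
          omega) ⟨p * q, by rw [hk]; ring⟩
        apply hno (g ^ k)
        rw [this, hk]
        have hk0 : 0 < k := by
          rcases Nat.eq_zero_or_pos k with h | h
          · rw [h, mul_zero] at hk; omega
          · exact h
        exact Nat.mul_div_cancel _ hk0
      · rw [hb g hgq, map_zero, mul_zero]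
    · rw [ha g hgp, zero_mul]
  have hsum := sum_lincomb_mul_conj_lincomb a b
  rw [Finset.sum_congr rfl (fun g _ => hzero g), Finset.sum_const_zero] at hsum
  have hG0 : (Nat.card G : ℂ) ≠ 0 := Nat.cast_ne_zero.mpr Nat.card_pos.ne'
  have hs2 : ∑ χ : IrrCharacter G, a χ * conj (b χ) = 1 := by
    rw [Finset.sum_eq_single triv]
    · have h1 : a triv = 1 := by
        change (if triv ∈ blockOf Mp (triv : G → ℂ) then conj ((triv : G → ℂ) x) else 0) = 1
        rw [if_pos (mem_blockOf_self triv)]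
        simp [htriv]
      have h2 : b triv = 1 := by
        change (if triv ∈ blockOf Mq (triv : G → ℂ) then conj ((triv : G → ℂ) y) else 0) = 1
        rw [if_pos (mem_blockOf_self triv)]
        simp [htriv]
      rw [h1, h2]; simp
    · intro χ _ hχ
      by_cases h1 : χ ∈ blockOf Mp (triv : G → ℂ)
      · by_cases h2 : χ ∈ blockOf Mq (triv : G → ℂ)
        · exact absurd (honly χ h1 h2) hχ
        · have : b χ = 0 := if_neg h2
          rw [this, map_zero, mul_zero]
      · have : a χ = 0 := if_neg h1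
        rw [this, zero_mul]
    · intro h; exact absurd (Finset.mem_univ _) h
  rw [hs2, mul_one] at hsum
  exact hG0 hsum.symm

end

end Cfsg.Agent.Lib.Helper23
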