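import Mathlib
import Cfsg.Agent.Lib.Helper23.PrincipalBlocksShare
import Cfsg.Agent.Lib.Helper6.DefectOrder

set_option autoImplicit false

namespace Cfsg.Agent.Lib.Helper23

open Cfsg Cfsg.Agent.CharLib Cfsg.Agent.Lib.Helper24 Cfsg.Agent.Lib.Helper6
open scoped ComplexConjugate

universe u

section

variable {G : Type u} [Group G] [Fintype G]

omit [Fintype G] in
/-- In a group with no element of order `p q`, no element has order divisible by both. -/
theorem not_dvd_orderOf_of_no_mul {p q : ℕ} (hpp : p.Prime) (hqp : q.Prime) (hpq : p ≠ q)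
    [Finite G] (hno : ∀ g : G, orderOf g ≠ p * q) (g : G) (hgp : p ∣ orderOf g) : ¬ q ∣ orderOf g := by
  intro hgq
  have hcop : Nat.Coprime p q := (Nat.coprime_primes hpp hqp).mpr hpq
  have hdvd : p * q ∣ orderOf g := hcop.mul_dvd_of_dvd_of_dvd hgp hgq
  obtain ⟨k, hk⟩ := hdvd
  have hpos : 0 < orderOf g := orderOf_pos g
  have hk0 : 0 < k := by
    rcases Nat.eq_zero_or_pos k with h | h
    · rw [h, mul_zero] at hk; omega
    · exact h
  have := orderOf_pow_of_dvd (x := g) (n := k) hk0.ne' ⟨p * q, by rw [hk]; ring⟩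
  apply hno (g ^ k)
  rw [this, hk]
  exact Nat.mul_div_cancel _ hk0

theorem block_intersection_congruence (p q : ℕ) [hp : Fact p.Prime] [hq : Fact q.Prime]
    (hpq : p ≠ q) (Mp Mq : Ideal AlgInt) (hMp : IsPModular p Mp) (hMq : IsPModular q Mq)
    (hno : ∀ g : G, orderOf g ≠ p * q) (b : ℕ) (hb : (Nat.card G).factorization q = b)
    (Bp : Set (IrrCharacter G)) (hBp : IsPBlock Mp Bp) (Bq : Set (IrrCharacter G))
    (hBq : IsPBlock Mq Bq) (y : G) (hy : p ∣ orderOf y) :
    ∃ ω : AlgInt, ∑ᶠ χ ∈ Bp ∩ Bq, (charDegree (χ : G → ℂ) : ℂ) * (χ : G → ℂ) y =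
      (q : ℂ) ^ b * (ω : ℂ) := by
  classical
  let _ := fintypeIrr G
  obtain ⟨χp, rfl⟩ := hBp
  obtain ⟨χq, rfl⟩ := hBq
  set Bp := blockOf Mp (χp : G → ℂ) with hBpdef
  set Bq := blockOf Mq (χq : G → ℂ) with hBqdef
  have hG0 : (Nat.card G : ℂ) ≠ 0 := Nat.cast_ne_zero.mpr Nat.card_pos.ne'
  -- the function ψ
  let c : IrrCharacter G → ℂ := fun χ => if χ ∈ Bp then (χ : G → ℂ) y else 0
  let ψ : G → ℂ := fun g => ∑ χ : IrrCharacter G, c χ * conj ((χ : G → ℂ) g)
  have hψ : ∀ g : G, ¬ p ∣ orderOf g → ψ g = 0 := by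
    intro g hg
    have h3 := weak_block_orthogonality hMp χp g y hg hy
    rw [finsum_mem_eq_sum_ite] at h3
    have h4 : ψ g = conj (∑ χ : IrrCharacter G, if χ ∈ Bp then
        (χ : G → ℂ) g * conj ((χ : G → ℂ) y) else 0) := by
      rw [map_sum]
      apply Finset.sum_congr rfl
      intro χ _
      change (if χ ∈ Bp then (χ : G → ℂ) y else 0) * conj ((χ : G → ℂ) g) = _
      split_ifs
      · rw [map_mul, Complex.conj_conj]; ring
      · rw [zero_mul, map_zero]
    rw [h4, h3, map_zero]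
  have hinner : ∀ χ' : IrrCharacter G, ∑ g : G, ψ g * (χ' : G → ℂ) g = (Nat.card G : ℂ) * c χ' := by
    intro χ'
    have h1 : ∀ g : G, ψ g * (χ' : G → ℂ) g = ∑ χ : IrrCharacter G,
        c χ * ((χ' : G → ℂ) g * conj ((χ : G → ℂ) g)) := by
      intro g
      rw [Finset.sum_mul]
      apply Finset.sum_congr rfl
      intro χ _
      ring
    rw [Finset.sum_congr rfl (fun g _ => h1 g), Finset.sum_comm]
    have h2 : ∀ χ : IrrCharacter G, ∑ g : G, c χ * ((χ' : G → ℂ) g * conj ((χ : G → ℂ) g)) =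
        if χ' = χ then c χ * (Nat.card G : ℂ) else 0 := by
      intro χ
      rw [← Finset.mul_sum, sum_irr_mul_conj_irr]
      split_ifs <;> simp
    rw [Finset.sum_congr rfl (fun χ _ => h2 χ), Finset.sum_ite_eq]
    simp only [Finset.mem_univ, if_true]
    ring
  -- the function θ
  let θ : G → ℂ := fun h => ∑ χ : IrrCharacter G, if χ ∈ Bq then c χ * conj ((χ : G → ℂ) h) else 0
  have hθ : ∀ h : G, q ∣ orderOf h → θ h = 0 := by
    intro h hh
    have h1 : (Nat.card G : ℂ) * θ h = ∑ g : G, ψ g *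
        ∑ χ : IrrCharacter G, if χ ∈ Bq then (χ : G → ℂ) g * conj ((χ : G → ℂ) h) else 0 := by
      change (Nat.card G : ℂ) * (∑ χ : IrrCharacter G,
        if χ ∈ Bq then c χ * conj ((χ : G → ℂ) h) else 0) = _
      rw [Finset.mul_sum]
      have h2 : ∀ g : G, ψ g * ∑ χ : IrrCharacter G,
          (if χ ∈ Bq then (χ : G → ℂ) g * conj ((χ : G → ℂ) h) else 0) =
          ∑ χ : IrrCharacter G, if χ ∈ Bq then
            (ψ g * (χ : G → ℂ) g) * conj ((χ : G → ℂ) h) else 0 := by
        intro g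
        rw [Finset.mul_sum]
        apply Finset.sum_congr rfl
        intro χ _
        split_ifs
        · ring
        · rw [mul_zero]
      rw [Finset.sum_congr rfl (fun g _ => h2 g), Finset.sum_comm]
      apply Finset.sum_congr rfl
      intro χ _
      by_cases hχ : χ ∈ Bq
      · simp only [if_pos hχ]
        rw [← Finset.sum_mul, hinner χ]
        ring
      · simp only [if_neg hχ, mul_zero, Finset.sum_const_zero]
    have h3 : ∑ g : G, ψ g *
        ∑ χ : IrrCharacter G, (if χ ∈ Bq then (χ : G → ℂ) g * conj ((χ : G → ℂ) h) else 0) = 0 := by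
      apply Finset.sum_eq_zero
      intro g _
      by_cases hg : p ∣ orderOf g
      · have hgq : ¬ q ∣ orderOf g := not_dvd_orderOf_of_no_mul hp.out hq.out hpq hno g hg
        have h4 := weak_block_orthogonality hMq χq g h hgq hh
        rw [finsum_mem_eq_sum_ite] at h4
        rw [h4, mul_zero]
      · rw [hψ g hg, zero_mul]
    rw [h3] at h1
    rcases mul_eq_zero.mp h1 with h5 | h5
    · exact absurd h5 hG0
    · exact h5
  -- restrict to a Sylow q-subgroup
  obtain ⟨Q⟩ : Nonempty (Sylow q G) := inferInstance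
  let _ : Fintype (Q : Subgroup G) := Fintype.ofFinite _
  have hQcard : Nat.card (Q : Subgroup G) = q ^ b := by
    rw [← hb]; exact Q.card_eq_multiplicity
  have hsum1 : ∑ u : (Q : Subgroup G), θ (u : G) = θ 1 := by
    rw [Finset.sum_eq_single (1 : (Q : Subgroup G))]
    · simp
    · intro u _ hu
      apply hθ
      obtain ⟨k, hk⟩ := (IsPGroup.iff_orderOf.mp Q.isPGroup') u
      rw [← Subgroup.orderOf_coe] at hk
      rw [hk]
      have hk0 : k ≠ 0 := by
        rintro rfl
        rw [pow_zero, orderOf_eq_one_iff] at hk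
        exact hu (Subtype.ext hk)
      exact dvd_pow_self q hk0
    · intro h; exact absurd (Finset.mem_univ _) h
  have key : ∀ χ : IrrCharacter G, ∃ n : ℕ, ∑ u : (Q : Subgroup G), (χ : G → ℂ) (u : G) =
      (Nat.card (Q : Subgroup G) : ℂ) * (n : ℂ) :=
    fun χ => exists_sum_subgroup_eq (χ : G → ℂ) (IsIrrCharacter.isCharacter χ.2) (Q : Subgroup G)
  choose n hn using key
  have hsum2 : ∑ u : (Q : Subgroup G), θ (u : G) = (q : ℂ) ^ b *
      ∑ χ : IrrCharacter G, if χ ∈ Bq then c χ * (n χ : ℂ) else 0 := by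
    change ∑ u : (Q : Subgroup G), (∑ χ : IrrCharacter G,
      if χ ∈ Bq then c χ * conj ((χ : G → ℂ) (u : G)) else 0) = _
    rw [Finset.sum_comm, Finset.mul_sum]
    apply Finset.sum_congr rfl
    intro χ _
    by_cases hχ : χ ∈ Bq
    · simp only [if_pos hχ]
      rw [← Finset.mul_sum, ← map_sum, hn χ, hQcard]
      simp
      ring
    · simp only [if_neg hχ, Finset.sum_const_zero, mul_zero]
  have hθ1 : θ 1 = ∑ᶠ χ ∈ Bp ∩ Bq, (charDegree (χ : G → ℂ) : ℂ) * (χ : G → ℂ) y := by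
    rw [finsum_mem_eq_sum_ite]
    apply Finset.sum_congr rfl
    intro χ _
    change (if χ ∈ Bq then (if χ ∈ Bp then (χ : G → ℂ) y else 0) * conj ((χ : G → ℂ) 1) else 0) = _
    by_cases h1 : χ ∈ Bp
    · by_cases h2 : χ ∈ Bq
      · rw [if_pos h2, if_pos h1, if_pos (Set.mem_inter h1 h2), irr_apply_one,
          Complex.conj_natCast]
        ring
      · rw [if_neg h2, if_neg (fun h => h2 (Set.mem_of_mem_inter_right h))]
    · rw [if_neg h1, if_neg (fun h => h1 (Set.mem_of_mem_inter_left h)), zero_mul, ite_self]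
  refine ⟨∑ χ : IrrCharacter G, if χ ∈ Bq then (if χ ∈ Bp then
    (⟨(χ : G → ℂ) y, irr_isIntegral χ y⟩ : AlgInt) else 0) * (n χ : AlgInt) else 0, ?_⟩
  rw [← hθ1, ← hsum1, hsum2]
  congr 1
  push_cast
  apply Finset.sum_congr rfl
  intro χ _
  by_cases h2 : χ ∈ Bq
  · rw [if_pos h2, if_pos h2]
    by_cases h1 : χ ∈ Bp
    · simp [c, h1]
    · simp [c, h1]
  · rw [if_neg h2, if_neg h2]
    simp

end

end Cfsg.Agent.Lib.Helper23
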