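/-
helper23: coprime action: a p-prime element normalizing the p-group D and acting trivially on D/D-prime
centralizes D (`centralizes_of_actsTrivAb`), via fixed points of a permutation of prime order on cosets
and the Frattini argument.
-/
import Mathlib
import Cfsg.Agent.Lib.Helper1.PGroup

set_option autoImplicit false
open scoped commutatorElement

namespace Cfsg.Agent.Lib.Helper23

universe u

section coprime

variable {G : Type u} [Group G]

/-- `g` normalizes `D` (one-sided) and acts trivially on `D / D'`. -/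
def ActsTrivAb (D : Subgroup G) (g : G) : Prop :=
  (∀ d ∈ D, g * d * g⁻¹ ∈ D) ∧ ∀ d ∈ D, g * d * g⁻¹ * d⁻¹ ∈ ⁅D, D⁆

theorem conj_mem_commutator_self {D : Subgroup G} {g : G} (h1 : ∀ d ∈ D, g * d * g⁻¹ ∈ D)
    {n : G} (hn : n ∈ ⁅D, D⁆) : g * n * g⁻¹ ∈ ⁅D, D⁆ := by
  have hle : ⁅D, D⁆ ≤ (⁅D, D⁆ : Subgroup G).comap (MulAut.conj g).toMonoidHom := by
    rw [Subgroup.commutator_le]
    intro a ha b hb
    rw [Subgroup.mem_comap]
    simp only [MulEquiv.coe_toMonoidHom, MulAut.conj_apply]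
    have e : g * ⁅a, b⁆ * g⁻¹ = ⁅g * a * g⁻¹, g * b * g⁻¹⁆ := by
      simp only [commutatorElement_def]; group
    rw [e]
    exact Subgroup.commutator_mem_commutator (h1 a ha) (h1 b hb)
  have := hle hn
  rw [Subgroup.mem_comap] at this
  simpa using this

theorem ActsTrivAb.one (D : Subgroup G) : ActsTrivAb D 1 := by
  refine ⟨fun d hd => by simpa using hd, fun d hd => ?_⟩
  simp only [one_mul, inv_one, mul_one, mul_inv_cancel]
  exact Subgroup.one_mem _

theorem ActsTrivAb.mul {D : Subgroup G} {g h : G} (hg : ActsTrivAb D g) (hh : ActsTrivAb D h) :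
    ActsTrivAb D (g * h) := by
  refine ⟨fun d hd => ?_, fun d hd => ?_⟩
  · have e : g * h * d * (g * h)⁻¹ = g * (h * d * h⁻¹) * g⁻¹ := by group
    rw [e]
    exact hg.1 _ (hh.1 d hd)
  · have e : g * h * d * (g * h)⁻¹ * d⁻¹ =
        (g * (h * d * h⁻¹ * d⁻¹) * g⁻¹) * (g * d * g⁻¹ * d⁻¹) := by group
    rw [e]
    exact Subgroup.mul_mem _ (conj_mem_commutator_self hg.1 (hh.2 d hd)) (hg.2 d hd)

theorem ActsTrivAb.pow {D : Subgroup G} {g : G} (hg : ActsTrivAb D g) (m : ℕ) :
    ActsTrivAb D (g ^ m) := by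
  induction m with
  | zero => rw [pow_zero]; exact ActsTrivAb.one D
  | succ m ih => rw [pow_succ]; exact ih.mul hg

theorem ActsTrivAb.of_mem {D : Subgroup G} {d : G} (hd : d ∈ D) : ActsTrivAb D d := by
  refine ⟨fun a ha => D.mul_mem (D.mul_mem hd ha) (D.inv_mem hd), fun a ha => ?_⟩
  have e : d * a * d⁻¹ * a⁻¹ = ⁅d, a⁆ := by rw [commutatorElement_def]
  rw [e]
  exact Subgroup.commutator_mem_commutator hd ha

variable [Finite G]

/-- One step: if `x ^ q` centralizes the `p`-group `D` (`q ≠ p` prime) and `x` acts trivially on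
`D / D'`, then every coset `d D'` contains an element commuting with `x`. -/
theorem exists_commute_in_coset {p q : ℕ} [hp : Fact p.Prime] [hq : Fact q.Prime] (hpq : q ≠ p)
    (D : Subgroup G) (hD : IsPGroup p D) (x : G) (hx : ActsTrivAb D x)
    (hy : ∀ d ∈ D, x ^ q * d = d * x ^ q) (d : G) (hd : d ∈ D) :
    ∃ n ∈ ⁅D, D⁆, x * (d * n) = (d * n) * x := by
  classical
  let _ : Fintype (⁅D, D⁆ : Subgroup G) := Fintype.ofFinite _
  have hND : (⁅D, D⁆ : Subgroup G) ≤ D := Subgroup.commutator_le.mpr (fun a ha b hb => by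
    rw [commutatorElement_def]
    exact D.mul_mem (D.mul_mem (D.mul_mem ha hb) (D.inv_mem ha)) (D.inv_mem hb))
  have hc : d⁻¹ * x * d * x⁻¹ ∈ (⁅D, D⁆ : Subgroup G) := by
    have h1 := hx.2 d hd
    have h2 := conj_mem_commutator_self (ActsTrivAb.of_mem (D.inv_mem hd)).1 h1
    have e : d⁻¹ * (x * d * x⁻¹ * d⁻¹) * d⁻¹⁻¹ = d⁻¹ * x * d * x⁻¹ := by group
    rwa [e] at h2
  have hfmem : ∀ n : (⁅D, D⁆ : Subgroup G), d⁻¹ * (x * (d * (n : G)) * x⁻¹) ∈
      (⁅D, D⁆ : Subgroup G) := by
    intro n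
    have e : d⁻¹ * (x * (d * (n : G)) * x⁻¹) = (d⁻¹ * x * d * x⁻¹) * (x * (n : G) * x⁻¹) := by group
    rw [e]
    exact Subgroup.mul_mem _ hc (conj_mem_commutator_self hx.1 n.2)
  let f : Function.End (⁅D, D⁆ : Subgroup G) := fun n => ⟨_, hfmem n⟩
  have hfpow : ∀ (m : ℕ) (n : (⁅D, D⁆ : Subgroup G)),
      (((f ^ m) n : (⁅D, D⁆ : Subgroup G)) : G) = d⁻¹ * (x ^ m * (d * (n : G)) * (x ^ m)⁻¹) := by
    intro m
    induction m with
    | zero =>
      intro n
      rw [pow_zero, pow_zero]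
      show (n : G) = _
      group
    | succ m ih =>
      intro n
      have h1 : (f ^ (m + 1)) n = f ((f ^ m) n) := by rw [pow_succ']; rfl
      rw [h1]
      show d⁻¹ * (x * (d * (((f ^ m) n : (⁅D, D⁆ : Subgroup G)) : G)) * x⁻¹) = _
      rw [ih n, pow_succ']
      group
  have hf : f ^ q ^ 1 = 1 := by
    rw [pow_one]
    funext n
    apply Subtype.ext
    rw [hfpow q n]
    have hdn : d * (n : G) ∈ D := D.mul_mem hd (hND n.2)
    rw [hy _ hdn]
    show d⁻¹ * (d * (n : G) * x ^ q * (x ^ q)⁻¹) = (n : G)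
    group
  have hmod := Equiv.Perm.card_fixedPoints_modEq (p := q) (n := 1) hf
  have hNp : IsPGroup p (⁅D, D⁆ : Subgroup G) := hD.to_le hND
  obtain ⟨j, hj⟩ := IsPGroup.iff_card.mp hNp
  have hne : Fintype.card (Function.fixedPoints f) ≠ 0 := by
    intro h0
    rw [h0, ← Nat.card_eq_fintype_card, hj] at hmod
    have h1 : q ∣ p ^ j := (Nat.modEq_zero_iff_dvd).mp hmod
    have h2 := hq.out.dvd_of_dvd_pow h1
    exact hpq ((Nat.prime_dvd_prime_iff_eq hq.out hp.out).mp h2)
  obtain ⟨⟨n, hn⟩⟩ := Fintype.card_pos_iff.mp (Nat.pos_of_ne_zero hne)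
  refine ⟨(n : G), n.2, ?_⟩
  have h1 : ((f n : (⁅D, D⁆ : Subgroup G)) : G) = (n : G) := congrArg Subtype.val hn
  have h2 : d⁻¹ * (x * (d * (n : G)) * x⁻¹) = (n : G) := h1
  have h3 : x * (d * (n : G)) * x⁻¹ = d * (n : G) := by
    have := congrArg (fun t => d * t) h2
    simpa using this
  have := congrArg (fun t => t * x) h3
  simpa using this

/-- Frattini step: if `x ^ q` centralizes `D`, so does `x`. -/
theorem centralizes_step {p q : ℕ} [hp : Fact p.Prime] [hq : Fact q.Prime] (hpq : q ≠ p)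
    (D : Subgroup G) (hD : IsPGroup p D) (x : G) (hx : ActsTrivAb D x)
    (hy : ∀ d ∈ D, x ^ q * d = d * x ^ q) : ∀ d ∈ D, x * d = d * x := by
  set C : Subgroup D := (Subgroup.centralizer ({x} : Set G)).subgroupOf D with hC
  have hsup : C ⊔ frattini D = ⊤ := by
    rw [eq_top_iff]
    intro d _
    obtain ⟨n, hn, hcomm⟩ := exists_commute_in_coset hpq D hD x hx hy (d : G) d.2
    have hnD : n ∈ D := by
      have hND : (⁅D, D⁆ : Subgroup G) ≤ D := Subgroup.commutator_le.mpr (fun a ha b hb => by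
        rw [commutatorElement_def]
        exact D.mul_mem (D.mul_mem (D.mul_mem ha hb) (D.inv_mem ha)) (D.inv_mem hb))
      exact hND hn
    have hn' : (⟨n, hnD⟩ : D) ∈ frattini D := by
      apply Cfsg.Agent.Lib.Helper1.IsPGroup.commutator_le_frattini hD
      rw [← Subgroup.map_subtype_commutator D] at hn
      obtain ⟨n', hn', hn'n⟩ := hn
      have : n' = ⟨n, hnD⟩ := Subtype.ext hn'n
      rw [← this]
      exact hn'
    have hdn : (d * ⟨n, hnD⟩ : D) ∈ C := by
      rw [hC, Subgroup.mem_subgroupOf, Subgroup.mem_centralizer_singleton_iff]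
      exact hcomm.symm
    have hd : d = (d * ⟨n, hnD⟩) * (⟨n, hnD⟩ : D)⁻¹ := by group
    rw [hd]
    exact Subgroup.mul_mem _ (Subgroup.mem_sup_left hdn)
      (Subgroup.mem_sup_right (Subgroup.inv_mem _ hn'))
  have htop : C = ⊤ := frattini_nongenerating hsup
  intro d hd
  have h1 : (⟨d, hd⟩ : D) ∈ C := by rw [htop]; exact Subgroup.mem_top _
  rw [hC, Subgroup.mem_subgroupOf, Subgroup.mem_centralizer_singleton_iff] at h1
  exact h1.symm

/-- **Coprime action**: a `p'`-element normalizing the `p`-group `D` and acting trivially on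
`D / D'` centralizes `D`. -/
theorem centralizes_of_actsTrivAb {p : ℕ} [hp : Fact p.Prime] (D : Subgroup G) (hD : IsPGroup p D) :
    ∀ (n : ℕ) (x : G), orderOf x = n → n.Coprime p → ActsTrivAb D x →
      ∀ d ∈ D, x * d = d * x := by
  intro n
  induction n using Nat.strong_induction_on with
  | _ n ih =>
    intro x hxn hcop hx
    by_cases hn1 : n = 1
    · rw [hn1, orderOf_eq_one_iff] at hxn
      intro d _
      rw [hxn, one_mul, mul_one]
    · have hq : (n.minFac).Prime := Nat.minFac_prime hn1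
      haveI : Fact (n.minFac).Prime := ⟨hq⟩
      have hqn : n.minFac ∣ n := Nat.minFac_dvd n
      have hqp : n.minFac ≠ p := by
        intro h
        rw [h] at hqn
        have := Nat.Coprime.eq_one_of_dvd hcop.symm hqn
        exact hp.out.one_lt.ne' this
      have hn0 : 0 < n := by rw [← hxn]; exact orderOf_pos x
      have hord : orderOf (x ^ n.minFac) = n / n.minFac := by
        rw [orderOf_pow_of_dvd hq.ne_zero (by rw [hxn]; exact hqn), hxn]
      have hlt : n / n.minFac < n := Nat.div_lt_self hn0 hq.one_lt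
      have hcop' : (n / n.minFac).Coprime p :=
        Nat.Coprime.coprime_dvd_left (Nat.div_dvd_of_dvd hqn) hcop
      have hy := ih (n / n.minFac) hlt (x ^ n.minFac) hord hcop' (hx.pow _)
      exact centralizes_step hqp D hD x hx hy

end coprime

end Cfsg.Agent.Lib.Helper23
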