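/-
helper23: for a normal p-subgroup D, inflation G/D-prime -> G is a bijection on p-blocks
(`blocks_mod_derived`).
-/
import Mathlib
import Cfsg.Agent.Lib.Helper23.CoprimeAct
import Cfsg.Agent.Lib.Helper23.QuotDefectP
import Cfsg.Agent.Lib.Helper6.NormalPBlock
import Cfsg.Agent.Lib.Helper6.ClassSumOmega
import Cfsg.Agent.Lib.Helper25.Inflate

set_option autoImplicit false
open Cfsg Cfsg.Agent.CharLib Cfsg.Agent.Lib.Helper24 Cfsg.Agent.Lib.Helper6 Cfsg.Agent.Lib.Helper25
open scoped ComplexConjugate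

namespace Cfsg.Agent.Lib.Helper23

universe u

section main

variable {G : Type u} [Group G] [Finite G] {M : Ideal AlgInt}

/-- Blocks of `G ⧸ D'` and of `G` correspond under inflation, for a normal `p`-subgroup `D`. -/
theorem blocks_mod_derived (p : ℕ) [hpp : Fact p.Prime] (hM : Cfsg.IsPModular p M)
    (D : Subgroup G) [hDn : D.Normal] (hD : IsPGroup p D) :
    (∀ χ ψ : Cfsg.IrrCharacter (G ⧸ ⁅D, D⁆),
      Cfsg.SameBlock M (χ : G ⧸ ⁅D, D⁆ → ℂ) (ψ : G ⧸ ⁅D, D⁆ → ℂ) ↔
      Cfsg.SameBlock M ((χ : G ⧸ ⁅D, D⁆ → ℂ) ∘ QuotientGroup.mk)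
        ((ψ : G ⧸ ⁅D, D⁆ → ℂ) ∘ QuotientGroup.mk)) ∧
    ∀ B : Set (Cfsg.IrrCharacter G), Cfsg.IsPBlock M B →
      ∃ χ : Cfsg.IrrCharacter (G ⧸ ⁅D, D⁆), ∃ θ ∈ B,
        (θ : G → ℂ) = (χ : G ⧸ ⁅D, D⁆ → ℂ) ∘ QuotientGroup.mk := by
  classical
  let _ := Fintype.ofFinite G
  let _ : Fintype (G ⧸ ⁅D, D⁆) := Fintype.ofFinite _
  have hprime : M.IsPrime := isPrime_of_isPModular hM
  have hND : (⁅D, D⁆ : Subgroup G) ≤ D := Subgroup.commutator_le.mpr (fun a ha b hb => by
    rw [commutatorElement_def]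
    exact D.mul_mem (D.mul_mem (D.mul_mem ha hb) (D.inv_mem ha)) (D.inv_mem hb))
  have hN : IsPGroup p (⁅D, D⁆ : Subgroup G) := hD.to_le hND
  constructor
  · intro χ ψ
    constructor
    · intro h
      exact sameBlock_inflate (⁅D, D⁆ : Subgroup G) _ _ h
    · intro h
      set Dbar : Subgroup (G ⧸ ⁅D, D⁆) := D.map (QuotientGroup.mk' ⁅D, D⁆) with hDbar
      have hDbarn : Dbar.Normal := Subgroup.Normal.map hDn _ (QuotientGroup.mk'_surjective _)
      have hDbarp : IsPGroup p Dbar := hD.map _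
      apply sameBlock_of_forall_pRegular hM χ ψ
      intro y hy
      by_cases hcz : y ∈ Subgroup.centralizer (Dbar : Set (G ⧸ ⁅D, D⁆))
      · obtain ⟨x, hx, rfl⟩ := exists_pRegular_lift (⁅D, D⁆ : Subgroup G) y hy
        have hact : ActsTrivAb D x := by
          refine ⟨fun d hd => hDn.conj_mem d hd x, fun d hd => ?_⟩
          rw [← QuotientGroup.eq_one_iff]
          have h1 := Subgroup.mem_centralizer_iff.mp hcz ((d : G) : G ⧸ ⁅D, D⁆) ⟨d, hd, rfl⟩
          -- h1 : ↑d * ↑x = ↑x * ↑d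
          rw [QuotientGroup.mk_mul, QuotientGroup.mk_mul, QuotientGroup.mk_mul,
            QuotientGroup.mk_inv, QuotientGroup.mk_inv, ← h1]
          group
        have hcop : (orderOf x).Coprime p :=
          ((Nat.Prime.coprime_iff_not_dvd hpp.out).mpr hx).symm
        have hcent := centralizes_of_actsTrivAb D hD (orderOf x) x rfl hcop hact
        have hxC : x ∈ Subgroup.centralizer ((⁅D, D⁆ : Subgroup G) : Set G) := by
          rw [Subgroup.mem_centralizer_iff]
          intro n hn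
          exact (hcent n (hND hn)).symm
        rw [← centralChar_inflate_eq (⁅D, D⁆ : Subgroup G) hN hx hxC,
          ← centralChar_inflate_eq (⁅D, D⁆ : Subgroup G) hN hx hxC]
        exact h x
      · have hconj : ∀ z : G ⧸ ⁅D, D⁆, IsConj y z →
            z ∉ Subgroup.centralizer (Dbar : Set (G ⧸ ⁅D, D⁆)) := by
          intro z hz hzc
          apply hcz
          obtain ⟨c, hc⟩ := isConj_iff.mp hz
          have hnorm : (Subgroup.centralizer (Dbar : Set (G ⧸ ⁅D, D⁆))).Normal := inferInstance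
          have := hnorm.conj_mem z hzc c⁻¹
          rw [← hc] at this
          simpa [mul_assoc] using this
        exact memLocalIdeal_sub
          (memLocalIdeal_centralChar_of_not_centralizes hM Dbar hDbarp y hconj χ)
          (memLocalIdeal_centralChar_of_not_centralizes hM Dbar hDbarp y hconj ψ)
  · intro B hB
    obtain ⟨Bbar, hBbar, hsub, -⟩ :=
      normal_p_subgroup_quotient_block p hM (⁅D, D⁆ : Subgroup G) hN B hB
    obtain ⟨β, hβ⟩ : ∃ β : IrrCharacter (G ⧸ ⁅D, D⁆), β ∈ Bbar := by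
      obtain ⟨β₀, rfl⟩ := hBbar
      exact ⟨β₀, mem_blockOf_self β₀⟩
    exact ⟨β, inflateIrr _ β, hsub β hβ (inflateIrr _ β) rfl, rfl⟩

end main

end Cfsg.Agent.Lib.Helper23
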