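/-
helper23: a Burnside-type zero theorem for characters with nonnegative values (AM-GM over Galois conjugates).
-/
import Mathlib
import Cfsg.Agent.Lib.Lead.GalChar

set_option linter.style.haveILetI false
set_option autoImplicit false

namespace Cfsg.Agent.Lib.Helper23

open Cfsg Cfsg.Agent.CharLib Representation Module
open scoped ComplexConjugate

universe u v

/-- AM–GM: positive reals with product at least one have sum at least their number. -/
theorem card_le_sum_of_one_le_prod {ι : Type*} [Fintype ι] (a : ι → ℝ) (hpos : ∀ i, 0 < a i)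
    (hprod : 1 ≤ ∏ i, a i) : (Fintype.card ι : ℝ) ≤ ∑ i, a i := by
  have h1 : ∀ i, Real.log (a i) + 1 ≤ a i := by
    intro i
    have := Real.add_one_le_exp (Real.log (a i))
    rwa [Real.exp_log (hpos i)] at this
  have h2 : ∑ i, (Real.log (a i) + 1) ≤ ∑ i, a i := Finset.sum_le_sum (fun i _ => h1 i)
  have h3 : ∑ i, (Real.log (a i) + 1) = Real.log (∏ i, a i) + Fintype.card ι := by
    rw [Finset.sum_add_distrib, Real.log_prod (fun i _ => (hpos i).ne')]
    simp
  have h4 : 0 ≤ Real.log (∏ i, a i) := Real.log_nonneg hprod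
  linarith

variable {G : Type u} [Group G] {V : Type v} [AddCommGroup V] [Module ℂ V] [FiniteDimensional ℂ V]

/-- A Burnside-type zero theorem: a character with nonnegative real values, containing the principal
character exactly once (`∑ ψ = |G|`) and of degree at least two, vanishes somewhere. -/
theorem exists_character_eq_zero_of_nonneg [Finite G] (ρ : Representation ℂ G V)
    (hre : ∀ g : G, 0 ≤ (ρ.character g).re ∧ (ρ.character g).im = 0)
    (hsum : ∀ [Fintype G], ∑ g : G, ρ.character g = (Nat.card G : ℂ))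
    (hdeg : 2 ≤ finrank ℂ V) : ∃ g : G, ρ.character g = 0 := by
  classical
  by_contra hcon
  push Not at hcon
  let _ := Fintype.ofFinite G
  have hNpos : 0 < Nat.card G := Nat.card_pos
  haveI : NeZero (Nat.card G) := ⟨hNpos.ne'⟩
  obtain ⟨K, _, _, _, ⟨φ⟩⟩ := exists_cyclotomic_field (Nat.card G)
  haveI : FiniteDimensional ℚ K := IsCyclotomicExtension.finiteDimensional {Nat.card G} ℚ K
  haveI : IsGalois ℚ K := IsCyclotomicExtension.isGalois {Nat.card G} ℚ K
  have hx : ∀ g : G, ∃ x : K, IsIntegral ℤ x ∧ φ x = ρ.character g ∧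
      ∀ σ : K ≃ₐ[ℚ] K, φ (σ x) = ρ.character (g ^ galExp (Nat.card G) K σ) :=
    fun g => exists_cyclotomic_charVal (Nat.card G) K φ ρ g pow_card_eq_one'
  choose x hx1 hx2 hx3 using hx
  have hx0 : ∀ g, x g ≠ 0 := by
    intro g h
    have := hx2 g
    rw [h, map_zero] at this
    exact hcon g this.symm
  -- the values as positive reals
  have hval : ∀ g : G, ρ.character g = (((ρ.character g).re : ℝ) : ℂ) := by
    intro g
    apply Complex.ext
    · simp
    · simp [(hre g).2]
  have hpos : ∀ g : G, 0 < (ρ.character g).re := by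
    intro g
    rcases (hre g).1.lt_or_eq with h | h
    · exact h
    · exfalso
      apply hcon g
      rw [hval g, ← h]
      simp
  -- Claim A
  have hA : ∀ g : G, (Fintype.card (K ≃ₐ[ℚ] K) : ℝ) ≤
      ∑ σ : K ≃ₐ[ℚ] K, (ρ.character (g ^ galExp (Nat.card G) K σ)).re := by
    intro g
    apply card_le_sum_of_one_le_prod
    · intro σ; exact hpos _
    · have hn := Algebra.norm_eq_prod_automorphisms ℚ (x g)
      have hint : IsIntegral ℤ (Algebra.norm ℚ (x g)) := Algebra.isIntegral_norm ℚ (hx1 g)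
      obtain ⟨m, hm⟩ := IsIntegrallyClosed.isIntegral_iff.mp hint
      have hn0 : Algebra.norm ℚ (x g) ≠ 0 := Algebra.norm_ne_zero_iff.mpr (hx0 g)
      have hm0 : m ≠ 0 := by
        intro h
        rw [h] at hm
        simp at hm
        exact hn0 hm.symm
      have h1 : ∏ σ : K ≃ₐ[ℚ] K, φ (σ (x g)) = (m : ℂ) := by
        rw [← map_prod, ← hn, ← hm]
        simp
      have h2 : ∏ σ : K ≃ₐ[ℚ] K, φ (σ (x g)) =
          ((∏ σ : K ≃ₐ[ℚ] K, (ρ.character (g ^ galExp (Nat.card G) K σ)).re : ℝ) : ℂ) := by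
        push_cast
        apply Finset.prod_congr rfl
        intro σ _
        rw [hx3 g σ]
        exact hval _
      rw [h2] at h1
      have h3 : (∏ σ : K ≃ₐ[ℚ] K, (ρ.character (g ^ galExp (Nat.card G) K σ)).re : ℝ) = (m : ℝ) := by
        exact_mod_cast h1
      have h4 : (0 : ℝ) < ∏ σ : K ≃ₐ[ℚ] K, (ρ.character (g ^ galExp (Nat.card G) K σ)).re :=
        Finset.prod_pos (fun σ _ => hpos _)
      rw [h3] at h4 ⊢
      have h5 : (0 : ℤ) < m := by exact_mod_cast h4
      have h6 : (1 : ℤ) ≤ m := h5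
      exact_mod_cast h6
  -- Claim B
  have hsumre : ∑ g : G, (ρ.character g).re = (Nat.card G : ℝ) := by
    have h1 := hsum
    have h2 := congrArg Complex.re h1
    rw [Complex.re_sum] at h2
    simpa using h2
  have hB : ∀ σ : K ≃ₐ[ℚ] K,
      ∑ g : G, (ρ.character (g ^ galExp (Nat.card G) K σ)).re = (Nat.card G : ℝ) := by
    intro σ
    rw [← hsumre]
    have hcop : (Nat.card G).Coprime (galExp (Nat.card G) K σ) :=
      (galExp_coprime (Nat.card G) K σ).symm
    rw [← Equiv.sum_comp (powCoprime hcop) (fun g => (ρ.character g).re)]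
    rfl
  -- the identity element
  have h1 : ∑ σ : K ≃ₐ[ℚ] K, (ρ.character ((1 : G) ^ galExp (Nat.card G) K σ)).re =
      (Fintype.card (K ≃ₐ[ℚ] K) : ℝ) * (finrank ℂ V : ℝ) := by
    have : ∀ σ : K ≃ₐ[ℚ] K, (ρ.character ((1 : G) ^ galExp (Nat.card G) K σ)).re =
        (finrank ℂ V : ℝ) := by
      intro σ
      rw [one_pow, char_one]
      simp
    rw [Finset.sum_congr rfl (fun σ _ => this σ), Finset.sum_const, Finset.card_univ, nsmul_eq_mul]
  -- total
  have htot : ∑ g : G, ∑ σ : K ≃ₐ[ℚ] K, (ρ.character (g ^ galExp (Nat.card G) K σ)).re =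
      (Fintype.card (K ≃ₐ[ℚ] K) : ℝ) * (Nat.card G : ℝ) := by
    rw [Finset.sum_comm, Finset.sum_congr rfl (fun σ _ => hB σ), Finset.sum_const, Finset.card_univ,
      nsmul_eq_mul]
  have hsplit : ∑ g : G, ∑ σ : K ≃ₐ[ℚ] K, (ρ.character (g ^ galExp (Nat.card G) K σ)).re =
      ∑ σ : K ≃ₐ[ℚ] K, (ρ.character ((1 : G) ^ galExp (Nat.card G) K σ)).re +
        ∑ g ∈ Finset.univ.erase (1 : G),
          ∑ σ : K ≃ₐ[ℚ] K, (ρ.character (g ^ galExp (Nat.card G) K σ)).re :=
    (Finset.add_sum_erase Finset.univ _ (Finset.mem_univ (1 : G))).symm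
  have hge : ((Nat.card G : ℝ) - 1) * (Fintype.card (K ≃ₐ[ℚ] K) : ℝ) ≤
      ∑ g ∈ Finset.univ.erase (1 : G),
        ∑ σ : K ≃ₐ[ℚ] K, (ρ.character (g ^ galExp (Nat.card G) K σ)).re := by
    have : ∑ g ∈ Finset.univ.erase (1 : G), (Fintype.card (K ≃ₐ[ℚ] K) : ℝ) ≤
        ∑ g ∈ Finset.univ.erase (1 : G),
          ∑ σ : K ≃ₐ[ℚ] K, (ρ.character (g ^ galExp (Nat.card G) K σ)).re :=
      Finset.sum_le_sum (fun g _ => hA g)
    rw [Finset.sum_const, Finset.card_erase_of_mem (Finset.mem_univ _), Finset.card_univ,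
      nsmul_eq_mul, ← Nat.card_eq_fintype_card] at this
    have hc : ((Nat.card G - 1 : ℕ) : ℝ) = (Nat.card G : ℝ) - 1 := by
      rw [Nat.cast_sub hNpos]; simp
    rw [hc] at this
    exact this
  have hcardpos : (0 : ℝ) < (Fintype.card (K ≃ₐ[ℚ] K) : ℝ) := by
    have : 0 < Fintype.card (K ≃ₐ[ℚ] K) := Fintype.card_pos
    exact_mod_cast this
  have hd : (2 : ℝ) ≤ (finrank ℂ V : ℝ) := by exact_mod_cast hdeg
  rw [htot, h1] at hsplit
  nlinarith

end Cfsg.Agent.Lib.Helper23
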