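import Mathlib
import Cfsg.Agent.Lib.Helper18.CTEDefs
import Cfsg.Agent.Lib.Helper7.ChevAdd
import Cfsg.Prelude.Def_ChevE6
import Cfsg.Prelude.Def_ChevE7
import Cfsg.Prelude.Def_ChevE8

/-!
helper23: S3353 leaf (RES), the TABLE half: for an edge `i — j` of `E₆, E₇, E₈` three root indices `b₁ b₂ b₃`
such that the columns `e_{b_m}` of `x_{±p_i}(t)`, `x_{±p_j}(t)` are supported on `e_{b₁}, e_{b₂}, e_{b₃}`, with the
`3 × 3` blocks `i12 (tSL/lSL (e₁ t))`, `i23 (tSL/lSL (e₃ t))`.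
-/

set_option autoImplicit false

namespace Cfsg.Agent.Lib.Helper23.CTERESTab

open Matrix Cfsg Cfsg.Lie Cfsg.Agent.Lib.Helper13 Cfsg.Agent.Lib.Helper18.CTE Cfsg.Agent.Lib.Helper7

/-- the chain data of the column `e_s` of `x_r(t)` is `L`, and `s ≠ ±r` -/
def colB (D : ChevalleyDatum) (r s : ℕ) (L : List (ℕ × ℕ × ℤ)) : Bool :=
  decide (r < D.nroots) && decide (s < D.nroots) && decide (s ≠ r) &&
    decide (s ≠ D.negIdx.getD r 0) && decide (ccAll D r s = L)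

/-- the whole check for an edge -/
def resB (D : ChevalleyDatum) (i j b1 b2 b3 : ℕ) (e1 e3 : ℤ) : Bool :=
  decide (b1 ≠ b2) && decide (b1 ≠ b3) && decide (b2 ≠ b3) &&
  (decide (e1 = 1) || decide (e1 = -1)) && (decide (e3 = 1) || decide (e3 = -1)) &&
  colB D (D.simple i) b1 [] && colB D (D.simple i) b2 [(b1, 1, e1)] && colB D (D.simple i) b3 [] &&
  colB D (D.neg (D.simple i)) b1 [(b2, 1, e1)] && colB D (D.neg (D.simple i)) b2 [] &&
    colB D (D.neg (D.simple i)) b3 [] &&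
  colB D (D.simple j) b1 [] && colB D (D.simple j) b2 [] && colB D (D.simple j) b3 [(b2, 1, e3)] &&
  colB D (D.neg (D.simple j)) b1 [] && colB D (D.neg (D.simple j)) b2 [(b3, 1, e3)] &&
    colB D (D.neg (D.simple j)) b3 []

/-- candidates: `b₃` any root, `b₂ = b₃ + p_j`, `b₁ = b₂ + p_i` read off the chain table -/
def resCands (D : ChevalleyDatum) (i j : ℕ) : List (ℕ × ℕ × ℕ × ℤ × ℤ) :=
  (List.range D.nroots).flatMap fun b3 =>
    (ccAll D (D.simple j) b3).flatMap fun x2 =>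
      (ccAll D (D.simple i) x2.1).map fun x1 => (x1.1, x2.1, b3, x1.2.2, x2.2.2)

/-- the first candidate that passes the check -/
def resPick (D : ChevalleyDatum) (i j : ℕ) : Option (ℕ × ℕ × ℕ × ℤ × ℤ) :=
  (resCands D i j).find? fun c => resB D i j c.1 c.2.1 c.2.2.1 c.2.2.2.1 c.2.2.2.2

/-- the table: every edge has a passing candidate -/
def tabB (D : ChevalleyDatum) : Bool :=
  (List.range D.rank).all fun i => (List.range D.rank).all fun j =>
    !decide (D.cartan i (D.simple j) = -1) || (resPick D i j).isSome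

theorem tabB_E6 : tabB chevE6 = true := by decide +kernel

theorem tabB_E7 : tabB chevE7 = true := by decide +kernel

theorem tabB_E8 : tabB chevE8 = true := by decide +kernel

theorem tabB_of_mem (D : ChevalleyDatum) (hD : D ∈ [chevE6, chevE7, chevE8]) : tabB D = true := by
  have : D = chevE6 ∨ D = chevE7 ∨ D = chevE8 := by
    simpa only [List.mem_cons, List.mem_singleton, List.not_mem_nil, or_false] using hD
  rcases this with rfl | rfl | rfl
  · exact tabB_E6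
  · exact tabB_E7
  · exact tabB_E8

/-- every edge has a passing triple -/
theorem exists_resB (D : ChevalleyDatum) (hD : D ∈ [chevE6, chevE7, chevE8]) (i j : ℕ)
    (hi : i < D.rank) (hj : j < D.rank) (hadj : D.cartan i (D.simple j) = -1) :
    ∃ (b1 b2 b3 : ℕ) (e1 e3 : ℤ), resB D i j b1 b2 b3 e1 e3 = true := by
  have h := tabB_of_mem D hD
  unfold tabB at h
  rw [List.all_eq_true] at h
  have h1 := h i (List.mem_range.mpr hi)
  rw [List.all_eq_true] at h1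
  have h2 := h1 j (List.mem_range.mpr hj)
  rw [Bool.or_eq_true, Bool.not_eq_true', decide_eq_false_iff_not] at h2
  rcases h2 with h2 | h2
  · exact absurd hadj h2
  · obtain ⟨c, hc⟩ := Option.isSome_iff_exists.mp h2
    unfold resPick at hc
    have := List.find?_some hc
    exact ⟨c.1, c.2.1, c.2.2.1, c.2.2.2.1, c.2.2.2.2, this⟩

theorem colB_spec {D : ChevalleyDatum} {r s : ℕ} {L : List (ℕ × ℕ × ℤ)} (h : colB D r s L = true) :
    r < D.nroots ∧ s < D.nroots ∧ s ≠ r ∧ s ≠ D.negIdx.getD r 0 ∧ ccAll D r s = L := by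
  unfold colB at h
  simp only [Bool.and_eq_true, decide_eq_true_eq] at h
  obtain ⟨⟨⟨⟨h1, h2⟩, h3⟩, h4⟩, h5⟩ := h
  exact ⟨h1, h2, h3, h4, h5⟩

section entries

variable {D : ChevalleyDatum} {F : Type*} [Field F]

theorem x_entry_inr {r s : ℕ} {L : List (ℕ × ℕ × ℤ)} (h : colB D r s L = true) (t : F)
    (hs : s < D.nroots) (u : Fin D.nroots) :
    D.x F r t (Sum.inr u) (Sum.inr ⟨s, hs⟩) = (if u.val = s then 1 else 0) + polyAt t L u.val := by
  obtain ⟨hr, -, hsr, hneg, hL⟩ := colB_spec h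
  rw [x_eq_xMat D F r hr t, xMat_inr_gen D F ⟨r, hr⟩ t ⟨s, hs⟩ (fun hh => hsr (congrArg Fin.val hh)) hneg u,
    hL]
  congr 1
  by_cases hu : u.val = s
  · rw [if_pos hu, if_pos (Fin.ext hu)]
  · rw [if_neg hu, if_neg (fun hh => hu (congrArg Fin.val hh))]

theorem x_entry_inl {r s : ℕ} {L : List (ℕ × ℕ × ℤ)} (h : colB D r s L = true) (t : F)
    (hs : s < D.nroots) (i' : Fin D.rank) :
    D.x F r t (Sum.inl i') (Sum.inr ⟨s, hs⟩) = 0 := by
  obtain ⟨hr, -, hsr, hneg, -⟩ := colB_spec h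
  rw [x_eq_xMat D F r hr t]
  exact xMat_inl_gen D F ⟨r, hr⟩ t ⟨s, hs⟩ (fun hh => hsr (congrArg Fin.val hh)) hneg i'

theorem polyAt_nil (t : F) (u : ℕ) : polyAt t [] u = 0 := by
  simp [polyAt]

theorem polyAt_single (t : F) (v : ℕ) (e : ℤ) (u : ℕ) :
    polyAt t [(v, 1, e)] u = if v = u then (e : F) * t else 0 := by
  simp [polyAt]

end entries

section main

variable {D : ChevalleyDatum} {F : Type*} [Field F]

/-- the index map of a triple of root indices -/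
def iota3 (D : ChevalleyDatum) (b : Fin 3 → Fin D.nroots) : Fin 3 → D.Idx := fun m => Sum.inr (b m)

/-- rows outside the triple: the three columns vanish there -/
theorem x_row_zero {r : ℕ} {b1 b2 b3 : ℕ} {L1 L2 L3 : List (ℕ × ℕ × ℤ)}
    (h1 : colB D r b1 L1 = true) (h2 : colB D r b2 L2 = true) (h3 : colB D r b3 L3 = true)
    (hL1 : ∀ x ∈ L1, x.1 = b1 ∨ x.1 = b2 ∨ x.1 = b3) (hL2 : ∀ x ∈ L2, x.1 = b1 ∨ x.1 = b2 ∨ x.1 = b3)
    (hL3 : ∀ x ∈ L3, x.1 = b1 ∨ x.1 = b2 ∨ x.1 = b3)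
    (hb1 : b1 < D.nroots) (hb2 : b2 < D.nroots) (hb3 : b3 < D.nroots) (t : F) (row : D.Idx)
    (hrow : row ∉ Set.range (iota3 D ![⟨b1, hb1⟩, ⟨b2, hb2⟩, ⟨b3, hb3⟩])) (m : Fin 3) :
    D.x F r t row (iota3 D ![⟨b1, hb1⟩, ⟨b2, hb2⟩, ⟨b3, hb3⟩] m) = 0 := by
  have key : ∀ (s : ℕ) (hs : s < D.nroots) (L : List (ℕ × ℕ × ℤ)), colB D r s L = true →
      (∀ x ∈ L, x.1 = b1 ∨ x.1 = b2 ∨ x.1 = b3) → (s = b1 ∨ s = b2 ∨ s = b3) →
      D.x F r t row (Sum.inr ⟨s, hs⟩) = 0 := by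
    intro s hs L hc hL hsb
    rcases row with i' | u
    · exact x_entry_inl hc t hs i'
    · have hu : u.val ≠ b1 ∧ u.val ≠ b2 ∧ u.val ≠ b3 := by
        refine ⟨fun h => hrow ⟨0, ?_⟩, fun h => hrow ⟨1, ?_⟩, fun h => hrow ⟨2, ?_⟩⟩
        · show (Sum.inr (⟨b1, hb1⟩ : Fin D.nroots) : D.Idx) = Sum.inr u
          rw [Sum.inr.injEq]; exact Fin.ext h.symm
        · show (Sum.inr (⟨b2, hb2⟩ : Fin D.nroots) : D.Idx) = Sum.inr u
          rw [Sum.inr.injEq]; exact Fin.ext h.symm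
        · show (Sum.inr (⟨b3, hb3⟩ : Fin D.nroots) : D.Idx) = Sum.inr u
          rw [Sum.inr.injEq]; exact Fin.ext h.symm
      rw [x_entry_inr hc t hs u]
      have e1 : (if u.val = s then (1 : F) else 0) = 0 := by
        rw [if_neg]
        rcases hsb with rfl | rfl | rfl
        · exact hu.1
        · exact hu.2.1
        · exact hu.2.2
      have e2 : polyAt t L u.val = 0 := by
        unfold polyAt
        apply List.sum_eq_zero
        intro y hy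
        obtain ⟨x, hx, rfl⟩ := List.mem_map.mp hy
        rw [if_neg]
        intro hxu
        rcases hL x hx with h | h | h
        · exact hu.1 (by rw [← hxu, h])
        · exact hu.2.1 (by rw [← hxu, h])
        · exact hu.2.2 (by rw [← hxu, h])
      rw [e1, e2, add_zero]
  fin_cases m
  · exact key b1 hb1 L1 h1 hL1 (Or.inl rfl)
  · exact key b2 hb2 L2 h2 hL2 (Or.inr (Or.inl rfl))
  · exact key b3 hb3 L3 h3 hL3 (Or.inr (Or.inr rfl))

/-- the `3 × 3` block of a generator -/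
theorem x_sub_entry {r : ℕ} {b1 b2 b3 : ℕ} {L1 L2 L3 : List (ℕ × ℕ × ℤ)}
    (h1 : colB D r b1 L1 = true) (h2 : colB D r b2 L2 = true) (h3 : colB D r b3 L3 = true)
    (hb1 : b1 < D.nroots) (hb2 : b2 < D.nroots) (hb3 : b3 < D.nroots) (t : F) (m' m : Fin 3) :
    (D.x F r t).submatrix (iota3 D ![⟨b1, hb1⟩, ⟨b2, hb2⟩, ⟨b3, hb3⟩])
        (iota3 D ![⟨b1, hb1⟩, ⟨b2, hb2⟩, ⟨b3, hb3⟩]) m' m =
      (if (![b1, b2, b3] m' : ℕ) = ![b1, b2, b3] m then 1 else 0) +
        polyAt t (![L1, L2, L3] m) (![b1, b2, b3] m') := by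
  rw [Matrix.submatrix_apply]
  fin_cases m <;> fin_cases m'
  · exact x_entry_inr h1 t hb1 _
  · exact x_entry_inr h1 t hb1 _
  · exact x_entry_inr h1 t hb1 _
  · exact x_entry_inr h2 t hb2 _
  · exact x_entry_inr h2 t hb2 _
  · exact x_entry_inr h2 t hb2 _
  · exact x_entry_inr h3 t hb3 _
  · exact x_entry_inr h3 t hb3 _
  · exact x_entry_inr h3 t hb3 _

/-- **The table half of (RES).** -/
theorem res_table (D : ChevalleyDatum) (hD : D ∈ [chevE6, chevE7, chevE8]) (F : Type*) [Field F]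
    (i j : ℕ) (hi : i < D.rank) (hj : j < D.rank) (hadj : D.cartan i (D.simple j) = -1) :
    ∃ (b : Fin 3 → Fin D.nroots) (e₁ e₃ : F), Function.Injective b ∧
      (e₁ = 1 ∨ e₁ = -1) ∧ (e₃ = 1 ∨ e₃ = -1) ∧
      ∀ t : F,
        (∀ X : Matrix D.Idx D.Idx F,
          (X = D.x F (D.simple i) t ∨ X = D.x F (D.neg (D.simple i)) t ∨
            X = D.x F (D.simple j) t ∨ X = D.x F (D.neg (D.simple j)) t) →
          ∀ row : D.Idx, row ∉ Set.range (iota3 D b) → ∀ m, X row (iota3 D b m) = 0) ∧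
        (D.x F (D.simple i) t).submatrix (iota3 D b) (iota3 D b) =
          ((i12 (tSL (e₁ * t)) : SpecialLinearGroup (Fin 3) F) : Matrix (Fin 3) (Fin 3) F) ∧
        (D.x F (D.neg (D.simple i)) t).submatrix (iota3 D b) (iota3 D b) =
          ((i12 (lSL (e₁ * t)) : SpecialLinearGroup (Fin 3) F) : Matrix (Fin 3) (Fin 3) F) ∧
        (D.x F (D.simple j) t).submatrix (iota3 D b) (iota3 D b) =
          ((i23 (tSL (e₃ * t)) : SpecialLinearGroup (Fin 3) F) : Matrix (Fin 3) (Fin 3) F) ∧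
        (D.x F (D.neg (D.simple j)) t).submatrix (iota3 D b) (iota3 D b) =
          ((i23 (lSL (e₃ * t)) : SpecialLinearGroup (Fin 3) F) : Matrix (Fin 3) (Fin 3) F) := by
  obtain ⟨b1, b2, b3, e1, e3, h⟩ := exists_resB D hD i j hi hj hadj
  unfold resB at h
  simp only [Bool.and_eq_true, Bool.or_eq_true, decide_eq_true_eq] at h
  obtain ⟨⟨⟨⟨⟨⟨⟨⟨⟨⟨⟨⟨⟨⟨⟨⟨h12, h13⟩, h23⟩, he1⟩, he3⟩, ci1⟩, ci2⟩, ci3⟩, ni1⟩, ni2⟩, ni3⟩, cj1⟩, cj2⟩, cj3⟩,
    nj1⟩, nj2⟩, nj3⟩ := h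
  have hb1 : b1 < D.nroots := (colB_spec ci1).2.1
  have hb2 : b2 < D.nroots := (colB_spec ci2).2.1
  have hb3 : b3 < D.nroots := (colB_spec ci3).2.1
  refine ⟨![⟨b1, hb1⟩, ⟨b2, hb2⟩, ⟨b3, hb3⟩], (e1 : F), (e3 : F), ?_, ?_, ?_, ?_⟩
  · intro x y hxy
    fin_cases x <;> fin_cases y <;> first | rfl | (exfalso; simp at hxy; omega)
  · rcases he1 with rfl | rfl
    · left; simp
    · right; simp
  · rcases he3 with rfl | rfl
    · left; simp
    · right; simp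
  · intro t
    have nil_ok : ∀ x ∈ ([] : List (ℕ × ℕ × ℤ)), x.1 = b1 ∨ x.1 = b2 ∨ x.1 = b3 := by
      intro x hx; simp at hx
    have s1 : ∀ (e : ℤ), ∀ x ∈ [((b1, 1, e) : ℕ × ℕ × ℤ)], x.1 = b1 ∨ x.1 = b2 ∨ x.1 = b3 := by
      intro e x hx; rw [List.mem_singleton] at hx; subst hx; exact Or.inl rfl
    have s2 : ∀ (e : ℤ), ∀ x ∈ [((b2, 1, e) : ℕ × ℕ × ℤ)], x.1 = b1 ∨ x.1 = b2 ∨ x.1 = b3 := by
      intro e x hx; rw [List.mem_singleton] at hx; subst hx; exact Or.inr (Or.inl rfl)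
    have s3 : ∀ (e : ℤ), ∀ x ∈ [((b3, 1, e) : ℕ × ℕ × ℤ)], x.1 = b1 ∨ x.1 = b2 ∨ x.1 = b3 := by
      intro e x hx; rw [List.mem_singleton] at hx; subst hx; exact Or.inr (Or.inr rfl)
    refine ⟨?_, ?_, ?_, ?_, ?_⟩
    · rintro X (rfl | rfl | rfl | rfl) row hrow m
      · exact x_row_zero ci1 ci2 ci3 nil_ok (s1 e1) nil_ok hb1 hb2 hb3 t row hrow m
      · exact x_row_zero ni1 ni2 ni3 (s2 e1) nil_ok nil_ok hb1 hb2 hb3 t row hrow m
      · exact x_row_zero cj1 cj2 cj3 nil_ok nil_ok (s2 e3) hb1 hb2 hb3 t row hrow m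
      · exact x_row_zero nj1 nj2 nj3 nil_ok (s3 e3) nil_ok hb1 hb2 hb3 t row hrow m
    · ext m' m
      rw [x_sub_entry ci1 ci2 ci3 hb1 hb2 hb3 t m' m, i12_coe, tSL_coe]
      fin_cases m' <;> fin_cases m <;>
        simp [polyAt_nil, polyAt_single, m12, h12, h13, h23, Ne.symm h12, Ne.symm h13, Ne.symm h23]
    · ext m' m
      rw [x_sub_entry ni1 ni2 ni3 hb1 hb2 hb3 t m' m, i12_coe, lSL_coe]
      fin_cases m' <;> fin_cases m <;>
        simp [polyAt_nil, polyAt_single, m12, h12, h13, h23, Ne.symm h12, Ne.symm h13, Ne.symm h23]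
    · ext m' m
      rw [x_sub_entry cj1 cj2 cj3 hb1 hb2 hb3 t m' m, i23_coe, tSL_coe]
      fin_cases m' <;> fin_cases m <;>
        simp [polyAt_nil, polyAt_single, m23, h12, h13, h23, Ne.symm h12, Ne.symm h13, Ne.symm h23]
    · ext m' m
      rw [x_sub_entry nj1 nj2 nj3 hb1 hb2 hb3 t m' m, i23_coe, lSL_coe]
      fin_cases m' <;> fin_cases m <;>
        simp [polyAt_nil, polyAt_single, m23, h12, h13, h23, Ne.symm h12, Ne.symm h13, Ne.symm h23]

end main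

end Cfsg.Agent.Lib.Helper23.CTERESTab
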