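import Mathlib
import Cfsg.Agent.Lib.Helper23.CTIDefs
import Cfsg.Agent.Lib.Helper23.ZF1

/-!
# CTI-groups (towards S4064): the residual configuration (helper23)

`KillData` is the configuration left over, for a simple CTI-group of even order, after Feit's
theorem S0885 and the theory of Suzuki 2-groups: a simple Zassenhaus group of degree `q³ + 1`,
`q = 2ⁿ`, with two-point stabilizer of order `q - 1`, whose Frobenius kernel `H` (of order `q³`) has
centre containing an elementary abelian subgroup `E` of order `q`, normal in `N(H)`, with `H / E`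
abelian and `xᴴ = xE` for every `x ∈ H ∖ E`.  It is shown contradictory by exceptional characters.
-/

set_option autoImplicit false

namespace Cfsg.Agent.Lib.Helper23.CTI

open Cfsg

/-- the residual configuration of S4064 -/
structure KillData (G Ω : Type*) [Group G] [Finite G] [MulAction G Ω] [Fintype Ω] (a b : Ω)
    (H E : Subgroup G) (n : ℕ) : Prop where
  hn : 2 ≤ n
  S : Cfsg.Agent.Lib.Helper23.ZF.ZSetup G Ω a b H ((2 ^ n) ^ 3) (2 ^ n - 1)
  hEH : E ≤ H
  hEcard : Nat.card E = 2 ^ n
  hEcentral : ∀ z ∈ E, ∀ x ∈ H, z * x = x * z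
  hEnorm : ∀ g ∈ Subgroup.normalizer (H : Set G), ∀ z ∈ E, g * z * g⁻¹ ∈ E
  hcomm : ∀ x ∈ H, ∀ y ∈ H, x * y * x⁻¹ * y⁻¹ ∈ E
  hconj : ∀ x ∈ H, x ∉ E → ∀ z ∈ E, ∃ g ∈ H, g * x * g⁻¹ = x * z

/-- existence of a residual configuration on some `G`-set -/
def HasKillData.{u} (G : Type u) [Group G] [Finite G] : Prop :=
  ∃ (Ω : Type u) (_ : MulAction G Ω) (_ : Fintype Ω) (a b : Ω) (H E : Subgroup G) (n : ℕ),
    KillData G Ω a b H E n

end Cfsg.Agent.Lib.Helper23.CTI
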