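import Mathlib
import Cfsg.Agent.Lib.Helper23.ZF8
import Cfsg.Agent.Lib.Helper10.Coherence

/-!
# S4064, the kill: the class functions `α_ψ = ψ - n_ψ ρ` (helper23)
-/

set_option autoImplicit false
set_option linter.unusedSectionVars false

namespace Cfsg.Agent.Lib.Helper23.ZF

open Cfsg MulAction Cfsg.Agent.CharLib Cfsg.Agent.Lib.Lead.CNExc Cfsg.Agent.Lib.Helper25
open scoped ComplexConjugate

section rho

variable {G : Type*} [Group G] [Fintype G] (H : Subgroup G)
  [Fintype ↥(Subgroup.normalizer (H : Set G))]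
  [Fintype (IrrCharacter ↥(Subgroup.normalizer (H : Set G)))]

local notation "NH" => Subgroup.normalizer (H : Set G)
local notation "KH" => H.subgroupOf (Subgroup.normalizer (H : Set G))

/-- the regular character of `N_G(H)/H`, as a function on `N_G(H)` -/
noncomputable def rho : NH → ℂ := ∑ ξ ∈ inKer KH, (ξ : NH → ℂ)

theorem rho_apply (x : NH) : rho H x = ∑ ξ ∈ inKer KH, (ξ : NH → ℂ) x := by
  unfold rho
  rw [Finset.sum_apply]

theorem rho_classFunction : IsClassFunction NH (rho H) := by
  unfold rho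
  apply IsClassFunction.sum
  intro ξ _
  exact IsCharacter.isClassFunction (IsIrrCharacter.isCharacter ξ.2)

open Classical in
theorem classInner_rho_irr (ζ : IrrCharacter NH) :
    classInner (rho H) (ζ : NH → ℂ) = if ζ ∈ inKer KH then 1 else 0 := by
  unfold rho
  rw [Cfsg.Agent.Lib.Helper10.classInner_sum_left]
  simp only [classInner_irr']
  rw [Finset.sum_ite_eq' (inKer KH) ζ (fun _ => (1 : ℂ))]

open Classical in
theorem classInner_irr_rho (ζ : IrrCharacter NH) :
    classInner (ζ : NH → ℂ) (rho H) = if ζ ∈ inKer KH then 1 else 0 := by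
  have h := congrArg conj (classInner_rho_irr H ζ)
  rw [classInner_conj_symm] at h
  rw [h]
  split_ifs <;> simp

theorem classInner_rho_rho : classInner (rho H) (rho H) = ((inKer KH).card : ℂ) := by
  classical
  have h1 : classInner (rho H) (rho H) =
      ∑ ξ ∈ inKer KH, classInner (ξ : NH → ℂ) (rho H) := by
    exact Cfsg.Agent.Lib.Helper10.classInner_sum_left (inKer KH)
      (fun ξ => (ξ : NH → ℂ)) (rho H)
  rw [h1, Finset.sum_congr rfl (fun ξ hξ => by rw [classInner_irr_rho H ξ, if_pos hξ])]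
  simp

/-- `α = ψ - n ρ` -/
noncomputable def alpha (ψ : IrrCharacter NH) (n : ℕ) : NH → ℂ :=
  (ψ : NH → ℂ) - (n : ℂ) • rho H

theorem alpha_classFunction (ψ : IrrCharacter NH) (n : ℕ) : IsClassFunction NH (alpha H ψ n) := by
  unfold alpha
  exact IsClassFunction.sub (IsCharacter.isClassFunction (IsIrrCharacter.isCharacter ψ.2))
    (IsClassFunction.smul _ (rho_classFunction H))

open Classical in
theorem classInner_alpha_irr (ψ : IrrCharacter NH) (n : ℕ)
    (ζ : IrrCharacter NH) :
    classInner (alpha H ψ n) (ζ : NH → ℂ) =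
      (if ψ = ζ then 1 else 0) - (n : ℂ) * (if ζ ∈ inKer KH then 1 else 0) := by
  unfold alpha
  rw [classInner_sub_left, classInner_smul_left, classInner_irr', classInner_rho_irr]

open Classical in
theorem classInner_alpha_alpha {ψ φ : IrrCharacter NH} (hψ : ψ ∈ exc KH) (hφ : φ ∈ exc KH)
    (n m : ℕ) :
    classInner (alpha H ψ n) (alpha H φ m) =
      (if ψ = φ then 1 else 0) + (n : ℂ) * (m : ℂ) * ((inKer KH).card : ℂ) := by
  have hψ' : ψ ∉ inKer KH := by
    rw [mem_exc] at hψ
    rw [mem_inKer]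
    exact hψ
  have hφ' : φ ∉ inKer KH := by
    rw [mem_exc] at hφ
    rw [mem_inKer]
    exact hφ
  conv_lhs => rw [alpha, alpha]
  rw [classInner_sub_left, Cfsg.Agent.Lib.Helper10.classInner_sub_right,
    Cfsg.Agent.Lib.Helper10.classInner_sub_right, classInner_smul_left, classInner_smul_left,
    classInner_smul_right, classInner_smul_right, classInner_irr', classInner_irr_rho,
    classInner_rho_irr, classInner_rho_rho, if_neg hψ', if_neg hφ']
  simp only [Complex.conj_natCast]
  ring

end rho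

namespace ZSetup

variable {G : Type*} {Ω : Type*} [Group G] [Fintype G] [MulAction G Ω] [Fintype Ω] {a b : Ω}
  {H : Subgroup G} {h e : ℕ}
  [Fintype ↥(Subgroup.normalizer (H : Set G))]
  [Fintype (IrrCharacter ↥(Subgroup.normalizer (H : Set G)))]
  [Fintype (IrrCharacter G)]

local notation "NH" => Subgroup.normalizer (H : Set G)
local notation "KH" => H.subgroupOf (Subgroup.normalizer (H : Set G))

theorem rho_apply_mem (S : ZSetup G Ω a b H h e) {x : NH} (hx : x ∈ KH) :
    rho H x = (e : ℂ) := by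
  rw [rho_apply, Finset.sum_congr rfl
    (fun ξ hξ => by rw [inKer_apply KH hξ hx, S.inKer_linear hξ]),
    Finset.sum_const, S.card_inKer, nsmul_eq_mul, mul_one]

theorem rho_apply_not_mem (S : ZSetup G Ω a b H h e) {x : NH} (hx : x ∉ KH) :
    rho H x = 0 := by
  have h2 := sum_irr_mul_conj x (1 : NH)
  have hx1 : x ≠ 1 := by
    intro h1
    apply hx
    rw [h1]
    exact Subgroup.one_mem _
  have hci : classIndicator (1 : NH) x = 0 := by
    classical
    simp only [classIndicator]
    rw [if_neg]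
    intro h
    exact hx1 (isConj_one_left.mp h)
  rw [hci, zero_mul, sum_split KH] at h2
  have h3 : ∑ ψ ∈ exc KH, (ψ : NH → ℂ) x * conj ((ψ : NH → ℂ) 1) = 0 := by
    apply Finset.sum_eq_zero
    intro ψ hψ
    rw [exc_vanish KH S.hC' hψ hx, zero_mul]
  rw [h3, add_zero] at h2
  rw [rho_apply, ← h2]
  apply Finset.sum_congr rfl
  intro ξ hξ
  rw [S.inKer_linear hξ, map_one, mul_one]

theorem alpha_vanish (S : ZSetup G Ω a b H h e) {ψ : IrrCharacter NH} (hψ : ψ ∈ exc KH) (n : ℕ)
    {x : NH} (hx : (x : G) ∉ H) : alpha H ψ n x = 0 := by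
  have hxK : x ∉ KH := fun h' => hx (Subgroup.mem_subgroupOf.mp h')
  unfold alpha
  simp only [Pi.sub_apply, Pi.smul_apply, smul_eq_mul]
  rw [exc_vanish KH S.hC' hψ hxK, S.rho_apply_not_mem hxK]
  ring

theorem alpha_one (S : ZSetup G Ω a b H h e) (ψ : IrrCharacter NH) (n : ℕ)
    (hn : (ψ : NH → ℂ) 1 = (((KH).index * n : ℕ) : ℂ)) : alpha H ψ n 1 = 0 := by
  unfold alpha
  simp only [Pi.sub_apply, Pi.smul_apply, smul_eq_mul]
  rw [hn, S.rho_apply_mem (Subgroup.one_mem _), S.index_subgroupOf]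
  push_cast
  ring

/-- pairing `α` with a function equal to `1` on `H` minus the identity -/
theorem classInner_alpha_of_one (S : ZSetup G Ω a b H h e) {ψ : IrrCharacter NH}
    (hψ : ψ ∈ exc KH) (n : ℕ) (hn : (ψ : NH → ℂ) 1 = (((KH).index * n : ℕ) : ℂ))
    (g : NH → ℂ) (hg : ∀ x : NH, x ∈ KH → x ≠ 1 → g x = 1) :
    classInner (alpha H ψ n) g = -(n : ℂ) := by
  classical
  have h1 : classInner (alpha H ψ n) g =
      classInner (alpha H ψ n) ((trivIrr NH : IrrCharacter NH) : NH → ℂ) := by
    unfold classInner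
    congr 1
    apply Finset.sum_congr rfl
    intro x _
    by_cases hx : x ∈ KH
    · by_cases hx1 : x = 1
      · rw [hx1, S.alpha_one ψ n hn, zero_mul, zero_mul]
      · rw [hg x hx hx1]
        rfl
    · have : (x : G) ∉ H := fun h' => hx (Subgroup.mem_subgroupOf.mpr h')
      rw [S.alpha_vanish hψ n this, zero_mul, zero_mul]
  rw [h1, classInner_alpha_irr]
  have hne : ψ ≠ trivIrr NH := by
    intro h'
    rw [h', mem_exc] at hψ
    exact hψ ((mem_inKer KH).mp (triv_mem_inKer KH))
  rw [if_neg hne, if_pos (triv_mem_inKer KH)]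
  ring

/-- pairing `α` with a function vanishing on `H` minus the identity -/
theorem classInner_alpha_of_zero (S : ZSetup G Ω a b H h e) {ψ : IrrCharacter NH}
    (hψ : ψ ∈ exc KH) (n : ℕ) (hn : (ψ : NH → ℂ) 1 = (((KH).index * n : ℕ) : ℂ))
    (g : NH → ℂ) (hg : ∀ x : NH, x ∈ KH → x ≠ 1 → g x = 0) :
    classInner (alpha H ψ n) g = 0 := by
  unfold classInner
  rw [Finset.sum_eq_zero, mul_zero]
  intro x _
  by_cases hx : x ∈ KH
  · by_cases hx1 : x = 1
    · rw [hx1, S.alpha_one ψ n hn, zero_mul]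
    · rw [hg x hx hx1, map_zero, mul_zero]
  · have : (x : G) ∉ H := fun h' => hx (Subgroup.mem_subgroupOf.mpr h')
    rw [S.alpha_vanish hψ n this, zero_mul]

end ZSetup

end Cfsg.Agent.Lib.Helper23.ZF
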