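import Mathlib
import Cfsg.Agent.Lib.Helper23.CTIKillA

/-!
# S4064, the kill: coefficients of the induced class functions and the Gram relations (helper23)
-/

set_option autoImplicit false
set_option linter.unusedSectionVars false

namespace Cfsg.Agent.Lib.Helper23.ZF

open Cfsg MulAction Cfsg.Agent.CharLib Cfsg.Agent.Lib.Lead.CNExc Cfsg.Agent.Lib.Helper25
open scoped ComplexConjugate

/-- bilinear Parseval -/
theorem classInner_eq_sum_irr {X : Type*} [Group X] [Fintype X] [Fintype (IrrCharacter X)]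
    {f : X → ℂ} (hf : IsClassFunction X f) (g : X → ℂ) :
    classInner f g = ∑ χ : IrrCharacter X,
      classInner f (χ : X → ℂ) * conj (classInner g (χ : X → ℂ)) := by
  conv_lhs => arg 1; rw [classFunction_eq_sum hf]
  rw [Cfsg.Agent.Lib.Helper10.classInner_sum_left]
  apply Finset.sum_congr rfl
  intro χ _
  rw [classInner_smul_left, classInner_conj_symm g]

section defs

variable {G : Type*} [Group G] [Fintype G] (H : Subgroup G)
  [Fintype ↥(Subgroup.normalizer (H : Set G))]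
  [Fintype (IrrCharacter ↥(Subgroup.normalizer (H : Set G)))]
  [Fintype (IrrCharacter G)]

local notation "NH" => Subgroup.normalizer (H : Set G)
local notation "KH" => H.subgroupOf (Subgroup.normalizer (H : Set G))

open Classical in
/-- irreducible characters of `G` whose restriction to `N_G(H)` has a constituent trivial on `H` -/
noncomputable def prin : Finset (IrrCharacter G) :=
  Finset.univ.filter (fun χ : IrrCharacter G =>
    ∃ ξ ∈ inKer KH, classInner (resN H (χ : G → ℂ)) (ξ : NH → ℂ) ≠ 0)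

open Classical in
/-- the other ("discrete") irreducible characters of `G` -/
noncomputable def dsc : Finset (IrrCharacter G) :=
  Finset.univ.filter (fun χ : IrrCharacter G =>
    ¬ ∃ ξ ∈ inKer KH, classInner (resN H (χ : G → ℂ)) (ξ : NH → ℂ) ≠ 0)

theorem mem_prin {χ : IrrCharacter G} :
    χ ∈ prin H ↔ ∃ ξ ∈ inKer KH, classInner (resN H (χ : G → ℂ)) (ξ : NH → ℂ) ≠ 0 := by
  classical
  simp [prin]

theorem mem_dsc {χ : IrrCharacter G} :
    χ ∈ dsc H ↔ ∀ ξ ∈ inKer KH, classInner (resN H (χ : G → ℂ)) (ξ : NH → ℂ) = 0 := by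
  classical
  simp [dsc]

theorem sum_prin_add_sum_dsc (F : IrrCharacter G → ℂ) :
    ∑ χ : IrrCharacter G, F χ = ∑ χ ∈ prin H, F χ + ∑ χ ∈ dsc H, F χ := by
  classical
  unfold prin dsc
  rw [Finset.sum_filter_add_sum_filter_not]

/-- multiplicity of `ψ` in the restriction of `χ` -/
noncomputable def mlt (χ : IrrCharacter G) (ψ : IrrCharacter NH) : ℕ :=
  Classical.choose (IsCharacter.classInner_nat (resN_isCharacter H χ)
    (IsIrrCharacter.isCharacter ψ.2))

theorem mlt_spec (χ : IrrCharacter G) (ψ : IrrCharacter NH) :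
    classInner (resN H (χ : G → ℂ)) (ψ : NH → ℂ) = (mlt H χ ψ : ℂ) :=
  Classical.choose_spec (IsCharacter.classInner_nat (resN_isCharacter H χ)
    (IsIrrCharacter.isCharacter ψ.2))

theorem mlt_spec' (χ : IrrCharacter G) (ψ : IrrCharacter NH) :
    classInner (ψ : NH → ℂ) (resN H (χ : G → ℂ)) = (mlt H χ ψ : ℂ) := by
  rw [← classInner_conj_symm, mlt_spec, Complex.conj_natCast]

/-- coefficient of `χ` in the induced class function `Ind α` -/
noncomputable def cf (ψ : IrrCharacter NH) (n : ℕ) (χ : IrrCharacter G) : ℂ :=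
  classInner (indFun NH (alpha H ψ n)) (χ : G → ℂ)

theorem cf_eq (ψ : IrrCharacter NH) (n : ℕ) (χ : IrrCharacter G) :
    cf H ψ n χ = classInner (alpha H ψ n) (resN H (χ : G → ℂ)) := by
  unfold cf
  rw [frobenius_reciprocity NH (alpha H ψ n)
    (IsCharacter.isClassFunction (IsIrrCharacter.isCharacter χ.2))]
  rfl

theorem cf_eq' (ψ : IrrCharacter NH) (n : ℕ) (χ : IrrCharacter G) :
    cf H ψ n χ = (mlt H χ ψ : ℂ) - (n : ℂ) * ∑ ξ ∈ inKer KH, (mlt H χ ξ : ℂ) := by
  rw [cf_eq]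
  conv_lhs => rw [alpha]
  rw [classInner_sub_left, classInner_smul_left, mlt_spec']
  congr 2
  have : classInner (rho H) (resN H (χ : G → ℂ)) =
      ∑ ξ ∈ inKer KH, classInner (ξ : NH → ℂ) (resN H (χ : G → ℂ)) :=
    Cfsg.Agent.Lib.Helper10.classInner_sum_left (inKer KH) (fun ξ => (ξ : NH → ℂ)) _
  rw [this]
  apply Finset.sum_congr rfl
  intro ξ _
  rw [mlt_spec']

theorem cf_of_mem_dsc (ψ : IrrCharacter NH) (n : ℕ) {χ : IrrCharacter G} (hχ : χ ∈ dsc H) :
    cf H ψ n χ = (mlt H χ ψ : ℂ) := by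
  rw [cf_eq']
  have : ∑ ξ ∈ inKer KH, (mlt H χ ξ : ℂ) = 0 := by
    apply Finset.sum_eq_zero
    intro ξ hξ
    rw [← mlt_spec]
    exact (mem_dsc H).mp hχ ξ hξ
  rw [this]
  ring

end defs

namespace ZSetup

variable {G : Type*} {Ω : Type*} [Group G] [Fintype G] [MulAction G Ω] [Fintype Ω] {a b : Ω}
  {H : Subgroup G} {h e : ℕ}
  [Fintype ↥(Subgroup.normalizer (H : Set G))]
  [Fintype (IrrCharacter ↥(Subgroup.normalizer (H : Set G)))]
  [Fintype (IrrCharacter G)]

local notation "NH" => Subgroup.normalizer (H : Set G)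
local notation "KH" => H.subgroupOf (Subgroup.normalizer (H : Set G))

theorem resN_triv : resN H ((trivIrr G : IrrCharacter G) : G → ℂ) =
    ((trivIrr NH : IrrCharacter NH) : NH → ℂ) := rfl

theorem triv_mem_prin : trivIrr G ∈ prin H := by
  rw [mem_prin]
  refine ⟨trivIrr NH, triv_mem_inKer KH, ?_⟩
  rw [resN_triv, classInner_irr', if_pos rfl]
  exact one_ne_zero

theorem theta_ne_triv (S : ZSetup G Ω a b H h e) : S.theta ≠ trivIrr G := by
  intro heq
  have h1 := S.theta_one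
  rw [heq] at h1
  have h2 : ((trivIrr G : IrrCharacter G) : G → ℂ) 1 = 1 := rfl
  rw [h2] at h1
  have h3 : (1 : ℕ) = h := by exact_mod_cast h1
  have := S.h_ge
  omega

theorem classInner_resN_theta_triv (S : ZSetup G Ω a b H h e) :
    classInner ((trivIrr NH : IrrCharacter NH) : NH → ℂ) (resN H (S.theta : G → ℂ)) = 1 := by
  have hrec := frobenius_reciprocity NH ((trivIrr NH : IrrCharacter NH) : NH → ℂ)
    (IsCharacter.isClassFunction (IsIrrCharacter.isCharacter S.theta.2))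
  have htr : ((trivIrr NH : IrrCharacter NH) : NH → ℂ) = fun _ => (1 : ℂ) := rfl
  have h1 : classInner (indFun NH ((trivIrr NH : IrrCharacter NH) : NH → ℂ))
      (S.theta : G → ℂ) = 1 := by
    rw [htr, S.indFun_one]
    have hsum : (fun g => 1 + (S.theta : G → ℂ) g) =
        ((trivIrr G : IrrCharacter G) : G → ℂ) + (S.theta : G → ℂ) := by
      funext g
      rfl
    rw [hsum, classInner_add_left, classInner_irr', classInner_irr', if_pos rfl,
      if_neg (Ne.symm S.theta_ne_triv)]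
    ring
  rw [hrec] at h1
  exact h1

theorem theta_mem_prin (S : ZSetup G Ω a b H h e) : S.theta ∈ prin H := by
  rw [mem_prin]
  refine ⟨trivIrr NH, triv_mem_inKer KH, ?_⟩
  rw [← classInner_conj_symm, S.classInner_resN_theta_triv, map_one]
  exact one_ne_zero


theorem cf_triv (S : ZSetup G Ω a b H h e) {ψ : IrrCharacter NH} (hψ : ψ ∈ exc KH) (n : ℕ)
    (hn : (ψ : NH → ℂ) 1 = (((KH).index * n : ℕ) : ℂ)) :
    cf H ψ n (trivIrr G) = -(n : ℂ) := by
  rw [cf_eq]
  exact S.classInner_alpha_of_one hψ n hn _ (fun x _ _ => rfl)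

theorem cf_theta (S : ZSetup G Ω a b H h e) {ψ : IrrCharacter NH} (hψ : ψ ∈ exc KH) (n : ℕ)
    (hn : (ψ : NH → ℂ) 1 = (((KH).index * n : ℕ) : ℂ)) :
    cf H ψ n S.theta = 0 := by
  rw [cf_eq]
  apply S.classInner_alpha_of_zero hψ n hn
  intro x hx hx1
  exact S.theta_apply_of_mem (Subgroup.mem_subgroupOf.mp hx) (fun h' => hx1 (Subtype.ext h'))

theorem third_of_mem_prin (S : ZSetup G Ω a b H h e) {χ : IrrCharacter G} (hχ : χ ∈ prin H)
    (h1 : χ ≠ trivIrr G) (h2 : χ ≠ S.theta) :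
    (χ : G → ℂ) 1 = (h : ℂ) + 1 ∧ ∀ u ∈ H, u ≠ 1 → (χ : G → ℂ) u = 1 := by
  obtain ⟨ξ, hξ, hne⟩ := (mem_prin H).mp hχ
  rcases S.caseA χ ξ hξ hne with h3 | h3 | h3
  · exact absurd h3 h1
  · exact absurd h3 h2
  · exact h3

theorem cf_third (S : ZSetup G Ω a b H h e) {ψ : IrrCharacter NH} (hψ : ψ ∈ exc KH) (n : ℕ)
    (hn : (ψ : NH → ℂ) 1 = (((KH).index * n : ℕ) : ℂ)) {χ : IrrCharacter G} (hχ : χ ∈ prin H)
    (h1 : χ ≠ trivIrr G) (h2 : χ ≠ S.theta) :
    cf H ψ n χ = -(n : ℂ) := by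
  rw [cf_eq]
  obtain ⟨-, hval⟩ := S.third_of_mem_prin hχ h1 h2
  apply S.classInner_alpha_of_one hψ n hn
  intro x hx hx1
  exact hval (x : G) (Subgroup.mem_subgroupOf.mp hx) (fun h' => hx1 (Subtype.ext h'))

open Classical in
theorem gram_total (S : ZSetup G Ω a b H h e) {ψ φ : IrrCharacter NH} (hψ : ψ ∈ exc KH) (hφ : φ ∈ exc KH) (n m : ℕ)
    (hm : (φ : NH → ℂ) 1 = (((KH).index * m : ℕ) : ℂ)) :
    ∑ χ : IrrCharacter G, cf H ψ n χ * conj (cf H φ m χ) =
      (if ψ = φ then 1 else 0) + (n : ℂ) * (m : ℂ) * (e : ℂ) := by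
  have h1 := classInner_eq_sum_irr
    (Cfsg.Agent.Lib.Helper10.isClassFunction_indFun NH (alpha H ψ n)) (indFun NH (alpha H φ m))
  have h2 := Cfsg.Agent.Lib.Helper10.classInner_indFun_of_TI (H : Set G) S.ti
    (alpha H ψ n) (alpha H φ m) (alpha_classFunction H ψ n)
    (fun x hx => S.alpha_vanish hψ n hx) (fun x hx => S.alpha_vanish hφ m hx)
    (S.alpha_one φ m hm)
  rw [h2, classInner_alpha_alpha H hψ hφ, S.card_inKer] at h1
  rw [h1]
  rfl

end ZSetup

end Cfsg.Agent.Lib.Helper23.ZF
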