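import Mathlib
import Cfsg.Agent.Lib.Helper23.CTIKillB

/-!
# S4064, the kill: counting the principal series and the Gram relations on the discrete characters
(helper23)
-/

set_option autoImplicit false
set_option linter.unusedSectionVars false

namespace Cfsg.Agent.Lib.Helper23.ZF

open Cfsg MulAction Cfsg.Agent.CharLib Cfsg.Agent.Lib.Lead.CNExc Cfsg.Agent.Lib.Helper25
open scoped ComplexConjugate

section defs

variable {G : Type*} [Group G] [Fintype G] (H : Subgroup G)
  [Fintype ↥(Subgroup.normalizer (H : Set G))]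
  [Fintype (IrrCharacter ↥(Subgroup.normalizer (H : Set G)))]
  [Fintype (IrrCharacter G)]

local notation "NH" => Subgroup.normalizer (H : Set G)
local notation "KH" => H.subgroupOf (Subgroup.normalizer (H : Set G))

/-- multiplicity of `χ` in `Ind ρ` -/
noncomputable def mm (χ : IrrCharacter G) : ℂ :=
  classInner (indFun NH (rho H)) (χ : G → ℂ)

theorem mm_eq (χ : IrrCharacter G) : mm H χ = ∑ ξ ∈ inKer KH, (mlt H χ ξ : ℂ) := by
  unfold mm
  rw [frobenius_reciprocity NH (rho H)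
    (IsCharacter.isClassFunction (IsIrrCharacter.isCharacter χ.2))]
  have : classInner (rho H) (fun x : NH => (χ : G → ℂ) x) =
      ∑ ξ ∈ inKer KH, classInner (ξ : NH → ℂ) (resN H (χ : G → ℂ)) :=
    Cfsg.Agent.Lib.Helper10.classInner_sum_left (inKer KH) (fun ξ => (ξ : NH → ℂ)) _
  rw [this]
  apply Finset.sum_congr rfl
  intro ξ _
  rw [mlt_spec']

theorem mm_of_mem_dsc {χ : IrrCharacter G} (hχ : χ ∈ dsc H) : mm H χ = 0 := by
  rw [mm_eq]
  apply Finset.sum_eq_zero
  intro ξ hξ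
  rw [← mlt_spec]
  exact (mem_dsc H).mp hχ ξ hξ

theorem sum_mm_mul (x : G) :
    ∑ χ : IrrCharacter G, mm H χ * (χ : G → ℂ) x = indFun NH (rho H) x := by
  have hexp := congrFun (classFunction_eq_sum
    (Cfsg.Agent.Lib.Helper10.isClassFunction_indFun NH (rho H))) x
  simp only [Finset.sum_apply, Pi.smul_apply, smul_eq_mul] at hexp
  rw [hexp]
  rfl

end defs

namespace ZSetup

variable {G : Type*} {Ω : Type*} [Group G] [Fintype G] [MulAction G Ω] [Fintype Ω] {a b : Ω}
  {H : Subgroup G} {h e : ℕ}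
  [Fintype ↥(Subgroup.normalizer (H : Set G))]
  [Fintype (IrrCharacter ↥(Subgroup.normalizer (H : Set G)))]
  [Fintype (IrrCharacter G)]

local notation "NH" => Subgroup.normalizer (H : Set G)
local notation "KH" => H.subgroupOf (Subgroup.normalizer (H : Set G))

theorem index_normalizer (S : ZSetup G Ω a b H h e) : (NH).index = h + 1 := by
  have h1 := Subgroup.card_mul_index NH
  rw [S.card_normalizer, S.card_G] at h1
  have hpos : 0 < h * e := by
    have := S.h_ge
    have := S.e_ge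
    positivity
  have h2 : h * e * (NH).index = h * e * (h + 1) := by rw [h1]; ring
  exact Nat.eq_of_mul_eq_mul_left hpos h2

theorem sum_mm_deg (S : ZSetup G Ω a b H h e) :
    ∑ χ : IrrCharacter G, mm H χ * (χ : G → ℂ) 1 = ((h : ℂ) + 1) * (e : ℂ) := by
  rw [sum_mm_mul, Cfsg.Agent.Lib.Helper10.indFun_apply_one_index, S.index_normalizer,
    S.rho_apply_mem (Subgroup.one_mem _)]
  push_cast
  ring

theorem mm_triv : mm H (trivIrr G) = 1 := by
  unfold mm
  rw [frobenius_reciprocity NH (rho H)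
    (IsCharacter.isClassFunction (IsIrrCharacter.isCharacter (trivIrr G).2))]
  have : (fun x : NH => ((trivIrr G : IrrCharacter G) : G → ℂ) x) =
      ((trivIrr NH : IrrCharacter NH) : NH → ℂ) := rfl
  rw [this, classInner_rho_irr, if_pos (triv_mem_inKer KH)]

open Classical in
theorem mm_theta (S : ZSetup G Ω a b H h e) : mm H S.theta = 1 := by
  rw [mm_eq]
  have h1 : ∀ ξ ∈ inKer KH, (mlt H S.theta ξ : ℂ) = if ξ = trivIrr NH then 1 else 0 := by
    intro ξ hξ
    by_cases hξ1 : ξ = trivIrr NH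
    · rw [if_pos hξ1, hξ1, ← mlt_spec', S.classInner_resN_theta_triv]
    · rw [if_neg hξ1, ← mlt_spec']
      have hrec := frobenius_reciprocity NH (ξ : NH → ℂ)
        (IsCharacter.isClassFunction (IsIrrCharacter.isCharacter S.theta.2))
      have hrec' : classInner (ξ : NH → ℂ) (resN H (S.theta : G → ℂ)) =
          classInner (indFun NH (ξ : NH → ℂ)) (S.theta : G → ℂ) := hrec.symm
      rw [hrec']
      obtain ⟨hirr, -, hdeg⟩ := S.ind_inKer hξ hξ1
      have h2 := classInner_irr' (⟨indFun NH (ξ : NH → ℂ), hirr⟩ : IrrCharacter G) S.theta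
      rw [if_neg] at h2
      · exact h2
      · intro heq
        have h3 := S.theta_one
        rw [← heq] at h3
        have h4 : indFun NH (ξ : NH → ℂ) 1 = (h : ℂ) := h3
        rw [hdeg] at h4
        have : (h : ℂ) + 1 - h = 0 := by rw [h4]; ring
        norm_num at this
  rw [Finset.sum_congr rfl h1, Finset.sum_ite_eq' (inKer KH) (trivIrr NH) (fun _ => (1 : ℂ)),
    if_pos (triv_mem_inKer KH)]

theorem mm_third (S : ZSetup G Ω a b H h e) {χ : IrrCharacter G} (hχ : χ ∈ prin H)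
    (h1 : χ ≠ trivIrr G) (h2 : χ ≠ S.theta) : mm H χ = 2 := by
  obtain ⟨hdeg, hval⟩ := S.third_of_mem_prin hχ h1 h2
  have htwo := S.sum_inKer_eq_two χ hdeg hval
  rw [mm_eq, ← htwo]
  apply Finset.sum_congr rfl
  intro ξ hξ
  rw [mlt_spec, S.inKer_linear hξ, mul_one]

/-- the number of principal series characters -/
theorem card_third (S : ZSetup G Ω a b H h e) :
    2 * (((prin H).erase (trivIrr G)).erase S.theta).card + 1 = e := by
  classical
  have h1 := S.sum_mm_deg
  rw [sum_prin_add_sum_dsc H] at h1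
  have h2 : ∑ χ ∈ dsc H, mm H χ * (χ : G → ℂ) 1 = 0 := by
    apply Finset.sum_eq_zero
    intro χ hχ
    rw [mm_of_mem_dsc H hχ, zero_mul]
  have hθmem : S.theta ∈ (prin H).erase (trivIrr G) :=
    Finset.mem_erase.mpr ⟨S.theta_ne_triv, S.theta_mem_prin⟩
  rw [h2, add_zero, ← Finset.add_sum_erase _ _ (triv_mem_prin (H := H)),
    ← Finset.add_sum_erase _ _ hθmem, mm_triv (H := H), S.mm_theta, S.theta_one] at h1
  have h3 : ∑ χ ∈ ((prin H).erase (trivIrr G)).erase S.theta, mm H χ * (χ : G → ℂ) 1 =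
      ((((prin H).erase (trivIrr G)).erase S.theta).card : ℂ) * (2 * ((h : ℂ) + 1)) := by
    rw [Finset.sum_congr rfl (g := fun _ => 2 * ((h : ℂ) + 1)), Finset.sum_const, nsmul_eq_mul]
    intro χ hχ
    rw [Finset.mem_erase, Finset.mem_erase] at hχ
    obtain ⟨hθ, ht, hp⟩ := hχ
    rw [S.mm_third hp ht hθ, (S.third_of_mem_prin hp ht hθ).1]
  rw [h3] at h1
  have h4 : ((trivIrr G : IrrCharacter G) : G → ℂ) 1 = 1 := rfl
  rw [h4] at h1
  set t := (((prin H).erase (trivIrr G)).erase S.theta).card with ht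
  have hh : ((h : ℂ) + 1) ≠ 0 := by
    have : ((h + 1 : ℕ) : ℂ) ≠ 0 := by exact_mod_cast Nat.succ_ne_zero h
    simpa using this
  have h5 : ((h : ℂ) + 1) * ((2 * t + 1 : ℕ) : ℂ) = ((h : ℂ) + 1) * (e : ℂ) := by
    push_cast
    linear_combination h1
  have h6 := mul_left_cancel₀ hh h5
  exact_mod_cast h6

/-- the Gram relations of the multiplicity vectors on the discrete characters -/
theorem gram_dsc (S : ZSetup G Ω a b H h e) {ψ φ : IrrCharacter NH} (hψ : ψ ∈ exc KH)
    (hφ : φ ∈ exc KH) (n m : ℕ)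
    (hn : (ψ : NH → ℂ) 1 = (((KH).index * n : ℕ) : ℂ))
    (hm : (φ : NH → ℂ) 1 = (((KH).index * m : ℕ) : ℂ)) :
    2 * ∑ χ ∈ dsc H, ((mlt H χ ψ : ℤ) * (mlt H χ φ : ℤ)) =
      2 * (if ψ = φ then 1 else 0) + (n : ℤ) * (m : ℤ) * ((e : ℤ) - 1) := by
  classical
  have h1 := S.gram_total hψ hφ n m hm
  rw [sum_prin_add_sum_dsc H] at h1
  have hθmem : S.theta ∈ (prin H).erase (trivIrr G) :=
    Finset.mem_erase.mpr ⟨S.theta_ne_triv, S.theta_mem_prin⟩
  rw [← Finset.add_sum_erase _ _ (triv_mem_prin (H := H)),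
    ← Finset.add_sum_erase _ _ hθmem, S.cf_triv hψ n hn, S.cf_triv hφ m hm,
    S.cf_theta hψ n hn, S.cf_theta hφ m hm] at h1
  have h3 : ∑ χ ∈ ((prin H).erase (trivIrr G)).erase S.theta, cf H ψ n χ * conj (cf H φ m χ) =
      ((((prin H).erase (trivIrr G)).erase S.theta).card : ℂ) * ((n : ℂ) * (m : ℂ)) := by
    rw [Finset.sum_congr rfl (g := fun _ => (n : ℂ) * (m : ℂ)), Finset.sum_const, nsmul_eq_mul]
    intro χ hχ
    rw [Finset.mem_erase, Finset.mem_erase] at hχ
    obtain ⟨hθ, ht, hp⟩ := hχ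
    rw [S.cf_third hψ n hn hp ht hθ, S.cf_third hφ m hm hp ht hθ]
    simp only [map_neg, Complex.conj_natCast]
    ring
  have h4 : ∑ χ ∈ dsc H, cf H ψ n χ * conj (cf H φ m χ) =
      ((∑ χ ∈ dsc H, ((mlt H χ ψ : ℤ) * (mlt H χ φ : ℤ)) : ℤ) : ℂ) := by
    push_cast
    apply Finset.sum_congr rfl
    intro χ hχ
    rw [cf_of_mem_dsc H ψ n hχ, cf_of_mem_dsc H φ m hχ, Complex.conj_natCast]
  rw [h3, h4] at h1
  have hcard := S.card_third
  set t := (((prin H).erase (trivIrr G)).erase S.theta).card with ht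
  have he : (e : ℂ) = 2 * (t : ℂ) + 1 := by
    rw [← hcard]; push_cast; ring
  set sd : ℤ := ∑ χ ∈ dsc H, ((mlt H χ ψ : ℤ) * (mlt H χ φ : ℤ)) with hsd
  have h5 : ((2 * sd : ℤ) : ℂ) =
      ((2 * (if ψ = φ then 1 else 0) + (n : ℤ) * (m : ℤ) * ((e : ℤ) - 1) : ℤ) : ℂ) := by
    by_cases heq : ψ = φ
    · rw [if_pos heq] at h1 ⊢
      push_cast
      simp only [map_neg, Complex.conj_natCast, map_zero, mul_zero] at h1
      rw [he] at h1 ⊢
      linear_combination 2 * h1
    · rw [if_neg heq] at h1 ⊢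
      push_cast
      simp only [map_neg, Complex.conj_natCast, map_zero, mul_zero] at h1
      rw [he] at h1 ⊢
      linear_combination 2 * h1
  exact_mod_cast h5

end ZSetup

end Cfsg.Agent.Lib.Helper23.ZF
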