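import Mathlib

set_option autoImplicit false

namespace Cfsg.Agent.Lib.Helper23.CTI

/-- the size estimate: `Δ (q+1) |2Δ + c| < y` -/
theorem killNT_size (q Δ c : ℤ) (hq : 4 ≤ q) (hΔ : 1 ≤ Δ) (hΔq : 2 * Δ ^ 2 ≤ q - 2)
    (hc : c ^ 2 ≤ q) (hne : 2 * Δ + c ≠ 0) :
    Δ * (q + 1) * |2 * Δ + c| < (q ^ 2 + q + 1) * Δ + q * c := by
  have h3 : |c| * |c| = c ^ 2 := by rw [abs_mul_abs_self]; ring
  have hc2 : 2 * |c| ≤ q := by
    by_contra hcon
    push Not at hcon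
    have h1 : q < 2 * |c| := hcon
    have h2 : q * q < (2 * |c|) * (2 * |c|) := by
      apply mul_lt_mul'' h1 h1 (by linarith) (by linarith)
    nlinarith
  have hcle : c ≤ |c| := le_abs_self c
  have hcge : -|c| ≤ c := neg_abs_le c
  have habs0 : 0 ≤ |c| := abs_nonneg c
  rcases lt_or_gt_of_ne hne with hneg | hpos
  · -- 2Δ + c < 0
    rw [abs_of_neg hneg]
    nlinarith [mul_nonneg (by linarith : (0:ℤ) ≤ Δ - 1) (by linarith : (0:ℤ) ≤ q - 2 * |c|),
      mul_pos (by linarith : (0:ℤ) < Δ) (by linarith : (0:ℤ) < q)]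
  · rw [abs_of_pos hpos]
    nlinarith [mul_nonneg (by linarith : (0:ℤ) ≤ Δ - 1) (by linarith : (0:ℤ) ≤ q - 2 * |c|),
      mul_pos (by linarith : (0:ℤ) < Δ) (by linarith : (0:ℤ) < q),
      mul_nonneg (by linarith : (0:ℤ) ≤ Δ - 1) (by linarith : (0:ℤ) ≤ q)]

end Cfsg.Agent.Lib.Helper23.CTI

namespace Cfsg.Agent.Lib.Helper23.CTI

/-- **the number-theoretic core of the kill**: a degree of the shape
`(q-1)((q²+q+1)Δ + qc)` with `Δ ≥ 1` small and `|c| ≤ √q` divides `q³(q³+1)(q-1)` only for `c = -2Δ` -/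
theorem killNT (n : ℕ) (hn : 2 ≤ n) (Δ c : ℤ) (hΔ : 1 ≤ Δ) (hΔq : 2 * Δ ^ 2 ≤ 2 ^ n - 2)
    (hc : c ^ 2 ≤ 2 ^ n)
    (hdvd : ((2 ^ n) ^ 2 + 2 ^ n + 1) * Δ + 2 ^ n * c ∣ ((2:ℤ) ^ n) ^ 3 * (((2:ℤ) ^ n) ^ 3 + 1)) :
    c = -2 * Δ := by
  set q : ℤ := 2 ^ n with hq
  have hq4 : 4 ≤ q := by
    rw [hq]
    calc (4:ℤ) = 2 ^ 2 := by norm_num
      _ ≤ 2 ^ n := pow_le_pow_right₀ (by norm_num) hn
  by_contra hcon
  have hne : 2 * Δ + c ≠ 0 := by
    intro h0
    apply hcon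
    linarith
  have hsize := killNT_size q Δ c hq4 hΔ hΔq hc hne
  set y : ℤ := (q ^ 2 + q + 1) * Δ + q * c with hy
  -- 2-adic splitting of Δ
  have hΔnat : Δ = (Δ.natAbs : ℤ) := by
    rw [Int.natAbs_of_nonneg (by linarith)]
  obtain ⟨a, m, hm, ham⟩ := Nat.exists_eq_two_pow_mul_odd (n := Δ.natAbs) (by
    intro h0
    rw [h0] at hΔnat
    simp at hΔnat
    linarith)
  have hΔam : Δ = 2 ^ a * (m : ℤ) := by
    rw [hΔnat, ham]; push_cast; ring
  have hm1 : (1 : ℤ) ≤ m := by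
    have := hm.pos
    exact_mod_cast this
  have h2a : (2:ℤ) ^ a ≤ Δ := by
    rw [hΔam]
    nlinarith [pow_pos (by norm_num : (0:ℤ) < 2) a]
  have hΔltq : Δ < q := by nlinarith
  have han : a < n := by
    by_contra hna
    push Not at hna
    have : (2:ℤ) ^ n ≤ 2 ^ a := pow_le_pow_right₀ (by norm_num) hna
    linarith
  obtain ⟨k, hk⟩ := Nat.exists_eq_add_of_lt han
  -- n = a + k + 1
  have hqak : q = 2 ^ a * (2 * 2 ^ k) := by
    rw [hq, hk]; ring
  set y' : ℤ := (m : ℤ) * (q ^ 2 + q + 1) + 2 * 2 ^ k * c with hy'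
  have hyy' : y = 2 ^ a * y' := by
    rw [hy, hy', hΔam]
    have : q * c = 2 ^ a * (2 * 2 ^ k * c) := by rw [hqak]; ring
    rw [this]; ring
  have hqeven : Even q := by
    rw [hqak]
    exact ⟨2 ^ a * 2 ^ k, by ring⟩
  have hy'odd : Odd y' := by
    rw [hy']
    apply Odd.add_even
    · apply Odd.mul
      · exact_mod_cast hm
      · have h1 : Even (q ^ 2 + q) := Even.add ((Int.even_pow' (by norm_num)).mpr hqeven) hqeven
        exact Even.add_one h1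
    · exact ⟨2 ^ k * c, by ring⟩
  have hy'dvdy : y' ∣ y := ⟨2 ^ a, by rw [hyy']; ring⟩
  have hcop : IsCoprime y' q := by
    rw [hq]
    apply IsCoprime.pow_right
    rw [Int.isCoprime_iff_gcd_eq_one]
    have := Int.not_even_iff_odd.mpr hy'odd
    rw [even_iff_two_dvd] at this
    have h2 : Nat.Prime 2 := Nat.prime_two
    have hg : Int.gcd y' 2 ∣ 2 := Int.gcd_dvd_natAbs_right y' 2
    rcases (Nat.dvd_prime h2).mp hg with h1 | h1
    · exact h1
    · exfalso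
      apply this
      have := Int.gcd_dvd_left y' 2
      rw [h1] at this
      exact_mod_cast this
  have hdvd1 : y' ∣ q ^ 3 + 1 := by
    have h1 : y' ∣ q ^ 3 * (q ^ 3 + 1) := hy'dvdy.trans hdvd
    exact (IsCoprime.pow_right hcop).dvd_of_dvd_mul_left h1
  have hident : (q + 1) * y = Δ * (q ^ 3 + 1) + q * ((q + 1) * (2 * Δ + c)) := by
    rw [hy]; ring
  have hdvd2 : y' ∣ q * ((q + 1) * (2 * Δ + c)) := by
    have h1 : y' ∣ (q + 1) * y := Dvd.dvd.mul_left hy'dvdy _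
    have h2 : y' ∣ Δ * (q ^ 3 + 1) := Dvd.dvd.mul_left hdvd1 _
    rw [hident] at h1
    exact (Int.dvd_add_right h2).mp h1
  have hdvd3 : y' ∣ (q + 1) * (2 * Δ + c) := hcop.dvd_of_dvd_mul_left hdvd2
  have hypos : 0 < y := by
    have : 0 ≤ Δ * (q + 1) * |2 * Δ + c| := by positivity
    linarith
  have hy'pos : 0 < y' := by
    by_contra hle
    push Not at hle
    have : y ≤ 0 := by
      rw [hyy']
      exact mul_nonpos_of_nonneg_of_nonpos (by positivity) hle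
    linarith
  have hne2 : (q + 1) * (2 * Δ + c) ≠ 0 := by
    apply mul_ne_zero
    · linarith
    · exact hne
  have hle : y' ≤ |(q + 1) * (2 * Δ + c)| := by
    have := Int.le_of_dvd (abs_pos.mpr hne2) ((dvd_abs _ _).mpr hdvd3)
    exact this
  rw [abs_mul, abs_of_pos (by linarith : (0:ℤ) < q + 1)] at hle
  have : y ≤ Δ * (q + 1) * |2 * Δ + c| := by
    rw [hyy']
    calc 2 ^ a * y' ≤ Δ * y' := by
          apply mul_le_mul_of_nonneg_right h2a hy'pos.le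
      _ ≤ Δ * ((q + 1) * |2 * Δ + c|) := by
          apply mul_le_mul_of_nonneg_left hle (by linarith)
      _ = Δ * (q + 1) * |2 * Δ + c| := by ring
  linarith

end Cfsg.Agent.Lib.Helper23.CTI
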