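import Mathlib
import Cfsg.Agent.Lib.Helper23.CTIKillNT

set_option autoImplicit false

namespace Cfsg.Agent.Lib.Helper23.CTI

open Finset


/-- an integer vector of norm 2 orthogonal to a positive vector is `e_p - e_r` -/
theorem norm_two_structure {ι : Type*} [DecidableEq ι] (I : Finset ι) (d y : ι → ℤ) (hy : ∀ χ ∈ I, 0 < y χ)
    (h2 : ∑ χ ∈ I, d χ ^ 2 = 2) (h0 : ∑ χ ∈ I, y χ * d χ = 0) :
    ∃ p ∈ I, ∃ r ∈ I, p ≠ r ∧ d p = 1 ∧ d r = -1 ∧ ∀ χ ∈ I, χ ≠ p → χ ≠ r → d χ = 0 := by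
  classical
  set S := I.filter (fun χ => d χ ≠ 0) with hS
  have hsumS : ∑ χ ∈ S, d χ ^ 2 = 2 := by
    rw [← h2, hS, Finset.sum_filter]
    apply Finset.sum_congr rfl
    intro χ _
    by_cases h : d χ = 0
    · simp [h]
    · simp [h]
  have hge : ∀ χ ∈ S, 1 ≤ d χ ^ 2 := by
    intro χ hχ
    have : d χ ≠ 0 := (Finset.mem_filter.mp hχ).2
    have h1 : 0 < d χ ^ 2 := by positivity
    linarith
  have hcard : (S.card : ℤ) ≤ 2 := by
    have : ∑ χ ∈ S, (1 : ℤ) ≤ ∑ χ ∈ S, d χ ^ 2 := Finset.sum_le_sum hge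
    simp at this
    linarith
  have hcard' : S.card ≤ 2 := by exact_mod_cast hcard
  have hsumyS : ∑ χ ∈ S, y χ * d χ = 0 := by
    rw [← h0, hS, Finset.sum_filter]
    apply Finset.sum_congr rfl
    intro χ _
    by_cases h : d χ = 0
    · simp [h]
    · simp [h]
  interval_cases hc : S.card
  · rw [Finset.card_eq_zero] at hc
    rw [hc] at hsumS
    simp at hsumS
  · rw [Finset.card_eq_one] at hc
    obtain ⟨p, hp⟩ := hc
    rw [hp, Finset.sum_singleton] at hsumS
    exfalso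
    have h1 : d p ^ 2 = 2 := hsumS
    have h3 : |d p| < 2 := by
      by_contra hcon
      push Not at hcon
      have : 4 ≤ d p ^ 2 := by
        have := abs_mul_abs_self (d p)
        nlinarith [abs_nonneg (d p)]
      linarith
    have h4 : -2 < d p ∧ d p < 2 := abs_lt.mp h3
    obtain ⟨h5, h6⟩ := h4
    interval_cases d p <;> omega
  · rw [Finset.card_eq_two] at hc
    obtain ⟨p, r, hpr, hSpr⟩ := hc
    rw [hSpr, Finset.sum_pair hpr] at hsumS hsumyS
    have hpS : p ∈ S := by rw [hSpr]; simp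
    have hrS : r ∈ S := by rw [hSpr]; simp
    have hp1 := hge p hpS
    have hr1 := hge r hrS
    have hp2 : d p ^ 2 = 1 := by linarith
    have hr2 : d r ^ 2 = 1 := by linarith
    have hpI : p ∈ I := (Finset.mem_filter.mp hpS).1
    have hrI : r ∈ I := (Finset.mem_filter.mp hrS).1
    have hyp := hy p hpI
    have hyr := hy r hrI
    have hother : ∀ χ ∈ I, χ ≠ p → χ ≠ r → d χ = 0 := by
      intro χ hχ h1 h2
      by_contra hne
      have : χ ∈ S := Finset.mem_filter.mpr ⟨hχ, hne⟩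
      rw [hSpr] at this
      simp at this
      rcases this with h | h
      · exact h1 h
      · exact h2 h
    have hp3 : d p = 1 ∨ d p = -1 := by
      have : (d p - 1) * (d p + 1) = 0 := by ring_nf; linarith
      rcases mul_eq_zero.mp this with h | h
      · left; linarith
      · right; linarith
    have hr3 : d r = 1 ∨ d r = -1 := by
      have : (d r - 1) * (d r + 1) = 0 := by ring_nf; linarith
      rcases mul_eq_zero.mp this with h | h
      · left; linarith
      · right; linarith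
    rcases hp3 with hp3 | hp3 <;> rcases hr3 with hr3 | hr3
    · rw [hp3, hr3] at hsumyS; linarith
    · exact ⟨p, hpI, r, hrI, hpr, hp3, hr3, hother⟩
    · exact ⟨r, hrI, p, hpI, hpr.symm, hr3, hp3, fun χ hχ h1 h2 => hother χ hχ h2 h1⟩
    · rw [hp3, hr3] at hsumyS; linarith

/-- an integer vector of norm 2 orthogonal to a positive vector is `e_p - e_r` -/
theorem norm_two_structure' {ι : Type*} [Fintype ι] [DecidableEq ι] (d y : ι → ℤ) (hy : ∀ χ, 0 < y χ)
    (h2 : ∑ χ, d χ ^ 2 = 2) (h0 : ∑ χ, y χ * d χ = 0) :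
    ∃ p r : ι, p ≠ r ∧ d p = 1 ∧ d r = -1 ∧ ∀ χ, χ ≠ p → χ ≠ r → d χ = 0 := by
  obtain ⟨p, -, r, -, h1, h2', h3, h4⟩ := norm_two_structure Finset.univ d y (fun χ _ => hy χ) h2 h0
  exact ⟨p, r, h1, h2', h3, fun χ hp hr => h4 χ (Finset.mem_univ χ) hp hr⟩

section sunflower

variable {ι κ : Type*} [Fintype ι] [DecidableEq ι] [Fintype κ] [DecidableEq κ]
  (a : κ → ι → ℤ) (y : ι → ℤ) (u : ℤ)

/-- the sunflower structure of `q+1` nonnegative integer vectors with Gram matrix `1 + u J` -/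
theorem sunflower (hT : 4 ≤ Fintype.card κ) (hy : ∀ χ, 0 < y χ) (ha0 : ∀ ℓ χ, 0 ≤ a ℓ χ)
    (G1 : ∀ ℓ m, ∑ χ, a ℓ χ * a m χ = (if ℓ = m then 1 else 0) + u)
    (hyA : ∀ ℓ m, ∑ χ, y χ * a ℓ χ = ∑ χ, y χ * a m χ)
    (hbig : 1 + u < (Fintype.card κ : ℤ) - 1) :
    ∃ (X : κ → ι) (Δ : ι → ℤ), Function.Injective X ∧ (∀ χ, 0 ≤ Δ χ) ∧
      ∀ ℓ χ, a ℓ χ = Δ χ + (if χ = X ℓ then 1 else 0) := by
  classical
  -- base index
  have hne : Nonempty κ := by
    rw [← Fintype.card_pos_iff]; omega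
  obtain ⟨o⟩ := hne
  -- differences
  have hd2 : ∀ m, m ≠ o → ∑ χ, (a o χ - a m χ) ^ 2 = 2 := by
    intro m hm
    have h1 := G1 o o
    have h2 := G1 o m
    have h3 := G1 m m
    rw [if_pos rfl] at h1 h3
    rw [if_neg (Ne.symm hm)] at h2
    have : ∀ χ, (a o χ - a m χ) ^ 2 = a o χ * a o χ - 2 * (a o χ * a m χ) + a m χ * a m χ := by
      intro χ; ring
    simp only [this, Finset.sum_add_distrib, Finset.sum_sub_distrib, ← Finset.mul_sum]
    linarith
  have hd0 : ∀ m, ∑ χ, y χ * (a o χ - a m χ) = 0 := by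
    intro m
    have := hyA o m
    simp only [mul_sub, Finset.sum_sub_distrib]
    linarith
  have hex : ∀ m, m ≠ o → ∃ p r : ι, p ≠ r ∧ a o p - a m p = 1 ∧ a o r - a m r = -1 ∧
      ∀ χ, χ ≠ p → χ ≠ r → a o χ - a m χ = 0 := by
    intro m hm
    exact norm_two_structure' (fun χ => a o χ - a m χ) y hy (hd2 m hm) (hd0 m)
  -- choose with a default for `m = o`
  have hex' : ∀ m, ∃ p r : ι, m ≠ o → (p ≠ r ∧ a o p - a m p = 1 ∧ a o r - a m r = -1 ∧
      ∀ χ, χ ≠ p → χ ≠ r → a o χ - a m χ = 0) := by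
    intro m
    by_cases hm : m = o
    · have : Nonempty ι := by
        by_contra hemp
        rw [not_nonempty_iff] at hemp
        have := G1 o o
        rw [if_pos rfl] at this
        simp at this
        have h2 := G1 o o
        obtain ⟨m', hm'⟩ : ∃ m', m' ≠ o := by
          by_contra hall
          push Not at hall
          have : Fintype.card κ ≤ 1 := Fintype.card_le_one_iff.mpr (fun x y => by rw [hall x, hall y])
          omega
        have h3 := G1 o m'
        rw [if_neg (Ne.symm hm')] at h3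
        simp at h3
        linarith
      obtain ⟨x⟩ := this
      exact ⟨x, x, fun h => absurd hm h⟩
    · obtain ⟨p, r, h⟩ := hex m hm
      exact ⟨p, r, fun _ => h⟩
  choose p r hpr using hex'
  -- inner products of differences
  have hdd : ∀ m n, m ≠ o → n ≠ o → m ≠ n →
      ∑ χ, (a o χ - a m χ) * (a o χ - a n χ) = 1 := by
    intro m n hm hn hmn
    have h1 := G1 o o
    have h2 := G1 o n
    have h3 := G1 m o
    have h4 := G1 m n
    rw [if_pos rfl] at h1
    rw [if_neg (Ne.symm hn)] at h2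
    rw [if_neg hm] at h3
    rw [if_neg hmn] at h4
    have : ∀ χ, (a o χ - a m χ) * (a o χ - a n χ) =
        a o χ * a o χ - a o χ * a n χ - a m χ * a o χ + a m χ * a n χ := by
      intro χ; ring
    simp only [this, Finset.sum_add_distrib, Finset.sum_sub_distrib]
    linarith
  -- the sum against `d_m` only sees `p m`, `r m`
  have hsupp : ∀ m, m ≠ o → ∀ f : ι → ℤ,
      ∑ χ, (a o χ - a m χ) * f χ = f (p m) - f (r m) := by
    intro m hm f
    obtain ⟨h1, h2, h3, h4⟩ := hpr m hm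
    rw [← Finset.sum_subset (Finset.subset_univ {p m, r m})]
    · rw [Finset.sum_pair h1, h2, h3]; ring
    · intro χ _ hχ
      simp only [Finset.mem_insert, Finset.mem_singleton, not_or] at hχ
      rw [h4 χ hχ.1 hχ.2, zero_mul]
  -- values of `d_n`
  have hval : ∀ n, n ≠ o → ∀ χ, a o χ - a n χ = (if χ = p n then 1 else 0) - (if χ = r n then 1 else 0) := by
    intro n hn χ
    obtain ⟨h1, h2, h3, h4⟩ := hpr n hn
    by_cases hp : χ = p n
    · rw [if_pos hp, if_neg (by rw [hp]; exact h1), hp, h2]; ring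
    · by_cases hr : χ = r n
      · rw [if_neg hp, if_pos hr, hr, h3]; ring
      · rw [if_neg hp, if_neg hr, h4 χ hp hr]; ring
  -- dichotomy for pairs
  have hdich : ∀ m n, m ≠ o → n ≠ o → m ≠ n →
      (p m = p n ∧ r m ≠ r n) ∨ (r m = r n ∧ p m ≠ p n) := by
    intro m n hm hn hmn
    have h := hdd m n hm hn hmn
    rw [hsupp m hm] at h
    rw [hval n hn (p m), hval n hn (r m)] at h
    obtain ⟨h1, -, -, -⟩ := hpr m hm
    obtain ⟨h1', -, -, -⟩ := hpr n hn
    by_cases e1 : p m = p n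
    · left
      refine ⟨e1, ?_⟩
      intro e2
      have e3 : p m ≠ r n := by rw [e1]; exact h1'
      have e4 : r m ≠ p n := by rw [← e1]; exact h1.symm
      rw [if_pos e1, if_neg e3, if_neg e4, if_pos e2] at h
      omega
    · right
      refine ⟨?_, e1⟩
      by_contra e2
      rw [if_neg e1, if_neg e2] at h
      by_cases e3 : p m = r n <;> by_cases e4 : r m = p n <;> simp [e3, e4] at h
  -- propagation lemma
  have hL : ∀ m n k, m ≠ o → n ≠ o → k ≠ o → m ≠ n → m ≠ k → n ≠ k → p m = p n → p m = p k := by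
    intro m n k hm hn hk hmn hmk hnk hA
    by_contra hB
    rcases hdich m n hm hn hmn with ⟨-, h1⟩ | ⟨-, h1⟩
    · rcases hdich m k hm hk hmk with ⟨h2, -⟩ | ⟨h2, -⟩
      · exact hB h2
      · rcases hdich n k hn hk hnk with ⟨h3, -⟩ | ⟨h3, -⟩
        · exact hB (hA.trans h3)
        · exact h1 (h2.trans h3.symm)
    · exact h1 hA
  -- if one pair shares its `p`, all do
  have hall : ∀ x y, x ≠ o → y ≠ o → x ≠ y → p x = p y → ∀ z, z ≠ o → p z = p x := by
    intro x y hx hy hxy hA z hz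
    by_cases hzx : z = x
    · rw [hzx]
    · by_cases hzy : z = y
      · rw [hzy, hA]
      · exact (hL x y z hx hy hz hxy (Ne.symm hzx) (Ne.symm hzy) hA).symm
  -- three distinct non-base indices
  have hcard3 : 3 ≤ (Finset.univ.erase o : Finset κ).card := by
    rw [Finset.card_erase_of_mem (Finset.mem_univ o), Finset.card_univ]; omega
  obtain ⟨m₀, hm₀, n₀, hn₀, hmn₀⟩ : ∃ m₀ ∈ (Finset.univ.erase o : Finset κ),
      ∃ n₀ ∈ (Finset.univ.erase o : Finset κ), m₀ ≠ n₀ := by
    have h1 : 1 < (Finset.univ.erase o : Finset κ).card := by omega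
    obtain ⟨x, hx, y, hy, hxy⟩ := Finset.one_lt_card.mp h1
    exact ⟨x, hx, y, hy, hxy⟩
  have hm₀o : m₀ ≠ o := (Finset.mem_erase.mp hm₀).1
  have hn₀o : n₀ ≠ o := (Finset.mem_erase.mp hn₀).1
  by_cases hA₀ : p m₀ = p n₀
  · -- type I
    have hP : ∀ z, z ≠ o → p z = p m₀ := hall m₀ n₀ hm₀o hn₀o hmn₀ hA₀
    have hrinj : ∀ x y, x ≠ o → y ≠ o → x ≠ y → r x ≠ r y := by
      intro x y hx hy hxy
      rcases hdich x y hx hy hxy with ⟨-, h⟩ | ⟨-, h⟩
      · exact h
      · exact absurd ((hP x hx).trans (hP y hy).symm) h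
    refine ⟨fun ℓ => if ℓ = o then p m₀ else r ℓ,
      fun χ => a o χ - (if χ = p m₀ then 1 else 0), ?_, ?_, ?_⟩
    · intro x y hxy
      simp only at hxy
      by_cases hx : x = o
      · by_cases hy : y = o
        · rw [hx, hy]
        · exfalso
          rw [if_pos hx, if_neg hy] at hxy
          obtain ⟨h1, -, -, -⟩ := hpr y hy
          rw [hP y hy] at h1
          exact h1 hxy
      · by_cases hy : y = o
        · exfalso
          rw [if_neg hx, if_pos hy] at hxy
          obtain ⟨h1, -, -, -⟩ := hpr x hx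
          rw [hP x hx] at h1
          exact h1 hxy.symm
        · rw [if_neg hx, if_neg hy] at hxy
          by_contra hne
          exact hrinj x y hx hy hne hxy
    · intro χ
      show 0 ≤ a o χ - (if χ = p m₀ then 1 else 0)
      by_cases hχ : χ = p m₀
      · rw [if_pos hχ, hχ]
        have h1 := hval m₀ hm₀o (p m₀)
        obtain ⟨h2, -, -, -⟩ := hpr m₀ hm₀o
        rw [if_pos rfl, if_neg h2] at h1
        have := ha0 m₀ (p m₀)
        linarith
      · rw [if_neg hχ]
        have := ha0 o χ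
        linarith
    · intro ℓ χ
      show a ℓ χ = (a o χ - (if χ = p m₀ then 1 else 0)) +
        (if χ = (if ℓ = o then p m₀ else r ℓ) then 1 else 0)
      by_cases hℓ : ℓ = o
      · simp only [hℓ, if_true]
        ring
      · simp only [if_neg hℓ]
        have h1 := hval ℓ hℓ χ
        rw [hP ℓ hℓ] at h1
        linarith
  · -- type II is impossible
    exfalso
    have hpinj : ∀ x y, x ≠ o → y ≠ o → x ≠ y → p x ≠ p y := by
      intro x y hx hy hxy hA
      have h1 := hall x y hx hy hxy hA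
      exact hA₀ ((h1 m₀ hm₀o).trans (h1 n₀ hn₀o).symm)
    have hge1 : ∀ m, m ≠ o → 1 ≤ a o (p m) := by
      intro m hm
      obtain ⟨-, h2, -, -⟩ := hpr m hm
      have := ha0 m (p m)
      linarith
    have hsum := G1 o o
    rw [if_pos rfl] at hsum
    have hinj : Set.InjOn p ((Finset.univ.erase o : Finset κ) : Set κ) := by
      intro x hx y hy hxy
      by_contra hne
      exact hpinj x y (Finset.mem_erase.mp hx).1 (Finset.mem_erase.mp hy).1 hne hxy
    have h1 : ∑ χ ∈ (Finset.univ.erase o).image p, a o χ * a o χ ≤ ∑ χ, a o χ * a o χ := by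
      apply Finset.sum_le_sum_of_subset_of_nonneg (Finset.subset_univ _)
      intro χ _ _
      exact mul_self_nonneg _
    rw [Finset.sum_image hinj] at h1
    have h2 : ∑ m ∈ (Finset.univ.erase o : Finset κ), (1 : ℤ) ≤
        ∑ m ∈ (Finset.univ.erase o : Finset κ), a o (p m) * a o (p m) := by
      apply Finset.sum_le_sum
      intro m hm
      have := hge1 m (Finset.mem_erase.mp hm).1
      nlinarith
    simp only [Finset.sum_const, mul_one, nsmul_eq_mul] at h2
    rw [Finset.card_erase_of_mem (Finset.mem_univ o), Finset.card_univ] at h2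
    have h3 : ((Fintype.card κ - 1 : ℕ) : ℤ) = (Fintype.card κ : ℤ) - 1 := by
      have : 1 ≤ Fintype.card κ := by omega
      push_cast [Nat.cast_sub this]
      ring
    rw [h3] at h2
    linarith

end sunflower

section core

variable {ι κ : Type*} [Fintype ι] [DecidableEq ι] [Fintype κ] [DecidableEq κ]

/-- the combinatorial core of the kill: the Gram relations of the multiplicity vectors of the
`q + 1` exceptional characters of degree `q - 1` and of the one of degree `q (q - 1)` are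
incompatible with the divisibility of the order by the degrees -/
theorem killComb (n : ℕ) (hn : 2 ≤ n) (a : κ → ι → ℤ) (b : ι → ℤ) (u : ℤ)
    (hu : 2 * u = 2 ^ n - 2) (hκ : Fintype.card κ = 2 ^ n + 1)
    (ha0 : ∀ ℓ χ, 0 ≤ a ℓ χ) (hb1 : ∀ χ, 1 ≤ b χ)
    (G1 : ∀ ℓ m, ∑ χ, a ℓ χ * a m χ = (if ℓ = m then 1 else 0) + u)
    (G2 : ∀ ℓ, ∑ χ, a ℓ χ * b χ = 2 ^ n * u)
    (G3 : ∑ χ, b χ * b χ = 1 + (2 ^ n) ^ 2 * u)
    (Dv : ∀ χ, (∑ ℓ, a ℓ χ + 2 ^ n * b χ) ∣ ((2:ℤ) ^ n) ^ 3 * (((2:ℤ) ^ n) ^ 3 + 1)) : False := by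
  classical
  set q : ℤ := 2 ^ n with hq
  have hq4 : 4 ≤ q := by
    rw [hq]
    calc (4:ℤ) = 2 ^ 2 := by norm_num
      _ ≤ 2 ^ n := pow_le_pow_right₀ (by norm_num) hn
  have hκ' : (Fintype.card κ : ℤ) = q + 1 := by
    rw [hκ, hq]; push_cast; ring
  have hκ4 : 4 ≤ Fintype.card κ := by
    have : (4:ℤ) ≤ (Fintype.card κ : ℤ) := by rw [hκ']; linarith
    exact_mod_cast this
  obtain ⟨X, Δ, hX, hΔ0, haX⟩ := sunflower a b u hκ4 (fun χ => by linarith [hb1 χ]) ha0 G1
    (fun ℓ m => by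
      have h1 := G2 ℓ
      have h2 := G2 m
      simp only [mul_comm (b _)] 
      rw [h1, h2])
    (by rw [hκ']; linarith)
  -- selection lemma
  have hsel : ∀ (f : ι → ℤ) (x : ι), ∑ χ, f χ * (if χ = x then 1 else 0) = f x := by
    intro f x
    rw [Finset.sum_eq_single x]
    · rw [if_pos rfl, mul_one]
    · intro χ _ hχ
      rw [if_neg hχ, mul_zero]
    · intro h
      exact absurd (Finset.mem_univ x) h
  have hsel2 : ∀ ℓ m : κ, ∑ χ, (if χ = X ℓ then (1:ℤ) else 0) * (if χ = X m then 1 else 0) =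
      if ℓ = m then 1 else 0 := by
    intro ℓ m
    rw [hsel]
    by_cases h : ℓ = m
    · rw [if_pos h, if_pos (by rw [h])]
    · rw [if_neg h, if_neg (fun h' => h (hX h').symm)]
  set S : ℤ := ∑ χ, Δ χ * Δ χ with hS
  have hG1' : ∀ ℓ m, S + Δ (X ℓ) + Δ (X m) + (if ℓ = m then 1 else 0) =
      (if ℓ = m then 1 else 0) + u := by
    intro ℓ m
    rw [← G1 ℓ m]
    have : ∀ χ, a ℓ χ * a m χ = Δ χ * Δ χ + Δ χ * (if χ = X m then 1 else 0) +
        Δ χ * (if χ = X ℓ then 1 else 0) +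
        (if χ = X ℓ then (1:ℤ) else 0) * (if χ = X m then 1 else 0) := by
      intro χ
      rw [haX ℓ χ, haX m χ]; ring
    have e1 : ∑ χ, a ℓ χ * a m χ = ∑ χ, Δ χ * Δ χ + ∑ χ, Δ χ * (if χ = X m then 1 else 0) +
        ∑ χ, Δ χ * (if χ = X ℓ then 1 else 0) +
        ∑ χ, (if χ = X ℓ then (1:ℤ) else 0) * (if χ = X m then 1 else 0) := by
      rw [← Finset.sum_add_distrib, ← Finset.sum_add_distrib, ← Finset.sum_add_distrib]
      exact Finset.sum_congr rfl (fun χ _ => this χ)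
    rw [e1, hsel Δ (X m), hsel Δ (X ℓ), hsel2 ℓ m, ← hS]; ring
  -- a base index
  have hne : Nonempty κ := by
    rw [← Fintype.card_pos_iff]; omega
  obtain ⟨o⟩ := hne
  have hδ : ∀ ℓ, Δ (X ℓ) = Δ (X o) := by
    intro ℓ
    by_cases h : ℓ = o
    · rw [h]
    · have h1 := hG1' o o
      have h2 := hG1' ℓ o
      rw [if_pos rfl] at h1
      rw [if_neg h] at h2
      linarith
  -- sums over the image of `X`
  have himg : ∀ f : ι → ℤ, (∀ χ, 0 ≤ f χ) → ∑ ℓ, f (X ℓ) ≤ ∑ χ, f χ := by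
    intro f hf
    have h1 : ∑ χ ∈ Finset.univ.image X, f χ ≤ ∑ χ, f χ :=
      Finset.sum_le_sum_of_subset_of_nonneg (Finset.subset_univ _) (fun χ _ _ => hf χ)
    rwa [Finset.sum_image (fun x _ y _ h => hX h)] at h1
  -- δ = 0
  have hδ0 : Δ (X o) = 0 := by
    have h1 := himg (fun χ => Δ χ * Δ χ) (fun χ => mul_self_nonneg _)
    simp only [hδ] at h1
    rw [Finset.sum_const, Finset.card_univ, nsmul_eq_mul, hκ'] at h1
    have h2 := hG1' o o
    rw [if_pos rfl] at h2
    have h3 := hΔ0 (X o)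
    by_contra hne
    have h4 : 1 ≤ Δ (X o) := by omega
    have h5 : 1 ≤ Δ (X o) * Δ (X o) := by nlinarith
    have h6 : (q + 1) * 1 ≤ (q + 1) * (Δ (X o) * Δ (X o)) := by
      apply mul_le_mul_of_nonneg_left h5; linarith
    linarith
  have hΔX : ∀ ℓ, Δ (X ℓ) = 0 := fun ℓ => by rw [hδ ℓ, hδ0]
  have hSu : S = u := by
    have h2 := hG1' o o
    rw [if_pos rfl, hδ0] at h2
    linarith
  -- `b` on the `X ℓ`
  set T : ℤ := ∑ χ, Δ χ * b χ with hT
  have hG2' : ∀ ℓ, T + b (X ℓ) = q * u := by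
    intro ℓ
    rw [← G2 ℓ]
    have : ∀ χ, a ℓ χ * b χ = Δ χ * b χ + b χ * (if χ = X ℓ then 1 else 0) := by
      intro χ
      rw [haX ℓ χ]; ring
    have e1 : ∑ χ, a ℓ χ * b χ = ∑ χ, Δ χ * b χ + ∑ χ, b χ * (if χ = X ℓ then 1 else 0) := by
      rw [← Finset.sum_add_distrib]
      exact Finset.sum_congr rfl (fun χ _ => this χ)
    rw [e1, hsel b (X ℓ)]
  set b₀ : ℤ := b (X o) with hb₀
  have hbX : ∀ ℓ, b (X ℓ) = b₀ := by
    intro ℓ
    have h1 := hG2' ℓ
    have h2 := hG2' o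
    linarith
  -- the vector `c`
  set c : ι → ℤ := fun χ => b χ - q * Δ χ with hc
  have hcc : ∑ χ, c χ * c χ = 1 + 2 * q * b₀ := by
    have : ∀ χ, c χ * c χ = b χ * b χ - 2 * q * (Δ χ * b χ) + q ^ 2 * (Δ χ * Δ χ) := by
      intro χ
      simp only [hc]; ring
    simp only [this, Finset.sum_add_distrib, Finset.sum_sub_distrib, ← Finset.mul_sum]
    rw [G3, ← hT, ← hS, hSu]
    have := hG2' o
    linear_combination (-2 * q) * this
  have hcX : ∀ ℓ, c (X ℓ) = b₀ := by
    intro ℓ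
    simp only [hc]
    rw [hΔX ℓ, hbX ℓ]; ring
  have hb₀1 : b₀ = 1 := by
    have h1 := himg (fun χ => c χ * c χ) (fun χ => mul_self_nonneg _)
    simp only [hcX] at h1
    rw [Finset.sum_const, Finset.card_univ, nsmul_eq_mul, hκ', hcc] at h1
    have h2 : 1 ≤ b₀ := hb1 (X o)
    by_contra hne
    have h3 : 2 ≤ b₀ := by omega
    have h4 : (q + 1) * (2 * b₀) ≤ (q + 1) * (b₀ * b₀) := by
      apply mul_le_mul_of_nonneg_left _ (by linarith)
      nlinarith
    nlinarith
  have hTval : T = q * u - 1 := by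
    have := hG2' o
    rw [← hb₀, hb₀1] at this
    linarith
  -- `Σ Δ c = -1`
  have hΔc : ∑ χ, Δ χ * c χ = -1 := by
    have : ∀ χ, Δ χ * c χ = Δ χ * b χ - q * (Δ χ * Δ χ) := by
      intro χ
      simp only [hc]; ring
    simp only [this, Finset.sum_sub_distrib, ← Finset.mul_sum]
    rw [← hT, ← hS, hSu, hTval]; ring
  -- bound on `c` off the image
  have hcoff : ∀ χ, χ ∉ Finset.univ.image X → c χ * c χ ≤ q := by
    intro χ hχ
    have h1 : ∑ x ∈ insert χ (Finset.univ.image X), c x * c x ≤ ∑ x, c x * c x :=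
      Finset.sum_le_sum_of_subset_of_nonneg (Finset.subset_univ _) (fun x _ _ => mul_self_nonneg _)
    rw [Finset.sum_insert hχ, Finset.sum_image (fun x _ y _ h => hX h)] at h1
    simp only [hcX] at h1
    rw [Finset.sum_const, Finset.card_univ, nsmul_eq_mul, hκ', hcc, hb₀1] at h1
    linarith
  -- apply the number theory
  have hkill : ∀ χ, Δ χ * c χ = -2 * (Δ χ * Δ χ) := by
    intro χ
    by_cases h0 : Δ χ = 0
    · rw [h0]; ring
    · have h1 : 1 ≤ Δ χ := by have := hΔ0 χ; omega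
      have hχ : χ ∉ Finset.univ.image X := by
        intro hmem
        obtain ⟨ℓ, -, rfl⟩ := Finset.mem_image.mp hmem
        exact h0 (hΔX ℓ)
      have h2 : 2 * Δ χ ^ 2 ≤ 2 ^ n - 2 := by
        have h3 : Δ χ * Δ χ ≤ S :=
          Finset.single_le_sum (f := fun x => Δ x * Δ x) (fun x _ => mul_self_nonneg _)
            (Finset.mem_univ χ)
        rw [hSu] at h3
        rw [← hu, sq]
        linarith
      have h3 : c χ ^ 2 ≤ 2 ^ n := by
        rw [sq]; exact hcoff χ hχ
      have h4 : ∑ ℓ, a ℓ χ + 2 ^ n * b χ = ((2 ^ n) ^ 2 + 2 ^ n + 1) * Δ χ + 2 ^ n * c χ := by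
        have h5 : ∀ ℓ, a ℓ χ = Δ χ := by
          intro ℓ
          rw [haX ℓ χ, if_neg, add_zero]
          intro h
          exact hχ (by rw [h]; exact Finset.mem_image_of_mem X (Finset.mem_univ ℓ))
        simp only [h5, Finset.sum_const, Finset.card_univ, nsmul_eq_mul, hκ', hc]
        rw [hq]; ring
      have h5 := Dv χ
      rw [h4] at h5
      have h6 := killNT n hn (Δ χ) (c χ) h1 h2 h3 h5
      rw [h6]; ring
  have h7 : ∑ χ, Δ χ * c χ = -2 * S := by
    simp only [hkill, ← Finset.mul_sum]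
    rw [hS]
  rw [hΔc, hSu] at h7
  -- `q = 3`, impossible
  have h8 : q = 3 := by linarith
  have h9 : (4:ℤ) ∣ q := by
    rw [hq]
    have : (2:ℤ) ^ 2 ∣ 2 ^ n := pow_dvd_pow 2 hn
    simpa using this
  omega

end core

end Cfsg.Agent.Lib.Helper23.CTI
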