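import Mathlib
import Cfsg.Agent.Lib.Helper23.CTIKillC
import Cfsg.Agent.Lib.Helper25.Gagola

/-!
# S4064, the kill: degrees and kernels of the discrete characters (helper23)
-/

set_option autoImplicit false
set_option linter.unusedSectionVars false

namespace Cfsg.Agent.Lib.Helper23.ZF

open Cfsg MulAction Cfsg.Agent.CharLib Cfsg.Agent.Lib.Lead.CNExc Cfsg.Agent.Lib.Helper25
open scoped ComplexConjugate

section defs

variable {G : Type*} [Group G] [Fintype G] (H : Subgroup G)
  [Fintype ↥(Subgroup.normalizer (H : Set G))]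
  [Fintype (IrrCharacter ↥(Subgroup.normalizer (H : Set G)))]
  [Fintype (IrrCharacter G)]

local notation "NH" => Subgroup.normalizer (H : Set G)
local notation "KH" => H.subgroupOf (Subgroup.normalizer (H : Set G))

/-- the restriction of a discrete character only involves the exceptional characters -/
theorem apply_of_mem_dsc {χ : IrrCharacter G} (hχ : χ ∈ dsc H) (x : NH) :
    (χ : G → ℂ) x = ∑ ψ ∈ exc KH, (mlt H χ ψ : ℂ) * (ψ : NH → ℂ) x := by
  have hexp := congrFun (classFunction_eq_sum (resN_classFunction H χ)) x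
  simp only [Finset.sum_apply, Pi.smul_apply, smul_eq_mul] at hexp
  rw [sum_split KH] at hexp
  have h0 : ∑ ξ ∈ inKer KH, classInner (resN H (χ : G → ℂ)) (ξ : NH → ℂ) * (ξ : NH → ℂ) x = 0 := by
    apply Finset.sum_eq_zero
    intro ξ hξ
    rw [(mem_dsc H).mp hχ ξ hξ, zero_mul]
  rw [h0, zero_add] at hexp
  have : (χ : G → ℂ) x = resN H (χ : G → ℂ) x := rfl
  rw [this, hexp]
  apply Finset.sum_congr rfl
  intro ψ _
  rw [mlt_spec]

theorem not_all_eq_of_mem_dsc {χ : IrrCharacter G} (hχ : χ ∈ dsc H) :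
    ¬ ∀ x : NH, (χ : G → ℂ) x = (χ : G → ℂ) 1 := by
  intro hall
  have h0 := (mem_dsc H).mp hχ (trivIrr NH) (triv_mem_inKer KH)
  unfold classInner at h0
  have h1 : ∀ x : NH, resN H (χ : G → ℂ) x * conj (((trivIrr NH : IrrCharacter NH) : NH → ℂ) x) =
      (χ : G → ℂ) 1 := by
    intro x
    have h2 : ((trivIrr NH : IrrCharacter NH) : NH → ℂ) x = 1 := rfl
    rw [h2, map_one, mul_one]
    exact hall x
  rw [Finset.sum_congr rfl (fun x _ => h1 x), Finset.sum_const, nsmul_eq_mul, Finset.card_univ,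
    ← Nat.card_eq_fintype_card, ← mul_assoc, inv_mul_cancel₀ card_ne_zero_complex, one_mul] at h0
  exact Cfsg.Agent.Lib.Helper24.irr_apply_one_ne_zero χ h0

/-- in a simple group every discrete character involves any exceptional character `ν` outside of
whose complement some non-identity element lies in all kernels -/
theorem mlt_pos_of_simple [IsSimpleGroup G] {χ : IrrCharacter G} (hχ : χ ∈ dsc H)
    (ν : IrrCharacter NH) (z : NH) (hz1 : z ≠ 1)
    (hz : ∀ ψ ∈ exc KH, ψ ≠ ν → (ψ : NH → ℂ) z = (ψ : NH → ℂ) 1) : 1 ≤ mlt H χ ν := by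
  by_contra hcon
  have h0 : mlt H χ ν = 0 := by omega
  have h1 : (χ : G → ℂ) (z : G) = (χ : G → ℂ) 1 := by
    have e1 := apply_of_mem_dsc H hχ z
    have e2 := apply_of_mem_dsc H hχ 1
    have e3 : (χ : G → ℂ) ((1 : NH) : G) = (χ : G → ℂ) 1 := rfl
    rw [e1, ← e3, e2]
    apply Finset.sum_congr rfl
    intro ψ hψ
    by_cases hψν : ψ = ν
    · rw [hψν, h0, Nat.cast_zero, zero_mul, zero_mul]
    · rw [hz ψ hψ hψν]
  have hmem : (z : G) ∈ irrKer χ := (mem_irrKer χ (z : G)).mpr h1
  rcases (irrKer_normal χ).eq_bot_or_eq_top with hK | hK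
  · rw [hK, Subgroup.mem_bot] at hmem
    exact hz1 (Subtype.ext hmem)
  · apply not_all_eq_of_mem_dsc H hχ
    intro x
    apply (mem_irrKer χ (x : G)).mp
    rw [hK]
    exact Subgroup.mem_top _

end defs

end Cfsg.Agent.Lib.Helper23.ZF
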