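import Mathlib
import Cfsg.Agent.Lib.Helper23.CTIKillD
import Cfsg.Agent.Lib.Helper23.CTIKillComb
import Cfsg.Agent.Lib.Helper23.CTIDefs2

/-!
# S4064, the kill: assembly (helper23)
-/

set_option autoImplicit false
set_option linter.unusedSectionVars false

namespace Cfsg.Agent.Lib.Helper23.CTI

open Cfsg MulAction Cfsg.Agent.CharLib Cfsg.Agent.Lib.Lead.CNExc Cfsg.Agent.Lib.Helper25
  Cfsg.Agent.Lib.Helper23.ZF
open scoped ComplexConjugate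

section

variable {G : Type*} {Ω : Type*} [Group G] [Fintype G] [MulAction G Ω] [Fintype Ω] {a b : Ω}
  {H E : Subgroup G} {n : ℕ}
  [Fintype ↥(Subgroup.normalizer (H : Set G))]
  [Fintype (IrrCharacter ↥(Subgroup.normalizer (H : Set G)))]
  [Fintype (IrrCharacter G)]

local notation "NH" => Subgroup.normalizer (H : Set G)
local notation "KH" => H.subgroupOf (Subgroup.normalizer (H : Set G))

set_option maxHeartbeats 1000000 in
open Classical in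
/-- the residual configuration is impossible, given the structure of the exceptional characters
of `N_G(H)` -/
theorem false_of_killData_aux (K : KillData G Ω a b H E n)
    (hexc : ∃ ν ∈ exc KH, (ν : NH → ℂ) 1 = ((2 ^ n * (2 ^ n - 1) : ℕ) : ℂ) ∧
      (∀ ψ ∈ exc KH, ψ ≠ ν → (ψ : NH → ℂ) 1 = ((2 ^ n - 1 : ℕ) : ℂ) ∧
        ∀ z ∈ E.subgroupOf NH, (ψ : NH → ℂ) z = (ψ : NH → ℂ) 1) ∧
      (exc KH).card = 2 ^ n + 2) : False := by
  obtain ⟨ν, hν, hνdeg, hrest, hcard⟩ := hexc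
  have S := K.S
  have hn := K.hn
  have := S.simple
  have hidx : (KH).index = 2 ^ n - 1 := S.index_subgroupOf
  have hq4 : 4 ≤ 2 ^ n := by
    calc 4 = 2 ^ 2 := by norm_num
      _ ≤ 2 ^ n := Nat.pow_le_pow_right (by norm_num) hn
  -- a non-identity element of `E`
  obtain ⟨z, hzE, hz1⟩ : ∃ z ∈ E, z ≠ 1 := by
    by_contra hcon
    push Not at hcon
    have : E = ⊥ := (Subgroup.eq_bot_iff_forall E).mpr hcon
    have h1 := K.hEcard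
    rw [this, Subgroup.card_bot] at h1
    omega
  have hzN : z ∈ NH := Subgroup.le_normalizer (K.hEH hzE)
  -- degree data
  have hdegν : (ν : NH → ℂ) 1 = (((KH).index * 2 ^ n : ℕ) : ℂ) := by
    rw [hνdeg, hidx, mul_comm]
  have hdegℓ : ∀ ψ ∈ exc KH, ψ ≠ ν → (ψ : NH → ℂ) 1 = (((KH).index * 1 : ℕ) : ℂ) := by
    intro ψ hψ hψν
    rw [(hrest ψ hψ hψν).1, hidx, mul_one]
  -- the constant `u`
  set u : ℤ := 2 ^ (n - 1) - 1 with hu
  have h2u : 2 * u = 2 ^ n - 2 := by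
    have : (2 : ℤ) ^ n = 2 * 2 ^ (n - 1) := by
      rw [← pow_succ']
      congr 1
      omega
    rw [hu, this]; ring
  have he : (((2 ^ n - 1 : ℕ) : ℤ)) = 2 ^ n - 1 := by
    have : 1 ≤ 2 ^ n := by omega
    push_cast [Nat.cast_sub this]
    ring
  -- index types
  let κ := {ψ : IrrCharacter NH // ψ ∈ (exc KH).erase ν}
  let ι := {χ : IrrCharacter G // χ ∈ dsc H}
  have hκcard : Fintype.card κ = 2 ^ n + 1 := by
    rw [Fintype.card_coe, Finset.card_erase_of_mem hν, hcard]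
    rfl
  have hκ : ∀ ℓ : κ, ℓ.1 ∈ exc KH ∧ ℓ.1 ≠ ν := fun ℓ =>
    ⟨(Finset.mem_erase.mp ℓ.2).2, (Finset.mem_erase.mp ℓ.2).1⟩
  let av : κ → ι → ℤ := fun ℓ χ => (mlt H χ.1 ℓ.1 : ℤ)
  let bv : ι → ℤ := fun χ => (mlt H χ.1 ν : ℤ)
  apply killComb n hn av bv u h2u hκcard
  · intro ℓ χ
    exact Int.natCast_nonneg _
  · intro χ
    have h1 := mlt_pos_of_simple H χ.2 ν ⟨z, hzN⟩ (fun h' => hz1 (congrArg Subtype.val h'))
      (fun ψ hψ hψν => (hrest ψ hψ hψν).2 ⟨z, hzN⟩ (Subgroup.mem_subgroupOf.mpr hzE))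
    show (1 : ℤ) ≤ (mlt H χ.1 ν : ℤ)
    exact_mod_cast h1
  · -- G1
    intro ℓ m
    have h1 := S.gram_dsc (hκ ℓ).1 (hκ m).1 1 1 (hdegℓ _ (hκ ℓ).1 (hκ ℓ).2)
      (hdegℓ _ (hκ m).1 (hκ m).2)
    rw [he] at h1
    have h2 : ∑ χ : ι, av ℓ χ * av m χ =
        ∑ χ ∈ dsc H, ((mlt H χ ℓ.1 : ℤ) * (mlt H χ m.1 : ℤ)) :=
      Finset.sum_coe_sort (dsc H) (fun χ => ((mlt H χ ℓ.1 : ℤ) * (mlt H χ m.1 : ℤ)))
    rw [h2]
    by_cases hℓm : ℓ = m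
    · rw [if_pos hℓm]
      rw [if_pos (congrArg Subtype.val hℓm)] at h1
      push_cast at h1
      linarith
    · rw [if_neg hℓm]
      rw [if_neg (fun h' => hℓm (Subtype.ext h'))] at h1
      push_cast at h1
      linarith
  · -- G2
    intro ℓ
    have h1 := S.gram_dsc (hκ ℓ).1 hν 1 (2 ^ n) (hdegℓ _ (hκ ℓ).1 (hκ ℓ).2) hdegν
    rw [he, if_neg (hκ ℓ).2] at h1
    have h2 : ∑ χ : ι, av ℓ χ * bv χ =
        ∑ χ ∈ dsc H, ((mlt H χ ℓ.1 : ℤ) * (mlt H χ ν : ℤ)) :=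
      Finset.sum_coe_sort (dsc H) (fun χ => ((mlt H χ ℓ.1 : ℤ) * (mlt H χ ν : ℤ)))
    rw [h2]
    push_cast at h1
    have h3 : (2:ℤ) ^ n * (2 ^ n - 1 - 1) = 2 * (2 ^ n * u) := by
      rw [show (2:ℤ) ^ n - 1 - 1 = 2 * u by rw [h2u]; ring]; ring
    linarith
  · -- G3
    have h1 := S.gram_dsc hν hν (2 ^ n) (2 ^ n) hdegν hdegν
    rw [he, if_pos rfl] at h1
    have h2 : ∑ χ : ι, bv χ * bv χ =
        ∑ χ ∈ dsc H, ((mlt H χ ν : ℤ) * (mlt H χ ν : ℤ)) :=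
      Finset.sum_coe_sort (dsc H) (fun χ => ((mlt H χ ν : ℤ) * (mlt H χ ν : ℤ)))
    rw [h2]
    push_cast at h1
    have h3 : (2:ℤ) ^ n * 2 ^ n * (2 ^ n - 1 - 1) = 2 * ((2 ^ n) ^ 2 * u) := by
      rw [show (2:ℤ) ^ n - 1 - 1 = 2 * u by rw [h2u]; ring]; ring
    linarith
  · -- divisibility
    intro χ
    have hdeg := apply_of_mem_dsc H χ.2 (1 : NH)
    have e3 : (χ.1 : G → ℂ) ((1 : NH) : G) = (χ.1 : G → ℂ) 1 := rfl
    rw [e3, ← Finset.add_sum_erase _ _ hν, Cfsg.Agent.Lib.Helper24.irr_apply_one] at hdeg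
    have h1 : ∑ ψ ∈ (exc KH).erase ν, (mlt H χ.1 ψ : ℂ) * (ψ : NH → ℂ) 1 =
        ((2 ^ n - 1 : ℕ) : ℂ) * ∑ ψ ∈ (exc KH).erase ν, (mlt H χ.1 ψ : ℂ) := by
      rw [Finset.mul_sum]
      apply Finset.sum_congr rfl
      intro ψ hψ
      rw [(hrest ψ (Finset.mem_erase.mp hψ).2 (Finset.mem_erase.mp hψ).1).1]
      ring
    rw [h1, hνdeg] at hdeg
    have h2 : ∑ ℓ : κ, av ℓ χ = ∑ ψ ∈ (exc KH).erase ν, (mlt H χ.1 ψ : ℤ) :=
      Finset.sum_coe_sort ((exc KH).erase ν) (fun ψ => (mlt H χ.1 ψ : ℤ))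
    have h3 : (charDegree (χ.1 : G → ℂ) : ℤ) =
        (2 ^ n - 1) * (∑ ℓ : κ, av ℓ χ + 2 ^ n * bv χ) := by
      rw [h2]
      have : ((charDegree (χ.1 : G → ℂ) : ℤ) : ℂ) =
          (((2 ^ n - 1) * (∑ ψ ∈ (exc KH).erase ν, (mlt H χ.1 ψ : ℤ) + 2 ^ n * bv χ) : ℤ) : ℂ) := by
        have he' : (((2 ^ n - 1 : ℕ) : ℂ)) = 2 ^ n - 1 := by
          have : 1 ≤ 2 ^ n := by omega
          push_cast [Nat.cast_sub this]
          ring
        push_cast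
        rw [Int.cast_natCast, hdeg]
        push_cast
        rw [he']
        ring
      exact_mod_cast this
    have h4 := Cfsg.Agent.Lib.Helper24.irr_charDegree_dvd_card χ.1
    rw [S.card_G] at h4
    have h5 : ((charDegree (χ.1 : G → ℂ) : ℕ) : ℤ) ∣
        ((((2 ^ n) ^ 3 + 1) * (2 ^ n) ^ 3 * (2 ^ n - 1) : ℕ) : ℤ) := Int.natCast_dvd_natCast.mpr h4
    rw [h3] at h5
    have h6 : ((((2 ^ n) ^ 3 + 1) * (2 ^ n) ^ 3 * (2 ^ n - 1) : ℕ) : ℤ) =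
        (2 ^ n - 1) * (((2:ℤ) ^ n) ^ 3 * (((2:ℤ) ^ n) ^ 3 + 1)) := by
      push_cast
      rw [he]
      ring
    rw [h6] at h5
    have hne : ((2:ℤ) ^ n - 1) ≠ 0 := by
      have : (4:ℤ) ≤ 2 ^ n := by exact_mod_cast hq4
      omega
    exact (mul_dvd_mul_iff_left hne).mp h5

end

end Cfsg.Agent.Lib.Helper23.CTI
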