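import Mathlib
import Cfsg.Agent.Lib.Helper23.CTIKillE
import Cfsg.Agent.Lib.Helper6.CTIExc

/-!
# S4064, the kill: the residual configuration does not exist (helper23)
-/

set_option autoImplicit false
set_option linter.unusedSectionVars false

namespace Cfsg.Agent.Lib.Helper23.CTI

open Cfsg MulAction Cfsg.Agent.CharLib Cfsg.Agent.Lib.Lead.CNExc Cfsg.Agent.Lib.Helper25
  Cfsg.Agent.Lib.Helper23.ZF
open scoped ComplexConjugate

/-- the residual configuration of S4064 is impossible -/
theorem false_of_killData {G : Type*} {Ω : Type*} [Group G] [Finite G] [MulAction G Ω]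
    [Fintype Ω] {a b : Ω} {H E : Subgroup G} {n : ℕ} (K : KillData G Ω a b H E n) : False := by
  classical
  let _ : Fintype G := Fintype.ofFinite G
  let _ : Fintype ↥(Subgroup.normalizer (H : Set G)) := Fintype.ofFinite _
  let _ := fintypeIrr ↥(Subgroup.normalizer (H : Set G))
  let _ := fintypeIrr G
  have S := K.S
  have hn := K.hn
  have hq4 : 4 ≤ 2 ^ n := by
    calc 4 = 2 ^ 2 := by norm_num
      _ ≤ 2 ^ n := Nat.pow_le_pow_right (by norm_num) hn
  have hEN : E ≤ Subgroup.normalizer (H : Set G) := K.hEH.trans Subgroup.le_normalizer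
  have hEn : (E.subgroupOf (Subgroup.normalizer (H : Set G))).Normal := by
    constructor
    intro z hz g
    rw [Subgroup.mem_subgroupOf] at hz ⊢
    exact K.hEnorm g g.2 z hz
  apply false_of_killData_aux K
  apply Cfsg.Agent.Lib.Helper6.CTIExc.exc_structure
    (H.subgroupOf (Subgroup.normalizer (H : Set G)))
    (E.subgroupOf (Subgroup.normalizer (H : Set G))) S.hC' (2 ^ n) (by omega)
  · intro z hz
    rw [Subgroup.mem_subgroupOf] at hz ⊢
    exact K.hEH hz
  · rw [card_subgroupOf_normalizer, S.card_H]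
  · rw [← K.hEcard]
    exact Nat.card_congr (Subgroup.subgroupOfEquivOfLe hEN).toEquiv
  · exact S.index_subgroupOf
  · intro z hz x hx
    rw [Subgroup.mem_subgroupOf] at hz hx
    exact Subtype.ext (K.hEcentral z hz x hx)
  · intro x hx y hy
    rw [Subgroup.mem_subgroupOf] at hx hy ⊢
    exact K.hcomm x hx y hy
  · intro x hx hxE z hz
    rw [Subgroup.mem_subgroupOf] at hx hxE hz
    obtain ⟨g, hg, hgx⟩ := K.hconj x hx hxE z hz
    exact ⟨⟨g, Subgroup.le_normalizer hg⟩, Subgroup.mem_subgroupOf.mpr hg, Subtype.ext hgx⟩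

end Cfsg.Agent.Lib.Helper23.CTI
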