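import Mathlib
import Cfsg.Agent.Lib.Helper23.HeightZeroC
import Cfsg.Agent.Lib.Lead.BlockBasic
import Cfsg.Agent.Lib.Lead.CharProd
import Cfsg.Agent.Lib.Lead.CharMore

set_option autoImplicit false

namespace Cfsg.Agent.Lib.Helper23

open Cfsg Cfsg.Agent.CharLib Cfsg.Agent.Lib.Helper24 Cfsg.Agent.Lib.Helper6
open scoped ComplexConjugate

universe u

section crit

variable {G : Type u} [Group G] [Fintype G] {M : Ideal AlgInt} {p : ℕ} [hpp : Fact p.Prime]

/-- **Principal block criterion**: `ξ ∈ B₀(G)` iff the sum of `ξ` over the `p`-regular elements is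
nonzero. -/
theorem mem_principalBlock_iff_sum_regular_ne_zero (hM : IsPModular p M) (ξ : IrrCharacter G)
    [DecidablePred fun x : G => p ∣ orderOf x] :
    ξ ∈ principalBlock M G ↔
      ∑ x : G, (if p ∣ orderOf x then (0 : ℂ) else (ξ : G → ℂ) x) ≠ 0 := by
  have hprime : M.IsPrime := isPrime_of_isPModular hM
  have hp : p.Prime := hpp.out
  have hB : principalBlock M G = blockOf M ((trivIrr G : IrrCharacter G) : G → ℂ) := rfl
  have hblock : IsPBlock M (principalBlock M G) := ⟨trivIrr G, hB⟩
  have h1mem : trivIrr G ∈ principalBlock M G := by rw [hB]; exact mem_blockOf_self _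
  have hdeg1 : charDegree ((trivIrr G : IrrCharacter G) : G → ℂ) = 1 :=
    charDegree_eq_of_apply_one (d := 1) (by simp [trivIrr])
  -- the integer [1~, ξ]
  have hN : (tildeInt p (trivIrr G) ξ : ℂ) = (Nat.card G : ℂ)⁻¹ *
      (((p ^ (Nat.card G).factorization p : ℕ) : ℂ) *
        conj (∑ x : G, (if p ∣ orderOf x then (0 : ℂ) else (ξ : G → ℂ) x))) := by
    rw [← tildeInt_spec]
    unfold classInner
    congr 1
    rw [map_sum, Finset.mul_sum]
    apply Finset.sum_congr rfl
    intro x _
    unfold tildeFun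
    by_cases hx : p ∣ orderOf x
    · rw [if_pos hx, if_pos hx]; simp
    · rw [if_neg hx, if_neg hx]
      show ((p ^ (Nat.card G).factorization p : ℕ) : ℂ) * (1 : ℂ) * _ = _
      ring
  have hG0 : (Nat.card G : ℂ)⁻¹ ≠ 0 := inv_ne_zero (Nat.cast_ne_zero.mpr Nat.card_pos.ne')
  have hpa0 : ((p ^ (Nat.card G).factorization p : ℕ) : ℂ) ≠ 0 :=
    Nat.cast_ne_zero.mpr (pow_ne_zero _ hp.ne_zero)
  have hiff : tildeInt p (trivIrr G) ξ ≠ 0 ↔
      ∑ x : G, (if p ∣ orderOf x then (0 : ℂ) else (ξ : G → ℂ) x) ≠ 0 := by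
    constructor
    · intro h hs
      apply h
      have : (tildeInt p (trivIrr G) ξ : ℂ) = 0 := by rw [hN, hs, map_zero, mul_zero, mul_zero]
      exact_mod_cast this
    · intro h hs
      apply h
      rw [hs] at hN
      have h2 : conj (∑ x : G, (if p ∣ orderOf x then (0 : ℂ) else (ξ : G → ℂ) x)) = 0 := by
        have h3 := hN.symm
        rw [Int.cast_zero] at h3
        rcases mul_eq_zero.mp h3 with h4 | h4
        · exact absurd h4 hG0
        · rcases mul_eq_zero.mp h4 with h5 | h5
          · exact absurd h5 hpa0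
          · exact h5
      exact (map_eq_zero _).mp h2
  rw [← hiff]
  constructor
  · intro hξ h0
    have hmin : (charDegree ((trivIrr G : IrrCharacter G) : G → ℂ)).factorization p =
        minVal p (principalBlock M G) := by
      rw [hdeg1]
      simp only [Nat.factorization_one, Finsupp.coe_zero, Pi.zero_apply]
      have := minVal_le (p := p) h1mem
      rw [hdeg1] at this
      simp only [Nat.factorization_one, Finsupp.coe_zero, Pi.zero_apply] at this
      omega
    have := (minimal_iff_not_dvd hM hblock h1mem hξ).mp hmin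
    apply this
    rw [h0]
    exact dvd_zero _
  · intro h
    by_contra hξ
    exact h (tildeInt_eq_zero hM hblock h1mem hξ)

end crit

end Cfsg.Agent.Lib.Helper23
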