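import Mathlib
import Cfsg.Agent.Lib.Helper23.CentralProdA

set_option autoImplicit false

namespace Cfsg.Agent.Lib.Helper23

open Cfsg Cfsg.Agent.CharLib Cfsg.Agent.Lib.Helper24 Cfsg.Agent.Lib.Helper6
open scoped ComplexConjugate

universe u

section cprod

variable {G : Type u} [Group G]

theorem IsIrrCharacter.comp_surjective {K : Type u} [Group K] {χ : G → ℂ} (hχ : IsIrrCharacter G χ)
    (f : K →* G) (hf : Function.Surjective f) : IsIrrCharacter K (χ ∘ f) := by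
  obtain ⟨n, ρ, hirr, rfl⟩ := hχ
  exact ⟨n, (MonoidHom.comp ρ f : Representation ℂ K (Fin n → ℂ)),
    isIrreducible_comp_of_surjective ρ hirr f hf, rfl⟩

variable (U₁ U₂ : Subgroup G) (hcomm : ∀ u ∈ U₁, ∀ v ∈ U₂, u * v = v * u)

/-- The multiplication map of a central product. -/
def cprodHom : U₁ × U₂ →* G :=
  MonoidHom.noncommCoprod U₁.subtype U₂.subtype
    (fun u v => (show Commute (U₁.subtype u) (U₂.subtype v) from hcomm u u.2 v v.2))

theorem cprodHom_apply (x : U₁ × U₂) : cprodHom U₁ U₂ hcomm x = (x.1 : G) * (x.2 : G) := rfl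

theorem cprodHom_surjective (hgen : U₁ ⊔ U₂ = ⊤) : Function.Surjective (cprodHom U₁ U₂ hcomm) := by
  rw [← MonoidHom.range_eq_top]
  unfold cprodHom
  rw [MonoidHom.noncommCoprod_range, Subgroup.range_subtype, Subgroup.range_subtype, hgen]

variable [Fintype G]

include hcomm in
/-- Characters of a central product factor. -/
theorem char_cprod_apply [Fintype U₁] [Fintype U₂] (hgen : U₁ ⊔ U₂ = ⊤) (χ : IrrCharacter G)
    (ψ₁ : IrrCharacter U₁) (ψ₂ : IrrCharacter U₂)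
    (h₁ : classInner (fun u : U₁ => (χ : G → ℂ) u) (ψ₁ : U₁ → ℂ) ≠ 0)
    (h₂ : classInner (fun u : U₂ => (χ : G → ℂ) u) (ψ₂ : U₂ → ℂ) ≠ 0) (u₁ : U₁) (u₂ : U₂) :
    (χ : G → ℂ) ((u₁ : G) * (u₂ : G)) = (ψ₁ : U₁ → ℂ) u₁ * (ψ₂ : U₂ → ℂ) u₂ := by
  have hirr := IsIrrCharacter.comp_surjective χ.2 (cprodHom U₁ U₂ hcomm)
    (cprodHom_surjective U₁ U₂ hcomm hgen)
  obtain ⟨φ₁, φ₂, hφ₁, hφ₂, hprod⟩ := IsIrrCharacter.exists_prod hirr
  have hval : ∀ (a : U₁) (b : U₂), (χ : G → ℂ) ((a : G) * (b : G)) = φ₁ a * φ₂ b := by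
    intro a b
    have := congrFun hprod (a, b)
    exact this
  have hφ₁1 : φ₁ 1 ≠ 0 := irr_apply_one_ne_zero ⟨φ₁, hφ₁⟩
  have hφ₂1 : φ₂ 1 ≠ 0 := irr_apply_one_ne_zero ⟨φ₂, hφ₂⟩
  have e1 : φ₁ = (ψ₁ : U₁ → ℂ) := by
    by_contra hne
    apply h₁
    have h3 : (fun u : U₁ => (χ : G → ℂ) u) = fun u => φ₂ 1 * φ₁ u := by
      funext u
      have := hval u 1
      rw [Subgroup.coe_one, mul_one] at this
      rw [this]; ring
    rw [h3]
    unfold classInner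
    have h4 := classInner_irr hφ₁ ψ₁.2
    rw [if_neg hne] at h4
    unfold classInner at h4
    have : ∑ g : U₁, φ₂ 1 * φ₁ g * conj ((ψ₁ : U₁ → ℂ) g) =
        φ₂ 1 * ∑ g : U₁, φ₁ g * conj ((ψ₁ : U₁ → ℂ) g) := by
      rw [Finset.mul_sum]; apply Finset.sum_congr rfl; intro g _; ring
    rw [this, mul_left_comm, h4, mul_zero]
  have e2 : φ₂ = (ψ₂ : U₂ → ℂ) := by
    by_contra hne
    apply h₂
    have h3 : (fun u : U₂ => (χ : G → ℂ) u) = fun u => φ₁ 1 * φ₂ u := by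
      funext u
      have := hval 1 u
      rw [Subgroup.coe_one, one_mul] at this
      rw [this]
    rw [h3]
    unfold classInner
    have h4 := classInner_irr hφ₂ ψ₂.2
    rw [if_neg hne] at h4
    unfold classInner at h4
    have : ∑ g : U₂, φ₁ 1 * φ₂ g * conj ((ψ₂ : U₂ → ℂ) g) =
        φ₁ 1 * ∑ g : U₂, φ₂ g * conj ((ψ₂ : U₂ → ℂ) g) := by
      rw [Finset.mul_sum]; apply Finset.sum_congr rfl; intro g _; ring
    rw [this, mul_left_comm, h4, mul_zero]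
  rw [hval, e1, e2]

end cprod

section cprodsum

variable {G : Type u} [Group G] [Fintype G] (U₁ U₂ : Subgroup G)
  (hcomm : ∀ u ∈ U₁, ∀ v ∈ U₂, u * v = v * u) {p : ℕ} [hpp : Fact p.Prime]

include hcomm in
/-- Sums over `p`-regular elements of a central product over a `p`-group. -/
theorem sum_regular_cprod [Fintype U₁] [Fintype U₂] (hgen : U₁ ⊔ U₂ = ⊤)
    (hZ : IsPGroup p ↥(U₁ ⊓ U₂)) (f : G → ℂ) :
    ∑ x : G, (if p ∣ orderOf x then (0 : ℂ) else f x) =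
      ∑ u₁ : U₁, ∑ u₂ : U₂, (if p ∣ orderOf u₁ then (0 : ℂ) else
        if p ∣ orderOf u₂ then 0 else f ((u₁ : G) * (u₂ : G))) := by
  classical
  have hp : p.Prime := hpp.out
  set T : Finset G := Finset.univ.filter (fun x => ¬ p ∣ orderOf x) with hT
  set S : Finset (U₁ × U₂) := Finset.univ.filter
    (fun y => ¬ p ∣ orderOf y.1 ∧ ¬ p ∣ orderOf y.2) with hS
  have hL : ∑ x : G, (if p ∣ orderOf x then (0 : ℂ) else f x) = ∑ x ∈ T, f x := by
    rw [hT, Finset.sum_filter]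
    apply Finset.sum_congr rfl
    intro x _
    by_cases hx : p ∣ orderOf x
    · rw [if_pos hx, if_neg (not_not.mpr hx)]
    · rw [if_neg hx, if_pos hx]
  have hR : ∑ u₁ : U₁, ∑ u₂ : U₂, (if p ∣ orderOf u₁ then (0 : ℂ) else
        if p ∣ orderOf u₂ then 0 else f ((u₁ : G) * (u₂ : G))) =
      ∑ y ∈ S, f ((y.1 : G) * (y.2 : G)) := by
    rw [hS, Finset.sum_filter, Fintype.sum_prod_type]
    apply Finset.sum_congr rfl
    intro u₁ _
    apply Finset.sum_congr rfl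
    intro u₂ _
    by_cases h1 : p ∣ orderOf u₁
    · rw [if_pos h1, if_neg (fun h => h.1 h1)]
    · by_cases h2 : p ∣ orderOf u₂
      · rw [if_neg h1, if_pos h2, if_neg (fun h => h.2 h2)]
      · rw [if_neg h1, if_neg h2, if_pos ⟨h1, h2⟩]
  rw [hL, hR]
  symm
  -- central elements
  have hzc : ∀ z : G, z ∈ U₁ → z ∈ U₂ → ∀ w : G, w ∈ U₁ ∨ w ∈ U₂ → z * w = w * z := by
    intro z hz1 hz2 w hw
    rcases hw with hw | hw
    · exact (hcomm w hw z hz2).symm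
    · exact hcomm z hz1 w hw
  apply Finset.sum_bij (fun y _ => (y.1 : G) * (y.2 : G))
  · intro y hy
    rw [hS, Finset.mem_filter] at hy
    rw [hT, Finset.mem_filter]
    refine ⟨Finset.mem_univ _, ?_⟩
    have hc : Commute (y.1 : G) (y.2 : G) := hcomm _ y.1.2 _ y.2.2
    have h1 := hc.orderOf_mul_dvd_lcm
    intro hdvd
    have h2 := dvd_trans hdvd h1
    rw [Subgroup.orderOf_coe, Subgroup.orderOf_coe] at h2
    rcases (Nat.Prime.dvd_lcm hp).mp h2 with h | h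
    · exact hy.2.1 h
    · exact hy.2.2 h
  · intro y hy y' hy' heq
    rw [hS, Finset.mem_filter] at hy hy'
    obtain ⟨u₁, u₂⟩ := y
    obtain ⟨v₁, v₂⟩ := y'
    simp only at heq hy hy'
    -- z = v₁⁻¹ u₁ = v₂ u₂⁻¹
    set z : G := (v₁ : G)⁻¹ * (u₁ : G) with hz
    have hz' : z = (v₂ : G) * (u₂ : G)⁻¹ := by
      rw [hz]
      have : (u₁ : G) = (v₁ : G) * (v₂ : G) * (u₂ : G)⁻¹ := by
        rw [← heq]; group
      rw [this]; group
    have hz1 : z ∈ U₁ := by rw [hz]; exact U₁.mul_mem (U₁.inv_mem v₁.2) u₁.2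
    have hz2 : z ∈ U₂ := by rw [hz']; exact U₂.mul_mem v₂.2 (U₂.inv_mem u₂.2)
    obtain ⟨k, hk⟩ := hZ ⟨z, ⟨hz1, hz2⟩⟩
    have hk' : z ^ (p ^ k) = 1 := by
      have := congrArg (fun w : ↥(U₁ ⊓ U₂) => (w : G)) hk
      simpa using this
    have hu₁ : (u₁ : G) = (v₁ : G) * z := by rw [hz]; group
    have hcv : Commute (v₁ : G) z := (hzc z hz1 hz2 v₁ (Or.inl v₁.2)).symm
    have hcu : Commute ((v₁ : G)⁻¹) (u₁ : G) := by
      rw [hu₁]
      exact (Commute.inv_left (Commute.refl _)).mul_right hcv.inv_left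
    have h1 := hcu.orderOf_mul_dvd_lcm
    rw [← hz, orderOf_inv, Subgroup.orderOf_coe, Subgroup.orderOf_coe] at h1
    have hcop : Nat.Coprime (orderOf z) p := by
      rw [Nat.coprime_comm, Nat.Prime.coprime_iff_not_dvd hp]
      intro hdvd
      rcases (Nat.Prime.dvd_lcm hp).mp (dvd_trans hdvd h1) with h | h
      · exact hy'.2.1 h
      · exact hy.2.1 h
    have hz1' : orderOf z = 1 :=
      Nat.Coprime.eq_one_of_dvd (Nat.Coprime.pow_right k hcop) (orderOf_dvd_of_pow_eq_one hk')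
    have hz0 : z = 1 := orderOf_eq_one_iff.mp hz1'
    have e1 : (u₁ : G) = (v₁ : G) := by rw [hu₁, hz0, mul_one]
    have e2 : (u₂ : G) = (v₂ : G) := by
      have := hz'
      rw [hz0] at this
      have h3 : (v₂ : G) = (u₂ : G) := by
        calc (v₂ : G) = ((v₂ : G) * (u₂ : G)⁻¹) * (u₂ : G) := by group
          _ = (u₂ : G) := by rw [← this, one_mul]
      exact h3.symm
    exact Prod.ext (Subtype.ext e1) (Subtype.ext e2)
  · intro x hx
    rw [hT, Finset.mem_filter] at hx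
    obtain ⟨y, hy⟩ := cprodHom_surjective U₁ U₂ hcomm hgen x
    rw [cprodHom_apply] at hy
    set N := p ^ (Nat.card G).factorization p with hN
    set m := Nat.card G / N with hm
    have hNm : N * m = Nat.card G := Nat.ordProj_mul_ordCompl_eq_self _ p
    have hpm : ¬ p ∣ m := Nat.not_dvd_ordCompl hp Nat.card_pos.ne'
    have hcopx : Nat.Coprime N (orderOf x) := by
      apply Nat.Coprime.pow_left
      rw [Nat.Prime.coprime_iff_not_dvd hp]
      exact hx.2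
    obtain ⟨s, hs⟩ := exists_pow_eq_self_of_coprime hcopx
    have hc : Commute (y.1 : G) (y.2 : G) := hcomm _ y.1.2 _ y.2.2
    have hreg : ∀ w : G, ¬ p ∣ orderOf ((w ^ N) ^ s) := by
      intro w hdvd
      have h1 : ((w ^ N) ^ s) ^ m = 1 := by
        rw [← pow_mul, ← pow_mul, show N * (s * m) = Nat.card G * s by rw [← hNm]; ring,
          pow_mul, pow_card_eq_one', one_pow]
      exact hpm (dvd_trans hdvd (orderOf_dvd_of_pow_eq_one h1))
    refine ⟨(⟨((y.1 : G) ^ N) ^ s, U₁.pow_mem (U₁.pow_mem y.1.2 _) _⟩,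
      ⟨((y.2 : G) ^ N) ^ s, U₂.pow_mem (U₂.pow_mem y.2.2 _) _⟩), ?_, ?_⟩
    · rw [hS, Finset.mem_filter]
      refine ⟨Finset.mem_univ _, ?_, ?_⟩
      · rw [← Subgroup.orderOf_coe]; exact hreg _
      · rw [← Subgroup.orderOf_coe]; exact hreg _
    · show ((y.1 : G) ^ N) ^ s * ((y.2 : G) ^ N) ^ s = x
      rw [← (hc.pow_pow N N).mul_pow, ← hc.mul_pow, hy, hs]
  · intro y _
    rfl

end cprodsum


section cprodmain

variable {G : Type u} [Group G] [Fintype G] (U₁ U₂ : Subgroup G)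
  {M : Ideal AlgInt} {p : ℕ} [hpp : Fact p.Prime]

/-- **S4521**: principal block of a central product over a `p`-group. -/
theorem mem_principalBlock_cprod_iff (hM : IsPModular p M) [Fintype U₁] [Fintype U₂]
    (hcomm : ∀ u ∈ U₁, ∀ v ∈ U₂, u * v = v * u) (hgen : U₁ ⊔ U₂ = ⊤)
    (hZ : IsPGroup p ↥(U₁ ⊓ U₂)) (χ : IrrCharacter G)
    (ψ₁ : IrrCharacter U₁) (ψ₂ : IrrCharacter U₂)
    (h₁ : classInner (fun u : U₁ => (χ : G → ℂ) u) (ψ₁ : U₁ → ℂ) ≠ 0)
    (h₂ : classInner (fun u : U₂ => (χ : G → ℂ) u) (ψ₂ : U₂ → ℂ) ≠ 0) :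
    χ ∈ principalBlock M G ↔ (ψ₁ ∈ principalBlock M U₁ ∧ ψ₂ ∈ principalBlock M U₂) := by
  classical
  rw [mem_principalBlock_iff_sum_regular_ne_zero hM χ,
    mem_principalBlock_iff_sum_regular_ne_zero hM ψ₁,
    mem_principalBlock_iff_sum_regular_ne_zero hM ψ₂,
    sum_regular_cprod U₁ U₂ hcomm hgen hZ]
  have h : ∑ u₁ : U₁, ∑ u₂ : U₂, (if p ∣ orderOf u₁ then (0 : ℂ) else
        if p ∣ orderOf u₂ then 0 else (χ : G → ℂ) ((u₁ : G) * (u₂ : G))) =
      (∑ u₁ : U₁, (if p ∣ orderOf u₁ then (0 : ℂ) else (ψ₁ : U₁ → ℂ) u₁)) *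
        ∑ u₂ : U₂, (if p ∣ orderOf u₂ then (0 : ℂ) else (ψ₂ : U₂ → ℂ) u₂) := by
    rw [Finset.sum_mul_sum]
    apply Finset.sum_congr rfl
    intro u₁ _
    apply Finset.sum_congr rfl
    intro u₂ _
    rw [char_cprod_apply U₁ U₂ hcomm hgen χ ψ₁ ψ₂ h₁ h₂]
    by_cases h1 : p ∣ orderOf u₁
    · rw [if_pos h1, if_pos h1, zero_mul]
    · by_cases h2 : p ∣ orderOf u₂
      · rw [if_neg h1, if_pos h2, if_pos h2, mul_zero]
      · rw [if_neg h1, if_neg h2, if_neg h1, if_neg h2]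
  rw [h]
  exact mul_ne_zero_iff

end cprodmain

end Cfsg.Agent.Lib.Helper23
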