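/-
helper23: canonical (coprime) extensions over a p-group quotient, restriction to O^p(G) of characters of
p-prime degree, and the congruence |O^p(G)| = sum chi(1)^2 (p-prime degree and determinantal order) mod p.
-/
import Mathlib
import Cfsg.Agent.Lib.Helper23.Thompson
import Cfsg.Agent.Lib.Helper6.Gallagher2
import Cfsg.Agent.Lib.Helper24.Deflation
import Cfsg.Prelude.Def_Transfer

set_option autoImplicit false

namespace Cfsg.Agent.Lib.Helper23

open Cfsg Cfsg.Agent.CharLib Cfsg.Agent.Lib.Helper6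
open scoped ComplexConjugate

universe u

section
variable {G : Type u} [Group G] [Finite G] {p : ℕ} [hp : Fact p.Prime] (M : Subgroup G)
  [hM : M.Normal] {k : ℕ} (hk : M.index = p ^ k)
  (hhom : ∀ φ : M →* ℂˣ, (orderOf φ).Coprime p)

include hk hhom

omit hp hM in
/-- the determinant of a character of `M` has `p'`-order (as a function) -/
theorem coprime_orderOf_detChar' {θ : M → ℂ} (hθc : IsCharacter M θ) :
    Nat.Coprime (orderOf (detChar θ)) p := by
  have hlam := detChar_isCharacter hθc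
  have hord : orderOf (detChar θ) = orderOf (linCharUnitsHom hlam.1 hlam.2) := by
    rw [← orderOf_unitsHomToFun, unitsHomToFun_linCharUnitsHom]
  rw [hord]
  exact hhom _

omit hp hM in
/-- the determinant of a character of `M` has order prime to the index -/
theorem coprime_orderOf_detChar {θ : M → ℂ} (hθc : IsCharacter M θ) :
    Nat.Coprime M.index (orderOf (detChar θ)) := by
  rw [hk]
  exact Nat.Coprime.pow_left k (coprime_orderOf_detChar' M hk hhom hθc).symm

/-- canonical extension: an invariant irreducible character of `p'`-degree of `M = O^p(G)` has an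
extension with determinantal order prime to `p`. -/
theorem exists_canonical_extension {θ : M → ℂ} (hθ : IsIrrCharacter M θ)
    (hinv : ∀ g : G, conjFun M g θ = θ) {d : ℕ} (hd : θ 1 = d) (hpd : ¬ p ∣ d) :
    ∃ χ : G → ℂ, IsIrrCharacter G χ ∧ resFun M χ = θ ∧ (detOrder χ).Coprime p := by
  classical
  letI : Fintype G := Fintype.ofFinite G
  letI : Fintype M := Fintype.ofFinite M
  have hθc : IsCharacter M θ := IsIrrCharacter.isCharacter hθ
  obtain ⟨η, hη, hηM⟩ := exists_extension_of_pgroup_quotient M hk hhom hθ hinv hd hpd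
  have hlam := detChar_isCharacter hθc
  have hinvlam : ∀ (g : G) (n : M),
      detChar θ ⟨g * n * g⁻¹, hM.conj_mem (n : G) n.2 g⟩ = detChar θ n := by
    intro g n
    have h1 := detChar_conjFun M g hθc
    rw [hinv g] at h1
    exact (congrFun h1 n).symm
  have hcop := coprime_orderOf_detChar M hk hhom hθc
  obtain ⟨μ, ⟨hμ, hμ1, hμM, hμord⟩, _⟩ := Cfsg.Agent.S0865.result M (detChar θ) hlam hinvlam hcop
  have hcop' : Nat.Coprime M.index d := by
    rw [hk]
    exact Nat.Coprime.pow_left k ((Nat.Prime.coprime_iff_not_dvd hp.out).2 hpd)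
  obtain ⟨χ, ⟨hχ, hχM, hχdet⟩, _⟩ := existsUnique_extension_with_det M hθ hd hcop' hη hηM hμ hμ1
    (by funext n; rw [resFun_apply]; exact hμM n)
  refine ⟨χ, hχ, hχM, ?_⟩
  unfold detOrder
  rw [hχdet, hμord]
  exact coprime_orderOf_detChar' M hk hhom hθc

/-- uniqueness of the canonical extension -/
theorem canonical_extension_unique {χ χ' : G → ℂ} (hχ : IsIrrCharacter G χ)
    (hχ' : IsIrrCharacter G χ') (hres : resFun M χ' = resFun M χ)
    (hirr : IsIrrCharacter M (resFun M χ)) {d : ℕ} (hd : χ 1 = d) (hpd : ¬ p ∣ d)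
    (ho : (detOrder χ).Coprime p) (ho' : (detOrder χ').Coprime p) : χ' = χ := by
  classical
  letI : Fintype G := Fintype.ofFinite G
  letI : Fintype M := Fintype.ofFinite M
  have hχc := IsIrrCharacter.isCharacter hχ
  have hχc' := IsIrrCharacter.isCharacter hχ'
  have hθc : IsCharacter M (resFun M χ) := IsIrrCharacter.isCharacter hirr
  have hlam := detChar_isCharacter hθc
  have hinv : ∀ g : G, conjFun M g (resFun M χ) = resFun M χ :=
    fun g => conjFun_resFun M (IsCharacter.isClassFunction hχc) g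
  have hinvlam : ∀ (g : G) (n : M),
      detChar (resFun M χ) ⟨g * n * g⁻¹, hM.conj_mem (n : G) n.2 g⟩ = detChar (resFun M χ) n := by
    intro g n
    have h1 := detChar_conjFun M g hθc
    rw [hinv g] at h1
    exact (congrFun h1 n).symm
  have hcop := coprime_orderOf_detChar M hk hhom hθc
  obtain ⟨μ, _, hμuniq⟩ := Cfsg.Agent.S0865.result M (detChar (resFun M χ)) hlam hinvlam hcop
  have hidx : ∀ {n : ℕ}, n.Coprime p → Nat.Coprime M.index n := by
    intro n hn
    rw [hk]
    exact Nat.Coprime.pow_left k hn.symm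
  have h1 : detChar χ = μ := by
    apply hμuniq _ (detChar_isCharacter hχc)
    · intro n
      have := congrFun (detChar_resFun M hχc) n
      rw [resFun_apply] at this
      exact this.symm
    · exact hidx ho
  have h2 : detChar χ' = μ := by
    apply hμuniq _ (detChar_isCharacter hχc')
    · intro n
      have := congrFun (detChar_resFun M hχc') n
      rw [resFun_apply, hres] at this
      exact this.symm
    · exact hidx ho'
  have hd' : resFun M χ 1 = d := by rw [resFun_apply]; exact hd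
  have hcop' : Nat.Coprime M.index d := by
    rw [hk]
    exact Nat.Coprime.pow_left k ((Nat.Prime.coprime_iff_not_dvd hp.out).2 hpd)
  have hμc : IsCharacter G μ ∧ μ 1 = 1 := h1 ▸ detChar_isCharacter hχc
  have hu := existsUnique_extension_with_det M hirr hd' hcop' hχ rfl hμc.1 hμc.2
    (by rw [← h1, detChar_resFun M hχc])
  exact hu.unique ⟨hχ', hres, h2⟩ ⟨hχ, rfl, h1⟩

omit hhom hp in
/-- characters fixed by a Sylow `p`-subgroup are `G`-invariant when `|G:M|` is a `p`-power -/
theorem smul_eq_of_sylow_fixed (hpp : p.Prime) (P : Sylow p G) (θ : IrrCharacter M)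
    (hP : ∀ g : P, (irrConjMulAction M).smul (g : G) θ = θ) (g : G) :
    (irrConjMulAction M).smul g θ = θ := by
  letI : MulAction G (IrrCharacter M) := irrConjMulAction M
  have hsup : M ⊔ (P : Subgroup G) = ⊤ := by
    rw [← Subgroup.index_eq_one]
    have h1 : (M ⊔ (P : Subgroup G)).index ∣ p ^ k := hk ▸ Subgroup.index_dvd_of_le le_sup_left
    have h2 : (M ⊔ (P : Subgroup G)).index ∣ (P : Subgroup G).index :=
      Subgroup.index_dvd_of_le le_sup_right
    obtain ⟨j, _, hj⟩ := (Nat.dvd_prime_pow hpp).mp h1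
    rcases Nat.eq_zero_or_pos j with rfl | hjpos
    · rw [hj, pow_zero]
    · exfalso
      haveI : Fact p.Prime := ⟨hpp⟩
      apply P.not_dvd_index
      refine dvd_trans ?_ h2
      rw [hj]
      exact dvd_pow_self p hjpos.ne'
  have hle : M ⊔ (P : Subgroup G) ≤ MulAction.stabilizer G θ := by
    apply sup_le
    · intro m hm
      rw [MulAction.mem_stabilizer_iff]
      apply Subtype.ext
      show conjFun M m⁻¹ θ.1 = θ.1
      exact conjFun_of_mem M (IsCharacter.isClassFunction (IsIrrCharacter.isCharacter θ.2))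
        (M.inv_mem hm)
    · intro x hx
      rw [MulAction.mem_stabilizer_iff]
      exact hP ⟨x, hx⟩
  have : g ∈ MulAction.stabilizer G θ := hle (hsup ▸ Subgroup.mem_top g)
  exact MulAction.mem_stabilizer_iff.mp this

/-- an irreducible character of `G` of `p'`-degree restricts irreducibly to `M = O^p(G)` -/
theorem isIrrCharacter_resFun_of_not_dvd {χ : G → ℂ} (hχ : IsIrrCharacter G χ)
    (hpd : ¬ p ∣ charDegree χ) : IsIrrCharacter M (resFun M χ) := by
  classical
  letI : Fintype G := Fintype.ofFinite G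
  letI : Fintype M := Fintype.ofFinite M
  letI : Fintype (IrrCharacter M) := fintypeIrr M
  letI : MulAction G (IrrCharacter M) := irrConjMulAction M
  have hχc := IsIrrCharacter.isCharacter hχ
  have hχcf := IsCharacter.isClassFunction hχc
  obtain ⟨m, hm, hcoef⟩ := IsCharacter.exists_decomp_sum (isCharacter_resFun M hχc)
  have hχ1 := Cfsg.Agent.Lib.Helper24.irr_apply_one (⟨χ, hχ⟩ : IrrCharacter G)
  change χ 1 = _ at hχ1
  -- degree formula
  have hdegsum : charDegree χ = ∑ ψ : IrrCharacter M, m ψ * charDegree ψ.1 := by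
    have h1 := congrFun hm 1
    rw [resFun_apply, Finset.sum_apply] at h1
    change χ 1 = _ at h1
    rw [hχ1] at h1
    have h2 : ∀ ψ : IrrCharacter M, (m ψ • (ψ : M → ℂ)) 1 = ((m ψ * charDegree ψ.1 : ℕ) : ℂ) := by
      intro ψ
      rw [Pi.smul_apply, Cfsg.Agent.Lib.Helper24.irr_apply_one ψ, nsmul_eq_mul]
      push_cast
      rfl
    rw [Finset.sum_congr rfl (fun ψ _ => h2 ψ), ← Nat.cast_sum] at h1
    exact_mod_cast h1
  -- invariance of multiplicities
  have hminv : ∀ (g : G) (ψ : IrrCharacter M), m (g • ψ) = m ψ := by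
    intro g ψ
    have h1 := hcoef (g • ψ)
    have h2 : ((g • ψ : IrrCharacter M) : M → ℂ) = conjFun M g⁻¹ ψ.1 := rfl
    rw [h2, classInner_resFun_conjFun M hχcf, hcoef ψ] at h1
    exact_mod_cast h1.symm
  have hdinv : ∀ (g : G) (ψ : IrrCharacter M), charDegree (g • ψ).1 = charDegree ψ.1 := by
    intro g ψ
    show charDegree (conjFun M g⁻¹ ψ.1) = charDegree ψ.1
    unfold charDegree
    rw [conjFun_apply_one]
  obtain ⟨P⟩ : Nonempty (Sylow p G) := inferInstance
  have hA := sum_modEq_sum_fixedPoints (p := p) (P := P) (X := IrrCharacter M) P.2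
    (fun ψ => m ψ * charDegree ψ.1) (fun g ψ => by
      show m ((g : G) • ψ) * charDegree ((g : G) • ψ).1 = _
      rw [hminv, hdinv])
  rw [← hdegsum] at hA
  -- a fixed constituent of `p'`-degree
  obtain ⟨θ, hθfix, hθnd⟩ : ∃ θ : IrrCharacter M, (∀ g : P, g • θ = θ) ∧
      ¬ p ∣ m θ * charDegree θ.1 := by
    by_contra hcon
    push Not at hcon
    apply hpd
    have h1 : p ∣ ∑ ψ ∈ Finset.univ.filter (fun ψ : IrrCharacter M => ∀ g : P, g • ψ = ψ),
        m ψ * charDegree ψ.1 := by
      apply Finset.dvd_sum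
      intro ψ hψ
      rw [Finset.mem_filter] at hψ
      exact hcon ψ hψ.2
    exact (Nat.modEq_zero_iff_dvd.mp (hA.trans (Nat.modEq_zero_iff_dvd.mpr h1)))
  have hθinv : ∀ g : G, g • θ = θ := smul_eq_of_sylow_fixed M hk hp.out P θ hθfix
  have hθinv' : ∀ g : G, conjFun M g θ.1 = θ.1 := by
    intro g
    have := congrArg Subtype.val (hθinv g⁻¹)
    change conjFun M g⁻¹⁻¹ θ.1 = θ.1 at this
    rwa [inv_inv] at this
  have hm0 : m θ ≠ 0 := by
    rintro h0
    exact hθnd (by rw [h0, zero_mul]; exact dvd_zero p)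
  have hdθ : ¬ p ∣ charDegree θ.1 := fun h => hθnd (dvd_mul_of_dvd_right h _)
  obtain ⟨η, hη, hηM⟩ := exists_extension_of_pgroup_quotient M hk hhom θ.2 hθinv'
    (Cfsg.Agent.Lib.Helper24.irr_apply_one θ) hdθ
  have hηirr : IsIrrCharacter M (resFun M η) := hηM ▸ θ.2
  have hne : classInner (resFun M χ) (resFun M η) ≠ 0 := by
    rw [hηM, hcoef θ]
    exact_mod_cast hm0
  obtain ⟨hβ, hβη, hβ1⟩ := (gallagher_avg M hη hηirr hχ).1 hne
  set β := avgMulConj M χ η with hβdef
  have hβconst := (apply_mul_of_indFun_one_ne_zero M hβ hβ1).2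
  have hβM : ∀ n : M, β n = β 1 := by
    intro n
    have := hβconst n 1
    rwa [mul_one] at this
  -- β(1) is a power of p
  obtain ⟨n, ρ, hirr, hρ⟩ := hβ
  haveI := hirr
  have hfr : ∀ x ∈ M, ρ.character x = (Module.finrank ℂ (Fin n → ℂ) : ℂ) := by
    intro x hx
    rw [hρ, hβM ⟨x, hx⟩, ← hρ, Representation.char_one]
  have hdvd := Cfsg.Agent.Lib.Helper24.finrank_dvd_index_of_le_ker M ρ hfr
  rw [Module.finrank_fin_fun, hk] at hdvd
  obtain ⟨i, _, hi⟩ := (Nat.dvd_prime_pow hp.out).mp hdvd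
  have hβ1n : β 1 = (n : ℂ) := by
    rw [← hρ, Representation.char_one, Module.finrank_fin_fun]
  have hη1 : η 1 = (charDegree θ.1 : ℂ) := by
    have := congrFun hηM 1
    rw [resFun_apply] at this
    change η 1 = _ at this
    rw [this, Cfsg.Agent.Lib.Helper24.irr_apply_one θ]
  have hprod : charDegree χ = n * charDegree θ.1 := by
    have h1 := congrFun hβη 1
    rw [Pi.mul_apply, hβ1n, hη1, hχ1] at h1
    exact_mod_cast h1.symm
  have hn1 : n = 1 := by
    rcases Nat.eq_zero_or_pos i with rfl | hipos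
    · rw [hi, pow_zero]
    · exfalso
      apply hpd
      rw [hprod, hi]
      exact dvd_mul_of_dvd_left (dvd_pow_self p hipos.ne') _
  have hres : resFun M χ = θ.1 := by
    funext x
    rw [resFun_apply, ← hβη, Pi.mul_apply, hβM x, hβ1n, hn1, Nat.cast_one, one_mul]
    have := congrFun hηM x
    rw [resFun_apply] at this
    exact this
  rw [hres]
  exact θ.2

/-- `|M| ≡ ∑ χ(1)²` over the irreducible characters of `G` of `p'`-degree and `p'`-determinantal
order, for `M = O^p(G)` -/
theorem card_modEq_sum_canonical [Fintype (IrrCharacter G)]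
    [DecidablePred fun χ : IrrCharacter G => ¬ p ∣ charDegree χ.1 ∧ ¬ p ∣ detOrder χ.1] :
    Nat.card M ≡ ∑ χ ∈ Finset.univ.filter
      (fun χ : IrrCharacter G => ¬ p ∣ charDegree χ.1 ∧ ¬ p ∣ detOrder χ.1),
        charDegree χ.1 ^ 2 [MOD p] := by
  classical
  letI : Fintype G := Fintype.ofFinite G
  letI : Fintype M := Fintype.ofFinite M
  letI : Fintype (IrrCharacter M) := fintypeIrr M
  letI : MulAction G (IrrCharacter M) := irrConjMulAction M
  obtain ⟨P⟩ : Nonempty (Sylow p G) := inferInstance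
  have hdinv : ∀ (g : G) (ψ : IrrCharacter M), charDegree (g • ψ).1 = charDegree ψ.1 := by
    intro g ψ
    show charDegree (conjFun M g⁻¹ ψ.1) = charDegree ψ.1
    unfold charDegree
    rw [conjFun_apply_one]
  have hA := sum_modEq_sum_fixedPoints (p := p) (P := P) (X := IrrCharacter M) P.2
    (fun θ => charDegree θ.1 ^ 2) (fun g θ => by
      show charDegree ((g : G) • θ).1 ^ 2 = _
      rw [hdinv])
  have hsum1 : (∑ θ : IrrCharacter M, charDegree θ.1 ^ 2) = Nat.card M := by
    rw [Cfsg.Agent.Lib.Helper24.sum_charDegree_sq, Nat.card_eq_fintype_card]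
  rw [hsum1] at hA
  -- drop the terms with `p ∣ θ(1)`
  set B : Finset (IrrCharacter M) := Finset.univ.filter
    (fun θ : IrrCharacter M => (∀ g : G, g • θ = θ) ∧ ¬ p ∣ charDegree θ.1) with hB
  have hC : (∑ θ ∈ Finset.univ.filter (fun θ : IrrCharacter M => ∀ g : P, g • θ = θ),
        charDegree θ.1 ^ 2) ≡ ∑ θ ∈ B, charDegree θ.1 ^ 2 [MOD p] := by
    have hBeq : B = (Finset.univ.filter (fun θ : IrrCharacter M => ∀ g : P, g • θ = θ)).filter
        (fun θ => ¬ p ∣ charDegree θ.1) := by
      ext θ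
      simp only [hB, Finset.mem_filter, Finset.mem_univ, true_and]
      constructor
      · rintro ⟨h1, h2⟩
        exact ⟨fun g => h1 g, h2⟩
      · rintro ⟨h1, h2⟩
        exact ⟨smul_eq_of_sylow_fixed M hk hp.out P θ h1, h2⟩
    rw [hBeq]
    conv_rhs => rw [Finset.sum_filter]
    unfold Nat.ModEq
    rw [Finset.sum_nat_mod, Finset.sum_nat_mod (f := fun θ : IrrCharacter M =>
      if ¬ p ∣ charDegree θ.1 then charDegree θ.1 ^ 2 else 0)]
    congr 1
    apply Finset.sum_congr rfl
    intro θ _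
    by_cases h1 : p ∣ charDegree θ.1
    · rw [if_neg (not_not.mpr h1), Nat.zero_mod]
      exact Nat.mod_eq_zero_of_dvd (dvd_pow h1 two_ne_zero)
    · rw [if_pos h1]
  have hdres : ∀ χ : G → ℂ, charDegree (resFun M χ) = charDegree χ := fun χ => rfl
  suffices hbij : ∑ χ ∈ Finset.univ.filter
      (fun χ : IrrCharacter G => ¬ p ∣ charDegree χ.1 ∧ ¬ p ∣ detOrder χ.1), charDegree χ.1 ^ 2 =
      ∑ θ ∈ B, charDegree θ.1 ^ 2 by
    rw [hbij]
    exact hA.trans hC
  -- the bijection
  apply Finset.sum_bij (fun (χ : IrrCharacter G) hχ => (⟨resFun M χ.1,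
    isIrrCharacter_resFun_of_not_dvd M hk hhom χ.2 (Finset.mem_filter.mp hχ).2.1⟩ : IrrCharacter M))
  · intro χ hχ
    rw [hB, Finset.mem_filter]
    refine ⟨Finset.mem_univ _, ?_, ?_⟩
    · intro g
      apply Subtype.ext
      show conjFun M g⁻¹ (resFun M χ.1) = resFun M χ.1
      exact conjFun_resFun M (IsCharacter.isClassFunction (IsIrrCharacter.isCharacter χ.2)) _
    · exact (Finset.mem_filter.mp hχ).2.1
  · intro χ hχ χ' hχ' heq
    have h1 : resFun M χ.1 = resFun M χ'.1 := congrArg Subtype.val heq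
    have hχm := (Finset.mem_filter.mp hχ).2
    have hχm' := (Finset.mem_filter.mp hχ').2
    apply Subtype.ext
    exact canonical_extension_unique M hk hhom χ'.2 χ.2 h1
      (isIrrCharacter_resFun_of_not_dvd M hk hhom χ'.2 hχm'.1)
      (Cfsg.Agent.Lib.Helper24.irr_apply_one χ') hχm'.1
      ((Nat.Prime.coprime_iff_not_dvd hp.out).2 hχm'.2).symm
      ((Nat.Prime.coprime_iff_not_dvd hp.out).2 hχm.2).symm
  · intro θ hθ
    rw [hB, Finset.mem_filter] at hθ
    have hθinv' : ∀ g : G, conjFun M g θ.1 = θ.1 := by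
      intro g
      have := congrArg Subtype.val (hθ.2.1 g⁻¹)
      change conjFun M g⁻¹⁻¹ θ.1 = θ.1 at this
      rwa [inv_inv] at this
    obtain ⟨χ, hχ, hχM, hχo⟩ := exists_canonical_extension M hk hhom θ.2 hθinv'
      (Cfsg.Agent.Lib.Helper24.irr_apply_one θ) hθ.2.2
    have hdeg : charDegree χ = charDegree θ.1 := by rw [← hdres χ, hχM]
    refine ⟨⟨χ, hχ⟩, ?_, ?_⟩
    · rw [Finset.mem_filter]
      refine ⟨Finset.mem_univ _, ?_, ?_⟩
      · show ¬ p ∣ charDegree χ
        rw [hdeg]
        exact hθ.2.2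
      · exact (Nat.Prime.coprime_iff_not_dvd hp.out).1 hχo.symm
    · exact Subtype.ext hχM
  · intro χ _
    rfl

end

/-- homs `O^p(G) → ℂˣ` have `p'`-order, for `O^p(G)` the subgroup generated by the `p'`-elements -/
theorem coprime_orderOf_hom_pResidual {G : Type*} [Group G] [Finite G] {p : ℕ} [hp : Fact p.Prime]
    (φ : Cfsg.pResidual p G →* ℂˣ) : (orderOf φ).Coprime p := by
  by_contra hcop
  have hpow : ∀ x : Cfsg.pResidual p G, φ x ^ Nat.card (Cfsg.pResidual p G) = 1 := by
    intro x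
    rw [← map_pow, pow_card_eq_one', map_one]
  obtain ⟨ψ, hψp, hψ1⟩ := exists_pow_prime_eq_one (A := Cfsg.pResidual p G →* ℂˣ) hp.out φ
    (Nat.card (Cfsg.pResidual p G)) Nat.card_pos (MonoidHom.ext fun x => hpow x) hcop
  have hψp' : ∀ w : Cfsg.pResidual p G, ψ w ^ p = 1 := fun w => DFunLike.congr_fun hψp w
  apply hψ1
  ext ⟨x, hx⟩
  rw [MonoidHom.one_apply]
  congr 1
  unfold Cfsg.pResidual at hx
  induction hx using Subgroup.closure_induction with
  | mem y hy =>
    have h1 : orderOf (ψ ⟨y, Subgroup.subset_closure hy⟩) ∣ p := orderOf_dvd_of_pow_eq_one (hψp' _)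
    have h2 : orderOf (ψ ⟨y, Subgroup.subset_closure hy⟩) ∣ orderOf y := by
      apply orderOf_dvd_of_pow_eq_one
      rw [← map_pow]
      have : (⟨y, Subgroup.subset_closure hy⟩ : Cfsg.pResidual p G) ^ orderOf y = 1 := by
        apply Subtype.ext
        simp [pow_orderOf_eq_one]
      rw [this, map_one]
    have h3 := Nat.eq_one_of_dvd_coprimes hy h2 h1
    exact orderOf_eq_one_iff.mp h3
  | one => exact map_one ψ
  | mul a b ha hb iha ihb =>
    have : (⟨a * b, Subgroup.mul_mem _ ha hb⟩ : Cfsg.pResidual p G) = ⟨a, ha⟩ * ⟨b, hb⟩ := rfl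
    rw [this, map_mul, iha, ihb, one_mul]
  | inv a ha iha =>
    have : (⟨a⁻¹, Subgroup.inv_mem _ ha⟩ : Cfsg.pResidual p G) = ⟨a, ha⟩⁻¹ := rfl
    rw [this, map_inv, iha, inv_one]

end Cfsg.Agent.Lib.Helper23
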