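/-
Helper23: DHB market (S3616 core, planner helper7) leaf DIV (step F): if `l = m` then `p ∣ k - l`.
`frob` with `β = γ = 0` (points of `X`, `Xc X` outside `p • ZMod n`) gives `(y y*)^((p-1)/2) y = 0`; `alg` with `l = m`
gives `2 (y y*) y = 2 (k - m) y + const • A`, hence `2^j (y y*)^j y = (2 (k-m))^j y + const • A`; compare coefficients.
-/
import Mathlib
import Cfsg.Agent.Lib.Helper7.DHBDefs
import Cfsg.Agent.Lib.Helper7.DHBALG
import Cfsg.Agent.Lib.Helper7.DHBFROB

set_option autoImplicit false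

namespace Cfsg.Agent.Lib.Helper23.DHBDIV

open Finset Cfsg.Agent.Lib.Helper7.DHB

variable {n : ℕ} [NeZero n] {X Y : Finset (ZMod n)} {k l m : ℕ}

/-- the "Frobenius twist" of a `0/1` element is supported on `p • ZMod n` -/
theorem coeff_twist_eq_zero {p : ℕ} (S : Finset (ZMod n)) (j : ZMod n) (hj : ¬ ∃ t : ZMod n, j = p • t) :
    (∑ i ∈ S, AddMonoidAlgebra.single (p • i) (1 : ZMod p)).coeff j = 0 := by
  classical
  rw [AddMonoidAlgebra.coeff_sum, Finsupp.finsetSum_apply]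
  apply Finset.sum_eq_zero
  intro i _
  rw [AddMonoidAlgebra.coeff_single, Finsupp.single_apply, if_neg]
  intro hij
  exact hj ⟨i, hij.symm⟩

/-- coefficient of `α • 1 + β • ind S + γ • ind univ` at a point `j ≠ 0` -/
theorem coeff_span {p : ℕ} (S : Finset (ZMod n)) (α β γ : ZMod p) (j : ZMod n) (hj : j ≠ 0) :
    (α • (1 : AddMonoidAlgebra (ZMod p) (ZMod n)) + β • ind (ZMod p) S + γ • ind (ZMod p) univ).coeff j =
      β * (if j ∈ S then 1 else 0) + γ := by
  classical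
  rw [AddMonoidAlgebra.coeff_add, AddMonoidAlgebra.coeff_add, Finsupp.add_apply, Finsupp.add_apply,
    AddMonoidAlgebra.coeff_smul, AddMonoidAlgebra.coeff_smul, AddMonoidAlgebra.coeff_smul,
    Finsupp.smul_apply, Finsupp.smul_apply, Finsupp.smul_apply, Cfsg.Agent.Lib.Helper7.DHBALG.coeff_ind,
    Cfsg.Agent.Lib.Helper7.DHBALG.coeff_ind,
    AddMonoidAlgebra.one_def, AddMonoidAlgebra.coeff_single, Finsupp.single_apply, if_neg (Ne.symm hj)]
  rw [if_pos (Finset.mem_univ j), smul_zero, zero_add, smul_eq_mul, smul_eq_mul, mul_one]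

/-- in `frob`, `β = γ = 0` as soon as `X` and `Xc X` have points outside `p • ZMod n` -/
theorem beta_gamma_zero {p : ℕ} (h : Hyp n X Y k l m) (hX : NotInMul p X) (hX' : NotInMul p (Xc X))
    (α β γ : ZMod p)
    (hf : (∑ i ∈ X, AddMonoidAlgebra.single (p • i) (1 : ZMod p)) =
        α • (1 : AddMonoidAlgebra (ZMod p) (ZMod n)) + β • ind (ZMod p) X + γ • ind (ZMod p) univ) :
    β = 0 ∧ γ = 0 := by
  classical
  obtain ⟨i, hiX, hi⟩ := hX
  obtain ⟨j, hjX, hj⟩ := hX'
  have hi0 : i ≠ 0 := fun h0 => h.zero_notMem (h0 ▸ hiX)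
  have hj' : j ≠ 0 ∧ j ∉ X := by
    unfold Xc at hjX
    rw [Finset.mem_erase, Finset.mem_compl] at hjX
    exact hjX
  have h1 := congrArg (fun z => z.coeff i) hf
  have h2 := congrArg (fun z => z.coeff j) hf
  beta_reduce at h1 h2
  rw [coeff_twist_eq_zero X i hi, coeff_span X α β γ i hi0, if_pos hiX] at h1
  rw [coeff_twist_eq_zero X j hj, coeff_span X α β γ j hj'.1, if_neg hj'.2] at h2
  have hγ : γ = 0 := by simpa using h2.symm
  refine ⟨?_, hγ⟩
  rw [hγ] at h1
  simpa using h1.symm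

/-- **DIV** (step F): if `l = m` then `p ∣ k - l`. -/
theorem dvd_sub {p : ℕ} [Fact p.Prime] (hp2 : p ≠ 2) (hpn : p ∣ n) (h : Hyp n X Y k l m) (hlm : l = m)
    (hX : NotInMul p X) (hX' : NotInMul p (Xc X)) (hY : Y.Nonempty) (hY' : (Yᶜ).Nonempty) :
    (p : ℤ) ∣ (k : ℤ) - l := by
  classical
  obtain ⟨α, β, γ, hf1, hf2⟩ := Cfsg.Agent.Lib.Helper7.DHBFROB.frob (p := p) hp2 h
  obtain ⟨hβ, hγ⟩ := beta_gamma_zero h hX hX' α β γ hf1
  rw [hβ, hγ, zero_smul, zero_smul, add_zero] at hf2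
  obtain ⟨hE1, hE2⟩ := Cfsg.Agent.Lib.Helper7.DHBALG.alg (ZMod p) h
  have hxA := Cfsg.Agent.Lib.Helper7.DHBALG.ind_mul_univ (R := ZMod p) X
  have hyA := Cfsg.Agent.Lib.Helper7.DHBALG.ind_mul_univ (R := ZMod p) Y
  have hysA := Cfsg.Agent.Lib.Helper7.DHBALG.ind_mul_univ (R := ZMod p) (Y.image Neg.neg)
  rw [Finset.card_image_of_injective _ neg_injective] at hysA
  subst hlm
  rw [sub_self, zero_smul, add_zero] at hE1
  rw [sub_self, zero_smul, zero_add] at hE2
  -- abbreviations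
  set x := ind (ZMod p) X with hx
  set y := ind (ZMod p) Y with hy
  set ys := ind (ZMod p) (Y.image Neg.neg) with hys
  set A := ind (ZMod p) (univ : Finset (ZMod n)) with hA
  rw [Algebra.smul_def, Algebra.smul_def, mul_one] at hE1
  rw [Algebra.smul_def] at hE2
  rw [Algebra.smul_def] at hxA hyA hysA
  rw [map_sub] at hE1
  set C := algebraMap (ZMod p) (AddMonoidAlgebra (ZMod p) (ZMod n)) with hC
  -- the basic step
  have hstep : 2 * ((y * ys) * y) = C (2 * ((k : ZMod p) - l)) * y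
      + C (2 * (l : ZMod p) * (Y.card : ZMod p) - (l : ZMod p) * (X.card : ZMod p)) * A := by
    simp only [map_mul, map_sub, map_ofNat]
    linear_combination (2 * y) * hE1 - x * hE2 + (2 * C (l : ZMod p)) * hyA - C (l : ZMod p) * hxA
  -- induction
  have hind : ∀ j : ℕ, ∃ b : ZMod p, 2 ^ j * ((y * ys) ^ j * y) = C ((2 * ((k : ZMod p) - l)) ^ j) * y + C b * A := by
    intro j
    induction j with
    | zero => exact ⟨0, by simp⟩
    | succ j ih =>
      obtain ⟨b, hb⟩ := ih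
      refine ⟨(2 * ((k : ZMod p) - l)) ^ j *
        (2 * (l : ZMod p) * (Y.card : ZMod p) - (l : ZMod p) * (X.card : ZMod p)) +
          b * 2 * (Y.card : ZMod p) * (Y.card : ZMod p), ?_⟩
      simp only [map_mul, map_sub, map_add, map_pow, map_ofNat] at hb hstep ⊢
      linear_combination (2 * (y * ys)) * hb + (2 * (C (k : ZMod p) - C (l : ZMod p))) ^ j * hstep
        + (C b * 2 * y) * hysA + (C b * 2 * C (Y.card : ZMod p)) * hyA
  obtain ⟨b, hb⟩ := hind ((p - 1) / 2)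
  rw [hf2, mul_zero] at hb
  -- coefficients
  obtain ⟨i, hi⟩ := hY
  obtain ⟨j, hj⟩ := hY'
  rw [Finset.mem_compl] at hj
  rw [← Algebra.smul_def, ← Algebra.smul_def] at hb
  have h1 := congrArg (fun z => z.coeff i) hb
  have h2 := congrArg (fun z => z.coeff j) hb
  simp only [AddMonoidAlgebra.coeff_add, Finsupp.add_apply, AddMonoidAlgebra.coeff_smul, Finsupp.smul_apply,
    hy, hA, Cfsg.Agent.Lib.Helper7.DHBALG.coeff_ind, if_pos hi, if_neg hj, Finset.mem_univ, if_true,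
    AddMonoidAlgebra.coeff_zero, Finsupp.zero_apply, smul_eq_mul, mul_one, mul_zero, zero_add] at h1 h2
  rw [← h2, add_zero] at h1
  have h3 : (2 : ZMod p) * ((k : ZMod p) - l) = 0 := pow_eq_zero_iff (M₀ := ZMod p) (by
    have := (Fact.out : p.Prime).two_le
    omega) |>.mp h1.symm
  have h2ne : (2 : ZMod p) ≠ 0 := by
    intro h20
    have : ((2 : ℕ) : ZMod p) = 0 := by exact_mod_cast h20
    rw [ZMod.natCast_eq_zero_iff] at this
    have hp := (Fact.out : p.Prime)
    have := (Nat.prime_dvd_prime_iff_eq hp Nat.prime_two).mp this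
    exact hp2 this
  have h4 : ((k : ZMod p) - l) = 0 := (mul_eq_zero.mp h3).resolve_left h2ne
  have h5 : (((k : ℤ) - (l : ℤ) : ℤ) : ZMod p) = 0 := by push_cast; exact h4
  exact (ZMod.intCast_zmod_eq_zero_iff_dvd _ _).mp h5

end Cfsg.Agent.Lib.Helper23.DHBDIV
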