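/-
Helper23: DHB market (S3616 core, planner helper7) leaf SQ (step C): if `X ∖ P` and `Y` are `P`-invariant
(`P = {t | p • t = 0}`) then `X ∩ P = ∅` or `X ⊇ P ∖ 0`.  Pure counting: `p ∣ m`, `p ∣ |Y|`, `p ∣ |X ∖ P|`, so
`rep X_P X_P z ≡ 0 (mod p)` and `< p`, hence `= 0`, for `z ∈ P ∖ 0 ∖ X`; so `X_P ∪ {0}` is closed under addition, is
invariant under translation by any of its non-zero elements, and has `0` or `≥ p` non-zero elements.
-/
import Mathlib
import Cfsg.Agent.Lib.Helper7.DHBDefs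

set_option autoImplicit false
set_option linter.unusedSectionVars false
set_option linter.unusedVariables false

namespace Cfsg.Agent.Lib.Helper23.DHBSQ

open Finset Cfsg.Agent.Lib.Helper7.DHB

variable {n : ℕ} [NeZero n] {X Y : Finset (ZMod n)} {k l m : ℕ}

/-- a finite set carrying a fixed-point-free self-map of order `p` has cardinality divisible by `p` -/
theorem card_dvd_of_iterate {α : Type*} [DecidableEq α] {p : ℕ} [Fact p.Prime] (S : Finset α) (f : α → α)
    (hS : ∀ s ∈ S, f s ∈ S) (hp : ∀ s ∈ S, f^[p] s = s) (hfix : ∀ s ∈ S, f s ≠ s) : p ∣ S.card := by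
  let F : Function.End ↥S := fun s => ⟨f s.1, hS s.1 s.2⟩
  have hpow : ∀ j : ℕ, ∀ s : ↥S, ((F ^ j) s).1 = f^[j] s.1 := by
    intro j
    induction j with
    | zero => intro s; rfl
    | succ j ih =>
      intro s
      rw [pow_succ, Function.iterate_succ_apply]
      exact ih (F s)
  have hF : F ^ p ^ 1 = 1 := by
    rw [pow_one]
    funext s
    apply Subtype.ext
    rw [hpow]
    exact hp s.1 s.2
  have hmod := Equiv.Perm.card_fixedPoints_modEq (p := p) (n := 1) hF
  have hempty : IsEmpty (Function.fixedPoints F) :=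
    ⟨fun s => hfix s.1.1 s.1.2 (congrArg Subtype.val s.2)⟩
  rw [Fintype.card_eq_zero_iff.mpr hempty, Fintype.card_coe] at hmod
  exact Nat.modEq_zero_iff_dvd.mp hmod

/-- a generator of `P` -/
def gen (n p : ℕ) : ZMod n := ((n / p : ℕ) : ZMod n)

theorem nsmul_gen {p : ℕ} (hpn : p ∣ n) : p • gen n p = 0 := by
  unfold gen
  rw [nsmul_eq_mul, ← Nat.cast_mul, Nat.mul_div_cancel' hpn, ZMod.natCast_self]

theorem gen_ne_zero {p : ℕ} (hp : 2 ≤ p) (hpn : p ∣ n) : gen n p ≠ 0 := by
  unfold gen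
  intro h0
  rw [ZMod.natCast_eq_zero_iff] at h0
  have hn : 0 < n := Nat.pos_of_ne_zero (NeZero.ne n)
  have h1 : 0 < n / p := Nat.div_pos (Nat.le_of_dvd hn hpn) (by omega)
  have h2 : n / p < n := Nat.div_lt_self hn (by omega)
  exact absurd (Nat.le_of_dvd h1 h0) (by omega)

/-- a set invariant under translation by a non-zero element of `P` has cardinality divisible by `p` -/
theorem card_dvd_of_shift {p : ℕ} [Fact p.Prime] (S : Finset (ZMod n)) (g : ZMod n) (hg : p • g = 0)
    (hg0 : g ≠ 0) (hS : ∀ s ∈ S, s + g ∈ S) : p ∣ S.card := by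
  classical
  refine card_dvd_of_iterate S (fun s => s + g) hS ?_ ?_
  · intro s _
    rw [add_right_iterate, hg]
    simp
  · intro s _ hs
    exact hg0 (by simpa using hs)

theorem card_dvd_of_pinv {p : ℕ} [Fact p.Prime] (hpn : p ∣ n) (S : Finset (ZMod n)) (hS : PInv p S) :
    p ∣ S.card :=
  card_dvd_of_shift S (gen n p) (nsmul_gen hpn) (gen_ne_zero (Fact.out : p.Prime).two_le hpn)
    (fun s hs => hS s hs _ (nsmul_gen hpn))

/-- `dif Y Y i = |Y|` for `i ∈ P` when `Y` is `P`-invariant -/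
theorem dif_eq_card {p : ℕ} (hY : PInv p Y) (i : ZMod n) (hi : p • i = 0) : dif Y Y i = Y.card := by
  classical
  unfold dif
  symm
  refine Finset.card_bij (fun a _ => (a, a + i)) ?_ ?_ ?_
  · intro a ha
    rw [Finset.mem_filter, Finset.mem_product]
    exact ⟨⟨ha, hY a ha i hi⟩, by simp⟩
  · intro a _ b _ hab
    exact (Prod.ext_iff.mp hab).1
  · rintro ⟨a, b⟩ hq
    rw [Finset.mem_filter, Finset.mem_product] at hq
    refine ⟨a, hq.1.1, ?_⟩
    have : b = a + i := by rw [← hq.2]; ring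
    rw [this]

/-- the part of `X` inside `P` -/
def XP (p : ℕ) (X : Finset (ZMod n)) : Finset (ZMod n) := X.filter (fun i => p • i = 0)

/-- the part of `X` outside `P` -/
def Xoff (p : ℕ) (X : Finset (ZMod n)) : Finset (ZMod n) := X.filter (fun i => p • i ≠ 0)

theorem mem_XP {p : ℕ} {i : ZMod n} : i ∈ XP p X ↔ i ∈ X ∧ p • i = 0 := by
  unfold XP; rw [Finset.mem_filter]

theorem mem_Xoff {p : ℕ} {i : ZMod n} : i ∈ Xoff p X ↔ i ∈ X ∧ p • i ≠ 0 := by
  unfold Xoff; rw [Finset.mem_filter]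

/-- `rep X X i = |X ∖ P| + rep X_P X_P i` for `i ∈ P` -/
theorem rep_split {p : ℕ} (hneg : ∀ i ∈ X, -i ∈ X) (hX : PInvOff p X) (i : ZMod n) (hi : p • i = 0) :
    rep X X i = (Xoff p X).card + rep (XP p X) (XP p X) i := by
  classical
  unfold rep
  rw [← Finset.card_filter_add_card_filter_not (s := (X ×ˢ X).filter (fun q => q.1 + q.2 = i))
    (fun q => p • q.1 = 0), add_comm]
  congr 1
  · symm
    refine Finset.card_bij (fun a _ => (a, i - a)) ?_ ?_ ?_
    · intro a ha
      rw [mem_Xoff] at ha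
      rw [Finset.mem_filter, Finset.mem_filter, Finset.mem_product]
      refine ⟨⟨⟨ha.1, ?_⟩, by simp⟩, ha.2⟩
      have h1 : -a ∈ X := hneg a ha.1
      have h2 : p • (-a) ≠ 0 := by
        rw [smul_neg, neg_ne_zero]; exact ha.2
      have := hX (-a) h1 h2 i hi
      rw [neg_add_eq_sub] at this
      exact this
    · intro a _ b _ hab
      exact (Prod.ext_iff.mp hab).1
    · rintro ⟨a, b⟩ hq
      rw [Finset.mem_filter, Finset.mem_filter, Finset.mem_product] at hq
      refine ⟨a, mem_Xoff.mpr ⟨hq.1.1.1, hq.2⟩, ?_⟩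
      have : b = i - a := by rw [← hq.1.2]; ring
      rw [this]
  · congr 1
    ext ⟨a, b⟩
    simp only [Finset.mem_filter, Finset.mem_product, mem_XP]
    constructor
    · rintro ⟨⟨⟨ha, hb⟩, hab⟩, hpa⟩
      refine ⟨⟨⟨ha, hpa⟩, hb, ?_⟩, hab⟩
      have : b = i - a := by rw [← hab]; ring
      rw [this, smul_sub, hi, hpa, sub_zero]
    · rintro ⟨⟨⟨ha, hpa⟩, hb, _⟩, hab⟩
      exact ⟨⟨⟨ha, hb⟩, hab⟩, hpa⟩

/-- `X ∖ P` is `P`-invariant -/
theorem pinv_Xoff {p : ℕ} (hX : PInvOff p X) : PInv p (Xoff p X) := by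
  intro i hi t ht
  rw [mem_Xoff] at hi ⊢
  refine ⟨hX i hi.1 hi.2 t ht, ?_⟩
  rw [smul_add, ht, add_zero]
  exact hi.2

/-- `rep S T i ≤ |S|` -/
theorem rep_le_card (S T : Finset (ZMod n)) (i : ZMod n) : rep S T i ≤ S.card := by
  classical
  unfold rep
  refine Finset.card_le_card_of_injOn (fun q => q.1) ?_ ?_
  · intro q hq
    rw [Finset.mem_coe, Finset.mem_filter, Finset.mem_product] at hq
    exact hq.1.1
  · intro q hq q' hq' hqq
    rw [Finset.mem_coe, Finset.mem_filter] at hq hq'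
    have h1 : q.1 = q'.1 := hqq
    have h2 : q.2 = q'.2 := by
      have := hq.2.trans hq'.2.symm
      rw [h1] at this
      exact add_left_cancel this
    exact Prod.ext h1 h2

/-- `p ∣ rep X Y j` for `j ∉ Y` -/
theorem dvd_rep_of_notMem {p : ℕ} [Fact p.Prime] (hpn : p ∣ n) (hX : PInvOff p X) (hY : PInv p Y)
    (j : ZMod n) (hj : j ∉ Y) : p ∣ rep X Y j := by
  classical
  unfold rep
  have hg := nsmul_gen (n := n) hpn
  have hg0 := gen_ne_zero (n := n) (Fact.out : p.Prime).two_le hpn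
  refine card_dvd_of_iterate _ (fun q => (q.1 + gen n p, q.2 + -gen n p)) ?_ ?_ ?_
  · rintro ⟨a, b⟩ hq
    rw [Finset.mem_filter, Finset.mem_product] at hq ⊢
    obtain ⟨⟨ha, hb⟩, hab⟩ := hq
    simp only at ha hb hab ⊢
    have hpa : p • a ≠ 0 := by
      intro hpa
      apply hj
      rw [← hab, add_comm]
      exact hY b hb a hpa
    refine ⟨⟨hX a ha hpa _ hg, hY b hb _ (by rw [smul_neg, hg, neg_zero])⟩, ?_⟩
    rw [← hab]; ring
  · rintro ⟨a, b⟩ _
    have : ∀ j : ℕ, (fun q : ZMod n × ZMod n => (q.1 + gen n p, q.2 + -gen n p))^[j] (a, b)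
        = (a + j • gen n p, b + j • (-gen n p)) := by
      intro j
      induction j with
      | zero => simp
      | succ j ih =>
        rw [Function.iterate_succ_apply', ih]
        simp only [succ_nsmul]
        ext <;> simp only <;> ring
    rw [this, smul_neg, hg, neg_zero, add_zero, add_zero]
  · rintro ⟨a, b⟩ _ hq
    have := (Prod.ext_iff.mp hq).1
    simp only at this
    exact hg0 (by simpa using this)

/-- the elements of `P` -/
theorem card_P_le {p : ℕ} (hp : 0 < p) :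
    (Finset.univ.filter (fun t : ZMod n => p • t = 0)).card ≤ p := by
  classical
  have := IsAddCyclic.card_nsmul_eq_zero_le (α := ZMod n) hp
  convert this

/-- **SQ** (step C): if `X ∖ P` and `Y` are `P`-invariant then `X ∩ P = ∅` or `X ⊇ P ∖ 0`. -/
theorem sq {p : ℕ} [Fact p.Prime] (hp2 : p ≠ 2) (hpn : p ∣ n) (h : Hyp n X Y k l m)
    (hXinv : PInvOff p X) (hYinv : PInv p Y) (hY : Y.Nonempty) (hY' : (Yᶜ).Nonempty) :
    (∀ t : ZMod n, p • t = 0 → t ∉ X) ∨ (∀ t : ZMod n, p • t = 0 → t ≠ 0 → t ∈ X) := by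
  classical
  have hp : p.Prime := Fact.out
  -- `p ∣ m`
  have hm : p ∣ m := by
    obtain ⟨j, hj⟩ := hY'
    rw [Finset.mem_compl] at hj
    have h2 := h.E2 j
    rw [if_neg hj] at h2
    rw [← h2]
    exact Dvd.dvd.mul_left (dvd_rep_of_notMem hpn hXinv hYinv j hj) 2
  have hYc : p ∣ Y.card := card_dvd_of_pinv hpn Y hYinv
  have hXc : p ∣ (Xoff p X).card := card_dvd_of_pinv hpn _ (pinv_Xoff hXinv)
  -- the set `P`
  set Pset := Finset.univ.filter (fun t : ZMod n => p • t = 0) with hPset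
  have hPcard : Pset.card ≤ p := card_P_le hp.pos
  have hXPsub : XP p X ⊆ Pset.erase 0 := by
    intro t ht
    rw [mem_XP] at ht
    rw [Finset.mem_erase, hPset, Finset.mem_filter]
    exact ⟨fun h0 => h.zero_notMem (h0 ▸ ht.1), Finset.mem_univ _, ht.2⟩
  have h0P : (0 : ZMod n) ∈ Pset := by
    rw [hPset, Finset.mem_filter]; exact ⟨Finset.mem_univ _, smul_zero _⟩
  have hXPcard : (XP p X).card < p := by
    have h1 := Finset.card_le_card hXPsub
    rw [Finset.card_erase_of_mem h0P] at h1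
    have : 0 < Pset.card := Finset.card_pos.mpr ⟨0, h0P⟩
    omega
  -- closure under addition
  have hclosed : ∀ s ∈ XP p X, ∀ t ∈ XP p X, s + t = 0 ∨ s + t ∈ XP p X := by
    intro s hs t ht
    by_contra hcon
    push_neg at hcon
    obtain ⟨hz0, hzX⟩ := hcon
    have hs' := mem_XP.mp hs
    have ht' := mem_XP.mp ht
    have hpz : p • (s + t) = 0 := by rw [smul_add, hs'.2, ht'.2, add_zero]
    have hzX' : s + t ∉ X := fun hc => hzX (mem_XP.mpr ⟨hc, hpz⟩)
    have hE := h.E1 (s + t)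
    rw [if_neg hz0, if_neg hzX', rep_split h.neg_mem hXinv _ hpz, dif_eq_card hYinv _ hpz] at hE
    have hdvd : p ∣ rep (XP p X) (XP p X) (s + t) := by
      have h1 : p ∣ (Xoff p X).card + rep (XP p X) (XP p X) (s + t) + Y.card := hE ▸ hm
      have h2 : p ∣ (Xoff p X).card + rep (XP p X) (XP p X) (s + t) := (Nat.dvd_add_left hYc).mp h1
      exact (Nat.dvd_add_right hXc).mp h2
    have hlt : rep (XP p X) (XP p X) (s + t) < p := lt_of_le_of_lt (rep_le_card _ _ _) hXPcard
    have hzero : rep (XP p X) (XP p X) (s + t) = 0 := Nat.eq_zero_of_dvd_of_lt hdvd hlt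
    unfold rep at hzero
    rw [Finset.card_eq_zero] at hzero
    have : (s, t) ∈ (XP p X ×ˢ XP p X).filter (fun q => q.1 + q.2 = s + t) := by
      rw [Finset.mem_filter, Finset.mem_product]
      exact ⟨⟨hs, ht⟩, rfl⟩
    rw [hzero] at this
    exact Finset.notMem_empty _ this
  -- the dichotomy
  by_cases hemp : ∀ t : ZMod n, p • t = 0 → t ∉ X
  · exact Or.inl hemp
  · right
    push_neg at hemp
    obtain ⟨s₀, hps₀, hs₀X⟩ := hemp
    have hs₀ : s₀ ∈ XP p X := mem_XP.mpr ⟨hs₀X, hps₀⟩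
    have hs₀0 : s₀ ≠ 0 := fun h0 => h.zero_notMem (h0 ▸ hs₀X)
    set K := insert (0 : ZMod n) (XP p X) with hK
    have hKshift : ∀ u ∈ K, u + s₀ ∈ K := by
      intro u hu
      rw [hK, Finset.mem_insert] at hu ⊢
      rcases hu with rfl | hu
      · right; rw [zero_add]; exact hs₀
      · exact hclosed u hu s₀ hs₀
    have hKdvd : p ∣ K.card := card_dvd_of_shift K s₀ hps₀ hs₀0 hKshift
    have hKpos : 0 < K.card := Finset.card_pos.mpr ⟨0, Finset.mem_insert_self _ _⟩
    have hKge : p ≤ K.card := Nat.le_of_dvd hKpos hKdvd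
    have hKsub : K ⊆ Pset := by
      intro u hu
      rw [hK, Finset.mem_insert] at hu
      rcases hu with rfl | hu
      · exact h0P
      · exact Finset.mem_of_mem_erase (hXPsub hu)
    have hKeq : K = Pset := Finset.eq_of_subset_of_card_le hKsub (hPcard.trans hKge)
    intro t hpt ht0
    have htP : t ∈ Pset := by
      rw [hPset, Finset.mem_filter]; exact ⟨Finset.mem_univ _, hpt⟩
    rw [← hKeq, hK, Finset.mem_insert] at htP
    rcases htP with h0 | htX
    · exact absurd h0 ht0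
    · exact (mem_XP.mp htX).1

end Cfsg.Agent.Lib.Helper23.DHBSQ
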