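/-
Helper23: DHB market (S3616 core, planner helper7) leaf ALG: the structure equations `E1`, `E2` as identities in the
group algebra `R[ZMod n]` over any commutative ring.  Also the coefficient lemmas `coeff_ind`, `coeff_ind_mul`.
-/
import Mathlib
import Cfsg.Agent.Lib.Helper7.DHBDefs

set_option autoImplicit false

namespace Cfsg.Agent.Lib.Helper23.DHBalg

open Finset Cfsg.Agent.Lib.Helper7.DHB

variable {n : ℕ} [NeZero n] {X Y : Finset (ZMod n)} {k l m : ℕ}

theorem coeff_ind (R : Type*) [Semiring R] (S : Finset (ZMod n)) (i : ZMod n) :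
    (ind R S).coeff i = if i ∈ S then 1 else 0 := by
  classical
  unfold ind
  rw [AddMonoidAlgebra.coeff_sum, Finsupp.finset_sum_apply]
  simp only [AddMonoidAlgebra.coeff_single, Finsupp.single_apply]
  rw [Finset.sum_ite_eq' S i]

theorem coeff_ind_mul (R : Type*) [Semiring R] (S T : Finset (ZMod n)) (i : ZMod n) :
    (ind R S * ind R T).coeff i = (rep S T i : R) := by
  classical
  unfold ind rep
  rw [Finset.sum_mul_sum]
  simp only [AddMonoidAlgebra.single_mul_single, mul_one]
  rw [AddMonoidAlgebra.coeff_sum, Finsupp.finset_sum_apply]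
  simp only [AddMonoidAlgebra.coeff_sum, Finsupp.finset_sum_apply, AddMonoidAlgebra.coeff_single,
    Finsupp.single_apply]
  rw [← Finset.sum_product', Finset.card_filter]
  push_cast
  rfl

/-- `rep Y (-Y) i = dif Y Y i` -/
theorem rep_neg_eq_dif (S : Finset (ZMod n)) (i : ZMod n) :
    rep S (S.image Neg.neg) i = dif S S i := by
  classical
  unfold rep dif
  refine Finset.card_bij (fun q _ => (-q.2, q.1)) ?_ ?_ ?_
  · rintro ⟨a, b⟩ hq
    simp only [Finset.mem_filter, Finset.mem_product, Finset.mem_image] at hq ⊢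
    obtain ⟨⟨ha, c, hc, rfl⟩, hab⟩ := hq
    refine ⟨⟨by simpa using hc, ha⟩, ?_⟩
    rw [← hab]; ring
  · rintro ⟨a, b⟩ _ ⟨a', b'⟩ _ h
    simp only [Prod.mk.injEq, neg_inj] at h
    exact Prod.ext h.2 h.1
  · rintro ⟨a, b⟩ hq
    simp only [Finset.mem_filter, Finset.mem_product] at hq
    obtain ⟨⟨ha, hb⟩, hab⟩ := hq
    refine ⟨(b, -a), ?_, by simp⟩
    simp only [Finset.mem_filter, Finset.mem_product, Finset.mem_image]
    exact ⟨⟨hb, a, ha, rfl⟩, by rw [← hab]; ring⟩

/-- **ALG**: `E1`, `E2` as identities in the group algebra over any commutative ring. -/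
theorem alg (R : Type*) [CommRing R] (h : Hyp n X Y k l m) :
    ind R X * ind R X + ind R Y * ind R (Y.image Neg.neg) =
        ((k : R) - m) • (1 : AddMonoidAlgebra R (ZMod n)) + ((l : R) - m) • ind R X + (m : R) • ind R univ ∧
    2 * (ind R X * ind R Y) = ((l : R) - m) • ind R Y + (m : R) • ind R univ := by
  classical
  constructor
  · apply AddMonoidAlgebra.coeff_injective
    ext i
    rw [AddMonoidAlgebra.coeff_add, Finsupp.add_apply, coeff_ind_mul, coeff_ind_mul, rep_neg_eq_dif,
      AddMonoidAlgebra.coeff_add, AddMonoidAlgebra.coeff_add, Finsupp.add_apply, Finsupp.add_apply,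
      AddMonoidAlgebra.coeff_smul, AddMonoidAlgebra.coeff_smul, AddMonoidAlgebra.coeff_smul,
      Finsupp.smul_apply, Finsupp.smul_apply, Finsupp.smul_apply, coeff_ind, coeff_ind,
      AddMonoidAlgebra.one_def, AddMonoidAlgebra.coeff_single, Finsupp.single_apply]
    have hE := h.E1 i
    have hE' : ((rep X X i : R) + (dif Y Y i : R)) = ((if i = 0 then k else if i ∈ X then l else m : ℕ) : R) := by
      rw [← hE]; push_cast; rfl
    rw [hE']
    by_cases hi0 : i = 0
    · subst hi0
      simp [h.zero_notMem]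
    · by_cases hiX : i ∈ X
      · simp [hi0, hiX, Ne.symm hi0]
      · simp [hi0, hiX, Ne.symm hi0]
  · apply AddMonoidAlgebra.coeff_injective
    ext j
    have h2 : (2 : AddMonoidAlgebra R (ZMod n)) * (ind R X * ind R Y) = ind R X * ind R Y + ind R X * ind R Y :=
      two_mul _
    rw [h2, AddMonoidAlgebra.coeff_add, Finsupp.add_apply, coeff_ind_mul,
      AddMonoidAlgebra.coeff_add, Finsupp.add_apply,
      AddMonoidAlgebra.coeff_smul, AddMonoidAlgebra.coeff_smul,
      Finsupp.smul_apply, Finsupp.smul_apply, coeff_ind, coeff_ind]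
    have hE := h.E2 j
    have hE' : ((rep X Y j : R) + (rep X Y j : R)) = ((if j ∈ Y then l else m : ℕ) : R) := by
      rw [← hE]; push_cast; ring
    rw [hE']
    by_cases hjY : j ∈ Y
    · simp [hjY]
    · simp [hjY]

end Cfsg.Agent.Lib.Helper23.DHBalg
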