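/-
helper23: DEFECT-ONE CLUSTER, PART M (planner helper8), leaf DOM-DEFZERO.

A block `B` of defect zero: every `χ ∈ B` has `p ∤ |G| / χ(1)`, so `χ(1) conj χ(g) / (|G| |C_G(g)|)` is a local integer
(it is `ω_χ(g⁻¹) (χ(1)/|G|)²`).  With one representative per class, `a := ∑_K (blockCoeff B g_K / |C_G(g_K)|) g_K` has local
integer coefficients and `∑_{y ∈ G} y a y⁻¹ = e_B`.  Reducing: `ebar = ∑_y y abar y⁻¹`, and for a `P`-fixed vector `v`
of a module on which `ebar` acts as `1`: `v = ∑_{Pr} ∑_{x ∈ P} ρ x (ρ r abar ρ r⁻¹ v) ∈ range (nrm ρ P)`.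
-/
import Mathlib
import Cfsg.Prelude.Def_BlockRank
import Cfsg.Agent.Lib.Helper8.DOMDefs
import Cfsg.Agent.Lib.Helper27.BlkAlgDefs2
import Cfsg.Agent.Lib.Helper27.BlkAlgL3
import Cfsg.Agent.Lib.Helper19.BlkAlgB1
import Cfsg.Agent.Lib.Helper18.BlkAlgB3
import Cfsg.Agent.Lib.Helper23.DefectClassValues

set_option autoImplicit false
set_option linter.unusedSectionVars false
set_option linter.unusedVariables false

namespace Cfsg.Agent.Lib.Helper23.DOMDEFZERO

open Cfsg Cfsg.Agent.Lib.Helper8.DOM Cfsg.Agent.Lib.Helper27.BlkAlg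
open Cfsg.Agent.Lib.Helper6 Cfsg.Agent.Lib.Helper24
open Cfsg.Agent.Lib.Helper18.BlkAlgB2 Cfsg.Agent.Lib.Helper18.BlkAlgB3
open scoped ComplexConjugate

universe u v w

section pure

variable {G : Type v} [Group G]

theorem centralizer_singleton_inv_eq (g : G) :
    Subgroup.centralizer ({g⁻¹} : Set G) = Subgroup.centralizer ({g} : Set G) := by
  ext x
  simp only [Subgroup.mem_centralizer_iff, Set.mem_singleton_iff, forall_eq]
  constructor
  · intro h
    calc g * x = g * (x * g⁻¹) * g := by group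
      _ = g * (g⁻¹ * x) * g := by rw [h]
      _ = x * g := by group
  · intro h
    calc g⁻¹ * x = g⁻¹ * (x * g) * g⁻¹ := by group
      _ = g⁻¹ * (g * x) * g⁻¹ := by rw [h]
      _ = x * g⁻¹ := by group

/-- the order of the centralizer -/
noncomputable def cz (g : G) : ℕ := Nat.card (Subgroup.centralizer ({g} : Set G))

theorem cz_pos [Finite G] (g : G) : 0 < cz g := Nat.card_pos

theorem mem_fibre_of_mem_centralizer {g r c z : G} (hc : c * r * c⁻¹ = g)
    (hz : z ∈ Subgroup.centralizer ({r} : Set G)) : (c * z)⁻¹ * g * (c * z) = r := by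
  have hz' : r * z = z * r := by
    rw [Subgroup.mem_centralizer_iff] at hz
    exact hz r rfl
  rw [← hc]
  calc (c * z)⁻¹ * (c * r * c⁻¹) * (c * z) = z⁻¹ * (r * z) := by group
    _ = r := by rw [hz']; group

theorem mem_centralizer_of_mem_fibre {g r c y : G} (hc : c * r * c⁻¹ = g)
    (hy : y⁻¹ * g * y = r) : c⁻¹ * y ∈ Subgroup.centralizer ({r} : Set G) := by
  rw [Subgroup.mem_centralizer_iff]
  intro h hh
  rw [Set.mem_singleton_iff] at hh
  rw [hh]
  have hy' : g * y = y * r := by
    rw [← hy]; group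
  rw [← hc] at hy'
  calc r * (c⁻¹ * y) = c⁻¹ * (c * r * c⁻¹ * y) := by group
    _ = c⁻¹ * (y * r) := by rw [hy']
    _ = c⁻¹ * y * r := by group

/-- the fibre `{y | y⁻¹ g y = r}` is a coset of the centralizer of `r` -/
noncomputable def fibreEquiv (g r c : G) (hc : c * r * c⁻¹ = g) :
    Subgroup.centralizer ({r} : Set G) ≃ {y : G // y⁻¹ * g * y = r} where
  toFun z := ⟨c * z, mem_fibre_of_mem_centralizer hc z.2⟩
  invFun y := ⟨c⁻¹ * y, mem_centralizer_of_mem_fibre hc y.2⟩
  left_inv z := by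
    apply Subtype.ext
    simp
  right_inv y := by
    apply Subtype.ext
    simp

theorem card_fibre [Fintype G] [DecidableEq G] (g r c : G) (hc : c * r * c⁻¹ = g) :
    (Finset.univ.filter (fun y : G => y⁻¹ * g * y = r)).card = cz r := by
  unfold cz
  rw [Nat.card_congr (fibreEquiv g r c hc), Nat.card_eq_fintype_card, Fintype.card_subtype]

theorem sum_eq_sum_complement' {N : Type*} [Group N] [Fintype N] {A : Type*} [AddCommMonoid A]
    (H : Subgroup N) (S : Set N) (hS : Subgroup.IsComplement (H : Set N) S) [Fintype H] [Fintype S]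
    (f : N → A) : ∑ n : N, f n = ∑ s : S, ∑ h : H, f ((h : N) * (s : N)) := by
  classical
  let e : ↥H × ↥S ≃ N := Equiv.ofBijective (fun x : ↥H × ↥S => (x.1 : N) * (x.2 : N)) hS
  rw [← e.sum_comp, Fintype.sum_prod_type, Finset.sum_comm]
  rfl

end pure

section blocks

variable (M : Ideal AlgInt) [M.IsMaximal] {G : Type v} [Group G] [Fintype G]
variable [Fintype (IrrCharacter G)] {p : ℕ} [Fact p.Prime]

/-- in a block of defect zero the cofactor `|G| / χ(1)` is prime to `p` -/
theorem exists_cofactor {B : Set (IrrCharacter G)} (hd : blockDefect p B = 0)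
    {χ : IrrCharacter G} (hχ : χ ∈ B) :
    ∃ m : ℕ, Nat.card G = charDegree (χ : G → ℂ) * m ∧ ¬ p ∣ m := by
  have hp : p.Prime := Fact.out
  obtain ⟨m, hm⟩ := irr_charDegree_dvd_card χ
  refine ⟨m, hm, ?_⟩
  have hG0 : Nat.card G ≠ 0 := Nat.card_pos.ne'
  have hd0 : charDegree (χ : G → ℂ) ≠ 0 := (irr_charDegree_pos χ).ne'
  have hm0 : m ≠ 0 := by
    rintro rfl
    rw [mul_zero] at hm
    exact hG0 hm
  have h1 : sInf ((fun χ : IrrCharacter G => (charDegree (χ : G → ℂ)).factorization p) '' B) ≤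
      (charDegree (χ : G → ℂ)).factorization p := Nat.sInf_le ⟨χ, hχ, rfl⟩
  have h2 : (Nat.card G).factorization p ≤
      sInf ((fun χ : IrrCharacter G => (charDegree (χ : G → ℂ)).factorization p) '' B) := by
    unfold blockDefect at hd
    omega
  have h3 : (Nat.card G).factorization p =
      (charDegree (χ : G → ℂ)).factorization p + m.factorization p := by
    rw [hm, Nat.factorization_mul hd0 hm0]
    rfl
  have h4 : m.factorization p = 0 := by omega
  intro hpm
  have := (hp.factorization_pos_of_dvd hm0 hpm)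
  omega

/-- the basic local integrality -/
theorem memLocalRing_term (hM : IsPModular p M) {B : Set (IrrCharacter G)}
    (hd : blockDefect p B = 0) {χ : IrrCharacter G} (hχ : χ ∈ B) (g : G) :
    MemLocalRing M ((χ : G → ℂ) 1 * conj ((χ : G → ℂ) g) / ((Nat.card G : ℂ) * (cz g : ℂ))) := by
  have hp : p.Prime := Fact.out
  obtain ⟨m, hm, hpm⟩ := exists_cofactor (p := p) hd hχ
  have hu := (natCast_div_unit hM (k := 1) (c := m) (by
    intro h; exact hp.one_lt.ne' (Nat.dvd_one.mp h)) hpm).1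
  have hω := memLocalRing_centralChar (M := M) χ g⁻¹
  have hG0 : (Nat.card G : ℂ) ≠ 0 := Nat.cast_ne_zero.mpr Nat.card_pos.ne'
  have hd0 : (charDegree (χ : G → ℂ) : ℂ) ≠ 0 := Nat.cast_ne_zero.mpr (irr_charDegree_pos χ).ne'
  have hm0 : (m : ℂ) ≠ 0 := by
    intro h0
    apply hG0
    rw [hm, Nat.cast_mul, h0, mul_zero]
  have hc0 : (cz g : ℂ) ≠ 0 := Nat.cast_ne_zero.mpr (cz_pos g).ne'
  have hidx : (cz g : ℂ) * ((Subgroup.centralizer ({g⁻¹} : Set G)).index : ℂ) = (Nat.card G : ℂ) := by
    rw [centralizer_singleton_inv_eq, ← Nat.cast_mul]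
    congr 1
    exact Subgroup.card_mul_index _
  have key : (χ : G → ℂ) 1 * conj ((χ : G → ℂ) g) / ((Nat.card G : ℂ) * (cz g : ℂ)) =
      (((1 : ℕ) : ℂ) / (m : ℂ)) * (((1 : ℕ) : ℂ) / (m : ℂ)) * centralChar (χ : G → ℂ) g⁻¹ := by
    unfold centralChar
    rw [← irr_apply_inv χ g, irr_apply_one χ]
    have hidx' : ((Subgroup.centralizer ({g⁻¹} : Set G)).index : ℂ) = (Nat.card G : ℂ) / (cz g : ℂ) := by
      rw [← hidx]; field_simp
    rw [hidx']
    have hGm : (Nat.card G : ℂ) = (charDegree (χ : G → ℂ) : ℂ) * (m : ℂ) := by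
      rw [hm, Nat.cast_mul]
    rw [hGm, Nat.cast_one]
    field_simp
  rw [key]
  exact memLocalRing_mul (memLocalRing_mul hu hu) hω

/-- the coefficient function of `a`: the idempotent coefficient divided by the centralizer order, at
the chosen class representatives -/
noncomputable def aFun (B : Set (IrrCharacter G)) (g : G) : ℂ := by
  classical
  exact if Quotient.out (ConjClasses.mk g) = g then blockCoeff B g / (cz g : ℂ) else 0

theorem memLocalRing_aFun (hM : IsPModular p M) {B : Set (IrrCharacter G)}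
    (hd : blockDefect p B = 0) (g : G) : MemLocalRing M (aFun B g) := by
  classical
  unfold aFun
  split_ifs with h
  · rw [blockCoeff_eq_sum, mul_comm, mul_div_assoc, Finset.sum_mul]
    apply sum_memLocalRing
    intro χ _
    by_cases hχ : χ ∈ B
    · rw [if_pos hχ]
      have := memLocalRing_term M hM hd hχ g
      have e : (χ : G → ℂ) 1 * conj ((χ : G → ℂ) g) * ((Nat.card G : ℂ)⁻¹ / (cz g : ℂ)) =
          (χ : G → ℂ) 1 * conj ((χ : G → ℂ) g) / ((Nat.card G : ℂ) * (cz g : ℂ)) := by
        rw [div_eq_mul_inv, div_eq_mul_inv, mul_inv]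
      rw [e]
      exact this
    · rw [if_neg hχ, zero_mul]
      exact memLocalRing_zero
  · exact memLocalRing_zero

theorem sum_aFun_conj (B : Set (IrrCharacter G)) (g : G) :
    ∑ y : G, aFun B (y⁻¹ * g * y) = blockCoeff B g := by
  classical
  set r := Quotient.out (ConjClasses.mk g) with hr
  have hrg : ConjClasses.mk r = ConjClasses.mk g := Quotient.out_eq _
  obtain ⟨c, hc⟩ := isConj_iff.mp (ConjClasses.mk_eq_mk_iff_isConj.mp hrg)
  have hterm : ∀ y : G, aFun B (y⁻¹ * g * y) =
      if y⁻¹ * g * y = r then blockCoeff B r / (cz r : ℂ) else 0 := by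
    intro y
    have hmk : ConjClasses.mk (y⁻¹ * g * y) = ConjClasses.mk g := by
      rw [ConjClasses.mk_eq_mk_iff_isConj, isConj_iff]
      exact ⟨y, by group⟩
    unfold aFun
    rw [hmk, ← hr]
    by_cases h : y⁻¹ * g * y = r
    · rw [if_pos h, if_pos h.symm, h]
    · rw [if_neg h, if_neg (fun h' => h h'.symm)]
  rw [Finset.sum_congr rfl (fun y _ => hterm y), Finset.sum_ite, Finset.sum_const_zero, add_zero,
    Finset.sum_const, card_fibre g r c hc, nsmul_eq_mul]
  have hc0 : (cz r : ℂ) ≠ 0 := Nat.cast_ne_zero.mpr (cz_pos r).ne'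
  rw [mul_div_cancel₀ _ hc0, ← hc]
  exact (blockCoeff_isClassFunction B r c).symm

/-- `ebar = ∑_y y abar y⁻¹` -/
theorem ebar_eq_sum (hM : IsPModular p M) {B : Set (IrrCharacter G)}
    (hd : blockDefect p B = 0) :
    ebar M B = ∑ y : G, MonoidAlgebra.single y (1 : ResField M) * redFun M (aFun B) *
      MonoidAlgebra.single y⁻¹ (1 : ResField M) := by
  classical
  have h1 : blockCoeff B = ∑ y : G, (fun g : G => aFun B (y⁻¹ * g * y)) := by
    funext g
    rw [Finset.sum_apply]
    exact (sum_aFun_conj B g).symm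
  unfold ebar
  rw [h1, redFun_finset_sum M _ _ (fun y _ g => memLocalRing_aFun M hM hd _)]
  apply Finset.sum_congr rfl
  intro y _
  apply MonoidAlgebra.ext
  apply Finsupp.ext
  intro g
  rw [coeff_redFun, MonoidAlgebra.coeff_mul_single_apply, MonoidAlgebra.coeff_single_mul_apply,
    coeff_redFun, inv_inv, one_mul, mul_one, mul_assoc]

/-- DEFZERO -/
theorem fixed_le_range_nrm_of_defect_zero (hM : IsPModular p M) {B : Set (IrrCharacter G)}
    (hB : IsPBlock M B) (hd : blockDefect p B = 0)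
    {V : Type w} [AddCommGroup V] [Module (ResField M) V] (ρ : Representation (ResField M) G V)
    (hρ : ρ.asAlgebraHom (ebar M B) = 1) (P : Subgroup G) :
    fixed ρ P ≤ LinearMap.range (nrm ρ P) := by
  classical
  intro v hv
  set A : V →ₗ[ResField M] V := ρ.asAlgebraHom (redFun M (aFun B)) with hA
  have h1 : v = ∑ y : G, ρ y (A (ρ y⁻¹ v)) := by
    have h0 := congrArg (fun φ : Module.End (ResField M) V => φ v) hρ
    simp only [Module.End.one_apply] at h0
    rw [ebar_eq_sum M hM hd, map_sum, LinearMap.sum_apply] at h0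
    refine h0.symm.trans ?_
    apply Finset.sum_congr rfl
    intro y _
    rw [map_mul, map_mul, Representation.asAlgebraHom_single_one,
      Representation.asAlgebraHom_single_one]
    rfl
  have : Fintype P := Fintype.ofFinite _
  obtain ⟨S, hS, -⟩ := Subgroup.exists_isComplement_right P 1
  have : Fintype S := Fintype.ofFinite _
  rw [h1, sum_eq_sum_complement' P S hS]
  apply Submodule.sum_mem
  intro s _
  refine ⟨ρ (s : G) (A (ρ (s : G)⁻¹ v)), ?_⟩
  rw [nrm_eq_sum, LinearMap.sum_apply]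
  apply Finset.sum_congr rfl
  intro h _
  have hfix : ρ ((h : G)⁻¹) v = v := hv _ (P.inv_mem h.2)
  rw [mul_inv_rev, map_mul, map_mul, Module.End.mul_apply, Module.End.mul_apply, hfix]

end blocks

end Cfsg.Agent.Lib.Helper23.DOMDEFZERO
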