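/-
helper23: DEFECT-ONE CLUSTER, PART O (planner helper27): the read-off of S4507 (p-conjugate families of a block of
defect one and the sign relation) from the structure theorem FULL `struct_full_of` and SECTION `exists_section`.

`s4507_core` : abstract form (only the clauses of FULL that are used);
`s4507_of`   : from the VERBATIM conclusion of `Helper27.DOLeaves.struct_full_of`.
-/
import Mathlib
import Cfsg.Prelude.Def_BlockRank
import Cfsg.Agent.Lib.Helper27.DODefs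
import Cfsg.Agent.Lib.Helper23.PConjA
import Cfsg.Agent.Lib.Helper24.IrrFacts

set_option autoImplicit false
set_option linter.unusedSectionVars false
set_option linter.unusedVariables false
set_option linter.style.haveILetI false

namespace Cfsg.Agent.Lib.Helper23.DOS4507

open Cfsg Cfsg.Agent.CharLib Cfsg.Agent.Lib.Helper8.DOM Cfsg.Agent.Lib.Helper27.DO
open Cfsg.Agent.Lib.Helper24 Cfsg.Agent.Lib.Helper23.PConj

universe u

variable {G : Type u} [Group G] [Finite G]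

section arith

variable (p : ℕ) [hpp : Fact p.Prime]

theorem gp_dvd : (Nat.card G / p ^ (Nat.card G).factorization p) ∣ Nat.card G :=
  Nat.div_dvd_of_dvd (Nat.ordProj_dvd _ _)

theorem gp_pos : 0 < (Nat.card G / p ^ (Nat.card G).factorization p) :=
  Nat.div_pos (Nat.le_of_dvd Nat.card_pos (Nat.ordProj_dvd _ _)) (pow_pos hpp.out.pos _)

theorem gp_coprime : Nat.Coprime p (Nat.card G / p ^ (Nat.card G).factorization p) :=
  Nat.coprime_ordCompl hpp.out Nat.card_pos.ne'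

/-- a `p`-regular element has order dividing the `p'`-part -/
theorem orderOf_dvd_gp (g : G) (hg : ¬ p ∣ orderOf g) :
    orderOf g ∣ (Nat.card G / p ^ (Nat.card G).factorization p) := by
  have h1 : orderOf g ∣ Nat.card G := orderOf_dvd_natCard g
  have h2 : p ^ (Nat.card G).factorization p * (Nat.card G / p ^ (Nat.card G).factorization p) =
      Nat.card G := Nat.ordProj_mul_ordCompl_eq_self _ _
  rw [← h2] at h1
  have hco : Nat.Coprime (orderOf g) (p ^ (Nat.card G).factorization p) :=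
    Nat.Coprime.pow_right _ ((Nat.Prime.coprime_iff_not_dvd hpp.out).mpr hg).symm
  exact hco.dvd_of_dvd_mul_left h1

/-- a unit in the kernel of reduction mod the `p'`-part fixes the `p`-regular elements -/
theorem pow_val_eq_self (u : (ZMod (Nat.card G))ˣ)
    (hu : u ∈ (ZMod.unitsMap (gp_dvd (G := G) p)).ker) (g : G) (hg : ¬ p ∣ orderOf g) :
    g ^ (u : ZMod (Nat.card G)).val = g := by
  haveI : NeZero (Nat.card G) := ⟨Nat.card_pos.ne'⟩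
  have h1 := (mem_ker_unitsMap_iff (gp_dvd (G := G) p) u).mp hu
  have h2 : (u : ZMod (Nat.card G)).val ≡ 1 [MOD orderOf g] :=
    Nat.ModEq.of_dvd (orderOf_dvd_gp p g hg) h1
  have h3 := pow_eq_pow_iff_modEq.mpr h2
  rw [h3, pow_one]

theorem not_dvd_val (u : (ZMod (Nat.card G))ˣ) (hdiv : p ∣ Nat.card G) :
    ¬ p ∣ (u : ZMod (Nat.card G)).val := by
  intro h
  have hco := ZMod.val_coe_unit_coprime u
  have h1 : p ∣ Nat.gcd (u : ZMod (Nat.card G)).val (Nat.card G) := Nat.dvd_gcd h hdiv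
  rw [hco] at h1
  exact hpp.out.one_lt.ne' (Nat.dvd_one.mp h1)

/-- CRT: a unit `≡ 1` mod the `p'`-part and `≡ k` mod `p` -/
theorem exists_unit (hdiv : p ∣ Nat.card G) (k : ℕ) (hk : ¬ p ∣ k) :
    ∃ u : (ZMod (Nat.card G))ˣ, u ∈ (ZMod.unitsMap (gp_dvd (G := G) p)).ker ∧
      (u : ZMod (Nat.card G)).val ≡ k [MOD p] := by
  haveI : NeZero (Nat.card G) := ⟨Nat.card_pos.ne'⟩
  have hp : p.Prime := hpp.out
  set h := (Nat.card G / p ^ (Nat.card G).factorization p) with hh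
  have hco : Nat.Coprime h p := (gp_coprime (G := G) p).symm
  obtain ⟨m, hm1, hm2⟩ := Nat.chineseRemainder hco 1 k
  have hmh : Nat.Coprime m h := by
    have : Nat.gcd m h = Nat.gcd 1 h := Nat.ModEq.gcd_eq hm1
    rw [Nat.Coprime, this, Nat.gcd_one_left]
  have hmp : ¬ p ∣ m := by
    intro hd
    apply hk
    exact (Nat.modEq_zero_iff_dvd.mp ((hm2.symm.trans (Nat.modEq_zero_iff_dvd.mpr hd))))
  have hmpa : Nat.Coprime m (p ^ (Nat.card G).factorization p) :=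
    Nat.Coprime.pow_right _ ((Nat.Prime.coprime_iff_not_dvd hp).mpr hmp).symm
  have hmn : Nat.Coprime m (Nat.card G) := by
    have h2 : p ^ (Nat.card G).factorization p * h = Nat.card G :=
      Nat.ordProj_mul_ordCompl_eq_self _ _
    rw [← h2]
    exact Nat.Coprime.mul_right hmpa hmh
  refine ⟨ZMod.unitOfCoprime m hmn, ?_, ?_⟩
  · rw [mem_ker_unitsMap_iff]
    rw [ZMod.coe_unitOfCoprime, ZMod.val_natCast]
    exact (Nat.ModEq.of_dvd (gp_dvd (G := G) p) (Nat.mod_modEq m (Nat.card G))).trans hm1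
  · rw [ZMod.coe_unitOfCoprime, ZMod.val_natCast]
    exact (Nat.ModEq.of_dvd hdiv (Nat.mod_modEq m (Nat.card G))).trans hm2

end arith

section core

variable (p : ℕ) [hpp : Fact p.Prime]

/-- irreducible characters agreeing on the `p`-regular elements and on the sections `x * y` are equal -/
theorem eq_of_section (P : Subgroup G)
    (hsec : ∀ g : G, p ∣ orderOf g → ∃ t x y : G, x ∈ P ∧ x ≠ 1 ∧ y ∈ Cz P ∧ ¬ p ∣ orderOf y ∧
      t * g * t⁻¹ = x * y)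
    (ψ₁ ψ₂ : IrrCharacter G)
    (hreg : ∀ g : G, ¬ p ∣ orderOf g → (ψ₁ : G → ℂ) g = (ψ₂ : G → ℂ) g)
    (hsing : ∀ x ∈ P, x ≠ 1 → ∀ y ∈ Cz P, ¬ p ∣ orderOf y →
      (ψ₁ : G → ℂ) (x * y) = (ψ₂ : G → ℂ) (x * y)) : ψ₁ = ψ₂ := by
  apply Subtype.ext
  funext g
  by_cases hg : p ∣ orderOf g
  · obtain ⟨t, x, y, hx, hx1, hy, hyreg, h⟩ := hsec g hg
    rw [← irr_conj ψ₁ g t, ← irr_conj ψ₂ g t, h]
    exact hsing x hx hx1 y hy hyreg
  · exact hreg g hg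

/-- the twist at a section element -/
theorem twist_section (P : Subgroup G) (u : (ZMod (Nat.card G))ˣ)
    (hu : u ∈ (ZMod.unitsMap (gp_dvd (G := G) p)).ker) (ψ : IrrCharacter G) (x : G) (hx : x ∈ P)
    (y : G) (hy : y ∈ Cz P) (hyreg : ¬ p ∣ orderOf y) :
    (twist u ψ : G → ℂ) (x * y) = (ψ : G → ℂ) (x ^ (u : ZMod (Nat.card G)).val * y) := by
  rw [twist_apply]
  have hcomm : Commute x y := by
    rw [Subgroup.mem_centralizer_iff] at hy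
    exact hy x hx
  rw [hcomm.mul_pow, pow_val_eq_self p u hu y hyreg]

theorem orderOf_eq_of_mem (P : Subgroup G) (hP : Nat.card P = p) (x : G) (hx : x ∈ P) (hx1 : x ≠ 1) :
    orderOf x = p := by
  apply orderOf_eq_prime
  · have h1 : (⟨x, hx⟩ : P) ^ p = 1 := by
      rw [← hP]
      exact pow_card_eq_one'
    exact congrArg Subtype.val h1
  · exact hx1

theorem pow_ne_one_of_mem (P : Subgroup G) (hP : Nat.card P = p) (x : G) (hx : x ∈ P) (hx1 : x ≠ 1)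
    (k : ℕ) (hk : ¬ p ∣ k) : x ^ k ≠ 1 := by
  intro h
  apply hk
  rw [← orderOf_eq_of_mem p P hP x hx hx1]
  exact orderOf_dvd_of_pow_eq_one h

/-- **S4507, abstract form.** -/
theorem s4507_core (hdiv : p ∣ Nat.card G) (P : Subgroup G) (hP : Nat.card P = p)
    (hsec : ∀ g : G, p ∣ orderOf g → ∃ t x y : G, x ∈ P ∧ x ≠ 1 ∧ y ∈ Cz P ∧ ¬ p ∣ orderOf y ∧
      t * g * t⁻¹ = x * y)
    (B : Set (IrrCharacter G)) (e : ℕ) (he : e ∣ p - 1) (hcard : Nat.card B = e + (p - 1) / e)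
    (X Y : Set (IrrCharacter G)) (εX : IrrCharacter G → ℤ) (ε : ℤ)
    (hBXY : B = X ∪ Y) (hdisj : Disjoint X Y) (hYcard : Nat.card Y = (p - 1) / e)
    (hεX : ∀ χ ∈ X, εX χ = 1 ∨ εX χ = -1) (hε : ε = 1 ∨ ε = -1)
    (hreg : ∀ ψ ∈ Y, ∀ ψ' ∈ Y, ∀ g : G, ¬ p ∣ orderOf g → (ψ : G → ℂ) g = (ψ' : G → ℂ) g)
    (hrel : ∀ ψ ∈ Y, ∀ g : G, ¬ p ∣ orderOf g →
      (ε : ℂ) * (ψ : G → ℂ) g = ∑ᶠ χ ∈ X, (εX χ : ℂ) * (χ : G → ℂ) g)
    (hvalX : ∀ χ ∈ X, ∃ F : G → ℂ, ∀ x ∈ P, x ≠ 1 → ∀ y ∈ Cz P, ¬ p ∣ orderOf y →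
      (χ : G → ℂ) (x * y) = F y)
    (hgal : ∀ ψ ∈ Y, ∀ k : ℕ, ¬ p ∣ k → ∃ ψ' ∈ Y, ∀ x ∈ P, x ≠ 1 → ∀ y ∈ Cz P, ¬ p ∣ orderOf y →
      (ψ' : G → ℂ) (x * y) = (ψ : G → ℂ) (x ^ k * y))
    (htrans : ∀ ψ ∈ Y, ∀ ψ' ∈ Y, ∃ k : ℕ, ¬ p ∣ k ∧ ∀ x ∈ P, x ≠ 1 → ∀ y ∈ Cz P, ¬ p ∣ orderOf y →
      (ψ' : G → ℂ) (x * y) = (ψ : G → ℂ) (x ^ k * y)) :
    ∃ Y : Set (Cfsg.IrrCharacter G), Y ⊆ B ∧ Y.Nonempty ∧ (∀ θ ∈ Y, ∀ ψ : Cfsg.IrrCharacter G, (∃ σ : ℂ ≃+* ℂ, σ (Complex.exp (2 * Real.pi * Complex.I / ((Nat.card G / p ^ (Nat.card G).factorization p) : ℕ))) = Complex.exp (2 * Real.pi * Complex.I / ((Nat.card G / p ^ (Nat.card G).factorization p) : ℕ)) ∧ (ψ : G → ℂ) = fun g => σ ((θ : G → ℂ) g)) ↔ ψ ∈ Y) ∧ (∀ χ ∈ B, χ ∉ Y → ∀ ψ : Cfsg.IrrCharacter G, (∃ σ : ℂ ≃+* ℂ, σ (Complex.exp (2 * Real.pi * Complex.I / ((Nat.card G / p ^ (Nat.card G).factorization p) : ℕ))) = Complex.exp (2 *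 Real.pi * Complex.I / ((Nat.card G / p ^ (Nat.card G).factorization p) : ℕ)) ∧ (ψ : G → ℂ) = fun g => σ ((χ : G → ℂ) g)) → ψ = χ) ∧ Nat.card Y ∣ p - 1 ∧ Nat.card B = Nat.card Y + (p - 1) / Nat.card Y ∧ ∃ δ : Cfsg.IrrCharacter G → ℤ, (∀ χ ∈ B, δ χ = 1 ∨ δ χ = -1) ∧ ∀ x : G, ¬ p ∣ orderOf x → ∀ θ ∈ Y, (∑ᶠ χ ∈ B \ Y, (δ χ : ℂ) * (χ : G → ℂ) x) + (δ θ : ℂ) * (θ : G → ℂ) x = 0 := by
  classical
  have hp : p.Prime := hpp.out
  have hp1 : p - 1 ≠ 0 := by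
    have := hp.two_le
    omega
  have he0 : e ≠ 0 := by
    rintro rfl
    exact hp1 (Nat.eq_zero_of_zero_dvd he)
  -- the twist by a kernel unit fixes `X` pointwise
  have hXfix : ∀ χ ∈ X, ∀ u : (ZMod (Nat.card G))ˣ,
      u ∈ (ZMod.unitsMap (gp_dvd (G := G) p)).ker → twist u χ = χ := by
    intro χ hχ u hu
    obtain ⟨F, hF⟩ := hvalX χ hχ
    apply eq_of_section p P hsec
    · intro g hg
      rw [twist_apply, pow_val_eq_self p u hu g hg]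
    · intro x hx hx1 y hy hyreg
      rw [twist_section p P u hu χ x hx y hy hyreg,
        hF _ (P.pow_mem hx _) (pow_ne_one_of_mem p P hP x hx hx1 _ (not_dvd_val p u hdiv)) y hy hyreg,
        hF x hx hx1 y hy hyreg]
  -- the twist by a kernel unit maps `Y` to `Y`
  have hYmap : ∀ ψ ∈ Y, ∀ u : (ZMod (Nat.card G))ˣ,
      u ∈ (ZMod.unitsMap (gp_dvd (G := G) p)).ker → twist u ψ ∈ Y := by
    intro ψ hψ u hu
    obtain ⟨ψ', hψ', h⟩ := hgal ψ hψ _ (not_dvd_val p u hdiv)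
    have : twist u ψ = ψ' := by
      apply eq_of_section p P hsec
      · intro g hg
        rw [twist_apply, pow_val_eq_self p u hu g hg]
        exact hreg ψ hψ ψ' hψ' g hg
      · intro x hx hx1 y hy hyreg
        rw [twist_section p P u hu ψ x hx y hy hyreg]
        exact (h x hx hx1 y hy hyreg).symm
    rw [this]
    exact hψ'
  -- `Y` is a single orbit
  have hYtrans : ∀ ψ ∈ Y, ∀ ψ' ∈ Y, ∃ u : (ZMod (Nat.card G))ˣ,
      u ∈ (ZMod.unitsMap (gp_dvd (G := G) p)).ker ∧ ψ' = twist u ψ := by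
    intro ψ hψ ψ' hψ'
    obtain ⟨k, hk, h⟩ := htrans ψ hψ ψ' hψ'
    obtain ⟨u, hu, huk⟩ := exists_unit (G := G) p hdiv k hk
    refine ⟨u, hu, ?_⟩
    symm
    apply eq_of_section p P hsec
    · intro g hg
      rw [twist_apply, pow_val_eq_self p u hu g hg]
      exact hreg ψ hψ ψ' hψ' g hg
    · intro x hx hx1 y hy hyreg
      rw [twist_section p P u hu ψ x hx y hy hyreg, h x hx hx1 y hy hyreg]
      have hxo := orderOf_eq_of_mem p P hP x hx hx1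
      have : x ^ (u : ZMod (Nat.card G)).val = x ^ k := by
        rw [pow_eq_pow_iff_modEq, hxo]
        exact huk
      rw [this]
  have hYB : Y ⊆ B := by
    rw [hBXY]
    exact Set.subset_union_right
  have hYpos : 0 < Nat.card Y := by
    rw [hYcard]
    exact Nat.div_pos (Nat.le_of_dvd (Nat.pos_of_ne_zero hp1) he) (Nat.pos_of_ne_zero he0)
  have hYne : Y.Nonempty := by
    have h1 : Nonempty Y := (Nat.card_pos_iff.mp hYpos).1
    obtain ⟨y⟩ := h1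
    exact ⟨y.1, y.2⟩
  have hBY : B \ Y = X := by
    rw [hBXY]
    ext χ
    simp only [Set.mem_diff, Set.mem_union]
    constructor
    · rintro ⟨h1 | h1, h2⟩
      · exact h1
      · exact absurd h1 h2
    · intro h1
      exact ⟨Or.inl h1, fun h2 => (Set.disjoint_left.mp hdisj) h1 h2⟩
  refine ⟨Y, hYB, hYne, ?_, ?_, ?_, ?_, ?_⟩
  · intro θ hθ ψ
    rw [pConj_iff θ ψ _ (gp_pos (G := G) p) (gp_dvd (G := G) p)]
    constructor
    · rintro ⟨u, hu, rfl⟩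
      exact hYmap θ hθ u hu
    · intro hψ
      exact hYtrans θ hθ ψ hψ
  · intro χ hχ hχY ψ hψ
    rw [pConj_iff χ ψ _ (gp_pos (G := G) p) (gp_dvd (G := G) p)] at hψ
    obtain ⟨u, hu, rfl⟩ := hψ
    have hχX : χ ∈ X := by
      rw [← hBY]
      exact ⟨hχ, hχY⟩
    exact hXfix χ hχX u hu
  · rw [hYcard]
    exact Nat.div_dvd_of_dvd he
  · rw [hcard, hYcard, Nat.div_div_self he hp1]
    ring
  · refine ⟨fun χ => if χ ∈ Y then -ε else εX χ, ?_, ?_⟩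
    · intro χ hχ
      by_cases h : χ ∈ Y
      · simp only [if_pos h]
        rcases hε with h1 | h1 <;> rw [h1] <;> simp
      · simp only [if_neg h]
        apply hεX
        rw [← hBY]
        exact ⟨hχ, h⟩
    · intro x hx θ hθ
      rw [hBY]
      have h1 : ∑ᶠ χ ∈ X, (((if χ ∈ Y then -ε else εX χ : ℤ)) : ℂ) * (χ : G → ℂ) x =
          ∑ᶠ χ ∈ X, (εX χ : ℂ) * (χ : G → ℂ) x := by
        apply finsum_mem_congr rfl
        intro χ hχ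
        rw [if_neg (fun h2 => (Set.disjoint_left.mp hdisj) hχ h2)]
      rw [h1, ← hrel θ hθ x hx]
      simp only [if_pos hθ]
      push_cast
      ring

end core

section final

variable (p : ℕ) [hpp : Fact p.Prime]

/-- **S4507 from the structure theorem**: `hfull` is the VERBATIM conclusion of
`Helper27.DOLeaves.struct_full_of`, `hsec` the VERBATIM conclusion of `exists_section` (SECTION). -/
theorem s4507_of (hdiv : p ∣ Nat.card G) (P : Subgroup G) (hP : Nat.card P = p)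
    (hsec : ∀ g : G, p ∣ orderOf g → ∃ t x y : G, x ∈ P ∧ x ≠ 1 ∧ y ∈ Cz P ∧ ¬ p ∣ orderOf y ∧
      t * g * t⁻¹ = x * y)
    (B : Set (IrrCharacter G)) (θ : IrrCharacter (Cz P)) (T : Subgroup G)
    (hfull : (Cz P).relIndex T ∣ p - 1 ∧
    Nat.card B = (Cz P).relIndex T + (p - 1) / (Cz P).relIndex T ∧
    ∃ (X Y : Set (IrrCharacter G)) (εX : IrrCharacter G → ℤ) (ε : ℤ),
      B = X ∪ Y ∧ Disjoint X Y ∧ Nat.card X = (Cz P).relIndex T ∧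
      Nat.card Y = (p - 1) / (Cz P).relIndex T ∧
      (∀ χ ∈ X, εX χ = 1 ∨ εX χ = -1) ∧ (ε = 1 ∨ ε = -1) ∧
      (∀ ψ ∈ Y, ∀ ψ' ∈ Y, ∀ g : G, ¬ p ∣ orderOf g → (ψ : G → ℂ) g = (ψ' : G → ℂ) g) ∧
      (∀ ψ ∈ Y, ∀ g : G, ¬ p ∣ orderOf g →
        (ε : ℂ) * (ψ : G → ℂ) g = ∑ᶠ χ ∈ X, (εX χ : ℂ) * (χ : G → ℂ) g) ∧
      (∀ χ ∈ X, (charDegree (χ : G → ℂ) : ℤ) ≡
        εX χ * (((Cz P).relIndex (Nz P) / (Cz P).relIndex T * charDegree (θ : Cz P → ℂ) : ℕ) : ℤ)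
          [ZMOD p]) ∧
      (∀ ψ ∈ Y, (charDegree (ψ : G → ℂ) : ℤ) ≡
        ε * (((Cz P).relIndex (Nz P) * charDegree (θ : Cz P → ℂ) : ℕ) : ℤ) [ZMOD p]) ∧
      (∀ χ ∈ X, ∀ x ∈ P, x ≠ 1 → ∀ y ∈ Cz P, ¬ p ∣ orderOf y →
        (χ : G → ℂ) (x * y) = (εX χ : ℂ) * thetaSum P (θ : Cz P → ℂ) T y) ∧
      (∀ ψ ∈ Y, ∀ k : ℕ, ¬ p ∣ k → ∃ ψ' ∈ Y, ∀ x ∈ P, x ≠ 1 → ∀ y ∈ Cz P, ¬ p ∣ orderOf y →
        (ψ' : G → ℂ) (x * y) = (ψ : G → ℂ) (x ^ k * y)) ∧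
      (∀ ψ ∈ Y, ∀ ψ' ∈ Y, ∃ k : ℕ, ¬ p ∣ k ∧ ∀ x ∈ P, x ≠ 1 → ∀ y ∈ Cz P, ¬ p ∣ orderOf y →
        (ψ' : G → ℂ) (x * y) = (ψ : G → ℂ) (x ^ k * y))) :
    ∃ Y : Set (Cfsg.IrrCharacter G), Y ⊆ B ∧ Y.Nonempty ∧ (∀ θ ∈ Y, ∀ ψ : Cfsg.IrrCharacter G, (∃ σ : ℂ ≃+* ℂ, σ (Complex.exp (2 * Real.pi * Complex.I / ((Nat.card G / p ^ (Nat.card G).factorization p) : ℕ))) = Complex.exp (2 * Real.pi * Complex.I / ((Nat.card G / p ^ (Nat.card G).factorization p) : ℕ)) ∧ (ψ : G → ℂ) = fun g => σ ((θ : G → ℂ) g)) ↔ ψ ∈ Y) ∧ (∀ χ ∈ B, χ ∉ Y → ∀ ψ : Cfsg.IrrCharacter G, (∃ σ : ℂ ≃+* ℂ, σ (Complex.exp (2 * Real.pi * Complex.I / ((Nat.card G / p ^ (Nat.card G).factorization p) : ℕ))) = Complex.exp (2 * Real.pi * Complex.I / ((Nat.card G / p ^ (Nat.card G).factorization p) : ℕ)) ∧ (ψ : G → ℂ) = fun g => σ ((χ : G → ℂ) g)) → ψ = χ) ∧ Nat.card Y ∣ p - 1 ∧ Nat.card B = Nat.card Y + (p - 1) /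 Nat.card Y ∧ ∃ δ : Cfsg.IrrCharacter G → ℤ, (∀ χ ∈ B, δ χ = 1 ∨ δ χ = -1) ∧ ∀ x : G, ¬ p ∣ orderOf x → ∀ θ ∈ Y, (∑ᶠ χ ∈ B \ Y, (δ χ : ℂ) * (χ : G → ℂ) x) + (δ θ : ℂ) * (θ : G → ℂ) x = 0 := by
  obtain ⟨he, hcard, X, Y, εX, ε, hBXY, hdisj, -, hYcard, hεX, hε, hreg, hrel, -, -, hvalX, hgal,
    htrans⟩ := hfull
  exact s4507_core p hdiv P hP hsec B _ he hcard X Y εX ε hBXY hdisj hYcard hεX hε hreg hrel
    (fun χ hχ => ⟨fun y => (εX χ : ℂ) * thetaSum P (θ : Cz P → ℂ) T y, hvalX χ hχ⟩) hgal htrans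

end final

end Cfsg.Agent.Lib.Helper23.DOS4507
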