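import Mathlib
import Cfsg.Prelude.Def_Classical

/-!
# S2264/S2265 leaf Q1 (planner helper10): polar form of `quadFormPlus` (helper23)
-/

set_option autoImplicit false

namespace Cfsg.Agent.Lib.Helper23.EOrdQ1

open Matrix

variable {F : Type*} [Field F]

/-- The hyperbolic Gram matrix `[[0,1],[1,0]]` in block form. -/
def hypGram (m : ℕ) (F : Type*) [Field F] : Matrix (Fin m ⊕ Fin m) (Fin m ⊕ Fin m) F :=
  Matrix.fromBlocks 0 1 1 0

theorem hypGram_mul_self (m : ℕ) : hypGram m F * hypGram m F = 1 := by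
  unfold hypGram
  rw [Matrix.fromBlocks_multiply]
  simp [Matrix.fromBlocks_one]

theorem isUnit_det_hypGram (m : ℕ) : IsUnit (hypGram m F).det := by
  have h := congrArg Matrix.det (hypGram_mul_self (F := F) m)
  rw [Matrix.det_mul, Matrix.det_one] at h
  exact IsUnit.of_mul_eq_one _ h

theorem hypGram_mulVec (m : ℕ) (v : Fin m ⊕ Fin m → F) :
    hypGram m F *ᵥ v = Sum.elim (fun i => v (.inr i)) (fun i => v (.inl i)) := by
  unfold hypGram
  rw [Matrix.fromBlocks_mulVec]
  ext x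
  rcases x with i | i <;> simp [Matrix.one_mulVec, Function.comp]

theorem dot_hypGram (m : ℕ) (u v : Fin m ⊕ Fin m → F) :
    u ⬝ᵥ (hypGram m F *ᵥ v) =
      ∑ i : Fin m, (u (.inl i) * v (.inr i) + u (.inr i) * v (.inl i)) := by
  rw [hypGram_mulVec]
  simp only [dotProduct, Fintype.sum_sum_type, Sum.elim_inl, Sum.elim_inr]
  rw [← Finset.sum_add_distrib]

/-- LEAF Q1: polar form of `quadFormPlus`. -/
theorem polar_plus [Fintype F] (m : ℕ) :
    ∃ M : Matrix (Fin m ⊕ Fin m) (Fin m ⊕ Fin m) F, IsUnit M.det ∧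
      ∀ u v : Fin m ⊕ Fin m → F,
        Cfsg.quadFormPlus m F (u + v) - Cfsg.quadFormPlus m F u - Cfsg.quadFormPlus m F v
          = u ⬝ᵥ (M *ᵥ v) := by
  refine ⟨hypGram m F, isUnit_det_hypGram m, fun u v => ?_⟩
  rw [dot_hypGram]
  unfold Cfsg.quadFormPlus
  rw [← Finset.sum_sub_distrib, ← Finset.sum_sub_distrib]
  refine Finset.sum_congr rfl fun i _ => ?_
  simp only [Pi.add_apply]
  ring

end Cfsg.Agent.Lib.Helper23.EOrdQ1
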