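import Mathlib
import Cfsg.Prelude.Def_Classical
import Cfsg.Agent.Lib.Helper23.EOrdQ1

/-!
# S2264/S2265 leaf Q2 (planner helper10): polar form of `quadFormOdd` (helper23)
-/

set_option autoImplicit false

namespace Cfsg.Agent.Lib.Helper23.EOrdQ2

open Matrix Cfsg.Agent.Lib.Helper23.EOrdQ1

variable {F : Type*} [Field F]

/-- Gram matrix of the polar form of `x₀² + Σ xᵢ yᵢ`. -/
def oddGram (m : ℕ) (F : Type*) [Field F] :
    Matrix (Unit ⊕ (Fin m ⊕ Fin m)) (Unit ⊕ (Fin m ⊕ Fin m)) F :=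
  Matrix.fromBlocks ((2 : F) • (1 : Matrix Unit Unit F)) 0 0 (hypGram m F)

theorem isUnit_det_oddGram (m : ℕ) (h2 : (2 : F) ≠ 0) : IsUnit (oddGram m F).det := by
  unfold oddGram
  rw [Matrix.det_fromBlocks_zero₂₁]
  refine IsUnit.mul ?_ (isUnit_det_hypGram m)
  rw [Matrix.det_smul, Matrix.det_one]
  simpa using h2

theorem oddGram_mulVec (m : ℕ) (v : Unit ⊕ (Fin m ⊕ Fin m) → F) :
    oddGram m F *ᵥ v =
      Sum.elim (fun _ => 2 * v (.inl ())) (hypGram m F *ᵥ (v ∘ Sum.inr)) := by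
  unfold oddGram
  rw [Matrix.fromBlocks_mulVec]
  ext x
  rcases x with i | i
  · simp [Matrix.smul_mulVec, Matrix.one_mulVec, Function.comp]
  · simp

theorem dot_oddGram (m : ℕ) (u v : Unit ⊕ (Fin m ⊕ Fin m) → F) :
    u ⬝ᵥ (oddGram m F *ᵥ v) =
      2 * u (.inl ()) * v (.inl ()) +
      ∑ i : Fin m, (u (.inr (.inl i)) * v (.inr (.inr i)) + u (.inr (.inr i)) * v (.inr (.inl i))) := by
  rw [oddGram_mulVec]
  have h := dot_hypGram m (u ∘ Sum.inr) (v ∘ Sum.inr)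
  simp only [dotProduct] at h ⊢
  rw [Fintype.sum_sum_type]
  simp only [Sum.elim_inl, Sum.elim_inr, Finset.univ_unique, Finset.sum_singleton,
    Function.comp] at h ⊢
  rw [h]
  ring

/-- LEAF Q2: polar form of `quadFormOdd` (odd characteristic). -/
theorem polar_odd [Fintype F] (m : ℕ) (h2 : (2 : F) ≠ 0) :
    ∃ M : Matrix (Unit ⊕ (Fin m ⊕ Fin m)) (Unit ⊕ (Fin m ⊕ Fin m)) F, IsUnit M.det ∧
      ∀ u v : Unit ⊕ (Fin m ⊕ Fin m) → F,
        Cfsg.quadFormOdd m F (u + v) - Cfsg.quadFormOdd m F u - Cfsg.quadFormOdd m F v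
          = u ⬝ᵥ (M *ᵥ v) := by
  refine ⟨oddGram m F, isUnit_det_oddGram m h2, fun u v => ?_⟩
  rw [dot_oddGram]
  unfold Cfsg.quadFormOdd
  have hs : ∀ (f g h : Fin m → F), (∑ i, f i) - (∑ i, g i) - (∑ i, h i) = ∑ i, (f i - g i - h i) := by
    intro f g h
    rw [← Finset.sum_sub_distrib, ← Finset.sum_sub_distrib]
  have key : ∑ i : Fin m, ((u + v) (.inr (.inl i)) * (u + v) (.inr (.inr i))
        - u (.inr (.inl i)) * u (.inr (.inr i)) - v (.inr (.inl i)) * v (.inr (.inr i)))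
      = ∑ i : Fin m, (u (.inr (.inl i)) * v (.inr (.inr i)) + u (.inr (.inr i)) * v (.inr (.inl i))) := by
    refine Finset.sum_congr rfl fun i _ => ?_
    simp only [Pi.add_apply]
    ring
  rw [← key, ← hs]
  simp only [Pi.add_apply]
  ring

end Cfsg.Agent.Lib.Helper23.EOrdQ2
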