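import Mathlib
import Cfsg.Prelude.Def_Classical
import Cfsg.Agent.Lib.Helper23.EOrdQ1

/-!
# S2264/S2265 leaf Q3 (planner helper10): polar form of `quadFormMinus` (helper23)
-/

set_option autoImplicit false

namespace Cfsg.Agent.Lib.Helper23.EOrdQ3

open Matrix Cfsg.Agent.Lib.Helper23.EOrdQ1

variable {F : Type*} [Field F]

/-- Gram matrix of the polar form of `Σ xᵢ yᵢ + z₁² + a z₁ z₂ + b z₂²`. -/
def minusGram (m : ℕ) (a b : F) :
    Matrix ((Fin m ⊕ Fin m) ⊕ Fin 2) ((Fin m ⊕ Fin m) ⊕ Fin 2) F :=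
  Matrix.fromBlocks (hypGram m F) 0 0 !![2, a; a, 2 * b]

/-- In a finite field with `2 = 0` every element is a square. -/
theorem exists_sq_of_two_eq_zero [Finite F] (h2 : (2 : F) = 0) (b : F) : ∃ c : F, c * c = b := by
  have hinj : Function.Injective (fun x : F => x * x) := by
    intro x y hxy
    simp only at hxy
    have h : (x - y) * (x - y) = 0 := by
      have : (x - y) * (x - y) = x * x + y * y - 2 * (x * y) := by ring
      rw [this, h2, hxy]
      have : y * y + y * y = 2 * (y * y) := by ring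
      rw [this, h2]; ring
    have h' : x - y = 0 := by
      rcases mul_eq_zero.mp h with h | h <;> exact h
    exact sub_eq_zero.mp h'
  exact (Finite.injective_iff_surjective.mp hinj) b

/-- Anisotropy of the binary form gives a non-zero discriminant. -/
theorem disc_ne_zero [Finite F] (a b : F)
    (hab : ∀ z₁ z₂ : F, z₁ ^ 2 + a * z₁ * z₂ + b * z₂ ^ 2 = 0 → z₁ = 0 ∧ z₂ = 0) :
    2 * (2 * b) - a * a ≠ 0 := by
  intro h
  by_cases h2 : (2 : F) = 0
  · -- characteristic two: `a = 0`, `b = c²`, zero at `(c, 1)`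
    have ha : a = 0 := by
      rw [h2] at h
      have : a * a = 0 := by linear_combination -h
      rcases mul_eq_zero.mp this with h | h <;> exact h
    obtain ⟨c, hc⟩ := exists_sq_of_two_eq_zero h2 b
    have := hab c 1 (by
      rw [ha, ← hc]
      have : c ^ 2 + 0 * c * 1 + c * c * 1 ^ 2 = 2 * (c * c) := by ring
      rw [this, h2]; ring)
    exact one_ne_zero this.2
  · have := hab (-a) 2 (by linear_combination h)
    exact h2 this.2

theorem isUnit_det_minusGram [Finite F] (m : ℕ) (a b : F)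
    (hab : ∀ z₁ z₂ : F, z₁ ^ 2 + a * z₁ * z₂ + b * z₂ ^ 2 = 0 → z₁ = 0 ∧ z₂ = 0) :
    IsUnit (minusGram m a b).det := by
  unfold minusGram
  rw [Matrix.det_fromBlocks_zero₂₁]
  refine IsUnit.mul (isUnit_det_hypGram m) ?_
  rw [Matrix.det_fin_two_of]
  exact isUnit_iff_ne_zero.mpr (disc_ne_zero a b hab)

theorem minusGram_mulVec (m : ℕ) (a b : F) (v : (Fin m ⊕ Fin m) ⊕ Fin 2 → F) :
    minusGram m a b *ᵥ v =
      Sum.elim (hypGram m F *ᵥ (v ∘ Sum.inl))
        (![2 * v (.inr 0) + a * v (.inr 1), a * v (.inr 0) + 2 * b * v (.inr 1)]) := by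
  unfold minusGram
  rw [Matrix.fromBlocks_mulVec]
  ext x
  rcases x with i | i
  · simp
  · fin_cases i <;> simp [Matrix.mulVec, dotProduct, Fin.sum_univ_two, Function.comp]

theorem dot_minusGram (m : ℕ) (a b : F) (u v : (Fin m ⊕ Fin m) ⊕ Fin 2 → F) :
    u ⬝ᵥ (minusGram m a b *ᵥ v) =
      (∑ i : Fin m, (u (.inl (.inl i)) * v (.inl (.inr i)) + u (.inl (.inr i)) * v (.inl (.inl i)))) +
      (u (.inr 0) * (2 * v (.inr 0) + a * v (.inr 1)) +
        u (.inr 1) * (a * v (.inr 0) + 2 * b * v (.inr 1))) := by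
  rw [minusGram_mulVec]
  have h := dot_hypGram m (u ∘ Sum.inl) (v ∘ Sum.inl)
  simp only [dotProduct] at h ⊢
  rw [Fintype.sum_sum_type]
  simp only [Sum.elim_inl, Sum.elim_inr, Fin.sum_univ_two, Function.comp] at h ⊢
  rw [h]
  simp

/-- LEAF Q3: polar form of `quadFormMinus`. -/
theorem polar_minus [Fintype F] (m : ℕ) (a b : F)
    (hab : ∀ z₁ z₂ : F, z₁ ^ 2 + a * z₁ * z₂ + b * z₂ ^ 2 = 0 → z₁ = 0 ∧ z₂ = 0) :
    ∃ M : Matrix ((Fin m ⊕ Fin m) ⊕ Fin 2) ((Fin m ⊕ Fin m) ⊕ Fin 2) F, IsUnit M.det ∧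
      ∀ u v : (Fin m ⊕ Fin m) ⊕ Fin 2 → F,
        Cfsg.quadFormMinus m F a b (u + v) - Cfsg.quadFormMinus m F a b u
          - Cfsg.quadFormMinus m F a b v = u ⬝ᵥ (M *ᵥ v) := by
  refine ⟨minusGram m a b, isUnit_det_minusGram m a b hab, fun u v => ?_⟩
  rw [dot_minusGram]
  unfold Cfsg.quadFormMinus
  have key : ∑ i : Fin m, ((u + v) (.inl (.inl i)) * (u + v) (.inl (.inr i))
        - u (.inl (.inl i)) * u (.inl (.inr i)) - v (.inl (.inl i)) * v (.inl (.inr i)))
      = ∑ i : Fin m, (u (.inl (.inl i)) * v (.inl (.inr i)) + u (.inl (.inr i)) * v (.inl (.inl i))) := by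
    refine Finset.sum_congr rfl fun i _ => ?_
    simp only [Pi.add_apply]
    ring
  rw [← key, Finset.sum_sub_distrib, Finset.sum_sub_distrib]
  simp only [Pi.add_apply]
  ring

end Cfsg.Agent.Lib.Helper23.EOrdQ3
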