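import Mathlib
import Cfsg.Agent.Lib.Helper26.F2Defs

set_option autoImplicit false

namespace Cfsg.Agent.Lib.Helper23.F2LE

open Cfsg.Agent.Lib.Helper26.F2 MulAction Subgroup

variable {G : Type*} [Group G] [Finite G] {Ω : Type*} [Finite Ω] [MulAction G Ω]

/-- **F2-LE** `G_α ≤ N`. -/
theorem stabilizer_le (T : Subgroup G) (α : Ω) (N : Subgroup G) (hNn : N.Normal)
    (hN2 : N.index = 2) (hTN : T ≤ N)
    (hsyl : ∀ y ∈ stabilizer G α, (∃ k : ℕ, y ^ 2 ^ k = 1) →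
      ∃ h ∈ stabilizer G α, h * y * h⁻¹ ∈ T) :
    stabilizer G α ≤ N := by
  intro g hg
  have hn : orderOf g ≠ 0 := (orderOf_pos g).ne'
  obtain ⟨k, m, hm, hkm⟩ := Nat.exists_eq_two_pow_mul_odd hn
  -- the 2-part
  have hy : (g ^ m) ^ 2 ^ k = 1 := by
    rw [← pow_mul, mul_comm, ← hkm, pow_orderOf_eq_one]
  obtain ⟨h, _, hh⟩ := hsyl (g ^ m) ((stabilizer G α).pow_mem hg m) ⟨k, hy⟩
  have hyN : g ^ m ∈ N := by
    have h1 : h * g ^ m * h⁻¹ ∈ N := hTN hh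
    have h2 := hNn.conj_mem _ h1 h⁻¹
    simpa [mul_assoc] using h2
  have hsq : g ^ 2 ∈ N := Subgroup.sq_mem_of_index_two hN2 g
  obtain ⟨j, hj⟩ := hm
  have h3 : g = ((g ^ 2) ^ j)⁻¹ * g ^ m := by
    rw [hj, pow_succ (n := 2 * j), pow_mul, inv_mul_cancel_left]
  rw [h3]
  exact N.mul_mem (N.inv_mem (N.pow_mem hsq j)) hyN

end Cfsg.Agent.Lib.Helper23.F2LE
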