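import Mathlib
import Cfsg.Agent.Lib.Helper26.F2Defs

set_option autoImplicit false

namespace Cfsg.Agent.Lib.Helper23.F2SYLSTAB

open Cfsg.Agent.Lib.Helper26.F2 MulAction Subgroup
open scoped Pointwise

variable {G : Type*} [Group G] [Finite G] {Ω : Type*} [Finite Ω] [MulAction G Ω]

/-- **F2-SYLSTAB** `T` is a Sylow 2-subgroup of `G_α`: 2-elements of `G_α` are `G_α`-conjugate into `T`. -/
theorem conj_mem_of_two_elt (S : Sylow 2 G) (α : Ω)
    (hst : ∀ ω : Ω, (S : Subgroup G) ⊓ stabilizer G ω = (S : Subgroup G) ⊓ stabilizer G α ∨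
      (S : Subgroup G) ⊓ stabilizer G ω = ⊥) :
    ∀ y ∈ stabilizer G α, (∃ k : ℕ, y ^ 2 ^ k = 1) →
      ∃ h ∈ stabilizer G α, h * y * h⁻¹ ∈ (S : Subgroup G) ⊓ stabilizer G α := by
  classical
  haveI : Fact (Nat.Prime 2) := ⟨Nat.prime_two⟩
  set K : Subgroup G := stabilizer G α with hK
  set T : Subgroup G := (S : Subgroup G) ⊓ K with hT
  -- `T` as a 2-subgroup of `K`
  have hT2 : IsPGroup 2 ↥(T.subgroupOf K) := by
    have h1 : IsPGroup 2 ↥T := S.isPGroup'.to_le inf_le_left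
    exact h1.comap_subtype
  obtain ⟨Q₂, hQ₂⟩ := hT2.exists_le_sylow
  -- the image of `Q₂` in `G`
  set Q' : Subgroup G := (Q₂ : Subgroup ↥K).map K.subtype with hQ'
  have hQ'K : Q' ≤ K := by
    rintro _ ⟨x, _, rfl⟩
    exact x.2
  have hTQ' : T ≤ Q' := by
    intro t ht
    exact ⟨⟨t, ht.2⟩, hQ₂ (Subgroup.mem_subgroupOf.2 ht), rfl⟩
  have hQ'2 : IsPGroup 2 ↥Q' := Q₂.isPGroup'.map K.subtype
  obtain ⟨S', hS'⟩ := hQ'2.exists_le_sylow
  obtain ⟨g, hg⟩ := MulAction.exists_smul_eq G S S'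
  -- `g⁻¹ x g ∈ S` for `x ∈ Q'`
  have hconj : ∀ x ∈ Q', g⁻¹ * x * g ∈ (S : Subgroup G) ⊓ stabilizer G (g⁻¹ • α) := by
    intro x hx
    have hxS' : x ∈ (S' : Subgroup G) := hS' hx
    rw [← hg, Sylow.coe_subgroup_smul, Subgroup.mem_pointwise_smul_iff_inv_smul_mem] at hxS'
    have h1 : (MulAut.conj g)⁻¹ • x = g⁻¹ * x * g := by
      rw [← map_inv, MulAut.smul_def, MulAut.conj_apply, inv_inv]
    rw [h1] at hxS'
    refine ⟨hxS', ?_⟩
    show (g⁻¹ * x * g) • (g⁻¹ • α) = g⁻¹ • α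
    rw [mul_smul, mul_smul, smul_inv_smul]
    have hxα : x • α = α := hQ'K hx
    rw [hxα]
  have hQ'T : Q' = T := by
    rcases hst (g⁻¹ • α) with h | h
    · -- injection of `Q'` into `T`
      symm
      apply Subgroup.eq_of_le_of_card_ge hTQ'
      have hmem : ∀ x : ↥Q', g⁻¹ * (x : G) * g ∈ T := by
        intro x
        have := hconj x x.2
        rw [h] at this
        exact this
      apply Nat.card_le_card_of_injective (fun x : ↥Q' => (⟨g⁻¹ * (x : G) * g, hmem x⟩ : ↥T))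
      intro x x' hxx'
      have h1 : g⁻¹ * (x : G) * g = g⁻¹ * (x' : G) * g := congrArg Subtype.val hxx'
      apply Subtype.ext
      exact mul_left_cancel (mul_right_cancel h1)
    · -- `Q' = ⊥`
      apply le_antisymm _ hTQ'
      intro x hx
      have := hconj x hx
      rw [h, Subgroup.mem_bot] at this
      have hx1 : x = 1 := by
        have h2 : x = g * (g⁻¹ * x * g) * g⁻¹ := by group
        rw [h2, this]; group
      rw [hx1]
      exact T.one_mem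
  -- now Sylow conjugacy in `K`
  intro y hy ⟨k, hyk⟩
  have hyp : IsPGroup 2 ↥(Subgroup.zpowers (⟨y, hy⟩ : ↥K)) := by
    rintro ⟨z, hz⟩
    obtain ⟨j, rfl⟩ := Subgroup.mem_zpowers_iff.1 hz
    refine ⟨k, ?_⟩
    apply Subtype.ext
    have h1 : ((⟨y, hy⟩ : ↥K) ^ j) ^ 2 ^ k = ((⟨y, hy⟩ : ↥K) ^ 2 ^ k) ^ j := by
      rw [← zpow_natCast, ← zpow_mul, mul_comm, zpow_mul, zpow_natCast]
    have h2 : (⟨y, hy⟩ : ↥K) ^ 2 ^ k = 1 := by
      apply Subtype.ext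
      simpa using hyk
    simp only [Subgroup.coe_pow, Subgroup.coe_one]
    rw [h1, h2, one_zpow]
  obtain ⟨Q, hQ⟩ := hyp.exists_le_sylow
  obtain ⟨h, hh⟩ := MulAction.exists_smul_eq ↥K Q Q₂
  have hyQ : (⟨y, hy⟩ : ↥K) ∈ (Q : Subgroup ↥K) := hQ (Subgroup.mem_zpowers _)
  have h1 : MulAut.conj h • (⟨y, hy⟩ : ↥K) ∈ MulAut.conj h • (Q : Subgroup ↥K) :=
    Subgroup.smul_mem_pointwise_smul _ _ _ hyQ
  rw [← Sylow.coe_subgroup_smul, hh] at h1
  refine ⟨(h : G), h.2, ?_⟩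
  have h2 : ((MulAut.conj h • (⟨y, hy⟩ : ↥K) : ↥K) : G) ∈ Q' := ⟨_, h1, rfl⟩
  rw [hQ'T] at h2
  simpa [MulAut.smul_def, MulAut.conj_apply] using h2

end Cfsg.Agent.Lib.Helper23.F2SYLSTAB
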