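/-
helper23: S4427 market "FRB" (`notes/S4427_leaves.lean`), leaf FRB-DIM (twin): the dimension inequality
`∑_g (ctr g f)² = |G| · dim (f A f) ≤ |G| · dim (e_Q A e_R) = |G| · |G| / (|Q| |R|)`.
-/
import Mathlib
import Cfsg.Prelude.Def_Blocks
import Cfsg.Agent.Lib.Helper24.LocalRing
import Cfsg.Agent.Lib.Helper9.FRBDefs
import Cfsg.Agent.Lib.Helper12.FRBAVG

set_option autoImplicit false

namespace Cfsg.Agent.Lib.Helper23.FRBDIM

open Cfsg Cfsg.Agent.Lib.Helper9.FRB Cfsg.Agent.Lib.Helper12.FRBAVG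

variable {G : Type*} [Group G]

/-- the two-sided multiplication `w ↦ u * w * v` -/
noncomputable def sw (u v : MonoidAlgebra ℝ G) : MonoidAlgebra ℝ G →ₗ[ℝ] MonoidAlgebra ℝ G :=
  (LinearMap.mulLeft ℝ u).comp (LinearMap.mulRight ℝ v)

theorem sw_apply (u v w : MonoidAlgebra ℝ G) : sw u v w = u * (w * v) := rfl

/-- the matrix coefficient of `sw u v` at `(k, k)` -/
theorem sw_coeff [Fintype G] (u v : MonoidAlgebra ℝ G) (k : G) :
    (sw u v (MonoidAlgebra.single k 1)).coeff k =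
      ∑ a : G, u.coeff a * v.coeff (k⁻¹ * a⁻¹ * k) := by
  rw [sw_apply, coeff_mul_left]
  apply Finset.sum_congr rfl
  intro a _
  rw [MonoidAlgebra.coeff_single_mul_apply, one_mul, mul_assoc]

/-- the trace of `sw u v` -/
theorem trace_sw [Fintype G] (u v : MonoidAlgebra ℝ G) :
    LinearMap.trace ℝ (MonoidAlgebra ℝ G) (sw u v) =
      ∑ k : G, ∑ a : G, u.coeff a * v.coeff (k⁻¹ * a⁻¹ * k) := by
  classical
  rw [LinearMap.trace_eq_matrix_trace ℝ (MonoidAlgebra.basis G ℝ), Matrix.trace]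
  apply Finset.sum_congr rfl
  intro k _
  rw [Matrix.diag_apply, LinearMap.toMatrix_apply, MonoidAlgebra.basis_apply, ← sw_coeff]
  rfl

theorem finite_alg [Fintype G] : Module.Finite ℝ (MonoidAlgebra ℝ G) :=
  Module.Finite.of_basis (MonoidAlgebra.basis G ℝ)

/-- `sw u v` is a projection for idempotents `u, v` -/
theorem sw_isProj (u v : MonoidAlgebra ℝ G) (hu : u * u = u) (hv : v * v = v) :
    LinearMap.IsProj (LinearMap.range (sw u v)) (sw u v) := by
  constructor
  · intro x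
    exact LinearMap.mem_range_self _ x
  · rintro _ ⟨w, rfl⟩
    rw [sw_apply, sw_apply, mul_assoc u (w * v) v, mul_assoc w v v, hv, ← mul_assoc u u, hu]

/-- the trace of `sw u v` is the dimension of `u A v` -/
theorem trace_sw_eq_finrank [Fintype G] (u v : MonoidAlgebra ℝ G) (hu : u * u = u)
    (hv : v * v = v) :
    LinearMap.trace ℝ (MonoidAlgebra ℝ G) (sw u v) =
      (Module.finrank ℝ (LinearMap.range (sw u v)) : ℝ) := by
  haveI := finite_alg (G := G)
  exact (sw_isProj u v hu hv).trace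

/-- the dimension comparison: `w ↦ w * e_R` is injective from `f A f` into `e_Q A e_R` -/
theorem finrank_le [Fintype G] (eQ eR f x y : MonoidAlgebra ℝ G)
    (hfy : f = x * y) (hx : x = eQ * eR * eQ) (hfQ : f * eQ = f) (hQf : eQ * f = f)
    (hff : f * f = f) :
    Module.finrank ℝ (LinearMap.range (sw f f)) ≤ Module.finrank ℝ (LinearMap.range (sw eQ eR)) := by
  haveI := finite_alg (G := G)
  have hmem : ∀ w ∈ LinearMap.range (sw f f),
      LinearMap.mulRight ℝ eR w ∈ LinearMap.range (sw eQ eR) := by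
    rintro _ ⟨w, rfl⟩
    refine ⟨f * (w * f), ?_⟩
    rw [sw_apply, sw_apply, LinearMap.mulRight_apply, ← mul_assoc eQ, ← mul_assoc eQ, hQf]
  apply LinearMap.finrank_le_finrank_of_injective
    (f := (LinearMap.mulRight ℝ eR).restrict hmem)
  intro a b hab
  have h1 : (a : MonoidAlgebra ℝ G) * eR = (b : MonoidAlgebra ℝ G) * eR := by
    have := congrArg Subtype.val hab
    simpa using this
  obtain ⟨wa, hwa⟩ := a.2
  obtain ⟨wb, hwb⟩ := b.2
  -- elements of `f A f` are fixed by right multiplication by `f` and by `eQ`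
  have hfix : ∀ c ∈ LinearMap.range (sw f f), c * f = c ∧ c * eQ = c := by
    rintro _ ⟨w, rfl⟩
    rw [sw_apply]
    constructor
    · rw [mul_assoc, mul_assoc, hff]
    · rw [mul_assoc, mul_assoc, hfQ]
  have key : ∀ c ∈ LinearMap.range (sw f f), c = c * eR * eQ * y := by
    intro c hc
    obtain ⟨hcf, hcQ⟩ := hfix c hc
    calc c = c * f := hcf.symm
      _ = c * (eQ * eR * eQ * y) := by rw [hfy, hx]
      _ = c * eQ * eR * eQ * y := by simp only [mul_assoc]
      _ = c * eR * eQ * y := by rw [hcQ]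
  apply Subtype.ext
  rw [key a a.2, key b b.2, h1]

/-- coprime subgroups: `a ∈ Q` with a conjugate of `a⁻¹` in `R` is trivial -/
theorem eq_one_of_mem_of_conj_mem [Finite G] (Q R : Subgroup G)
    (hcop : (Nat.card Q).Coprime (Nat.card R)) {a k : G} (ha : a ∈ Q)
    (hk : k⁻¹ * a⁻¹ * k ∈ R) : a = 1 := by
  have h1 : orderOf a ∣ Nat.card Q := Subgroup.orderOf_dvd_natCard Q ha
  have h2 : orderOf a ∣ Nat.card R := by
    have h3 : orderOf (k⁻¹ * a⁻¹ * k) = orderOf a := by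
      have : k⁻¹ * a⁻¹ * k = MulAut.conj k⁻¹ a⁻¹ := by
        rw [MulAut.conj_apply, inv_inv]
      rw [this, MulEquiv.orderOf_eq, orderOf_inv]
    rw [← h3]
    exact Subgroup.orderOf_dvd_natCard R hk
  have h4 : orderOf a ∣ 1 := by
    have := Nat.dvd_gcd h1 h2
    rwa [hcop] at this
  exact orderOf_eq_one_iff.mp (Nat.dvd_one.mp h4)

/-- the trace of `w ↦ e_Q w e_R` for coprime `Q, R` -/
theorem trace_avg [Fintype G] (Q R : Subgroup G) (hcop : (Nat.card Q).Coprime (Nat.card R)) :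
    LinearMap.trace ℝ (MonoidAlgebra ℝ G) (sw (avg Q) (avg R)) =
      (Fintype.card G : ℝ) / ((Nat.card Q : ℝ) * (Nat.card R : ℝ)) := by
  classical
  rw [trace_sw]
  have hk : ∀ k : G, ∑ a : G, (avg Q).coeff a * (avg R).coeff (k⁻¹ * a⁻¹ * k) =
      ((Nat.card Q : ℝ))⁻¹ * ((Nat.card R : ℝ))⁻¹ := by
    intro k
    rw [Finset.sum_eq_single 1]
    · rw [avg_coeff, avg_coeff, if_pos Q.one_mem, if_pos]
      simp
    · intro a _ ha1
      rw [avg_coeff, avg_coeff]
      by_cases haQ : a ∈ Q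
      · by_cases haR : k⁻¹ * a⁻¹ * k ∈ R
        · exact absurd (eq_one_of_mem_of_conj_mem Q R hcop haQ haR) ha1
        · rw [if_neg haR, mul_zero]
      · rw [if_neg haQ, zero_mul]
    · intro h
      exact absurd (Finset.mem_univ 1) h
  rw [Finset.sum_congr rfl (fun k _ => hk k), Finset.sum_const, Finset.card_univ, nsmul_eq_mul]
  rw [div_eq_mul_inv, mul_inv]

/-- `ctr` is a class function -/
theorem ctr_conj [Fintype G] (w : MonoidAlgebra ℝ G) (g h : G) :
    ctr (h * g * h⁻¹) w = ctr g w := by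
  unfold ctr
  rw [← Equiv.sum_comp (Equiv.mulLeft h) (fun k => w.coeff (k⁻¹ * (h * g * h⁻¹) * k))]
  apply Finset.sum_congr rfl
  intro k _
  simp only [Equiv.coe_mulLeft]
  congr 1
  group

/-- `ctr g⁻¹ f = ctr g f` for symmetric `f` -/
theorem ctr_inv [Fintype G] (f : MonoidAlgebra ℝ G) (hsym : rev f = f) (g : G) :
    ctr g⁻¹ f = ctr g f := by
  unfold ctr
  apply Finset.sum_congr rfl
  intro h _
  rw [← hsym, rev_coeff, hsym]
  congr 1
  group

/-- `∑_g (ctr g f)² = |G| ∑_a f(a) ctr a f` -/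
theorem sum_ctr_sq [Fintype G] (f : MonoidAlgebra ℝ G) :
    ∑ g : G, (ctr g f) ^ 2 = (Fintype.card G : ℝ) * ∑ a : G, ctr a f * f.coeff a := by
  have h1 : ∀ g : G, (ctr g f) ^ 2 = ∑ h : G, ctr g f * f.coeff (h⁻¹ * g * h) := by
    intro g
    rw [pow_two, ← Finset.mul_sum]
    rfl
  rw [Finset.sum_congr rfl (fun g _ => h1 g), Finset.sum_comm]
  have h2 : ∀ h : G, ∑ g : G, ctr g f * f.coeff (h⁻¹ * g * h) = ∑ a : G, ctr a f * f.coeff a := by
    intro h
    rw [← Equiv.sum_comp (MulAut.conj h).toEquiv (fun g => ctr g f * f.coeff (h⁻¹ * g * h))]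
    apply Finset.sum_congr rfl
    intro a _
    simp only [MulEquiv.toEquiv_eq_coe, EquivLike.coe_coe, MulAut.conj_apply]
    rw [ctr_conj]
    congr 2
    group
  rw [Finset.sum_congr rfl (fun h _ => h2 h), Finset.sum_const, Finset.card_univ, nsmul_eq_mul]

/-- `∑_g (ctr g f)² = |G| tr (w ↦ f w f)` for symmetric `f` -/
theorem sum_ctr_sq_eq_trace [Fintype G] (f : MonoidAlgebra ℝ G) (hsym : rev f = f) :
    ∑ g : G, (ctr g f) ^ 2 =
      (Fintype.card G : ℝ) * LinearMap.trace ℝ (MonoidAlgebra ℝ G) (sw f f) := by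
  rw [sum_ctr_sq, trace_sw, Finset.sum_comm]
  congr 1
  apply Finset.sum_congr rfl
  intro a _
  rw [← Finset.mul_sum, mul_comm, ← ctr_inv f hsym a]
  rfl

theorem dim_bound [Fintype G] (Q R : Subgroup G) (hcop : (Nat.card Q).Coprime (Nat.card R))
    (f y : MonoidAlgebra ℝ G) (hff : f * f = f) (hsym : rev f = f)
    (hfy : f = avg Q * avg R * avg Q * y) (hfQ : f * avg Q = f) (hQf : avg Q * f = f) :
    ∑ g : G, (ctr g f) ^ 2 ≤
      (Fintype.card G : ℝ) * ((Fintype.card G : ℝ) / ((Nat.card Q : ℝ) * (Nat.card R : ℝ))) := by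
  rw [sum_ctr_sq_eq_trace f hsym, trace_sw_eq_finrank f f hff hff, ← trace_avg Q R hcop,
    trace_sw_eq_finrank (avg Q) (avg R) (avg_mul_self Q) (avg_mul_self R)]
  apply mul_le_mul_of_nonneg_left _ (Nat.cast_nonneg _)
  exact_mod_cast finrank_le (avg Q) (avg R) f (avg Q * avg R * avg Q) y hfy rfl hfQ hQf hff

end Cfsg.Agent.Lib.Helper23.FRBDIM
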