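/-
helper23: S4427 market "FRB" (`notes/S4427_leaves.lean`), leaf FRB-KER (twin): for a `rev`-symmetric idempotent `f` of the
real group algebra, `{g : ctr g f = ctr 1 f}` is a normal subgroup (the normal core of the stabiliser of `f` under left
translation):  `2 (ctr 1 f - ctr g f) = ∑_h ∑_b (f(h⁻¹ b) - f(h⁻¹ g⁻¹ b))²`.
-/
import Mathlib
import Cfsg.Prelude.Def_Blocks
import Cfsg.Agent.Lib.Helper24.LocalRing
import Cfsg.Agent.Lib.Helper9.FRBDefs

set_option autoImplicit false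

namespace Cfsg.Agent.Lib.Helper23.FRBKER

open Cfsg Cfsg.Agent.Lib.Helper9.FRB

variable {G : Type*} [Group G]

theorem coeff_mul_left' [Fintype G] (x y : MonoidAlgebra ℝ G) (g : G) :
    (x * y).coeff g = ∑ a : G, x.coeff a * y.coeff (a⁻¹ * g) := by
  rw [MonoidAlgebra.coeff_mul_apply_left, Finsupp.sum_fintype]
  intro h; simp

/-- `f(k) = ⟨f, L_k f⟩` for a symmetric idempotent -/
theorem coeff_eq_inner [Fintype G] (f : MonoidAlgebra ℝ G) (hff : f * f = f) (hsym : rev f = f)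
    (k : G) : f.coeff k = ∑ a : G, f.coeff a * f.coeff (k⁻¹ * a) := by
  have hinv : ∀ c : G, f.coeff c⁻¹ = f.coeff c := by
    intro c
    rw [← rev_coeff, hsym]
  conv_lhs => rw [← hff]
  rw [coeff_mul_left']
  apply Finset.sum_congr rfl
  intro a _
  rw [← hinv (a⁻¹ * k)]
  congr 2
  group

/-- the stabiliser of `f` under left translation -/
def stabL (f : MonoidAlgebra ℝ G) : Subgroup G where
  carrier := {k | ∀ a : G, f.coeff (k⁻¹ * a) = f.coeff a}
  one_mem' := by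
    intro a
    simp
  mul_mem' := by
    intro k k' hk hk' a
    show f.coeff ((k * k')⁻¹ * a) = f.coeff a
    rw [mul_inv_rev, mul_assoc, hk' (k⁻¹ * a), hk a]
  inv_mem' := by
    intro k hk a
    show f.coeff (k⁻¹⁻¹ * a) = f.coeff a
    have := hk (k * a)
    rw [inv_mul_cancel_left] at this
    rw [inv_inv]
    exact this.symm

theorem mem_stabL (f : MonoidAlgebra ℝ G) (k : G) :
    k ∈ stabL f ↔ ∀ a : G, f.coeff (k⁻¹ * a) = f.coeff a := Iff.rfl

/-- the polarisation identity at one `h` -/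
theorem two_mul_sub_eq [Fintype G] (f : MonoidAlgebra ℝ G) (hff : f * f = f) (hsym : rev f = f)
    (g h : G) :
    2 * (f.coeff (h⁻¹ * 1 * h) - f.coeff (h⁻¹ * g * h)) =
      ∑ b : G, (f.coeff (h⁻¹ * b) - f.coeff (h⁻¹ * g⁻¹ * b)) ^ 2 := by
  have h1 : f.coeff (h⁻¹ * 1 * h) = ∑ b : G, f.coeff (h⁻¹ * b) * f.coeff (h⁻¹ * b) := by
    rw [mul_one, inv_mul_cancel, coeff_eq_inner f hff hsym 1]
    rw [← Equiv.sum_comp (Equiv.mulLeft h⁻¹)
      (fun a => f.coeff a * f.coeff (1⁻¹ * a))]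
    apply Finset.sum_congr rfl
    intro b _
    simp
  have h2 : f.coeff (h⁻¹ * 1 * h) =
      ∑ b : G, f.coeff (h⁻¹ * g⁻¹ * b) * f.coeff (h⁻¹ * g⁻¹ * b) := by
    rw [mul_one, inv_mul_cancel, coeff_eq_inner f hff hsym 1]
    rw [← Equiv.sum_comp (Equiv.mulLeft (h⁻¹ * g⁻¹))
      (fun a => f.coeff a * f.coeff (1⁻¹ * a))]
    apply Finset.sum_congr rfl
    intro b _
    simp [mul_assoc]
  have h3 : f.coeff (h⁻¹ * g * h) = ∑ b : G, f.coeff (h⁻¹ * b) * f.coeff (h⁻¹ * g⁻¹ * b) := by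
    rw [coeff_eq_inner f hff hsym (h⁻¹ * g * h)]
    rw [← Equiv.sum_comp (Equiv.mulLeft h⁻¹)
      (fun a => f.coeff a * f.coeff ((h⁻¹ * g * h)⁻¹ * a))]
    apply Finset.sum_congr rfl
    intro b _
    simp only [Equiv.coe_mulLeft]
    congr 2
    group
  have h4 : ∀ b : G, (f.coeff (h⁻¹ * b) - f.coeff (h⁻¹ * g⁻¹ * b)) ^ 2 =
      f.coeff (h⁻¹ * b) * f.coeff (h⁻¹ * b)
        + f.coeff (h⁻¹ * g⁻¹ * b) * f.coeff (h⁻¹ * g⁻¹ * b)
        - 2 * (f.coeff (h⁻¹ * b) * f.coeff (h⁻¹ * g⁻¹ * b)) := by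
    intro b
    ring
  rw [Finset.sum_congr rfl (fun b _ => h4 b), Finset.sum_sub_distrib, Finset.sum_add_distrib,
    ← Finset.mul_sum, ← h1, ← h2, ← h3]
  rw [h1]
  ring

/-- `ctr g f = ctr 1 f` iff all the translates `L_h f` are fixed by `L_g` -/
theorem ctr_eq_iff [Fintype G] (f : MonoidAlgebra ℝ G) (hff : f * f = f) (hsym : rev f = f)
    (g : G) :
    ctr g f = ctr 1 f ↔ ∀ h b : G, f.coeff (h⁻¹ * b) = f.coeff (h⁻¹ * g⁻¹ * b) := by
  have key : 2 * (ctr 1 f - ctr g f) =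
      ∑ h : G, ∑ b : G, (f.coeff (h⁻¹ * b) - f.coeff (h⁻¹ * g⁻¹ * b)) ^ 2 := by
    unfold ctr
    rw [← Finset.sum_sub_distrib, Finset.mul_sum]
    apply Finset.sum_congr rfl
    intro h _
    exact two_mul_sub_eq f hff hsym g h
  constructor
  · intro heq
    rw [heq, sub_self, mul_zero] at key
    have h1 := (Finset.sum_eq_zero_iff_of_nonneg
      (fun h _ => Finset.sum_nonneg (fun b _ => sq_nonneg _))).mp key.symm
    intro h b
    have h2 := (Finset.sum_eq_zero_iff_of_nonneg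
      (fun b _ => sq_nonneg _)).mp (h1 h (Finset.mem_univ h)) b (Finset.mem_univ b)
    have h3 := pow_eq_zero_iff (two_ne_zero) |>.mp h2
    exact sub_eq_zero.mp h3
  · intro hall
    have h0 : ∑ h : G, ∑ b : G, (f.coeff (h⁻¹ * b) - f.coeff (h⁻¹ * g⁻¹ * b)) ^ 2 = 0 := by
      apply Finset.sum_eq_zero
      intro h _
      apply Finset.sum_eq_zero
      intro b _
      rw [hall h b, sub_self]
      ring
    rw [h0] at key
    have : ctr 1 f - ctr g f = 0 := by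
      have h2 : (2 : ℝ) ≠ 0 := two_ne_zero
      exact (mul_eq_zero.mp key).resolve_left h2
    exact (sub_eq_zero.mp this).symm

theorem ker_normal [Fintype G] (f : MonoidAlgebra ℝ G) (hff : f * f = f) (hsym : rev f = f) :
    ∃ N : Subgroup G, N.Normal ∧ ∀ g : G, g ∈ N ↔ ctr g f = ctr 1 f := by
  refine ⟨(stabL f).normalCore, Subgroup.normalCore_normal _, ?_⟩
  intro g
  rw [ctr_eq_iff f hff hsym g]
  constructor
  · intro hg h b
    have h1 : h⁻¹ * g * h⁻¹⁻¹ ∈ stabL f := hg h⁻¹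
    have h2 := (mem_stabL f _).mp h1 (h⁻¹ * b)
    rw [← h2]
    congr 1
    group
  · intro hall h
    show h * g * h⁻¹ ∈ stabL f
    rw [mem_stabL]
    intro a
    have h1 := hall h⁻¹ (h⁻¹ * a)
    rw [inv_inv, mul_inv_cancel_left] at h1
    rw [h1]
    congr 1
    group

end Cfsg.Agent.Lib.Helper23.FRBKER
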