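import Mathlib
import Cfsg.Prelude.Def_Local

/-!
# Minimal situation for "small degree ⇒ normal Sylow" theorems (helper23)

Pure group theory: a finite group `G` all of whose proper subgroups have normal Sylow `p`-subgroups,
with an abelian, non-normal Sylow `p`-subgroup `P`. Then distinct Sylow `p`-subgroups meet in the
centre, no proper normal subgroup contains `P`, and either `P ∩ Z(G) = 1` and the centralizer of every
non-central element meets at most one conjugate of `P`, or `G` is `p`-solvable (transfer).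
-/

set_option autoImplicit false

namespace Cfsg.Agent.Lib.Helper23.FTMin

open Subgroup

universe u

variable {G : Type u} [Group G] [Finite G] {p : ℕ} [hp : Fact p.Prime]

/-- every proper subgroup has only normal Sylow `p`-subgroups -/
def MinSit (p : ℕ) (G : Type u) [Group G] : Prop :=
  ∀ L : Subgroup G, L ≠ ⊤ → ∀ Q : Sylow p L, (Q : Subgroup L).Normal

/-- two `p`-subgroups inside a proper subgroup lie in a common Sylow `p`-subgroup -/
theorem exists_sylow_ge (hMS : MinSit p G) {L : Subgroup G} (hL : L ≠ ⊤) {A B : Subgroup G}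
    (hA : IsPGroup p A) (hB : IsPGroup p B) (hAL : A ≤ L) (hBL : B ≤ L) :
    ∃ R : Sylow p G, A ≤ R ∧ B ≤ R := by
  obtain ⟨Q⟩ : Nonempty (Sylow p L) := inferInstance
  have hQn := hMS L hL Q
  have key : ∀ C : Subgroup G, IsPGroup p C → C ≤ L → C ≤ (Q : Subgroup L).map L.subtype := by
    intro C hC hCL
    have h1 : IsPGroup p (C.subgroupOf L) := hC.comap_subtype
    obtain ⟨Q', hQ'⟩ := h1.exists_le_sylow
    have hu := Sylow.unique_of_normal Q hQn
    have hQQ : Q' = Q := Subsingleton.elim Q' Q
    intro x hx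
    have h2 : (⟨x, hCL hx⟩ : L) ∈ C.subgroupOf L := Subgroup.mem_subgroupOf.mpr hx
    have h3 : (⟨x, hCL hx⟩ : L) ∈ (Q : Subgroup L) := by
      rw [← hQQ]
      exact hQ' h2
    exact Subgroup.mem_map.mpr ⟨⟨x, hCL hx⟩, h3, rfl⟩
  have hS : IsPGroup p ((Q : Subgroup L).map L.subtype) := Q.isPGroup'.map L.subtype
  obtain ⟨R, hR⟩ := hS.exists_le_sylow
  exact ⟨R, (key A hA hAL).trans hR, (key B hB hBL).trans hR⟩

/-- distinct abelian Sylow `p`-subgroups meet inside the centre -/
theorem inf_le_center (hMS : MinSit p G)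
    (hab : ∀ R : Sylow p G, ∀ x ∈ (R : Subgroup G), ∀ y ∈ (R : Subgroup G), x * y = y * x)
    (P Q : Sylow p G) (hne : P ≠ Q) : (P : Subgroup G) ⊓ Q ≤ center G := by
  have htop : (P : Subgroup G) ⊔ Q = ⊤ := by
    by_contra hL
    obtain ⟨R, h1, h2⟩ := exists_sylow_ge hMS hL P.isPGroup' Q.isPGroup' le_sup_left le_sup_right
    have e1 : (R : Subgroup G) = P := P.is_maximal' R.isPGroup' h1
    have e2 : (R : Subgroup G) = Q := Q.is_maximal' R.isPGroup' h2
    exact hne (Sylow.ext (e1.symm.trans e2))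
  intro x hx
  have hle : (P : Subgroup G) ⊔ Q ≤ centralizer {x} := by
    apply sup_le
    · intro y hy
      rw [Subgroup.mem_centralizer_iff]
      intro z hz
      rw [Set.mem_singleton_iff] at hz
      subst hz
      exact hab P z hx.1 y hy
    · intro y hy
      rw [Subgroup.mem_centralizer_iff]
      intro z hz
      rw [Set.mem_singleton_iff] at hz
      subst hz
      exact hab Q z hx.2 y hy
  rw [Subgroup.mem_center_iff]
  intro g
  have hg : g ∈ centralizer {x} := hle (htop ▸ Subgroup.mem_top g)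
  rw [Subgroup.mem_centralizer_iff] at hg
  exact (hg x rfl).symm

/-- the subgroup underlying a conjugate Sylow subgroup -/
theorem map_conj_eq_smul (P : Sylow p G) (c : G) :
    (P : Subgroup G).map (MulAut.conj c).toMonoidHom = ((c • P : Sylow p G) : Subgroup G) := by
  rw [Sylow.smul_def, Sylow.pointwise_smul_def, Subgroup.pointwise_smul_def]
  rfl

/-- a proper subgroup containing all conjugates of `P` forces `P` normal -/
theorem eq_top_of_normal_of_le (hMS : MinSit p G) (P : Sylow p G) (hP : ¬ (P : Subgroup G).Normal)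
    (M : Subgroup G) (hM : M.Normal) (hPM : (P : Subgroup G) ≤ M) : M = ⊤ := by
  by_contra hne
  apply hP
  rw [← Subgroup.normalizer_eq_top_iff]
  rw [eq_top_iff]
  intro g _
  apply Sylow.smul_eq_iff_mem_normalizer.mp
  have hgM : ((g • P : Sylow p G) : Subgroup G) ≤ M := by
    rw [← map_conj_eq_smul]
    rintro x ⟨y, hy, rfl⟩
    exact hM.conj_mem y (hPM hy) g
  obtain ⟨R, h1, h2⟩ := exists_sylow_ge hMS hne P.isPGroup' (g • P).isPGroup' hPM hgM
  have e1 : (R : Subgroup G) = P := P.is_maximal' R.isPGroup' h1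
  have e2 : (R : Subgroup G) = (g • P : Sylow p G) := (g • P).is_maximal' R.isPGroup' h2
  exact Sylow.ext (e2.symm.trans e1)

/-- conjugates of `P` also meet the centre trivially -/
theorem map_conj_inf_center (P : Subgroup G) (hZ : P ⊓ center G = ⊥) (a : G) :
    P.map (MulAut.conj a).toMonoidHom ⊓ center G = ⊥ := by
  rw [eq_bot_iff]
  intro x hx
  obtain ⟨⟨y, hy, hyx⟩, hxc0⟩ := hx
  have hxc : x ∈ center G := hxc0
  have hyx' : a * y * a⁻¹ = x := hyx
  have hxy : x = y := by
    have h1 : a⁻¹ * x * a = y := by rw [← hyx']; group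
    rw [Subgroup.mem_center_iff] at hxc
    have h2 : a⁻¹ * x * a = x := by
      rw [mul_assoc, ← hxc a, ← mul_assoc, inv_mul_cancel, one_mul]
    rw [← h1, h2]
  have : y ∈ P ⊓ center G := ⟨hy, hxy ▸ hxc⟩
  rw [hZ, Subgroup.mem_bot] at this
  rw [Subgroup.mem_bot, hxy, this]

/-- the centralizer condition of Leonard's inequality -/
theorem hone_of_inf_center_eq_bot (hMS : MinSit p G)
    (hab : ∀ R : Sylow p G, ∀ x ∈ (R : Subgroup G), ∀ y ∈ (R : Subgroup G), x * y = y * x)
    (P : Sylow p G) (hZ : (P : Subgroup G) ⊓ center G = ⊥) :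
    ∀ g : G, g ∉ center G → ∀ a b : G,
      centralizer ({g} : Set G) ⊓ (P : Subgroup G).map (MulAut.conj a).toMonoidHom ≠ ⊥ →
      centralizer ({g} : Set G) ⊓ (P : Subgroup G).map (MulAut.conj b).toMonoidHom ≠ ⊥ →
      (P : Subgroup G).map (MulAut.conj a).toMonoidHom =
        (P : Subgroup G).map (MulAut.conj b).toMonoidHom := by
  intro g hg a b ha hb
  have hL : centralizer ({g} : Set G) ≠ ⊤ := by
    intro h
    rw [Subgroup.centralizer_eq_top_iff_subset] at h
    exact hg (h rfl)
  have hmap : ∀ c : G, (P : Subgroup G).map (MulAut.conj c).toMonoidHom =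
      ((c • P : Sylow p G) : Subgroup G) := map_conj_eq_smul P
  have hpa : IsPGroup p ↥(centralizer ({g} : Set G) ⊓ (P : Subgroup G).map (MulAut.conj a).toMonoidHom) := by
    rw [hmap]; exact (a • P).isPGroup'.to_le inf_le_right
  have hpb : IsPGroup p ↥(centralizer ({g} : Set G) ⊓ (P : Subgroup G).map (MulAut.conj b).toMonoidHom) := by
    rw [hmap]; exact (b • P).isPGroup'.to_le inf_le_right
  obtain ⟨R, h1, h2⟩ := exists_sylow_ge hMS hL hpa hpb inf_le_left inf_le_left
  have key : ∀ c : G, centralizer ({g} : Set G) ⊓ (P : Subgroup G).map (MulAut.conj c).toMonoidHom ≠ ⊥ →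
      centralizer ({g} : Set G) ⊓ (P : Subgroup G).map (MulAut.conj c).toMonoidHom ≤ R →
      (c • P : Sylow p G) = R := by
    intro c hc hcR
    by_contra hne
    apply hc
    rw [eq_bot_iff]
    have h3 := inf_le_center hMS hab (c • P) R hne
    have h4 := map_conj_inf_center (P : Subgroup G) hZ c
    rw [← h4]
    intro x hx
    refine ⟨hx.2, h3 ⟨?_, hcR hx⟩⟩
    rw [← hmap]
    exact hx.2
  rw [hmap, hmap, key a ha h1, key b hb h2]

/-- a three-step normal series witnesses `p`-solvability -/
theorem isPSolvable_of_chain3 {G : Type u} [Group G] {p : ℕ} (S K : Subgroup G) [hS : S.Normal] [hK : K.Normal]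
    (hSK : S ≤ K) (hSp : ∃ m : ℕ, Nat.card S = p ^ m) (hrel : (S.relIndex K).Coprime p)
    (hKp : ∃ m : ℕ, K.index = p ^ m) : Cfsg.IsPSolvable p G := by
  refine ⟨3, ![⊥, S, K, ⊤], rfl, rfl, ?_, ?_, ?_⟩
  · intro i j hij
    fin_cases i <;> fin_cases j <;> simp at hij ⊢ <;> first | exact hSK | exact le_rfl | skip
  · intro i
    fin_cases i
    · show (⊥ : Subgroup G).Normal
      infer_instance
    · exact hS
    · exact hK
    · show (⊤ : Subgroup G).Normal
      infer_instance
  · intro i
    fin_cases i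
    · left
      obtain ⟨m, hm⟩ := hSp
      refine ⟨m, ?_⟩
      show (⊥ : Subgroup G).relIndex S = p ^ m
      rw [Subgroup.relIndex_bot_left, hm]
    · right
      show (S.relIndex K).Coprime p
      exact hrel
    · left
      obtain ⟨m, hm⟩ := hKp
      refine ⟨m, ?_⟩
      show (K.relIndex ⊤) = p ^ m
      rw [Subgroup.relIndex_top_right, hm]

end Cfsg.Agent.Lib.Helper23.FTMin
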