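import Mathlib
import Cfsg.Agent.Lib.Helper23.FTMinA

/-!
# Minimal situation, part B: transfer gives `p`-solvability when `P ∩ Z(G) ≠ 1` (helper23)
-/

set_option autoImplicit false

namespace Cfsg.Agent.Lib.Helper23.FTMin

open Subgroup

universe u

variable {G : Type u} [Group G] [Finite G] {p : ℕ} [hp : Fact p.Prime]

/-- If the abelian Sylow `p`-subgroup `P` meets the centre non-trivially, then (in the minimal situation)
`G` is `p`-solvable: the kernel of the transfer into `P` is a proper normal subgroup of `p`-power index. -/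
theorem isPSolvable_of_inf_center_ne_bot (hMS : MinSit p G)
    (hab : ∀ R : Sylow p G, ∀ x ∈ (R : Subgroup G), ∀ y ∈ (R : Subgroup G), x * y = y * x)
    (P : Sylow p G) (hZ : (P : Subgroup G) ⊓ center G ≠ ⊥) : Cfsg.IsPSolvable p G := by
  let _ : CommGroup ↥(P : Subgroup G) :=
    { (inferInstance : Group ↥(P : Subgroup G)) with
      mul_comm := fun a b => Subtype.ext (hab P a a.2 b b.2) }
  let T : G →* ↥(P : Subgroup G) := (MonoidHom.id ↥(P : Subgroup G)).transfer
  obtain ⟨⟨z, hzP, hzc⟩, hz1⟩ := (Subgroup.ne_bot_iff_exists_ne_one).mp hZ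
  have hz1' : z ≠ 1 := fun h => hz1 (Subtype.ext h)
  have hzc' : z ∈ center G := hzc
  have key : ∀ (k : ℕ) (g₀ : G), g₀⁻¹ * z ^ k * g₀ ∈ (P : Subgroup G) →
      g₀⁻¹ * z ^ k * g₀ = z ^ k := by
    intro k g₀ _
    have hc : z ^ k ∈ center G := Subgroup.pow_mem _ hzc' k
    rw [Subgroup.mem_center_iff] at hc
    rw [mul_assoc, ← hc g₀, ← mul_assoc, inv_mul_cancel, one_mul]
  have hTz : ((T z : ↥(P : Subgroup G)) : G) = z ^ (P : Subgroup G).index := by
    have := MonoidHom.transfer_eq_pow (MonoidHom.id ↥(P : Subgroup G)) z key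
    show (((MonoidHom.id ↥(P : Subgroup G)).transfer z : ↥(P : Subgroup G)) : G) = _
    rw [this]
    rfl
  have hzpow : z ^ (P : Subgroup G).index ≠ 1 := by
    intro h
    have hdvd : orderOf z ∣ (P : Subgroup G).index := orderOf_dvd_of_pow_eq_one h
    obtain ⟨j, hj⟩ := (P.isPGroup'.to_le (le_refl _)) ⟨z, hzP⟩
    have hj' : z ^ p ^ j = 1 := by
      have := congrArg Subtype.val hj
      simpa using this
    obtain ⟨i, -, hi⟩ := (Nat.dvd_prime_pow hp.out).mp (orderOf_dvd_of_pow_eq_one hj')
    have hi0 : i ≠ 0 := by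
      intro h0
      rw [h0, pow_zero, orderOf_eq_one_iff] at hi
      exact hz1' hi
    apply Sylow.not_dvd_index P
    rw [hi] at hdvd
    exact (dvd_pow_self p hi0).trans hdvd
  have hKtop : T.ker ≠ ⊤ := by
    intro h
    have hzk : z ∈ T.ker := h ▸ Subgroup.mem_top z
    rw [MonoidHom.mem_ker] at hzk
    apply hzpow
    rw [← hTz, hzk]
    rfl
  have hKn : T.ker.Normal := MonoidHom.normal_ker T
  -- index of the kernel
  have hKidx : ∃ m : ℕ, T.ker.index = p ^ m := by
    rw [Subgroup.index_ker]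
    obtain ⟨m, hm⟩ := IsPGroup.iff_card.mp P.isPGroup'
    have hdvd : Nat.card ↥T.range ∣ p ^ m := by
      rw [← hm]
      exact Subgroup.card_subgroup_dvd_card T.range
    obtain ⟨i, -, hi⟩ := (Nat.dvd_prime_pow hp.out).mp hdvd
    exact ⟨i, hi⟩
  -- the Sylow subgroup of the kernel
  obtain ⟨S⟩ : Nonempty (Sylow p T.ker) := inferInstance
  have hSn : (S : Subgroup T.ker).Normal := hMS T.ker hKtop S
  have hSc : (S : Subgroup T.ker).Characteristic := Sylow.characteristic_of_normal S hSn
  have hS0n : ((S : Subgroup T.ker).map T.ker.subtype).Normal :=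
    ConjAct.normal_of_characteristic_of_normal
  have hle : (S : Subgroup T.ker).map T.ker.subtype ≤ T.ker := Subgroup.map_subtype_le _
  have hcard : ∃ m : ℕ, Nat.card ↥((S : Subgroup T.ker).map T.ker.subtype) = p ^ m := by
    obtain ⟨m, hm⟩ := IsPGroup.iff_card.mp S.isPGroup'
    refine ⟨m, ?_⟩
    rw [← hm]
    exact Nat.card_congr
      ((S : Subgroup T.ker).equivMapOfInjective T.ker.subtype T.ker.subtype_injective).symm.toEquiv
  have hrel : (((S : Subgroup T.ker).map T.ker.subtype).relIndex T.ker).Coprime p := by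
    have h1 : ((S : Subgroup T.ker).map T.ker.subtype).relIndex T.ker = (S : Subgroup T.ker).index := by
      rw [Subgroup.relIndex]
      congr 1
      ext x
      rw [Subgroup.mem_subgroupOf, Subgroup.mem_map]
      constructor
      · rintro ⟨y, hy, hyx⟩
        have : y = x := Subtype.ext hyx
        rw [← this]; exact hy
      · intro hx
        exact ⟨x, hx, rfl⟩
    rw [h1]
    exact ((Nat.Prime.coprime_iff_not_dvd hp.out).mpr (Sylow.not_dvd_index S)).symm
  exact isPSolvable_of_chain3 ((S : Subgroup T.ker).map T.ker.subtype) T.ker hle hcard hrel hKidx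

end Cfsg.Agent.Lib.Helper23.FTMin
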