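import Mathlib
import Cfsg.Agent.Lib.Helper23.FTMinB
import Cfsg.Agent.Lib.Helper2.FTLemma2
import Cfsg.Agent.Lib.Lead.Blich3
import Cfsg.Agent.Lib.Lead.ItoD
import Cfsg.Agent.Lib.Helper25.Gagola

/-!
# Linear groups of small degree have normal Sylow `p`-subgroups (helper23)

`G` with a faithful character of degree `n`; if `(n+1)² ≤ p`, or `n + 1 < p` and all subgroups of order
not divisible by `p²` have normal Sylow `p`-subgroups, then the Sylow `p`-subgroups of `G` are normal.
Minimal counterexample: Leonard's inequality (helper2 `ft_lemma`) if `P ∩ Z(G) = 1`, transfer and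
Ito's theorem (lead) otherwise.
-/

set_option autoImplicit false

namespace Cfsg.Agent.Lib.Helper23.FTMin

open Subgroup Cfsg Cfsg.Agent.CharLib Cfsg.Agent.Lib.Helper6 Cfsg.Agent.Lib.Helper25
open scoped ComplexConjugate commutatorElement

universe u

/-- normality of all Sylow subgroups is transported along an isomorphism -/
theorem sylow_normal_of_mulEquiv {p : ℕ} [hp : Fact p.Prime] {A B : Type*} [Group A] [Group B] [Finite A]
    (e : A ≃* B) (h : ∀ Q' : Sylow p B, (Q' : Subgroup B).Normal) (Q : Sylow p A) :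
    (Q : Subgroup A).Normal := by
  have : Finite B := Finite.of_equiv A e.toEquiv
  have hcard : Nat.card ↥((Q : Subgroup A).map e.toMonoidHom) = p ^ (Nat.card B).factorization p := by
    rw [← Nat.card_congr e.toEquiv, ← Sylow.card_eq_multiplicity Q]
    exact Nat.card_congr
      ((Q : Subgroup A).equivMapOfInjective e.toMonoidHom e.injective).symm.toEquiv
  have h1 := h (Sylow.ofCard _ hcard)
  rw [Sylow.coe_ofCard] at h1
  have h2 : ((Q : Subgroup A).map e.toMonoidHom).comap e.toMonoidHom = Q :=
    Subgroup.comap_map_eq_self_of_injective e.injective _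
  rw [← h2]
  exact h1.comap _

variable {G : Type u} [Group G]

/-- a faithful character all of whose irreducible constituents are linear lives on an abelian group -/
theorem commute_of_linear_constituents [Fintype G] {χ : G → ℂ} (hχ : IsCharacter G χ)
    (hfaith : ∀ g, χ g = χ 1 → g = 1)
    (hlin : ∀ ψ : IrrCharacter G, classInner χ (ψ : G → ℂ) ≠ 0 → (ψ : G → ℂ) 1 = 1) (a b : G) :
    a * b = b * a := by
  classical
  let _ := fintypeIrr G
  obtain ⟨m, hm, hcoef⟩ := IsCharacter.exists_decomp_sum hχ
  have hval : ∀ g, χ g = ∑ ψ : IrrCharacter G, (m ψ : ℂ) * (ψ : G → ℂ) g := by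
    intro g
    conv_lhs => rw [hm]
    rw [Finset.sum_apply]
    exact Finset.sum_congr rfl (fun ψ _ => by rw [Pi.smul_apply, nsmul_eq_mul])
  have h1 : χ ⁅a, b⁆ = χ 1 := by
    rw [hval, hval 1]
    apply Finset.sum_congr rfl
    intro ψ _
    by_cases hψ : m ψ = 0
    · rw [hψ]; simp
    · have hc : classInner χ (ψ : G → ℂ) ≠ 0 := by
        rw [hcoef]
        exact_mod_cast hψ
      have hd := hlin ψ hc
      rw [hd, apply_eq_one_of_mem_commutator (IsIrrCharacter.isCharacter ψ.2) hd _
        (Subgroup.commutator_mem_commutator (Subgroup.mem_top a) (Subgroup.mem_top b))]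
  have h2 := hfaith _ h1
  exact (commutatorElement_eq_one_iff_commute.mp h2).eq

/-- main induction -/
theorem sylow_normal_aux (p : ℕ) [hp : Fact p.Prime] :
    ∀ (N : ℕ) (G : Type u) [Group G] [Finite G], Nat.card G = N →
    ∀ (χ : G → ℂ) (n : ℕ), IsCharacter G χ → (∀ g, χ g = χ 1 → g = 1) → χ 1 = n →
    ((n + 1) ^ 2 ≤ p ∨ (n + 1 < p ∧ ∀ K : Subgroup G, ¬ p ^ 2 ∣ Nat.card K →
      ∀ Q : Sylow p K, (Q : Subgroup K).Normal)) →
    ∀ P : Sylow p G, (P : Subgroup G).Normal := by
  intro N
  induction N using Nat.strong_induction_on with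
  | _ N ih =>
  intro G _ _ hN χ n hχ hfaith hn hyp P
  by_contra hP
  classical
  have : Fintype G := Fintype.ofFinite G
  have hp2 := hp.out.two_le
  have hnp : n + 1 < p := by
    rcases hyp with h | h
    · by_contra hc
      push Not at hc
      have h3 : p * p ≤ (n + 1) ^ 2 := by nlinarith
      nlinarith
    · exact h.1
  -- minimal situation
  have hMS : MinSit p G := by
    intro L hL Q
    have hlt : Nat.card L < N := by
      rw [← hN]
      exact lt_of_le_of_ne (Subgroup.card_le_card_group L)
        (fun h => hL ((Subgroup.card_eq_iff_eq_top L).mp h))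
    refine ih (Nat.card L) hlt L rfl (fun y : L => χ y) n (IsCharacter.restrict hχ L) ?_ hn ?_ Q
    · intro y hy
      exact Subtype.ext (hfaith (y : G) hy)
    · rcases hyp with h | ⟨h1, h2⟩
      · exact Or.inl h
      · refine Or.inr ⟨h1, ?_⟩
        intro K hK
        let e : K ≃* ↥(K.map L.subtype) := K.equivMapOfInjective L.subtype L.subtype_injective
        apply sylow_normal_of_mulEquiv e
        apply h2
        rwa [← Nat.card_congr e.toEquiv]
  -- Sylow subgroups are abelian
  have hab : ∀ R : Sylow p G, ∀ x ∈ (R : Subgroup G), ∀ y ∈ (R : Subgroup G), x * y = y * x := by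
    intro R x hx y hy
    have := Blich.commute_of_pGroup_of_degree_lt (G := ↥(R : Subgroup G)) R.isPGroup'
      (IsCharacter.restrict hχ (R : Subgroup G))
      (fun g hg => Subtype.ext (hfaith (g : G) hg)) (n := n) hn (by omega) ⟨x, hx⟩ ⟨y, hy⟩
    exact congrArg Subtype.val this
  by_cases hD : (P : Subgroup G) ⊓ center G = ⊥
  swap
  · have hsolv := isPSolvable_of_inf_center_ne_bot hMS hab P hD
    have := Cfsg.Agent.CharLib.Ito.ito_theorem χ hχ hfaith n hn p hp.out hsolv (by omega) P hP
    omega
  have hone := hone_of_inf_center_eq_bot hMS hab P hD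
  have hclos := eq_top_of_normal_of_le hMS P hP
  -- the order of `P`
  have hcardP : (n + 1) ^ 2 ≤ Nat.card (P : Subgroup G) := by
    have hk := Sylow.card_eq_multiplicity P
    rcases hyp with h | ⟨h1, h2⟩
    · have hk1 : (Nat.card G).factorization p ≠ 0 := by
        intro h0
        apply hP
        have hb : (P : Subgroup G) = ⊥ := by
          rw [← Subgroup.card_eq_one, hk, h0, pow_zero]
        rw [hb]; infer_instance
      calc (n + 1) ^ 2 ≤ p := h
        _ = p ^ 1 := (pow_one p).symm
        _ ≤ p ^ (Nat.card G).factorization p :=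
            Nat.pow_le_pow_right hp.out.pos (Nat.pos_of_ne_zero hk1)
        _ = _ := hk.symm
    · have hk2 : 2 ≤ (Nat.card G).factorization p := by
        by_contra hlt
        push Not at hlt
        apply hP
        have hnd : ¬ p ^ 2 ∣ Nat.card (⊤ : Subgroup G) := by
          rw [Subgroup.card_top]
          intro hdvd
          have := (hp.out.pow_dvd_iff_le_factorization (Nat.card_pos.ne')).mp hdvd
          omega
        exact sylow_normal_of_mulEquiv (Subgroup.topEquiv (G := G)).symm (h2 ⊤ hnd) P
      calc (n + 1) ^ 2 ≤ p ^ 2 := Nat.pow_le_pow_left (by omega) 2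
        _ ≤ p ^ (Nat.card G).factorization p := Nat.pow_le_pow_right hp.out.pos hk2
        _ = _ := hk.symm
  -- every irreducible constituent is linear
  have hlin : ∀ ψ : IrrCharacter G, classInner χ (ψ : G → ℂ) ≠ 0 → (ψ : G → ℂ) 1 = 1 := by
    intro ψ hψ
    by_contra hne
    obtain ⟨d, hd0, hd⟩ := IsIrrCharacter.apply_one_pos ψ.2
    have hdn : d ≤ n := Ito.constituent_degree_le hχ ψ.2 hψ hn hd
    by_cases hker : ∃ h ∈ (P : Subgroup G), (ψ : G → ℂ) h ≠ (ψ : G → ℂ) 1
    · have h5 := (Cfsg.Agent.Lib.Helper2.ft_lemma (P : Subgroup G) (hab P) hD hone ψ.1 ψ.2 hker).2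
        hne hclos
      rw [hd] at h5
      have h3 : ((Nat.card (P : Subgroup G) : ℕ) : ℝ) < (((1 + d) ^ 2 : ℕ) : ℝ) := by
        push_cast
        simpa using h5
      have h4 : Nat.card (P : Subgroup G) < (1 + d) ^ 2 := by exact_mod_cast h3
      have h6 : (1 + d) ^ 2 ≤ (n + 1) ^ 2 := Nat.pow_le_pow_left (by omega) 2
      omega
    · push Not at hker
      have hle : (P : Subgroup G) ≤ irrKer ψ := fun x hx => (mem_irrKer ψ x).mpr (hker x hx)
      have htop := hclos (irrKer ψ) inferInstance hle
      have hconst : ∀ g, (ψ : G → ℂ) g = d := fun g => by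
        rw [← hd]
        exact (mem_irrKer ψ g).mp (htop ▸ Subgroup.mem_top g)
      have h1 : classInner (ψ : G → ℂ) (ψ : G → ℂ) = 1 := by
        rw [classInner_irr ψ.2 ψ.2, if_pos rfl]
      have h2 : classInner (ψ : G → ℂ) (ψ : G → ℂ) = (d : ℂ) * d := by
        unfold classInner
        simp only [hconst, map_natCast, Finset.sum_const, Finset.card_univ, nsmul_eq_mul]
        rw [Nat.card_eq_fintype_card]
        have hc : (Fintype.card G : ℂ) ≠ 0 := by exact_mod_cast Fintype.card_ne_zero
        field_simp
      have h3 : d * d = 1 := by exact_mod_cast (h2.symm.trans h1)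
      have h4 : d = 1 := by nlinarith
      apply hne
      rw [hd, h4]
      simp
  apply hP
  have hcomm := commute_of_linear_constituents hχ hfaith hlin
  exact ⟨fun x hx g => by rw [hcomm g x, mul_inv_cancel_right]; exact hx⟩

end Cfsg.Agent.Lib.Helper23.FTMin
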