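import Mathlib
import Cfsg.Agent.Lib.Helper6.QuotBlock
import Cfsg.Agent.Lib.Helper6.OneBlock
import Cfsg.Agent.Lib.Helper9.PLengthOne
import Cfsg.Agent.Lib.Helper24.PSolvable
import Cfsg.Agent.Lib.Helper25.Inflate
import Cfsg.Agent.Lib.Lead.CharCount

set_option autoImplicit false

namespace Cfsg.Agent.Lib.Helper23

open Cfsg Cfsg.Agent.CharLib Cfsg.Agent.Lib.Helper24 Cfsg.Agent.Lib.Helper6
open scoped ComplexConjugate

universe u

section

variable {G : Type u} [Group G] [Finite G]

/-- **Fong's theorem on the principal block** (solvable case): in a finite solvable group the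
principal `p`-block consists of the irreducible characters with `O_{p'}(G)` in their kernel. -/
theorem mem_principalBlock_iff_of_isSolvable [Group.IsSolvable G] {p : ℕ} [hp : Fact p.Prime]
    {M : Ideal AlgInt} (hM : IsPModular p M) (χ : IrrCharacter G) :
    χ ∈ principalBlock M G ↔ ∀ n ∈ pPrimeCore p G, (χ : G → ℂ) n = (χ : G → ℂ) 1 := by
  have hprime : M.IsPrime := isPrime_of_isPModular hM
  have hNn : (pPrimeCore p G).Normal := pPrimeCore_normal' p
  constructor
  · intro h
    have hcop : ¬ p ∣ Nat.card (pPrimeCore p G) := by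
      have := Cfsg.Agent.Lib.Helper12.pPrimeCore_coprime (X := G) p
      intro hdvd
      have h1 := Nat.Coprime.eq_one_of_dvd this.symm hdvd
      exact hp.out.one_lt.ne' h1
    exact le_ker_of_sameBlock_one hM (pPrimeCore p G) hcop χ h
  · intro h
    obtain ⟨β, hβ⟩ := exists_deflation (pPrimeCore p G) χ h
    have hO : pPrimeCore p (G ⧸ pPrimeCore p G) = ⊥ := pPrimeCore_quotient_eq_bot' p
    have hC := Cfsg.Agent.Lib.Helper9.centralizer_pCore_le_of_isSolvable
      (X := G ⧸ pPrimeCore p G) p hO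
    have hQn : (pCore p (G ⧸ pPrimeCore p G)).Normal := pCore_normal' p
    have h1 := sameBlock_of_centralizer_le hM (pCore p (G ⧸ pPrimeCore p G))
      (Cfsg.Agent.Lib.Helper12.pCore_isPGroup' p) hC
      ⟨(1 : G ⧸ pPrimeCore p G → ℂ), isIrrCharacter_one (G ⧸ pPrimeCore p G)⟩ β
    have h2 := sameBlock_inflate (pPrimeCore p G) _ _ h1
    have h3 : (fun g : G => (β : G ⧸ pPrimeCore p G → ℂ) (g : G ⧸ pPrimeCore p G)) =
        (χ : G → ℂ) := funext hβ
    rw [h3] at h2
    exact h2

/-- A nontrivial finite group has a nonprincipal irreducible character. -/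
theorem exists_irr_ne_one (hG : ∃ x : G, x ≠ 1) :
    ∃ χ : IrrCharacter G, (χ : G → ℂ) ≠ fun _ => 1 := by
  classical
  let _ := Fintype.ofFinite G
  let _ := fintypeIrr G
  obtain ⟨x, hx⟩ := hG
  by_contra hcon
  push Not at hcon
  have h := delta_one_eq_sum_irr x
  rw [if_neg hx] at h
  have hG0 : (Nat.card G : ℂ) ≠ 0 := Nat.cast_ne_zero.mpr Nat.card_pos.ne'
  have h1 : ∑ χ : IrrCharacter G, (χ : G → ℂ) 1 * (χ : G → ℂ) x =
      (Fintype.card (IrrCharacter G) : ℂ) := by
    have h2 : ∀ χ : IrrCharacter G, (χ : G → ℂ) 1 * (χ : G → ℂ) x = 1 := by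
      intro χ
      rw [hcon χ]; ring
    rw [Finset.sum_congr rfl (fun χ _ => h2 χ)]
    simp
  rw [h1] at h
  have h2 : (Fintype.card (IrrCharacter G) : ℂ) ≠ 0 := by
    have : Nonempty (IrrCharacter G) := ⟨⟨(1 : G → ℂ), isIrrCharacter_one G⟩⟩
    exact Nat.cast_ne_zero.mpr Fintype.card_ne_zero
  exact mul_ne_zero (inv_ne_zero hG0) h2 h.symm

/-- An irreducible character that is constant is the principal character. -/
theorem irr_eq_one_of_forall_eq (χ : IrrCharacter G)
    (h : ∀ g : G, (χ : G → ℂ) g = (χ : G → ℂ) 1) : (χ : G → ℂ) = fun _ => 1 := by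
  classical
  let _ := Fintype.ofFinite G
  have h1 := classInner_irr χ.2 (isIrrCharacter_one G)
  by_cases heq : (χ : G → ℂ) = (1 : G → ℂ)
  · exact heq
  · exfalso
    rw [if_neg heq] at h1
    unfold classInner at h1
    have hG0 : (Nat.card G : ℂ) ≠ 0 := Nat.cast_ne_zero.mpr Nat.card_pos.ne'
    have h2 : ∑ g : G, (χ : G → ℂ) g * conj ((1 : G → ℂ) g) = (Nat.card G : ℂ) * (χ : G → ℂ) 1 := by
      have h5 : ∀ g : G, (χ : G → ℂ) g * conj ((1 : G → ℂ) g) = (χ : G → ℂ) 1 := by
        intro g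
        rw [h g]; simp
      rw [Finset.sum_congr rfl (fun g _ => h5 g)]
      simp [Nat.card_eq_fintype_card]
    rw [h2] at h1
    have h3 := irr_apply_one_ne_zero χ
    rcases mul_eq_zero.mp h1 with h4 | h4
    · exact inv_ne_zero hG0 h4
    · rcases mul_eq_zero.mp h4 with h5 | h5
      · exact hG0 h5
      · exact h3 h5

theorem solvable_principal_blocks_meet_trivially_iff [Group.IsSolvable G] (π : Set ℕ)
    (hπ : ∀ p ∈ π, p.Prime ∧ p ∣ Nat.card G) (M : ℕ → Ideal AlgInt)
    (hM : ∀ p ∈ π, IsPModular p (M p)) :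
    (∀ χ : IrrCharacter G, (∀ p ∈ π, χ ∈ principalBlock (M p) G) → (χ : G → ℂ) = fun _ => 1) ↔
      ⨆ p ∈ π, pPrimeCore p G = ⊤ := by
  classical
  set K : Subgroup G := ⨆ p ∈ π, pPrimeCore p G with hK
  have hKn : K.Normal := by
    rw [hK]
    exact Subgroup.biSup_normal π (fun p => pPrimeCore p G) (fun p _ => pPrimeCore_normal' p)
  have hmem : ∀ χ : IrrCharacter G, (∀ p ∈ π, χ ∈ principalBlock (M p) G) ↔
      K ≤ Cfsg.Agent.Lib.Helper25.irrKer χ := by
    intro χ
    constructor
    · intro h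
      rw [hK]
      apply iSup₂_le
      intro p hp n hn
      have : Fact p.Prime := ⟨(hπ p hp).1⟩
      rw [Cfsg.Agent.Lib.Helper25.mem_irrKer]
      exact (mem_principalBlock_iff_of_isSolvable (hM p hp) χ).mp (h p hp) n hn
    · intro h p hp
      have : Fact p.Prime := ⟨(hπ p hp).1⟩
      rw [mem_principalBlock_iff_of_isSolvable (hM p hp) χ]
      intro n hn
      rw [← Cfsg.Agent.Lib.Helper25.mem_irrKer]
      apply h
      rw [hK]
      exact Subgroup.mem_iSup_of_mem p (Subgroup.mem_iSup_of_mem hp hn)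
  constructor
  · intro h
    by_contra hne
    have hex : ∃ x : G ⧸ K, x ≠ 1 := by
      by_contra hcon
      push Not at hcon
      apply hne
      rw [eq_top_iff]
      intro g _
      exact (QuotientGroup.eq_one_iff g).mp (hcon (g : G ⧸ K))
    obtain ⟨β, hβ⟩ := exists_irr_ne_one hex
    have h1 := h (Cfsg.Agent.Lib.Helper25.inflateIrr K β) ((hmem _).mpr (by
      intro n hn
      rw [Cfsg.Agent.Lib.Helper25.mem_irrKer]
      exact Cfsg.Agent.Lib.Helper25.inflateIrr_mem_ker K β n hn))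
    apply hβ
    funext q
    obtain ⟨g, rfl⟩ := QuotientGroup.mk_surjective q
    exact congrFun h1 g
  · intro h χ hχ
    have h1 := (hmem χ).mp hχ
    rw [h] at h1
    apply irr_eq_one_of_forall_eq
    intro g
    rw [← Cfsg.Agent.Lib.Helper25.mem_irrKer]
    exact h1 (Subgroup.mem_top g)

end

end Cfsg.Agent.Lib.Helper23
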