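import Mathlib
import Cfsg.Agent.Lib.Helper16.Frattini
import Cfsg.Agent.Lib.Helper16.Frattini2
import Cfsg.Agent.Lib.Helper1.PGroup
import Cfsg.Prelude.Def_CaseTheorems

set_option autoImplicit false

namespace Cfsg.Agent.Lib.Helper23.FratIdx

open Subgroup
open scoped commutatorElement

variable {Z : Type*} [Group Z] [Finite Z]

/-- For a finite `p`-group, the Frattini subgroup of a quotient is contained in the image of the
Frattini subgroup. -/
theorem frattini_quotient_le {p : ℕ} [Fact p.Prime] (hZ : IsPGroup p Z) (K : Subgroup Z)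
    [K.Normal] :
    frattini (Z ⧸ K) ≤ (frattini Z).map (QuotientGroup.mk' K) := by
  set T : Subgroup Z := frattini Z ⊔ K with hT
  haveI : T.Normal := inferInstance
  have hKT : K ≤ T := le_sup_right
  have hΦT : frattini Z ≤ T := le_sup_left
  let φ : Z ⧸ K →* Z ⧸ T := QuotientGroup.map K T (MonoidHom.id Z) (by
    intro x hx; exact hKT hx)
  have hcomm : ∀ a b : Z ⧸ T, a * b = b * a := by
    have hc : commutator Z ≤ T :=
      (Cfsg.Agent.Lib.Helper1.IsPGroup.commutator_le_frattini hZ).trans hΦT
    have : IsMulCommutative (Z ⧸ T) :=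
      Subgroup.Normal.quotient_commutative_iff_commutator_le.mpr hc
    intro a b
    exact mul_comm' a b
  have hexp : ∀ e : Z ⧸ T, e ^ p = 1 := by
    intro e
    obtain ⟨e, rfl⟩ := QuotientGroup.mk_surjective e
    rw [← QuotientGroup.mk_pow, QuotientGroup.eq_one_iff]
    exact hΦT (Cfsg.Agent.Lib.Helper1.IsPGroup.pow_mem_frattini hZ e)
  have h1 := Cfsg.Agent.Lib.Helper16.frattini_le_ker' (p := p) hcomm hexp φ
  intro x hx
  have hx1 := h1 hx
  obtain ⟨y, rfl⟩ := QuotientGroup.mk_surjective x
  rw [MonoidHom.mem_ker] at hx1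
  have hyT : y ∈ T := by
    have : φ (QuotientGroup.mk y) = QuotientGroup.mk y := rfl
    rw [this, QuotientGroup.eq_one_iff] at hx1
    exact hx1
  have hyT' : y ∈ ((frattini Z ⊔ K : Subgroup Z) : Set Z) := hyT
  rw [Subgroup.mul_normal] at hyT'
  obtain ⟨a, ha, k, hk, rfl⟩ := Set.mem_mul.mp hyT'
  refine ⟨a, ha, ?_⟩
  rw [QuotientGroup.mk'_apply, QuotientGroup.mk_mul]
  have : (QuotientGroup.mk k : Z ⧸ K) = 1 := (QuotientGroup.eq_one_iff k).mpr hk
  rw [this, mul_one]

/-- Frattini index is submultiplicative along a normal subgroup of a `p`-group. -/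
theorem frattini_index_le_mul {p : ℕ} [Fact p.Prime] (hZ : IsPGroup p Z) (K : Subgroup Z)
    [K.Normal] :
    (frattini Z).index ≤ (frattini (Z ⧸ K)).index * (frattini K).index := by
  haveI : (frattini Z).Normal := inferInstance
  have h1 : (frattini Z).relIndex (frattini Z ⊔ K) * (frattini Z ⊔ K).index = (frattini Z).index :=
    Subgroup.relIndex_mul_index le_sup_left
  have h2 : (frattini Z).relIndex (frattini Z ⊔ K) = (frattini Z).relIndex K :=
    Subgroup.relIndex_sup_left K (frattini Z)
  have h3 : (frattini Z).relIndex K ≤ (frattini K).index := by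
    rw [Subgroup.relIndex]
    apply Nat.le_of_dvd (Nat.pos_of_ne_zero Subgroup.index_ne_zero_of_finite)
    apply Subgroup.index_dvd_of_le
    intro x hx
    rw [Subgroup.mem_subgroupOf]
    exact Cfsg.Agent.Lib.Helper16.frattini_normal_le K ⟨x, hx, rfl⟩
  have h4 : (frattini Z ⊔ K).index ≤ (frattini (Z ⧸ K)).index := by
    have h5 : ((frattini Z).map (QuotientGroup.mk' K)).index = (frattini Z ⊔ K).index := by
      rw [Subgroup.index_map, QuotientGroup.ker_mk',
        MonoidHom.range_eq_top_of_surjective _ (QuotientGroup.mk'_surjective K), Subgroup.index_top,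
        mul_one]
    rw [← h5]
    apply Nat.le_of_dvd (Nat.pos_of_ne_zero Subgroup.index_ne_zero_of_finite)
    exact Subgroup.index_dvd_of_le (frattini_quotient_le hZ K)
  calc (frattini Z).index = (frattini Z).relIndex (frattini Z ⊔ K) * (frattini Z ⊔ K).index := h1.symm
    _ = (frattini Z).relIndex K * (frattini Z ⊔ K).index := by rw [h2]
    _ ≤ (frattini K).index * (frattini (Z ⧸ K)).index := Nat.mul_le_mul h3 h4
    _ = _ := Nat.mul_comm _ _

/-- Frattini index and a normal subgroup: `|Z:Φ(Z)| ≤ |Z:M|·|M:Φ(M)|`. -/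
theorem frattini_index_le_index_mul (M : Subgroup Z) [M.Normal] :
    (frattini Z).index ≤ M.index * (frattini M).index := by
  have h1 : ((frattini M).map M.subtype).index = (frattini M).index * M.index := by
    rw [Subgroup.index_map_subtype]
  have h2 : (frattini Z).index ∣ ((frattini M).map M.subtype).index :=
    Subgroup.index_dvd_of_le (Cfsg.Agent.Lib.Helper16.frattini_normal_le M)
  rw [h1] at h2
  have := Nat.le_of_dvd (Nat.pos_of_ne_zero (by
    exact Nat.mul_ne_zero Subgroup.index_ne_zero_of_finite Subgroup.index_ne_zero_of_finite)) h2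
  rwa [Nat.mul_comm] at this

/-- A cyclic `2`-group has Frattini index at most `2`. -/
theorem frattini_index_le_two_of_cyclic {C : Type*} [Group C] [Finite C] (hC : IsPGroup 2 C)
    [hcyc : IsCyclic C] : (frattini C).index ≤ 2 := by
  haveI : Fact (Nat.Prime 2) := ⟨Nat.prime_two⟩
  obtain ⟨g, hg⟩ := hcyc.exists_generator
  rw [Subgroup.index_eq_card]
  have hgen : ∀ q : C ⧸ frattini C, q ∈ Subgroup.zpowers (QuotientGroup.mk g : C ⧸ frattini C) := by
    intro q
    obtain ⟨x, rfl⟩ := QuotientGroup.mk_surjective q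
    obtain ⟨k, rfl⟩ := Subgroup.mem_zpowers_iff.mp (hg x)
    exact ⟨k, by simp⟩
  have h1 : Nat.card (C ⧸ frattini C) = orderOf (QuotientGroup.mk g : C ⧸ frattini C) :=
    (orderOf_eq_card_of_forall_mem_zpowers hgen).symm
  rw [h1]
  apply orderOf_le_of_pow_eq_one (by norm_num)
  rw [← QuotientGroup.mk_pow, QuotientGroup.eq_one_iff]
  exact Cfsg.Agent.Lib.Helper1.IsPGroup.pow_mem_frattini hC g

/-- A `2`-group with a cyclic subgroup of index at most `2` has Frattini index at most `4`. -/
theorem frattini_index_le_four_of_cyclic_sub (hZ : IsPGroup 2 Z) (C : Subgroup Z)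
    [IsCyclic C] (hidx : C.index ≤ 2) : (frattini Z).index ≤ 4 := by
  have hpos : 0 < C.index := Nat.pos_of_ne_zero Subgroup.index_ne_zero_of_finite
  have hn : C.Normal := by
    rcases Nat.lt_or_ge C.index 2 with h | h
    · have : C.index = 1 := by omega
      rw [Subgroup.index_eq_one] at this
      rw [this]; infer_instance
    · exact Subgroup.normal_of_index_eq_two (le_antisymm hidx h)
  have h1 := frattini_index_le_index_mul C
  have h2 : (frattini C).index ≤ 2 := frattini_index_le_two_of_cyclic (hZ.to_subgroup C)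
  calc (frattini Z).index ≤ C.index * (frattini C).index := h1
    _ ≤ 2 * 2 := Nat.mul_le_mul hidx h2
    _ = 4 := by norm_num

/-- index of `zpowers x` from the cardinalities. -/
theorem index_zpowers_le_two (x : Z) (h : Nat.card Z = 2 * orderOf x) :
    (Subgroup.zpowers x).index ≤ 2 := by
  have h1 := Subgroup.card_mul_index (Subgroup.zpowers x)
  rw [Nat.card_zpowers, h] at h1
  have hpos : 0 < orderOf x := orderOf_pos x
  have : (Subgroup.zpowers x).index = 2 := by
    have h2 : orderOf x * (Subgroup.zpowers x).index = orderOf x * 2 := by rw [h1]; ring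
    exact Nat.eq_of_mul_eq_mul_left hpos h2
  omega

/-- The exceptional `2`-groups (cyclic, generalized quaternion, dihedral, quasi-dihedral) have
Frattini index at most `4`. -/
theorem frattini_index_le_four_of_exceptional (hZ : IsPGroup 2 Z)
    (h : IsCyclic Z ∨ (∃ n : ℕ, Nonempty (Z ≃* QuaternionGroup n)) ∨
      (∃ n : ℕ, Nonempty (Z ≃* DihedralGroup n)) ∨ Cfsg.IsQuasiDihedral Z) :
    (frattini Z).index ≤ 4 := by
  rcases h with h | ⟨n, ⟨e⟩⟩ | ⟨n, ⟨e⟩⟩ | ⟨n, hn, hcard, x, y, hx, hy, hxy⟩
  · have := frattini_index_le_two_of_cyclic hZ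
    omega
  · -- quaternion
    have hn0 : n ≠ 0 := by
      rintro rfl
      have h1 : orderOf (e.symm (QuaternionGroup.a 1)) = 0 := by
        rw [MulEquiv.orderOf_eq]
        simpa using QuaternionGroup.orderOf_a_one (n := 0)
      exact (orderOf_pos _).ne' h1
    haveI : NeZero n := ⟨hn0⟩
    set x : Z := e.symm (QuaternionGroup.a 1) with hx
    have hox : orderOf x = 2 * n := by
      rw [hx]
      rw [MulEquiv.orderOf_eq, QuaternionGroup.orderOf_a_one]
    have hcard : Nat.card Z = 2 * orderOf x := by
      rw [hox, Nat.card_congr e.toEquiv, Nat.card_eq_fintype_card, QuaternionGroup.card]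
      ring
    exact frattini_index_le_four_of_cyclic_sub hZ (Subgroup.zpowers x) (index_zpowers_le_two x hcard)
  · -- dihedral
    have hn0 : n ≠ 0 := by
      rintro rfl
      have h1 : orderOf (e.symm (DihedralGroup.r 1)) = 0 := by
        rw [MulEquiv.orderOf_eq]
        simpa using DihedralGroup.orderOf_r_one (n := 0)
      exact (orderOf_pos _).ne' h1
    haveI : NeZero n := ⟨hn0⟩
    set x : Z := e.symm (DihedralGroup.r 1) with hx
    have hox : orderOf x = n := by
      rw [hx]
      rw [MulEquiv.orderOf_eq, DihedralGroup.orderOf_r_one]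
    have hcard : Nat.card Z = 2 * orderOf x := by
      rw [hox, Nat.card_congr e.toEquiv, Nat.card_eq_fintype_card, DihedralGroup.card]
    exact frattini_index_le_four_of_cyclic_sub hZ (Subgroup.zpowers x) (index_zpowers_le_two x hcard)
  · have hcard' : Nat.card Z = 2 * orderOf x := by
      rw [hcard, hx, pow_succ]; ring
    exact frattini_index_le_four_of_cyclic_sub hZ (Subgroup.zpowers x) (index_zpowers_le_two x hcard')

/-- A nonabelian `2`-group has nontrivial Frattini subgroup, so its Frattini index is at most half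
its order. -/
theorem two_mul_frattini_index_le_card (hZ : IsPGroup 2 Z) (hnc : ∃ a b : Z, a * b ≠ b * a) :
    2 * (frattini Z).index ≤ Nat.card Z := by
  haveI : Fact (Nat.Prime 2) := ⟨Nat.prime_two⟩
  have hne : frattini Z ≠ ⊥ := by
    intro hbot
    obtain ⟨a, b, hab⟩ := hnc
    apply hab
    have h1 : ⁅a, b⁆ ∈ commutator Z :=
      Subgroup.commutator_mem_commutator (Subgroup.mem_top _) (Subgroup.mem_top _)
    have h2 := Cfsg.Agent.Lib.Helper1.IsPGroup.commutator_le_frattini hZ h1
    rw [hbot, Subgroup.mem_bot] at h2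
    exact commutatorElement_eq_one_iff_mul_comm.mp h2
  have h1 := Subgroup.card_mul_index (frattini Z)
  have h2 : 2 ≤ Nat.card (frattini Z) := by
    have : 1 < Nat.card (frattini Z) := by
      rw [Subgroup.one_lt_card_iff_ne_bot]; exact hne
    omega
  calc 2 * (frattini Z).index ≤ Nat.card (frattini Z) * (frattini Z).index :=
        Nat.mul_le_mul_right _ h2
    _ = Nat.card Z := h1

end Cfsg.Agent.Lib.Helper23.FratIdx
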