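import Mathlib
import Cfsg.Agent.Lib.Helper23.Q8Normal

set_option autoImplicit false
open QuaternionGroup
open scoped Pointwise
open Cfsg.Agent.Lib.Helper23.Q8Aut
open Cfsg.Agent.Lib.Helper23.Q8Normal

namespace Cfsg.Agent.Lib.Helper23.Q8Ext

local notation "Γ" => MulAut Q


theorem fact3 (k : ℕ) (hk0 : k ≠ 0) (hk : ¬ 3 ∣ k) : (3 * k).factorization 3 = 1 := by
  rw [Nat.factorization_def _ Nat.prime_three]
  have h3 : padicValNat 3 3 = 1 := padicValNat_self
  rw [padicValNat.mul (by norm_num) hk0, h3, padicValNat.eq_zero_of_not_dvd hk]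

theorem factorization_24_3 : (24 : ℕ).factorization 3 = 1 := fact3 8 (by norm_num) (by norm_num)

theorem factorization_6_3 : (6 : ℕ).factorization 3 = 1 := fact3 2 (by norm_num) (by norm_num)

/-- a subgroup of order 6 of `Aut(Q8)` is the normalizer of each of its subgroups of order 3. -/
theorem normalizer_eq_of_card_six (H : Subgroup Γ) (hH : Nat.card H = 6) (S : Subgroup Γ)
    (hS : Nat.card S = 3) (hSH : S ≤ H) : Subgroup.normalizer (S : Set Γ) = H := by
  -- H normalizes S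
  have hidx : (S.subgroupOf H).index = 2 := by
    have h1 := Subgroup.card_mul_index (S.subgroupOf H)
    have h2 : Nat.card (S.subgroupOf H) = 3 := by
      rw [Nat.card_congr (Subgroup.subgroupOfEquivOfLe hSH).toEquiv, hS]
    rw [h2, hH] at h1
    omega
  have hnorm : (S.subgroupOf H).Normal := Subgroup.normal_of_index_eq_two hidx
  have hle : H ≤ Subgroup.normalizer (S : Set Γ) := by
    intro g hg
    rw [Subgroup.mem_normalizer_iff]
    intro x
    constructor
    · intro hx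
      have := hnorm.conj_mem ⟨x, hSH hx⟩ (by rw [Subgroup.mem_subgroupOf]; exact hx) ⟨g, hg⟩
      rw [Subgroup.mem_subgroupOf] at this
      exact this
    · intro hx
      have hxH : g * x * g⁻¹ ∈ H := hSH hx
      have := hnorm.conj_mem ⟨g * x * g⁻¹, hxH⟩ (by rw [Subgroup.mem_subgroupOf]; exact hx)
        ⟨g⁻¹, H.inv_mem hg⟩
      rw [Subgroup.mem_subgroupOf] at this
      have h2 : x = g⁻¹ * (g * x * g⁻¹) * g⁻¹⁻¹ := by group
      rw [h2]
      exact this
  -- the Sylow subgroup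
  have hcardS : Nat.card S = 3 ^ (Nat.card Γ).factorization 3 := by
    rw [card_mulAut, factorization_24_3, pow_one, hS]
  let Sy : Sylow 3 Γ := Sylow.ofCard S hcardS
  have hSy : (Sy : Subgroup Γ) = S := rfl
  have h1 := Sylow.card_eq_index_normalizer Sy
  have h2 := card_sylow_modEq_one 3 Γ
  have h3 := Sylow.card_dvd_index Sy
  have hidxS : (Sy : Subgroup Γ).index = 8 := by
    have := Subgroup.card_mul_index (Sy : Subgroup Γ)
    rw [hSy, hS, card_mulAut] at this
    rw [hSy]; omega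
  rw [hidxS] at h3
  have hne1 : Nat.card (Sylow 3 Γ) ≠ 1 := by
    intro h
    have hsub : Subsingleton (Sylow 3 Γ) := (Nat.card_eq_one_iff_unique.mp h).1
    have hn : (Sy : Subgroup Γ).Normal := Sylow.normal_of_subsingleton Sy
    rw [hSy] at hn
    exact not_normal_of_card_three S hS hn
  have h4 : Nat.card (Sylow 3 Γ) = 4 := by
    have hle8 : Nat.card (Sylow 3 Γ) ≤ 8 := Nat.le_of_dvd (by norm_num) h3
    have hmod : Nat.card (Sylow 3 Γ) % 3 = 1 := h2
    have key : ∀ c : ℕ, c ≤ 8 → c ∣ 8 → c % 3 = 1 → c ≠ 1 → c = 4 := by decide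
    exact key _ hle8 h3 hmod hne1
  rw [h4] at h1
  have h1' : 4 = (Subgroup.normalizer (S : Set Γ)).index := h1
  have hcardN : Nat.card (Subgroup.normalizer (S : Set Γ)) = 6 := by
    have := Subgroup.card_mul_index (Subgroup.normalizer (S : Set Γ))
    rw [← h1', card_mulAut] at this
    omega
  exact (Subgroup.eq_of_le_of_card_ge hle (by rw [hcardN, hH])).symm

/-- two subgroups of order 6 of `Aut(Q8)` are conjugate. -/
theorem exists_conj_of_card_six (H₁ H₂ : Subgroup Γ) (h₁ : Nat.card H₁ = 6) (h₂ : Nat.card H₂ = 6) :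
    ∃ α : Γ, H₂ = H₁.map (MulAut.conj α).toMonoidHom := by
  have : Finite H₁ := Nat.finite_of_card_ne_zero (by rw [h₁]; norm_num)
  have : Finite H₂ := Nat.finite_of_card_ne_zero (by rw [h₂]; norm_num)
  have hf6 := factorization_6_3
  obtain ⟨P₁⟩ : Nonempty (Sylow 3 H₁) := inferInstance
  obtain ⟨P₂⟩ : Nonempty (Sylow 3 H₂) := inferInstance
  set S₁ : Subgroup Γ := (P₁ : Subgroup H₁).map H₁.subtype with hS₁
  set S₂ : Subgroup Γ := (P₂ : Subgroup H₂).map H₂.subtype with hS₂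
  have hc₁ : Nat.card S₁ = 3 := by
    rw [hS₁, Nat.card_congr ((P₁ : Subgroup H₁).equivMapOfInjective H₁.subtype
      H₁.subtype_injective).symm.toEquiv, Sylow.card_eq_multiplicity, h₁, hf6, pow_one]
  have hc₂ : Nat.card S₂ = 3 := by
    rw [hS₂, Nat.card_congr ((P₂ : Subgroup H₂).equivMapOfInjective H₂.subtype
      H₂.subtype_injective).symm.toEquiv, Sylow.card_eq_multiplicity, h₂, hf6, pow_one]
  have hle₁ : S₁ ≤ H₁ := by
    rw [hS₁]; exact Subgroup.map_subtype_le _
  have hle₂ : S₂ ≤ H₂ := by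
    rw [hS₂]; exact Subgroup.map_subtype_le _
  have hN₁ := normalizer_eq_of_card_six H₁ h₁ S₁ hc₁ hle₁
  have hN₂ := normalizer_eq_of_card_six H₂ h₂ S₂ hc₂ hle₂
  have hcard₁ : Nat.card S₁ = 3 ^ (Nat.card Γ).factorization 3 := by
    rw [card_mulAut, factorization_24_3, pow_one, hc₁]
  have hcard₂ : Nat.card S₂ = 3 ^ (Nat.card Γ).factorization 3 := by
    rw [card_mulAut, factorization_24_3, pow_one, hc₂]
  let Sy₁ : Sylow 3 Γ := Sylow.ofCard S₁ hcard₁
  let Sy₂ : Sylow 3 Γ := Sylow.ofCard S₂ hcard₂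
  obtain ⟨α, hα⟩ := MulAction.exists_smul_eq Γ Sy₁ Sy₂
  have hα' : MulAut.conj α • S₁ = S₂ := by
    have h : MulAut.conj α • (Sy₁ : Subgroup Γ) = (Sy₂ : Subgroup Γ) := by
      have h0 := Sylow.coe_smul (g := α) (P := Sy₁)
      rw [hα] at h0
      apply SetLike.coe_injective
      rw [Subgroup.coe_pointwise_smul]
      exact h0.symm
    exact h
  refine ⟨α, ?_⟩
  have hle : H₁.map (MulAut.conj α).toMonoidHom ≤ H₂ := by
    rintro _ ⟨g, hg, rfl⟩
    rw [← hN₂, ← hα']
    have hgN : g ∈ Subgroup.normalizer (S₁ : Set Γ) := by rw [hN₁]; exact hg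
    rw [Subgroup.mem_normalizer_iff] at hgN ⊢
    intro x
    simp only [MulEquiv.coe_toMonoidHom, MulAut.conj_apply]
    rw [Subgroup.mem_pointwise_smul_iff_inv_smul_mem, Subgroup.mem_pointwise_smul_iff_inv_smul_mem]
    simp only [MulAut.smul_def, map_inv, MulAut.conj_inv_apply]
    rw [hgN (α⁻¹ * x * α)]
    have : α⁻¹ * (α * g * α⁻¹ * x * (α * g * α⁻¹)⁻¹) * α = g * (α⁻¹ * x * α) * g⁻¹ := by group
    rw [this]
  have hcm : Nat.card (H₁.map (MulAut.conj α).toMonoidHom) = 6 := by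
    rw [Nat.card_congr (H₁.equivMapOfInjective (MulAut.conj α).toMonoidHom
      (MulAut.conj α).injective).symm.toEquiv, h₁]
  exact (Subgroup.eq_of_le_of_card_ge hle (by rw [hcm, h₂])).symm


/-- Uniqueness of the split extension of `Q8` by a group of order 6 acting faithfully. -/
theorem nonempty_mulEquiv {X₁ X₂ : Type*} [Group X₁] [Group X₂] [Finite X₁] [Finite X₂]
    (R₁ : Subgroup X₁) [R₁.Normal] (e₁ : R₁ ≃* Q) (W₁ : Subgroup X₁) (hc₁ : R₁.IsComplement' W₁)
    (hW₁ : Nat.card W₁ = 6) (hf₁ : ∀ w ∈ W₁, (∀ r ∈ R₁, w * r = r * w) → w = 1)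
    (R₂ : Subgroup X₂) [R₂.Normal] (e₂ : R₂ ≃* Q) (W₂ : Subgroup X₂) (hc₂ : R₂.IsComplement' W₂)
    (hW₂ : Nat.card W₂ = 6) (hf₂ : ∀ w ∈ W₂, (∀ r ∈ R₂, w * r = r * w) → w = 1) :
    Nonempty (X₁ ≃* X₂) := by
  set φ₁ : W₁ →* Γ := (Θ R₁ e₁).comp W₁.subtype with hφ₁
  set φ₂ : W₂ →* Γ := (Θ R₂ e₂).comp W₂.subtype with hφ₂
  have inj₁ : Function.Injective φ₁ := by
    rw [injective_iff_map_eq_one]
    intro w hw
    have : Θ R₁ e₁ (w : X₁) = 1 := hw
    rw [Θ_eq_one_iff] at this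
    exact Subtype.ext (hf₁ w w.2 this)
  have inj₂ : Function.Injective φ₂ := by
    rw [injective_iff_map_eq_one]
    intro w hw
    have : Θ R₂ e₂ (w : X₂) = 1 := hw
    rw [Θ_eq_one_iff] at this
    exact Subtype.ext (hf₂ w w.2 this)
  have hH₁ : Nat.card φ₁.range = 6 := by
    rw [← Nat.card_congr (MonoidHom.ofInjective inj₁).toEquiv, hW₁]
  have hH₂ : Nat.card φ₂.range = 6 := by
    rw [← Nat.card_congr (MonoidHom.ofInjective inj₂).toEquiv, hW₂]
  obtain ⟨α, hα⟩ := exists_conj_of_card_six φ₁.range φ₂.range hH₁ hH₂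
  let β : W₁ ≃* W₂ :=
    (MonoidHom.ofInjective inj₁).trans
      ((φ₁.range.equivMapOfInjective (MulAut.conj α).toMonoidHom (MulAut.conj α).injective).trans
        ((MulEquiv.subgroupCongr hα.symm).trans (MonoidHom.ofInjective inj₂).symm))
  have hβ : ∀ w : W₁, φ₂ (β w) = α * φ₁ w * α⁻¹ := by
    intro w
    have h1 : ((MonoidHom.ofInjective inj₂) (β w) : Γ) = φ₂ (β w) := rfl
    rw [← h1]
    simp only [β, MulEquiv.trans_apply, MulEquiv.apply_symm_apply]
    rfl
  let fn : R₁ ≃* R₂ := e₁.trans ((α : Q ≃* Q).trans e₂.symm)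
  have hfn : ∀ r : R₁, e₂ (fn r) = α (e₁ r) := by
    intro r
    simp only [fn, MulEquiv.trans_apply, MulEquiv.apply_symm_apply]
  have key : ∀ w : W₁,
      ((R₁.normalizerMonoidHom.comp
          (Subgroup.inclusion (R₁.normalizer_eq_top ▸ le_top))) w).trans fn =
        fn.trans ((R₂.normalizerMonoidHom.comp
          (Subgroup.inclusion (R₂.normalizer_eq_top ▸ le_top))) (β w)) := by
    intro w
    apply MulEquiv.ext
    intro r
    simp only [MulEquiv.trans_apply]
    apply e₂.injective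
    rw [hfn]
    -- left side
    have hL : e₁ (((R₁.normalizerMonoidHom.comp
          (Subgroup.inclusion (R₁.normalizer_eq_top ▸ le_top))) w) r) = φ₁ w (e₁ r) := by
      show _ = Θ R₁ e₁ (w : X₁) (e₁ r)
      rw [Θ_apply_e]
      congr 1
    have hR : e₂ (((R₂.normalizerMonoidHom.comp
          (Subgroup.inclusion (R₂.normalizer_eq_top ▸ le_top))) (β w)) (fn r)) =
        φ₂ (β w) (e₂ (fn r)) := by
      show _ = Θ R₂ e₂ ((β w : W₂) : X₂) (e₂ (fn r))
      rw [Θ_apply_e]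
      congr 1
    rw [hL, hR, hβ, hfn]
    simp only [MulAut.mul_apply, MulAut.inv_apply, MulEquiv.symm_apply_apply]
  exact ⟨(SemidirectProduct.mulEquivSubgroup hc₁).symm.trans
    ((SemidirectProduct.congr fn β key).trans (SemidirectProduct.mulEquivSubgroup hc₂))⟩

end Cfsg.Agent.Lib.Helper23.Q8Ext
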