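import Mathlib
import Cfsg.Agent.Lib.Helper6.GL23K
import Cfsg.Agent.Lib.Helper23.Q8Ext

set_option autoImplicit false
open QuaternionGroup
open scoped Pointwise
open Cfsg.Agent.Lib.Helper23.Q8Aut
open Cfsg.Agent.Lib.Helper23.Q8Normal

namespace Cfsg.Agent.Lib.Helper23.GL23Data

open Matrix

abbrev Im : Matrix (Fin 2) (Fin 2) (ZMod 3) := !![0,1;2,0]
abbrev Jm : Matrix (Fin 2) (Fin 2) (ZMod 3) := !![1,1;1,2]
abbrev Tm : Matrix (Fin 2) (Fin 2) (ZMod 3) := !![1,0;0,2]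

theorem qwM_one : qw Im Jm (1 : Q) = 1 := by decide

theorem qwM_mul : ∀ g h : Q, qw Im Jm (g * h) = qw Im Jm g * qw Im Jm h := by decide

theorem qwM_inj : ∀ g h : Q, qw Im Jm g = qw Im Jm h → g = h := by decide

theorem qwM_det : ∀ g : Q, (qw Im Jm g).det = 1 := by
  intro g
  rw [Matrix.det_fin_two]
  revert g
  decide

theorem qwM_pow : ∀ g : Q, (qw Im Jm g) ^ 4 = 1 := by decide

theorem mat_mem : ∀ a b c d : ZMod 3, a * d - b * c = 1 → !![a,b;c,d] ^ 4 = 1 →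
    ∃ q : Q, qw Im Jm q = !![a,b;c,d] := by decide

theorem mat_cent : ∀ a b c d : ZMod 3, !![a,b;c,d] * Im = Im * !![a,b;c,d] →
    !![a,b;c,d] * Jm = Jm * !![a,b;c,d] → a * d - b * c ≠ 0 →
    ∃ q : Q, qw Im Jm q = !![a,b;c,d] := by decide

theorem Tm_mul : Tm * Tm = 1 := by decide

theorem qwM_a : qw Im Jm (a 1 : Q) = Im := by decide

theorem qwM_xa : qw Im Jm (xa 0 : Q) = Jm := by decide

/-- the matrix-valued hom -/
def fM : Q →* Matrix (Fin 2) (Fin 2) (ZMod 3) where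
  toFun := qw Im Jm
  map_one' := qwM_one
  map_mul' := qwM_mul

/-- the embedding of `Q8` in `GL(2,3)` -/
def f₀ : Q →* GL (Fin 2) (ZMod 3) := fM.toHomUnits

theorem f₀_coe (q : Q) : ((f₀ q : GL (Fin 2) (ZMod 3)) : Matrix (Fin 2) (Fin 2) (ZMod 3)) =
    qw Im Jm q := rfl

theorem f₀_inj : Function.Injective f₀ := by
  intro g h hgh
  apply qwM_inj
  rw [← f₀_coe, ← f₀_coe, hgh]

theorem mem_range_iff (M : GL (Fin 2) (ZMod 3)) :
    M ∈ f₀.range ↔ (M : Matrix (Fin 2) (Fin 2) (ZMod 3)).det = 1 ∧ M ^ 4 = 1 := by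
  constructor
  · rintro ⟨q, rfl⟩
    refine ⟨?_, ?_⟩
    · rw [f₀_coe]; exact qwM_det q
    · apply Units.ext
      rw [Units.val_pow_eq_pow_val, f₀_coe]
      exact qwM_pow q
  · rintro ⟨h1, h2⟩
    have h3 := congrArg (fun w : GL (Fin 2) (ZMod 3) => (w : Matrix (Fin 2) (Fin 2) (ZMod 3))) h2
    simp only [Units.val_pow_eq_pow_val, Units.val_one] at h3
    rw [Cfsg.Agent.Lib.Helper6.GL23.eta M] at h3 h1
    rw [Matrix.det_fin_two_of] at h1
    obtain ⟨q, hq⟩ := mat_mem _ _ _ _ h1 h3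
    refine ⟨q, Units.ext ?_⟩
    rw [f₀_coe, hq, ← Cfsg.Agent.Lib.Helper6.GL23.eta M]

instance range_normal : f₀.range.Normal := by
  refine ⟨fun n hn g => ?_⟩
  rw [mem_range_iff] at hn ⊢
  refine ⟨?_, ?_⟩
  · have := Matrix.det_units_conj g (n : Matrix (Fin 2) (Fin 2) (ZMod 3))
    rw [← hn.1, ← this]
    rfl
  · rw [conj_pow, hn.2, mul_one, mul_inv_cancel]

theorem cent_le : Subgroup.centralizer (f₀.range : Set (GL (Fin 2) (ZMod 3))) ≤ f₀.range := by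
  intro M hM
  rw [Subgroup.mem_centralizer_iff] at hM
  have h1 := hM (f₀ (a 1)) ⟨a 1, rfl⟩
  have h2 := hM (f₀ (xa 0)) ⟨xa 0, rfl⟩
  have h1' := congrArg (fun w : GL (Fin 2) (ZMod 3) => (w : Matrix (Fin 2) (Fin 2) (ZMod 3))) h1
  have h2' := congrArg (fun w : GL (Fin 2) (ZMod 3) => (w : Matrix (Fin 2) (Fin 2) (ZMod 3))) h2
  simp only [Units.val_mul, f₀_coe, qwM_a, qwM_xa] at h1' h2'
  rw [Cfsg.Agent.Lib.Helper6.GL23.eta M] at h1' h2'
  obtain ⟨q, hq⟩ := mat_cent _ _ _ _ h1'.symm h2'.symm (Cfsg.Agent.Lib.Helper6.GL23.det_ne M)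
  refine ⟨q, Units.ext ?_⟩
  rw [f₀_coe, hq, ← Cfsg.Agent.Lib.Helper6.GL23.eta M]

/-- a noncentral involution of determinant `-1` -/
def t₀ : GL (Fin 2) (ZMod 3) := ⟨Tm, Tm, Tm_mul, Tm_mul⟩

theorem t₀_mul : t₀ * t₀ = 1 := Units.ext Tm_mul

theorem t₀_not_mem : t₀ ∉ f₀.range := by
  rw [mem_range_iff]
  rintro ⟨h, -⟩
  revert h
  show Tm.det ≠ 1
  rw [Matrix.det_fin_two]
  decide

/-- the isomorphism of the image with `Q8` -/
noncomputable def e₀ : f₀.range ≃* Q := (MonoidHom.ofInjective f₀_inj).symm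

/-- A group of order 48 with a self-centralizing normal `Q8` and an involution outside it is
`GL(2,3)`. -/
theorem iso_GL23 {X : Type*} [Group X] [Finite X] (R : Subgroup X) [R.Normal] (e : R ≃* Q)
    (hC : Subgroup.centralizer (R : Set X) ≤ R) (h48 : Nat.card X = 48) (t : X) (ht : t * t = 1)
    (htR : t ∉ R) : Nonempty (X ≃* GL (Fin 2) (ZMod 3)) := by
  obtain ⟨W, hW, hfW⟩ := exists_complement R e hC h48 t ht htR
  obtain ⟨W₀, hW₀, hfW₀⟩ := exists_complement f₀.range e₀ cent_le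
    Cfsg.Agent.Lib.Helper6.GL23.card_gl t₀ t₀_mul t₀_not_mem
  have hcW : Nat.card W = 6 := by
    have := hW.card_mul_card
    rw [card_R R e, h48] at this
    omega
  have hcW₀ : Nat.card W₀ = 6 := by
    have := hW₀.card_mul_card
    rw [card_R f₀.range e₀, Cfsg.Agent.Lib.Helper6.GL23.card_gl] at this
    omega
  exact Cfsg.Agent.Lib.Helper23.Q8Ext.nonempty_mulEquiv R e W hW hcW hfW f₀.range e₀ W₀ hW₀ hcW₀ hfW₀

end Cfsg.Agent.Lib.Helper23.GL23Data
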