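/-
helper23: S4561 (Gagola) leaf (F), EXACT name + binders of `notes/S4561_leaves.lean`:
a finite group whose centre embeds in `ℂˣ` and in which every non-central `x` has a `y` with
`1 ≠ [x, y] ∈ Z(H)` has a faithful irreducible character of degree `√|H : Z(H)|`.
Proof as in helper21's `ES.es_ramified`: an irreducible constituent of the character induced from
the faithful linear character of the centre lies over it (Frobenius reciprocity), vanishes off the
centre, hence is faithful and `χ(1)² = |H : Z(H)|`.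
-/
import Mathlib
import Cfsg.Prelude.Def_Characters
import Cfsg.Prelude.Def_Blocks
import Cfsg.Agent.Lib.Helper21.ESChar
import Cfsg.Agent.Lib.Helper21.GalConjA

set_option autoImplicit false

namespace Cfsg.Agent.Lib.Helper23.GagF

open Cfsg Cfsg.Agent.CharLib Cfsg.Agent.Lib.Helper6 Cfsg.Agent.Lib.Helper24
  Cfsg.Agent.Lib.Helper6.CTriple Cfsg.Agent.Lib.Helper21.ES
open scoped ComplexConjugate

universe u

theorem exists_faithful_fully_ramified {H : Type u} [Group H] [Finite H]
    (mu : Subgroup.center H →* ℂˣ) (hmu : Function.Injective mu)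
    (hstar : ∀ x : H, x ∉ Subgroup.center H →
      ∃ y : H, x * y * x⁻¹ * y⁻¹ ∈ Subgroup.center H ∧ x * y * x⁻¹ * y⁻¹ ≠ 1) :
    ∃ χ : Cfsg.IrrCharacter H, (∀ h : H, (χ : H → ℂ) h = (χ : H → ℂ) 1 → h = 1) ∧
      (Cfsg.charDegree (χ : H → ℂ)) ^ 2 = (Subgroup.center H).index := by
  classical
  let _ : Fintype H := Fintype.ofFinite H
  let _ : Fintype (Subgroup.center H) := Fintype.ofFinite (Subgroup.center H)
  have hZc : (Subgroup.center H) ≤ Subgroup.center H := le_refl _
  set θ : (Subgroup.center H) → ℂ := fun z => ((mu z : ℂˣ) : ℂ) with hθdef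
  have hθ : IsIrrCharacter (Subgroup.center H) θ := isIrrCharacter_of_hom mu
  have hθ1 : θ 1 = 1 := by simp [hθdef]
  have hne : indFun (Subgroup.center H) θ ≠ 0 := by
    intro h0
    have h1 := indFun_central_mem (Subgroup.center H) hZc θ 1
    rw [Subgroup.coe_one, h0, Pi.zero_apply, hθ1, mul_one] at h1
    have : (Subgroup.center H).index = 0 := by exact_mod_cast h1.symm
    exact Subgroup.index_ne_zero_of_finite this
  obtain ⟨χf, hχirr, hχne⟩ :=
    IsCharacter.exists_constituent (IsCharacter.indFun (Subgroup.center H) (IsIrrCharacter.isCharacter hθ)) hne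
  let χ : IrrCharacter H := ⟨χf, hχirr⟩
  obtain ⟨nu, hnu⟩ := exists_centralHom χ (Subgroup.center H) hZc
  have hnu1 : ∀ z : (Subgroup.center H), χf (z : H) = ((nu z : ℂˣ) : ℂ) * χf 1 := by
    intro z
    have := hnu z 1
    rwa [mul_one] at this
  have hres : (fun h : (Subgroup.center H) => χf h) = (χf 1) • (fun z : (Subgroup.center H) => ((nu z : ℂˣ) : ℂ)) := by
    funext z
    rw [Pi.smul_apply, smul_eq_mul, mul_comm]
    exact hnu1 z
  have hfr := frobenius_reciprocity (Subgroup.center H) θ
    (IsCharacter.isClassFunction (IsIrrCharacter.isCharacter hχirr))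
  rw [hfr, hres, classInner_smul_right, classInner_irr hθ (isIrrCharacter_of_hom nu)] at hχne
  have hmunu : θ = fun z => ((nu z : ℂˣ) : ℂ) := by
    by_contra hcon
    rw [if_neg hcon, mul_zero] at hχne
    exact hχne rfl
  have hnu' : ∀ z, nu z = mu z := fun z => Units.ext (congrFun hmunu z).symm
  have hχ1 : χf 1 ≠ 0 := irr_apply_one_ne_zero χ
  have hvan : ∀ g : H, g ∉ Subgroup.center H → χf g = 0 := by
    intro g hg
    obtain ⟨y, hyZ, hy1⟩ := hstar g hg
    set c : (Subgroup.center H) := ⟨g * y * g⁻¹ * y⁻¹, hyZ⟩ with hcdef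
    have h1 := hnu c (y * g * y⁻¹)
    have h2 : (c : H) * (y * g * y⁻¹) = g := by
      rw [hcdef]; group
    have h3 : χf (y * g * y⁻¹) = χf g :=
      (IsCharacter.isClassFunction (IsIrrCharacter.isCharacter hχirr)) g y
    change χf ((c : H) * (y * g * y⁻¹)) = _ at h1
    rw [h2] at h1
    change χf g = _ * χf (y * g * y⁻¹) at h1
    rw [h3] at h1
    have hc1 : ((nu c : ℂˣ) : ℂ) ≠ 1 := by
      rw [hnu' c]
      intro h
      have hlc : mu c = 1 := Units.ext h
      have hc : c = 1 := hmu (hlc.trans (map_one mu).symm)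
      exact hy1 (congrArg Subtype.val hc)
    by_contra hχg
    apply hc1
    have h5 : ((nu c : ℂˣ) : ℂ) * χf g = 1 * χf g := by rw [one_mul]; exact h1.symm
    exact mul_right_cancel₀ hχg h5
  refine ⟨χ, ?_, ?_⟩
  · intro h hh
    change χf h = χf 1 at hh
    by_cases hZ : h ∈ (Subgroup.center H)
    · have h1 := hnu1 ⟨h, hZ⟩
      change χf h = _ at h1
      rw [hh] at h1
      have h2 : ((nu ⟨h, hZ⟩ : ℂˣ) : ℂ) = 1 := by
        have h3 : 1 * χf 1 = ((nu ⟨h, hZ⟩ : ℂˣ) : ℂ) * χf 1 := by rw [one_mul]; exact h1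
        exact (mul_right_cancel₀ hχ1 h3).symm
      have h4 : mu ⟨h, hZ⟩ = 1 := by
        rw [← hnu']
        exact Units.ext h2
      have h5 : (⟨h, hZ⟩ : (Subgroup.center H)) = 1 := hmu (h4.trans (map_one mu).symm)
      exact congrArg Subtype.val h5
    · exfalso
      apply hχ1
      rw [← hh]
      exact hvan h hZ
  · have h1 := Cfsg.Agent.Lib.Helper21.GalConj.card_center_mul_charDegree_sq_of_vanish χ hvan
    have h2 := Subgroup.card_mul_index (Subgroup.center H)
    have hpos : 0 < Nat.card (Subgroup.center H) := Nat.card_pos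
    exact Nat.eq_of_mul_eq_mul_left hpos (h1.trans h2.symm)

end Cfsg.Agent.Lib.Helper23.GagF
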