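import Mathlib
import Cfsg.Agent.Lib.Helper24.HKKDefs

/-!
# S3779 leaf HP2 (helper23, for helper24): transfer

A Lie ring `L` killed by `n` prime to `p` with a bracket-preserving additive map `φ` of order `p` with
`1 + φ + ⋯ + φ^(p-1) = 0` embeds (by `x ↦ 1 ⊗ x`) into `ℤ[ω] ⊗ L`, which is `ZMod p`-graded by the
eigenprojections of the base change of `φ`, with zero `0`-component.  Hence every left-normed identity that
holds in all such graded Lie rings holds in `L`.
-/

set_option autoImplicit false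

open Cfsg.Agent.Lib.Helper24.HKK
open scoped TensorProduct

namespace Cfsg.Agent.Lib.Helper23.HKKLeaf

universe u

section ring

variable (p : ℕ) [hp : Fact p.Prime]

/-- `ℤ[ω]`, `ω` a primitive `p`-th root of unity. -/
abbrev Zω : Type := AdjoinRoot (Polynomial.cyclotomic p ℤ)

/-- the root -/
noncomputable def ω : Zω p := AdjoinRoot.root _

lemma geom_ω : ∑ j ∈ Finset.range p, (ω p) ^ j = 0 := by
  have key : ∀ q : Polynomial ℤ, q = Polynomial.cyclotomic p ℤ →
      Polynomial.eval₂ (AdjoinRoot.of (Polynomial.cyclotomic p ℤ))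
        (AdjoinRoot.root (Polynomial.cyclotomic p ℤ)) q = 0 := by
    rintro q rfl; exact AdjoinRoot.eval₂_root _
  have h := key _ (Polynomial.cyclotomic_prime ℤ p).symm
  rw [Polynomial.eval₂_finsetSum] at h
  simpa [ω] using h

lemma ω_pow_p : (ω p) ^ p = 1 := by
  have h := mul_geom_sum (ω p) p
  rw [geom_ω, mul_zero] at h
  exact (sub_eq_zero.mp h.symm)

/-- the character `a ↦ ω ^ a` of `ZMod p` -/
noncomputable def ζ (a : ZMod p) : Zω p := (ω p) ^ a.val

lemma ζ_zero : ζ p 0 = 1 := by simp [ζ]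

lemma ζ_add (a b : ZMod p) : ζ p (a + b) = ζ p a * ζ p b := by
  unfold ζ
  rw [ZMod.val_add, ← pow_add, ← pow_eq_pow_mod _ (ω_pow_p p)]

lemma ζ_pow (l : ZMod p) (i : ℕ) : ζ p l ^ i = ζ p ((i : ZMod p) * l) := by
  induction i with
  | zero => simp [ζ_zero]
  | succ i ih => rw [pow_succ, ih, ← ζ_add, Nat.cast_succ, add_mul, one_mul]

lemma sum_zmod_val {β : Type*} [AddCommMonoid β] (f : ℕ → β) :
    ∑ a : ZMod p, f a.val = ∑ i ∈ Finset.range p, f i := by
  have : NeZero p := ⟨hp.out.ne_zero⟩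
  refine Finset.sum_nbij' (fun a => a.val) (fun i => (i : ZMod p)) ?_ ?_ ?_ ?_ ?_
  · intro a _; exact Finset.mem_range.mpr (ZMod.val_lt a)
  · intro i _; exact Finset.mem_univ _
  · intro a _; exact ZMod.natCast_zmod_val a
  · intro i hi; exact ZMod.val_natCast_of_lt (Finset.mem_range.mp hi)
  · intro a _; rfl

lemma sum_ζ : ∑ a : ZMod p, ζ p a = 0 := by
  unfold ζ
  rw [sum_zmod_val p (fun i => (ω p) ^ i)]
  exact geom_ω p

lemma sum_ζ_mul (k : ZMod p) : ∑ a : ZMod p, ζ p (a * k) = if k = 0 then (p : Zω p) else 0 := by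
  split_ifs with hk
  · subst hk; simp [ζ_zero]
  · rw [← sum_ζ p]
    exact Fintype.sum_equiv (Equiv.mulRight₀ k hk) _ _ (fun a => rfl)

/-- a `ℤ`-linear retraction of `ℤ → ℤ[ω]` -/
lemma exists_retraction : ∃ r : Zω p →ₗ[ℤ] ℤ, r 1 = 1 := by
  have hmonic : (Polynomial.cyclotomic p ℤ).Monic := Polynomial.cyclotomic.monic p ℤ
  have hdim : 0 < (AdjoinRoot.powerBasis' hmonic).dim := by
    rw [AdjoinRoot.powerBasis'_dim, Polynomial.natDegree_cyclotomic, Nat.totient_prime hp.out]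
    have := hp.out.two_le; omega
  refine ⟨(AdjoinRoot.powerBasis' hmonic).basis.coord ⟨0, hdim⟩, ?_⟩
  have h1 : (1 : Zω p) = (AdjoinRoot.powerBasis' hmonic).basis ⟨0, hdim⟩ := by
    rw [PowerBasis.basis_eq_pow]; simp
  rw [h1, Module.Basis.coord_apply, Module.Basis.repr_self]
  simp

end ring

section module

attribute [-instance] LieAlgebra.ExtendScalars.instBracketTensorProduct

variable (p : ℕ) [hp : Fact p.Prime] {L : Type u} [LieRing L] (φ : L →+ L)

omit hp in
lemma lie_tmul (a b : Zω p) (x y : L) :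
    ⁅a ⊗ₜ[ℤ] x, b ⊗ₜ[ℤ] y⁆ = (a * b) ⊗ₜ[ℤ] ⁅x, y⁆ := rfl

/-- base change of `φ` -/
noncomputable def bc : Module.End (Zω p) (Zω p ⊗[ℤ] L) :=
  LinearMap.baseChange (Zω p) φ.toIntLinearMap

omit hp in
lemma bc_tmul (a : Zω p) (x : L) : bc p φ (a ⊗ₜ x) = a ⊗ₜ φ x := by
  simp [bc]

lemma bc_pow_tmul (j : ℕ) (a : Zω p) (x : L) : (bc p φ ^ j) (a ⊗ₜ x) = a ⊗ₜ (φ^[j] x) := by
  induction j generalizing x with
  | zero => simp
  | succ j ih => rw [pow_succ, Module.End.mul_apply, bc_tmul, ih, Function.iterate_succ_apply]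

lemma bc_pow_p (h : ∀ v, (⇑φ)^[p] v = v) : bc p φ ^ p = 1 := by
  apply LinearMap.ext; intro v
  induction v using TensorProduct.induction_on with
  | zero => simp
  | tmul a x => rw [bc_pow_tmul, h]; rfl
  | add u v hu hv => rw [map_add, hu, hv, map_add]

lemma bc_sum (h : ∀ v, ∑ j ∈ Finset.range p, (⇑φ)^[j] v = 0) :
    ∑ j ∈ Finset.range p, bc p φ ^ j = 0 := by
  apply LinearMap.ext; intro v
  induction v using TensorProduct.induction_on with
  | zero => simp
  | tmul a x =>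
    rw [LinearMap.sum_apply]
    simp only [bc_pow_tmul]
    rw [← TensorProduct.tmul_sum, h, TensorProduct.tmul_zero]; rfl
  | add u v hu hv => rw [map_add, hu, hv, map_add]

lemma bc_lie (hφl : ∀ x y, φ ⁅x, y⁆ = ⁅φ x, φ y⁆) (u v : Zω p ⊗[ℤ] L) :
    bc p φ ⁅u, v⁆ = ⁅bc p φ u, bc p φ v⁆ := by
  induction u using TensorProduct.induction_on with
  | zero => simp
  | tmul a x =>
    induction v using TensorProduct.induction_on with
    | zero => simp
    | tmul b y => rw [lie_tmul, bc_tmul, bc_tmul, bc_tmul, lie_tmul, hφl]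
    | add v w hv hw => rw [lie_add, map_add, hv, hw, map_add, lie_add]
  | add u w hu hw => rw [add_lie, map_add, hu, hw, map_add, add_lie]


omit hp in
lemma smul_lie_smul (a b : Zω p) (u v : Zω p ⊗[ℤ] L) : ⁅a • u, b • v⁆ = (a * b) • ⁅u, v⁆ := by
  induction u using TensorProduct.induction_on with
  | zero => simp
  | tmul c x =>
    induction v using TensorProduct.induction_on with
    | zero => simp
    | tmul d y =>
      rw [TensorProduct.smul_tmul', TensorProduct.smul_tmul', lie_tmul, lie_tmul,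
        TensorProduct.smul_tmul']
      congr 1
      simp only [smul_eq_mul]; ring
    | add v w hv hw => rw [smul_add, lie_add, hv, hw, lie_add, smul_add]
  | add u w hu hw => rw [smul_add, add_lie, hu, hw, add_lie, smul_add]

/-- powers of the base change indexed by `ZMod p` -/
noncomputable def Φ (a : ZMod p) : Module.End (Zω p) (Zω p ⊗[ℤ] L) := bc p φ ^ a.val

lemma Φ_succ (h : ∀ v, (⇑φ)^[p] v = v) (a : ZMod p) : bc p φ * Φ p φ a = Φ p φ (a + 1) := by
  unfold Φ
  rw [← pow_succ', ZMod.val_add, pow_eq_pow_mod (a.val + 1) (bc_pow_p p φ h)]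
  congr 2
  have hp1 : (1 : ZMod p).val = 1 := by
    have : Fact (1 < p) := ⟨hp.out.one_lt⟩
    exact ZMod.val_one p
  rw [hp1]

/-- the eigenprojection, up to the scalar `μ` -/
noncomputable def proj (μ : Zω p) (k : ZMod p) : Module.End (Zω p) (Zω p ⊗[ℤ] L) :=
  μ • ∑ a : ZMod p, ζ p (-(a * k)) • Φ p φ a

lemma bc_mul_proj (h : ∀ v, (⇑φ)^[p] v = v) (μ : Zω p) (k : ZMod p) :
    bc p φ * proj p φ μ k = ζ p k • proj p φ μ k := by
  unfold proj
  rw [mul_smul_comm, smul_comm (ζ p k) μ]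
  congr 1
  rw [Finset.mul_sum, Finset.smul_sum,
    ← Equiv.sum_comp (Equiv.addRight (1 : ZMod p)) (fun b => ζ p k • ζ p (-(b * k)) • Φ p φ b)]
  refine Finset.sum_congr rfl (fun a _ => ?_)
  rw [mul_smul_comm, Φ_succ p φ h, Equiv.coe_addRight, smul_smul, ← ζ_add]
  congr 2
  ring

lemma Φ_apply_eigen (a l : ZMod p) (w : Zω p ⊗[ℤ] L) (hw : bc p φ w = ζ p l • w) :
    Φ p φ a w = ζ p (a * l) • w := by
  have hp0 : NeZero p := ⟨hp.out.ne_zero⟩
  have key : ∀ i : ℕ, (bc p φ ^ i) w = (ζ p l ^ i) • w := by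
    intro i
    induction i with
    | zero => simp
    | succ i ih => rw [pow_succ, Module.End.mul_apply, hw, map_smul, ih, smul_smul, pow_succ, mul_comm]
  unfold Φ
  rw [key, ζ_pow, ZMod.natCast_zmod_val]

lemma proj_apply_eigen (μ : Zω p) (k l : ZMod p) (w : Zω p ⊗[ℤ] L) (hw : bc p φ w = ζ p l • w) :
    proj p φ μ k w = if l = k then (μ * (p : Zω p)) • w else 0 := by
  unfold proj
  rw [LinearMap.smul_apply, LinearMap.sum_apply]
  have h1 : ∀ a : ZMod p, (ζ p (-(a * k)) • Φ p φ a) w = ζ p (a * (l - k)) • w := by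
    intro a
    rw [LinearMap.smul_apply, Φ_apply_eigen p φ a l w hw, smul_smul, ← ζ_add]
    congr 2; ring
  simp only [h1]
  rw [← Finset.sum_smul, sum_ζ_mul, smul_smul]
  by_cases hlk : l = k
  · rw [if_pos hlk, if_pos (sub_eq_zero.mpr hlk)]
  · rw [if_neg hlk, if_neg (sub_ne_zero.mpr hlk), mul_zero, zero_smul]


section grading

variable {p} {φ}
variable (hφl : ∀ x y, φ ⁅x, y⁆ = ⁅φ x, φ y⁆) (hφp : ∀ v, (⇑φ)^[p] v = v)
  (hφN : ∀ v, ∑ j ∈ Finset.range p, (⇑φ)^[j] v = 0)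
  (μ : Zω p) (hμ : ∀ w : Zω p ⊗[ℤ] L, (μ * (p : Zω p)) • w = w)

include hφp in
lemma bc_proj (k : ZMod p) (x : Zω p ⊗[ℤ] L) :
    bc p φ (proj p φ μ k x) = ζ p k • proj p φ μ k x := by
  have h := LinearMap.congr_fun (bc_mul_proj p φ hφp μ k) x
  simpa using h

include hφp hμ in
lemma proj_idem (k : ZMod p) (x : Zω p ⊗[ℤ] L) :
    proj p φ μ k (proj p φ μ k x) = proj p φ μ k x := by
  rw [proj_apply_eigen p φ μ k k _ (bc_proj hφp μ k x), if_pos rfl, hμ]

include hφp in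
lemma proj_orth (j k : ZMod p) (hjk : j ≠ k) (x : Zω p ⊗[ℤ] L) :
    proj p φ μ j (proj p φ μ k x) = 0 := by
  rw [proj_apply_eigen p φ μ j k _ (bc_proj hφp μ k x), if_neg (Ne.symm hjk)]

include hμ in
lemma proj_sum (x : Zω p ⊗[ℤ] L) : ∑ k : ZMod p, proj p φ μ k x = x := by
  unfold proj
  simp only [LinearMap.smul_apply, LinearMap.sum_apply]
  rw [← Finset.smul_sum, Finset.sum_comm]
  have h1 : ∀ a : ZMod p, ∑ k : ZMod p, ζ p (-(a * k)) • (Φ p φ a) x =
      (if a = 0 then (p : Zω p) else 0) • (Φ p φ a) x := by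
    intro a
    rw [← Finset.sum_smul]
    congr 1
    have h2 := sum_ζ_mul p (-a)
    rw [show (∑ k : ZMod p, ζ p (-(a * k))) = ∑ k : ZMod p, ζ p (k * -a) from
      Finset.sum_congr rfl (fun k _ => by congr 1; ring), h2]
    simp only [neg_eq_zero]
  simp only [h1]
  rw [Finset.sum_eq_single (0 : ZMod p)]
  · rw [if_pos rfl, smul_smul]
    have : Φ p φ (0 : ZMod p) = 1 := by simp [Φ]
    rw [this, Module.End.one_apply, hμ]
  · intro b _ hb; rw [if_neg hb, zero_smul]
  · intro h; exact absurd (Finset.mem_univ _) h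

include hφN in
lemma proj_zero (x : Zω p ⊗[ℤ] L) : proj p φ μ 0 x = 0 := by
  unfold proj
  have h1 : ∑ a : ZMod p, ζ p (-(a * 0)) • Φ p φ a = ∑ j ∈ Finset.range p, bc p φ ^ j := by
    rw [← sum_zmod_val p (fun i => bc p φ ^ i)]
    refine Finset.sum_congr rfl (fun a _ => ?_)
    rw [mul_zero, neg_zero, ζ_zero, one_smul]; rfl
  rw [h1, bc_sum p φ hφN, smul_zero, LinearMap.zero_apply]

include hφl hφp hμ in
lemma proj_lie (j k : ZMod p) (x y : Zω p ⊗[ℤ] L) :
    proj p φ μ (j + k) ⁅proj p φ μ j x, proj p φ μ k y⁆ = ⁅proj p φ μ j x, proj p φ μ k y⁆ := by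
  have hw : bc p φ ⁅proj p φ μ j x, proj p φ μ k y⁆ =
      ζ p (j + k) • ⁅proj p φ μ j x, proj p φ μ k y⁆ := by
    rw [bc_lie p φ hφl, bc_proj hφp, bc_proj hφp, smul_lie_smul, ← ζ_add]
  rw [proj_apply_eigen p φ μ (j + k) (j + k) _ hw, if_pos rfl, hμ]

/-- the grading -/
noncomputable def theGrading : Grading p (Zω p ⊗[ℤ] L) where
  π := fun k => (proj p φ μ k).toAddMonoidHom
  idem := fun k x => proj_idem hφp μ hμ k x
  orth := fun j k hjk x => proj_orth hφp μ j k hjk x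
  sum := fun x => proj_sum μ hμ x
  lie := fun j k x y => proj_lie hφl hφp μ hμ j k x y
  zero := fun x => proj_zero hφN μ x

end grading

end module

section embed

variable {L : Type u} [LieRing L] (p : ℕ) [hp : Fact p.Prime]

attribute [-instance] LieAlgebra.ExtendScalars.instBracketTensorProduct

/-- `x ↦ 1 ⊗ x` -/
noncomputable def emb : L →+ Zω p ⊗[ℤ] L where
  toFun x := (1 : Zω p) ⊗ₜ[ℤ] x
  map_zero' := TensorProduct.tmul_zero _ _
  map_add' _ _ := TensorProduct.tmul_add _ _ _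

omit hp in
lemma emb_lie (x y : L) : emb p ⁅x, y⁆ = ⁅emb p x, emb p y⁆ := by
  show (1 : Zω p) ⊗ₜ[ℤ] ⁅x, y⁆ = ⁅(1 : Zω p) ⊗ₜ[ℤ] x, (1 : Zω p) ⊗ₜ[ℤ] y⁆
  rw [lie_tmul, one_mul]

omit hp in
lemma emb_lnb (x : L) (l : List L) : emb p (lnb x l) = lnb (emb p x) (l.map (emb p)) := by
  induction l generalizing x with
  | nil => rfl
  | cons y l ih =>
    show emb p (lnb ⁅x, y⁆ l) = lnb ⁅emb p x, emb p y⁆ (l.map (emb p))
    rw [ih, emb_lie]

lemma emb_injective : Function.Injective (emb (L := L) p) := by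
  obtain ⟨r, hr⟩ := exists_retraction p
  have key : ∀ x : L, ((TensorProduct.lid ℤ L).toLinearMap ∘ₗ (LinearMap.rTensor L r)) (emb p x) = x := by
    intro x
    show (TensorProduct.lid ℤ L) ((LinearMap.rTensor L r) ((1 : Zω p) ⊗ₜ[ℤ] x)) = x
    rw [LinearMap.rTensor_tmul, hr, TensorProduct.lid_tmul, one_smul]
  intro x y hxy
  rw [← key x, ← key y, hxy]

end embed

/-- HP2: transfer from graded Lie rings to a Lie ring with an automorphism of order `p`. -/
theorem transfer {L : Type u} [LieRing L] (p : ℕ) [Fact p.Prime] (n : ℕ) (hn : n.Coprime p)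
    (hnL : ∀ v : L, n • v = 0) (φ : L →+ L) (hφl : ∀ x y, φ ⁅x, y⁆ = ⁅φ x, φ y⁆)
    (hφp : ∀ v, (⇑φ)^[p] v = v) (hφN : ∀ v, ∑ j ∈ Finset.range p, (⇑φ)^[j] v = 0) (c : ℕ)
    (H : ∀ (M : Type u) [LieRing M] (_ : Grading p M), ∀ x : M, ∀ l : List M,
      l.length = c → lnb x l = 0) :
    ∀ x : L, ∀ l : List L, l.length = c → lnb x l = 0 := by
  intro x l hl
  -- `n` kills the base change
  have hnM : ∀ w : Zω p ⊗[ℤ] L, n • w = 0 := by
    intro w
    induction w using TensorProduct.induction_on with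
    | zero => simp
    | tmul a y =>
      have := map_nsmul (TensorProduct.mk ℤ (Zω p) L a) n y
      rw [hnL, map_zero] at this
      exact this.symm
    | add u v hu hv => rw [smul_add, hu, hv, add_zero]
  -- the scalar `μ` with `μ p = 1` on the base change
  have hbez := Nat.gcd_eq_gcd_ab n p
  rw [hn] at hbez
  have hμ : ∀ w : Zω p ⊗[ℤ] L, (((Nat.gcdB n p : ℤ) : Zω p) * (p : Zω p)) • w = w := by
    intro w
    have h1 : ((Nat.gcdB n p : ℤ) : Zω p) * (p : Zω p) = ((Nat.gcdB n p * p : ℤ) : Zω p) := by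
      push_cast; ring
    have h2 : (Nat.gcdB n p * p : ℤ) = 1 - n * Nat.gcdA n p := by
      push_cast at hbez; linarith
    rw [h1, Int.cast_smul_eq_zsmul, h2, sub_smul, one_smul, mul_smul, natCast_zsmul,
      hnM, sub_zero]
  have h0 := H (Zω p ⊗[ℤ] L) (theGrading hφl hφp hφN _ hμ) (emb p x) (l.map (emb p))
    (by rw [List.length_map, hl])
  rw [← emb_lnb, ← map_zero (emb (L := L) p)] at h0
  exact emb_injective p h0

end Cfsg.Agent.Lib.Helper23.HKKLeaf
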