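/-
helper23: S3371 market "HT" (`notes/S3371_leaves.lean`), leaf HT-QDCOUNT: a quasidihedral group of order `2^(m+4)` has
`2^(m+2)` non-central involutions (the elements `x^(2k) y`, `k < 2^(m+2)`).
-/
import Mathlib
import Cfsg.Agent.Lib.Helper26.HTDefs
import Cfsg.Agent.Lib.Helper18.QuasiDihedral

set_option autoImplicit false

namespace Cfsg.Agent.Lib.Helper23.HTQDCOUNT

open Subgroup Cfsg.Agent.Lib.Helper26.HT

variable {q : ℕ} [Fact q.Prime] {V : Type*} [AddCommGroup V] [Module (ZMod q) V]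
  {G : Type*} [Group G]

/-- the elements `x^(2k) y` are non-central involutions -/
theorem invol_noncentral {S : Type*} [Group S] {m : ℕ} {x y : S}
    (h : Cfsg.Agent.Lib.Helper18.IsQD S m x y) (k : ℕ) :
    orderOf (x ^ (2 * k) * y) = 2 ∧ x ^ (2 * k) * y ∉ center S := by
  refine ⟨h.orderOf_xy_even k, ?_⟩
  intro hc
  rw [h.center_eq] at hc
  apply h.xy_not_mem (2 * k)
  exact (zpowers_le.mpr (pow_mem (mem_zpowers x) _)) hc

/-- every non-central involution is some `x^(2k) y` with `k < 2^(m+2)` -/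
theorem exists_of_invol_noncentral {S : Type*} [Group S] {m : ℕ} {x y : S}
    (h : Cfsg.Agent.Lib.Helper18.IsQD S m x y) (g : S) (h2 : orderOf g = 2) (hc : g ∉ center S) :
    ∃ k : ℕ, k < 2 ^ (m + 2) ∧ g = x ^ (2 * k) * y := by
  obtain ⟨i, rfl | rfl⟩ := h.cover g
  · exfalso
    apply hc
    rw [h.eq_z_of_orderOf_two (x ^ i) (pow_mem (mem_zpowers x) i) h2, Subgroup.mem_center_iff]
    intro g
    exact h.z_central g
  · rcases Nat.even_or_odd' i with ⟨j, rfl | rfl⟩
    · refine ⟨j % 2 ^ (m + 2), Nat.mod_lt _ (by positivity), ?_⟩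
      congr 1
      rw [pow_eq_pow_iff_modEq, h.hx, show m + 3 = (m + 2) + 1 from rfl, pow_succ,
        mul_comm (2 ^ (m + 2)) 2]
      exact (Nat.ModEq.mul_left' 2 (Nat.mod_modEq j (2 ^ (m + 2)))).symm
    · exfalso
      have := h.orderOf_xy_odd j
      omega

/-- **HT-QDCOUNT** a quasidihedral group of order `2^(m+4)` has `2^(m+2)` non-central involutions. -/
theorem qd_count {S : Type*} [Group S] {m : ℕ} {x y : S}
    (h : Cfsg.Agent.Lib.Helper18.IsQD S m x y) :
    Nat.card {g : S // orderOf g = 2 ∧ g ∉ center S} = 2 ^ (m + 2) := by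
  let f : Fin (2 ^ (m + 2)) → {g : S // orderOf g = 2 ∧ g ∉ center S} :=
    fun k => ⟨x ^ (2 * (k : ℕ)) * y, invol_noncentral h k⟩
  have hf : Function.Bijective f := by
    constructor
    · intro k k' hkk
      have h1 : x ^ (2 * (k : ℕ)) * y = x ^ (2 * (k' : ℕ)) * y := congrArg Subtype.val hkk
      have h2 : x ^ (2 * (k : ℕ)) = x ^ (2 * (k' : ℕ)) := mul_right_cancel h1
      rw [pow_eq_pow_iff_modEq, h.hx, show m + 3 = (m + 2) + 1 from rfl, pow_succ,
        mul_comm (2 ^ (m + 2)) 2] at h2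
      have h3 : (k : ℕ) ≡ (k' : ℕ) [MOD 2 ^ (m + 2)] :=
        Nat.ModEq.mul_left_cancel' (by norm_num) h2
      apply Fin.ext
      have hk := k.2
      have hk' := k'.2
      rw [Nat.ModEq, Nat.mod_eq_of_lt hk, Nat.mod_eq_of_lt hk'] at h3
      exact h3
    · rintro ⟨g, h2, hc⟩
      obtain ⟨k, hk, rfl⟩ := exists_of_invol_noncentral h g h2 hc
      exact ⟨⟨k, hk⟩, rfl⟩
  rw [← Nat.card_congr (Equiv.ofBijective f hf), Nat.card_eq_fintype_card, Fintype.card_fin]

end Cfsg.Agent.Lib.Helper23.HTQDCOUNT
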