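/-
helper23: S3371 market "HT" (`notes/S3371_leaves.lean`), leaf HT-QDIDX: the cyclic maximal subgroup of a quasidihedral group.
-/
import Mathlib
import Cfsg.Agent.Lib.Helper26.HTDefs
import Cfsg.Agent.Lib.Helper18.QuasiDihedral

set_option autoImplicit false

namespace Cfsg.Agent.Lib.Helper23.HTQDIDX

open Subgroup Cfsg.Agent.Lib.Helper26.HT

variable {q : ℕ} [Fact q.Prime] {V : Type*} [AddCommGroup V] [Module (ZMod q) V]
  {G : Type*} [Group G]

/-- **HT-QDIDX** the cyclic maximal subgroup of a quasidihedral group. -/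
theorem qd_index_two {S : Type*} [Group S] {m : ℕ} {x y : S}
    (h : Cfsg.Agent.Lib.Helper18.IsQD S m x y) :
    ∃ C : Subgroup S, C.index = 2 ∧ ∀ t ∈ C, orderOf t = 2 → t ∈ center S := by
  refine ⟨zpowers x, h.index_zpowers, ?_⟩
  intro t ht h2
  rw [h.eq_z_of_orderOf_two t ht h2, Subgroup.mem_center_iff]
  intro g
  exact h.z_central g

end Cfsg.Agent.Lib.Helper23.HTQDIDX
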