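import Mathlib
import Cfsg.Agent.Lib.Helper23.HeightZeroD
import Cfsg.Agent.Lib.Helper6.FongReynolds

set_option autoImplicit false

namespace Cfsg.Agent.Lib.Helper23

open Cfsg Cfsg.Agent.CharLib Cfsg.Agent.Lib.Helper24 Cfsg.Agent.Lib.Helper6
open Cfsg.Agent.Lib.Helper6.FongReynolds
open scoped ComplexConjugate Pointwise

universe u

section sylconj

variable {H : Type u} [Group H] [Fintype H] {p : ℕ} [hpp : Fact p.Prime]

omit hpp in
/-- Sum over a Sylow subgroup of `θ ∘ β`, as a sum over the image. -/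
theorem sum_sylow_comp_mulAut (θ : H → ℂ) (Q : Sylow p H) [Fintype (Q : Subgroup H)]
    [DecidablePred (· ∈ (Q : Subgroup H))] (β : MulAut H)
    [DecidablePred (· ∈ β • (Q : Subgroup H))] :
    ∑ z : (Q : Subgroup H), θ (β (z : H)) =
      ∑ u : H, if u ∈ β • (Q : Subgroup H) then θ u else 0 := by
  have h1 : ∑ z : (Q : Subgroup H), θ (β (z : H)) =
      ∑ w : H, if w ∈ (Q : Subgroup H) then θ (β w) else 0 := by
    rw [← Finset.sum_filter]
    exact (Finset.sum_subtype (Finset.univ.filter (· ∈ (Q : Subgroup H))) (by simp)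
      (fun w => θ (β w))).symm
  rw [h1, ← Equiv.sum_comp β.toEquiv (fun u => if u ∈ β • (Q : Subgroup H) then θ u else 0)]
  apply Finset.sum_congr rfl
  intro w _
  have : β.toEquiv w ∈ β • (Q : Subgroup H) ↔ w ∈ (Q : Subgroup H) := by
    rw [Subgroup.mem_pointwise_smul_iff_inv_smul_mem]
    show β⁻¹ (β w) ∈ _ ↔ _
    simp
  by_cases hw : w ∈ (Q : Subgroup H)
  · rw [if_pos hw, if_pos (this.mpr hw)]; rfl
  · rw [if_neg hw, if_neg (fun h => hw (this.mp h))]

/-- The sum of a class function over a Sylow subgroup is invariant under automorphisms. -/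
theorem sum_sylow_comp_mulAut_eq {θ : H → ℂ} (hθ : IsClassFunction H θ) (Q : Sylow p H)
    [Fintype (Q : Subgroup H)] (β : MulAut H) :
    ∑ z : (Q : Subgroup H), θ (β (z : H)) = ∑ z : (Q : Subgroup H), θ (z : H) := by
  classical
  obtain ⟨h, hh⟩ := MulAction.exists_smul_eq H Q (β • Q)
  have h1 : (MulAut.conj h) • (Q : Subgroup H) = β • (Q : Subgroup H) := by
    have := congrArg (fun P : Sylow p H => (P : Subgroup H)) hh
    simpa [Sylow.smul_def, Sylow.pointwise_smul_def] using this
  rw [sum_sylow_comp_mulAut θ Q β]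
  have h2 := sum_sylow_comp_mulAut θ Q (MulAut.conj h)
  have h3 : ∑ z : (Q : Subgroup H), θ ((MulAut.conj h) (z : H)) = ∑ z : (Q : Subgroup H), θ (z : H) := by
    apply Finset.sum_congr rfl
    intro z _
    rw [MulAut.conj_apply]
    exact hθ z h
  rw [← h3, h2]
  apply Finset.sum_congr rfl
  intro u _
  simp only [h1]

end sylconj

section orbit

variable {G : Type u} [Group G] (H : Subgroup G) [hH : H.Normal]

/-- The left action of `G` on `Irr(H)`: `(g • θ)(g h g⁻¹) = θ(h)`. -/
@[instance_reducible] noncomputable def irrConjAction : MulAction G (IrrCharacter H) where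
  smul g θ := conjIrr g⁻¹ θ
  one_smul θ := by
    apply Subtype.ext
    show conjFun H (1 : G)⁻¹ (θ : H → ℂ) = θ
    rw [inv_one, conjFun_one]
  mul_smul a b θ := by
    apply Subtype.ext
    show conjFun H (a * b)⁻¹ (θ : H → ℂ) = conjFun H a⁻¹ (conjFun H b⁻¹ (θ : H → ℂ))
    rw [mul_inv_rev, conjFun_mul]

theorem irrConjAction_coe (g : G) (θ : IrrCharacter H) :
    letI := irrConjAction H
    ((g • θ : IrrCharacter H) : H → ℂ) = conjFun H g⁻¹ (θ : H → ℂ) := rfl

theorem charDegree_irrConjAction (g : G) (θ : IrrCharacter H) :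
    letI := irrConjAction H
    charDegree ((g • θ : IrrCharacter H) : H → ℂ) = charDegree (θ : H → ℂ) := by
  letI := irrConjAction H
  unfold charDegree
  rw [irrConjAction_coe, conjFun_apply_one]

theorem sylowMult_irrConjAction [Fintype H] {p : ℕ} [hpp : Fact p.Prime] (Q : Sylow p H) (g : G)
    (θ : IrrCharacter H) :
    letI := irrConjAction H
    sylowMult Q (g • θ : IrrCharacter H) = sylowMult Q θ := by
  letI := irrConjAction H
  classical
  let _ : Fintype (Q : Subgroup H) := Fintype.ofFinite _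
  have h1 := sylowMult_spec Q (g • θ : IrrCharacter H)
  have h2 := sylowMult_spec Q θ
  have hcls : IsClassFunction H (θ : H → ℂ) :=
    IsCharacter.isClassFunction (IsIrrCharacter.isCharacter θ.2)
  have h3 : ∑ z : (Q : Subgroup H), ((g • θ : IrrCharacter H) : H → ℂ) (z : H) =
      ∑ z : (Q : Subgroup H), (θ : H → ℂ) ((MulAut.conjNormal g⁻¹ : MulAut H) (z : H)) := by
    apply Finset.sum_congr rfl
    intro z _
    rw [irrConjAction_coe, conjFun_apply]
    congr 1
  rw [h3, sum_sylow_comp_mulAut_eq hcls Q, h2] at h1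
  have h4 : (Nat.card (Q : Subgroup H) : ℂ) ≠ 0 := Nat.cast_ne_zero.mpr Nat.card_pos.ne'
  have h5 := mul_left_cancel₀ h4 h1
  exact_mod_cast h5.symm

variable [Fintype G] {M : Ideal AlgInt} {p : ℕ} [hpp : Fact p.Prime]

/-- **S4723 core**: the stabiliser `T` of a block `b` of a normal subgroup has a height-zero
character in `b` whose orbit under `T` has `p'`-size. -/
theorem exists_height_zero_pprime_orbit (hM : IsPModular p M) {b : Set (IrrCharacter H)}
    (hb : IsPBlock M b) (T : Subgroup G)
    (hT : letI := irrConjAction H; ∀ g ∈ T, ∀ θ ∈ b, (g • θ : IrrCharacter H) ∈ b) :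
    letI := irrConjAction H
    ∃ θ ∈ b, (charDegree (θ : H → ℂ)).factorization p = minVal p b ∧
      ¬ p ∣ (MulAction.stabilizer T θ).index := by
  letI := irrConjAction H
  classical
  let _ : Fintype H := Fintype.ofFinite H
  let _ := fintypeIrr H
  have hprime : M.IsPrime := isPrime_of_isPModular hM
  have hp : p.Prime := hpp.out
  obtain ⟨Q⟩ : Nonempty (Sylow p H) := inferInstance
  set e := minVal p b with he
  set a := (Nat.card H).factorization p with ha
  set s : Finset (IrrCharacter H) := Finset.univ.filter (· ∈ b) with hs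
  have hmem : ∀ θ, θ ∈ s ↔ θ ∈ b := fun θ => by rw [hs]; simp
  let F : IrrCharacter H → ℕ := fun θ => charDegree (θ : H → ℂ) * sylowMult Q θ
  have hF : ∀ (t : T) (θ : IrrCharacter H), F (t • θ) = F θ := by
    intro t θ
    show charDegree (((t : G) • θ : IrrCharacter H) : H → ℂ) * sylowMult Q ((t : G) • θ) = _
    rw [charDegree_irrConjAction, sylowMult_irrConjAction]
  -- valuation of U
  have hU : (∑ θ ∈ s, F θ).factorization p = e ∧ ∑ θ ∈ s, F θ ≠ 0 := by
    have h1 := factorization_sum_degree_sq hM hb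
    have h2 : ∑ ψ : IrrCharacter H, (if ψ ∈ b then charDegree (ψ : H → ℂ) ^ 2 else 0) =
        p ^ a * ∑ θ ∈ s, F θ := by
      obtain ⟨χ₁, rfl⟩ := hb
      rw [sum_degree_sq_eq hM Q χ₁, hs, Finset.sum_filter]
    rw [h2] at h1
    have h3 : ∑ θ ∈ s, F θ ≠ 0 := by
      intro h0
      rw [h0, mul_zero] at h2
      have hne : b.Nonempty := by
        obtain ⟨χ₁, rfl⟩ := hb
        exact ⟨χ₁, mem_blockOf_self χ₁⟩
      obtain ⟨θ, hθ⟩ := hne
      have h4 := Finset.sum_eq_zero_iff.mp h2 θ (Finset.mem_univ _)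
      rw [if_pos hθ] at h4
      exact (irr_charDegree_pos θ).ne' ((pow_eq_zero_iff (two_ne_zero)).mp h4)
    rw [Nat.factorization_mul (pow_ne_zero _ hp.ne_zero) h3] at h1
    simp only [Finsupp.coe_add, Pi.add_apply] at h1
    rw [Nat.Prime.factorization_pow hp] at h1
    simp only [Finsupp.single_eq_same] at h1
    exact ⟨by omega, h3⟩
  by_contra hcon
  push Not at hcon
  have hdvd : p ^ (e + 1) ∣ ∑ θ ∈ s, F θ := by
    rw [Finset.sum_partition (MulAction.orbitRel T (IrrCharacter H))]
    apply Finset.dvd_sum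
    intro xbar hxbar
    obtain ⟨x, hx, rfl⟩ := Finset.mem_image.mp hxbar
    have hxb : x ∈ b := (hmem x).mp hx
    have hset : s.filter (fun y => (Quotient.mk (MulAction.orbitRel T (IrrCharacter H)) y) =
        Quotient.mk (MulAction.orbitRel T (IrrCharacter H)) x) =
        (MulAction.orbit T x).toFinset := by
      ext y
      simp only [Finset.mem_filter, Set.mem_toFinset]
      rw [Quotient.eq]
      constructor
      · rintro ⟨_, h⟩
        exact (MulAction.orbitRel_apply).mp h
      · intro h
        refine ⟨?_, (MulAction.orbitRel_apply).mpr h⟩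
        obtain ⟨t, rfl⟩ := h
        exact (hmem _).mpr (hT (t : G) t.2 x hxb)
    rw [hset]
    have hconst : ∀ y ∈ (MulAction.orbit T x).toFinset, F y = F x := by
      intro y hy
      rw [Set.mem_toFinset] at hy
      obtain ⟨t, rfl⟩ := hy
      exact hF t x
    rw [Finset.sum_const_nat hconst]
    have hcard : (MulAction.orbit T x).toFinset.card = (MulAction.stabilizer T x).index := by
      rw [MulAction.index_stabilizer, Set.ncard_eq_toFinset_card']
    rw [hcard]
    by_cases hht : (charDegree (x : H → ℂ)).factorization p = e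
    · have h1 := hcon x hxb hht
      show p ^ (e + 1) ∣ (MulAction.stabilizer T x).index * (charDegree (x : H → ℂ) * sylowMult Q x)
      rw [pow_succ, mul_comm (p ^ e) p, ← mul_assoc]
      apply Dvd.dvd.mul_right
      apply Nat.mul_dvd_mul h1
      rw [← hht]
      exact Nat.ordProj_dvd _ p
    · have h1 : e + 1 ≤ (charDegree (x : H → ℂ)).factorization p := by
        have := minVal_le (p := p) hxb
        omega
      show p ^ (e + 1) ∣ (MulAction.stabilizer T x).index * (charDegree (x : H → ℂ) * sylowMult Q x)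
      apply Dvd.dvd.mul_left
      apply Dvd.dvd.mul_right
      exact dvd_trans (pow_dvd_pow p h1) (Nat.ordProj_dvd _ p)
  have := (hp.pow_dvd_iff_le_factorization hU.2).mp hdvd
  omega

end orbit

end Cfsg.Agent.Lib.Helper23
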