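import Mathlib
import Cfsg.Agent.Lib.Helper23.HeightZeroF
import Cfsg.Agent.Lib.Helper6.Clifford

set_option autoImplicit false

namespace Cfsg.Agent.Lib.Helper23

open Cfsg Cfsg.Agent.CharLib Cfsg.Agent.Lib.Helper24 Cfsg.Agent.Lib.Helper6
open scoped ComplexConjugate

universe u

section overtheta

variable {G : Type u} [Group G] [Fintype G] {M : Ideal AlgInt} {p : ℕ} [hpp : Fact p.Prime]

omit [Fintype G] in
theorem dvd_index_of_not_le [Finite G] (P : Sylow p G) (N : Subgroup G) [N.Normal]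
    (hPN : ¬ (P : Subgroup G) ≤ N) : p ∣ N.index := by
  have hp : p.Prime := hpp.out
  by_contra hnd
  apply hPN
  rw [← Subgroup.relIndex_eq_one]
  have h1 : N.relIndex (P : Subgroup G) ∣ N.index := Subgroup.relIndex_dvd_index_of_normal N _
  obtain ⟨k, hk⟩ := IsPGroup.index P.2 (N.subgroupOf (P : Subgroup G))
  have h2 : N.relIndex (P : Subgroup G) = p ^ k := hk
  rw [h2] at h1 ⊢
  rcases Nat.eq_zero_or_pos k with rfl | hk0
  · simp
  · exfalso
    exact hnd (dvd_trans (dvd_pow_self p hk0.ne') h1)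

/-- The multiplicities of `θ` in the restrictions, weighted by degrees over a block, sum to a
multiple of `p` when `p` divides the index of the normal subgroup. -/
theorem dvd_sum_mult_mul_degree [Fintype (IrrCharacter G)] (hM : IsPModular p M) (N : Subgroup G)
    [N.Normal] [Fintype N] (hpN : p ∣ N.index) {B : Set (IrrCharacter G)} (hB : IsPBlock M B)
    [DecidablePred (· ∈ B)]
    (θ : IrrCharacter N) (e : IrrCharacter G → ℕ)
    (he : ∀ χ : IrrCharacter G, classInner (resFun N (χ : G → ℂ)) (θ : N → ℂ) = (e χ : ℂ)) :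
    p ∣ ∑ χ : IrrCharacter G, if χ ∈ B then e χ * charDegree (χ : G → ℂ) else 0 := by
  have hprime : M.IsPrime := isPrime_of_isPModular hM
  have hp : p.Prime := hpp.out
  obtain ⟨n, hn⟩ := exists_nat_blockPart_indFun_one N B θ
  obtain ⟨hd, hd1⟩ := charDegree_indFun N θ
  set d := N.index * charDegree (θ : N → ℂ) with hd_def
  have hd0 : d ≠ 0 := Nat.mul_ne_zero Subgroup.index_ne_zero_of_finite (irr_charDegree_pos θ).ne'
  have hdC : (d : ℂ) ≠ 0 := Nat.cast_ne_zero.mpr hd0
  have h1 := blockPart_indFun_one N B θ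
  rw [hn, hd1] at h1
  have hω : MemLocalRing M (omegaFun (θ : N → ℂ) (resFun N (blockCoeff B))) := by
    apply memLocalRing_omegaFun θ
    · intro g h
      show blockCoeff B ((h * g * h⁻¹ : N) : G) = blockCoeff B (g : G)
      rw [Subgroup.coe_mul, Subgroup.coe_mul, Subgroup.coe_inv]
      exact blockCoeff_isClassFunction B _ _
    · intro x
      obtain ⟨χ₁, rfl⟩ := hB
      exact memLocalRing_blockCoeff_blockOf χ₁ _
  have h2 : MemLocalRing M (((n : ℤ) : ℂ) / (d : ℂ)) := by
    have : ((n : ℤ) : ℂ) / (d : ℂ) = omegaFun (θ : N → ℂ) (resFun N (blockCoeff B)) := by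
      push_cast
      rw [h1]; field_simp
    rw [this]; exact hω
  rw [memLocalRing_intCast_div_natCast_iff hM hd0] at h2
  have h3 : p ^ (d.factorization p) ∣ n := by exact_mod_cast h2
  have h4 : 1 ≤ d.factorization p := by
    have : p ∣ d := Dvd.dvd.mul_right hpN _
    exact (hp.dvd_iff_one_le_factorization hd0).mp this
  have h5 : p ∣ n := dvd_trans (dvd_pow_self p (by omega)) h3
  -- identify n
  have h6 : n = ∑ χ : IrrCharacter G, if χ ∈ B then e χ * charDegree (χ : G → ℂ) else 0 := by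
    have : (n : ℂ) = ((∑ χ : IrrCharacter G,
        if χ ∈ B then e χ * charDegree (χ : G → ℂ) else 0 : ℕ) : ℂ) := by
      rw [← hn, blockPart_apply, finsum_mem_eq_sum_ite]
      push_cast
      apply Finset.sum_congr rfl
      intro χ _
      by_cases hχ : χ ∈ B
      · rw [if_pos hχ, if_pos hχ, frobenius_reciprocity N _
          (IsCharacter.isClassFunction (IsIrrCharacter.isCharacter χ.2)), irr_apply_one]
        congr 1
        have := classInner_conj_symm (resFun N (χ : G → ℂ)) (θ : N → ℂ)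
        rw [he χ, Complex.conj_natCast] at this
        exact this.symm
      · rw [if_neg hχ, if_neg hχ]
    exact_mod_cast this
  rw [← h6]; exact h5

end overtheta

section overtheta2

variable {G : Type u} [Group G] [Fintype G] {M : Ideal AlgInt} {p : ℕ} [hpp : Fact p.Prime]

/-- **S4825**. -/
theorem count_pprime_over_theta (hM : IsPModular p M) (P : Sylow p G) (N : Subgroup G)
    [N.Normal] [Fintype N] (hPN : ¬ (P : Subgroup G) ≤ N) {B : Set (IrrCharacter G)}
    (hB : IsPBlock M B) (θ : IrrCharacter N) :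
    (Nat.card {χ : IrrCharacter G // χ ∈ B ∧ ¬ p ∣ charDegree (χ : G → ℂ) ∧
        classInner (fun n : N => (χ : G → ℂ) n) (θ : N → ℂ) ≠ 0} = 0 ∨
      2 ≤ Nat.card {χ : IrrCharacter G // χ ∈ B ∧ ¬ p ∣ charDegree (χ : G → ℂ) ∧
        classInner (fun n : N => (χ : G → ℂ) n) (θ : N → ℂ) ≠ 0}) ∧
    (p ≤ 3 → p ∣ Nat.card {χ : IrrCharacter G // χ ∈ B ∧ ¬ p ∣ charDegree (χ : G → ℂ) ∧
        classInner (fun n : N => (χ : G → ℂ) n) (θ : N → ℂ) ≠ 0}) := by
  classical
  let _ := fintypeIrr G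
  have hp : p.Prime := hpp.out
  have hpN : p ∣ N.index := dvd_index_of_not_le P N hPN
  have hex : ∀ χ : IrrCharacter G, ∃ e : ℕ,
      classInner (resFun N (χ : G → ℂ)) (θ : N → ℂ) = (e : ℂ) := fun χ =>
    IsCharacter.classInner_nat (isCharacter_resFun N (IsIrrCharacter.isCharacter χ.2))
      (IsIrrCharacter.isCharacter θ.2)
  choose e he using hex
  set X : Finset (IrrCharacter G) := Finset.univ.filter (fun χ => χ ∈ B ∧
    ¬ p ∣ charDegree (χ : G → ℂ) ∧ classInner (fun n : N => (χ : G → ℂ) n) (θ : N → ℂ) ≠ 0)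
    with hX
  have hk : Nat.card {χ : IrrCharacter G // χ ∈ B ∧ ¬ p ∣ charDegree (χ : G → ℂ) ∧
        classInner (fun n : N => (χ : G → ℂ) n) (θ : N → ℂ) ≠ 0} = X.card := by
    rw [Nat.card_eq_fintype_card, Fintype.card_subtype]
  rw [hk]
  have hXmem : ∀ χ, χ ∈ X ↔ χ ∈ B ∧ ¬ p ∣ charDegree (χ : G → ℂ) ∧ e χ ≠ 0 := by
    intro χ
    rw [hX, Finset.mem_filter]
    simp only [Finset.mem_univ, true_and]
    have : classInner (fun n : N => (χ : G → ℂ) n) (θ : N → ℂ) ≠ 0 ↔ e χ ≠ 0 := by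
      have h1 : classInner (fun n : N => (χ : G → ℂ) n) (θ : N → ℂ) = (e χ : ℂ) := he χ
      rw [h1]
      exact_mod_cast Iff.rfl
    rw [this]
  set c : ℕ := (conjOrbit N (θ : N → ℂ)).card * charDegree (θ : N → ℂ) with hc
  have hdeg : ∀ χ ∈ X, charDegree (χ : G → ℂ) = e χ * c := by
    intro χ hχ
    obtain ⟨-, -, he0⟩ := (hXmem χ).mp hχ
    have h1 : classInner (resFun N (χ : G → ℂ)) (θ : N → ℂ) ≠ 0 := by
      rw [he χ]; exact_mod_cast he0
    have h2 := clifford_degree N χ.2 θ.2 h1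
    rw [he χ, irr_apply_one χ, irr_apply_one θ] at h2
    have h3 : (charDegree (χ : G → ℂ) : ℂ) = ((e χ * c : ℕ) : ℂ) := by
      rw [h2, hc]; push_cast; ring
    exact_mod_cast h3
  -- the divisibility
  have hA : p ∣ ∑ χ ∈ X, e χ * charDegree (χ : G → ℂ) := by
    have h1 := dvd_sum_mult_mul_degree hM N hpN hB θ e he
    rw [← Finset.sum_add_sum_compl X] at h1
    have h2 : p ∣ ∑ χ ∈ Xᶜ, (if χ ∈ B then e χ * charDegree (χ : G → ℂ) else 0) := by
      apply Finset.dvd_sum
      intro χ hχ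
      rw [Finset.mem_compl, hXmem] at hχ
      by_cases hχB : χ ∈ B
      · rw [if_pos hχB]
        by_cases hpd : p ∣ charDegree (χ : G → ℂ)
        · exact Dvd.dvd.mul_left hpd _
        · have : e χ = 0 := by
            by_contra h0
            exact hχ ⟨hχB, hpd, h0⟩
          rw [this, zero_mul]; exact dvd_zero _
      · rw [if_neg hχB]; exact dvd_zero _
    have h3 : ∑ χ ∈ X, (if χ ∈ B then e χ * charDegree (χ : G → ℂ) else 0) =
        ∑ χ ∈ X, e χ * charDegree (χ : G → ℂ) := by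
      apply Finset.sum_congr rfl
      intro χ hχ
      rw [if_pos ((hXmem χ).mp hχ).1]
    rw [h3] at h1
    exact (Nat.dvd_add_left h2).mp h1
  have hA' : p ∣ c * ∑ χ ∈ X, e χ ^ 2 := by
    have : ∑ χ ∈ X, e χ * charDegree (χ : G → ℂ) = c * ∑ χ ∈ X, e χ ^ 2 := by
      rw [Finset.mul_sum]
      apply Finset.sum_congr rfl
      intro χ hχ
      rw [hdeg χ hχ]; ring
    rwa [this] at hA
  by_cases hXe : X = ∅
  · rw [hXe, Finset.card_empty]
    exact ⟨Or.inl rfl, fun _ => dvd_zero p⟩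
  obtain ⟨χ₀, hχ₀⟩ := Finset.nonempty_iff_ne_empty.mpr hXe
  have hpc : ¬ p ∣ c := by
    intro h
    have := ((hXmem χ₀).mp hχ₀).2.1
    rw [hdeg χ₀ hχ₀] at this
    exact this (Dvd.dvd.mul_left h _)
  have hpe : ∀ χ ∈ X, ¬ p ∣ e χ := by
    intro χ hχ h
    have := ((hXmem χ).mp hχ).2.1
    rw [hdeg χ hχ] at this
    exact this (Dvd.dvd.mul_right h _)
  have hS : p ∣ ∑ χ ∈ X, e χ ^ 2 := by
    rcases (Nat.Prime.dvd_mul hp).mp hA' with h | h
    · exact absurd h hpc
    · exact h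
  constructor
  · by_cases h1 : X.card = 1
    · exfalso
      obtain ⟨χ₁, hχ₁⟩ := Finset.card_eq_one.mp h1
      rw [hχ₁, Finset.sum_singleton] at hS
      have := hp.dvd_of_dvd_pow hS
      exact hpe χ₁ (by rw [hχ₁]; exact Finset.mem_singleton_self _) this
    · have : X.card ≠ 0 := by
        rw [Finset.card_ne_zero]; exact ⟨χ₀, hχ₀⟩
      right; omega
  · intro hp3
    have hp23 : p = 2 ∨ p = 3 := by
      have := hp.two_le
      interval_cases p
      · left; rfl
      · right; rfl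
    have hmod : ∀ χ ∈ X, e χ ^ 2 % p = 1 := by
      intro χ hχ
      have h1 := hpe χ hχ
      rcases hp23 with rfl | rfl
      · have : e χ % 2 = 1 := by omega
        rw [Nat.pow_mod, this]
      · have : e χ % 3 = 1 ∨ e χ % 3 = 2 := by omega
        rcases this with h | h <;> rw [Nat.pow_mod, h]
    have h2 : (∑ χ ∈ X, e χ ^ 2) % p = X.card % p := by
      rw [Finset.sum_nat_mod, Finset.sum_congr rfl hmod, Finset.sum_const, smul_eq_mul, mul_one]
    have h3 : (∑ χ ∈ X, e χ ^ 2) % p = 0 := Nat.mod_eq_zero_of_dvd hS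
    rw [h3] at h2
    exact Nat.dvd_of_mod_eq_zero h2.symm

end overtheta2

end Cfsg.Agent.Lib.Helper23
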