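import Mathlib
import Cfsg.Agent.Lib.Helper23.HeightZeroC
import Cfsg.Agent.Lib.Helper6.Knoerr

set_option autoImplicit false

namespace Cfsg.Agent.Lib.Helper23

open Cfsg Cfsg.Agent.CharLib Cfsg.Agent.Lib.Helper24 Cfsg.Agent.Lib.Helper6
open scoped ComplexConjugate

universe u

section selfpair

variable {G : Type u} [Group G] [Fintype G] {M : Ideal AlgInt} {p : ℕ} [hpp : Fact p.Prime]

open Classical in
/-- `[χ̃, χ] |G| = p^a ∑_{x p-regular} |χ(x)|²`. -/
theorem tildeInt_self_mul_card (χ : IrrCharacter G) :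
    ((tildeInt p χ χ : ℤ) : ℝ) * (Nat.card G : ℝ) =
      ((p ^ (Nat.card G).factorization p : ℕ) : ℝ) *
        ∑ x : G, (if p ∣ orderOf x then (0 : ℝ) else Complex.normSq ((χ : G → ℂ) x)) := by
  have hG0 : (Nat.card G : ℂ) ≠ 0 := Nat.cast_ne_zero.mpr Nat.card_pos.ne'
  have h1 : ((tildeInt p χ χ : ℤ) : ℂ) * (Nat.card G : ℂ) =
      ((p ^ (Nat.card G).factorization p : ℕ) : ℂ) *
        ((∑ x : G, (if p ∣ orderOf x then (0 : ℝ) else Complex.normSq ((χ : G → ℂ) x)) : ℝ) : ℂ) := by
    rw [← tildeInt_spec]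
    unfold classInner
    rw [mul_comm, ← mul_assoc, mul_inv_cancel₀ hG0, one_mul]
    push_cast
    rw [Finset.mul_sum]
    apply Finset.sum_congr rfl
    intro x _
    unfold tildeFun
    by_cases hx : p ∣ orderOf x
    · rw [if_pos hx, if_pos hx]; simp
    · rw [if_neg hx, if_neg hx, mul_assoc, Complex.mul_conj]
      push_cast
      rfl
  exact_mod_cast h1

open Classical in
theorem sum_normSq_eq_card (χ : IrrCharacter G) :
    ∑ x : G, Complex.normSq ((χ : G → ℂ) x) = (Nat.card G : ℝ) := by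
  have h := sum_irr_mul_conj_irr χ χ
  rw [if_pos rfl] at h
  have h1 : ((∑ x : G, Complex.normSq ((χ : G → ℂ) x) : ℝ) : ℂ) = ((Nat.card G : ℝ) : ℂ) := by
    push_cast
    rw [← h]
    apply Finset.sum_congr rfl
    intro x _
    rw [Complex.mul_conj]
  exact_mod_cast h1

/-- `0 < [χ̃, χ] ≤ p^a`, and equality forces `χ` to vanish on `p`-singular elements. -/
theorem tildeInt_self_bounds (χ : IrrCharacter G) :
    0 < tildeInt p χ χ ∧ tildeInt p χ χ ≤ ((p ^ (Nat.card G).factorization p : ℕ) : ℤ) ∧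
      (tildeInt p χ χ = ((p ^ (Nat.card G).factorization p : ℕ) : ℤ) →
        ∀ x : G, p ∣ orderOf x → (χ : G → ℂ) x = 0) := by
  classical
  have hp : p.Prime := hpp.out
  have h1 := tildeInt_self_mul_card (p := p) χ
  have h2 := sum_normSq_eq_card χ
  set a := (Nat.card G).factorization p
  set Sreg : ℝ := ∑ x : G, (if p ∣ orderOf x then (0 : ℝ) else Complex.normSq ((χ : G → ℂ) x))
    with hSreg
  set Ssing : ℝ := ∑ x : G, (if p ∣ orderOf x then Complex.normSq ((χ : G → ℂ) x) else (0 : ℝ))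
    with hSsing
  have hsum : Sreg + Ssing = (Nat.card G : ℝ) := by
    rw [← h2, hSreg, hSsing, ← Finset.sum_add_distrib]
    apply Finset.sum_congr rfl
    intro x _
    by_cases hx : p ∣ orderOf x
    · rw [if_pos hx, if_pos hx, zero_add]
    · rw [if_neg hx, if_neg hx, add_zero]
  have hsing_nn : 0 ≤ Ssing := by
    apply Finset.sum_nonneg
    intro x _
    split_ifs
    · exact Complex.normSq_nonneg _
    · exact le_refl _
  have hreg_pos : 0 < Sreg := by
    have h3 : Complex.normSq ((χ : G → ℂ) 1) ≤ Sreg := by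
      have h4 : ¬ p ∣ orderOf (1 : G) := by
        rw [orderOf_one]; exact hp.one_lt.ne' ∘ Nat.dvd_one.mp
      have h5 : (if p ∣ orderOf (1 : G) then (0 : ℝ) else Complex.normSq ((χ : G → ℂ) 1)) =
          Complex.normSq ((χ : G → ℂ) 1) := if_neg h4
      rw [← h5, hSreg]
      apply Finset.single_le_sum (f := fun x : G =>
        (if p ∣ orderOf x then (0 : ℝ) else Complex.normSq ((χ : G → ℂ) x)))
      · intro x _
        show 0 ≤ (if p ∣ orderOf x then (0 : ℝ) else Complex.normSq ((χ : G → ℂ) x))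
        split_ifs
        · exact le_refl _
        · exact Complex.normSq_nonneg _
      · exact Finset.mem_univ _
    have h6 : 0 < Complex.normSq ((χ : G → ℂ) 1) :=
      Complex.normSq_pos.mpr (irr_apply_one_ne_zero χ)
    linarith
  have hGpos : (0 : ℝ) < (Nat.card G : ℝ) := by exact_mod_cast Nat.card_pos
  have hpa_pos : (0 : ℝ) < ((p ^ a : ℕ) : ℝ) := by exact_mod_cast pow_pos hp.pos a
  refine ⟨?_, ?_, ?_⟩
  · have h3 : (0 : ℝ) < ((tildeInt p χ χ : ℤ) : ℝ) * (Nat.card G : ℝ) := by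
      rw [h1]; exact mul_pos hpa_pos hreg_pos
    have h4 : (0 : ℝ) < ((tildeInt p χ χ : ℤ) : ℝ) := by
      by_contra hle
      push Not at hle
      have := mul_nonpos_of_nonpos_of_nonneg hle hGpos.le
      linarith
    exact_mod_cast h4
  · have h3 : ((tildeInt p χ χ : ℤ) : ℝ) * (Nat.card G : ℝ) ≤
        ((p ^ a : ℕ) : ℝ) * (Nat.card G : ℝ) := by
      rw [h1]
      apply mul_le_mul_of_nonneg_left _ hpa_pos.le
      linarith
    have h4 := le_of_mul_le_mul_right h3 hGpos
    exact_mod_cast h4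
  · intro heq x hx
    have h3 : ((p ^ a : ℕ) : ℝ) * (Nat.card G : ℝ) = ((p ^ a : ℕ) : ℝ) * Sreg := by
      rw [← h1, heq]; push_cast; ring
    have h4 : (Nat.card G : ℝ) = Sreg := mul_left_cancel₀ hpa_pos.ne' h3
    have h5 : Ssing = 0 := by linarith
    have h6 := (Finset.sum_eq_zero_iff_of_nonneg (fun y _ => by
      show 0 ≤ (if p ∣ orderOf y then Complex.normSq ((χ : G → ℂ) y) else (0 : ℝ))
      split_ifs
      · exact Complex.normSq_nonneg _
      · exact le_refl _)).mp h5 x (Finset.mem_univ _)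
    rw [if_pos hx] at h6
    exact Complex.normSq_eq_zero.mp h6

/-- **S4499**: a character whose degree is divisible by `p^(a-1)` has height zero, so the whole
block has degrees divisible by `p^(a-1)`. -/
theorem dvd_degree_of_near_full (hM : IsPModular p M) (hpa : p ∣ Nat.card G)
    {B : Set (IrrCharacter G)} (hB : IsPBlock M B) {χ ψ : IrrCharacter G} (hχ : χ ∈ B)
    (hdiv : p ^ ((Nat.card G).factorization p - 1) ∣ charDegree (χ : G → ℂ)) (hψ : ψ ∈ B) :
    p ^ ((Nat.card G).factorization p - 1) ∣ charDegree (ψ : G → ℂ) := by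
  have hp : p.Prime := hpp.out
  set a := (Nat.card G).factorization p with ha
  have ha1 : 1 ≤ a := (hp.dvd_iff_one_le_factorization Nat.card_pos.ne').mp hpa
  set k := (charDegree (χ : G → ℂ)).factorization p with hk
  have hka : a - 1 ≤ k := (hp.pow_dvd_iff_le_factorization (irr_charDegree_pos χ).ne').mp hdiv
  obtain ⟨hpos, hle, heq⟩ := tildeInt_self_bounds (p := p) χ
  -- χ has height zero
  have hmin : k = minVal p B := by
    rw [hk, minimal_iff_not_dvd hM hB hχ hχ]
    intro hdvd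
    have h1 : (p : ℤ) ^ (k + 1) ≤ tildeInt p χ χ := Int.le_of_dvd hpos hdvd
    have h2 : (p : ℤ) ^ (k + 1) ≤ (p : ℤ) ^ a := by
      refine le_trans h1 ?_
      rw [← ha] at hle
      exact_mod_cast hle
    have h3 : k + 1 ≤ a := by
      have h4 : p ^ (k + 1) ≤ p ^ a := by exact_mod_cast h2
      exact (Nat.pow_le_pow_iff_right hp.one_lt).mp h4
    have hka' : k + 1 = a := by omega
    have h5 : tildeInt p χ χ = ((p ^ a : ℕ) : ℤ) := by
      apply le_antisymm hle
      have h8 : ((p ^ a : ℕ) : ℤ) = (p : ℤ) ^ (k + 1) := by rw [hka']; push_cast; rfl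
      rw [h8]
      exact h1
    have h6 := heq h5
    have h7 := factorization_charDegree_eq_of_vanishing p χ (fun g hg => h6 g (by rw [hg]))
    rw [← hk, ← ha] at h7
    omega
  have h1 := minVal_le (p := p) hψ
  rw [← hmin] at h1
  exact dvd_trans (pow_dvd_pow p (le_trans hka h1)) (Nat.ordProj_dvd _ p)

end selfpair

end Cfsg.Agent.Lib.Helper23
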