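import Mathlib
import Cfsg.Agent.Lib.Helper23.HeightZeroK

set_option autoImplicit false

namespace Cfsg.Agent.Lib.Helper23

open Cfsg Cfsg.Agent.CharLib Cfsg.Agent.Lib.Helper24 Cfsg.Agent.Lib.Helper6
open scoped ComplexConjugate

universe u

section idem

variable {G : Type u} [Group G] [Fintype G] {M : Ideal AlgInt} {p : ℕ} [hpp : Fact p.Prime]

omit hpp in
theorem tildeFun_tildeFun (f : G → ℂ) :
    tildeFun p (tildeFun p f) =
      ((p ^ (Nat.card G).factorization p : ℕ) : ℂ) • tildeFun p f := by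
  funext x
  show tildeFun p (tildeFun p f) x = ((p ^ (Nat.card G).factorization p : ℕ) : ℂ) * tildeFun p f x
  unfold tildeFun
  by_cases hx : p ∣ orderOf x
  · simp [hx]
  · simp [hx]

omit hpp in
theorem tildeFun_sum {ι : Type*} (s : Finset ι) (c : ι → ℂ) (f : ι → G → ℂ) :
    tildeFun p (∑ i ∈ s, c i • f i) = ∑ i ∈ s, c i • tildeFun p (f i) := by
  funext x
  unfold tildeFun
  by_cases hx : p ∣ orderOf x
  · simp [hx]
  · simp only [hx, if_false, Finset.sum_apply, Pi.smul_apply, smul_eq_mul]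
    rw [Finset.mul_sum]
    apply Finset.sum_congr rfl
    intro i _
    ring

omit hpp in
theorem classInner_sum_smul_left {ι : Type*} (s : Finset ι) (c : ι → ℂ) (f : ι → G → ℂ)
    (g : G → ℂ) : classInner (∑ i ∈ s, c i • f i) g = ∑ i ∈ s, c i * classInner (f i) g := by
  rw [classInner_sum_left]
  apply Finset.sum_congr rfl
  intro i _
  rw [classInner_smul_left]

/-- `N² = p^a N`. -/
theorem sum_tildeInt_mul_tildeInt [Fintype (IrrCharacter G)] (χ ξ : IrrCharacter G) :
    ∑ ψ : IrrCharacter G, tildeInt p χ ψ * tildeInt p ψ ξ =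
      ((p ^ (Nat.card G).factorization p : ℕ) : ℤ) * tildeInt p χ ξ := by
  have h1 : classInner (tildeFun p (tildeFun p (χ : G → ℂ))) (ξ : G → ℂ) =
      ((p ^ (Nat.card G).factorization p : ℕ) : ℂ) * (tildeInt p χ ξ : ℂ) := by
    rw [tildeFun_tildeFun, classInner_smul_left, tildeInt_spec]
  have h2 : classInner (tildeFun p (tildeFun p (χ : G → ℂ))) (ξ : G → ℂ) =
      ∑ ψ : IrrCharacter G, (tildeInt p χ ψ : ℂ) * (tildeInt p ψ ξ : ℂ) := by
    conv_lhs => rw [tildeFun_eq_sum (p := p) χ]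
    rw [tildeFun_sum, classInner_sum_smul_left]
    apply Finset.sum_congr rfl
    intro ψ _
    rw [tildeInt_spec]
  rw [h1] at h2
  have h3 : ((∑ ψ : IrrCharacter G, tildeInt p χ ψ * tildeInt p ψ ξ : ℤ) : ℂ) =
      ((((p ^ (Nat.card G).factorization p : ℕ) : ℤ) * tildeInt p χ ξ : ℤ) : ℂ) := by
    push_cast
    rw [← h2]
    push_cast
    ring
  exact_mod_cast h3

end idem

end Cfsg.Agent.Lib.Helper23
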