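import Mathlib
import Cfsg.Agent.Lib.Helper23.HeightZeroL

set_option autoImplicit false

namespace Cfsg.Agent.Lib.Helper23

open Cfsg Cfsg.Agent.CharLib Cfsg.Agent.Lib.Helper24 Cfsg.Agent.Lib.Helper6
open scoped ComplexConjugate

universe u

section bf

variable {G : Type u} [Group G] [Fintype G] {M : Ideal AlgInt} {p : ℕ} [hpp : Fact p.Prime]

open Classical in
/-- The Brauer–Feit row: for `χ₁ ∈ B` with `ν(χ₁(1)) = k₁`, the integers `m_ψ = [χ̃₁,ψ]/p^k₁`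
satisfy `∑_{ψ∈B} m_ψ² = p^(a-k₁) m_χ₁` and `0 < m_χ₁ ≤ p^(a-k₁)`. -/
theorem brauer_feit_row [Fintype (IrrCharacter G)] (hM : IsPModular p M)
    {B : Set (IrrCharacter G)} (hB : IsPBlock M B) {χ₁ : IrrCharacter G} (hχ₁ : χ₁ ∈ B) :
    ∃ m : IrrCharacter G → ℤ,
      (∀ ψ, tildeInt p χ₁ ψ =
        (p : ℤ) ^ ((charDegree (χ₁ : G → ℂ)).factorization p) * m ψ) ∧
      ∑ ψ ∈ Finset.univ.filter (· ∈ B), m ψ ^ 2 =
        (p : ℤ) ^ ((Nat.card G).factorization p - (charDegree (χ₁ : G → ℂ)).factorization p) *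
          m χ₁ ∧
      0 < m χ₁ ∧
      m χ₁ ≤ (p : ℤ) ^ ((Nat.card G).factorization p -
        (charDegree (χ₁ : G → ℂ)).factorization p) := by
  have hp : p.Prime := hpp.out
  set a := (Nat.card G).factorization p with ha
  set k₁ := (charDegree (χ₁ : G → ℂ)).factorization p with hk₁
  have hk₁a : k₁ ≤ a :=
    (Nat.factorization_le_iff_dvd (irr_charDegree_pos χ₁).ne' Nat.card_pos.ne').mpr
      (irr_charDegree_dvd_card χ₁) p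
  have hdvd : ∀ ψ, (p : ℤ) ^ k₁ ∣ tildeInt p χ₁ ψ := by
    intro ψ
    rw [tildeInt_symm]
    exact pow_dvd_tildeInt hM ψ χ₁
  let m : IrrCharacter G → ℤ := fun ψ => tildeInt p χ₁ ψ / (p : ℤ) ^ k₁
  have hm : ∀ ψ, tildeInt p χ₁ ψ = (p : ℤ) ^ k₁ * m ψ :=
    fun ψ => (Int.mul_ediv_cancel' (hdvd ψ)).symm
  have hpk0 : (p : ℤ) ^ k₁ ≠ 0 := pow_ne_zero _ (by exact_mod_cast hp.ne_zero)
  have hpkpos : (0 : ℤ) < (p : ℤ) ^ k₁ := pow_pos (by exact_mod_cast hp.pos) _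
  obtain ⟨hpos, hle, -⟩ := tildeInt_self_bounds (p := p) χ₁
  refine ⟨m, hm, ?_, ?_, ?_⟩
  · have h1 := sum_tildeInt_mul_tildeInt (p := p) χ₁ χ₁
    have h2 : ∑ ψ : IrrCharacter G, tildeInt p χ₁ ψ * tildeInt p ψ χ₁ =
        ((p : ℤ) ^ k₁) ^ 2 * ∑ ψ ∈ Finset.univ.filter (· ∈ B), m ψ ^ 2 := by
      rw [Finset.sum_filter, Finset.mul_sum]
      apply Finset.sum_congr rfl
      intro ψ _
      by_cases hψ : ψ ∈ B
      · rw [if_pos hψ, tildeInt_symm (p := p) ψ χ₁, hm ψ]; ring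
      · rw [if_neg hψ, tildeInt_eq_zero hM hB hχ₁ hψ]; ring
    rw [h2, hm χ₁] at h1
    have h3 : ((p ^ a : ℕ) : ℤ) = (p : ℤ) ^ k₁ * (p : ℤ) ^ (a - k₁) := by
      rw [← pow_add, Nat.add_sub_cancel' hk₁a]; push_cast; rfl
    rw [h3] at h1
    have h4 : ((p : ℤ) ^ k₁) ^ 2 * ∑ ψ ∈ Finset.univ.filter (· ∈ B), m ψ ^ 2 =
        ((p : ℤ) ^ k₁) ^ 2 * ((p : ℤ) ^ (a - k₁) * m χ₁) := by
      rw [h1]; ring
    exact mul_left_cancel₀ (pow_ne_zero 2 hpk0) h4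
  · rw [hm χ₁] at hpos
    exact (pos_iff_pos_of_mul_pos hpos).mp hpkpos
  · rw [hm χ₁] at hle
    have h3 : ((p ^ a : ℕ) : ℤ) = (p : ℤ) ^ k₁ * (p : ℤ) ^ (a - k₁) := by
      rw [← pow_add, Nat.add_sub_cancel' hk₁a]; push_cast; rfl
    rw [h3] at hle
    exact le_of_mul_le_mul_left hle hpkpos

end bf

end Cfsg.Agent.Lib.Helper23
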