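import Mathlib
import Cfsg.Agent.Lib.Helper23.HeightZeroM

set_option autoImplicit false

namespace Cfsg.Agent.Lib.Helper23

open Cfsg Cfsg.Agent.CharLib Cfsg.Agent.Lib.Helper24 Cfsg.Agent.Lib.Helper6
open scoped ComplexConjugate

universe u

section bf2

variable {G : Type u} [Group G] [Fintype G] {M : Ideal AlgInt} {p : ℕ} [hpp : Fact p.Prime]

theorem quarter_sq (P m : ℤ) : 4 * (P * m - m ^ 2) ≤ P ^ 2 := by
  nlinarith [sq_nonneg (P - 2 * m)]

open Classical in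
/-- Brauer–Feit: `∑_{ψ ∈ B} p^{2 h(ψ)} ≤ 1 + p^{2d}/4` in the form `4 (∑ - 1) ≤ p^{2d}`. -/
theorem brauer_feit_heights [Fintype (IrrCharacter G)] (hM : IsPModular p M)
    {B : Set (IrrCharacter G)} (hB : IsPBlock M B) :
    1 ≤ ∑ ψ ∈ Finset.univ.filter (· ∈ B),
        p ^ (2 * ((charDegree (ψ : G → ℂ)).factorization p - minVal p B)) ∧
    4 * (∑ ψ ∈ Finset.univ.filter (· ∈ B),
        p ^ (2 * ((charDegree (ψ : G → ℂ)).factorization p - minVal p B)) - 1) ≤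
      p ^ (2 * ((Nat.card G).factorization p - minVal p B)) := by
  have hprime : M.IsPrime := isPrime_of_isPModular hM
  have hp : p.Prime := hpp.out
  have hne : B.Nonempty := by
    obtain ⟨χ₁, rfl⟩ := hB
    exact ⟨χ₁, mem_blockOf_self χ₁⟩
  obtain ⟨χ₀, hχ₀, hmin⟩ := exists_minVal (p := p) hne
  set e := minVal p B with he
  set a := (Nat.card G).factorization p with ha
  set s : Finset (IrrCharacter G) := Finset.univ.filter (· ∈ B) with hs
  have hmem : ∀ ψ, ψ ∈ s ↔ ψ ∈ B := fun ψ => by rw [hs]; simp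
  obtain ⟨m, hm, hsum, hm0pos, hm0le⟩ := brauer_feit_row hM hB hχ₀
  rw [hmin] at hm hsum hm0le
  have hχ₀s : χ₀ ∈ s := (hmem χ₀).mpr hχ₀
  have hppos : (0 : ℤ) < (p : ℤ) := by exact_mod_cast hp.pos
  have hpe0 : (p : ℤ) ^ e ≠ 0 := pow_ne_zero _ hppos.ne'
  -- lower bounds
  have hlow : ∀ ψ ∈ s, ((p ^ (2 * ((charDegree (ψ : G → ℂ)).factorization p - e)) : ℕ) : ℤ) ≤
      m ψ ^ 2 := by
    intro ψ hψ
    rw [hmem] at hψ
    set h := (charDegree (ψ : G → ℂ)).factorization p - e with hh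
    have hle := minVal_le (p := p) hψ
    have h1 : (p : ℤ) ^ (e + h) ∣ tildeInt p χ₀ ψ := by
      have := pow_dvd_tildeInt hM χ₀ ψ
      rwa [show e + h = (charDegree (ψ : G → ℂ)).factorization p by omega]
    rw [hm ψ, pow_add] at h1
    have h2 : (p : ℤ) ^ h ∣ m ψ := (mul_dvd_mul_iff_left hpe0).mp h1
    have h3 : m ψ ≠ 0 := by
      intro h0
      have := (minimal_iff_not_dvd hM hB hχ₀ hψ).mp hmin
      apply this
      rw [hm ψ, h0, mul_zero]
      exact dvd_zero _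
    obtain ⟨t, ht⟩ := h2
    have ht0 : t ≠ 0 := by
      rintro rfl
      rw [mul_zero] at ht
      exact h3 ht
    have ht1 : 1 ≤ t ^ 2 := by
      have : 0 < t ^ 2 := by positivity
      omega
    rw [ht]
    push_cast
    have e1 : (p : ℤ) ^ (2 * h) = ((p : ℤ) ^ h) ^ 2 := by rw [← pow_mul, mul_comm]
    rw [e1, mul_pow]
    nlinarith [sq_nonneg ((p : ℤ) ^ h), ht1]
  have hsplit : ∑ ψ ∈ s, m ψ ^ 2 = m χ₀ ^ 2 + ∑ ψ ∈ s.erase χ₀, m ψ ^ 2 :=
    (Finset.add_sum_erase s (fun ψ => m ψ ^ 2) hχ₀s).symm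
  have hsplit' : ∑ ψ ∈ s, p ^ (2 * ((charDegree (ψ : G → ℂ)).factorization p - e)) =
      1 + ∑ ψ ∈ s.erase χ₀, p ^ (2 * ((charDegree (ψ : G → ℂ)).factorization p - e)) := by
    rw [← Finset.add_sum_erase s _ hχ₀s, hmin, Nat.sub_self, mul_zero, pow_zero]
  constructor
  · rw [hsplit']; omega
  · rw [hsplit', Nat.add_sub_cancel_left]
    have h1 : ((∑ ψ ∈ s.erase χ₀, p ^ (2 * ((charDegree (ψ : G → ℂ)).factorization p - e)) : ℕ) : ℤ) ≤
        ∑ ψ ∈ s.erase χ₀, m ψ ^ 2 := by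
      push_cast
      apply Finset.sum_le_sum
      intro ψ hψ
      have := hlow ψ (Finset.mem_of_mem_erase hψ)
      push_cast at this
      exact this
    have h2 : ∑ ψ ∈ s.erase χ₀, m ψ ^ 2 = (p : ℤ) ^ (a - e) * m χ₀ - m χ₀ ^ 2 := by
      rw [← hsum, hsplit]; ring
    have h3 := quarter_sq ((p : ℤ) ^ (a - e)) (m χ₀)
    have h4 : (4 : ℤ) * ((∑ ψ ∈ s.erase χ₀,
        p ^ (2 * ((charDegree (ψ : G → ℂ)).factorization p - e)) : ℕ) : ℤ) ≤
        ((p ^ (2 * (a - e)) : ℕ) : ℤ) := by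
      have h5 : ((p ^ (2 * (a - e)) : ℕ) : ℤ) = ((p : ℤ) ^ (a - e)) ^ 2 := by
        push_cast; rw [← pow_mul, mul_comm]
      rw [h5]
      linarith
    exact_mod_cast h4

end bf2

end Cfsg.Agent.Lib.Helper23
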