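import Mathlib
import Cfsg.Agent.Lib.Helper23.HeightZeroN
import Cfsg.Agent.Lib.Helper23.HeightZeroK

set_option autoImplicit false

namespace Cfsg.Agent.Lib.Helper23

open Cfsg Cfsg.Agent.CharLib Cfsg.Agent.Lib.Helper24 Cfsg.Agent.Lib.Helper6
open scoped ComplexConjugate

universe u

section bf3

variable {G : Type u} [Group G] [Fintype G] {M : Ideal AlgInt} {p : ℕ} [hpp : Fact p.Prime]

open Classical in
/-- Row of a positive-height character: `4 k₀(B) ≤ p^{2(a - ν(χ₁(1)))}`. -/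
theorem brauer_feit_row_count [Fintype (IrrCharacter G)] (hM : IsPModular p M)
    {B : Set (IrrCharacter G)} (hB : IsPBlock M B) {χ₁ : IrrCharacter G} (hχ₁ : χ₁ ∈ B)
    (hpos : minVal p B < (charDegree (χ₁ : G → ℂ)).factorization p) :
    4 * (Finset.univ.filter (fun ψ : IrrCharacter G => ψ ∈ B ∧
        (charDegree (ψ : G → ℂ)).factorization p = minVal p B)).card ≤
      p ^ (2 * ((Nat.card G).factorization p - (charDegree (χ₁ : G → ℂ)).factorization p)) := by
  have hp : p.Prime := hpp.out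
  set e := minVal p B with he
  set a := (Nat.card G).factorization p with ha
  set k₁ := (charDegree (χ₁ : G → ℂ)).factorization p with hk₁
  set s : Finset (IrrCharacter G) := Finset.univ.filter (· ∈ B) with hs
  set s₀ : Finset (IrrCharacter G) := Finset.univ.filter (fun ψ : IrrCharacter G => ψ ∈ B ∧
        (charDegree (ψ : G → ℂ)).factorization p = e) with hs₀
  have hmem : ∀ ψ, ψ ∈ s ↔ ψ ∈ B := fun ψ => by rw [hs]; simp
  obtain ⟨m, hm, hsum, hm1pos, hm1le⟩ := brauer_feit_row hM hB hχ₁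
  have hχ₁s : χ₁ ∈ s := (hmem χ₁).mpr hχ₁
  have hppos : (0 : ℤ) < (p : ℤ) := by exact_mod_cast hp.pos
  have hpk0 : (p : ℤ) ^ k₁ ≠ 0 := pow_ne_zero _ hppos.ne'
  have hsub : s₀ ⊆ s.erase χ₁ := by
    intro ψ hψ
    rw [hs₀, Finset.mem_filter] at hψ
    rw [Finset.mem_erase, hmem]
    refine ⟨?_, hψ.2.1⟩
    rintro rfl
    omega
  have hlow : ∀ ψ ∈ s₀, (1 : ℤ) ≤ m ψ ^ 2 := by
    intro ψ hψ
    rw [hs₀, Finset.mem_filter] at hψ
    have h1 := (minimal_iff_not_dvd hM hB hψ.2.1 hχ₁).mp hψ.2.2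
    have h3 : m ψ ≠ 0 := by
      intro h0
      apply h1
      rw [tildeInt_symm, hm ψ, h0, mul_zero]
      exact dvd_zero _
    have : 0 < m ψ ^ 2 := by positivity
    omega
  have hsplit : ∑ ψ ∈ s, m ψ ^ 2 = m χ₁ ^ 2 + ∑ ψ ∈ s.erase χ₁, m ψ ^ 2 :=
    (Finset.add_sum_erase s (fun ψ => m ψ ^ 2) hχ₁s).symm
  have h1 : (s₀.card : ℤ) ≤ ∑ ψ ∈ s.erase χ₁, m ψ ^ 2 := by
    calc (s₀.card : ℤ) = ∑ ψ ∈ s₀, (1 : ℤ) := by simp
      _ ≤ ∑ ψ ∈ s₀, m ψ ^ 2 := Finset.sum_le_sum hlow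
      _ ≤ ∑ ψ ∈ s.erase χ₁, m ψ ^ 2 :=
        Finset.sum_le_sum_of_subset_of_nonneg hsub (fun _ _ _ => sq_nonneg _)
  have h2 : ∑ ψ ∈ s.erase χ₁, m ψ ^ 2 = (p : ℤ) ^ (a - k₁) * m χ₁ - m χ₁ ^ 2 := by
    rw [← hsum, hsplit]; ring
  have h3 := quarter_sq ((p : ℤ) ^ (a - k₁)) (m χ₁)
  have h4 : (4 : ℤ) * (s₀.card : ℤ) ≤ ((p ^ (2 * (a - k₁)) : ℕ) : ℤ) := by
    have h5 : ((p ^ (2 * (a - k₁)) : ℕ) : ℤ) = ((p : ℤ) ^ (a - k₁)) ^ 2 := by
      push_cast; rw [← pow_mul, mul_comm]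
    rw [h5]
    linarith
  exact_mod_cast h4

open Classical in
/-- Brauer–Feit: heights are at most `d - 2` (for `d ≥ 2`) and `0` for `d ≤ 1`; formulated as:
a character of positive height has `ν(χ(1)) + 2 ≤ a`. -/
theorem height_pos_add_two_le (hM : IsPModular p M)
    {B : Set (IrrCharacter G)} (hB : IsPBlock M B) {χ₁ : IrrCharacter G} (hχ₁ : χ₁ ∈ B)
    (hpos : minVal p B < (charDegree (χ₁ : G → ℂ)).factorization p) :
    (charDegree (χ₁ : G → ℂ)).factorization p + 2 ≤ (Nat.card G).factorization p := by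
  let _ := fintypeIrr G
  have hp : p.Prime := hpp.out
  have hne : B.Nonempty := ⟨χ₁, hχ₁⟩
  obtain ⟨χ₀, hχ₀, hmin⟩ := exists_minVal (p := p) hne
  have h1 := brauer_feit_row_count hM hB hχ₁ hpos
  set a := (Nat.card G).factorization p with ha
  set k₁ := (charDegree (χ₁ : G → ℂ)).factorization p with hk₁
  have hk₁a : k₁ ≤ a :=
    (Nat.factorization_le_iff_dvd (irr_charDegree_pos χ₁).ne' Nat.card_pos.ne').mpr
      (irr_charDegree_dvd_card χ₁) p
  have hcard : 1 ≤ (Finset.univ.filter (fun ψ : IrrCharacter G => ψ ∈ B ∧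
        (charDegree (ψ : G → ℂ)).factorization p = minVal p B)).card := by
    rw [Nat.one_le_iff_ne_zero, Finset.card_ne_zero]
    exact ⟨χ₀, by simp [hχ₀, hmin]⟩
  -- a - k₁ ≥ 1
  have h2 : a - k₁ ≠ 0 := by
    intro h0
    rw [h0, mul_zero, pow_zero] at h1
    omega
  -- a - k₁ ≠ 1
  by_contra hcon
  have h3 : k₁ = a - 1 := by omega
  have ha1 : 1 ≤ a := by omega
  have hpa : p ∣ Nat.card G := (hp.dvd_iff_one_le_factorization Nat.card_pos.ne').mpr ha1
  have hdiv : p ^ (a - 1) ∣ charDegree (χ₁ : G → ℂ) := by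
    rw [← h3]
    exact Nat.ordProj_dvd _ _
  have h4 := dvd_degree_of_near_full hM hpa hB hχ₁ hdiv hχ₀
  have h5 : a - 1 ≤ (charDegree (χ₀ : G → ℂ)).factorization p :=
    (hp.pow_dvd_iff_le_factorization (irr_charDegree_pos χ₀).ne').mp h4
  omega

open Classical in
/-- Brauer–Feit: if `B` contains a character of positive height then `2 k(B) ≤ p^{2d-2}`. -/
theorem brauer_feit_pos_height_count [Fintype (IrrCharacter G)] (hM : IsPModular p M)
    {B : Set (IrrCharacter G)} (hB : IsPBlock M B) {χ₁ : IrrCharacter G} (hχ₁ : χ₁ ∈ B)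
    (hpos : minVal p B < (charDegree (χ₁ : G → ℂ)).factorization p) :
    2 * (Finset.univ.filter (fun ψ : IrrCharacter G => ψ ∈ B)).card ≤
      p ^ (2 * ((Nat.card G).factorization p - minVal p B) - 2) := by
  have hp : p.Prime := hpp.out
  have hne : B.Nonempty := ⟨χ₁, hχ₁⟩
  obtain ⟨χ₀, hχ₀, hmin⟩ := exists_minVal (p := p) hne
  have hII := brauer_feit_row_count hM hB hχ₁ hpos
  have hk₁ := height_pos_add_two_le hM hB hχ₁ hpos
  obtain ⟨hI1, hI2⟩ := brauer_feit_heights (p := p) hM hB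
  set e := minVal p B with he
  set a := (Nat.card G).factorization p with ha
  set k₁ := (charDegree (χ₁ : G → ℂ)).factorization p with hk₁'
  set s : Finset (IrrCharacter G) := Finset.univ.filter (fun ψ : IrrCharacter G => ψ ∈ B) with hs
  set s₀ : Finset (IrrCharacter G) := Finset.univ.filter (fun ψ : IrrCharacter G => ψ ∈ B ∧
        (charDegree (ψ : G → ℂ)).factorization p = e) with hs₀
  set sp : Finset (IrrCharacter G) := s.filter (fun ψ : IrrCharacter G =>
        ¬ (charDegree (ψ : G → ℂ)).factorization p = e) with hsp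
  have hs₀' : s₀ = s.filter (fun ψ : IrrCharacter G =>
        (charDegree (ψ : G → ℂ)).factorization p = e) := by
    rw [hs₀, hs, Finset.filter_filter]
  have hmem : ∀ ψ, ψ ∈ s ↔ ψ ∈ B := fun ψ => by rw [hs]; simp
  have hcard : s.card = s₀.card + sp.card := by
    rw [hs₀', hsp, Finset.card_filter_add_card_filter_not]
  have hppos : 0 < p := hp.pos
  -- T ≥ k₀ + p² k₊
  have hT : s₀.card + p ^ 2 * sp.card ≤
      ∑ ψ ∈ s, p ^ (2 * ((charDegree (ψ : G → ℂ)).factorization p - e)) := by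
    rw [← Finset.sum_filter_add_sum_filter_not s (fun ψ : IrrCharacter G =>
        (charDegree (ψ : G → ℂ)).factorization p = e), ← hs₀', ← hsp]
    apply add_le_add
    · rw [Finset.card_eq_sum_ones]
      apply Finset.sum_le_sum
      intro ψ _
      exact Nat.one_le_pow _ _ hppos
    · rw [mul_comm, ← smul_eq_mul, ← Finset.sum_const]
      apply Finset.sum_le_sum
      intro ψ hψ
      rw [hsp, Finset.mem_filter, hmem] at hψ
      have := minVal_le (p := p) hψ.1
      apply Nat.pow_le_pow_right hppos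
      have h2 := hψ.2
      omega
  have hk₀ : 1 ≤ s₀.card := by
    rw [Nat.one_le_iff_ne_zero, Finset.card_ne_zero]
    exact ⟨χ₀, by rw [hs₀]; simp [hχ₀, hmin]⟩
  -- set Q = p^(2d-2)
  have hd3 : 3 ≤ a - e := by omega
  set Q := p ^ (2 * (a - e) - 2) with hQ
  have hQ2 : p ^ (2 * (a - e)) = p ^ 2 * Q := by
    rw [hQ, ← pow_add]
    congr 1
    omega
  have hQ1 : p ^ (2 * (a - k₁)) ≤ Q := by
    rw [hQ]
    apply Nat.pow_le_pow_right hppos
    omega
  rw [hQ2] at hI2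
  have h1 : 4 * s₀.card ≤ Q := le_trans hII hQ1
  have h2 : 4 * sp.card ≤ Q := by
    have h3 : p ^ 2 * (4 * sp.card) ≤ p ^ 2 * Q := by
      refine le_trans ?_ hI2
      have : p ^ 2 * sp.card ≤
          ∑ ψ ∈ s, p ^ (2 * ((charDegree (ψ : G → ℂ)).factorization p - e)) - 1 := by
        omega
      calc p ^ 2 * (4 * sp.card) = 4 * (p ^ 2 * sp.card) := by ring
        _ ≤ _ := Nat.mul_le_mul_left 4 this
    exact Nat.le_of_mul_le_mul_left h3 (by positivity)
  rw [hcard]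
  omega

end bf3

end Cfsg.Agent.Lib.Helper23
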