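/-
helper23: S4715 leaves (NM), EXACT names + binders of `notes/S4715_leaves.lean`:
the class function `θ = secFun p z C (decFun C e z χ)` of a subsection `(z, e)`:
`⟨χ, θ⟩ = ⟨θ, θ⟩ = μ_{χχ}` (as sums over `G`), and the diagonal contribution is a nonnegative real.
Also `contrib_eq_zero_of_diag`: `μ_{ψψ} = 0` forces `μ_{χψ} = 0`.
-/
import Mathlib
import Cfsg.Agent.Lib.Helper6.HtBoundDefs
import Cfsg.Agent.Lib.Helper23.MajSubLI
import Cfsg.Agent.Lib.Helper6.StabIndex

set_option autoImplicit false
set_option linter.unusedSectionVars false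
set_option linter.unusedVariables false

namespace Cfsg.Agent.Lib.Helper23.HtBoundNM

open Cfsg Cfsg.Agent.CharLib Cfsg.Agent.Lib.Helper24 Cfsg.Agent.Lib.Helper6 Cfsg.Agent.Lib.Helper23
open Cfsg.Agent.Lib.Helper23.Subsec Cfsg.Agent.Lib.Helper27.MajSub
open Cfsg.Agent.Lib.Helper23.MajSubOM Cfsg.Agent.Lib.Helper23.MajSubH5
open Cfsg.Agent.Lib.Helper6.HtBound
open scoped ComplexConjugate

universe u w

variable {G : Type u} [Group G] [Fintype G] {M : Ideal AlgInt} {p : ℕ} [hpp : Fact p.Prime]

/-- the summands of a diagonal contribution are nonnegative reals -/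
theorem diag_term (z : G) (C : Subgroup G) [Fintype C] (e : Set (IrrCharacter C))
    (χ : IrrCharacter G) (s : C) :
    (if p ∣ orderOf s then (0 : ℂ) else decFun C e z χ s * conj (decFun C e z χ s)) =
      ((if p ∣ orderOf s then (0 : ℝ) else Complex.normSq (decFun C e z χ s) : ℝ) : ℂ) := by
  split_ifs
  · simp
  · rw [Complex.mul_conj]

theorem contrib_diag_eq (z : G) (C : Subgroup G) [Fintype C] (e : Set (IrrCharacter C))
    (χ : IrrCharacter G) :
    contrib p C e z χ χ = (((Nat.card C : ℝ)⁻¹ * ∑ s : C,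
      (if p ∣ orderOf s then (0 : ℝ) else Complex.normSq (decFun C e z χ s)) : ℝ) : ℂ) := by
  unfold contrib
  rw [Finset.sum_congr rfl (fun s _ => diag_term z C e χ s)]
  push_cast
  rfl

theorem contrib_diag_nonneg (z : G) (C : Subgroup G) [Fintype C] (e : Set (IrrCharacter C))
    (χ : IrrCharacter G) :
    0 ≤ (contrib p C e z χ χ).re ∧ (contrib p C e z χ χ).im = 0 := by
  rw [contrib_diag_eq z C e χ, Complex.ofReal_re, Complex.ofReal_im]
  refine ⟨?_, rfl⟩
  apply mul_nonneg
  · exact inv_nonneg.mpr (Nat.cast_nonneg _)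
  · apply Finset.sum_nonneg
    intro s _
    split_ifs
    · exact le_refl _
    · exact Complex.normSq_nonneg _

/-- a diagonal contribution is its own complex conjugate -/
theorem conj_contrib_diag (z : G) (C : Subgroup G) [Fintype C] (e : Set (IrrCharacter C))
    (χ : IrrCharacter G) : conj (contrib p C e z χ χ) = contrib p C e z χ χ := by
  rw [contrib_diag_eq z C e χ, Complex.conj_ofReal]

/-- a diagonal contribution as a real number -/
theorem contrib_diag_eq_re (z : G) (C : Subgroup G) [Fintype C] (e : Set (IrrCharacter C))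
    (χ : IrrCharacter G) : contrib p C e z χ χ = ((contrib p C e z χ χ).re : ℂ) := by
  conv_lhs => rw [contrib_diag_eq z C e χ]
  rw [contrib_diag_eq z C e χ, Complex.ofReal_re]

/-- if `μ_{ψψ} = 0` then the generalized decomposition function of `ψ` vanishes on the `p`-regular
elements. -/
theorem decFun_eq_zero_of_diag (z : G) (C : Subgroup G) [Fintype C] (e : Set (IrrCharacter C))
    (ψ : IrrCharacter G) (h : contrib p C e z ψ ψ = 0) (s : C) (hs : ¬ p ∣ orderOf s) :
    decFun C e z ψ s = 0 := by
  rw [contrib_diag_eq z C e ψ] at h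
  have h1 : (Nat.card C : ℝ)⁻¹ * ∑ s : C,
      (if p ∣ orderOf s then (0 : ℝ) else Complex.normSq (decFun C e z ψ s)) = 0 := by
    exact_mod_cast h
  have hC0 : (Nat.card C : ℝ)⁻¹ ≠ 0 := by
    apply inv_ne_zero
    exact_mod_cast (Nat.card_pos (α := C)).ne'
  have h2 := (mul_eq_zero.mp h1).resolve_left hC0
  have h3 := (Finset.sum_eq_zero_iff_of_nonneg (fun s _ => by
    split_ifs
    · exact le_refl _
    · exact Complex.normSq_nonneg _)).mp h2 s (Finset.mem_univ s)
  rw [if_neg hs] at h3
  exact Complex.normSq_eq_zero.mp h3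

/-- if `μ_{ψψ} = 0` then `μ_{χψ} = 0` for every `χ`. -/
theorem contrib_eq_zero_of_diag (z : G) (C : Subgroup G) [Fintype C] (e : Set (IrrCharacter C))
    (χ ψ : IrrCharacter G) (h : contrib p C e z ψ ψ = 0) : contrib p C e z χ ψ = 0 := by
  unfold contrib
  rw [Finset.sum_eq_zero, mul_zero]
  intro s _
  split_ifs with hs
  · rfl
  · rw [decFun_eq_zero_of_diag z C e ψ h s hs, map_zero, mul_zero]

theorem sum_secFun_conj_secFun (hM : IsPModular p M) (z : G) (hz : ∃ k : ℕ, orderOf z = p ^ k)
    (C : Subgroup G) [Fintype C] (hC : C = Subgroup.centralizer ({z} : Set G))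
    (e : Set (IrrCharacter C)) (he : IsPBlock M e) (χ : IrrCharacter G) :
    ∑ g : G, secFun p z C (decFun C e z χ) g * conj (secFun p z C (decFun C e z χ) g) =
      (Nat.card G : ℂ) * contrib p C e z χ χ := by
  classical
  set F := decFun C e z χ with hF
  have hFcls : IsClassFunction C F := blockPart_isClassFunction e _
  have hΦ : IsClassFunction G (fun g => conj (secFun p z C F g)) := by
    intro g h
    show conj (secFun p z C F (h * g * h⁻¹)) = conj (secFun p z C F g)
    rw [secFun_isClassFunction z C F g h]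
  have h1 := sum_secFun_mul (p := p) z C F (fun g => conj (secFun p z C F g)) hΦ
  rw [h1]
  congr 1
  unfold contrib
  congr 1
  apply Finset.sum_congr rfl
  intro s _
  split_ifs with hs
  · rfl
  · have h2 := secFun_eq_of_conj z hz C hC F hFcls 1 s hs
    rw [one_mul, inv_one, mul_one] at h2
    show F s * conj (secFun p z C F (z * (s : G))) = _
    rw [h2]

theorem sum_irr_conj_secFun (hM : IsPModular p M) (z : G) (hz : ∃ k : ℕ, orderOf z = p ^ k)
    (C : Subgroup G) [Fintype C] (hC : C = Subgroup.centralizer ({z} : Set G))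
    (e : Set (IrrCharacter C)) (he : IsPBlock M e) (χ : IrrCharacter G) :
    ∑ g : G, (χ : G → ℂ) g * conj (secFun p z C (decFun C e z χ) g) =
      (Nat.card G : ℂ) * contrib p C e z χ χ := by
  classical
  have hcommC : ∀ c : G, c ∈ C → c * z = z * c := by
    intro c hc
    rw [hC, Subgroup.mem_centralizer_singleton_iff] at hc
    exact hc
  set F := decFun C e z χ with hF
  have hΦ : IsClassFunction G (fun g => conj ((χ : G → ℂ) g)) := by
    intro g h
    show conj ((χ : G → ℂ) (h * g * h⁻¹)) = conj ((χ : G → ℂ) g)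
    rw [irr_conj]
  have h1 := sum_secFun_mul (p := p) z C F (fun g => conj ((χ : G → ℂ) g)) hΦ
  have h2 : (Nat.card C : ℂ)⁻¹ *
      ∑ s : C, (if p ∣ orderOf s then 0 else F s * conj ((χ : G → ℂ) (z * (s : G)))) =
      contrib p C e z χ χ := (contrib_eq_sum_right hM z C hcommC e he χ χ).symm
  rw [h2] at h1
  -- conjugate the whole identity
  have h3 : ∑ g : G, (χ : G → ℂ) g * conj (secFun p z C F g) =
      conj (∑ g : G, secFun p z C F g * conj ((χ : G → ℂ) g)) := by
    rw [map_sum]
    apply Finset.sum_congr rfl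
    intro g _
    rw [map_mul, Complex.conj_conj, mul_comm]
  rw [h3, h1, map_mul, Complex.conj_natCast, conj_contrib_diag]

end Cfsg.Agent.Lib.Helper23.HtBoundNM
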