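/-
helper23: S4715 leaf (LB), EXACT name + binders of `notes/S4715_leaves.lean`:
the Galois lower bound for the DIAGONAL contribution of a major subsection `(z, e)` of `B`:
`|Gal| p^{ht ψ} ≤ ∑_σ p^d μ^{(z^{k_σ}, e)}_{ψψ}`.
`p^d μ_{ψψ} / p^{ht ψ}` is a local integer (OM1 + unit ratio), nonzero (otherwise `μ_{χ₀ψ} = 0` for `χ₀` of
height zero, against (5H)); its Galois conjugates are the same numbers for the subsections `(z^k, e)`;
the product of their absolute values is at least one (norm argument), and AM-GM gives the bound.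
-/
import Mathlib
import Cfsg.Agent.Lib.Helper6.HtBoundDefs
import Cfsg.Agent.Lib.Helper23.MajSubLI
import Cfsg.Agent.Lib.Helper6.StabIndex
import Cfsg.Agent.Lib.Helper23.HtBoundNM

set_option autoImplicit false
set_option linter.unusedSectionVars false
set_option linter.unusedVariables false

namespace Cfsg.Agent.Lib.Helper23.HtBoundLB

open Cfsg Cfsg.Agent.CharLib Cfsg.Agent.Lib.Helper24 Cfsg.Agent.Lib.Helper6 Cfsg.Agent.Lib.Helper23
open Cfsg.Agent.Lib.Helper23.Subsec Cfsg.Agent.Lib.Helper27.MajSub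
open Cfsg.Agent.Lib.Helper23.MajSubOM Cfsg.Agent.Lib.Helper23.MajSubH5
open Cfsg.Agent.Lib.Helper23.MajSubLI Cfsg.Agent.Lib.Helper23.HtBoundNM
open Cfsg.Agent.Lib.Helper6.HtBound
open scoped ComplexConjugate

universe u w

section norm

variable {M : Ideal AlgInt} {p : ℕ} [hpp : Fact p.Prime]

/-- For a nonzero algebraic integer `y` of a finite Galois extension `K/ℚ` such that all the
conjugates of `y / p^j` are local integers at `M`, the product of the `|φ(σ y)/p^j|` over the Galois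
group is at least one. -/
theorem one_le_prod_norm_local (hM : IsPModular p M) (K : Type w) [Field K] [Algebra ℚ K]
    [FiniteDimensional ℚ K] [IsGalois ℚ K] (φ : K →+* ℂ) (y : K) (hy : IsIntegral ℤ y)
    (hy0 : y ≠ 0) (j : ℕ)
    (hloc : ∀ σ : K ≃ₐ[ℚ] K, MemLocalRing M (φ (σ y) / (p : ℂ) ^ j)) :
    1 ≤ ∏ σ : K ≃ₐ[ℚ] K, ‖φ (σ y) / (p : ℂ) ^ j‖ := by
  have hprime : M.IsPrime := isPrime_of_isPModular hM
  have hp : p.Prime := hpp.out
  have hn := Algebra.norm_eq_prod_automorphisms ℚ y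
  have hint : IsIntegral ℤ (Algebra.norm ℚ y) := Algebra.isIntegral_norm ℚ hy
  obtain ⟨n, hn'⟩ := IsIntegrallyClosed.isIntegral_iff.mp hint
  have hn0 : Algebra.norm ℚ y ≠ 0 := Algebra.norm_ne_zero_iff.mpr hy0
  have hm0 : n ≠ 0 := by
    intro h
    rw [h] at hn'
    simp at hn'
    exact hn0 hn'.symm
  have h1 : ∏ σ : K ≃ₐ[ℚ] K, φ (σ y) = (n : ℂ) := by
    rw [← map_prod, ← hn, ← hn']
    simp
  set f := Fintype.card (K ≃ₐ[ℚ] K) with hf
  have h2 : ∏ σ : K ≃ₐ[ℚ] K, (φ (σ y) / (p : ℂ) ^ j) = (n : ℂ) / ((p ^ (j * f) : ℕ) : ℂ) := by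
    rw [Finset.prod_div_distrib, h1, Finset.prod_const, Finset.card_univ, ← hf]
    push_cast
    rw [← pow_mul]
  have h3 : MemLocalRing M ((n : ℂ) / ((p ^ (j * f) : ℕ) : ℂ)) := by
    rw [← h2]
    exact prod_memLocalRing _ _ (fun σ _ => hloc σ)
  have h4 : (p : ℤ) ^ (j * f) ∣ n := by
    have := (memLocalRing_intCast_div_natCast_iff hM (pow_pos hp.pos _).ne').mp h3
    rw [Nat.Prime.factorization_pow hp] at this
    simpa using this
  have h5 : (p : ℤ) ^ (j * f) ≤ |n| := by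
    have h6 : (p : ℤ) ^ (j * f) ∣ |n| := (dvd_abs _ _).mpr h4
    exact Int.le_of_dvd (abs_pos.mpr hm0) h6
  rw [← norm_prod, h2, norm_div]
  have h7 : ‖((p ^ (j * f) : ℕ) : ℂ)‖ = ((p : ℝ) ^ (j * f)) := by
    rw [Complex.norm_natCast]; push_cast; rfl
  have h8 : ‖(n : ℂ)‖ = |(n : ℝ)| := by
    rw [← Complex.ofReal_intCast, Complex.norm_real, Real.norm_eq_abs]
  have hppos : (0 : ℝ) < (p : ℝ) ^ (j * f) := pow_pos (Nat.cast_pos.mpr hp.pos) _
  rw [h7, h8, le_div_iff₀ hppos, one_mul]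
  have : ((p : ℤ) ^ (j * f) : ℝ) ≤ ((|n| : ℤ) : ℝ) := by exact_mod_cast h5
  simpa using this

/-- AM-GM, first powers: positive reals with product at least one have sum at least their number. -/
theorem card_le_sum_of_one_le_prod {ι : Type*} [Fintype ι] (a : ι → ℝ) (hpos : ∀ i, 0 < a i)
    (hprod : 1 ≤ ∏ i, a i) : (Fintype.card ι : ℝ) ≤ ∑ i, a i := by
  have h1 := card_le_sum_sq_of_one_le_prod (fun i => Real.sqrt (a i))
    (fun i => Real.sqrt_pos.mpr (hpos i)) (by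
      have h2 : (∏ i, Real.sqrt (a i)) ^ 2 = ∏ i, a i := by
        rw [← Finset.prod_pow]
        apply Finset.prod_congr rfl
        intro i _
        exact Real.sq_sqrt (hpos i).le
      have h3 : 0 ≤ ∏ i, Real.sqrt (a i) := Finset.prod_nonneg (fun i _ => Real.sqrt_nonneg _)
      by_contra hlt
      push Not at hlt
      have h4 : (∏ i, Real.sqrt (a i)) ^ 2 < 1 := by
        have := mul_lt_mul'' hlt hlt h3 h3
        rw [one_mul] at this
        rw [sq]; exact this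
      rw [h2] at h4
      linarith)
  have h5 : ∑ i, Real.sqrt (a i) ^ 2 = ∑ i, a i := by
    apply Finset.sum_congr rfl
    intro i _
    exact Real.sq_sqrt (hpos i).le
  rw [h5] at h1
  exact h1

/-- first-power version of `Subsec.card_gal_le_sum_norm_sq_local`. -/
theorem card_gal_le_sum_norm_local (hM : IsPModular p M) (K : Type w) [Field K] [Algebra ℚ K]
    [FiniteDimensional ℚ K] [IsGalois ℚ K] (φ : K →+* ℂ) (y : K) (hy : IsIntegral ℤ y)
    (hy0 : y ≠ 0) (j : ℕ)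
    (hloc : ∀ σ : K ≃ₐ[ℚ] K, MemLocalRing M (φ (σ y) / (p : ℂ) ^ j)) :
    (Fintype.card (K ≃ₐ[ℚ] K) : ℝ) ≤ ∑ σ : K ≃ₐ[ℚ] K, ‖φ (σ y) / (p : ℂ) ^ j‖ := by
  have hp : p.Prime := hpp.out
  have hpj0 : ((p : ℂ) ^ j) ≠ 0 := pow_ne_zero _ (Nat.cast_ne_zero.mpr hp.ne_zero)
  apply card_le_sum_of_one_le_prod
  · intro σ
    rw [norm_pos_iff]
    intro h
    rw [div_eq_zero_iff] at h
    rcases h with h | h
    · have h1 : σ y = 0 := φ.injective (by rw [h, map_zero])
      exact hy0 ((map_eq_zero_iff σ σ.injective).mp h1)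
    · exact hpj0 h
  · exact one_le_prod_norm_local hM K φ y hy hy0 j hloc

end norm

section lb

variable {G : Type u} [Group G] [Fintype G] {M : Ideal AlgInt} {p : ℕ} [hpp : Fact p.Prime]

theorem card_gal_mul_pow_le_sum_contrib_diag (hM : IsPModular p M) (N : ℕ) [NeZero N] (K : Type w)
    [Field K] [Algebra ℚ K] [IsCyclotomicExtension {N} ℚ K] [FiniteDimensional ℚ K]
    [IsGalois ℚ K] (φ : K →+* ℂ) (z : G) (hz : ∃ k : ℕ, orderOf z = p ^ k) (hzN : z ^ N = 1)
    (C : Subgroup G) [Fintype C] (hC : C = Subgroup.centralizer ({z} : Set G))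
    (B : Set (IrrCharacter G)) (e : Set (IrrCharacter C)) (hind : IsInducedBlock M C e B)
    (hdef : blockDefect p e = blockDefect p B) (ψ : IrrCharacter G) (hψ : ψ ∈ B) :
    (Fintype.card (K ≃ₐ[ℚ] K) : ℝ) * (p : ℝ) ^ blockHeight p B (ψ : G → ℂ) ≤
      ∑ σ : K ≃ₐ[ℚ] K,
        (p : ℝ) ^ blockDefect p B * (contrib p C e (z ^ galExp N K σ) ψ ψ).re := by
  classical
  let _ := fintypeIrr C
  have hprime : M.IsPrime := isPrime_of_isPModular hM
  have hp : p.Prime := hpp.out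
  have hp0 : (p : ℂ) ≠ 0 := Nat.cast_ne_zero.mpr hp.ne_zero
  have hpR : (0 : ℝ) < (p : ℝ) := by exact_mod_cast hp.pos
  have he : IsPBlock M e := hind.1
  have hne : e.Nonempty := by
    obtain ⟨χ₁, h⟩ := he
    exact ⟨χ₁, by rw [h]; exact mem_blockOf_self χ₁⟩
  set d := blockDefect p B with hd
  set h := blockHeight p B (ψ : G → ℂ) with hh
  set m := minVal p e with hm
  set a := (Nat.card C).factorization p with ha
  have hma : m ≤ a := minVal_le_factorization_card hne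
  have hdam : d = a - m := by rw [← hdef]; exact blockDefect_eq e
  -- the central element
  have hcommC : ∀ c : G, c ∈ C → c * z = z * c := by
    intro c hc
    rw [hC, Subgroup.mem_centralizer_singleton_iff] at hc
    exact hc
  have hzC : z ∈ C := by
    rw [hC]; exact Subgroup.mem_centralizer_singleton_iff.mpr rfl
  have hcen : (⟨z, hzC⟩ : C) ∈ Subgroup.center C := by
    rw [Subgroup.mem_center_iff]
    intro g
    apply Subtype.ext
    exact hcommC g g.2
  set w : Subgroup.center C := ⟨⟨z, hzC⟩, hcen⟩ with hw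
  have hwcoe : ∀ k : ℕ, ((((w ^ k : Subgroup.center C) : C) : G)) = z ^ k := by
    intro k
    simp [hw]
  have hwN : w ^ N = 1 := by
    apply Subtype.ext
    apply Subtype.ext
    rw [hwcoe]
    simp only [OneMemClass.coe_one]
    exact hzN
  obtain ⟨k₀, hk₀⟩ := hz
  have hordN : orderOf z ∣ N := orderOf_dvd_of_pow_eq_one hzN
  -- the data of the subsections `(z^k, e)`
  have hdata : ∀ σ : K ≃ₐ[ℚ] K, (∃ j : ℕ, orderOf (z ^ galExp N K σ) = p ^ j) ∧
      C = Subgroup.centralizer ({z ^ galExp N K σ} : Set G) := by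
    intro σ
    set k := galExp N K σ with hk
    have hcop : k.Coprime (orderOf z) :=
      Nat.Coprime.coprime_dvd_right hordN (galExp_coprime N K σ)
    refine ⟨?_, ?_⟩
    · have h1 : orderOf (z ^ k) ∣ p ^ k₀ := by rw [← hk₀]; exact orderOf_pow_dvd k
      obtain ⟨j, -, hj⟩ := (Nat.dvd_prime_pow hp).mp h1
      exact ⟨j, hj⟩
    · rw [centralizer_pow_eq z k hcop]; exact hC
  -- local integrality
  obtain ⟨u, hu, hr⟩ := exists_unit_ratio hM B ψ hψ
  have hloc : ∀ σ : K ≃ₐ[ℚ] K,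
      MemLocalRing M ((p : ℂ) ^ d * contrib p C e (z ^ galExp N K σ) ψ ψ / (p : ℂ) ^ h) := by
    intro σ
    rw [hr]
    exact memLocalRing_mul
      (contrib_div_right hM (z ^ galExp N K σ) (hdata σ).1 C (hdata σ).2 e he ψ ψ) hu.1
  -- nonvanishing
  obtain ⟨χ₀, hχ₀, hχ₀0⟩ := exists_heightZero (p := p) B ⟨ψ, hψ⟩
  have hnz : ∀ σ : K ≃ₐ[ℚ] K, contrib p C e (z ^ galExp N K σ) ψ ψ ≠ 0 := by
    intro σ h0
    have h5 := (contrib_5H hM (z ^ galExp N K σ) (hdata σ).1 C (hdata σ).2 B e hind hdef χ₀ ψ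
      hχ₀ hχ₀0 hψ).1
    apply h5.2
    rw [contrib_eq_zero_of_diag (z ^ galExp N K σ) C e χ₀ ψ h0, mul_zero, zero_div]
    exact memLocalIdeal_zero hprime.one_notMem
  have hpow : ((p ^ a : ℕ) : ℂ) = (p : ℂ) ^ d * (p : ℂ) ^ m := by
    rw [hdam, ← pow_add, Nat.sub_add_cancel hma]; push_cast; ring
  have hpm0 : ((p : ℂ) ^ m) ≠ 0 := pow_ne_zero _ hp0
  have hph0 : ((p : ℂ) ^ h) ≠ 0 := pow_ne_zero _ hp0
  obtain ⟨y, hyint, hyσ⟩ := exists_lift (p := p) N K φ C e w hwN ψ ψ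
  have hval : ∀ σ : K ≃ₐ[ℚ] K, φ (σ y) / (p : ℂ) ^ (m + h) =
      (p : ℂ) ^ d * contrib p C e (z ^ galExp N K σ) ψ ψ / (p : ℂ) ^ h := by
    intro σ
    rw [hyσ σ, hwcoe, ← ha, hpow, pow_add]
    field_simp
  have hy0 : y ≠ 0 := by
    intro h0
    have h1 := hval AlgEquiv.refl
    rw [h0] at h1
    simp only [map_zero, zero_div] at h1
    have h2 : (p : ℂ) ^ d * contrib p C e (z ^ galExp N K AlgEquiv.refl) ψ ψ = 0 := by
      have h3 := h1.symm
      rw [div_eq_zero_iff] at h3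
      exact h3.resolve_right hph0
    rcases mul_eq_zero.mp h2 with h3 | h3
    · exact pow_ne_zero _ hp0 h3
    · exact hnz AlgEquiv.refl h3
  have h2 := card_gal_le_sum_norm_local hM K φ y hyint hy0 (m + h) (fun σ => by
    rw [hval σ]; exact hloc σ)
  have h3 : ∑ σ : K ≃ₐ[ℚ] K, ‖φ (σ y) / (p : ℂ) ^ (m + h)‖ =
      (∑ σ : K ≃ₐ[ℚ] K, (p : ℝ) ^ d * (contrib p C e (z ^ galExp N K σ) ψ ψ).re) /
        (p : ℝ) ^ h := by
    rw [Finset.sum_div]
    apply Finset.sum_congr rfl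
    intro σ _
    rw [hval σ, norm_div, norm_mul, norm_pow, norm_pow, Complex.norm_natCast]
    congr 2
    have h4 := contrib_diag_nonneg (p := p) (z ^ galExp N K σ) C e ψ
    rw [contrib_diag_eq_re (z ^ galExp N K σ) C e ψ, Complex.norm_real, Real.norm_eq_abs,
      abs_of_nonneg h4.1, Complex.ofReal_re]
  rw [h3] at h2
  have hpos : (0 : ℝ) < (p : ℝ) ^ h := pow_pos hpR _
  rwa [le_div_iff₀ hpos] at h2

end lb

end Cfsg.Agent.Lib.Helper23.HtBoundLB
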