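/-
helper23: S4715 leaf (ON), EXACT name + binders of `notes/S4715_leaves.lean`:
the class functions attached to the `p`-sections of two non-conjugate `p`-elements have disjoint supports.
-/
import Mathlib
import Cfsg.Agent.Lib.Helper6.HtBoundDefs
import Cfsg.Agent.Lib.Helper23.MajSubLI
import Cfsg.Agent.Lib.Helper6.StabIndex

set_option autoImplicit false
set_option linter.unusedSectionVars false
set_option linter.unusedVariables false

namespace Cfsg.Agent.Lib.Helper23.HtBoundON

open Cfsg Cfsg.Agent.CharLib Cfsg.Agent.Lib.Helper24 Cfsg.Agent.Lib.Helper6 Cfsg.Agent.Lib.Helper23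
open Cfsg.Agent.Lib.Helper23.Subsec Cfsg.Agent.Lib.Helper27.MajSub
open Cfsg.Agent.Lib.Helper23.MajSubOM Cfsg.Agent.Lib.Helper23.MajSubH5
open Cfsg.Agent.Lib.Helper6.HtBound
open scoped ComplexConjugate

universe u w

variable {G : Type u} [Group G] [Fintype G] {M : Ideal AlgInt} {p : ℕ} [hpp : Fact p.Prime]

/-- the `p`-part of an element `x (z s) x⁻¹` of the `p`-section of `z` is `x z x⁻¹`. -/
theorem isPPart_section (z : G) (hz : ∃ k : ℕ, orderOf z = p ^ k) (C : Subgroup G)
    (hC : C = Subgroup.centralizer ({z} : Set G)) (x : G) (s : C) (hs : ¬ p ∣ orderOf s) :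
    IsPPart p (x * (z * (s : G)) * x⁻¹) (x * z * x⁻¹) := by
  have hcomm : ∀ c : G, c ∈ C → c * z = z * c := by
    intro c hc
    rw [hC, Subgroup.mem_centralizer_singleton_iff] at hc
    exact hc
  have hsC : (s : G) * z = z * (s : G) := hcomm _ s.2
  refine ⟨x * (s : G) * x⁻¹, by group, ?_, ?_, ?_⟩
  · show (x * z * x⁻¹) * (x * (s : G) * x⁻¹) = (x * (s : G) * x⁻¹) * (x * z * x⁻¹)
    have e1 : (x * z * x⁻¹) * (x * (s : G) * x⁻¹) = x * (z * (s : G)) * x⁻¹ := by group
    have e2 : (x * (s : G) * x⁻¹) * (x * z * x⁻¹) = x * ((s : G) * z) * x⁻¹ := by group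
    rw [e1, e2, hsC]
  · obtain ⟨k, hk⟩ := hz
    refine ⟨k, ?_⟩
    have := orderOf_injective (MulAut.conj x).toMonoidHom (MulAut.conj x).injective z
    simp only [MulEquiv.coe_toMonoidHom, MulAut.conj_apply] at this
    rw [this, hk]
  · have := orderOf_injective (MulAut.conj x).toMonoidHom (MulAut.conj x).injective (s : G)
    simp only [MulEquiv.coe_toMonoidHom, MulAut.conj_apply] at this
    rw [this, Subgroup.orderOf_coe]; exact hs

theorem sum_secFun_conj_secFun_of_not_conj (z z' : G) (hz : ∃ k : ℕ, orderOf z = p ^ k)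
    (hz' : ∃ k : ℕ, orderOf z' = p ^ k) (C C' : Subgroup G) [Fintype C] [Fintype C']
    (hC : C = Subgroup.centralizer ({z} : Set G)) (hC' : C' = Subgroup.centralizer ({z'} : Set G))
    (F : C → ℂ) (F' : C' → ℂ) (hne : ∀ g : G, z' ≠ g * z * g⁻¹) :
    ∑ x : G, secFun p z C F x * conj (secFun p z' C' F' x) = 0 := by
  classical
  apply Finset.sum_eq_zero
  intro x _
  by_cases h1 : ∃ a : G, ∃ s : C, ¬ p ∣ orderOf s ∧ x = a * (z * (s : G)) * a⁻¹
  · by_cases h2 : ∃ b : G, ∃ s' : C', ¬ p ∣ orderOf s' ∧ x = b * (z' * (s' : G)) * b⁻¹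
    · exfalso
      obtain ⟨a, s, hs, hxa⟩ := h1
      obtain ⟨b, s', hs', hxb⟩ := h2
      have hP1 : IsPPart p x (a * z * a⁻¹) := by
        rw [hxa]; exact isPPart_section z hz C hC a s hs
      have hP2 : IsPPart p x (b * z' * b⁻¹) := by
        rw [hxb]; exact isPPart_section z' hz' C' hC' b s' hs'
      have h3 := isPPart_unique hP1 hP2
      apply hne (b⁻¹ * a)
      have h4 : z' = b⁻¹ * (b * z' * b⁻¹) * b := by group
      rw [h4, ← h3]
      group
    · rw [secFun_eq_zero z' C' F' x h2, map_zero, mul_zero]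
  · rw [secFun_eq_zero z C F x h1, zero_mul]

end Cfsg.Agent.Lib.Helper23.HtBoundON
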