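/-
helper23: S3928 leaf H (twin): an abelian minimal normal subgroup `N` of a pair `(H, a)` with trivial
centre has `|N| ≤ (max 2 |J|) ^ |H : N|`.
-/
import Mathlib
import Cfsg.Agent.Lib.Helper25.InvAutDefs
import Cfsg.Agent.Lib.Helper22.IAH0

set_option autoImplicit false

namespace Cfsg.Agent.Lib.Helper23.IAH

open Cfsg.Agent.Lib.Helper25.InvAut

/-- An abelian minimal normal subgroup has prime exponent. -/
theorem exists_prime_exponent {H : Type*} [Group H] [Finite H] (N : Subgroup H) [N.Normal]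
    (hN1 : N ≠ ⊥) (hmin : ∀ M : Subgroup H, M.Normal → M ≤ N → M = ⊥ ∨ M = N)
    (hab : ∀ x ∈ N, ∀ y ∈ N, x * y = y * x) :
    ∃ p : ℕ, p.Prime ∧ ∀ x ∈ N, x ^ p = 1 := by
  have hcard : Nat.card N ≠ 1 := by
    intro h1
    apply hN1
    exact Subgroup.card_eq_one.mp h1
  obtain ⟨p, hp, hpd⟩ := Nat.exists_prime_and_dvd hcard
  have : Fact p.Prime := ⟨hp⟩
  obtain ⟨x₀, hx₀⟩ := exists_prime_orderOf_dvd_card' (G := N) p hpd
  let Mp : Subgroup H :=
    { carrier := {v | v ∈ N ∧ v ^ p = 1}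
      mul_mem' := by
        rintro x y ⟨hx, hxp⟩ ⟨hy, hyp⟩
        refine ⟨N.mul_mem hx hy, ?_⟩
        have hc : Commute x y := hab x hx y hy
        rw [hc.mul_pow, hxp, hyp, one_mul]
      one_mem' := ⟨N.one_mem, one_pow p⟩
      inv_mem' := by
        rintro x ⟨hx, hxp⟩
        exact ⟨N.inv_mem hx, by rw [inv_pow, hxp, inv_one]⟩ }
  have hMpN : Mp ≤ N := fun v hv => hv.1
  have hMpnormal : Mp.Normal := by
    constructor
    rintro n ⟨hn, hnp⟩ g
    refine ⟨‹N.Normal›.conj_mem n hn g, ?_⟩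
    rw [conj_pow, hnp, mul_one, mul_inv_cancel]
  have hx₀mem : (x₀ : H) ∈ Mp := by
    refine ⟨x₀.2, ?_⟩
    have : x₀ ^ p = 1 := by rw [← hx₀]; exact pow_orderOf_eq_one x₀
    have h2 := congrArg (Subtype.val) this
    simpa using h2
  have hx₀ne : (x₀ : H) ≠ 1 := by
    intro h1
    have : x₀ = 1 := Subtype.ext h1
    rw [this, orderOf_one] at hx₀
    exact hp.one_lt.ne hx₀
  rcases hmin Mp hMpnormal hMpN with h | h
  · exfalso
    apply hx₀ne
    have : (x₀ : H) ∈ (⊥ : Subgroup H) := by rw [← h]; exact hx₀mem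
    exact Subgroup.mem_bot.mp this
  · refine ⟨p, hp, ?_⟩
    intro x hx
    have : x ∈ Mp := by rw [h]; exact hx
    exact this.2

/-- `a` does not centralize a nontrivial normal subgroup when the centre is trivial. -/
theorem exists_not_commute {H : Type*} [Group H] {a : H} (h : IsPair a)
    (hZ : Subgroup.center H = ⊥) (N : Subgroup H) [N.Normal] (hN1 : N ≠ ⊥) :
    ∃ v ∈ N, a * v * a⁻¹ ≠ v := by
  by_contra hcon
  push Not at hcon
  apply hN1
  have ha : a ∈ Subgroup.centralizer (N : Set H) := by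
    rw [Subgroup.mem_centralizer_iff]
    intro v hv
    have := hcon v hv
    calc v * a = (a * v * a⁻¹) * a := by rw [this]
      _ = a * v := by group
  have htop : Subgroup.centralizer (N : Set H) = ⊤ := by
    rw [eq_top_iff, ← h.gen]
    apply Subgroup.normalClosure_le_normal
    intro x hx
    rw [Set.mem_singleton_iff] at hx
    rw [hx]; exact ha
  rw [eq_bot_iff, ← hZ]
  intro n hn
  rw [Subgroup.mem_center_iff]
  intro g
  have hg : g ∈ Subgroup.centralizer (N : Set H) := by rw [htop]; exact Subgroup.mem_top g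
  rw [Subgroup.mem_centralizer_iff] at hg
  exact (hg n hn).symm

/-- An odd prime exponent is at most `|J|`. -/
theorem prime_le_card_JJ {H : Type*} [Group H] [Finite H] {a : H} (ha : a * a = 1)
    (N : Subgroup H) {p : ℕ} (hp : p.Prime) (hp2 : p ≠ 2) (hexp : ∀ x ∈ N, x ^ p = 1)
    {v : H} (hv : v ∈ N) (hav : a * v * a⁻¹ ∈ N) (hne : a * v * a⁻¹ ≠ v) :
    p ≤ Nat.card (JJ a) := by
  set w := v * (a * v * a⁻¹)⁻¹ with hw
  have hwN : w ∈ N := N.mul_mem hv (N.inv_mem hav)
  have hw1 : w ≠ 1 := by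
    intro h1
    apply hne
    rw [hw, mul_inv_eq_one] at h1
    exact h1.symm
  have hwinv : a * w * a⁻¹ = w⁻¹ := by
    have e1 : a * (v * (a * v * a⁻¹)⁻¹) * a⁻¹ = (a * v * a⁻¹) * (a * a) * v⁻¹ * (a * a)⁻¹ := by
      group
    rw [hw, e1, ha]
    group
  have hwp : w ^ p = 1 := hexp w hwN
  have hord : orderOf w = p := by
    have hd : orderOf w ∣ p := orderOf_dvd_of_pow_eq_one hwp
    rcases (Nat.dvd_prime hp).mp hd with h1 | h1
    · exact absurd (orderOf_eq_one_iff.mp h1) hw1
    · exact h1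
  have hodd : Odd p := hp.odd_of_ne_two hp2
  have hsub : ((Subgroup.zpowers w : Subgroup H) : Set H) ⊆ JJ a := by
    intro y hy
    obtain ⟨k, rfl⟩ := Subgroup.mem_zpowers_iff.mp hy
    refine ⟨?_, ?_⟩
    · apply Odd.of_dvd_nat hodd
      apply orderOf_dvd_of_pow_eq_one
      rw [← zpow_natCast, ← zpow_mul, mul_comm, zpow_mul, zpow_natCast, hwp, one_zpow]
    · rw [← conj_zpow, hwinv, inv_zpow]
  have h1 := Nat.card_mono (Set.toFinite (JJ a)) hsub
  have h2 : Nat.card ((Subgroup.zpowers w : Subgroup H) : Set H) = p := by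
    rw [← hord]
    exact Nat.card_zpowers w
  rw [h2] at h1
  exact h1

/-- LEAF H against LEAF H0 (for `K = H`) as an explicit hypothesis. -/
theorem card_le_of_minimal_normal_abelian_of {H : Type*} [Group H] [Finite H] {a : H}
    (hH0 : ∀ (S : Finset H), (∀ s ∈ S, ∀ t ∈ S, s * t = t * s) → ∀ e : ℕ, 0 < e →
      (∀ s ∈ S, s ^ e = 1) → Nat.card (Subgroup.closure (S : Set H)) ≤ e ^ S.card)
    (h : IsPair a) (hZ : Subgroup.center H = ⊥) (N : Subgroup H) [N.Normal] (hN1 : N ≠ ⊥)
    (hmin : ∀ M : Subgroup H, M.Normal → M ≤ N → M = ⊥ ∨ M = N)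
    (hab : ∀ x ∈ N, ∀ y ∈ N, x * y = y * x) :
    Nat.card N ≤ (max 2 (Nat.card (JJ a))) ^ N.index := by
  classical
  obtain ⟨p, hp, hexp⟩ := exists_prime_exponent N hN1 hmin hab
  obtain ⟨v, hv, hne⟩ := exists_not_commute h hZ N hN1
  have hav : a * v * a⁻¹ ∈ N := ‹N.Normal›.conj_mem v hv a
  have hv1 : v ≠ 1 := by
    intro h1
    apply hne
    rw [h1]; group
  -- the bound for `p`
  have hpm : p ≤ max 2 (Nat.card (JJ a)) := by
    by_cases hp2 : p = 2
    · rw [hp2]; exact le_max_left _ _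
    · exact le_trans (prime_le_card_JJ h.sq N hp hp2 hexp hv hav hne) (le_max_right _ _)
  -- the conjugates of `v`
  let _ : Fintype (H ⧸ N) := Fintype.ofFinite _
  set S : Finset H := Finset.univ.image (fun q : H ⧸ N => q.out * v * q.out⁻¹) with hS
  have hSall : ∀ g : H, g * v * g⁻¹ ∈ S := by
    intro g
    rw [hS, Finset.mem_image]
    refine ⟨(g : H ⧸ N), Finset.mem_univ _, ?_⟩
    have h1 : ((g : H ⧸ N).out : H ⧸ N) = (g : H ⧸ N) := Quotient.out_eq' _
    have h2 : g⁻¹ * (g : H ⧸ N).out ∈ N := QuotientGroup.eq.mp h1.symm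
    set n := g⁻¹ * (g : H ⧸ N).out with hn
    have h3 : (g : H ⧸ N).out = g * n := by rw [hn]; group
    rw [h3]
    have h4 : n * v = v * n := hab n h2 v hv
    calc g * n * v * (g * n)⁻¹ = g * (n * v) * n⁻¹ * g⁻¹ := by group
      _ = g * (v * n) * n⁻¹ * g⁻¹ := by rw [h4]
      _ = g * v * g⁻¹ := by group
  have hSN : ∀ s ∈ S, s ∈ N := by
    intro s hs
    rw [hS, Finset.mem_image] at hs
    obtain ⟨q, -, rfl⟩ := hs
    exact ‹N.Normal›.conj_mem v hv _
  have hScard : S.card ≤ N.index := by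
    rw [Subgroup.index_eq_card, Nat.card_eq_fintype_card, ← Finset.card_univ]
    exact Finset.card_image_le
  -- the closure of `S` is `N`
  have hcl : Subgroup.closure (S : Set H) = N := by
    have h1 : (S : Set H) = Group.conjugatesOfSet ({v} : Set H) := by
      ext y
      rw [Group.mem_conjugatesOfSet_iff]
      constructor
      · intro hy
        rw [Finset.mem_coe, hS, Finset.mem_image] at hy
        obtain ⟨q, -, rfl⟩ := hy
        exact ⟨v, rfl, isConj_iff.mpr ⟨q.out, rfl⟩⟩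
      · rintro ⟨v', hv', hconj⟩
        rw [Set.mem_singleton_iff] at hv'
        subst hv'
        obtain ⟨c, rfl⟩ := isConj_iff.mp hconj
        exact hSall c
    have h2 : Subgroup.closure (S : Set H) = Subgroup.normalClosure ({v} : Set H) := by
      rw [h1]; rfl
    rw [h2]
    have h3 : Subgroup.normalClosure ({v} : Set H) ≤ N := by
      apply Subgroup.normalClosure_le_normal
      intro x hx
      rw [Set.mem_singleton_iff] at hx
      rw [hx]; exact hv
    rcases hmin _ Subgroup.normalClosure_normal h3 with h4 | h4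
    · exfalso
      apply hv1
      have : v ∈ Subgroup.normalClosure ({v} : Set H) :=
        Subgroup.subset_normalClosure (Set.mem_singleton v)
      rw [h4] at this
      exact Subgroup.mem_bot.mp this
    · exact h4
  have hbound := hH0 S (fun s hs t ht => hab s (hSN s hs) t (hSN t ht)) p hp.pos
    (fun s hs => hexp s (hSN s hs))
  rw [hcl] at hbound
  calc Nat.card N ≤ p ^ S.card := hbound
    _ ≤ p ^ N.index := Nat.pow_le_pow_right hp.pos hScard
    _ ≤ (max 2 (Nat.card (JJ a))) ^ N.index := Nat.pow_le_pow_left hpm _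

/-- LEAF H (abelian minimal normal subgroup). -/
theorem card_le_of_minimal_normal_abelian {H : Type*} [Group H] [Finite H] {a : H}
    (h : IsPair a) (hZ : Subgroup.center H = ⊥) (N : Subgroup H) [N.Normal] (hN1 : N ≠ ⊥)
    (hmin : ∀ M : Subgroup H, M.Normal → M ≤ N → M = ⊥ ∨ M = N)
    (hab : ∀ x ∈ N, ∀ y ∈ N, x * y = y * x) :
    Nat.card N ≤ (max 2 (Nat.card (JJ a))) ^ N.index :=
  card_le_of_minimal_normal_abelian_of
    (fun S hcomm e he hexp => Cfsg.Agent.Lib.Helper22.IAH0.card_closure_le_pow S hcomm e he hexp)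
    h hZ N hN1 hmin hab

end Cfsg.Agent.Lib.Helper23.IAH
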