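/-
helper23: if b (defect group D) induces B (defect group P) then Z(P) is G-conjugate into Z(D)
(`center_defectGroup_conj_of_induced`), and b has defect zero iff B has
(`blockDefect_zero_iff_of_induced`).  Also `IsPPart.conj`.
-/
import Mathlib
import Cfsg.Agent.Lib.Helper23.DefectConj
import Cfsg.Agent.Lib.Helper23.DefectClassValues
import Cfsg.Agent.Lib.Helper23.BrauerInduced
import Cfsg.Agent.Lib.Helper6.Osima2

set_option autoImplicit false
open Cfsg Cfsg.Agent.CharLib Cfsg.Agent.Lib.Helper24 Cfsg.Agent.Lib.Helper6 Cfsg.Agent.Lib.Helper25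
open scoped ComplexConjugate

namespace Cfsg.Agent.Lib.Helper23

universe u

section main

variable {G : Type u} [Group G] [Finite G] {M : Ideal AlgInt}

/-- Conjugating a `p`-part decomposition. -/
theorem IsPPart.conj {p : ℕ} {g x : G} (h : IsPPart p g x) (c : G) :
    IsPPart p (c * g * c⁻¹) (c * x * c⁻¹) := by
  obtain ⟨y, hxy, hcomm, ⟨k, hk⟩, hy⟩ := h
  refine ⟨c * y * c⁻¹, ?_, ?_, ⟨k, ?_⟩, ?_⟩
  · rw [← hxy]; group
  · have h1 : x * y = y * x := hcomm.eq
    show c * x * c⁻¹ * (c * y * c⁻¹) = c * y * c⁻¹ * (c * x * c⁻¹)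
    calc c * x * c⁻¹ * (c * y * c⁻¹) = c * (x * y) * c⁻¹ := by group
      _ = c * (y * x) * c⁻¹ := by rw [h1]
      _ = c * y * c⁻¹ * (c * x * c⁻¹) := by group
  · rw [← MulAut.conj_apply, MulEquiv.orderOf_eq, hk]
  · rw [← MulAut.conj_apply, MulEquiv.orderOf_eq]
    exact hy

/-- If `b` (defect group `D`) induces `B` (defect group `P`), then `Z(P) ≤_G Z(D)`. -/
theorem center_defectGroup_conj_of_induced (p : ℕ) [hpp : Fact p.Prime]
    (hM : Cfsg.IsPModular p M) (H : Subgroup G) (b : Set (Cfsg.IrrCharacter H))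
    (B : Set (Cfsg.IrrCharacter G)) (hind : Cfsg.IsInducedBlock M H b B) (D : Subgroup H)
    (hD : Cfsg.IsDefectGroup p M b D) (P : Subgroup G) (hP : Cfsg.IsDefectGroup p M B P) (x : G)
    (hx : x ∈ P) (hxc : ∀ w ∈ P, x * w = w * x) :
    ∃ g : G, g * x * g⁻¹ ∈ D.map H.subtype ∧
      ∀ w ∈ D.map H.subtype, (g * x * g⁻¹) * w = w * (g * x * g⁻¹) := by
  classical
  let _ := Fintype.ofFinite G
  let _ : Fintype H := Fintype.ofFinite H
  let _ : Fintype (ConjClasses H) := Fintype.ofFinite _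
  have hprime : M.IsPrime := isPrime_of_isPModular hM
  have hp : p.Prime := hpp.out
  have hPp : IsPGroup p P := isPGroup_of_isDefectGroup' p M B P hP
  obtain ⟨y, hy, S, hPS⟩ := hP
  -- `x` as an element of the Sylow subgroup `S` of `C(y)`
  have hxP : x ∈ (S : Subgroup (Subgroup.centralizer ({y} : Set G))).map
      (Subgroup.centralizer ({y} : Set G)).subtype := by rw [← hPS]; exact hx
  obtain ⟨x', hx'S, hx'x⟩ := hxP
  have hx'x' : ((x' : Subgroup.centralizer ({y} : Set G)) : G) = x := hx'x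
  have hcent : ∀ w ∈ (S : Subgroup (Subgroup.centralizer ({y} : Set G))), x' * w = w * x' := by
    intro w hw
    apply Subtype.ext
    rw [Subgroup.coe_mul, Subgroup.coe_mul, hx'x']
    apply hxc
    rw [hPS]
    exact ⟨w, hw, rfl⟩
  have hB : IsPBlock M B := hind.2.1
  have hvals := (defect_class_values p hM B hB y hy S x' hx'S).2 hcent
  rw [hx'x'] at hvals
  -- `y` is `p`-regular and commutes with `x`
  obtain ⟨χ₀, hBeq⟩ := hB
  have hyreg : ¬ p ∣ orderOf y := by
    intro hdiv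
    apply hy.2.1
    rw [hBeq, blockCoeff_eq_zero_of_dvd_orderOf hM χ₀ y hdiv]
    exact memLocalIdeal_zero hprime.one_notMem
  have hxy : Commute x y := by
    have := x'.2
    rw [Subgroup.mem_centralizer_singleton_iff] at this
    rw [hx'x'] at this
    exact this
  have hxp : ∃ k : ℕ, orderOf x = p ^ k := by
    obtain ⟨k, hk⟩ := (IsPGroup.iff_orderOf.mp hPp) ⟨x, hx⟩
    exact ⟨k, by rw [← hk, Subgroup.orderOf_mk]⟩
  have hpart : IsPPart p (x * y) x := ⟨y, rfl, hxy, hxp, hyreg⟩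
  -- pass to `H`
  have hχ₀ : χ₀ ∈ B := by rw [hBeq]; exact mem_blockOf_self χ₀
  obtain ⟨ξ, hξ⟩ : ∃ ξ : IrrCharacter H, ξ ∈ b := by
    obtain ⟨ξ₀, h⟩ := hind.1
    exact ⟨ξ₀, by rw [h]; exact mem_blockOf_self ξ₀⟩
  have h1 : ¬ MemLocalIdeal M (inducedCentralChar H (ξ : H → ℂ) (x * y)) := by
    intro hc
    apply hvals χ₀ hχ₀
    have h2 := hind.2.2 ξ hξ χ₀ hχ₀ (x * y)
    have h3 := memLocalIdeal_sub hc h2
    rwa [sub_sub_cancel] at h3
  rw [inducedCentralChar_eq_omegaFun, omegaFun_eq_sum_conjClasses ξ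
    (resFun_isClassFunction H (classInd_isClassFunction (x * y)))] at h1
  obtain ⟨C, hC⟩ : ∃ C : ConjClasses H, ¬ MemLocalIdeal M
      (resFun H (classInd (x * y)) (Quotient.out C) *
        centralChar (ξ : H → ℂ) (Quotient.out C)) := by
    by_contra hcon
    push Not at hcon
    exact h1 (sum_memLocalIdeal _ _ (fun C _ => hcon C))
  set h := Quotient.out C with hh
  have hconj : IsConj (x * y) (h : G) := by
    by_contra hne
    apply hC
    rw [resFun_apply]
    unfold classInd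
    rw [if_neg hne, zero_mul]
    exact memLocalIdeal_zero hprime.one_notMem
  have hωh : ¬ MemLocalIdeal M (centralChar (ξ : H → ℂ) h) := by
    intro hc
    apply hC
    exact memLocalIdeal_mul_left (memLocalRing_classInd (x * y) _) hc
  obtain ⟨h', hhh', hh'D, hh'part⟩ :=
    conj_centralizes_defectGroup p hM b hind.1 D hD h ⟨ξ, hξ, hωh⟩
  -- `h'` is conjugate in `G` to `x * y`
  obtain ⟨c₁, hc₁⟩ := isConj_iff.mp hconj
  obtain ⟨c₂, hc₂⟩ := isConj_iff.mp hhh'
  set c := (c₂ : G) * c₁ with hc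
  have hcg : c * (x * y) * c⁻¹ = (h' : G) := by
    have h2 : ((c₂ * h * c₂⁻¹ : H) : G) = (h' : G) := by rw [hc₂]
    rw [← h2, Subgroup.coe_mul, Subgroup.coe_mul, Subgroup.coe_inv, ← hc₁, hc]
    group
  have hpart' : IsPPart p (h' : G) (c * x * c⁻¹) := by
    rw [← hcg]
    exact IsPPart.conj hpart c
  obtain ⟨k, hk⟩ := IsPPart.eq_mul_inv_pow hpart'
  have hzH : c * x * c⁻¹ ∈ H := by
    rw [hk]
    exact H.mul_mem h'.2 (H.inv_mem (H.pow_mem h'.2 k))
  -- the `p`-part in `H`
  have hpartH : IsPPart p h' (⟨c * x * c⁻¹, hzH⟩ : H) := by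
    obtain ⟨y', hxy', hcomm', ⟨j, hj⟩, hy'⟩ := hpart'
    have hy'H : y' ∈ H := by
      have h3 : y' = (c * x * c⁻¹)⁻¹ * (h' : G) := by rw [← hxy']; group
      rw [h3]
      exact H.mul_mem (H.inv_mem hzH) h'.2
    refine ⟨⟨y', hy'H⟩, Subtype.ext hxy', ?_, ⟨j, ?_⟩, ?_⟩
    · exact Subtype.ext hcomm'.eq
    · rw [← hj, ← Subgroup.orderOf_coe]
    · rw [← Subgroup.orderOf_coe]
      exact hy'
  obtain ⟨hzD, hzDc⟩ := hh'part _ hpartH
  refine ⟨c, ⟨_, hzD, rfl⟩, ?_⟩
  rintro _ ⟨w, hw, rfl⟩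
  have := hzDc w hw
  exact congrArg Subtype.val this

/-- If `b` induces `B`, then `b` has defect zero iff `B` has defect zero. -/
theorem blockDefect_zero_iff_of_induced (p : ℕ) [hpp : Fact p.Prime] (hM : Cfsg.IsPModular p M)
    (H : Subgroup G) (b : Set (Cfsg.IrrCharacter H)) (B : Set (Cfsg.IrrCharacter G))
    (hind : Cfsg.IsInducedBlock M H b B) :
    Cfsg.blockDefect p b = 0 ↔ Cfsg.blockDefect p B = 0 := by
  have hp : p.Prime := hpp.out
  obtain ⟨D, hD⟩ := exists_isDefectGroup (p := p) hM b hind.1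
  obtain ⟨P, hP⟩ := exists_isDefectGroup (p := p) hM B hind.2.1
  have hDcard := card_defectGroup_eq hM b hind.1 D hD
  have hPcard := card_defectGroup_eq hM B hind.2.1 P hP
  have hPp : IsPGroup p P := isPGroup_of_isDefectGroup' p M B P hP
  constructor
  · intro h0
    rw [h0, pow_zero] at hDcard
    have hDbot : D = ⊥ := Subgroup.card_eq_one.mp hDcard
    by_contra hne
    have hPnt : Nontrivial P := by
      rw [← Finite.one_lt_card_iff_nontrivial, hPcard]
      exact Nat.one_lt_pow hne hp.one_lt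
    have hcen := hPp.center_nontrivial
    obtain ⟨z, hz⟩ := exists_ne (1 : Subgroup.center P)
    have hzP : ((z : P) : G) ∈ P := (z : P).2
    have hzc : ∀ w ∈ P, ((z : P) : G) * w = w * ((z : P) : G) := by
      intro w hw
      have := Subgroup.mem_center_iff.mp z.2 ⟨w, hw⟩
      exact (congrArg Subtype.val this).symm
    obtain ⟨g, hg, -⟩ :=
      center_defectGroup_conj_of_induced p hM H b B hind D hD P hP _ hzP hzc
    rw [hDbot, Subgroup.map_bot, Subgroup.mem_bot] at hg
    apply hz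
    have h1 : ((z : P) : G) = 1 := by
      have := congrArg (fun t => g⁻¹ * t * g) hg
      simpa [mul_assoc] using this
    apply Subtype.ext
    apply Subtype.ext
    exact h1
  · intro h0
    rw [h0, pow_zero] at hPcard
    obtain ⟨E, hE, hDE⟩ := exists_defectGroup_ge_of_induced hM H b B hind D hD
    have hEcard := card_defectGroup_eq hM B hind.2.1 E hE
    rw [h0, pow_zero] at hEcard
    have hEbot : E = ⊥ := Subgroup.card_eq_one.mp hEcard
    rw [hEbot, le_bot_iff] at hDE
    have hD1 : Nat.card D = 1 := by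
      rw [← Subgroup.card_map_of_injective (Subgroup.subtype_injective H), hDE, Subgroup.card_bot]
    rw [hD1] at hDcard
    by_contra hne
    have := Nat.one_lt_pow hne hp.one_lt
    omega

end main

end Cfsg.Agent.Lib.Helper23
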