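import Mathlib
import Cfsg.Agent.Lib.Helper24.BrauerPairs2
import Cfsg.Agent.Lib.Helper6.Clifford
import Cfsg.Agent.Lib.Helper6.NormalBlock
import Cfsg.Agent.Lib.Helper6.FirstMain
import Cfsg.Agent.Lib.Lead.BlockBasic
import Cfsg.Agent.Lib.Lead.ConvAlg
import Cfsg.Agent.S0938

/-!
helper23: the averaging idempotent of a normal `p'`-subgroup, kernels of blocks, and the behaviour
of kernels under the Brauer map.
-/

set_option autoImplicit false

namespace Cfsg.Agent.Lib.Helper23.KerPair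

open Cfsg Cfsg.Agent.CharLib Cfsg.Agent.Lib.Helper24 Cfsg.Agent.Lib.Helper6
open scoped ComplexConjugate

universe u

section eps

variable {X : Type u} [Group X]

/-- The averaging idempotent of the subgroup `K`, as a function on the group. -/
noncomputable def epsFun (K : Subgroup X) : X → ℂ :=
  fun x => by classical exact if x ∈ K then (Nat.card K : ℂ)⁻¹ else 0

theorem epsFun_of_mem (K : Subgroup X) {x : X} (hx : x ∈ K) :
    epsFun K x = (Nat.card K : ℂ)⁻¹ := by
  unfold epsFun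
  rw [if_pos hx]

theorem epsFun_of_not_mem (K : Subgroup X) {x : X} (hx : x ∉ K) : epsFun K x = 0 := by
  unfold epsFun
  rw [if_neg hx]

theorem epsFun_conjInv (S K : Subgroup X) (h : S ≤ Subgroup.normalizer (K : Set X)) :
    ConjInv S (epsFun K) := by
  intro u hu x
  have h1 : u * x * u⁻¹ ∈ K ↔ x ∈ K := (Subgroup.mem_normalizer_iff.mp (h hu) x).symm
  by_cases hx : x ∈ K
  · rw [epsFun_of_mem K hx, epsFun_of_mem K (h1.mpr hx)]
  · rw [epsFun_of_not_mem K hx, epsFun_of_not_mem K (fun h2 => hx (h1.mp h2))]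

theorem epsFun_isClassFunction (K : Subgroup X) [hK : K.Normal] :
    IsClassFunction X (epsFun K) := by
  intro g h
  have h1 : h * g * h⁻¹ ∈ K ↔ g ∈ K := by
    constructor
    · intro h2
      have := hK.conj_mem _ h2 h⁻¹
      simpa [mul_assoc] using this
    · intro h2
      exact hK.conj_mem _ h2 h
  by_cases hx : g ∈ K
  · rw [epsFun_of_mem K hx, epsFun_of_mem K (h1.mpr hx)]
  · rw [epsFun_of_not_mem K hx, epsFun_of_not_mem K (fun h2 => hx (h1.mp h2))]

theorem memLocalRing_epsFun {M : Ideal AlgInt} {p : ℕ} (hM : IsPModular p M) (K : Subgroup X)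
    (hK : ¬ p ∣ Nat.card K) (x : X) : MemLocalRing M (epsFun K x) := by
  have hprime : M.IsPrime := isPrime_of_isPModular hM
  by_cases hx : x ∈ K
  · rw [epsFun_of_mem K hx]
    exact memLocalRing_inv_natCast_of_not_dvd hM hK
  · rw [epsFun_of_not_mem K hx]
    exact memLocalRing_zero

end eps

section omega

variable {X : Type u} [Group X] [Fintype X]

/-- The value of the central character at the averaging idempotent, as an inner product. -/
theorem omegaFun_epsFun (ξ : IrrCharacter X) (K : Subgroup X) [Fintype K] :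
    omegaFun (ξ : X → ℂ) (epsFun K) =
      classInner (resFun K (ξ : X → ℂ)) (1 : K → ℂ) / (ξ : X → ℂ) 1 := by
  classical
  unfold omegaFun classInner
  congr 1
  rw [Finset.mul_sum]
  have h1 : ∑ g : X, epsFun K g * (ξ : X → ℂ) g =
      ∑ g : X, if g ∈ K then (Nat.card K : ℂ)⁻¹ * (ξ : X → ℂ) g else 0 := by
    apply Finset.sum_congr rfl
    intro g _
    by_cases hg : g ∈ K
    · rw [if_pos hg, epsFun_of_mem K hg]
    · rw [if_neg hg, epsFun_of_not_mem K hg, zero_mul]
  rw [h1, ← Finset.sum_filter]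
  have h2 : ∑ k : K, (Nat.card K : ℂ)⁻¹ * (resFun K (ξ : X → ℂ) k * conj ((1 : K → ℂ) k)) =
      ∑ k : K, (Nat.card K : ℂ)⁻¹ * (ξ : X → ℂ) (k : X) := by
    apply Finset.sum_congr rfl
    intro k _
    rw [resFun_apply]
    simp
  rw [h2]
  symm
  apply Finset.sum_bij (fun (k : K) _ => (k : X))
  · intro k _
    rw [Finset.mem_filter]
    exact ⟨Finset.mem_univ _, k.2⟩
  · intro a _ b _ hab
    exact Subtype.ext hab
  · intro g hg
    rw [Finset.mem_filter] at hg
    exact ⟨⟨g, hg.2⟩, Finset.mem_univ _, rfl⟩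
  · intro k _
    rfl

theorem omegaFun_epsFun_of_le_ker (ξ : IrrCharacter X) (K : Subgroup X)
    (h : ∀ k ∈ K, (ξ : X → ℂ) k = (ξ : X → ℂ) 1) : omegaFun (ξ : X → ℂ) (epsFun K) = 1 := by
  classical
  let _ : Fintype K := Fintype.ofFinite K
  rw [omegaFun_epsFun]
  unfold classInner
  have h2 : ∀ n : K, resFun K (ξ : X → ℂ) n * conj ((1 : K → ℂ) n) = (ξ : X → ℂ) 1 := by
    intro n
    rw [resFun_apply, h n n.2]
    simp
  rw [Finset.sum_congr rfl (fun n _ => h2 n), Finset.sum_const, Finset.card_univ, nsmul_eq_mul,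
    ← Nat.card_eq_fintype_card]
  have hN0 : (Nat.card K : ℂ) ≠ 0 := Nat.cast_ne_zero.mpr Nat.card_pos.ne'
  rw [← mul_assoc, inv_mul_cancel₀ hN0, one_mul]
  exact div_self (irr_apply_one_ne_zero ξ)

theorem omegaFun_epsFun_of_not_le_ker (ξ : IrrCharacter X) (K : Subgroup X) [hK : K.Normal]
    (h : ¬ ∀ k ∈ K, (ξ : X → ℂ) k = (ξ : X → ℂ) 1) : omegaFun (ξ : X → ℂ) (epsFun K) = 0 := by
  classical
  let _ : Fintype K := Fintype.ofFinite K
  rw [omegaFun_epsFun]
  by_cases h0 : classInner (resFun K (ξ : X → ℂ)) (1 : K → ℂ) = 0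
  · rw [h0, zero_div]
  · exfalso
    apply h
    have h3 := clifford_of_invariant K ξ.2 (isIrrCharacter_one K) h0 (fun g => rfl)
    intro n hn
    have h4 := congrFun h3 ⟨n, hn⟩
    have h5 := congrFun h3 1
    rw [resFun_apply] at h4 h5
    rw [Pi.smul_apply] at h4 h5
    change (ξ : X → ℂ) n = _ at h4
    change (ξ : X → ℂ) 1 = _ at h5
    rw [h4, h5]
    rfl

/-- The value is `0` or `1`. -/
theorem omegaFun_epsFun_eq (ξ : IrrCharacter X) (K : Subgroup X) [hK : K.Normal] :
    omegaFun (ξ : X → ℂ) (epsFun K) =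
      by classical exact if ∀ k ∈ K, (ξ : X → ℂ) k = (ξ : X → ℂ) 1 then 1 else 0 := by
  classical
  by_cases h : ∀ k ∈ K, (ξ : X → ℂ) k = (ξ : X → ℂ) 1
  · rw [if_pos h]; exact omegaFun_epsFun_of_le_ker ξ K h
  · rw [if_neg h]; exact omegaFun_epsFun_of_not_le_ker ξ K h

end omega

end Cfsg.Agent.Lib.Helper23.KerPair
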