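import Mathlib
import Cfsg.Agent.Lib.Helper23.KerPairA

/-!
helper23: kernels of blocks versus the Brauer map: the key congruence.
-/

set_option autoImplicit false

namespace Cfsg.Agent.Lib.Helper23.KerPair

open Cfsg Cfsg.Agent.CharLib Cfsg.Agent.Lib.Helper24 Cfsg.Agent.Lib.Helper6
open scoped ComplexConjugate

universe u

section count

variable {G : Type u} [Group G] [Finite G]

/-- A `p`-group `R` normalizing `K`: `|K| ≡ |C_K(R)|` modulo `p`. -/
theorem card_modEq_card_subgroupOf_centralizer {p : ℕ} [hpp : Fact p.Prime] (R K : Subgroup G)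
    (hR : IsPGroup p R) (h : R ≤ Subgroup.normalizer (K : Set G)) :
    Nat.card K ≡ Nat.card (K.subgroupOf (Subgroup.centralizer (R : Set G))) [MOD p] := by
  classical
  let act : MulAction R K :=
    { smul := fun r k => ⟨(r : G) * (k : G) * (r : G)⁻¹,
        (Subgroup.mem_normalizer_iff.mp (h r.2) k).mp k.2⟩
      one_smul := fun k => by
        apply Subtype.ext
        change ((1 : R) : G) * (k : G) * ((1 : R) : G)⁻¹ = (k : G)
        simp
      mul_smul := fun r s k => by
        apply Subtype.ext
        change ((r * s : R) : G) * (k : G) * ((r * s : R) : G)⁻¹ =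
          (r : G) * ((s : G) * (k : G) * (s : G)⁻¹) * (r : G)⁻¹
        simp [mul_assoc] }
  have h1 := hR.card_modEq_card_fixedPoints (α := K)
  have hsmul : ∀ (r : R) (k : K), ((r • k : K) : G) = (r : G) * (k : G) * (r : G)⁻¹ :=
    fun r k => rfl
  have h2 : Nat.card (MulAction.fixedPoints R K) =
      Nat.card (K.subgroupOf (Subgroup.centralizer (R : Set G))) := by
    apply Nat.card_congr
    refine
      { toFun := fun k => ⟨⟨((k : K) : G), ?_⟩, ?_⟩
        invFun := fun c => ⟨⟨((c : Subgroup.centralizer (R : Set G)) : G), ?_⟩, ?_⟩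
        left_inv := fun k => rfl
        right_inv := fun c => rfl }
    · rw [Subgroup.mem_centralizer_iff]
      intro r hr
      have h3 := k.2 ⟨r, hr⟩
      have h4 : (r : G) * ((k : K) : G) * (r : G)⁻¹ = ((k : K) : G) := by
        rw [← hsmul ⟨r, hr⟩ (k : K), h3]
      calc r * ((k : K) : G) = (r * ((k : K) : G) * r⁻¹) * r := by group
        _ = ((k : K) : G) * r := by rw [h4]
    · rw [Subgroup.mem_subgroupOf]
      exact (k : K).2
    · exact Subgroup.mem_subgroupOf.mp c.2
    · intro r
      apply Subtype.ext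
      rw [hsmul]
      have h3 := Subgroup.mem_centralizer_iff.mp (c : Subgroup.centralizer (R : Set G)).2
        (r : G) r.2
      change (r : G) * ((c : Subgroup.centralizer (R : Set G)) : G) * (r : G)⁻¹ =
        ((c : Subgroup.centralizer (R : Set G)) : G)
      rw [h3, mul_assoc, mul_inv_cancel, mul_one]
  rw [← h2]
  exact h1

end count

section key

variable {G : Type u} [Group G] [Fintype G] {M : Ideal AlgInt} {p : ℕ} [hpp : Fact p.Prime]

/-- Restriction of the averaging idempotent to a subgroup. -/
theorem resFun_epsFun (C K : Subgroup G) :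
    resFun C (epsFun K) =
      ((Nat.card (K.subgroupOf C) : ℂ) / (Nat.card K : ℂ)) • epsFun (K.subgroupOf C) := by
  funext x
  rw [resFun_apply, Pi.smul_apply, smul_eq_mul]
  by_cases hx : (x : G) ∈ K
  · rw [epsFun_of_mem K hx, epsFun_of_mem (K.subgroupOf C) (Subgroup.mem_subgroupOf.mpr hx)]
    have h0 : (Nat.card (K.subgroupOf C) : ℂ) ≠ 0 := Nat.cast_ne_zero.mpr Nat.card_pos.ne'
    field_simp
  · rw [epsFun_of_not_mem K hx,
      epsFun_of_not_mem (K.subgroupOf C) (fun h => hx (Subgroup.mem_subgroupOf.mp h)), mul_zero]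

/-- **Key congruence.** Let `R` be a `p`-subgroup, `K` a `p'`-subgroup normalized by `R` and by
`C_G(R)`, `β` a function invariant under `R` and `C_G(R)` with `β * ε_K = t β`, and `ξ` an
irreducible character of `C_G(R)` whose central character takes the value `1` (modulo the local
ideal) at the Brauer image of `β`.  Then `t` is congruent to the value of the central character of
`ξ` at the averaging idempotent of `C_K(R)`. -/
theorem key (hM : IsPModular p M) (R : Subgroup G) (hR : IsPGroup p R) (K : Subgroup G)
    (hKp : ¬ p ∣ Nat.card K) (hKR : R ≤ Subgroup.normalizer (K : Set G))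
    (hKC : Subgroup.centralizer (R : Set G) ≤ Subgroup.normalizer (K : Set G))
    (β : G → ℂ) (hβR : ConjInv R β) (hβC : ConjInv (Subgroup.centralizer (R : Set G)) β)
    (hβL : ∀ x, MemLocalRing M (β x)) (t : ℂ) (htL : MemLocalRing M t)
    (ht : conv β (epsFun K) = t • β) [Fintype (Subgroup.centralizer (R : Set G))] :
    ∀ ξ : IrrCharacter (Subgroup.centralizer (R : Set G)),
    MemLocalIdeal M (omegaFun (ξ : Subgroup.centralizer (R : Set G) → ℂ)
      (resFun (Subgroup.centralizer (R : Set G)) β) - 1) →
    MemLocalIdeal M (t - omegaFun (ξ : Subgroup.centralizer (R : Set G) → ℂ)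
      (epsFun (K.subgroupOf (Subgroup.centralizer (R : Set G))))) := by
  classical
  have hprime : M.IsPrime := isPrime_of_isPModular hM
  intro ξ hξ
  have hεR : ConjInv R (epsFun K) := epsFun_conjInv R K hKR
  have hεC : ConjInv (Subgroup.centralizer (R : Set G)) (epsFun K) := epsFun_conjInv (Subgroup.centralizer (R : Set G)) K hKC
  have hεL : ∀ x, MemLocalRing M (epsFun K x) := memLocalRing_epsFun hM K hKp
  have h1 := memLocalIdeal_brauer_conv_of_conjInv hM R hR hβR hβC hβL hεR hεC hεL ξ
  rw [ht, map_smul, omegaFun_smul, resFun_epsFun, omegaFun_smul] at h1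
  set a := omegaFun (ξ : (Subgroup.centralizer (R : Set G)) → ℂ) (resFun (Subgroup.centralizer (R : Set G)) β) with ha
  set w := omegaFun (ξ : (Subgroup.centralizer (R : Set G)) → ℂ) (epsFun (K.subgroupOf (Subgroup.centralizer (R : Set G)))) with hw
  set c : ℂ := (Nat.card (K.subgroupOf (Subgroup.centralizer (R : Set G))) : ℂ) / (Nat.card K : ℂ) with hc
  -- memberships
  have haL : MemLocalRing M a :=
    memLocalRing_omegaFun ξ (resFun_isClassFunction_of_conjInv _ hβC) (fun x => hβL _)
  have hKCn : (K.subgroupOf (Subgroup.centralizer (R : Set G))).Normal := by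
    constructor
    intro n hn g
    rw [Subgroup.mem_subgroupOf] at hn ⊢
    have := (Subgroup.mem_normalizer_iff.mp (hKC g.2) (n : G)).mp hn
    simpa using this
  have hdvd : Nat.card (K.subgroupOf (Subgroup.centralizer (R : Set G))) ∣ Nat.card K := by
    have h2 : Nat.card (K.subgroupOf (Subgroup.centralizer (R : Set G))) = Nat.card (K ⊓ (Subgroup.centralizer (R : Set G)) : Subgroup G) := by
      rw [← Subgroup.inf_subgroupOf_right]
      exact Nat.card_congr (Subgroup.subgroupOfEquivOfLe inf_le_right).toEquiv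
    rw [h2]
    exact Subgroup.card_dvd_of_le inf_le_left
  have hKCp : ¬ p ∣ Nat.card (K.subgroupOf (Subgroup.centralizer (R : Set G))) := fun h => hKp (h.trans hdvd)
  have hwL : MemLocalRing M w :=
    memLocalRing_omegaFun ξ (epsFun_isClassFunction (K.subgroupOf (Subgroup.centralizer (R : Set G))))
      (memLocalRing_epsFun hM (K.subgroupOf (Subgroup.centralizer (R : Set G))) hKCp)
  have hK0 : (Nat.card K : ℂ) ≠ 0 := Nat.cast_ne_zero.mpr Nat.card_pos.ne'
  have hcL : MemLocalRing M c := by
    rw [hc, div_eq_mul_inv]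
    exact memLocalRing_mul (memLocalRing_natCast _) (memLocalRing_inv_natCast_of_not_dvd hM hKp)
  have hc1 : MemLocalIdeal M (c - 1) := by
    have hmod := card_modEq_card_subgroupOf_centralizer R K hR hKR
    obtain ⟨m, hm⟩ := (Nat.modEq_iff_dvd.mp hmod)
    have h5 : c - 1 = ((p : ℂ) * (m : ℂ)) * (Nat.card K : ℂ)⁻¹ := by
      rw [hc]
      have h6 : ((Nat.card (K.subgroupOf (Subgroup.centralizer (R : Set G))) : ℂ) - (Nat.card K : ℂ)) = (p : ℂ) * (m : ℂ) := by
        exact_mod_cast congrArg (fun z : ℤ => (z : ℂ)) hm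
      field_simp
      rw [← h6]
    rw [h5]
    apply memLocalIdeal_mul_right _ (memLocalRing_inv_natCast_of_not_dvd hM hKp)
    exact memLocalIdeal_mul_right (memLocalIdeal_natCast_of_dvd hM (dvd_refl p))
      (memLocalRing_intCast _)
  -- combine
  have e1 : t - w = (t * a - a * (c * w)) - t * (a - 1) + w * ((a - 1) * c + (c - 1)) := by ring
  rw [e1]
  apply memLocalIdeal_add
  · apply memLocalIdeal_sub h1
    exact memLocalIdeal_mul_left htL hξ
  · apply memLocalIdeal_mul_left hwL
    apply memLocalIdeal_add
    · exact memLocalIdeal_mul_right hξ hcL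
    · exact hc1

end key

end Cfsg.Agent.Lib.Helper23.KerPair
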