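import Mathlib
import Cfsg.Agent.Lib.Helper23.KerPairB
import Cfsg.Agent.Lib.Helper23.HeightZeroC
import Cfsg.Agent.Lib.Helper24.PrincipalPairs
import Cfsg.Agent.Lib.Helper24.MaxPair

/-!
helper23: kernels of blocks and Brauer pairs: a normal `p'`-subgroup `K` lies in the kernel of a
block iff `C_K(Q)` lies in the kernel of the block of a Brauer pair `(Q, f)`; the same along a normal
inclusion of Brauer pairs.
-/

set_option autoImplicit false

namespace Cfsg.Agent.Lib.Helper23.KerPair

open Cfsg Cfsg.Agent.CharLib Cfsg.Agent.Lib.Helper24 Cfsg.Agent.Lib.Helper6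
open scoped ComplexConjugate

universe u

section kerle

variable {X : Type u} [Group X]

/-- `K` lies in the kernel of every member of `f`. -/
def KerLE (f : Set (IrrCharacter X)) (K : Subgroup X) : Prop :=
  ∀ k ∈ K, ∀ θ ∈ f, (θ : X → ℂ) k = (θ : X → ℂ) 1

theorem KerLE.mono {f : Set (IrrCharacter X)} {K K' : Subgroup X} (h : KerLE f K) (hle : K' ≤ K) :
    KerLE f K' := fun k hk θ hθ => h k (hle hk) θ hθ

variable [Fintype X] {M : Ideal AlgInt} {p : ℕ} [hpp : Fact p.Prime]

theorem kerLE_iff_of_mem (hM : IsPModular p M) {f : Set (IrrCharacter X)} (hf : IsPBlock M f)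
    (K : Subgroup X) [hK : K.Normal] (hKp : ¬ p ∣ Nat.card K) {θ : IrrCharacter X} (hθ : θ ∈ f) :
    KerLE f K ↔ ∀ k ∈ K, (θ : X → ℂ) k = (θ : X → ℂ) 1 := by
  constructor
  · intro h k hk
    exact h k hk θ hθ
  · intro h k hk θ' hθ'
    exact Cfsg.Agent.S0938.le_ker_of_sameBlock hM K hKp θ θ'
      (Cfsg.Agent.Lib.Helper23.sameBlock_of_mem hM hf hθ hθ') h k hk

/-- The product of a block idempotent with the averaging idempotent of a normal `p'`-subgroup. -/
theorem conv_blockCoeff_epsFun (hM : IsPModular p M) {f : Set (IrrCharacter X)}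
    (hf : IsPBlock M f) (K : Subgroup X) [hK : K.Normal] (hKp : ¬ p ∣ Nat.card K) :
    conv (blockCoeff f) (epsFun K) =
      (by classical exact if KerLE f K then (1 : ℂ) else 0) • blockCoeff f := by
  classical
  have hcls : IsClassFunction X (blockCoeff f) := blockCoeff_isClassFunction f
  have hεcls : IsClassFunction X (epsFun K) := epsFun_isClassFunction K
  apply eq_of_omegaFun_eq (conv_isClassFunction hcls hεcls)
  · intro g h
    rw [Pi.smul_apply, Pi.smul_apply, hcls g h]
  intro θ
  rw [omegaFun_conv θ hcls hεcls, omegaFun_smul, omegaFun_blockCoeff]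
  by_cases hθ : θ ∈ f
  · rw [if_pos hθ, one_mul, mul_one, omegaFun_epsFun_eq]
    have := kerLE_iff_of_mem hM hf K hKp hθ
    by_cases h : KerLE f K
    · rw [if_pos h, if_pos (this.mp h)]
    · rw [if_neg h, if_neg (fun h' => h (this.mpr h'))]
  · rw [if_neg hθ, zero_mul, mul_zero]

end kerle

section ambient

variable {X : Type u} [Group X] [Fintype X] {M : Ideal AlgInt} {p : ℕ} [hpp : Fact p.Prime]

/-- Two numbers in `{0, 1}` congruent modulo the local ideal are equal. -/
theorem ite_eq_of_memLocalIdeal [hprime : M.IsPrime] {P Q : Prop} [Decidable P] [Decidable Q]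
    (h : MemLocalIdeal M ((if P then (1 : ℂ) else 0) - (if Q then (1 : ℂ) else 0))) : P ↔ Q := by
  by_cases hP : P <;> by_cases hQ : Q
  · exact ⟨fun _ => hQ, fun _ => hP⟩
  · exfalso
    rw [if_pos hP, if_neg hQ, sub_zero] at h
    exact not_memLocalIdeal_one h
  · exfalso
    rw [if_neg hP, if_pos hQ, zero_sub] at h
    have := memLocalIdeal_neg h
    rw [neg_neg] at this
    exact not_memLocalIdeal_one this
  · exact ⟨fun h' => absurd h' hP, fun h' => absurd h' hQ⟩

/-- **Kernels and Brauer pairs.** For a normal `p'`-subgroup `K` and a Brauer pair `(Q, f)` of the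
block `B`: `K ≤ Ker B` iff `C_K(Q) ≤ Ker f`. -/
theorem kerLE_iff_of_isBrauerPairOf (hM : IsPModular p M) (B : Set (IrrCharacter X))
    (Q : Subgroup X) (f : Set (IrrCharacter (Subgroup.centralizer (Q : Set X))))
    (hQf : IsBrauerPairOf p M B Q f) (K : Subgroup X) [hK : K.Normal] (hKp : ¬ p ∣ Nat.card K) :
    KerLE B K ↔ KerLE f (K.subgroupOf (Subgroup.centralizer (Q : Set X))) := by
  classical
  have hprime : M.IsPrime := isPrime_of_isPModular hM
  let _ : Fintype (Subgroup.centralizer (Q : Set X)) := Fintype.ofFinite _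
  obtain ⟨⟨hQp, hf⟩, hB, hom⟩ := hQf
  obtain ⟨ξ, hfξ⟩ := hf
  have hξ : ξ ∈ f := by rw [hfξ]; exact mem_blockOf_self ξ
  have hcls : IsClassFunction X (blockCoeff B) := blockCoeff_isClassFunction B
  have heR : ∀ x, MemLocalRing M (blockCoeff B x) := by
    obtain ⟨χ₀, rfl⟩ := hB
    exact memLocalRing_blockCoeff_blockOf χ₀
  have hKn : ∀ S : Subgroup X, S ≤ Subgroup.normalizer (K : Set X) := by
    intro S x _
    rw [Subgroup.mem_normalizer_iff]
    intro k
    constructor
    · intro hk
      exact hK.conj_mem k hk x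
    · intro hk
      have := hK.conj_mem _ hk x⁻¹
      simpa [mul_assoc] using this
  have hω := hom ξ hξ
  rw [brauerOmega_eq] at hω
  have h1 := key hM Q hQp K hKp (hKn _) (hKn _) (blockCoeff B)
    (ConjInv.of_isClassFunction Q hcls) (ConjInv.of_isClassFunction _ hcls) heR
    (if KerLE B K then (1 : ℂ) else 0)
    (by split_ifs; exact memLocalRing_one; exact memLocalRing_zero)
    (conv_blockCoeff_epsFun hM hB K hKp) ξ hω
  have hKC : (K.subgroupOf (Subgroup.centralizer (Q : Set X))).Normal := hK.subgroupOf _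
  rw [omegaFun_epsFun_eq] at h1
  have h2 := ite_eq_of_memLocalIdeal h1
  have hKCp : ¬ p ∣ Nat.card (K.subgroupOf (Subgroup.centralizer (Q : Set X))) := by
    intro h
    apply hKp
    have h3 : Nat.card (K.subgroupOf (Subgroup.centralizer (Q : Set X))) =
        Nat.card (K ⊓ Subgroup.centralizer (Q : Set X) : Subgroup X) := by
      rw [← Subgroup.inf_subgroupOf_right]
      exact Nat.card_congr (Subgroup.subgroupOfEquivOfLe inf_le_right).toEquiv
    rw [h3] at h
    exact h.trans (Subgroup.card_dvd_of_le inf_le_left)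
  rw [h2]
  exact (kerLE_iff_of_mem hM ⟨ξ, hfξ⟩ _ hKCp hξ).symm

end ambient

end Cfsg.Agent.Lib.Helper23.KerPair
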