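import Mathlib
import Cfsg.Agent.Lib.Helper24.InducedTrans
import Cfsg.Agent.Lib.Helper24.StabTransport
import Cfsg.Agent.Lib.Helper6.BlockIso

/-!
helper23: S4638 leaf (NSIDE) - a root `b'` in `C_N(P)` of the block `c` of `N = N_G(P)` transports to a
root `b` in `C_G(P)` of `B = c^G`, with the same stabilizer in `N`.
-/

set_option autoImplicit false

namespace Cfsg.Agent.Lib.Helper23.KleinPINSIDE

open Cfsg Cfsg.Agent.CharLib Cfsg.Agent.Lib.Helper24 Cfsg.Agent.Lib.Helper6
open scoped ComplexConjugate

universe u

section aux

variable {G : Type u} [Group G]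

theorem map_subgroupOf_normalizer (P : Subgroup G) :
    P = (P.subgroupOf (Subgroup.normalizer (P : Set G))).map
      (Subgroup.normalizer (P : Set G)).subtype := by
  rw [Subgroup.map_subgroupOf_eq_of_le Subgroup.le_normalizer]

theorem centralizer_le_normalizer' (P : Subgroup G) :
    Subgroup.centralizer (P : Set G) ≤ Subgroup.normalizer (P : Set G) :=
  Subgroup.centralizer_le_normalizer (P : Set G)

/-- An element normalizing `P` normalizes `C_G(P)`. -/
theorem mem_normalizer_centralizer {P : Subgroup G} {g : G}
    (hg : g ∈ Subgroup.normalizer (P : Set G)) :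
    g ∈ Subgroup.normalizer ((Subgroup.centralizer (P : Set G) : Subgroup G) : Set G) := by
  have key : ∀ (a : G), a ∈ Subgroup.normalizer (P : Set G) → ∀ h : G,
      h ∈ Subgroup.centralizer (P : Set G) → a * h * a⁻¹ ∈ Subgroup.centralizer (P : Set G) := by
    intro a ha h hh
    rw [Subgroup.mem_centralizer_iff]
    intro y hy
    have hy' : a⁻¹ * y * a ∈ P := by
      have := (Subgroup.mem_normalizer_iff.mp ha (a⁻¹ * y * a)).mpr
      apply this
      have e : a * (a⁻¹ * y * a) * a⁻¹ = y := by group
      rw [e]; exact hy
    have hc := Subgroup.mem_centralizer_iff.mp hh (a⁻¹ * y * a) hy'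
    calc y * (a * h * a⁻¹) = a * ((a⁻¹ * y * a) * h) * a⁻¹ := by group
      _ = a * (h * (a⁻¹ * y * a)) * a⁻¹ := by rw [hc]
      _ = a * h * a⁻¹ * y := by group
  rw [Subgroup.mem_normalizer_iff]
  intro h
  constructor
  · exact key g hg h
  · intro hh
    have := key g⁻¹ (inv_mem hg) _ hh
    have e : g⁻¹ * (g * h * g⁻¹) * g⁻¹⁻¹ = h := by group
    rwa [e] at this

end aux

section main

variable {G : Type u} [Group G] [Fintype G] {M : Ideal AlgInt}

theorem exists_root_transport
    {p : ℕ} [hpp : Fact p.Prime] (hM : IsPModular p M)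
    (B : Set (IrrCharacter G)) (P : Subgroup G)
    (c : Set (IrrCharacter (Subgroup.normalizer (P : Set G))))
    (hc : IsInducedBlock M (Subgroup.normalizer (P : Set G)) c B)
    (b' : Set (IrrCharacter (Subgroup.centralizer
      ((P.subgroupOf (Subgroup.normalizer (P : Set G)) : Subgroup (Subgroup.normalizer (P : Set G))) :
        Set (Subgroup.normalizer (P : Set G))))))
    (hb' : IsInducedBlock M (Subgroup.centralizer
      ((P.subgroupOf (Subgroup.normalizer (P : Set G)) : Subgroup (Subgroup.normalizer (P : Set G))) :
        Set (Subgroup.normalizer (P : Set G)))) b' c) :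
    ∃ b : Set (IrrCharacter (Subgroup.centralizer (P : Set G))),
      IsInducedBlock M (Subgroup.centralizer (P : Set G)) b B ∧
      ∀ t : Subgroup.normalizer (P : Set G),
        StabilizesBlock (Subgroup.centralizer
          ((P.subgroupOf (Subgroup.normalizer (P : Set G)) :
            Subgroup (Subgroup.normalizer (P : Set G))) : Set (Subgroup.normalizer (P : Set G)))) b' t ↔
        StabilizesBlock (Subgroup.centralizer (P : Set G)) b (t : G) := by
  classical
  have hprime : M.IsPrime := isPrime_of_isPModular hM
  obtain ⟨κ, hκc, hκs⟩ : ∃ κ : Subgroup.centralizer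
      ((P.subgroupOf (Subgroup.normalizer (P : Set G)) : Subgroup (Subgroup.normalizer (P : Set G))) :
        Set (Subgroup.normalizer (P : Set G))) ≃* Subgroup.centralizer (P : Set G),
      (∀ k', ((κ k' : Subgroup.centralizer (P : Set G)) : G) =
        ((k' : Subgroup.normalizer (P : Set G)) : G)) ∧
      (∀ k : Subgroup.centralizer (P : Set G),
        (((κ.symm k : Subgroup.centralizer
          ((P.subgroupOf (Subgroup.normalizer (P : Set G)) :
            Subgroup (Subgroup.normalizer (P : Set G))) :
              Set (Subgroup.normalizer (P : Set G)))) : Subgroup.normalizer (P : Set G)) : G) =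
          (k : G)) :=
    ⟨centEquivT (Subgroup.normalizer (P : Set G)) P
      (P.subgroupOf (Subgroup.normalizer (P : Set G))) (map_subgroupOf_normalizer P)
      (centralizer_le_normalizer' P), fun _ => rfl, fun _ => rfl⟩
  refine ⟨BlockIso.pullBlock κ.symm b', ?_, ?_⟩
  · apply isInducedBlock_trans (Subgroup.normalizer (P : Set G)) (Subgroup.centralizer (P : Set G))
      (Subgroup.centralizer ((P.subgroupOf (Subgroup.normalizer (P : Set G)) :
        Subgroup (Subgroup.normalizer (P : Set G))) : Set (Subgroup.normalizer (P : Set G))))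
      κ hκc _ c B _ hc
    have e : BlockIso.pullBlock κ (BlockIso.pullBlock κ.symm b') = b' :=
      BlockIso.pullBlock_symm_pullBlock κ.symm b'
    rw [e]
    exact hb'
  · intro t
    have hn1 : t ∈ Subgroup.normalizer
        ((Subgroup.centralizer ((P.subgroupOf (Subgroup.normalizer (P : Set G)) :
          Subgroup (Subgroup.normalizer (P : Set G))) : Set (Subgroup.normalizer (P : Set G))) :
            Subgroup (Subgroup.normalizer (P : Set G))) : Set (Subgroup.normalizer (P : Set G))) := by
      apply mem_normalizer_centralizer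
      have hnorm : (P.subgroupOf (Subgroup.normalizer (P : Set G))).Normal :=
        Subgroup.normal_in_normalizer
      rw [Subgroup.mem_normalizer_iff]
      intro h
      constructor
      · intro hh
        exact hnorm.conj_mem h hh t
      · intro hh
        have h2 := hnorm.conj_mem _ hh t⁻¹
        have e : t⁻¹ * (t * h * t⁻¹) * t⁻¹⁻¹ = h := by group
        rwa [e] at h2
    have hn2 : (t : G) ∈ Subgroup.normalizer
        ((Subgroup.centralizer (P : Set G) : Subgroup G) : Set G) :=
      mem_normalizer_centralizer t.2
    constructor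
    · rintro ⟨-, h⟩
      refine ⟨hn2, ?_⟩
      intro ψ hψ
      have hχ : irrCompIso κ ψ ∈ b' := hψ
      obtain ⟨χ', hχ', hconj⟩ := h _ hχ
      refine ⟨irrCompIso κ.symm χ', BlockIso.irrCompIso_mem_pullBlock κ.symm hχ', ?_⟩
      intro k k' hk
      rw [irrCompIso_apply]
      have h1 := hconj (κ.symm k) (κ.symm k') (by
        apply Subtype.ext
        push_cast
        rw [hκs, hκs]
        exact hk)
      rw [h1, irrCompIso_apply, κ.apply_symm_apply]
    · rintro ⟨-, h⟩
      refine ⟨hn1, ?_⟩
      intro χ hχ
      have hψ : irrCompIso κ.symm χ ∈ BlockIso.pullBlock κ.symm b' :=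
        BlockIso.irrCompIso_mem_pullBlock κ.symm hχ
      obtain ⟨ψ', hψ', hconj⟩ := h _ hψ
      refine ⟨irrCompIso κ ψ', hψ', ?_⟩
      intro k k' hk
      rw [irrCompIso_apply]
      have h1 := hconj (κ k) (κ k') (by
        rw [hκc, hκc, hk]
        push_cast
        rfl)
      rw [h1, irrCompIso_apply, κ.symm_apply_apply]

end main

end Cfsg.Agent.Lib.Helper23.KleinPINSIDE
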