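import Mathlib
import Cfsg.Agent.Lib.Helper27.KleinPIDefs
import Cfsg.Agent.Lib.Helper6.SubsectionCount
import Cfsg.Agent.Lib.Helper6.BlockIso

/-!
helper23: S4638 leaf (ORTH) - non-conjugate subsections give orthogonal induced class functions.
-/

set_option autoImplicit false

namespace Cfsg.Agent.Lib.Helper23.KleinPIORTH

open Cfsg Cfsg.Agent.CharLib Cfsg.Agent.Lib.Helper24 Cfsg.Agent.Lib.Helper6
open Cfsg.Agent.Lib.Helper27.KleinPI
open scoped ComplexConjugate

universe u

section basic

variable {H : Type u} [Group H] [Fintype H] {M : Ideal AlgInt}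

/-- An irreducible character is orthogonal to the `p`-regular part of an irreducible character of
another block. -/
theorem classInner_irr_pRegularPart_eq_zero {p : ℕ} [hpp : Fact p.Prime] (hM : IsPModular p M)
    (ζ ξ : IrrCharacter H) (h : ¬ SameBlock M (ξ : H → ℂ) (ζ : H → ℂ)) :
    classInner (ζ : H → ℂ) (pRegularPart p (ξ : H → ℂ)) = 0 := by
  classical
  have hprime : M.IsPrime := isPrime_of_isPModular hM
  have h1 := sum_regular_eq_zero_of_not_mem_block hM ξ ζ h ξ (mem_blockOf_self ξ)
  unfold classInner
  have h2 : ∑ g : H, (ζ : H → ℂ) g * conj (pRegularPart p (ξ : H → ℂ) g) =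
      ∑ x : H, (if ¬ p ∣ orderOf x then (ζ : H → ℂ) x * conj ((ξ : H → ℂ) x) else 0) := by
    apply Finset.sum_congr rfl
    intro g _
    by_cases hg : IsPRegular p g
    · have hg' : ¬ p ∣ orderOf g := hg
      rw [pRegularPart_of_regular' p _ hg, if_pos hg']
    · have hg' : ¬ ¬ p ∣ orderOf g := hg
      rw [pRegularPart_of_singular' p _ hg, map_zero, mul_zero, if_neg hg']
  rw [h2, h1, mul_zero]

end basic

section conjiso

variable {G : Type u} [Group G]

/-- Conjugation by `c` as an isomorphism `C_G(u) ≃* C_G(u')`, `c u c⁻¹ = u'`. -/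
noncomputable def conjCent (c : G) {u u' : G} (h : c * u * c⁻¹ = u') :
    Subgroup.centralizer ({u} : Set G) ≃* Subgroup.centralizer ({u'} : Set G) where
  toFun k := ⟨c * (k : G) * c⁻¹, by
    rw [Subgroup.mem_centralizer_singleton_iff, ← h]
    have hk := Subgroup.mem_centralizer_singleton_iff.mp k.2
    calc c * (k : G) * c⁻¹ * (c * u * c⁻¹) = c * ((k : G) * u) * c⁻¹ := by group
      _ = c * (u * (k : G)) * c⁻¹ := by rw [hk]
      _ = c * u * c⁻¹ * (c * (k : G) * c⁻¹) := by group⟩
  invFun k' := ⟨c⁻¹ * (k' : G) * c, by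
    subst h
    rw [Subgroup.mem_centralizer_singleton_iff]
    have hk := Subgroup.mem_centralizer_singleton_iff.mp k'.2
    calc c⁻¹ * (k' : G) * c * u = c⁻¹ * ((k' : G) * (c * u * c⁻¹)) * c := by group
      _ = c⁻¹ * ((c * u * c⁻¹) * (k' : G)) * c := by rw [hk]
      _ = u * (c⁻¹ * (k' : G) * c) := by group⟩
  left_inv k := by
    apply Subtype.ext
    change c⁻¹ * (c * (k : G) * c⁻¹) * c = (k : G)
    group
  right_inv k' := by
    apply Subtype.ext
    change c * (c⁻¹ * (k' : G) * c) * c⁻¹ = (k' : G)
    group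
  map_mul' k l := by
    apply Subtype.ext
    change c * ((k : G) * (l : G)) * c⁻¹ = c * (k : G) * c⁻¹ * (c * (l : G) * c⁻¹)
    group

theorem conjCent_coe (c : G) {u u' : G} (h : c * u * c⁻¹ = u')
    (k : Subgroup.centralizer ({u} : Set G)) :
    ((conjCent c h k : Subgroup.centralizer ({u'} : Set G)) : G) = c * (k : G) * c⁻¹ := rfl

theorem conjCent_symm_coe (c : G) {u u' : G} (h : c * u * c⁻¹ = u')
    (k' : Subgroup.centralizer ({u'} : Set G)) :
    (((conjCent c h).symm k' : Subgroup.centralizer ({u} : Set G)) : G) = c⁻¹ * (k' : G) * c := rfl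

end conjiso

section main

variable {G : Type u} [Group G] [Fintype G] {M : Ideal AlgInt}

/-- The section restriction at `u` of a function induced from the section of `u'`. -/
theorem secRes_secInd_apply {p : ℕ} [hpp : Fact p.Prime] (u u' : G)
    (hu : ∃ k : ℕ, orderOf u = p ^ k) (hu' : ∃ k : ℕ, orderOf u' = p ^ k)
    (w : Subgroup.centralizer ({u'} : Set G) → ℂ) [DecidableEq G]
    (k : Subgroup.centralizer ({u} : Set G)) :
    secRes p u (secInd p u' w) k =
      ∑ c : G, if h : c * u * c⁻¹ = u' then pRegularPart p (w ∘ conjCent c h) k else 0 := by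
  rw [secRes_apply]
  by_cases hk : IsPRegular p k
  · rw [pRegularPart_of_regular' p _ hk, secInd_apply]
    have hcomm : Commute u (k : G) := (Subgroup.mem_centralizer_singleton_iff.mp k.2).symm
    have hk' : ¬ p ∣ orderOf (k : G) := by
      rw [Subgroup.orderOf_coe]; exact hk
    apply Finset.sum_congr rfl
    intro c _
    by_cases hc : c * u * c⁻¹ = u'
    · rw [dif_pos hc, pRegularPart_of_regular' p _ hk,
        secExt_conj_of_eq p u' w c u (k : G) hcomm hk' hc]
      rfl
    · rw [dif_neg hc]
      exact secExt_conj_of_ne u' hu' w c u (k : G) hu hcomm hk' hc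
  · rw [pRegularPart_of_singular' p _ hk]
    symm
    apply Finset.sum_eq_zero
    intro c _
    by_cases hc : c * u * c⁻¹ = u'
    · rw [dif_pos hc, pRegularPart_of_singular' p _ hk]
    · rw [dif_neg hc]

theorem classInner_secInd_eq_zero
    {p : ℕ} [hpp : Fact p.Prime] (hM : IsPModular p M) (u u' : G)
    (hu : ∃ k : ℕ, orderOf u = p ^ k) (hu' : ∃ k : ℕ, orderOf u' = p ^ k)
    (f : Set (IrrCharacter (Subgroup.centralizer ({u} : Set G)))) (hf : IsPBlock M f)
    (f' : Set (IrrCharacter (Subgroup.centralizer ({u'} : Set G)))) (hf' : IsPBlock M f')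
    (D : IrrCharacter (Subgroup.centralizer ({u} : Set G)) → ℤ) (hD : ∀ ζ, ζ ∉ f → D ζ = 0)
    (D' : IrrCharacter (Subgroup.centralizer ({u'} : Set G)) → ℤ) (hD' : ∀ ζ, ζ ∉ f' → D' ζ = 0)
    (hne : ∀ g : G, g * u * g⁻¹ = u' → ∀ ζ ∈ f, ∀ ζ' ∈ f',
      ¬ ∀ (k : Subgroup.centralizer ({u} : Set G)) (k' : Subgroup.centralizer ({u'} : Set G)),
        (k' : G) = g * (k : G) * g⁻¹ →
          (ζ' : Subgroup.centralizer ({u'} : Set G) → ℂ) k' =
            (ζ : Subgroup.centralizer ({u} : Set G) → ℂ) k) :
    classInner (secInd p u (intComb D)) (secInd p u' (intComb D')) = 0 := by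
  classical
  have hprime : M.IsPrime := isPrime_of_isPModular hM
  let _ : Fintype (Subgroup.centralizer ({u} : Set G)) := Fintype.ofFinite _
  let _ : Fintype (Subgroup.centralizer ({u'} : Set G)) := Fintype.ofFinite _
  let _ := fintypeIrr (Subgroup.centralizer ({u} : Set G))
  let _ := fintypeIrr (Subgroup.centralizer ({u'} : Set G))
  rw [classInner_secInd p u (intComb D) (secInd_isClassFunction p u' (intComb D'))]
  have key : classInner (intComb D) (secRes p u (secInd p u' (intComb D'))) = 0 := by
    have e1 : secRes p u (secInd p u' (intComb D')) =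
        ∑ c : G, (if h : c * u * c⁻¹ = u' then pRegularPart p (intComb D' ∘ conjCent c h)
          else (0 : Subgroup.centralizer ({u} : Set G) → ℂ)) := by
      funext k
      rw [secRes_secInd_apply u u' hu hu', Finset.sum_apply]
      apply Finset.sum_congr rfl
      intro c _
      by_cases hc : c * u * c⁻¹ = u'
      · rw [dif_pos hc, dif_pos hc]
      · rw [dif_neg hc, dif_neg hc]; rfl
    rw [e1, Cfsg.Agent.Lib.Helper10.classInner_sum_right]
    apply Finset.sum_eq_zero
    intro c _
    by_cases hc : c * u * c⁻¹ = u'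
    · rw [dif_pos hc]
      have e2 : intComb D = ∑ ζ : IrrCharacter (Subgroup.centralizer ({u} : Set G)),
          (D ζ : ℂ) • (ζ : Subgroup.centralizer ({u} : Set G) → ℂ) := by
        funext s
        unfold intComb
        rw [finsum_eq_sum_of_fintype, Finset.sum_apply]
        rfl
      have e3 : intComb D' ∘ conjCent c hc =
          ∑ ζ' : IrrCharacter (Subgroup.centralizer ({u'} : Set G)),
            (D' ζ' : ℂ) • ((irrCompIso (conjCent c hc) ζ' :
              IrrCharacter (Subgroup.centralizer ({u} : Set G))) :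
                Subgroup.centralizer ({u} : Set G) → ℂ) := by
        funext s
        rw [Function.comp_apply]
        unfold intComb
        rw [finsum_eq_sum_of_fintype, Finset.sum_apply]
        rfl
      rw [e2, e3, pRegularPart_sum, Cfsg.Agent.Lib.Helper10.classInner_sum_left]
      apply Finset.sum_eq_zero
      intro ζ _
      rw [Cfsg.Agent.Lib.Helper10.classInner_sum_right]
      apply Finset.sum_eq_zero
      intro ζ' _
      rw [pRegularPart_smul, classInner_smul_left, classInner_smul_right]
      by_cases hζ : ζ ∈ f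
      · by_cases hζ' : ζ' ∈ f'
        · rw [classInner_irr_pRegularPart_eq_zero hM ζ (irrCompIso (conjCent c hc) ζ') ?_,
            mul_zero, mul_zero]
          intro hsb
          have hb : IsPBlock M (BlockIso.pullBlock (conjCent c hc) f') :=
            BlockIso.isPBlock_pullBlock (conjCent c hc) hf'
          have hm : irrCompIso (conjCent c hc) ζ' ∈ BlockIso.pullBlock (conjCent c hc) f' :=
            BlockIso.irrCompIso_mem_pullBlock (conjCent c hc) hζ'
          have hz : ζ ∈ BlockIso.pullBlock (conjCent c hc) f' := by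
            obtain ⟨θ, hθ⟩ := hb
            rw [hθ] at hm ⊢
            exact sameBlock_trans hm hsb
          rw [BlockIso.mem_pullBlock_iff] at hz
          apply hne c hc ζ hζ _ hz
          intro k k' hk
          rw [irrCompIso_apply]
          have hkk : (conjCent c hc).symm k' = k := by
            apply Subtype.ext
            rw [conjCent_symm_coe, hk]
            group
          rw [hkk]
        · rw [hD' ζ' hζ', Int.cast_zero, map_zero, zero_mul, mul_zero]
      · rw [hD ζ hζ, Int.cast_zero, zero_mul]
    · rw [dif_neg hc]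
      exact Cfsg.Agent.Lib.Helper10.classInner_zero_right _
  rw [key, mul_zero]

end main

end Cfsg.Agent.Lib.Helper23.KleinPIORTH
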