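import Mathlib
import Cfsg.Agent.Lib.Helper11.Wielandt

set_option autoImplicit false

namespace Cfsg.Agent.Lib.Helper23.Kulakoff

open MulAction

/-- Weighted orbit counting: if `f` is invariant and `m` divides `|orbit x| * f x` for all `x`,
then `m` divides `∑ x, f x`. -/
theorem dvd_sum_of_dvd_orbits {P X : Type*} [Group P] [MulAction P X] [Fintype X] (f : X → ℕ)
    (hf : ∀ (g : P) (x : X), f (g • x) = f x) (m : ℕ)
    (h : ∀ x : X, m ∣ Nat.card (orbit P x) * f x) : m ∣ ∑ x, f x := by
  classical
  let Ω := orbitRel.Quotient P X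
  have : Fintype Ω := Fintype.ofFinite Ω
  have : ∀ ω : Ω, Fintype ω.orbit := fun ω => Fintype.ofFinite _
  have h1 : ∑ x, f x = ∑ z : (Σ ω : Ω, ω.orbit), f z.2.1 := by
    apply Fintype.sum_equiv (selfEquivSigmaOrbits' P X)
    intro x
    rfl
  rw [h1, Fintype.sum_sigma]
  apply Finset.dvd_sum
  intro ω _
  induction ω using Quotient.inductionOn' with
  | h x =>
    have hc : ∀ y : orbitRel.Quotient.orbit (Quotient.mk'' x : orbitRel.Quotient P X), f y.1 = f x := by
      intro y
      have hy : y.1 ∈ orbit P x := by
        have h2 := orbitRel.Quotient.mem_orbit.mp y.2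
        exact orbitRel_apply.mp (Quotient.exact' h2)
      obtain ⟨g, hg⟩ := hy
      rw [← hg]
      exact hf g x
    rw [Finset.sum_congr rfl (fun y _ => hc y), Finset.sum_const, Finset.card_univ, smul_eq_mul,
      ← Nat.card_eq_fintype_card, orbitRel.Quotient.orbit_mk]
    exact h x


section Conj

open scoped Pointwise
open Subgroup

variable {G : Type*} [Group G]

/-- conjugation action of (the elements of) a subgroup `P` on the subgroups of `G` -/
@[reducible] def conjAction (P : Subgroup G) : MulAction P (Subgroup G) :=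
  MulAction.compHom (Subgroup G) ((MulAut.conj : G →* MulAut G).comp P.subtype)

theorem card_conj_smul (g : G) (H : Subgroup G) : Nat.card (MulAut.conj g • H : Subgroup G) = Nat.card H :=
  (Nat.card_congr (Subgroup.equivSMul (MulAut.conj g) H).toEquiv).symm

theorem conj_smul_eq_self_iff (g : G) (H : Subgroup G) :
    MulAut.conj g • H = H ↔ g ∈ normalizer (H : Set G) := by
  rw [mem_normalizer_iff_map_conj_eq]
  rfl

theorem conj_smul_normalizer (g : G) (H : Subgroup G) :
    normalizer ((MulAut.conj g • H : Subgroup G) : Set G) = MulAut.conj g • normalizer (H : Set G) := by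
  have := map_equiv_normalizer_eq H (MulAut.conj g)
  exact this.symm

theorem mem_stabilizer_conjAction (P H : Subgroup G) (x : P) :
    letI := conjAction P
    x ∈ MulAction.stabilizer P H ↔ (x : G) ∈ normalizer (H : Set G) := by
  letI := conjAction P
  rw [MulAction.mem_stabilizer_iff, ← conj_smul_eq_self_iff]
  rfl

theorem card_orbit_conjAction [Finite G] (P H : Subgroup G) :
    letI := conjAction P
    Nat.card (MulAction.orbit P H) *
      Nat.card (normalizer (H : Set G) ⊓ P : Subgroup G) = Nat.card P := by
  letI := conjAction P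
  have h1 : MulAction.stabilizer P H = (normalizer (H : Set G)).subgroupOf P := by
    ext x
    rw [mem_stabilizer_conjAction, mem_subgroupOf]
  have h2 := (MulAction.stabilizer P H).index_mul_card
  rw [MulAction.index_stabilizer, ← Nat.card_coe_set_eq, h1] at h2
  rw [← h2]
  congr 1
  rw [← Subgroup.inf_subgroupOf_right]
  exact (Nat.card_congr (Subgroup.subgroupOfEquivOfLe inf_le_right).toEquiv).symm

end Conj

section Rel

variable {G : Type*} [Group G]

/-- subgroups of a subgroup `K` of given order, as subgroups of `G` -/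
noncomputable def relEquiv (K : Subgroup G) (m : ℕ) :
    {H' : Subgroup K // Nat.card H' = m} ≃ {H : Subgroup G // H ≤ K ∧ Nat.card H = m} :=
  ((Subgroup.MapSubtype.orderIso K).toEquiv.subtypeEquiv (q := fun H => Nat.card H.1 = m)
    (fun H' => by
      change Nat.card H' = m ↔ Nat.card (H'.map K.subtype) = m
      rw [Subgroup.card_map_of_injective K.subtype_injective])).trans
    (Equiv.subtypeSubtypeEquivSubtypeInter (fun H : Subgroup G => H ≤ K)
      (fun H : Subgroup G => Nat.card H = m))

theorem card_subgroups_le_modEq_one [Finite G] (p β : ℕ) (hp : p.Prime) (K : Subgroup G)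
    (hK : p ^ β ∣ Nat.card K) :
    Nat.card {H : Subgroup G // H ≤ K ∧ Nat.card H = p ^ β} ≡ 1 [MOD p] := by
  rw [← Nat.card_congr (relEquiv K (p ^ β))]
  exact Cfsg.Agent.Lib.Helper11.card_subgroups_pow_prime_modEq_one p β hp hK

end Rel

end Cfsg.Agent.Lib.Helper23.Kulakoff
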