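import Mathlib
import Cfsg.Agent.Lib.Helper11.Wielandt

set_option autoImplicit false

namespace Cfsg.Agent.Lib.Helper23.Kulakoff

theorem card_subtype_ne_one {α : Type*} [Finite α] (a : α) :
    Nat.card {x : α // x ≠ a} + 1 = Nat.card α := by
  classical
  have := Fintype.ofFinite α
  rw [Nat.card_eq_fintype_card, Nat.card_eq_fintype_card]
  have h := Set.card_ne_eq a
  have h2 : Fintype.card {x : α // x ≠ a} = Fintype.card α - 1 := by
    convert h
  have h3 : 0 < Fintype.card α := Fintype.card_pos_iff.mpr ⟨a⟩
  omega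

/-- In a group of exponent `p`, the subgroups of order `p` number `(|E| - 1)/(p - 1)`. -/
theorem card_prime_subgroups_of_exponent {E : Type*} [Group E] [Finite E] (p : ℕ) (hp : p.Prime)
    (hexp : ∀ x : E, x ^ p = 1) :
    (p - 1) * Nat.card {C : Subgroup E // Nat.card C = p} + 1 = Nat.card E := by
  classical
  haveI : Fact p.Prime := ⟨hp⟩
  have hord : ∀ x : {x : E // x ≠ 1}, orderOf x.1 = p := fun x => orderOf_eq_prime (hexp x.1) x.2
  let f : {x : E // x ≠ 1} → {C : Subgroup E // Nat.card C = p} :=
    fun x => ⟨Subgroup.zpowers x.1, by rw [Nat.card_zpowers, hord x]⟩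
  have hfib : ∀ C : {C : Subgroup E // Nat.card C = p}, Nat.card {x : {x : E // x ≠ 1} // f x = C} + 1 = p := by
    intro C
    have e : {x : {x : E // x ≠ 1} // f x = C} ≃ {y : C.1 // y ≠ 1} :=
      { toFun := fun x => ⟨⟨x.1.1, by
            have h := congrArg Subtype.val x.2
            change Subgroup.zpowers x.1.1 = C.1 at h
            rw [← h]; exact Subgroup.mem_zpowers _⟩, fun h => x.1.2 (congrArg Subtype.val h)⟩
        invFun := fun y => ⟨⟨y.1.1, fun h => y.2 (Subtype.ext h)⟩, by
            apply Subtype.ext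
            change Subgroup.zpowers y.1.1 = C.1
            have hle : Subgroup.zpowers y.1.1 ≤ C.1 := by
              rw [Subgroup.zpowers_le]; exact y.1.2
            apply Subgroup.eq_of_le_of_card_ge hle
            rw [C.2, Nat.card_zpowers, orderOf_eq_prime (hexp _) (fun h => y.2 (Subtype.ext h))]⟩
        left_inv := fun x => rfl
        right_inv := fun y => rfl }
    rw [Nat.card_congr e, card_subtype_ne_one, C.2]
  have hX := card_subtype_ne_one (1 : E)
  have h1 := Nat.card_congr (Equiv.sigmaFiberEquiv f)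
  have : Fintype {C : Subgroup E // Nat.card C = p} := Fintype.ofFinite _
  rw [Nat.card_sigma] at h1
  have h2 : ∀ C : {C : Subgroup E // Nat.card C = p}, Nat.card {x : {x : E // x ≠ 1} // f x = C} = p - 1 := by
    intro C
    have := hfib C
    omega
  rw [Finset.sum_congr rfl (fun C _ => h2 C), Finset.sum_const, Finset.card_univ, smul_eq_mul,
    ← Nat.card_eq_fintype_card] at h1
  rw [← hX, ← h1, mul_comm]


/-- duality: in a finite abelian group, subgroups of index `d` and subgroups of order `d` are
equinumerous -/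
theorem card_index_eq_card_order {E : Type*} [CommGroup E] [Finite E] (d : ℕ) :
    Nat.card {M : Subgroup E // M.index = d} = Nat.card {C : Subgroup E // Nat.card C = d} := by
  haveI : NeZero ((Monoid.exponent E : ℕ) : ℂ) :=
    ⟨Nat.cast_ne_zero.mpr Monoid.exponent_ne_zero_of_finite⟩
  obtain ⟨φ⟩ := CommGroup.monoidHom_mulEquiv_of_hasEnoughRootsOfUnity E ℂ
  let e1 := CommGroup.subgroupOrderIsoSubgroupMonoidHom E ℂ
  let e : Subgroup E ≃ Subgroup E :=
    (e1.toEquiv.trans OrderDual.ofDual).trans φ.mapSubgroup.toEquiv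
  apply Nat.card_congr
  apply e.subtypeEquiv
  intro M
  have : Nat.card (e M) = M.index := by
    change Nat.card (((e1 M).ofDual).map φ.toMonoidHom) = _
    rw [Subgroup.card_map_of_injective φ.injective,
      CommGroup.card_subgroupOrderIsoSubgroupMonoidHom, Subgroup.index_eq_card]
  rw [this]


theorem arith_one_add_p (p j s : ℕ) (hp : p.Prime) (hj : 2 ≤ j) (h : (p - 1) * s + 1 = p ^ j) :
    s ≡ 1 + p [MOD p ^ 2] := by
  rw [← ZMod.natCast_eq_natCast_iff]
  have e2 : ((p : ZMod (p ^ 2))) ^ 2 = 0 := by
    have := ZMod.natCast_self (p ^ 2)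
    push_cast at this
    exact this
  have e1 : ((p : ZMod (p ^ 2)) - 1) * (s : ZMod (p ^ 2)) + 1 = 0 := by
    have h' := congrArg (Nat.cast : ℕ → ZMod (p ^ 2)) h
    rw [Nat.cast_add, Nat.cast_mul, Nat.cast_sub hp.one_le] at h'
    push_cast at h'
    rw [h']
    obtain ⟨k, rfl⟩ := Nat.exists_eq_add_of_le hj
    rw [pow_add, e2, zero_mul]
  push_cast
  linear_combination (-((p : ZMod (p ^ 2)) + 1)) * e1 + (s : ZMod (p ^ 2)) * e2

/-- In an elementary abelian group of order `p^j` (`j ≥ 1`), the number `h` of subgroups of index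
`p` and the number `c` of subgroups of index `p²` satisfy `h ≡ 1 + p c (mod p²)`. -/
theorem elemAb_count {E : Type*} [Group E] [Finite E] (p j : ℕ) (hp : p.Prime) (hj : 1 ≤ j)
    (hE : Nat.card E = p ^ j) (hcomm : ∀ x y : E, x * y = y * x) (hexp : ∀ x : E, x ^ p = 1) :
    Nat.card {M : Subgroup E // M.index = p} ≡
      1 + p * Nat.card {K : Subgroup E // K.index = p ^ 2} [MOD p ^ 2] := by
  letI : CommGroup E := { (inferInstance : Group E) with mul_comm := hcomm }
  have h1 : Nat.card {M : Subgroup E // M.index = p} = Nat.card {C : Subgroup E // Nat.card C = p} :=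
    card_index_eq_card_order p
  have h2 : Nat.card {M : Subgroup E // M.index = p ^ 2} =
      Nat.card {C : Subgroup E // Nat.card C = p ^ 2} :=
    card_index_eq_card_order (p ^ 2)
  have h3 := card_prime_subgroups_of_exponent (E := E) p hp hexp
  rw [hE] at h3
  rw [h1]
  rcases Nat.lt_or_ge j 2 with hj2 | hj2
  · have hj1 : j = 1 := by omega
    subst hj1
    rw [pow_one] at h3 hE
    have hs : Nat.card {C : Subgroup E // Nat.card C = p} = 1 := by
      have hp1 : 0 < p - 1 := by have := hp.two_le; omega
      have : (p - 1) * Nat.card {C : Subgroup E // Nat.card C = p} = (p - 1) * 1 := by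
        have := hp.one_le; omega
      exact Nat.eq_of_mul_eq_mul_left hp1 this
    have hc : Nat.card {K : Subgroup E // K.index = p ^ 2} = 0 := by
      rw [Nat.card_eq_zero]
      left
      constructor
      intro K
      have := K.1.index_dvd_card
      rw [K.2, hE] at this
      have h4 := Nat.le_of_dvd hp.pos this
      have h5 : p < p ^ 2 := by
        have := hp.one_lt
        nlinarith
      omega
    rw [hs, hc]
    rfl
  · have hc : Nat.card {K : Subgroup E // K.index = p ^ 2} ≡ 1 [MOD p] := by
      rw [h2]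
      exact Cfsg.Agent.Lib.Helper11.card_subgroups_pow_prime_modEq_one p 2 hp
        (by rw [hE]; exact pow_dvd_pow p hj2)
    have h4 := arith_one_add_p p j _ hp hj2 h3
    have h5 : p * Nat.card {K : Subgroup E // K.index = p ^ 2} ≡ p * 1 [MOD p * p] :=
      Nat.ModEq.mul_left' p hc
    rw [mul_one, ← sq] at h5
    exact h4.trans (Nat.ModEq.add_left 1 h5.symm)

end Cfsg.Agent.Lib.Helper23.Kulakoff
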