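import Mathlib
import Cfsg.Agent.Lib.Helper23.KulakoffA
import Cfsg.Agent.Lib.Helper23.KulakoffC

set_option autoImplicit false

namespace Cfsg.Agent.Lib.Helper23.Kulakoff

/-- double counting -/
theorem sum_card_comm {α β : Type*} [Fintype α] [Fintype β] (r : α → β → Prop) :
    ∑ a, Nat.card {b : β // r a b} = ∑ b, Nat.card {a : α // r a b} := by
  rw [← Nat.card_sigma, ← Nat.card_sigma]
  exact Nat.card_congr
    ⟨fun x => ⟨x.2.1, ⟨x.1, x.2.2⟩⟩, fun y => ⟨y.2.1, ⟨y.1, y.2.2⟩⟩, fun _ => rfl, fun _ => rfl⟩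

section

variable {P : Type*} [Group P]

/-- intersection of the subgroups of index `p` -/
def PhiP (p : ℕ) (P : Type*) [Group P] : Subgroup P :=
  ⨅ M : {M : Subgroup P // M.index = p}, M.1

theorem PhiP_le (p : ℕ) {M : Subgroup P} (hM : M.index = p) : PhiP p P ≤ M :=
  iInf_le (fun M : {M : Subgroup P // M.index = p} => M.1) ⟨M, hM⟩

theorem mem_PhiP_iff (p : ℕ) (x : P) :
    x ∈ PhiP p P ↔ ∀ M : Subgroup P, M.index = p → x ∈ M := by
  rw [PhiP, Subgroup.mem_iInf]
  exact ⟨fun h M hM => h ⟨M, hM⟩, fun h M => h M.1 M.2⟩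

variable [Finite P] {p n : ℕ}

theorem index_eq_iff_card_eq (hp : p.Prime) (hP : Nat.card P = p ^ n) {k : ℕ} (hk : k ≤ n)
    (M : Subgroup P) : M.index = p ^ k ↔ Nat.card M = p ^ (n - k) := by
  have h := M.card_mul_index
  rw [hP] at h
  have hpk : 0 < p ^ k := pow_pos hp.pos k
  have hsplit : p ^ n = p ^ (n - k) * p ^ k := by rw [← pow_add, Nat.sub_add_cancel hk]
  constructor
  · intro hi
    rw [hi, hsplit] at h
    exact Nat.eq_of_mul_eq_mul_right hpk h
  · intro hc
    rw [hc, hsplit] at h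
    exact Nat.eq_of_mul_eq_mul_left (pow_pos hp.pos _) h

theorem normal_of_index_p (hp : p.Prime) (hP : Nat.card P = p ^ n) {M : Subgroup P}
    (hM : M.index = p) : M.Normal := by
  apply Subgroup.normal_of_index_eq_minFac_card
  have hn : n ≠ 0 := by
    rintro rfl
    rw [pow_zero] at hP
    have := M.index_dvd_card
    rw [hP, hM] at this
    exact hp.one_lt.ne' (Nat.dvd_one.mp this)
  rw [hM, hP, hp.pow_minFac hn]

theorem pow_mem_PhiP (hp : p.Prime) (hP : Nat.card P = p ^ n) (x : P) : x ^ p ∈ PhiP p P := by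
  rw [mem_PhiP_iff]
  intro M hM
  haveI := normal_of_index_p hp hP hM
  have := Subgroup.pow_index_mem M x
  rwa [hM] at this

theorem comm_mem_PhiP (hp : p.Prime) (hP : Nat.card P = p ^ n) (x y : P) :
    x * y * x⁻¹ * y⁻¹ ∈ PhiP p P := by
  rw [mem_PhiP_iff]
  intro M hM
  haveI := normal_of_index_p hp hP hM
  have hc : Nat.card (P ⧸ M) = p := by rw [← Subgroup.index_eq_card, hM]
  haveI : Fact p.Prime := ⟨hp⟩
  haveI := isCyclic_of_prime_card hc
  have hcomm : ∀ a b : P ⧸ M, a * b = b * a := fun a b => by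
    letI := IsCyclic.commGroup (α := P ⧸ M)
    exact mul_comm a b
  rw [← QuotientGroup.eq_one_iff]
  simp only [QuotientGroup.mk_mul, QuotientGroup.mk_inv]
  rw [hcomm (x : P ⧸ M) (y : P ⧸ M)]
  group

theorem normal_of_PhiP_le (hp : p.Prime) (hP : Nat.card P = p ^ n) {N : Subgroup P}
    (hN : PhiP p P ≤ N) : N.Normal :=
  ⟨fun x hx g => by
    have : g * x * g⁻¹ = (g * x * g⁻¹ * x⁻¹) * x := by group
    rw [this]
    exact N.mul_mem (hN (comm_mem_PhiP hp hP g x)) hx⟩

theorem exists_index_p_of_ne_top (hp : p.Prime) (hP : Nat.card P = p ^ n) {H : Subgroup P}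
    (hH : H ≠ ⊤) : ∃ M : Subgroup P, M.index = p ∧ H ≤ M := by
  haveI : Fact p.Prime := ⟨hp⟩
  obtain ⟨b, hbn, hb⟩ := (Nat.dvd_prime_pow hp).mp (hP ▸ H.card_subgroup_dvd_card)
  have hbn' : b < n := by
    rcases Nat.lt_or_ge b n with h | h
    · exact h
    · exfalso
      have : b = n := le_antisymm hbn h
      subst this
      exact hH (Subgroup.eq_top_of_card_eq H (hb.trans hP.symm))
  obtain ⟨M, hM, hHM⟩ := Sylow.exists_subgroup_card_pow_prime_le p (n := b) (m := n - 1)
    (by rw [hP]; exact pow_dvd_pow p (Nat.sub_le n 1)) H hb (by omega)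
  refine ⟨M, ?_, hHM⟩
  have := (index_eq_iff_card_eq hp hP (k := 1) (by omega) M).mpr hM
  rwa [pow_one] at this

/-- correspondence theorem, counting subgroups of given index -/
theorem card_quot_index {G : Type*} [Group G] (N : Subgroup G) [N.Normal] (d : ℕ) :
    Nat.card {M' : Subgroup (G ⧸ N) // M'.index = d} =
      Nat.card {M : Subgroup G // N ≤ M ∧ M.index = d} := by
  apply Nat.card_congr
  refine ((QuotientGroup.comapMk'OrderIso N).toEquiv.subtypeEquiv
    (q := fun M => M.1.index = d) (fun M' => ?_)).trans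
    (Equiv.subtypeSubtypeEquivSubtypeInter (fun M : Subgroup G => N ≤ M)
      (fun M : Subgroup G => M.index = d))
  change M'.index = d ↔ (Subgroup.comap (QuotientGroup.mk' N) M').index = d
  have := Subgroup.index_comap_of_surjective M' (QuotientGroup.mk'_surjective N)
  rw [this]

/-- key congruence of Hall's enumeration principle modulo `p²` -/
theorem hall_key (hp : p.Prime) (hP : Nat.card P = p ^ n) {H : Subgroup P} (hH : H ≠ ⊤) :
    Nat.card {M : Subgroup P // H ≤ M ∧ M.index = p} ≡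
      1 + p * Nat.card {K : Subgroup P // H ⊔ PhiP p P ≤ K ∧ K.index = p ^ 2} [MOD p ^ 2] := by
  obtain ⟨M₀, hM₀, hHM₀⟩ := exists_index_p_of_ne_top hp hP hH
  set N := H ⊔ PhiP p P with hN
  have hNM₀ : N ≤ M₀ := sup_le hHM₀ (PhiP_le p hM₀)
  haveI hNn : N.Normal := normal_of_PhiP_le hp hP le_sup_right
  -- order of the quotient
  obtain ⟨j, hjn, hj⟩ := (Nat.dvd_prime_pow hp).mp (hP ▸ N.index_dvd_card)
  have hj1 : 1 ≤ j := by
    rcases Nat.eq_zero_or_pos j with h0 | h0
    · exfalso
      subst h0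
      rw [pow_zero, Subgroup.index_eq_one] at hj
      rw [hj] at hNM₀
      have : M₀ = ⊤ := top_le_iff.mp hNM₀
      rw [this, Subgroup.index_top] at hM₀
      exact hp.one_lt.ne' hM₀.symm
    · exact h0
  have hE : Nat.card (P ⧸ N) = p ^ j := by rw [← Subgroup.index_eq_card, hj]
  have hcomm : ∀ a b : P ⧸ N, a * b = b * a := by
    intro a b
    induction a using QuotientGroup.induction_on with
    | H x =>
    induction b using QuotientGroup.induction_on with
    | H y =>
    have h1 : (x * y * x⁻¹ * y⁻¹ : P) ∈ N := le_sup_right (a := H) (comm_mem_PhiP hp hP x y)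
    rw [← QuotientGroup.eq_one_iff] at h1
    simp only [QuotientGroup.mk_mul, QuotientGroup.mk_inv] at h1
    calc (x : P ⧸ N) * y = ((x : P ⧸ N) * y * (x : P ⧸ N)⁻¹ * (y : P ⧸ N)⁻¹) * (y * x) := by group
      _ = y * x := by rw [h1, one_mul]
  have hexp : ∀ a : P ⧸ N, a ^ p = 1 := by
    intro a
    induction a using QuotientGroup.induction_on with
    | H x =>
    rw [← QuotientGroup.mk_pow, QuotientGroup.eq_one_iff]
    exact le_sup_right (a := H) (pow_mem_PhiP hp hP x)
  have key := elemAb_count (E := P ⧸ N) p j hp hj1 hE hcomm hexp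
  rw [card_quot_index N p, card_quot_index N (p ^ 2)] at key
  have e1 : Nat.card {M : Subgroup P // H ≤ M ∧ M.index = p} =
      Nat.card {M : Subgroup P // N ≤ M ∧ M.index = p} := by
    apply Nat.card_congr
    apply Equiv.subtypeEquivRight
    intro M
    constructor
    · rintro ⟨h1, h2⟩
      exact ⟨sup_le h1 (PhiP_le p h2), h2⟩
    · rintro ⟨h1, h2⟩
      exact ⟨le_sup_left.trans h1, h2⟩
  rw [e1]
  exact key

/-- Hall's enumeration principle modulo `p²`, for the subgroups of order `p^a`. -/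
theorem hall_enum (hp : p.Prime) (hP : Nat.card P = p ^ n) (a : ℕ) (ha : a < n)
    [Fintype {M : Subgroup P // M.index = p}]
    [Fintype {K : Subgroup P // PhiP p P ≤ K ∧ K.index = p ^ 2}] :
    ∑ M : {M : Subgroup P // M.index = p},
        Nat.card {H : Subgroup P // H ≤ M.1 ∧ Nat.card H = p ^ a} ≡
      Nat.card {H : Subgroup P // Nat.card H = p ^ a} +
        p * ∑ K : {K : Subgroup P // PhiP p P ≤ K ∧ K.index = p ^ 2},
          Nat.card {H : Subgroup P // H ≤ K.1 ∧ Nat.card H = p ^ a} [MOD p ^ 2] := by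
  classical
  have : Fintype {H : Subgroup P // Nat.card H = p ^ a} := Fintype.ofFinite _
  have e1 : ∀ M : Subgroup P, Nat.card {H : Subgroup P // H ≤ M ∧ Nat.card H = p ^ a} =
      Nat.card {H : {H : Subgroup P // Nat.card H = p ^ a} // H.1 ≤ M} := by
    intro M
    apply Nat.card_congr
    exact ((Equiv.subtypeSubtypeEquivSubtypeInter (fun H : Subgroup P => Nat.card H = p ^ a)
      (fun H => H ≤ M)).trans (Equiv.subtypeEquivRight (fun H => and_comm))).symm
  simp only [e1]
  rw [sum_card_comm (fun (M : {M : Subgroup P // M.index = p})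
      (H : {H : Subgroup P // Nat.card H = p ^ a}) => H.1 ≤ M.1),
    sum_card_comm (fun (K : {K : Subgroup P // PhiP p P ≤ K ∧ K.index = p ^ 2})
      (H : {H : Subgroup P // Nat.card H = p ^ a}) => H.1 ≤ K.1)]
  rw [Finset.mul_sum, Nat.card_eq_fintype_card, ← Finset.card_univ, Finset.card_eq_sum_ones,
    ← Finset.sum_add_distrib]
  apply Nat.ModEq.sum
  intro H _
  have hH : H.1 ≠ ⊤ := by
    intro h
    have h1 := H.2
    rw [h, Subgroup.card_top, hP] at h1
    have := Nat.pow_right_injective hp.two_le h1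
    omega
  have key := hall_key hp hP hH
  have e2 : Nat.card {M : {M : Subgroup P // M.index = p} // H.1 ≤ M.1} =
      Nat.card {M : Subgroup P // H.1 ≤ M ∧ M.index = p} := by
    apply Nat.card_congr
    exact (Equiv.subtypeSubtypeEquivSubtypeInter (fun M : Subgroup P => M.index = p)
      (fun M => H.1 ≤ M)).trans (Equiv.subtypeEquivRight (fun M => and_comm))
  have e3 : Nat.card {K : {K : Subgroup P // PhiP p P ≤ K ∧ K.index = p ^ 2} // H.1 ≤ K.1} =
      Nat.card {K : Subgroup P // H.1 ⊔ PhiP p P ≤ K ∧ K.index = p ^ 2} := by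
    apply Nat.card_congr
    refine (Equiv.subtypeSubtypeEquivSubtypeInter
      (fun K : Subgroup P => PhiP p P ≤ K ∧ K.index = p ^ 2)
      (fun K => H.1 ≤ K)).trans (Equiv.subtypeEquivRight (fun K => ?_))
    constructor
    · rintro ⟨⟨h1, h2⟩, h3⟩
      exact ⟨sup_le h3 h1, h2⟩
    · rintro ⟨h1, h2⟩
      exact ⟨⟨le_sup_right.trans h1, h2⟩, le_sup_left.trans h1⟩
  rw [e2, e3]
  exact key

end

end Cfsg.Agent.Lib.Helper23.Kulakoff
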