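import Mathlib
import Cfsg.Agent.Lib.Helper23.KulakoffA
import Cfsg.Agent.Lib.Helper23.KulakoffD

set_option autoImplicit false

namespace Cfsg.Agent.Lib.Helper23.Kulakoff

open scoped Pointwise
open Subgroup

theorem card_subtype_eq_sum {α : Type*} [Fintype α] (s : α → Prop) [DecidablePred s] :
    Nat.card {x : α // s x} = ∑ x, if s x then 1 else 0 := by
  rw [Nat.card_eq_fintype_card, Fintype.card_subtype, Finset.sum_boole, Nat.cast_id]

section

variable {G : Type*} [Group G] [Finite G] {p n a : ℕ}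

theorem exists_card_pow_of_le (hp : p.Prime) {K L : Subgroup G} (hKL : K ≤ L) {l : ℕ}
    (hL : Nat.card L = p ^ l) : ∃ k, k ≤ l ∧ Nat.card K = p ^ k :=
  (Nat.dvd_prime_pow hp).mp (hL ▸ Subgroup.card_dvd_of_le hKL)

theorem exists_card_sup_pow (hp : p.Prime)
    (hsyl : ∀ (R : Subgroup G) (k : ℕ), Nat.card R = p ^ k → k ≤ n)
    {H K : Subgroup G} {a k : ℕ} (hH : Nat.card H = p ^ a) (hK : Nat.card K = p ^ k)
    (hKN : K ≤ normalizer (H : Set G)) :
    ∃ m, m ≤ n ∧ Nat.card (H ⊔ K : Subgroup G) = p ^ m := by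
  haveI : Fact p.Prime := ⟨hp⟩
  have h1 : IsPGroup p (H ⊔ K : Subgroup G) :=
    IsPGroup.to_sup_of_normal_left' (IsPGroup.of_card hH) (IsPGroup.of_card hK) hKN
  obtain ⟨m, hm⟩ := IsPGroup.iff_card.mp h1
  exact ⟨m, hsyl _ m hm, hm⟩

theorem le_of_le_normalizer (hp : p.Prime)
    (hsyl : ∀ (R : Subgroup G) (k : ℕ), Nat.card R = p ^ k → k ≤ n)
    {P H : Subgroup G} (hP : Nat.card P = p ^ n) (hH : Nat.card H = p ^ a)
    (hPN : P ≤ normalizer (H : Set G)) : H ≤ P := by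
  obtain ⟨m, hmn, hm⟩ := exists_card_sup_pow hp hsyl hH hP hPN
  have h1 : P = H ⊔ P := Subgroup.eq_of_le_of_card_ge le_sup_right
    (by rw [hm, hP]; exact Nat.pow_le_pow_right hp.pos hmn)
  rw [h1]
  exact le_sup_left

/-- structure of a subgroup `H ≰ P` whose normalizer in `P` has index at most `p` -/
theorem Y1 (hp : p.Prime) (hsyl : ∀ (R : Subgroup G) (k : ℕ), Nat.card R = p ^ k → k ≤ n)
    {P H : Subgroup G} (hP : Nat.card P = p ^ n) (hH : Nat.card H = p ^ a) (hHP : ¬ H ≤ P)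
    (hB : p ^ n ≤ p * Nat.card (normalizer (H : Set G) ⊓ P : Subgroup G)) :
    Nat.card (normalizer (H : Set G) ⊓ P : Subgroup G) * p = p ^ n ∧
    Nat.card (H ⊔ (normalizer (H : Set G) ⊓ P) : Subgroup G) = p ^ n ∧
    (H ⊔ (normalizer (H : Set G) ⊓ P)) ⊓ P = normalizer (H : Set G) ⊓ P := by
  set R : Subgroup G := normalizer (H : Set G) ⊓ P with hRdef
  obtain ⟨k, hkn, hk⟩ := exists_card_pow_of_le hp (inf_le_right : R ≤ P) hP
  have hkn' : k ≠ n := by
    rintro rfl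
    have h1 : R = P := Subgroup.eq_of_le_of_card_ge inf_le_right (by rw [hk, hP])
    have h2 : P ≤ normalizer (H : Set G) := by rw [← h1]; exact inf_le_left
    exact hHP (le_of_le_normalizer hp hsyl hP hH h2)
  have hk1 : k + 1 = n := by
    rw [hk, ← pow_succ'] at hB
    have := (Nat.pow_le_pow_iff_right hp.one_lt).mp hB
    omega
  have hR1 : Nat.card R * p = p ^ n := by rw [hk, ← pow_succ, hk1]
  obtain ⟨m, hmn, hm⟩ := exists_card_sup_pow hp hsyl hH hk (inf_le_left : R ≤ normalizer (H : Set G))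
  have hmk : k < m := by
    by_contra hle
    push Not at hle
    have h1 : R = H ⊔ R := Subgroup.eq_of_le_of_card_ge le_sup_right
      (by rw [hm, hk]; exact Nat.pow_le_pow_right hp.pos hle)
    apply hHP
    calc H ≤ H ⊔ R := le_sup_left
      _ = R := h1.symm
      _ ≤ P := inf_le_right
  have hmn' : m = n := by omega
  subst hmn'
  refine ⟨hR1, hm, ?_⟩
  have hle : R ≤ (H ⊔ R) ⊓ P := le_inf le_sup_right inf_le_right
  obtain ⟨j, hjn, hj⟩ := exists_card_pow_of_le hp (inf_le_right : (H ⊔ R) ⊓ P ≤ P) hP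
  have hjn' : j ≠ m := by
    rintro rfl
    have h1 : (H ⊔ R) ⊓ P = P := Subgroup.eq_of_le_of_card_ge inf_le_right (by rw [hj, hP])
    have h2 : P ≤ H ⊔ R := by rw [← h1]; exact inf_le_left
    have h3 : P = H ⊔ R := Subgroup.eq_of_le_of_card_ge h2 (by rw [hm, hP])
    apply hHP
    rw [h3]
    exact le_sup_left
  symm
  apply Subgroup.eq_of_le_of_card_ge hle
  rw [hj, hk]
  exact Nat.pow_le_pow_right hp.pos (by omega)

theorem Y2 (hp : p.Prime) (hsyl : ∀ (R : Subgroup G) (k : ℕ), Nat.card R = p ^ k → k ≤ n)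
    {P Q H : Subgroup G} (hP : Nat.card P = p ^ n) (hQ : Nat.card Q = p ^ n)
    (hQP : Nat.card (Q ⊓ P : Subgroup G) * p = p ^ n) (hH : Nat.card H = p ^ a) (hHQ : H ≤ Q)
    (hQN : Q ≤ normalizer (H : Set G)) (hHR : ¬ H ≤ Q ⊓ P) :
    ¬ H ≤ P ∧ p ^ n ≤ p * Nat.card (normalizer (H : Set G) ⊓ P : Subgroup G) ∧
      H ⊔ (normalizer (H : Set G) ⊓ P) = Q := by
  have hHP : ¬ H ≤ P := fun h => hHR (le_inf hHQ h)
  have hle : Q ⊓ P ≤ normalizer (H : Set G) ⊓ P := inf_le_inf_right P hQN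
  have hB : p ^ n ≤ p * Nat.card (normalizer (H : Set G) ⊓ P : Subgroup G) := by
    rw [← hQP, mul_comm]
    exact Nat.mul_le_mul_left p (Subgroup.card_le_of_le hle)
  refine ⟨hHP, hB, ?_⟩
  obtain ⟨h1, h2, h3⟩ := Y1 hp hsyl hP hH hHP hB
  have heq : Q ⊓ P = normalizer (H : Set G) ⊓ P := by
    apply Subgroup.eq_of_le_of_card_ge hle
    have : Nat.card (normalizer (H : Set G) ⊓ P : Subgroup G) * p =
        Nat.card (Q ⊓ P : Subgroup G) * p := by rw [h1, hQP]
    exact (Nat.eq_of_mul_eq_mul_right hp.pos this).le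
  have hle2 : H ⊔ (normalizer (H : Set G) ⊓ P) ≤ Q := by
    rw [← heq]
    exact sup_le hHQ inf_le_left
  exact Subgroup.eq_of_le_of_card_ge hle2 (by rw [h2, hQ])

end

end Cfsg.Agent.Lib.Helper23.Kulakoff
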