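import Mathlib
import Cfsg.Agent.Lib.Helper23.KulakoffA
import Cfsg.Agent.Lib.Helper23.KulakoffD
import Cfsg.Agent.Lib.Helper23.KulakoffB1

set_option autoImplicit false

namespace Cfsg.Agent.Lib.Helper23.Kulakoff

open scoped Pointwise
open Subgroup

theorem sum_ite_and_eq {α : Type*} [Fintype α] [DecidableEq α] (Y : Prop) [Decidable Y] (π : α) :
    ∑ Q : α, (if (Y ∧ π = Q) then 1 else 0) = if Y then 1 else 0 := by
  by_cases hY : Y
  · simp [hY]
  · simp [hY]

theorem ite_decomp (A B C : Prop) [Decidable A] [Decidable B] [Decidable C] :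
    (if A then 1 else 0) = (if (B ∧ A) then 1 else 0) +
      ((if (A ∧ ¬ B ∧ ¬ C) then 1 else 0) + (if (A ∧ ¬ B ∧ C) then 1 else 0)) := by
  by_cases hA : A <;> by_cases hB : B <;> by_cases hC : C <;> simp [hA, hB, hC]

section

variable {G : Type*} [Group G] [Finite G] {p n a : ℕ}

/-- orbit sizes for the conjugation action of a `p`-subgroup -/
theorem orbit_card_pow (hp : p.Prime) {P : Subgroup G} (hP : Nat.card P = p ^ n) (H : Subgroup G) :
    letI := conjAction P
    ∃ i, i ≤ n ∧ Nat.card (MulAction.orbit P H) = p ^ i ∧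
      Nat.card (normalizer (H : Set G) ⊓ P : Subgroup G) = p ^ (n - i) := by
  letI := conjAction P
  have h := card_orbit_conjAction P H
  rw [hP] at h
  obtain ⟨i, hin, hi⟩ := (Nat.dvd_prime_pow hp).mp (Dvd.intro _ h)
  refine ⟨i, hin, hi, ?_⟩
  rw [hi] at h
  have : p ^ n = p ^ i * p ^ (n - i) := by rw [← pow_add]; congr 1; omega
  rw [this] at h
  exact Nat.eq_of_mul_eq_mul_left (pow_pos hp.pos i) h

theorem conj_smul_le_iff_of_mem {P : Subgroup G} {x : G} (hx : x ∈ P) (H : Subgroup G) :
    MulAut.conj x • H ≤ P ↔ H ≤ P := by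
  conv_lhs => rw [← conj_smul_eq_self_of_mem hx]
  exact pointwise_smul_le_pointwise_smul_iff

theorem le_conj_smul_iff_of_mem {P : Subgroup G} {x : G} (hx : x ∈ P) (H : Subgroup G) :
    P ≤ MulAut.conj x • H ↔ P ≤ H := by
  conv_lhs => rw [← conj_smul_eq_self_of_mem hx]
  exact pointwise_smul_le_pointwise_smul_iff

theorem count_normal_not_le (hp : p.Prime) {Q R : Subgroup G} (hQ : Nat.card Q = p ^ n)
    (hRQ : R ≤ Q) (hR : Nat.card R * p = p ^ n) (ha : a < n) :
    p ∣ Nat.card {H : Subgroup G // Nat.card H = p ^ a ∧ H ≤ Q ∧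
      Q ≤ normalizer (H : Set G) ∧ ¬ H ≤ R} := by
  classical
  have : Fintype (Subgroup G) := Fintype.ofFinite _
  letI := conjAction Q
  have hsm : ∀ (x : Q) (H : Subgroup G), x • H = MulAut.conj (x : G) • H := fun _ _ => rfl
  have hRcard : Nat.card R = p ^ (n - 1) := by
    have : p ^ n = p ^ (n - 1) * p := by rw [← pow_succ]; congr 1; omega
    rw [this] at hR
    exact Nat.eq_of_mul_eq_mul_right hp.pos hR
  have hQR : Q ≤ normalizer (R : Set G) := by
    rw [← normal_subgroupOf_iff_le_normalizer hRQ]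
    have hc : Nat.card (R.subgroupOf Q) = p ^ (n - 1) := by
      rw [Nat.card_congr (Subgroup.subgroupOfEquivOfLe hRQ).toEquiv]
      exact hRcard
    have hi : (R.subgroupOf Q).index = p := by
      have := (index_eq_iff_card_eq hp hQ (k := 1) (by omega) (R.subgroupOf Q)).mpr hc
      rwa [pow_one] at this
    exact normal_of_index_p hp hQ hi
  have h1 := card_subgroups_le_modEq_one p a hp Q (by rw [hQ]; exact pow_dvd_pow p ha.le)
  have h2 := card_subgroups_le_modEq_one p a hp R
    (by rw [hRcard]; exact pow_dvd_pow p (by omega))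
  rw [card_subtype_eq_sum] at h1 h2 ⊢
  have h3 : p ∣ ∑ H : Subgroup G, if (Nat.card H = p ^ a ∧ H ≤ Q ∧
      ¬ Q ≤ normalizer (H : Set G) ∧ ¬ H ≤ R) then 1 else 0 := by
    apply dvd_sum_of_dvd_orbits (P := Q)
    · intro x H
      have hxR : MulAut.conj (x : G) • R = R := (conj_smul_eq_self_iff _ _).mpr (hQR x.2)
      rw [hsm]
      have e1 : Nat.card (MulAut.conj (x : G) • H : Subgroup G) = Nat.card H := card_conj_smul _ _
      have e2 : (MulAut.conj (x : G) • H ≤ Q) ↔ H ≤ Q := conj_smul_le_iff_of_mem x.2 H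
      have e3 : (MulAut.conj (x : G) • H ≤ R) ↔ H ≤ R := by
        conv_lhs => rw [← hxR]
        exact pointwise_smul_le_pointwise_smul_iff
      have e4 : (Q ≤ normalizer ((MulAut.conj (x : G) • H : Subgroup G) : Set G)) ↔
          Q ≤ normalizer (H : Set G) := by
        rw [conj_smul_normalizer]
        exact le_conj_smul_iff_of_mem x.2 _
      simp only [e1, e2, e3, e4]
    · intro H
      split_ifs with h
      · rw [mul_one]
        obtain ⟨i, hin, hi, hN⟩ := orbit_card_pow hp hQ H
        rw [hi]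
        apply dvd_pow_self
        rintro rfl
        apply h.2.2.1
        have : normalizer (H : Set G) ⊓ Q = Q :=
          Subgroup.eq_of_le_of_card_ge inf_le_right (by rw [hN, hQ]; rfl)
        rw [← this]
        exact inf_le_left
      · rw [mul_zero]
        exact dvd_zero p
  have h4 : ∀ H : Subgroup G, (if (H ≤ Q ∧ Nat.card H = p ^ a) then 1 else 0) =
      (if (H ≤ R ∧ Nat.card H = p ^ a) then 1 else 0) +
      ((if (Nat.card H = p ^ a ∧ H ≤ Q ∧ Q ≤ normalizer (H : Set G) ∧ ¬ H ≤ R) then 1 else 0) +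
      (if (Nat.card H = p ^ a ∧ H ≤ Q ∧ ¬ Q ≤ normalizer (H : Set G) ∧ ¬ H ≤ R)
        then 1 else 0)) := by
    intro H
    by_cases c2 : H ≤ R
    · have c3 : H ≤ Q := c2.trans hRQ
      by_cases c1 : Nat.card H = p ^ a <;> simp [c1, c2, c3]
    · by_cases c1 : Nat.card H = p ^ a <;> by_cases c3 : H ≤ Q <;>
        by_cases c4 : Q ≤ normalizer (H : Set G) <;> simp [c1, c2, c3, c4]
  rw [Finset.sum_congr rfl (fun H _ => h4 H), Finset.sum_add_distrib, Finset.sum_add_distrib] at h1
  have h5 := Nat.ModEq.add_left_cancel h2 (h1.trans (Nat.ModEq.refl (1 + 0)))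
  have h6 := (Nat.modEq_zero_iff_dvd).mp h5
  exact (Nat.dvd_add_left h3).mp h6

/-- **Sylow reduction**: modulo `p²`, the number of subgroups of order `p^a` of `G` equals the
number of those contained in a fixed Sylow `p`-subgroup `P` (of order `p^n > p^a`). -/
theorem sylow_reduction (hp : p.Prime)
    (hsyl : ∀ (R : Subgroup G) (k : ℕ), Nat.card R = p ^ k → k ≤ n)
    {P : Subgroup G} (hP : Nat.card P = p ^ n) (ha : a < n) :
    Nat.card {H : Subgroup G // Nat.card H = p ^ a} ≡
      Nat.card {H : Subgroup G // H ≤ P ∧ Nat.card H = p ^ a} [MOD p ^ 2] := by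
  classical
  have : Fintype (Subgroup G) := Fintype.ofFinite _
  letI := conjAction P
  have hsm : ∀ (x : P) (H : Subgroup G), x • H = MulAut.conj (x : G) • H := fun _ _ => rfl
  have inv1 : ∀ (x : P) (H : Subgroup G), Nat.card (x • H : Subgroup G) = Nat.card H :=
    fun x H => card_conj_smul _ _
  have inv2 : ∀ (x : P) (H : Subgroup G), (x • H ≤ P) ↔ H ≤ P :=
    fun x H => conj_smul_le_iff_of_mem x.2 H
  have inv3 : ∀ (x : P) (H : Subgroup G), normalizer ((x • H : Subgroup G) : Set G) ⊓ P =
      MulAut.conj (x : G) • (normalizer (H : Set G) ⊓ P) := by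
    intro x H
    rw [hsm, conj_smul_normalizer, smul_inf, conj_smul_eq_self_of_mem x.2]
  have inv4 : ∀ (x : P) (H : Subgroup G),
      (p ^ n ≤ p * Nat.card (normalizer ((x • H : Subgroup G) : Set G) ⊓ P : Subgroup G)) ↔
      (p ^ n ≤ p * Nat.card (normalizer (H : Set G) ⊓ P : Subgroup G)) := by
    intro x H
    rw [inv3, card_conj_smul]
  -- the far part
  have hfar : p ^ 2 ∣ ∑ H : Subgroup G, if (Nat.card H = p ^ a ∧ ¬ H ≤ P ∧
      ¬ p ^ n ≤ p * Nat.card (normalizer (H : Set G) ⊓ P : Subgroup G)) then 1 else 0 := by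
    apply dvd_sum_of_dvd_orbits (P := P)
    · intro x H
      simp only [inv1, inv2, inv4]
    · intro H
      split_ifs with h
      · rw [mul_one]
        obtain ⟨i, hin, hi, hN⟩ := orbit_card_pow hp hP H
        rw [hi]
        apply pow_dvd_pow
        by_contra hlt
        push Not at hlt
        apply h.2.2
        rw [hN, ← pow_succ']
        exact Nat.pow_le_pow_right hp.pos (by omega)
      · rw [mul_zero]
        exact dvd_zero _
  -- the near part
  have hπeq : ∀ (x : P) (H : Subgroup G),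
      (x • H) ⊔ (normalizer ((x • H : Subgroup G) : Set G) ⊓ P) =
        x • (H ⊔ (normalizer (H : Set G) ⊓ P)) := by
    intro x H
    rw [inv3, hsm, hsm, smul_sup]
  set g : Subgroup G → ℕ := fun Q => ∑ H : Subgroup G,
    if ((Nat.card H = p ^ a ∧ ¬ H ≤ P ∧
      p ^ n ≤ p * Nat.card (normalizer (H : Set G) ⊓ P : Subgroup G)) ∧
      H ⊔ (normalizer (H : Set G) ⊓ P) = Q) then 1 else 0 with hg
  have hgsum : ∑ Q, g Q = ∑ H : Subgroup G, if (Nat.card H = p ^ a ∧ ¬ H ≤ P ∧
      p ^ n ≤ p * Nat.card (normalizer (H : Set G) ⊓ P : Subgroup G)) then 1 else 0 := by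
    simp only [hg]
    rw [Finset.sum_comm]
    apply Finset.sum_congr rfl
    intro H _
    exact sum_ite_and_eq _ _
  have hY : p ^ 2 ∣ ∑ Q, g Q := by
    apply dvd_sum_of_dvd_orbits (P := P)
    · intro x Q
      simp only [hg]
      rw [← Equiv.sum_comp (MulAction.toPerm x : Equiv.Perm (Subgroup G))]
      apply Finset.sum_congr rfl
      intro H _
      have hinj : ((x • H) ⊔ (normalizer ((x • H : Subgroup G) : Set G) ⊓ P) = x • Q) ↔
          H ⊔ (normalizer (H : Set G) ⊓ P) = Q := by
        rw [hπeq]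
        exact (MulAction.injective x).eq_iff
      simp only [MulAction.toPerm_apply, inv1, inv2, inv4, hinj]
    · intro Q
      by_cases hQ0 : g Q = 0
      · rw [hQ0, mul_zero]
        exact dvd_zero _
      · obtain ⟨H₀, -, hH₀⟩ := Finset.exists_ne_zero_of_sum_ne_zero hQ0
        have hH₀' : (Nat.card H₀ = p ^ a ∧ ¬ H₀ ≤ P ∧
            p ^ n ≤ p * Nat.card (normalizer (H₀ : Set G) ⊓ P : Subgroup G)) ∧
            H₀ ⊔ (normalizer (H₀ : Set G) ⊓ P) = Q := by
          by_contra hc
          exact hH₀ (if_neg hc)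
        obtain ⟨⟨hA₀, hnP₀, hB₀⟩, hπ₀⟩ := hH₀'
        obtain ⟨y1, y2, y3⟩ := Y1 hp hsyl hP hA₀ hnP₀ hB₀
        have hQc : Nat.card Q = p ^ n := by rw [← hπ₀]; exact y2
        have hQP : Nat.card (Q ⊓ P : Subgroup G) * p = p ^ n := by
          rw [← hπ₀, y3]
          exact y1
        have h1 : p ∣ Nat.card (MulAction.orbit P Q) := by
          obtain ⟨i, hin, hi, hN⟩ := orbit_card_pow hp hP Q
          rw [hi]
          apply dvd_pow_self
          rintro rfl
          have : normalizer (Q : Set G) ⊓ P = P :=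
            Subgroup.eq_of_le_of_card_ge inf_le_right (by rw [hN, hP]; rfl)
          have hPN : P ≤ normalizer (Q : Set G) := by
            rw [← this]
            exact inf_le_left
          have hQP' : Q ≤ P := le_of_le_normalizer hp hsyl hP hQc hPN
          apply hnP₀
          calc H₀ ≤ H₀ ⊔ (normalizer (H₀ : Set G) ⊓ P) := le_sup_left
            _ = Q := hπ₀
            _ ≤ P := hQP'
        have h2 : p ∣ g Q := by
          have hcount := count_normal_not_le (a := a) hp hQc (inf_le_left : Q ⊓ P ≤ Q) hQP ha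
          rw [card_subtype_eq_sum] at hcount
          convert hcount using 1
          simp only [hg]
          apply Finset.sum_congr rfl
          intro H _
          apply if_congr _ rfl rfl
          constructor
          · rintro ⟨⟨hA, hnP, hB⟩, hπH⟩
            refine ⟨hA, ?_, ?_, ?_⟩
            · rw [← hπH]
              exact le_sup_left
            · rw [← hπH]
              exact sup_le le_normalizer inf_le_left
            · exact fun h => hnP (h.trans inf_le_right)
          · rintro ⟨hA, hHQ, hQN, hHR⟩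
            obtain ⟨z1, z2, z3⟩ := Y2 hp hsyl hP hQc hQP hA hHQ hQN hHR
            exact ⟨⟨hA, z1, z2⟩, z3⟩
        rw [sq]
        exact mul_dvd_mul h1 h2
  -- final assembly
  rw [card_subtype_eq_sum, card_subtype_eq_sum]
  have hdecomp : ∀ H : Subgroup G, (if Nat.card H = p ^ a then 1 else 0) =
      (if (H ≤ P ∧ Nat.card H = p ^ a) then 1 else 0) +
      ((if (Nat.card H = p ^ a ∧ ¬ H ≤ P ∧
        ¬ p ^ n ≤ p * Nat.card (normalizer (H : Set G) ⊓ P : Subgroup G)) then 1 else 0) +
      (if (Nat.card H = p ^ a ∧ ¬ H ≤ P ∧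
        p ^ n ≤ p * Nat.card (normalizer (H : Set G) ⊓ P : Subgroup G)) then 1 else 0)) := by
    intro H
    exact ite_decomp _ _ _
  rw [Finset.sum_congr rfl (fun H _ => hdecomp H), Finset.sum_add_distrib, Finset.sum_add_distrib,
    ← hgsum]
  obtain ⟨u, hu⟩ := hfar
  obtain ⟨v, hv⟩ := hY
  rw [hu, hv, ← mul_add]
  unfold Nat.ModEq
  rw [Nat.add_mul_mod_self_left]

end

end Cfsg.Agent.Lib.Helper23.Kulakoff
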