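import Mathlib
import Cfsg.Agent.Lib.Helper5.CycMax

set_option autoImplicit false

namespace Cfsg.Agent.Lib.Helper23.Kulakoff

section Class2

variable {G : Type*} [Group G]

theorem pow_mul_comm_of_central {w v z : G} (hz : ∀ x : G, z * x = x * z)
    (h : w * v = z * v * w) (k : ℕ) : w ^ k * v = z ^ k * v * w ^ k := by
  induction k with
  | zero => simp
  | succ k ih =>
    have hzk : ∀ x : G, z ^ k * x = x * z ^ k := fun x =>
      ((show Commute z x from hz x).pow_left k).eq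
    calc w ^ (k + 1) * v = w * (w ^ k * v) := by rw [pow_succ']; group
      _ = w * (z ^ k * v * w ^ k) := by rw [ih]
      _ = (w * z ^ k) * v * w ^ k := by group
      _ = z ^ k * (w * v) * w ^ k := by rw [← hzk w]; group
      _ = z ^ k * (z * v * w) * w ^ k := by rw [h]
      _ = z ^ (k + 1) * v * w ^ (k + 1) := by rw [pow_succ, pow_succ']; group

theorem mul_pow_of_central {w v z : G} (hz : ∀ x : G, z * x = x * z)
    (h : w * v = z * v * w) (k : ℕ) : (v * w) ^ k = z ^ (k.choose 2) * v ^ k * w ^ k := by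
  induction k with
  | zero => simp
  | succ k ih =>
    have h1 := pow_mul_comm_of_central hz h k
    have hzk : ∀ x : G, z ^ k * x = x * z ^ k := fun x =>
      ((show Commute z x from hz x).pow_left k).eq
    have hch : (k + 1).choose 2 = k.choose 2 + k := by
      rw [Nat.choose_succ_succ' k 1, Nat.choose_one_right, add_comm]
    calc (v * w) ^ (k + 1) = (v * w) ^ k * (v * w) := pow_succ _ _
      _ = z ^ (k.choose 2) * v ^ k * w ^ k * (v * w) := by rw [ih]
      _ = z ^ (k.choose 2) * v ^ k * (w ^ k * v) * w := by group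
      _ = z ^ (k.choose 2) * v ^ k * (z ^ k * v * w ^ k) * w := by rw [h1]
      _ = z ^ (k.choose 2) * (v ^ k * z ^ k) * v * w ^ k * w := by group
      _ = z ^ (k.choose 2) * (z ^ k * v ^ k) * v * w ^ k * w := by rw [hzk (v ^ k)]
      _ = z ^ ((k + 1).choose 2) * v ^ (k + 1) * w ^ (k + 1) := by
        rw [hch, pow_add, pow_succ, pow_succ]; group

/-- If all commutators are central of order dividing an odd prime `p`, the `p`-th power map is
multiplicative. -/
theorem mul_pow_prime_of_class_two {p : ℕ} (hp : p.Prime) (hp2 : p ≠ 2) (Z : Subgroup G)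
    (hZc : ∀ z ∈ Z, ∀ x : G, z * x = x * z) (hZp : ∀ z ∈ Z, z ^ p = 1)
    (hcomm : ∀ u v : G, u * v * u⁻¹ * v⁻¹ ∈ Z) (v w : G) : (v * w) ^ p = v ^ p * w ^ p := by
  have hz := hcomm w v
  have h : w * v = (w * v * w⁻¹ * v⁻¹) * v * w := by group
  rw [mul_pow_of_central (hZc _ hz) h p]
  have hdvd : p ∣ p.choose 2 := hp.dvd_choose_self (by norm_num) (by
    have := hp.two_le
    omega)
  obtain ⟨t, ht⟩ := hdvd
  rw [ht, pow_mul, hZp _ hz, one_pow, one_mul]

theorem mul_pow_prime_pow_of_class_two {p : ℕ} (hp : p.Prime) (hp2 : p ≠ 2) (Z : Subgroup G)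
    (hZc : ∀ z ∈ Z, ∀ x : G, z * x = x * z) (hZp : ∀ z ∈ Z, z ^ p = 1)
    (hcomm : ∀ u v : G, u * v * u⁻¹ * v⁻¹ ∈ Z) (k : ℕ) (v w : G) :
    (v * w) ^ (p ^ k) = v ^ (p ^ k) * w ^ (p ^ k) := by
  induction k with
  | zero => simp
  | succ k ih =>
    rw [pow_succ, pow_mul, pow_mul, pow_mul, ih]
    exact mul_pow_prime_of_class_two hp hp2 Z hZc hZp hcomm _ _

/-- for central `Z`, the elements `v` with `[g,v] ∈ Z` form a subgroup -/
def commSubgroup (Z : Subgroup G) (hZc : ∀ z ∈ Z, ∀ x : G, z * x = x * z) (g : G) : Subgroup G where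
  carrier := {v | g * v * g⁻¹ * v⁻¹ ∈ Z}
  one_mem' := by simp
  mul_mem' := by
    intro v w hv hw
    simp only [Set.mem_setOf_eq] at hv hw ⊢
    have h1 : g * (v * w) * g⁻¹ * (v * w)⁻¹ =
        (g * v * g⁻¹ * v⁻¹) * (v * (g * w * g⁻¹ * w⁻¹) * v⁻¹) := by group
    have h2 : v * (g * w * g⁻¹ * w⁻¹) * v⁻¹ = g * w * g⁻¹ * w⁻¹ := by
      rw [← hZc _ hw v]; group
    rw [h1, h2]
    exact Z.mul_mem hv hw
  inv_mem' := by
    intro v hv
    simp only [Set.mem_setOf_eq] at hv ⊢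
    have h1 : g * v⁻¹ * g⁻¹ * v⁻¹⁻¹ = v⁻¹ * (g * v * g⁻¹ * v⁻¹)⁻¹ * v := by group
    have h2 : v⁻¹ * (g * v * g⁻¹ * v⁻¹)⁻¹ * v = (g * v * g⁻¹ * v⁻¹)⁻¹ := by
      have := hZc _ (Z.inv_mem hv) v
      rw [mul_assoc, this]; group
    rw [h1, h2]
    exact Z.inv_mem hv

theorem mem_commSubgroup (Z : Subgroup G) (hZc : ∀ z ∈ Z, ∀ x : G, z * x = x * z) (g v : G) :
    v ∈ commSubgroup Z hZc g ↔ g * v * g⁻¹ * v⁻¹ ∈ Z := Iff.rfl

end Class2

end Cfsg.Agent.Lib.Helper23.Kulakoff
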