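import Mathlib
import Cfsg.Agent.Lib.Helper5.CycMax
import Cfsg.Agent.Lib.Helper23.KulakoffD
import Cfsg.Agent.Lib.Helper23.KulakoffE1

set_option autoImplicit false

namespace Cfsg.Agent.Lib.Helper23.Kulakoff

open Cfsg.Agent.Lib.Helper5.CycMax

theorem card_compl_add_card {α : Type*} [Finite α] (s : α → Prop) :
    Nat.card {x : α // ¬ s x} + Nat.card {x : α // s x} = Nat.card α := by
  classical
  rw [add_comm, ← Nat.card_sum]
  exact Nat.card_congr (Equiv.sumCompl s)

/-- A noncyclic group of order `p^(e+1)` (`p` odd, `e ≥ 2`) having a cyclic subgroup of index `p`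
has exactly `p` such subgroups. -/
theorem card_cyclic_max {P : Type*} [Group P] [Finite P] {p : ℕ} (hp : p.Prime) (hp2 : p ≠ 2)
    (e : ℕ) (he : 2 ≤ e) (hP : Nat.card P = p ^ (e + 1)) (hnc : ¬ IsCyclic P)
    (A : Subgroup P) (hAi : A.index = p) (hAc : IsCyclic A) :
    Nat.card {M : Subgroup P // M.index = p ∧ IsCyclic M} = p := by
  classical
  haveI : Fact p.Prime := ⟨hp⟩
  have hp0 : 0 < p := hp.pos
  have hidx : ∀ M : Subgroup P, M.index = p ↔ Nat.card M = p ^ e := by
    intro M
    have := index_eq_iff_card_eq hp hP (k := 1) (by omega) M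
    rwa [pow_one, Nat.add_sub_cancel] at this
  have hAcard : Nat.card A = p ^ e := (hidx A).mp hAi
  obtain ⟨c', hc'⟩ := hAc.exists_generator
  set c : P := (c' : P) with hcdef
  have hoc : orderOf c = p ^ e := by
    rw [hcdef, Subgroup.orderOf_coe, orderOf_eq_card_of_forall_mem_zpowers hc', hAcard]
  have hcA : c ∈ A := c'.2
  have hzc : ∀ y : P, y ∈ A → ∃ a : ℕ, y = c ^ a := by
    intro y hy
    have h1 := hc' ⟨y, hy⟩
    have hfin : IsOfFinOrder c' := isOfFinOrder_of_finite c'
    rw [← hfin.mem_powers_iff_mem_zpowers, Submonoid.mem_powers_iff] at h1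
    obtain ⟨a, ha⟩ := h1
    refine ⟨a, ?_⟩
    have := congrArg Subtype.val ha
    simpa using this.symm
  have hzcA : Subgroup.zpowers c = A := by
    apply le_antisymm
    · rw [Subgroup.zpowers_le]; exact hcA
    · intro y hy
      obtain ⟨a, rfl⟩ := hzc y hy
      exact Subgroup.pow_mem _ (Subgroup.mem_zpowers c) a
  haveI hAn : A.Normal := normal_of_index_p hp hP hAi
  have hpowA : ∀ g : P, g ^ p ∈ A := fun g => by
    have := Subgroup.pow_index_mem A g
    rwa [hAi] at this
  have hpe : p ^ e = p ^ (e - 1) * p := by rw [← pow_succ]; congr 1; omega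
  have hpe1 : 2 ≤ p ^ (e - 1) := by
    calc 2 ≤ p := hp.two_le
      _ = p ^ 1 := (pow_one p).symm
      _ ≤ p ^ (e - 1) := Nat.pow_le_pow_right hp0 (by omega)
  -- E1 : conjugation exponents
  have hconj : ∀ g : P, ∃ k : ℕ, g * c * g⁻¹ = c ^ (1 + k * p ^ (e - 1)) := by
    intro g
    obtain ⟨r, hr⟩ := hzc _ (hAn.conj_mem c hcA g)
    obtain ⟨t, ht⟩ := hzc _ (hpowA g)
    have h1 := pow_conj_exp hr p
    have h2 : g ^ p * c * (g ^ p)⁻¹ = c := by
      rw [ht]
      have : Commute (c ^ t) c := (Commute.refl c).pow_left t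
      calc c ^ t * c * (c ^ t)⁻¹ = c * c ^ t * (c ^ t)⁻¹ := by rw [this.eq]
        _ = c := by group
    rw [h2] at h1
    have h3 : c ^ (r ^ p) = c ^ 1 := by rw [← h1, pow_one]
    rw [pow_eq_pow_iff_modEq, hoc] at h3
    have hee : e = (e - 1) + 1 := by omega
    rw [hee] at h3
    have h4 := modEq_one_of_pow_modEq_one hp2 (e - 1) r h3
    have hr1 : 1 ≤ r := by
      rcases Nat.eq_zero_or_pos r with h0 | h0
      · exfalso
        subst h0
        have := (Nat.modEq_zero_iff_dvd.mp h4.symm)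
        have := Nat.le_of_dvd one_pos this
        omega
      · exact h0
    obtain ⟨k, hk⟩ := (Nat.modEq_iff_dvd' hr1).mp h4.symm
    refine ⟨k, ?_⟩
    rw [hr]
    congr 1
    rw [mul_comm k]
    omega
  set z₀ : P := c ^ (p ^ (e - 1)) with hz₀
  set Z₀ : Subgroup P := Subgroup.zpowers z₀ with hZ₀
  have hz₀p : z₀ ^ p = 1 := by
    rw [hz₀, ← pow_mul, ← hpe, ← hoc, pow_orderOf_eq_one]
  have hz₀1 : z₀ ≠ 1 := by
    rw [hz₀]
    apply pow_ne_one_of_lt_orderOf (by positivity)
    rw [hoc, hpe]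
    have : 0 < p ^ (e - 1) := by positivity
    have := hp.one_lt
    nlinarith
  have hoz₀ : orderOf z₀ = p := orderOf_eq_prime hz₀p hz₀1
  have hZp : ∀ z ∈ Z₀, z ^ p = 1 := by
    intro z hz
    obtain ⟨i, rfl⟩ := Subgroup.mem_zpowers_iff.mp hz
    rw [← zpow_natCast, ← zpow_mul, mul_comm, zpow_mul, zpow_natCast, hz₀p, one_zpow]
  have hcomm_c : ∀ g : P, g * c * g⁻¹ * c⁻¹ ∈ Z₀ := by
    intro g
    obtain ⟨k, hk⟩ := hconj g
    rw [hk, pow_add, pow_one, mul_comm k, pow_mul]
    have : c * (c ^ p ^ (e - 1)) ^ k * c⁻¹ = z₀ ^ k := by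
      have hc : Commute c ((c ^ p ^ (e - 1)) ^ k) := ((Commute.refl c).pow_right _).pow_right _
      rw [hc.eq, mul_inv_cancel_right]
    rw [this]
    exact Subgroup.pow_mem _ (Subgroup.mem_zpowers z₀) k
  have hz₀c : ∀ x : P, z₀ * x = x * z₀ := by
    intro x
    obtain ⟨k, hk⟩ := hconj x
    have h1 : x * z₀ * x⁻¹ = z₀ := by
      rw [hz₀, conj_pow_exp hk, add_mul, one_mul, pow_add]
      have : c ^ (k * p ^ (e - 1) * p ^ (e - 1)) = 1 := by
        rw [← orderOf_dvd_iff_pow_eq_one, hoc, hpe]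
        have : p ∣ p ^ (e - 1) := dvd_pow_self p (by omega)
        obtain ⟨s, hs⟩ := this
        exact ⟨k * s, by rw [hs]; ring⟩
      rw [this, mul_one]
    calc z₀ * x = (x * z₀ * x⁻¹) * x := by rw [h1]
      _ = x * z₀ := by group
  have hZc : ∀ z ∈ Z₀, ∀ x : P, z * x = x * z := by
    intro z hz x
    obtain ⟨i, rfl⟩ := Subgroup.mem_zpowers_iff.mp hz
    exact ((show Commute z₀ x from hz₀c x).zpow_left i).eq
  -- E2 : all commutators lie in Z₀
  have hcommall : ∀ u v : P, u * v * u⁻¹ * v⁻¹ ∈ Z₀ := by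
    have hA_le : ∀ v : P, A ≤ commSubgroup Z₀ hZc v := by
      intro v
      rw [← hzcA, Subgroup.zpowers_le, mem_commSubgroup]
      exact hcomm_c v
    intro u v
    by_cases hu : u ∈ A
    · have := hA_le v hu
      rw [mem_commSubgroup] at this
      have h1 : u * v * u⁻¹ * v⁻¹ = (v * u * v⁻¹ * u⁻¹)⁻¹ := by group
      rw [h1]
      exact Z₀.inv_mem this
    · have hS : commSubgroup Z₀ hZc u = ⊤ := by
        have hle := hA_le u
        have hu_mem : u ∈ commSubgroup Z₀ hZc u := by
          rw [mem_commSubgroup]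
          simp
        by_contra hne
        have hidx' : (commSubgroup Z₀ hZc u).index ∣ A.index := Subgroup.index_dvd_of_le hle
        rw [hAi] at hidx'
        rcases (Nat.dvd_prime hp).mp hidx' with h1 | h1
        · exact hne (Subgroup.index_eq_one.mp h1)
        · have hcardS := (hidx _).mp h1
          have : A = commSubgroup Z₀ hZc u :=
            Subgroup.eq_of_le_of_card_ge hle (by rw [hcardS, hAcard])
          exact hu (this ▸ hu_mem)
      have : v ∈ commSubgroup Z₀ hZc u := hS ▸ Subgroup.mem_top v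
      exact this
  -- E3
  have hpow := mul_pow_prime_pow_of_class_two hp hp2 Z₀ hZc hZp hcommall
  -- E4
  have hordP : ∀ v : P, ∃ k, k ≤ e ∧ orderOf v = p ^ k := by
    intro v
    have hv : orderOf v ∣ p ^ (e + 1) := by rw [← hP]; exact orderOf_dvd_natCard v
    obtain ⟨k, hk, hkv⟩ := (Nat.dvd_prime_pow hp).mp hv
    refine ⟨k, ?_, hkv⟩
    rcases Nat.lt_or_ge k (e + 1) with h | h
    · omega
    · exfalso
      have : k = e + 1 := le_antisymm hk h
      exact hnc (isCyclic_of_orderOf_eq_card v (by rw [hkv, this, hP]))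
  have hpowΦ : ∀ v : P, ∃ t : ℕ, v ^ p = (c ^ p) ^ t := by
    intro v
    obtain ⟨t, ht⟩ := hzc _ (hpowA v)
    by_cases hpt : p ∣ t
    · obtain ⟨t', rfl⟩ := hpt
      exact ⟨t', by rw [ht, pow_mul]⟩
    · exfalso
      have hcop : (orderOf c).Coprime t := by
        rw [hoc]
        exact ((Nat.Prime.coprime_iff_not_dvd hp).mpr hpt).pow_left e
      have h1 : orderOf (v ^ p) = p ^ e := by rw [ht, hcop.orderOf_pow, hoc]
      obtain ⟨k, hk, hkv⟩ := hordP v
      have h2 : orderOf (v ^ p) = orderOf v / Nat.gcd (orderOf v) p := orderOf_pow' v hp.ne_zero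
      rw [hkv, h1] at h2
      have h3 : p ^ k / Nat.gcd (p ^ k) p ≤ p ^ k := Nat.div_le_self _ _
      rw [← h2] at h3
      have h4 : k = e := le_antisymm hk ((Nat.pow_le_pow_iff_right hp.one_lt).mp h3)
      subst h4
      have h5 : Nat.gcd (p ^ k) p = p := Nat.gcd_eq_right (dvd_pow_self p (by omega))
      rw [h5] at h2
      have h6 : p ^ k / p < p ^ k := Nat.div_lt_self (by positivity) hp.one_lt
      omega
  -- E5 : the power endomorphism
  let θ : P →* P := MonoidHom.mk' (fun v => v ^ (p ^ (e - 1))) (hpow (e - 1))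
  have hθ : ∀ v, θ v = v ^ (p ^ (e - 1)) := fun v => rfl
  have hpe2 : p ^ (e - 1) = p * p ^ (e - 2) := by rw [← pow_succ']; congr 1; omega
  have hθmem : ∀ v, θ v ∈ Z₀ := by
    intro v
    obtain ⟨t, ht⟩ := hpowΦ v
    rw [hθ, hpe2, pow_mul, ht]
    have : ((c ^ p) ^ t) ^ p ^ (e - 2) = z₀ ^ t := by
      rw [hz₀, hpe2, ← pow_mul, ← pow_mul, ← pow_mul]
      congr 1
      ring
    rw [this]
    exact Subgroup.pow_mem _ (Subgroup.mem_zpowers z₀) t
  have hrange : θ.range = Z₀ := by
    apply le_antisymm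
    · rintro _ ⟨v, rfl⟩
      exact hθmem v
    · rw [hZ₀, Subgroup.zpowers_le]
      exact ⟨c, rfl⟩
  have hZ₀card : Nat.card Z₀ = p := by rw [hZ₀, Nat.card_zpowers, hoz₀]
  have hker : Nat.card θ.ker = p ^ e := by
    have h1 := Subgroup.index_ker θ
    rw [hrange, hZ₀card] at h1
    exact (hidx _).mp h1
  -- E6
  have hX : ∀ v : P, orderOf v = p ^ e ↔ ¬ v ∈ θ.ker := by
    intro v
    rw [MonoidHom.mem_ker, hθ, ← orderOf_dvd_iff_pow_eq_one]
    obtain ⟨k, hk, hkv⟩ := hordP v
    rw [hkv, Nat.pow_dvd_pow_iff_le_right hp.one_lt]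
    constructor
    · intro h
      have := Nat.pow_right_injective hp.two_le h
      omega
    · intro h
      congr 1
      omega
  have hXcard : Nat.card {v : P // orderOf v = p ^ e} + p ^ e = p ^ (e + 1) := by
    have h := card_compl_add_card (fun v => v ∈ θ.ker)
    rw [hker, hP] at h
    rw [Nat.card_congr (Equiv.subtypeEquivRight hX)]
    exact h
  -- E7
  let f : {v : P // orderOf v = p ^ e} → {M : Subgroup P // M.index = p ∧ IsCyclic M} :=
    fun v => ⟨Subgroup.zpowers v.1,
      (hidx _).mpr (by rw [Nat.card_zpowers, v.2]), inferInstance⟩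
  have hfib : ∀ M : {M : Subgroup P // M.index = p ∧ IsCyclic M},
      Nat.card {v : {v : P // orderOf v = p ^ e} // f v = M} = Nat.totient (p ^ e) := by
    intro M
    haveI := M.2.2
    have hMcard : Nat.card M.1 = p ^ e := (hidx _).mp M.2.1
    have e1 : {v : {v : P // orderOf v = p ^ e} // f v = M} ≃ {b : M.1 // orderOf b = p ^ e} :=
      { toFun := fun v => ⟨⟨v.1.1, by
            have h := congrArg Subtype.val v.2
            change Subgroup.zpowers v.1.1 = M.1 at h
            rw [← h]; exact Subgroup.mem_zpowers _⟩, by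
            rw [Subgroup.orderOf_mk]; exact v.1.2⟩
        invFun := fun b => ⟨⟨b.1.1, by rw [Subgroup.orderOf_coe]; exact b.2⟩, by
            apply Subtype.ext
            change Subgroup.zpowers b.1.1 = M.1
            apply Subgroup.eq_of_le_of_card_ge (by rw [Subgroup.zpowers_le]; exact b.1.2)
            rw [Nat.card_zpowers, Subgroup.orderOf_coe, b.2, hMcard]⟩
        left_inv := fun _ => rfl
        right_inv := fun _ => rfl }
    rw [Nat.card_congr e1]
    have := Fintype.ofFinite M.1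
    rw [Nat.card_eq_fintype_card, Fintype.card_subtype]
    exact IsCyclic.card_orderOf_eq_totient (by rw [← Nat.card_eq_fintype_card, hMcard])
  have h1 := Nat.card_congr (Equiv.sigmaFiberEquiv f)
  have : Fintype {M : Subgroup P // M.index = p ∧ IsCyclic M} := Fintype.ofFinite _
  rw [Nat.card_sigma, Finset.sum_congr rfl (fun M _ => hfib M), Finset.sum_const, Finset.card_univ,
    smul_eq_mul, ← Nat.card_eq_fintype_card, Nat.totient_prime_pow hp (by omega)] at h1
  rw [← h1] at hXcard
  -- arithmetic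
  have hq : 0 < p ^ (e - 1) := by positivity
  obtain ⟨m, rfl⟩ : ∃ m, p = m + 1 := ⟨p - 1, by omega⟩
  have hm : 0 < m := by have := hp.two_le; omega
  rw [Nat.add_sub_cancel, pow_succ (m + 1) e, hpe] at hXcard
  set q := (m + 1) ^ (e - 1) with hqdef
  set C := Nat.card {M : Subgroup P // M.index = m + 1 ∧ IsCyclic M} with hC
  have h2 : C * m = (m + 1) * m := by
    have h3 : q * (C * m + (m + 1)) = q * ((m + 1) * (m + 1)) := by nlinarith
    have h4 := Nat.eq_of_mul_eq_mul_left hq h3
    nlinarith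
  exact Nat.eq_of_mul_eq_mul_right hm h2

end Cfsg.Agent.Lib.Helper23.Kulakoff
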