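import Mathlib
import Cfsg.Agent.Lib.Helper9.Cyclic
import Cfsg.Agent.Lib.Helper23.KulakoffA
import Cfsg.Agent.Lib.Helper23.KulakoffD
import Cfsg.Agent.Lib.Helper23.KulakoffE2

set_option autoImplicit false

namespace Cfsg.Agent.Lib.Helper23.Kulakoff

universe u

theorem card_subgroups_cyclic {C : Type*} [Group C] [Finite C] [IsCyclic C] (p a : ℕ)
    (hp : p.Prime) (hdvd : p ^ a ∣ Nat.card C) :
    Nat.card {H : Subgroup C // Nat.card H = p ^ a} = 1 := by
  haveI : Fact p.Prime := ⟨hp⟩
  rw [Nat.card_eq_one_iff_unique]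
  constructor
  · constructor
    intro H H'
    exact Subtype.ext (Cfsg.Agent.Lib.Helper9.subgroup_eq_of_card_eq_of_isCyclic _ _
      (H.2.trans H'.2.symm))
  · obtain ⟨K, hK⟩ := Sylow.exists_subgroup_card_pow_prime p hdvd
    exact ⟨⟨K, hK⟩⟩

section

variable {P : Type*} [Group P] [Finite P] {p n : ℕ}

theorem bot_ne_top_of_not_cyclic (hnc : ¬ IsCyclic P) : (⊥ : Subgroup P) ≠ ⊤ := by
  intro h
  apply hnc
  have h1 : Nat.card P = 1 := by
    rw [← Subgroup.card_top (G := P), ← h, Subgroup.card_bot]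
  haveI : Subsingleton P := (Nat.card_eq_one_iff_unique.mp h1).1
  infer_instance

/-- a noncyclic `p`-group has two distinct subgroups of index `p` -/
theorem exists_two_index_p (hp : p.Prime) (hP : Nat.card P = p ^ n) (hnc : ¬ IsCyclic P) :
    ∃ M₁ M₂ : Subgroup P, M₁.index = p ∧ M₂.index = p ∧ M₁ ≠ M₂ := by
  obtain ⟨M₀, hM₀, -⟩ := exists_index_p_of_ne_top hp hP (bot_ne_top_of_not_cyclic hnc)
  by_contra hcon
  push Not at hcon
  have hM₀top : M₀ ≠ ⊤ := by
    intro h
    rw [h, Subgroup.index_top] at hM₀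
    exact hp.one_lt.ne' hM₀.symm
  obtain ⟨x, hx⟩ : ∃ x : P, x ∉ M₀ := by
    by_contra h
    push Not at h
    exact hM₀top (eq_top_iff.mpr fun y _ => h y)
  have hzx : Subgroup.zpowers x ≠ ⊤ := fun h =>
    hnc (isCyclic_iff_exists_zpowers_eq_top.mpr ⟨x, h⟩)
  obtain ⟨M, hM, hxM⟩ := exists_index_p_of_ne_top hp hP hzx
  have := hcon M M₀ hM hM₀
  rw [this] at hxM
  exact hx (hxM (Subgroup.mem_zpowers x))

/-- for noncyclic `P`, the number of subgroups of index `p²` containing `Φ` is `≡ 1 (mod p)` -/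
theorem card_K_modEq_one (hp : p.Prime) (hP : Nat.card P = p ^ n) (hnc : ¬ IsCyclic P) :
    Nat.card {K : Subgroup P // PhiP p P ≤ K ∧ K.index = p ^ 2} ≡ 1 [MOD p] := by
  obtain ⟨M₁, M₂, hM₁, hM₂, hne⟩ := exists_two_index_p hp hP hnc
  haveI hΦn : (PhiP p P).Normal := normal_of_PhiP_le hp hP le_rfl
  obtain ⟨j, hjn, hj⟩ := (Nat.dvd_prime_pow hp).mp (hP ▸ (PhiP p P).index_dvd_card)
  have hj2 : 2 ≤ j := by
    by_contra hlt
    push Not at hlt
    have hcard : ∀ M : Subgroup P, M.index = p → PhiP p P = M := by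
      intro M hM
      apply Subgroup.eq_of_le_of_card_ge (PhiP_le p hM)
      have h1 := M.card_mul_index
      have h2 := (PhiP p P).card_mul_index
      rw [hM] at h1
      rw [hj, ← h1] at h2
      have h3 : p ^ j ≤ p := by
        calc p ^ j ≤ p ^ 1 := Nat.pow_le_pow_right hp.pos (by omega)
          _ = p := pow_one p
      apply Nat.le_of_mul_le_mul_right _ hp.pos
      calc Nat.card M * p = Nat.card (PhiP p P) * p ^ j := h2.symm
        _ ≤ Nat.card (PhiP p P) * p := Nat.mul_le_mul_left _ h3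
    exact hne ((hcard M₁ hM₁).symm.trans (hcard M₂ hM₂))
  rw [← card_quot_index (PhiP p P) (p ^ 2)]
  have hE : Nat.card (P ⧸ PhiP p P) = p ^ j := by rw [← Subgroup.index_eq_card, hj]
  have e : {K' : Subgroup (P ⧸ PhiP p P) // K'.index = p ^ 2} ≃
      {K' : Subgroup (P ⧸ PhiP p P) // Nat.card K' = p ^ (j - 2)} :=
    Equiv.subtypeEquivRight (fun K' => index_eq_iff_card_eq hp hE hj2 K')
  rw [Nat.card_congr e]
  exact Cfsg.Agent.Lib.Helper11.card_subgroups_pow_prime_modEq_one p (j - 2) hp
    (by rw [hE]; exact pow_dvd_pow p (Nat.sub_le j 2))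

/-- the number of subgroups of index `p` in terms of the number of subgroups of index `p²`
containing `Φ` -/
theorem card_M_modEq (hp : p.Prime) (hP : Nat.card P = p ^ n) (hbt : (⊥ : Subgroup P) ≠ ⊤) :
    Nat.card {M : Subgroup P // M.index = p} ≡
      1 + p * Nat.card {K : Subgroup P // PhiP p P ≤ K ∧ K.index = p ^ 2} [MOD p ^ 2] := by
  have key := hall_key hp hP hbt
  have e1 : Nat.card {M : Subgroup P // ⊥ ≤ M ∧ M.index = p} =
      Nat.card {M : Subgroup P // M.index = p} :=
    Nat.card_congr (Equiv.subtypeEquivRight (fun M => by simp))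
  rw [e1, bot_sup_eq] at key
  exact key

end

/-- **Kulakoff's theorem**: in a noncyclic group of order `p^n`, `p` odd, the number of subgroups
of order `p^a` (`1 ≤ a < n`) is `≡ 1 + p (mod p²)`. -/
theorem kulakoff_odd {p : ℕ} (hp : p.Prime) (hp2 : p ≠ 2) :
    ∀ (n : ℕ) (P : Type u) [Group P] [Finite P], Nat.card P = p ^ n → ¬ IsCyclic P →
      ∀ a, 1 ≤ a → a < n →
        Nat.card {H : Subgroup P // Nat.card H = p ^ a} ≡ 1 + p [MOD p ^ 2] := by
  intro n
  induction n using Nat.strong_induction_on with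
  | _ n ih =>
  intro P _ _ hP hnc a ha1 han
  classical
  have hbt := bot_ne_top_of_not_cyclic hnc
  have hM := card_M_modEq hp hP hbt
  rcases Nat.lt_or_ge a (n - 1) with hlt | hge
  · -- `a ≤ n - 2`
    have : Fintype {M : Subgroup P // M.index = p} := Fintype.ofFinite _
    have : Fintype {K : Subgroup P // PhiP p P ≤ K ∧ K.index = p ^ 2} := Fintype.ofFinite _
    have henum := hall_enum hp hP a han
    have hMs : ∀ M : {M : Subgroup P // M.index = p},
        Nat.card {H : Subgroup P // H ≤ M.1 ∧ Nat.card H = p ^ a} ≡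
          (if IsCyclic M.1 then 1 else 1 + p) [MOD p ^ 2] := by
      intro M
      have hMc : Nat.card M.1 = p ^ (n - 1) :=
        (index_eq_iff_card_eq hp hP (k := 1) (by omega) M.1).mp (by rw [pow_one]; exact M.2)
      rw [← Nat.card_congr (relEquiv M.1 (p ^ a))]
      split_ifs with hc
      · rw [card_subgroups_cyclic p a hp (by rw [hMc]; exact pow_dvd_pow p (by omega))]
      · exact ih (n - 1) (by omega) M.1 hMc hc a ha1 hlt
    have h2 := Nat.ModEq.sum (s := Finset.univ) (fun M _ => hMs M)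
    have h3 : ∑ M : {M : Subgroup P // M.index = p}, (if IsCyclic M.1 then 1 else 1 + p) +
        p * Nat.card {M : Subgroup P // M.index = p ∧ IsCyclic M} =
        (1 + p) * Nat.card {M : Subgroup P // M.index = p} := by
      have hc : Nat.card {M : Subgroup P // M.index = p ∧ IsCyclic M} =
          ∑ M : {M : Subgroup P // M.index = p}, (if IsCyclic M.1 then 1 else 0) := by
        have : Fintype {M : Subgroup P // M.index = p ∧ IsCyclic M} := Fintype.ofFinite _
        rw [Finset.sum_boole, Nat.cast_id, Nat.card_eq_fintype_card, ← Fintype.card_subtype]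
        exact Fintype.card_congr (Equiv.subtypeSubtypeEquivSubtypeInter
          (fun M : Subgroup P => M.index = p) (fun M : Subgroup P => IsCyclic M)).symm
      rw [hc, Finset.mul_sum, ← Finset.sum_add_distrib, Nat.card_eq_fintype_card,
        ← Finset.card_univ, mul_comm, ← smul_eq_mul, ← Finset.sum_const]
      apply Finset.sum_congr rfl
      intro M _
      split_ifs <;> ring
    have hpc : p ∣ Nat.card {M : Subgroup P // M.index = p ∧ IsCyclic M} := by
      by_cases hne : Nonempty {M : Subgroup P // M.index = p ∧ IsCyclic M}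
      · obtain ⟨⟨A, hAi, hAc⟩⟩ := hne
        have hn3 : n = (n - 1) + 1 := by omega
        rw [card_cyclic_max hp hp2 (n - 1) (by omega) (by rw [← hn3]; exact hP) hnc A hAi hAc]
      · rw [not_nonempty_iff] at hne
        rw [Nat.card_eq_zero.mpr (Or.inl hne)]
        exact dvd_zero p
    have hKs : ∀ K : {K : Subgroup P // PhiP p P ≤ K ∧ K.index = p ^ 2},
        Nat.card {H : Subgroup P // H ≤ K.1 ∧ Nat.card H = p ^ a} ≡ 1 [MOD p] := by
      intro K
      have hKc : Nat.card K.1 = p ^ (n - 2) :=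
        (index_eq_iff_card_eq hp hP (k := 2) (by omega) K.1).mp K.2.2
      exact card_subgroups_le_modEq_one p a hp K.1 (by rw [hKc]; exact pow_dvd_pow p (by omega))
    have h4 := Nat.ModEq.sum (s := Finset.univ) (fun K _ => hKs K)
    rw [Finset.sum_const, Finset.card_univ, smul_eq_mul, mul_one, ← Nat.card_eq_fintype_card] at h4
    have h5 := Nat.ModEq.mul_left' p h4
    rw [← sq] at h5
    -- cast to `ZMod (p²)`
    obtain ⟨t, ht⟩ := hpc
    have e6 : ((p : ZMod (p ^ 2))) ^ 2 = 0 := by
      have := ZMod.natCast_self (p ^ 2)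
      push_cast at this
      exact this
    have e1 := (ZMod.natCast_eq_natCast_iff _ _ _).mpr henum
    have e2 := (ZMod.natCast_eq_natCast_iff _ _ _).mpr h2
    have e3 := congrArg (Nat.cast : ℕ → ZMod (p ^ 2)) h3
    have e4 := (ZMod.natCast_eq_natCast_iff _ _ _).mpr h5
    have e5 := (ZMod.natCast_eq_natCast_iff _ _ _).mpr hM
    rw [ht] at e3
    rw [← ZMod.natCast_eq_natCast_iff]
    push_cast at e1 e2 e3 e4 e5 ⊢
    rw [e2] at e1
    linear_combination (-1 : ZMod (p ^ 2)) * e1 + e3 - e4 +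
      (1 + (p : ZMod (p ^ 2))) * e5 +
      ((Nat.card {K : Subgroup P // PhiP p P ≤ K ∧ K.index = p ^ 2} : ZMod (p ^ 2)) -
        (t : ZMod (p ^ 2))) * e6
  · -- `a = n - 1`
    have han' : a = n - 1 := by omega
    have e1 : Nat.card {H : Subgroup P // Nat.card H = p ^ a} =
        Nat.card {M : Subgroup P // M.index = p} := by
      apply Nat.card_congr
      apply Equiv.subtypeEquivRight
      intro H
      rw [han']
      have := index_eq_iff_card_eq hp hP (k := 1) (by omega) H
      rw [pow_one] at this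
      exact this.symm
    rw [e1]
    have hK := card_K_modEq_one hp hP hnc
    have h5 := Nat.ModEq.mul_left' p hK
    rw [← sq, mul_one] at h5
    exact hM.trans (Nat.ModEq.add_left 1 h5)

end Cfsg.Agent.Lib.Helper23.Kulakoff
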