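import Mathlib
import Cfsg.Agent.Lib.Helper9.Cyclic
import Cfsg.Agent.Lib.Helper23.KulakoffF

set_option autoImplicit false

namespace Cfsg.Agent.Lib.Helper23.Kulakoff

/-- membership in a subgroup of a cyclic subgroup is detected by a power -/
theorem cyc_mem {G : Type*} [Group G] (W : Subgroup G) [Finite W] [IsCyclic W] (H : Subgroup G)
    (hH : H ≤ W) (x : G) (hx : x ∈ W) (hxc : x ^ Nat.card H = 1) : x ∈ H := by
  have h1 := (Cfsg.Agent.Lib.Helper9.mem_iff_pow_card_eq_one_of_isCyclic (H.subgroupOf W)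
    (⟨x, hx⟩ : W)).mpr (by
      rw [Nat.card_congr (Subgroup.subgroupOfEquivOfLe hH).toEquiv]
      apply Subtype.ext
      simpa using hxc)
  simpa [Subgroup.mem_subgroupOf] using h1

/-- in a group of order `p^(e+1)`, the elements of order `p^e` are the generators of the cyclic
subgroups of index `p` -/
theorem card_orderOf_eq_totient_mul {P : Type*} [Group P] [Finite P] {p : ℕ} (hp : p.Prime)
    (e : ℕ) (hP : Nat.card P = p ^ (e + 1)) :
    Nat.card {v : P // orderOf v = p ^ e} =
      Nat.totient (p ^ e) * Nat.card {M : Subgroup P // M.index = p ∧ IsCyclic M} := by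
  classical
  have hidx : ∀ M : Subgroup P, M.index = p ↔ Nat.card M = p ^ e := by
    intro M
    have := index_eq_iff_card_eq hp hP (k := 1) (by omega) M
    rwa [pow_one, Nat.add_sub_cancel] at this
  let f : {v : P // orderOf v = p ^ e} → {M : Subgroup P // M.index = p ∧ IsCyclic M} :=
    fun v => ⟨Subgroup.zpowers v.1,
      (hidx _).mpr (by rw [Nat.card_zpowers, v.2]), inferInstance⟩
  have hfib : ∀ M : {M : Subgroup P // M.index = p ∧ IsCyclic M},
      Nat.card {v : {v : P // orderOf v = p ^ e} // f v = M} = Nat.totient (p ^ e) := by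
    intro M
    haveI := M.2.2
    have hMcard : Nat.card M.1 = p ^ e := (hidx _).mp M.2.1
    have e1 : {v : {v : P // orderOf v = p ^ e} // f v = M} ≃ {b : M.1 // orderOf b = p ^ e} :=
      { toFun := fun v => ⟨⟨v.1.1, by
            have h := congrArg Subtype.val v.2
            change Subgroup.zpowers v.1.1 = M.1 at h
            rw [← h]; exact Subgroup.mem_zpowers _⟩, by
            rw [Subgroup.orderOf_mk]; exact v.1.2⟩
        invFun := fun b => ⟨⟨b.1.1, by rw [Subgroup.orderOf_coe]; exact b.2⟩, by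
            apply Subtype.ext
            change Subgroup.zpowers b.1.1 = M.1
            apply Subgroup.eq_of_le_of_card_ge (by rw [Subgroup.zpowers_le]; exact b.1.2)
            rw [Nat.card_zpowers, Subgroup.orderOf_coe, b.2, hMcard]⟩
        left_inv := fun _ => rfl
        right_inv := fun _ => rfl }
    rw [Nat.card_congr e1]
    have := Fintype.ofFinite M.1
    rw [Nat.card_eq_fintype_card, Fintype.card_subtype]
    exact IsCyclic.card_orderOf_eq_totient (by rw [← Nat.card_eq_fintype_card, hMcard])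
  have h1 := Nat.card_congr (Equiv.sigmaFiberEquiv f)
  have : Fintype {M : Subgroup P // M.index = p ∧ IsCyclic M} := Fintype.ofFinite _
  rw [Nat.card_sigma, Finset.sum_congr rfl (fun M _ => hfib M), Finset.sum_const, Finset.card_univ,
    smul_eq_mul, ← Nat.card_eq_fintype_card] at h1
  rw [← h1, mul_comm]

/-- A noncyclic group of order `p^(e+1)` (`e ≥ 2`) having a cyclic subgroup of index `p`, in which
the `p^(e-1)`-th power map is multiplicative, has exactly `p` cyclic subgroups of index `p`. -/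
theorem card_cyclic_max_of_pow_hom {P : Type*} [Group P] [Finite P] {p : ℕ} (hp : p.Prime)
    (e : ℕ) (he : 2 ≤ e) (hP : Nat.card P = p ^ (e + 1)) (hnc : ¬ IsCyclic P)
    (A : Subgroup P) (hAi : A.index = p) (hAc : IsCyclic A)
    (hpow : ∀ u v : P, (u * v) ^ (p ^ (e - 1)) = u ^ (p ^ (e - 1)) * v ^ (p ^ (e - 1))) :
    Nat.card {M : Subgroup P // M.index = p ∧ IsCyclic M} = p := by
  classical
  haveI : Fact p.Prime := ⟨hp⟩
  have hp0 : 0 < p := hp.pos
  have hidx : ∀ M : Subgroup P, M.index = p ↔ Nat.card M = p ^ e := by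
    intro M
    have := index_eq_iff_card_eq hp hP (k := 1) (by omega) M
    rwa [pow_one, Nat.add_sub_cancel] at this
  have hAcard : Nat.card A = p ^ e := (hidx A).mp hAi
  obtain ⟨c', hc'⟩ := hAc.exists_generator
  set c : P := (c' : P) with hcdef
  have hoc : orderOf c = p ^ e := by
    rw [hcdef, Subgroup.orderOf_coe, orderOf_eq_card_of_forall_mem_zpowers hc', hAcard]
  have hcA : c ∈ A := c'.2
  have hzc : ∀ y : P, y ∈ A → ∃ a : ℕ, y = c ^ a := by
    intro y hy
    have h1 := hc' ⟨y, hy⟩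
    have hfin : IsOfFinOrder c' := isOfFinOrder_of_finite c'
    rw [← hfin.mem_powers_iff_mem_zpowers, Submonoid.mem_powers_iff] at h1
    obtain ⟨a, ha⟩ := h1
    refine ⟨a, ?_⟩
    have := congrArg Subtype.val ha
    simpa using this.symm
  haveI hAn : A.Normal := normal_of_index_p hp hP hAi
  have hpowA : ∀ g : P, g ^ p ∈ A := fun g => by
    have := Subgroup.pow_index_mem A g
    rwa [hAi] at this
  have hpe : p ^ e = p ^ (e - 1) * p := by rw [← pow_succ]; congr 1; omega
  set z₀ : P := c ^ (p ^ (e - 1)) with hz₀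
  set Z₀ : Subgroup P := Subgroup.zpowers z₀ with hZ₀
  have hz₀p : z₀ ^ p = 1 := by
    rw [hz₀, ← pow_mul, ← hpe, ← hoc, pow_orderOf_eq_one]
  have hz₀1 : z₀ ≠ 1 := by
    rw [hz₀]
    apply pow_ne_one_of_lt_orderOf (by positivity)
    rw [hoc, hpe]
    have : 0 < p ^ (e - 1) := by positivity
    have := hp.one_lt
    nlinarith
  have hoz₀ : orderOf z₀ = p := orderOf_eq_prime hz₀p hz₀1
  have hordP : ∀ v : P, ∃ k, k ≤ e ∧ orderOf v = p ^ k := by
    intro v
    have hv : orderOf v ∣ p ^ (e + 1) := by rw [← hP]; exact orderOf_dvd_natCard v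
    obtain ⟨k, hk, hkv⟩ := (Nat.dvd_prime_pow hp).mp hv
    refine ⟨k, ?_, hkv⟩
    rcases Nat.lt_or_ge k (e + 1) with h | h
    · omega
    · exfalso
      have : k = e + 1 := le_antisymm hk h
      exact hnc (isCyclic_of_orderOf_eq_card v (by rw [hkv, this, hP]))
  have hpowΦ : ∀ v : P, ∃ t : ℕ, v ^ p = (c ^ p) ^ t := by
    intro v
    obtain ⟨t, ht⟩ := hzc _ (hpowA v)
    by_cases hpt : p ∣ t
    · obtain ⟨t', rfl⟩ := hpt
      exact ⟨t', by rw [ht, pow_mul]⟩
    · exfalso
      have hcop : (orderOf c).Coprime t := by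
        rw [hoc]
        exact ((Nat.Prime.coprime_iff_not_dvd hp).mpr hpt).pow_left e
      have h1 : orderOf (v ^ p) = p ^ e := by rw [ht, hcop.orderOf_pow, hoc]
      obtain ⟨k, hk, hkv⟩ := hordP v
      have h2 : orderOf (v ^ p) = orderOf v / Nat.gcd (orderOf v) p := orderOf_pow' v hp.ne_zero
      rw [hkv, h1] at h2
      have h3 : p ^ k / Nat.gcd (p ^ k) p ≤ p ^ k := Nat.div_le_self _ _
      rw [← h2] at h3
      have h4 : k = e := le_antisymm hk ((Nat.pow_le_pow_iff_right hp.one_lt).mp h3)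
      subst h4
      have h5 : Nat.gcd (p ^ k) p = p := Nat.gcd_eq_right (dvd_pow_self p (by omega))
      rw [h5] at h2
      have h6 : p ^ k / p < p ^ k := Nat.div_lt_self (by positivity) hp.one_lt
      omega
  let θ : P →* P := MonoidHom.mk' (fun v => v ^ (p ^ (e - 1))) hpow
  have hθ : ∀ v, θ v = v ^ (p ^ (e - 1)) := fun v => rfl
  have hpe2 : p ^ (e - 1) = p * p ^ (e - 2) := by rw [← pow_succ']; congr 1; omega
  have hθmem : ∀ v, θ v ∈ Z₀ := by
    intro v
    obtain ⟨t, ht⟩ := hpowΦ v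
    rw [hθ, hpe2, pow_mul, ht]
    have : ((c ^ p) ^ t) ^ p ^ (e - 2) = z₀ ^ t := by
      rw [hz₀, hpe2, ← pow_mul, ← pow_mul, ← pow_mul]
      congr 1
      ring
    rw [this]
    exact Subgroup.pow_mem _ (Subgroup.mem_zpowers z₀) t
  have hrange : θ.range = Z₀ := by
    apply le_antisymm
    · rintro _ ⟨v, rfl⟩
      exact hθmem v
    · rw [hZ₀, Subgroup.zpowers_le]
      exact ⟨c, rfl⟩
  have hZ₀card : Nat.card Z₀ = p := by rw [hZ₀, Nat.card_zpowers, hoz₀]
  have hker : Nat.card θ.ker = p ^ e := by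
    have h1 := Subgroup.index_ker θ
    rw [hrange, hZ₀card] at h1
    exact (hidx _).mp h1
  have hX : ∀ v : P, orderOf v = p ^ e ↔ ¬ v ∈ θ.ker := by
    intro v
    rw [MonoidHom.mem_ker, hθ, ← orderOf_dvd_iff_pow_eq_one]
    obtain ⟨k, hk, hkv⟩ := hordP v
    rw [hkv, Nat.pow_dvd_pow_iff_le_right hp.one_lt]
    constructor
    · intro h
      have := Nat.pow_right_injective hp.two_le h
      omega
    · intro h
      congr 1
      omega
  have hXcard : Nat.card {v : P // orderOf v = p ^ e} + p ^ e = p ^ (e + 1) := by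
    have h := card_compl_add_card (fun v => v ∈ θ.ker)
    rw [hker, hP] at h
    rw [Nat.card_congr (Equiv.subtypeEquivRight hX)]
    exact h
  rw [card_orderOf_eq_totient_mul hp e hP, Nat.totient_prime_pow hp (by omega)] at hXcard
  -- arithmetic
  have hq : 0 < p ^ (e - 1) := by positivity
  obtain ⟨m, rfl⟩ : ∃ m, p = m + 1 := ⟨p - 1, by omega⟩
  have hm : 0 < m := by have := hp.two_le; omega
  rw [Nat.add_sub_cancel, pow_succ (m + 1) e, hpe] at hXcard
  set q := (m + 1) ^ (e - 1) with hqdef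
  set C := Nat.card {M : Subgroup P // M.index = m + 1 ∧ IsCyclic M} with hC
  have h2 : C * m = (m + 1) * m := by
    have h3 : q * (C * m + (m + 1)) = q * ((m + 1) * (m + 1)) := by nlinarith
    have h4 := Nat.eq_of_mul_eq_mul_left hq h3
    nlinarith
  exact Nat.eq_of_mul_eq_mul_right hm h2

/-- If all commutators are central involutions, the `2^k`-th power map is multiplicative for
`k ≥ 2`. -/
theorem mul_pow_two_pow_of_class_two {G : Type*} [Group G] (Z : Subgroup G)
    (hZc : ∀ z ∈ Z, ∀ x : G, z * x = x * z) (hZp : ∀ z ∈ Z, z ^ 2 = 1)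
    (hcomm : ∀ u v : G, u * v * u⁻¹ * v⁻¹ ∈ Z) (k : ℕ) (hk : 2 ≤ k) (v w : G) :
    (v * w) ^ (2 ^ k) = v ^ (2 ^ k) * w ^ (2 ^ k) := by
  have hz := hcomm w v
  have h : w * v = (w * v * w⁻¹ * v⁻¹) * v * w := by group
  rw [mul_pow_of_central (hZc _ hz) h (2 ^ k)]
  have hdvd : 2 ∣ (2 ^ k).choose 2 := by
    rw [Nat.choose_two_right]
    obtain ⟨j, rfl⟩ : ∃ j, k = j + 2 := ⟨k - 2, by omega⟩
    have h1 : 2 ^ (j + 2) * (2 ^ (j + 2) - 1) / 2 = 2 * (2 ^ j * (2 ^ (j + 2) - 1)) := by
      apply Nat.div_eq_of_eq_mul_left (by norm_num)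
      rw [pow_add]
      ring
    rw [h1]
    exact dvd_mul_right _ _
  obtain ⟨t, ht⟩ := hdvd
  rw [ht, pow_mul, hZp _ hz, one_pow, one_mul]

end Cfsg.Agent.Lib.Helper23.Kulakoff
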