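import Mathlib
import Cfsg.Agent.Lib.Helper1.MaxClassComm
import Cfsg.Agent.Lib.Helper1.NormalFour
import Cfsg.Agent.Lib.Helper23.KulakoffG

set_option autoImplicit false

namespace Cfsg.Agent.Lib.Helper23.Kulakoff

open Subgroup
open scoped commutatorElement

universe u

/-- the commutator subgroup of a noncyclic `2`-group has index divisible by `4` -/
theorem four_dvd_index_commutator {P : Type u} [Group P] [Finite P] {n : ℕ}
    (hP : Nat.card P = 2 ^ n) (hnc : ¬ IsCyclic P) : 4 ∣ (commutator P).index := by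
  haveI : Fact (Nat.Prime 2) := ⟨Nat.prime_two⟩
  obtain ⟨j, hjn, hj⟩ := (Nat.dvd_prime_pow Nat.prime_two).mp (hP ▸ (commutator P).index_dvd_card)
  have hcq : Nat.card (P ⧸ commutator P) = 2 ^ j := by rw [← Subgroup.index_eq_card, hj]
  have hcyc : IsCyclic (P ⧸ commutator P) → False := fun h =>
    hnc (Cfsg.Agent.Lib.Helper1.isCyclic_of_isCyclic_commutator_quotient (p := 2) n P hP h)
  rcases Nat.lt_or_ge j 2 with hlt | hge
  · exfalso
    interval_cases j
    · rw [pow_zero] at hcq
      haveI : Subsingleton (P ⧸ commutator P) := (Nat.card_eq_one_iff_unique.mp hcq).1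
      exact hcyc inferInstance
    · rw [pow_one] at hcq
      exact hcyc (isCyclic_of_prime_card hcq)
  · rw [hj]
    exact pow_dvd_pow 2 hge

/-- if moreover the index is not `4`, it is divisible by `8` -/
theorem eight_dvd_index_commutator {P : Type u} [Group P] [Finite P] {n : ℕ}
    (hP : Nat.card P = 2 ^ n) (hnc : ¬ IsCyclic P) (hgood : (commutator P).index ≠ 4) :
    8 ∣ (commutator P).index := by
  have h4 := four_dvd_index_commutator hP hnc
  obtain ⟨j, hjn, hj⟩ := (Nat.dvd_prime_pow Nat.prime_two).mp (hP ▸ (commutator P).index_dvd_card)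
  rw [hj] at h4 hgood ⊢
  have hj2 : 2 ≤ j := by
    by_contra h
    push Not at h
    interval_cases j <;> omega
  have hj3 : j ≠ 2 := fun h => hgood (by rw [h]; norm_num)
  exact pow_dvd_pow 2 (show 3 ≤ j by omega)

/-- **Cyclic maximal subgroups of good `2`-groups.**  A noncyclic group of order `2^(e+1)`,
`e ≥ 2`, whose commutator subgroup does not have index `4` and which has a cyclic subgroup of
index `2`, has exactly two such subgroups, and all its subgroups of index `2` are abelian. -/
theorem good_cyclic_max {P : Type u} [Group P] [Finite P] (e : ℕ) (he : 2 ≤ e)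
    (hP : Nat.card P = 2 ^ (e + 1)) (hnc : ¬ IsCyclic P) (hgood : (commutator P).index ≠ 4)
    (A : Subgroup P) (hAi : A.index = 2) (hAc : IsCyclic A) :
    Nat.card {M : Subgroup P // M.index = 2 ∧ IsCyclic M} = 2 ∧
      ∀ M : Subgroup P, M.index = 2 → ∀ x ∈ M, ∀ y ∈ M, x * y = y * x := by
  classical
  have hp := Nat.prime_two
  haveI : Fact (Nat.Prime 2) := ⟨hp⟩
  have hidx : ∀ M : Subgroup P, M.index = 2 ↔ Nat.card M = 2 ^ e := by
    intro M
    have := index_eq_iff_card_eq hp hP (k := 1) (by omega) M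
    rwa [pow_one, Nat.add_sub_cancel] at this
  have hAcard : Nat.card A = 2 ^ e := (hidx A).mp hAi
  obtain ⟨c', hc'⟩ := hAc.exists_generator
  set c : P := (c' : P) with hcdef
  have hoc : orderOf c = 2 ^ e := by
    rw [hcdef, Subgroup.orderOf_coe, orderOf_eq_card_of_forall_mem_zpowers hc', hAcard]
  have hcA : c ∈ A := c'.2
  have hzcA : Subgroup.zpowers c = A := by
    apply Subgroup.eq_of_le_of_card_ge
    · rw [Subgroup.zpowers_le]; exact hcA
    · rw [Nat.card_zpowers, hoc, hAcard]
  haveI hAn : A.Normal := normal_of_index_p hp hP hAi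
  have hAab : IsMulCommutative A := IsCyclic.isMulCommutative
  have hAcomm : ∀ x ∈ A, ∀ y ∈ A, x * y = y * x := fun x hx y hy =>
    congrArg Subtype.val (mul_comm' (⟨x, hx⟩ : A) ⟨y, hy⟩)
  have h8 := eight_dvd_index_commutator hP hnc hgood
  have hpe : 2 ^ e = 2 ^ (e - 1) * 2 := by rw [← pow_succ]; congr 1; omega
  have hpe2 : 2 ^ e = 2 ^ (e - 2) * 4 := by
    rw [show (4 : ℕ) = 2 ^ 2 by norm_num, ← pow_add]; congr 1; omega
  set z₀ : P := c ^ (2 ^ (e - 1)) with hz₀
  set Z₀ : Subgroup P := Subgroup.zpowers z₀ with hZ₀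
  have hz₀p : z₀ ^ 2 = 1 := by
    rw [hz₀, ← pow_mul, ← hpe, ← hoc, pow_orderOf_eq_one]
  have hZp : ∀ z ∈ Z₀, z ^ 2 = 1 := by
    intro z hz
    obtain ⟨i, rfl⟩ := Subgroup.mem_zpowers_iff.mp hz
    rw [← zpow_natCast, ← zpow_mul, mul_comm, zpow_mul, zpow_natCast, hz₀p, one_zpow]
  have hZ₀A : Z₀ ≤ A := by
    rw [hZ₀, Subgroup.zpowers_le, hz₀]
    exact A.pow_mem hcA _
  -- the element of order four
  set u : P := c ^ (2 ^ (e - 2)) with hu
  have hu4 : u ^ 4 = 1 := by
    rw [hu, ← pow_mul, ← hpe2, ← hoc, pow_orderOf_eq_one]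
  have hu2 : u ^ 2 ≠ 1 := by
    rw [hu, ← pow_mul]
    apply pow_ne_one_of_lt_orderOf (by positivity)
    rw [hoc, hpe2]
    have : 0 < 2 ^ (e - 2) := by positivity
    omega
  have huA : u ∈ A := A.pow_mem hcA _
  -- step 1 : commutators with `c` lie in `Z₀`
  have hcomm_c : ∀ g : P, g * c * g⁻¹ * c⁻¹ ∈ Z₀ := by
    intro g
    by_cases hg : g ∈ A
    · have : g * c * g⁻¹ * c⁻¹ = 1 := by rw [hAcomm g hg c hcA]; group
      rw [this]; exact Z₀.one_mem
    · set b : P := g * c * g⁻¹ * c⁻¹ with hb
      have hbA : b ∈ A := A.mul_mem (hAn.conj_mem c hcA g) (A.inv_mem hcA)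
      have hg2 : g * g ∈ A := Subgroup.mul_self_mem_of_index_two hAi g
      have hconjb : g * b * g⁻¹ = b⁻¹ := by
        have h1 : g * b * g⁻¹ = ((g * g) * c * (g * g)⁻¹) * (g * c * g⁻¹)⁻¹ := by
          rw [hb]; group
        have h2 : (g * g) * c * (g * g)⁻¹ = c := by
          rw [hAcomm (g * g) hg2 c hcA]; group
        rw [h1, h2, hb]; group
      -- `u` commutes with `g`
      have hform := Cfsg.Agent.Lib.Helper1.card_commutator_mul_card_centralizer A hAab hAi g hg
      have hci := (commutator P).card_mul_index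
      rw [hP] at hci
      rw [hAcard] at hform
      have h4m : 4 ∣ Nat.card (A ⊓ centralizer ({g} : Set P) : Subgroup P) := by
        obtain ⟨s, hs⟩ := h8
        set d := Nat.card (commutator P) with hd
        set m := Nat.card (A ⊓ centralizer ({g} : Set P) : Subgroup P) with hm
        have hd0 : 0 < d := Nat.card_pos
        rw [hs, pow_succ, ← hform] at hci
        have h5 : d * (8 * s) = d * (m * 2) := by rw [hci]; ring
        have h6 := Nat.eq_of_mul_eq_mul_left hd0 h5
        exact ⟨s, by omega⟩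
      haveI : IsCyclic A := hAc
      have hug : u ∈ A ⊓ centralizer ({g} : Set P) := by
        apply cyc_mem A _ inf_le_left u huA
        obtain ⟨s, hs⟩ := h4m
        rw [hs, pow_mul, hu4, one_pow]
      have hugc : g * u = u * g := by
        have h0 : u ∈ centralizer ({g} : Set P) := hug.2
        rw [Subgroup.mem_centralizer_iff] at h0
        exact h0 g (Set.mem_singleton g)
      -- `b² = 1`
      have hb2 : b ^ 2 = 1 := by
        by_contra hne
        have hob : orderOf b ∣ 2 ^ (e + 1) := by rw [← hP]; exact orderOf_dvd_natCard b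
        obtain ⟨f, hf, hfb⟩ := (Nat.dvd_prime_pow hp).mp hob
        have hf2 : 2 ≤ f := by
          by_contra hlt
          push Not at hlt
          apply hne
          rw [← orderOf_dvd_iff_pow_eq_one, hfb]
          calc 2 ^ f ∣ 2 ^ 1 := pow_dvd_pow 2 (by omega)
            _ = 2 := pow_one 2
        have hub : u ∈ Subgroup.zpowers b := by
          apply cyc_mem A _ (by rw [Subgroup.zpowers_le]; exact hbA) u huA
          rw [Nat.card_zpowers, hfb]
          obtain ⟨j, rfl⟩ : ∃ j, f = j + 2 := ⟨f - 2, by omega⟩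
          rw [pow_add, mul_comm, pow_mul]
          norm_num
          rw [hu4, one_pow]
        obtain ⟨i, hi⟩ := Subgroup.mem_zpowers_iff.mp hub
        have h1 : g * u * g⁻¹ = u⁻¹ := by
          rw [← hi]
          have : g * b ^ i * g⁻¹ = (g * b * g⁻¹) ^ i := by
            simpa using (map_zpow (MulAut.conj g) b i)
          rw [this, hconjb, inv_zpow]
        have h2 : g * u * g⁻¹ = u := by rw [hugc]; group
        rw [h2] at h1
        apply hu2
        rw [pow_two]
        nth_rewrite 1 [h1]
        exact inv_mul_cancel u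
      have hoc2 : orderOf c = 2 * 2 ^ (e - 1) := by rw [hoc, hpe, mul_comm]
      exact Cfsg.Agent.Lib.Helper1.mem_zpowers_pow_of_pow_eq_one (by norm_num) hoc2
        (hzcA ▸ hbA) hb2
  -- `z₀` is central
  have hz₀c : ∀ x : P, z₀ * x = x * z₀ := by
    intro x
    have hb := hcomm_c x
    set b : P := x * c * x⁻¹ * c⁻¹ with hbdef
    have hbA : b ∈ A := hZ₀A hb
    have hbc : x * c * x⁻¹ = b * c := by rw [hbdef]; group
    have hbcomm : Commute b c := hAcomm b hbA c hcA
    have h1 : x * z₀ * x⁻¹ = z₀ := by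
      have : x * z₀ * x⁻¹ = (x * c * x⁻¹) ^ (2 ^ (e - 1)) := by
        rw [hz₀]
        simpa using (map_pow (MulAut.conj x) c (2 ^ (e - 1)))
      rw [this, hbc, hbcomm.mul_pow]
      have : b ^ 2 ^ (e - 1) = 1 := by
        obtain ⟨j, hj⟩ : ∃ j, e - 1 = j + 1 := ⟨e - 2, by omega⟩
        rw [hj, pow_succ', pow_mul, hZp b hb, one_pow]
      rw [this, one_mul]
    calc z₀ * x = (x * z₀ * x⁻¹) * x := by rw [h1]
      _ = x * z₀ := by group
  have hZc : ∀ z ∈ Z₀, ∀ x : P, z * x = x * z := by
    intro z hz x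
    obtain ⟨i, rfl⟩ := Subgroup.mem_zpowers_iff.mp hz
    exact ((show Commute z₀ x from hz₀c x).zpow_left i).eq
  -- all commutators lie in `Z₀`
  have hcommall : ∀ u v : P, u * v * u⁻¹ * v⁻¹ ∈ Z₀ := by
    have hA_le : ∀ v : P, A ≤ commSubgroup Z₀ hZc v := by
      intro v
      rw [← hzcA, Subgroup.zpowers_le, mem_commSubgroup]
      exact hcomm_c v
    intro u v
    by_cases hu : u ∈ A
    · have := hA_le v hu
      rw [mem_commSubgroup] at this
      have h1 : u * v * u⁻¹ * v⁻¹ = (v * u * v⁻¹ * u⁻¹)⁻¹ := by group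
      rw [h1]
      exact Z₀.inv_mem this
    · have hS : commSubgroup Z₀ hZc u = ⊤ := by
        have hle := hA_le u
        have hu_mem : u ∈ commSubgroup Z₀ hZc u := by
          rw [mem_commSubgroup]
          simp
        by_contra hne
        have hidx' : (commSubgroup Z₀ hZc u).index ∣ A.index := Subgroup.index_dvd_of_le hle
        rw [hAi] at hidx'
        rcases (Nat.dvd_prime hp).mp hidx' with h1 | h1
        · exact hne (Subgroup.index_eq_one.mp h1)
        · have hcardS := (hidx _).mp h1
          have : A = commSubgroup Z₀ hZc u :=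
            Subgroup.eq_of_le_of_card_ge hle (by rw [hcardS, hAcard])
          exact hu (this ▸ hu_mem)
      have : v ∈ commSubgroup Z₀ hZc u := hS ▸ Subgroup.mem_top v
      exact this
  -- the power map
  have hpow : ∀ v w : P, (v * w) ^ (2 ^ (e - 1)) = v ^ (2 ^ (e - 1)) * w ^ (2 ^ (e - 1)) := by
    rcases Nat.lt_or_ge e 3 with hlt | hge
    · -- `e = 2` : `P` is abelian
      have he2 : e = 2 := by omega
      subst he2
      have hci := (commutator P).card_mul_index
      rw [hP] at hci
      obtain ⟨s, hs⟩ := h8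
      have hd1 : Nat.card (commutator P) = 1 := by
        have hd0 : 0 < Nat.card (commutator P) := Nat.card_pos
        rw [hs] at hci
        have hs0 : 0 < s := by
          rcases Nat.eq_zero_or_pos s with h | h
          · rw [h] at hci; simp at hci
          · exact h
        norm_num at hci
        nlinarith
      have hbot : commutator P = ⊥ := Subgroup.card_eq_one.mp hd1
      intro v w
      have hvw : Commute v w := by
        have h1 : ⁅v, w⁆ ∈ commutator P := by
          rw [_root_.commutator_def]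
          exact Subgroup.commutator_mem_commutator (Subgroup.mem_top _) (Subgroup.mem_top _)
        rw [hbot, Subgroup.mem_bot, commutatorElement_eq_one_iff_commute] at h1
        exact h1
      exact hvw.mul_pow _
    · intro v w
      exact mul_pow_two_pow_of_class_two Z₀ hZc hZp hcommall (e - 1) (by omega) v w
  refine ⟨card_cyclic_max_of_pow_hom hp e he hP hnc A hAi hAc hpow, ?_⟩
  -- all subgroups of index two are abelian
  have hc2c : ∀ x : P, x * c ^ 2 = c ^ 2 * x := by
    intro x
    have hb := hcomm_c x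
    set b : P := x * c * x⁻¹ * c⁻¹ with hbdef
    have hbA : b ∈ A := hZ₀A hb
    have hbc : x * c * x⁻¹ = b * c := by rw [hbdef]; group
    have hbcomm : Commute b c := hAcomm b hbA c hcA
    have h1 : x * c ^ 2 * x⁻¹ = c ^ 2 := by
      have : x * c ^ 2 * x⁻¹ = (x * c * x⁻¹) ^ 2 := by
        simpa using (map_pow (MulAut.conj x) c 2)
      rw [this, hbc, hbcomm.mul_pow, hZp b hb, one_mul]
    calc x * c ^ 2 = (x * c ^ 2 * x⁻¹) * x := by group
      _ = c ^ 2 * x := by rw [h1]
  have hoc2 : orderOf (c ^ 2) = 2 ^ (e - 1) := by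
    rw [orderOf_pow' c (by norm_num), hoc, Nat.gcd_eq_right (dvd_pow_self 2 (by omega)), hpe]
    exact Nat.mul_div_cancel _ (by norm_num)
  intro M hMi
  by_cases hMA : M = A
  · intro x hx y hy
    exact hAcomm x (hMA ▸ hx) y (hMA ▸ hy)
  · have hMcard : Nat.card M = 2 ^ e := (hidx M).mp hMi
    haveI : IsCyclic A := hAc
    have hinf : M ⊓ A = Subgroup.zpowers (c ^ 2) := by
      apply Cfsg.Agent.Lib.Helper9.eq_of_card_eq_of_le_isCyclic A _ _ inf_le_right
        (by rw [Subgroup.zpowers_le]; exact A.pow_mem hcA 2)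
      rw [Nat.card_zpowers, hoc2]
      -- the order of `M ⊓ A`
      have h1 : (M ⊓ A).index ≤ M.index * A.index := Subgroup.index_inf_le
      rw [hMi, hAi] at h1
      have h2 := (M ⊓ A).card_mul_index
      rw [hP] at h2
      obtain ⟨f, hf, hfc⟩ := (Nat.dvd_prime_pow hp).mp (hAcard ▸
        Subgroup.card_dvd_of_le (inf_le_right : M ⊓ A ≤ A))
      have hfe : f ≠ e := by
        intro h
        apply hMA
        have h3 : M ⊓ A = A := Subgroup.eq_of_le_of_card_ge inf_le_right (by rw [hfc, h, hAcard])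
        have h4 : A ≤ M := by rw [← h3]; exact inf_le_left
        exact (Subgroup.eq_of_le_of_card_ge h4 (by rw [hMcard, hAcard])).symm
      rw [hfc]
      congr 1
      by_contra hne
      have hlt : f + 2 ≤ e := by omega
      rw [hfc] at h2
      have h5 : 2 ^ (e + 1) ≤ 2 ^ f * 4 := by
        rw [← h2]
        exact Nat.mul_le_mul_left _ h1
      have h6 : 2 ^ f * 4 = 2 ^ (f + 2) := by rw [pow_add]; norm_num
      rw [h6] at h5
      have := (Nat.pow_le_pow_iff_right (by norm_num : 1 < 2)).mp h5
      omega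
    have hcent : ∀ x ∈ M, x ∈ A → ∀ y : P, x * y = y * x := by
      intro x hxM hxA y
      have hx : x ∈ Subgroup.zpowers (c ^ 2) := hinf ▸ (⟨hxM, hxA⟩ : x ∈ M ⊓ A)
      obtain ⟨i, rfl⟩ := Subgroup.mem_zpowers_iff.mp hx
      exact ((show Commute y (c ^ 2) from hc2c y).zpow_right i).eq.symm
    intro x hx y hy
    by_cases hxA : x ∈ A
    · exact hcent x hx hxA y
    · by_cases hyA : y ∈ A
      · exact (hcent y hy hyA x).symm
      · have hw : x⁻¹ * y ∈ A := by
          rw [Subgroup.mul_mem_iff_of_index_two hAi, Subgroup.inv_mem_iff]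
          exact ⟨fun h => absurd h hxA, fun h => absurd h hyA⟩
        have hwM : x⁻¹ * y ∈ M := M.mul_mem (M.inv_mem hx) hy
        have hwc := hcent _ hwM hw x
        calc x * y = x * (x * (x⁻¹ * y)) := by group
          _ = x * ((x⁻¹ * y) * x) := by rw [hwc]
          _ = y * x := by group

end Cfsg.Agent.Lib.Helper23.Kulakoff
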