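import Mathlib
import Cfsg.Agent.Lib.Helper1.MaxClassDihedral
import Cfsg.Agent.Lib.Helper23.KulakoffH

set_option autoImplicit false

namespace Cfsg.Agent.Lib.Helper23.Kulakoff

open Subgroup
open scoped commutatorElement

universe u

theorem mem_inf_centralizer_singleton {P : Type*} [Group P] {A : Subgroup P} {s x : P}
    (hx : x ∈ A) (h : s * x = x * s) : x ∈ A ⊓ centralizer ({s} : Set P) := by
  refine ⟨hx, ?_⟩
  show x ∈ centralizer ({s} : Set P)
  rw [Subgroup.mem_centralizer_iff]
  intro r hr
  rw [Set.mem_singleton_iff] at hr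
  subst hr
  exact h

/-- two subgroups of index two, one of them not contained in the other: cardinality of the
intersection -/
theorem card_inf_of_index_two {P : Type*} [Group P] [Finite P] {n : ℕ} (hn : 2 ≤ n)
    (hP : Nat.card P = 2 ^ n) (M A : Subgroup P) (hMi : M.index = 2) (hAi : A.index = 2)
    (hMA : M ≠ A) : Nat.card (M ⊓ A : Subgroup P) = 2 ^ (n - 2) := by
  have hp := Nat.prime_two
  have hidx : ∀ M : Subgroup P, M.index = 2 ↔ Nat.card M = 2 ^ (n - 1) := by
    intro M
    have := index_eq_iff_card_eq hp hP (k := 1) (by omega) M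
    rwa [pow_one] at this
  have hMcard := (hidx M).mp hMi
  have hAcard := (hidx A).mp hAi
  have h1 : (M ⊓ A).index ≤ M.index * A.index := Subgroup.index_inf_le
  rw [hMi, hAi] at h1
  have h2 := (M ⊓ A).card_mul_index
  rw [hP] at h2
  obtain ⟨f, hf, hfc⟩ := (Nat.dvd_prime_pow hp).mp (hAcard ▸
    Subgroup.card_dvd_of_le (inf_le_right : M ⊓ A ≤ A))
  have hfe : f ≠ n - 1 := by
    intro h
    apply hMA
    have h3 : M ⊓ A = A := Subgroup.eq_of_le_of_card_ge inf_le_right (by rw [hfc, h, hAcard])
    have h4 : A ≤ M := by rw [← h3]; exact inf_le_left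
    exact (Subgroup.eq_of_le_of_card_ge h4 (by rw [hMcard, hAcard])).symm
  rw [hfc]
  congr 1
  by_contra hne
  have hlt : f + 3 ≤ n := by omega
  rw [hfc] at h2
  have h5 : 2 ^ n ≤ 2 ^ f * 4 := by
    rw [← h2]
    exact Nat.mul_le_mul_left _ h1
  have h6 : 2 ^ f * 4 = 2 ^ (f + 2) := by rw [pow_add]; norm_num
  rw [h6] at h5
  have := (Nat.pow_le_pow_iff_right (by norm_num : 1 < 2)).mp h5
  omega

/-- the structural data of a `2`-group whose commutator subgroup has index four -/
theorem maxclass_data {P : Type u} [Group P] [Finite P] (n : ℕ) (hn : 3 ≤ n)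
    (hP : Nat.card P = 2 ^ n) (hidx4 : (commutator P).index = 4) :
    ∃ (A : Subgroup P), A.index = 2 ∧ IsCyclic A ∧ Nat.card (center P) = 2 ∧
      ∀ s : P, s ∉ A → A ⊓ centralizer ({s} : Set P) ≤ center P := by
  have hc := Cfsg.Agent.Lib.Helper1.nilpotencyClass_of_index_commutator n hn P hP hidx4
  obtain ⟨c, t, hCi, ht, hinf, hZ, hZC⟩ := Cfsg.Agent.Lib.Helper1.maximal_class_data n hn P hP hc
  refine ⟨zpowers c, hCi, inferInstance, hZ, fun s hs => ?_⟩
  exact Cfsg.Agent.Lib.Helper1.inf_centralizer_le_center_of_index_two _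
    IsCyclic.isMulCommutative hCi s hs

/-- **ST2a**: in a `2`-group of order at least `16` whose commutator subgroup has index four,
every subgroup of index two is cyclic or again has commutator subgroup of index four. -/
theorem maxclass_max_bad {P : Type u} [Group P] [Finite P] (n : ℕ) (hn : 4 ≤ n)
    (hP : Nat.card P = 2 ^ n) (hidx4 : (commutator P).index = 4) (M : Subgroup P)
    (hMi : M.index = 2) : IsCyclic M ∨ (commutator M).index = 4 := by
  classical
  have hp := Nat.prime_two
  obtain ⟨A, hAi, hAc, hZ, hcent⟩ := maxclass_data n (by omega) hP hidx4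
  have hidx : ∀ M : Subgroup P, M.index = 2 ↔ Nat.card M = 2 ^ (n - 1) := by
    intro M
    have := index_eq_iff_card_eq hp hP (k := 1) (by omega) M
    rwa [pow_one] at this
  have hMcard := (hidx M).mp hMi
  by_cases hMA : M = A
  · left; rw [hMA]; exact hAc
  by_cases hMc : IsCyclic M
  · left; exact hMc
  right
  have hinfc := card_inf_of_index_two (by omega) hP M A hMi hAi hMA
  -- an element of `M` outside `A`
  obtain ⟨s, hsM, hsA⟩ : ∃ s, s ∈ M ∧ s ∉ A := by
    by_contra hcon
    push Not at hcon
    exact hMA (Subgroup.eq_of_le_of_card_ge hcon (by rw [hMcard, (hidx A).mp hAi]))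
  set C' : Subgroup M := A.subgroupOf M with hC'
  have hC'card : Nat.card C' = 2 ^ (n - 2) := by
    rw [hC', ← Subgroup.inf_subgroupOf_right,
      Nat.card_congr (Subgroup.subgroupOfEquivOfLe (inf_le_right : A ⊓ M ≤ M)).toEquiv,
      inf_comm, hinfc]
  have hC'i : C'.index = 2 := by
    have h := C'.card_mul_index
    rw [hC'card, hMcard] at h
    have h2 : 2 ^ (n - 1) = 2 ^ (n - 2) * 2 := by rw [← pow_succ]; congr 1; omega
    rw [h2] at h
    exact Nat.eq_of_mul_eq_mul_left (by positivity) h
  have hAab : IsMulCommutative A := IsCyclic.isMulCommutative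
  have hC'ab : IsMulCommutative C' := by
    constructor; constructor
    intro x y
    apply Subtype.ext
    apply Subtype.ext
    have hx : (x.1 : P) ∈ A := x.2
    have hy : (y.1 : P) ∈ A := y.2
    have := congrArg Subtype.val (mul_comm' (⟨x.1.1, hx⟩ : A) ⟨y.1.1, hy⟩)
    simpa using this
  set s' : M := ⟨s, hsM⟩ with hs'
  have hs'C : s' ∉ C' := by
    rw [hC', Subgroup.mem_subgroupOf]
    exact hsA
  have hform := Cfsg.Agent.Lib.Helper1.card_commutator_mul_card_centralizer C' hC'ab hC'i s' hs'C
  rw [hC'card] at hform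
  -- the centraliser part has order at most two
  have hle2 : Nat.card (C' ⊓ centralizer ({s'} : Set M) : Subgroup M) ≤ 2 := by
    set H : Subgroup M := C' ⊓ centralizer ({s'} : Set M) with hH
    have h1 : Nat.card (H.map M.subtype) = Nat.card H :=
      Nat.card_congr (H.equivMapOfInjective M.subtype M.subtype_injective).toEquiv.symm
    have h2 : H.map M.subtype ≤ center P := by
      rintro _ ⟨y, hy, rfl⟩
      apply hcent s hsA
      have h3 : y ∈ centralizer ({s'} : Set M) := hy.2
      rw [Subgroup.mem_centralizer_iff] at h3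
      have h4 := congrArg Subtype.val (h3 s' (Set.mem_singleton s'))
      exact mem_inf_centralizer_singleton hy.1 (by simpa using h4)
    rw [← h1, ← hZ]
    exact Subgroup.card_le_of_le h2
  have hpos : 0 < Nat.card (C' ⊓ centralizer ({s'} : Set M) : Subgroup M) := Nat.card_pos
  have hci := (commutator M).card_mul_index
  rw [hMcard] at hci
  have h4 := four_dvd_index_commutator hMcard hMc
  set d := Nat.card (commutator M) with hd
  set m := Nat.card (C' ⊓ centralizer ({s'} : Set M) : Subgroup M) with hm
  set i := (commutator M).index with hi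
  have hd0 : 0 < d := Nat.card_pos
  have h2 : 2 ^ (n - 1) = 2 ^ (n - 2) * 2 := by rw [← pow_succ]; congr 1; omega
  rw [h2, ← hform] at hci
  have h5 : d * i = d * (m * 2) := by rw [hci]; ring
  have h6 := Nat.eq_of_mul_eq_mul_left hd0 h5
  obtain ⟨r, hr⟩ := h4
  have : m = 1 ∨ m = 2 := by omega
  omega

/-- **ST1a**: a `2`-group of order at least `8` whose commutator subgroup has index four has an
odd number of cyclic subgroups of index two. -/
theorem maxclass_card_cyclic_max_odd {P : Type u} [Group P] [Finite P] (n : ℕ) (hn : 3 ≤ n)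
    (hP : Nat.card P = 2 ^ n) (hidx4 : (commutator P).index = 4) :
    Nat.card {M : Subgroup P // M.index = 2 ∧ IsCyclic M} % 2 = 1 := by
  classical
  have hp := Nat.prime_two
  obtain ⟨A, hAi, hAc, hZ, hcent⟩ := maxclass_data n hn hP hidx4
  have hidx : ∀ M : Subgroup P, M.index = 2 ↔ Nat.card M = 2 ^ (n - 1) := by
    intro M
    have := index_eq_iff_card_eq hp hP (k := 1) (by omega) M
    rwa [pow_one] at this
  have hAcard := (hidx A).mp hAi
  have hAab : IsMulCommutative A := IsCyclic.isMulCommutative
  have hAcomm : ∀ x ∈ A, ∀ y ∈ A, x * y = y * x := fun x hx y hy =>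
    congrArg Subtype.val (mul_comm' (⟨x, hx⟩ : A) ⟨y, hy⟩)
  rcases Nat.lt_or_ge n 4 with hlt | hge
  · -- `n = 3`
    have hn3 : n = 3 := by omega
    subst hn3
    norm_num at hAcard
    have hcount := card_orderOf_eq_totient_mul hp 2 (by simpa using hP)
    have htot : Nat.totient (2 ^ 2) = 2 := by
      rw [Nat.totient_prime_pow hp (by norm_num)]; norm_num
    rw [htot] at hcount
    obtain ⟨t, htA⟩ : ∃ t, t ∉ A := by
      by_contra hcon
      push Not at hcon
      have : A = ⊤ := eq_top_iff.mpr fun x _ => hcon x
      rw [this, Subgroup.index_top] at hAi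
      omega
    haveI hAn : A.Normal := Subgroup.normal_of_index_eq_two hAi
    have ht2 : t * t ∈ A := Subgroup.mul_self_mem_of_index_two hAi t
    have hzsq : ∀ z ∈ center P, z ^ 2 = 1 := by
      intro z hz
      have := pow_card_eq_one' (G := center P) (x := ⟨z, hz⟩)
      rw [hZ] at this
      have := congrArg Subtype.val this
      simpa using this
    -- `t` inverts `A`
    have hinv : ∀ a ∈ A, t * a * t⁻¹ = a⁻¹ := by
      obtain ⟨c', hc'⟩ := hAc.exists_generator
      have hoc : orderOf (c' : P) = 4 := by
        rw [Subgroup.orderOf_coe, orderOf_eq_card_of_forall_mem_zpowers hc', hAcard]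
      have hcA : (c' : P) ∈ A := c'.2
      set c : P := (c' : P) with hcdef
      have hc4 : c ^ 4 = 1 := by rw [← hoc]; exact pow_orderOf_eq_one c
      have htc : t * c * t⁻¹ ∈ A := hAn.conj_mem c hcA t
      have hcinv : t * c * t⁻¹ = c⁻¹ := by
        have h1 := hc' ⟨t * c * t⁻¹, htc⟩
        have hfin : IsOfFinOrder c' := isOfFinOrder_of_finite c'
        rw [← hfin.mem_powers_iff_mem_zpowers, Submonoid.mem_powers_iff] at h1
        obtain ⟨k, hk⟩ := h1
        have hk' : c ^ k = t * c * t⁻¹ := by
          have := congrArg Subtype.val hk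
          simpa using this
        have hk4 : c ^ (k % 4) = t * c * t⁻¹ := by
          rw [← hk', ← hoc, pow_mod_orderOf]
        have hord : orderOf (t * c * t⁻¹) = 4 := by
          have : t * c * t⁻¹ = MulAut.conj t c := by simp
          rw [this, MulEquiv.orderOf_eq, hoc]
        have hklt : k % 4 < 4 := Nat.mod_lt _ (by norm_num)
        have hne1 : c ≠ t * c * t⁻¹ := by
          intro h
          have hcz : c ∈ center P := by
            apply hcent t htA
            apply mem_inf_centralizer_singleton hcA
            calc t * c = (t * c * t⁻¹) * t := by group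
              _ = c * t := by rw [← h]
          have := hzsq c hcz
          have h2 : orderOf c ∣ 2 := orderOf_dvd_of_pow_eq_one this
          rw [hoc] at h2
          omega
        interval_cases hkm : k % 4
        · rw [pow_zero] at hk4
          rw [← hk4, orderOf_one] at hord
          omega
        · rw [pow_one] at hk4
          exact absurd hk4 hne1
        · rw [← hk4] at hord
          have : (c ^ 2) ^ 2 = 1 := by rw [← pow_mul]; exact hc4
          have h2 : orderOf (c ^ 2) ∣ 2 := orderOf_dvd_of_pow_eq_one this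
          rw [hord] at h2
          omega
        · rw [← hk4]
          symm
          apply inv_eq_of_mul_eq_one_right
          rw [← pow_succ']
          exact hc4
      intro a ha
      have h1 := hc' ⟨a, ha⟩
      obtain ⟨k, hk⟩ := Subgroup.mem_zpowers_iff.mp h1
      have hk' : c ^ k = a := by
        have := congrArg Subtype.val hk
        simpa using this
      rw [← hk']
      have : t * c ^ k * t⁻¹ = (t * c * t⁻¹) ^ k := by
        simpa using (map_zpow (MulAut.conj t) c k)
      rw [this, hcinv, inv_zpow]
    -- all elements outside `A` have the same square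
    have hsq : ∀ x : P, x ∉ A → x ^ 2 = t ^ 2 := by
      intro x hx
      obtain ⟨a, ha, rfl⟩ := Cfsg.Agent.Lib.Helper1.exists_eq_mul_of_index_two A hAi t htA x hx
      have h1 := hinv a ha
      have h2 := hAcomm (t * t) ht2 a ha
      calc (t * a) ^ 2 = (t * a * t⁻¹) * ((t * t) * a) := by rw [pow_two]; group
        _ = a⁻¹ * (a * (t * t)) := by rw [h1, h2]
        _ = t ^ 2 := by rw [pow_two]; group
    have ht2z : t ^ 2 ∈ center P := by
      apply hcent t htA
      apply mem_inf_centralizer_singleton (by rw [pow_two]; exact ht2)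
      group
    have ht4 : (t ^ 2) ^ 2 = 1 := hzsq _ ht2z
    -- count the elements of order four
    have hsplit := card_compl_add_card (α := {v : P // orderOf v = 2 ^ 2}) (fun v => v.1 ∈ A)
    have hin : Nat.card {v : {v : P // orderOf v = 2 ^ 2} // v.1 ∈ A} = 2 := by
      have e1 : {v : {v : P // orderOf v = 2 ^ 2} // v.1 ∈ A} ≃ {a : A // orderOf a = 2 ^ 2} :=
        { toFun := fun v => ⟨⟨v.1.1, v.2⟩, by rw [Subgroup.orderOf_mk]; exact v.1.2⟩
          invFun := fun a => ⟨⟨a.1.1, by rw [Subgroup.orderOf_coe]; exact a.2⟩, a.1.2⟩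
          left_inv := fun _ => rfl
          right_inv := fun _ => rfl }
      rw [Nat.card_congr e1]
      have := Fintype.ofFinite A
      rw [Nat.card_eq_fintype_card, Fintype.card_subtype]
      rw [IsCyclic.card_orderOf_eq_totient (by rw [← Nat.card_eq_fintype_card, hAcard]; norm_num)]
      exact htot
    have hout : Nat.card {v : {v : P // orderOf v = 2 ^ 2} // ¬ v.1 ∈ A} = 0 ∨
        Nat.card {v : {v : P // orderOf v = 2 ^ 2} // ¬ v.1 ∈ A} = 4 := by
      by_cases ht1 : t ^ 2 = 1
      · left
        rw [Nat.card_eq_zero]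
        left
        constructor
        rintro ⟨⟨v, hv⟩, hvA⟩
        have h1 : v ^ 2 = 1 := by rw [hsq v hvA, ht1]
        have h2 : orderOf v ∣ 2 := orderOf_dvd_of_pow_eq_one h1
        rw [hv] at h2
        omega
      · right
        have e1 : {v : {v : P // orderOf v = 2 ^ 2} // ¬ v.1 ∈ A} ≃ {v : P // ¬ v ∈ A} :=
          { toFun := fun v => ⟨v.1.1, v.2⟩
            invFun := fun v => ⟨⟨v.1, by
              have h1 : v.1 ^ 2 = t ^ 2 := hsq v.1 v.2
              have h4 : v.1 ^ 4 = 1 := by
                rw [show 4 = 2 * 2 by norm_num, pow_mul, h1]; exact ht4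
              have hd : orderOf v.1 ∣ 2 ^ 2 := orderOf_dvd_of_pow_eq_one (by simpa using h4)
              obtain ⟨f, hf, hfo⟩ := (Nat.dvd_prime_pow hp).mp hd
              rcases Nat.lt_or_ge f 2 with hlt | hge
              · exfalso
                apply ht1
                rw [← h1, ← orderOf_dvd_iff_pow_eq_one, hfo]
                calc 2 ^ f ∣ 2 ^ 1 := pow_dvd_pow 2 (by omega)
                  _ = 2 := pow_one 2
              · rw [hfo]; congr 1; omega⟩, v.2⟩
            left_inv := fun _ => rfl
            right_inv := fun _ => rfl }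
        rw [Nat.card_congr e1]
        have := card_compl_add_card (α := P) (fun v => v ∈ A)
        rw [hAcard, hP] at this
        omega
    rw [hin] at hsplit
    rcases hout with h0 | h4
    · rw [h0] at hsplit; omega
    · rw [h4] at hsplit; omega
  · -- `n ≥ 4` : exactly one
    have h1 : Nat.card {M : Subgroup P // M.index = 2 ∧ IsCyclic M} = 1 := by
      rw [Nat.card_eq_one_iff_unique]
      refine ⟨⟨?_⟩, ⟨⟨A, hAi, hAc⟩⟩⟩
      have huniq : ∀ B : Subgroup P, B.index = 2 → IsCyclic B → B = A := by
        intro B hBi hBc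
        by_contra hBA
        have hBcard := (hidx B).mp hBi
        have hBab : IsMulCommutative B := IsCyclic.isMulCommutative
        have hBcomm : ∀ x ∈ B, ∀ y ∈ B, x * y = y * x := fun x hx y hy =>
          congrArg Subtype.val (mul_comm' (⟨x, hx⟩ : B) ⟨y, hy⟩)
        have hinfc := card_inf_of_index_two (by omega) hP B A hBi hAi hBA
        obtain ⟨b, hbB, hbA⟩ : ∃ s, s ∈ B ∧ s ∉ A := by
          by_contra hcon
          push Not at hcon
          exact hBA (Subgroup.eq_of_le_of_card_ge hcon (by rw [hBcard, hAcard]))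
        have hle : B ⊓ A ≤ center P := by
          intro x hx
          rw [Subgroup.mem_center_iff]
          intro y
          by_cases hy : y ∈ A
          · exact hAcomm y hy x hx.2
          · obtain ⟨a, ha, rfl⟩ :=
              Cfsg.Agent.Lib.Helper1.exists_eq_mul_of_index_two A hAi b hbA y hy
            have h1 := hBcomm b hbB x hx.1
            have h2 := hAcomm a ha x hx.2
            calc b * a * x = b * (a * x) := by group
              _ = b * (x * a) := by rw [h2]
              _ = (b * x) * a := by group
              _ = (x * b) * a := by rw [h1]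
              _ = x * (b * a) := by group
        have := Subgroup.card_le_of_le hle
        rw [hinfc, hZ] at this
        have h4 : 2 ^ 2 ≤ 2 ^ (n - 2) := Nat.pow_le_pow_right (by norm_num) (by omega)
        omega
      intro M₁ M₂
      apply Subtype.ext
      rw [huniq M₁.1 M₁.2.1 M₁.2.2, huniq M₂.1 M₂.2.1 M₂.2.2]
    rw [h1]

end Cfsg.Agent.Lib.Helper23.Kulakoff
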