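import Mathlib

set_option autoImplicit false

namespace Cfsg.Agent.Lib.Helper23.Kulakoff

open Subgroup

/-- a fixed-point-free involution lives on a set of even size -/
theorem even_card_of_involution {α : Type*} [Finite α] (g : α → α) (hg : ∀ a, g (g a) = a)
    (hne : ∀ a, g a ≠ a) : Even (Nat.card α) := by
  classical
  have := Fintype.ofFinite α
  have h := Finset.sum_ninvolution (s := (Finset.univ : Finset α)) (f := fun _ => (1 : ZMod 2)) g
    (fun _ => by decide) (fun a _ => hne a) (fun a => Finset.mem_univ _) hg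
  rw [Finset.sum_const, Finset.card_univ, nsmul_eq_mul, mul_one,
    ZMod.natCast_eq_zero_iff] at h
  rw [Nat.card_eq_fintype_card]
  exact even_iff_two_dvd.mpr h

section Third

variable {P : Type*} [Group P]

/-- the third subgroup of index two containing the intersection of two given ones -/
def third (M W : Subgroup P) (hM : M.index = 2) (hW : W.index = 2) : Subgroup P where
  carrier := {g | g ∈ M ↔ g ∈ W}
  one_mem' := by simp [M.one_mem, W.one_mem]
  mul_mem' := by
    intro a b ha hb
    simp only [Set.mem_ofPred_eq] at ha hb ⊢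
    rw [Subgroup.mul_mem_iff_of_index_two hM, Subgroup.mul_mem_iff_of_index_two hW, ha, hb]
  inv_mem' := by
    intro a ha
    simp only [Set.mem_ofPred_eq] at ha ⊢
    rw [inv_mem_iff, inv_mem_iff]
    exact ha

theorem mem_third (M W : Subgroup P) (hM : M.index = 2) (hW : W.index = 2) (g : P) :
    g ∈ third M W hM hW ↔ (g ∈ M ↔ g ∈ W) := Iff.rfl

theorem exists_mem_not_mem_of_index_two [Finite P] (M W : Subgroup P) (hM : M.index = 2)
    (hW : W.index = 2) (hne : M ≠ W) : ∃ a, a ∈ M ∧ a ∉ W := by
  by_contra hcon
  push Not at hcon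
  apply hne
  have h1 : M ≤ W := hcon
  apply Subgroup.eq_of_le_of_card_ge h1
  have h2 := M.card_mul_index
  have h3 := W.card_mul_index
  rw [hM] at h2
  rw [hW] at h3
  omega

theorem index_third [Finite P] (M W : Subgroup P) (hM : M.index = 2) (hW : W.index = 2)
    (hne : M ≠ W) : (third M W hM hW).index = 2 := by
  obtain ⟨a, haM, haW⟩ := exists_mem_not_mem_of_index_two M W hM hW hne
  rw [Subgroup.index_eq_two_iff]
  refine ⟨a, fun b => ?_⟩
  rw [mem_third, mem_third, Subgroup.mul_mem_iff_of_index_two hM,
    Subgroup.mul_mem_iff_of_index_two hW]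
  by_cases h1 : b ∈ M <;> by_cases h2 : b ∈ W <;> simp [h1, h2, haM, haW]

theorem third_ne_right [Finite P] (M W : Subgroup P) (hM : M.index = 2) (hW : W.index = 2)
    (hne : M ≠ W) : third M W hM hW ≠ W := by
  obtain ⟨b, hbW, hbM⟩ := exists_mem_not_mem_of_index_two W M hW hM (Ne.symm hne)
  intro h
  have : b ∈ third M W hM hW := by rw [h]; exact hbW
  rw [mem_third] at this
  exact hbM (this.mpr hbW)

theorem third_ne_left [Finite P] (M W : Subgroup P) (hM : M.index = 2) (hW : W.index = 2)
    (hne : M ≠ W) : third M W hM hW ≠ M := by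
  obtain ⟨a, haM, haW⟩ := exists_mem_not_mem_of_index_two M W hM hW hne
  intro h
  have : a ∈ third M W hM hW := by rw [h]; exact haM
  rw [mem_third] at this
  exact haW (this.mp haM)

theorem third_third (M W : Subgroup P) (hM : M.index = 2) (hW : W.index = 2)
    (hT : (third M W hM hW).index = 2) : third (third M W hM hW) W hT hW = M := by
  ext g
  rw [mem_third, mem_third]
  by_cases h1 : g ∈ M <;> by_cases h2 : g ∈ W <;> simp [h1, h2]

variable {Q : Type*} [Group Q]

/-- `M` is abelian modulo the kernel of `π` -/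
def AbMod (π : P →* Q) (M : Subgroup P) : Prop := ∀ x ∈ M, ∀ y ∈ M, Commute (π x) (π y)

theorem abMod_third [Finite P] (π : P →* Q) (M W : Subgroup P) (hM : M.index = 2)
    (hW : W.index = 2) (hne : M ≠ W) (hMab : AbMod π M) (hWab : AbMod π W) :
    AbMod π (third M W hM hW) := by
  obtain ⟨a, haM, haW⟩ := exists_mem_not_mem_of_index_two M W hM hW hne
  -- elements of the intersection are central modulo the kernel
  have hcent : ∀ l, l ∈ M → l ∈ W → ∀ y : P, Commute (π l) (π y) := by
    intro l hlM hlW y
    by_cases hyW : y ∈ W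
    · exact hWab l hlW y hyW
    · have h1 : a⁻¹ * y ∈ W := by
        rw [Subgroup.mul_mem_iff_of_index_two hW, inv_mem_iff]
        exact ⟨fun h => absurd h haW, fun h => absurd h hyW⟩
      have h2 : y = a * (a⁻¹ * y) := by group
      rw [h2, map_mul]
      exact (hMab l hlM a haM).mul_right (hWab l hlW _ h1)
  intro g hg h hh
  rw [mem_third] at hg hh
  by_cases hgM : g ∈ M
  · exact hcent g hgM (hg.mp hgM) h
  · by_cases hhM : h ∈ M
    · exact (hcent h hhM (hh.mp hhM) g).symm
    · have hgW : g ∉ W := fun hw => hgM (hg.mpr hw)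
      have hhW : h ∉ W := fun hw => hhM (hh.mpr hw)
      have h1 : g⁻¹ * h ∈ M := by
        rw [Subgroup.mul_mem_iff_of_index_two hM, inv_mem_iff]
        exact ⟨fun h' => absurd h' hgM, fun h' => absurd h' hhM⟩
      have h2 : g⁻¹ * h ∈ W := by
        rw [Subgroup.mul_mem_iff_of_index_two hW, inv_mem_iff]
        exact ⟨fun h' => absurd h' hgW, fun h' => absurd h' hhW⟩
      have h3 : h = g * (g⁻¹ * h) := by group
      rw [h3, map_mul]
      exact (Commute.refl (π g)).mul_right (hcent _ h1 h2 g).symm

/-- **Pairing lemma.**  If some subgroup of index two is abelian modulo the kernel of `π`, the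
number of subgroups of index two that are not is even. -/
theorem even_card_not_abMod [Finite P] (π : P →* Q) (W : Subgroup P) (hW : W.index = 2)
    (hWab : AbMod π W) :
    Even (Nat.card {M : Subgroup P // M.index = 2 ∧ ¬ AbMod π M}) := by
  have hneW : ∀ M : {M : Subgroup P // M.index = 2 ∧ ¬ AbMod π M}, M.1 ≠ W := by
    intro M h
    exact M.2.2 (h ▸ hWab)
  let τ : {M : Subgroup P // M.index = 2 ∧ ¬ AbMod π M} →
      {M : Subgroup P // M.index = 2 ∧ ¬ AbMod π M} := fun M =>
    ⟨third M.1 W M.2.1 hW, index_third M.1 W M.2.1 hW (hneW M), fun hab => by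
      have hT := index_third M.1 W M.2.1 hW (hneW M)
      have h1 := abMod_third π (third M.1 W M.2.1 hW) W hT hW
        (third_ne_right M.1 W M.2.1 hW (hneW M)) hab hWab
      rw [third_third M.1 W M.2.1 hW hT] at h1
      exact M.2.2 h1⟩
  apply even_card_of_involution τ
  · intro M
    apply Subtype.ext
    exact third_third M.1 W M.2.1 hW (index_third M.1 W M.2.1 hW (hneW M))
  · intro M h
    have := congrArg Subtype.val h
    exact third_ne_left M.1 W M.2.1 hW (hneW M) this

end Third

end Cfsg.Agent.Lib.Helper23.Kulakoff
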