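import Mathlib
import Cfsg.Agent.Lib.Helper23.KulakoffI
import Cfsg.Agent.Lib.Helper23.KulakoffJ

set_option autoImplicit false

namespace Cfsg.Agent.Lib.Helper23.Kulakoff

open Subgroup
open scoped commutatorElement

universe u

/-- a normal subgroup of order two is central -/
theorem central_of_normal_card_two {Q : Type*} [Group Q] (K : Subgroup Q) [hKn : K.Normal]
    (hK : Nat.card K = 2) : ∀ k ∈ K, ∀ g : Q, g * k = k * g := by
  intro k hk g
  obtain ⟨w, hw1, hw⟩ := (Nat.card_eq_two_iff' (1 : K)).mp hK
  by_cases hk1 : k = 1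
  · rw [hk1]; simp
  · have h1 : (⟨k, hk⟩ : K) = w := hw _ (fun h => hk1 (by simpa using congrArg Subtype.val h))
    have hc : g * k * g⁻¹ ∈ K := hKn.conj_mem k hk g
    have h2 : (⟨g * k * g⁻¹, hc⟩ : K) = w := hw _ (fun h => hk1 (by
      have h3 : g * k * g⁻¹ = 1 := by simpa using congrArg Subtype.val h
      calc k = g⁻¹ * (g * k * g⁻¹) * g := by group
        _ = 1 := by rw [h3]; group))
    have h3 : g * k * g⁻¹ = k := by
      have := congrArg Subtype.val (h2.trans h1.symm)
      simpa using this
    calc g * k = (g * k * g⁻¹) * g := by group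
      _ = k * g := by rw [h3]

/-- a nonabelian group of order `16` with commutator subgroup inside a normal subgroup of order
two has an abelian subgroup of index two -/
theorem exists_abelian_index_two {Q : Type*} [Group Q] [Finite Q] (hQ : Nat.card Q = 16)
    (K : Subgroup Q) [hKn : K.Normal] (hK : Nat.card K = 2) (hcomm : ∀ x y : Q, ⁅x, y⁆ ∈ K)
    (hnab : ∃ x y : Q, x * y ≠ y * x) :
    ∃ W : Subgroup Q, W.index = 2 ∧ ∀ u ∈ W, ∀ v ∈ W, u * v = v * u := by
  classical
  have hKc := central_of_normal_card_two K hK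
  obtain ⟨w, hw1, hw⟩ := (Nat.card_eq_two_iff' (1 : K)).mp hK
  have huniq : ∀ a ∈ K, ∀ b ∈ K, a ≠ 1 → b ≠ 1 → a = b := by
    intro a ha b hb ha1 hb1
    have h1 : (⟨a, ha⟩ : K) = w := hw _ (fun h => ha1 (by simpa using congrArg Subtype.val h))
    have h2 : (⟨b, hb⟩ : K) = w := hw _ (fun h => hb1 (by simpa using congrArg Subtype.val h))
    simpa using congrArg Subtype.val (h1.trans h2.symm)
  have hKsq : ∀ a ∈ K, a * a = 1 := by
    intro a ha
    have := pow_card_eq_one' (G := K) (x := ⟨a, ha⟩)
    rw [hK] at this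
    have := congrArg Subtype.val this
    simpa [pow_two] using this
  obtain ⟨x, y, hxy⟩ := hnab
  have hmemW : ∀ b : Q, b ∈ centralizer ({x} : Set Q) ↔ ⁅b, x⁆ = 1 := by
    intro b
    rw [Subgroup.mem_centralizer_iff, commutatorElement_eq_one_iff_commute]
    constructor
    · intro h; exact (h x (Set.mem_singleton x)).symm
    · intro h r hr
      rw [Set.mem_singleton_iff] at hr
      subst hr
      exact h.symm.eq
  have hz1 : ⁅y, x⁆ ≠ 1 := by
    rw [Ne, commutatorElement_eq_one_iff_commute]
    intro h
    exact hxy h.symm.eq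
  refine ⟨centralizer ({x} : Set Q), ?_, ?_⟩
  · rw [Subgroup.index_eq_two_iff]
    refine ⟨y, fun b => ?_⟩
    rw [hmemW, hmemW]
    have hform : ⁅b * y, x⁆ = ⁅y, x⁆ * ⁅b, x⁆ := by
      have h1 : ⁅b * y, x⁆ = b * ⁅y, x⁆ * b⁻¹ * ⁅b, x⁆ := by
        simp only [commutatorElement_def]; group
      rw [h1, hKc _ (hcomm y x) b]
      group
    rw [hform]
    by_cases hb : ⁅b, x⁆ = 1
    · right
      refine ⟨hb, ?_⟩
      rw [hb, mul_one]
      exact hz1
    · left
      refine ⟨?_, hb⟩
      rw [huniq _ (hcomm b x) _ (hcomm y x) hb hz1]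
      exact hKsq _ (hcomm y x)
  · -- abelian
    set W : Subgroup Q := centralizer ({x} : Set Q) with hW
    have hWi : W.index = 2 := by
      rw [Subgroup.index_eq_two_iff]
      refine ⟨y, fun b => ?_⟩
      rw [hmemW, hmemW]
      have hform : ⁅b * y, x⁆ = ⁅y, x⁆ * ⁅b, x⁆ := by
        have h1 : ⁅b * y, x⁆ = b * ⁅y, x⁆ * b⁻¹ * ⁅b, x⁆ := by
          simp only [commutatorElement_def]; group
        rw [h1, hKc _ (hcomm y x) b]
        group
      rw [hform]
      by_cases hb : ⁅b, x⁆ = 1
      · right
        refine ⟨hb, ?_⟩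
        rw [hb, mul_one]
        exact hz1
      · left
        refine ⟨?_, hb⟩
        rw [huniq _ (hcomm b x) _ (hcomm y x) hb hz1]
        exact hKsq _ (hcomm y x)
    have hWcard : Nat.card W = 8 := by
      have := W.card_mul_index
      rw [hWi, hQ] at this
      omega
    have hxW : x ∈ W := by rw [hW, hmemW]; simp
    have hKW : K ≤ W := by
      intro k hk
      rw [hW, Subgroup.mem_centralizer_iff]
      intro r hr
      rw [Set.mem_singleton_iff] at hr
      subst hr
      exact hKc k hk r
    set Zc : Subgroup W := center W with hZc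
    have hxZ : (⟨x, hxW⟩ : W) ∈ Zc := by
      rw [hZc, Subgroup.mem_center_iff]
      intro g
      apply Subtype.ext
      have hg : (g : Q) ∈ centralizer ({x} : Set Q) := g.2
      rw [Subgroup.mem_centralizer_iff] at hg
      exact (hg x (Set.mem_singleton x)).symm
    have hK'Z : K.subgroupOf W ≤ Zc := by
      intro k hk
      rw [Subgroup.mem_subgroupOf] at hk
      rw [hZc, Subgroup.mem_center_iff]
      intro g
      apply Subtype.ext
      exact hKc _ hk g
    have hK'card : Nat.card (K.subgroupOf W) = 2 := by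
      rw [Nat.card_congr (Subgroup.subgroupOfEquivOfLe hKW).toEquiv, hK]
    have hZdvd : Nat.card Zc ∣ 8 := hWcard ▸ Zc.card_subgroup_dvd_card
    have hZ4 : 4 ≤ Nat.card Zc := by
      by_contra hlt
      push Not at hlt
      have hZle : Nat.card Zc ≤ 8 := Nat.le_of_dvd (by norm_num) hZdvd
      have h2 : Nat.card Zc ≤ 2 := by
        interval_cases h : Nat.card Zc <;> omega
      have heq : K.subgroupOf W = Zc :=
        Subgroup.eq_of_le_of_card_ge hK'Z (by rw [hK'card]; exact h2)
      have hxK : x ∈ K := by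
        have : (⟨x, hxW⟩ : W) ∈ K.subgroupOf W := heq ▸ hxZ
        rwa [Subgroup.mem_subgroupOf] at this
      exact hxy (hKc x hxK y).symm
    have hidxZ : Zc.index ≤ 2 := by
      have := Zc.card_mul_index
      rw [hWcard] at this
      nlinarith
    have hcycQ : IsCyclic (W ⧸ Zc) := by
      have hc : Nat.card (W ⧸ Zc) = Zc.index := (Subgroup.index_eq_card Zc).symm
      have hpos : 0 < Zc.index := by
        rw [← hc]; exact Nat.card_pos
      rcases (show Zc.index = 1 ∨ Zc.index = 2 by omega) with h1 | h2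
      · rw [h1] at hc
        haveI : Subsingleton (W ⧸ Zc) := (Nat.card_eq_one_iff_unique.mp hc).1
        infer_instance
      · rw [h2] at hc
        haveI : Fact (Nat.Prime 2) := ⟨Nat.prime_two⟩
        exact isCyclic_of_prime_card hc
    have hab : IsMulCommutative W :=
      MonoidHom.isMulCommutative_of_isCyclic_of_ker_le_center (QuotientGroup.mk' Zc)
        (by rw [QuotientGroup.ker_mk'])
    intro u hu v hv
    exact congrArg Subtype.val (mul_comm' (⟨u, hu⟩ : W) ⟨v, hv⟩)


/-- **ST2b (ii)**: a good `2`-group of order at least `16` without cyclic subgroups of index two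
but with a subgroup of index two whose commutator subgroup has index four has an even number of
such subgroups. -/
theorem good_card_bad_max_even_aux {P : Type u} [Group P] [Finite P] (n : ℕ) (hn : 4 ≤ n)
    (hP : Nat.card P = 2 ^ n) (hnc : ¬ IsCyclic P) (hgood : (commutator P).index ≠ 4)
    (hnocyc : ∀ M : Subgroup P, M.index = 2 → ¬ IsCyclic M) (M₁ : Subgroup P)
    (hM₁i : M₁.index = 2) (hM₁ : (commutator M₁).index = 4) :
    Even (Nat.card {M : Subgroup P // M.index = 2 ∧
      (IsCyclic M ∨ (commutator M).index = 4)}) := by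
  classical
  have hp := Nat.prime_two
  haveI : Fact (Nat.Prime 2) := ⟨hp⟩
  have hidx : ∀ M : Subgroup P, M.index = 2 ↔ Nat.card M = 2 ^ (n - 1) := by
    intro M
    have := index_eq_iff_card_eq hp hP (k := 1) (by omega) M
    rwa [pow_one] at this
  set D : Subgroup P := commutator P with hD
  have h8 := eight_dvd_index_commutator hP hnc hgood
  have hcardcomm : ∀ M : Subgroup P, Nat.card (⁅M, M⁆ : Subgroup P) = Nat.card (commutator M) := by
    intro M
    rw [← Subgroup.map_subtype_commutator]
    exact Nat.card_congr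
      ((commutator M).equivMapOfInjective M.subtype M.subtype_injective).toEquiv.symm
  have hleD : ∀ M : Subgroup P, ⁅M, M⁆ ≤ D := fun M => by
    rw [hD, _root_.commutator_def]; exact Subgroup.commutator_mono le_top le_top
  have h2n1 : 2 ^ (n - 1) = 2 ^ (n - 3) * 4 := by
    rw [show (4 : ℕ) = 2 ^ 2 by norm_num, ← pow_add]; congr 1; omega
  have h2n : 2 ^ n = 2 ^ (n - 3) * 8 := by
    rw [show (8 : ℕ) = 2 ^ 3 by norm_num, ← pow_add]; congr 1; omega
  have h2n4 : 2 ^ n = 2 ^ (n - 4) * 16 := by
    rw [show (16 : ℕ) = 2 ^ 4 by norm_num, ← pow_add]; congr 1; omega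
  have h2n34 : 2 ^ (n - 3) = 2 ^ (n - 4) * 2 := by
    rw [← pow_succ]; congr 1; omega
  have hbad_iff : ∀ M : Subgroup P, M.index = 2 →
      ((commutator M).index = 4 ↔ Nat.card (⁅M, M⁆ : Subgroup P) = 2 ^ (n - 3)) := by
    intro M hMi
    rw [hcardcomm]
    have h := (commutator M).card_mul_index
    rw [(hidx M).mp hMi, h2n1] at h
    have hpos : 0 < 2 ^ (n - 3) := by positivity
    constructor
    · intro h4
      rw [h4] at h
      exact Nat.eq_of_mul_eq_mul_right (by norm_num) h
    · intro hc
      rw [hc] at h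
      exact Nat.eq_of_mul_eq_mul_left hpos h
  have hM₁c : Nat.card (⁅M₁, M₁⁆ : Subgroup P) = 2 ^ (n - 3) := (hbad_iff M₁ hM₁i).mp hM₁
  have hDci := D.card_mul_index
  rw [hP] at hDci
  have hDcard : Nat.card D = 2 ^ (n - 3) := by
    apply le_antisymm
    · obtain ⟨s, hs⟩ := h8
      rw [hs, h2n] at hDci
      have hs0 : 0 < s := by
        rcases Nat.eq_zero_or_pos s with h | h
        · rw [h] at hDci
          have : 0 < 2 ^ (n - 3) := by positivity
          omega
        · exact h
      nlinarith
    · rw [← hM₁c]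
      exact Subgroup.card_le_of_le (hleD M₁)
  have hDidx : D.index = 8 := by
    rw [hDcard, h2n] at hDci
    exact Nat.eq_of_mul_eq_mul_left (by positivity) hDci
  have hM₁D : ⁅M₁, M₁⁆ = D := Subgroup.eq_of_le_of_card_ge (hleD M₁) (by rw [hDcard, hM₁c])
  have hM₁card : Nat.card M₁ = 2 ^ (n - 1) := (hidx M₁).mp hM₁i
  -- `D` is cyclic
  have hDcyc : IsCyclic D := by
    obtain ⟨A', hA'i, hA'c, -, -⟩ := maxclass_data (n - 1) (by omega) hM₁card hM₁
    have hle : commutator M₁ ≤ A' := by
      rw [_root_.commutator_def, Subgroup.commutator_le]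
      intro x _ y _
      rw [commutatorElement_def]
      exact PhiP_le 2 hA'i (comm_mem_PhiP hp hM₁card x y)
    haveI := hA'c
    haveI : IsCyclic (commutator M₁) := Subgroup.isCyclic_of_le hle
    rw [← hM₁D, ← Subgroup.map_subtype_commutator]
    exact isCyclic_of_surjective
      ((commutator M₁).equivMapOfInjective M₁.subtype M₁.subtype_injective)
      (MulEquiv.surjective _)
  haveI hDn : D.Normal := by rw [hD]; infer_instance
  -- the subgroup `N` of index two in `D`
  obtain ⟨N', hN'⟩ := Sylow.exists_subgroup_card_pow_prime 2 (n := n - 4) (G := D)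
    (by rw [hDcard]; exact pow_dvd_pow 2 (by omega))
  set N : Subgroup P := N'.map D.subtype with hN
  have hNcard : Nat.card N = 2 ^ (n - 4) := by
    rw [← hN']
    exact Nat.card_congr (N'.equivMapOfInjective D.subtype D.subtype_injective).toEquiv.symm
  have hND : N ≤ D := Subgroup.map_subtype_le N'
  have hNn : N.Normal := by
    constructor
    intro x hx g
    have h1 : N.map (MulAut.conj g).toMonoidHom = N := by
      apply Cfsg.Agent.Lib.Helper9.eq_of_card_eq_of_le_isCyclic D _ _ ?_ hND ?_
      · rintro _ ⟨y, hy, rfl⟩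
        have : (MulAut.conj g).toMonoidHom y = g * y * g⁻¹ := by simp
        rw [this]
        exact hDn.conj_mem y (hND hy) g
      · exact Nat.card_congr (N.equivMapOfInjective (MulAut.conj g).toMonoidHom
          (MulAut.conj g).injective).toEquiv.symm
    rw [← h1]
    exact ⟨x, hx, by simp⟩
  -- dichotomy for subgroups of `D`
  have hdich : ∀ H : Subgroup P, H ≤ D → H ≤ N ∨ H = D := by
    intro H hH
    obtain ⟨f, hf, hfc⟩ := (Nat.dvd_prime_pow hp).mp (hDcard ▸ Subgroup.card_dvd_of_le hH)
    rcases Nat.lt_or_ge f (n - 3) with hlt | hge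
    · left
      intro x hx
      apply cyc_mem D N hND x (hH hx)
      rw [hNcard]
      have hxf : x ^ (2 ^ f) = 1 := by
        rw [← hfc]
        have h0 := congrArg Subtype.val (pow_card_eq_one' (G := H) (x := ⟨x, hx⟩))
        simpa only [Subgroup.coe_pow, Subgroup.coe_one] using h0
      obtain ⟨j, hj⟩ : ∃ j, n - 4 = f + j := ⟨n - 4 - f, by omega⟩
      rw [hj, pow_add, pow_mul, hxf, one_pow]
    · right
      exact Subgroup.eq_of_le_of_card_ge hH (by
        rw [hDcard, hfc]; exact Nat.pow_le_pow_right (by norm_num) hge)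
  -- the quotient
  set π : P →* P ⧸ N := QuotientGroup.mk' N with hπ
  have hπs : Function.Surjective π := QuotientGroup.mk'_surjective N
  have hab_iff : ∀ M : Subgroup P, AbMod π M ↔ ⁅M, M⁆ ≤ N := by
    intro M
    rw [Subgroup.commutator_le]
    constructor
    · intro h x hx y hy
      have h1 := h x hx y hy
      rw [← commutatorElement_eq_one_iff_commute, ← map_commutatorElement] at h1
      rwa [← QuotientGroup.ker_mk' N, MonoidHom.mem_ker]
    · intro h x hx y hy
      rw [← commutatorElement_eq_one_iff_commute, ← map_commutatorElement, ← MonoidHom.mem_ker,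
        QuotientGroup.ker_mk']
      exact h x hx y hy
  have hQcard : Nat.card (P ⧸ N) = 16 := by
    rw [← Subgroup.index_eq_card]
    have h := N.card_mul_index
    rw [hP, hNcard, h2n4] at h
    exact Nat.eq_of_mul_eq_mul_left (by positivity) h
  set K : Subgroup (P ⧸ N) := D.map π with hK
  haveI hKn : K.Normal := hDn.map π hπs
  have hKcard : Nat.card K = 2 := by
    have h1 : K.index = 8 := by
      rw [hK, Subgroup.index_map_eq D hπs (by rw [hπ, QuotientGroup.ker_mk']; exact hND)]
      exact hDidx
    have h2 := K.card_mul_index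
    rw [h1, hQcard] at h2
    omega
  have hcommK : ∀ x y : P ⧸ N, ⁅x, y⁆ ∈ K := by
    intro x y
    obtain ⟨a, rfl⟩ := hπs x
    obtain ⟨b, rfl⟩ := hπs y
    rw [← map_commutatorElement]
    refine ⟨⁅a, b⁆, ?_, rfl⟩
    rw [hD, _root_.commutator_def]
    exact Subgroup.commutator_mem_commutator (Subgroup.mem_top _) (Subgroup.mem_top _)
  have hnab : ∃ x y : P ⧸ N, x * y ≠ y * x := by
    by_contra hcon
    push Not at hcon
    have h1 : AbMod π ⊤ := fun x _ y _ => hcon (π x) (π y)
    rw [hab_iff] at h1
    have h2 : D ≤ N := by rw [hD, _root_.commutator_def]; exact h1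
    have h3 := Subgroup.card_le_of_le h2
    rw [hDcard, hNcard, h2n34] at h3
    have : 0 < 2 ^ (n - 4) := by positivity
    omega
  obtain ⟨W', hW'i, hW'ab⟩ := exists_abelian_index_two hQcard K hKcard hcommK hnab
  set W : Subgroup P := W'.comap π with hW
  have hWi : W.index = 2 := by
    rw [hW, Subgroup.index_comap_of_surjective _ hπs]; exact hW'i
  have hWab : AbMod π W := fun x hx y hy => hW'ab _ hx _ hy
  have heven := even_card_not_abMod π W hWi hWab
  have e : {M : Subgroup P // M.index = 2 ∧ (IsCyclic M ∨ (commutator M).index = 4)} ≃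
      {M : Subgroup P // M.index = 2 ∧ ¬ AbMod π M} := by
    apply Equiv.subtypeEquivRight
    intro M
    apply and_congr_right
    intro hMi
    constructor
    · rintro (hc | h4)
      · exact absurd hc (hnocyc M hMi)
      · rw [hab_iff]
        intro hle
        have h1 := (hbad_iff M hMi).mp h4
        have h3 := Subgroup.card_le_of_le hle
        rw [h1, hNcard, h2n34] at h3
        have : 0 < 2 ^ (n - 4) := by positivity
        omega
    · intro hnab'
      right
      rw [hbad_iff M hMi]
      rcases hdich ⁅M, M⁆ (hleD M) with h | h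
      · exact absurd ((hab_iff M).mpr h) hnab'
      · rw [h, hDcard]
  rw [Nat.card_congr e]
  exact heven

end Cfsg.Agent.Lib.Helper23.Kulakoff
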