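import Mathlib
import Cfsg.Agent.Lib.Helper1.MaxClassKlein
import Cfsg.Agent.Lib.Helper23.KulakoffK

set_option autoImplicit false

namespace Cfsg.Agent.Lib.Helper23.Kulakoff

open Subgroup

universe u

/-- **Structure theorem**: parity of the number of "bad" subgroups of index two. -/
theorem card_bad_max_mod_two {P : Type u} [Group P] [Finite P] (n : ℕ) (hn : 3 ≤ n)
    (hP : Nat.card P = 2 ^ n) (hnc : ¬ IsCyclic P) (a : ℕ) (ha1 : 1 ≤ a) (ha2 : a + 2 ≤ n) :
    Nat.card {M : Subgroup P // M.index = 2 ∧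
      (IsCyclic M ∨ ((commutator M).index = 4 ∧ a + 3 ≤ n))} % 2 =
      (if (commutator P).index = 4 then 1 else 0) := by
  classical
  have hp := Nat.prime_two
  have hidx : ∀ M : Subgroup P, M.index = 2 ↔ Nat.card M = 2 ^ (n - 1) := by
    intro M
    have := index_eq_iff_card_eq hp hP (k := 1) (by omega) M
    rwa [pow_one] at this
  have hP' : Nat.card P = 2 ^ (n - 1 + 1) := by rw [Nat.sub_add_cancel (by omega)]; exact hP
  -- good groups with a cyclic subgroup of index two
  have hgoodcyc : (commutator P).index ≠ 4 → (∃ A : Subgroup P, A.index = 2 ∧ IsCyclic A) →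
      Nat.card {M : Subgroup P // M.index = 2 ∧ IsCyclic M} = 2 ∧
      (4 ≤ n → ∀ M : Subgroup P, M.index = 2 → (commutator M).index ≠ 4) := by
    rintro h4 ⟨A, hAi, hAc⟩
    obtain ⟨h2, hab⟩ := good_cyclic_max (n - 1) (by omega) hP' hnc h4 A hAi hAc
    refine ⟨h2, fun hn4 M hMi h4' => ?_⟩
    have hMab : IsMulCommutative M := ⟨⟨fun x y => Subtype.ext (hab M hMi x x.2 y y.2)⟩⟩
    rw [Cfsg.Agent.Lib.Helper1.commutator_eq_bot_of_isMulCommutative hMab, Subgroup.index_bot,
      (hidx M).mp hMi] at h4'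
    have h8 : 2 ^ 3 ≤ 2 ^ (n - 1) := Nat.pow_le_pow_right (by norm_num) (by omega)
    omega
  by_cases ha3 : a + 3 ≤ n
  · have e : {M : Subgroup P // M.index = 2 ∧
        (IsCyclic M ∨ ((commutator M).index = 4 ∧ a + 3 ≤ n))} ≃
        {M : Subgroup P // M.index = 2 ∧ (IsCyclic M ∨ (commutator M).index = 4)} :=
      Equiv.subtypeEquivRight (fun M => and_congr_right fun _ =>
        or_congr_right (and_iff_left ha3))
    rw [Nat.card_congr e]
    by_cases h4 : (commutator P).index = 4
    · rw [if_pos h4]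
      have e2 : {M : Subgroup P // M.index = 2 ∧ (IsCyclic M ∨ (commutator M).index = 4)} ≃
          {M : Subgroup P // M.index = 2} :=
        Equiv.subtypeEquivRight (fun M =>
          ⟨fun h => h.1, fun h => ⟨h, maxclass_max_bad n (by omega) hP h4 M h⟩⟩)
      rw [Nat.card_congr e2]
      have hM := card_M_modEq hp hP (bot_ne_top_of_not_cyclic hnc)
      have hM' : Nat.card {M : Subgroup P // M.index = 2} % 4 =
          (1 + 2 * Nat.card {K : Subgroup P // PhiP 2 P ≤ K ∧ K.index = 2 ^ 2}) % 4 := hM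
      omega
    · rw [if_neg h4]
      by_cases hcyc : ∃ A : Subgroup P, A.index = 2 ∧ IsCyclic A
      · obtain ⟨h2, hno⟩ := hgoodcyc h4 hcyc
        have e2 : {M : Subgroup P // M.index = 2 ∧ (IsCyclic M ∨ (commutator M).index = 4)} ≃
            {M : Subgroup P // M.index = 2 ∧ IsCyclic M} :=
          Equiv.subtypeEquivRight (fun M => and_congr_right fun hMi =>
            ⟨fun h => h.resolve_right (hno (by omega) M hMi), Or.inl⟩)
        rw [Nat.card_congr e2, h2]
      · by_cases hbad : ∃ M₁ : Subgroup P, M₁.index = 2 ∧ (commutator M₁).index = 4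
        · obtain ⟨M₁, hM₁i, hM₁⟩ := hbad
          have := good_card_bad_max_even_aux n (by omega) hP hnc h4
            (fun M hMi hc => hcyc ⟨M, hMi, hc⟩) M₁ hM₁i hM₁
          exact Nat.even_iff.mp this
        · have : IsEmpty {M : Subgroup P // M.index = 2 ∧
              (IsCyclic M ∨ (commutator M).index = 4)} :=
            ⟨fun M => M.2.2.elim (fun hc => hcyc ⟨M.1, M.2.1, hc⟩)
              (fun h => hbad ⟨M.1, M.2.1, h⟩)⟩
          rw [Nat.card_of_isEmpty]
  · have e : {M : Subgroup P // M.index = 2 ∧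
        (IsCyclic M ∨ ((commutator M).index = 4 ∧ a + 3 ≤ n))} ≃
        {M : Subgroup P // M.index = 2 ∧ IsCyclic M} :=
      Equiv.subtypeEquivRight (fun M => and_congr_right fun _ =>
        ⟨fun h => h.resolve_right (fun h' => ha3 h'.2), Or.inl⟩)
    rw [Nat.card_congr e]
    by_cases h4 : (commutator P).index = 4
    · rw [if_pos h4]
      exact maxclass_card_cyclic_max_odd n hn hP h4
    · rw [if_neg h4]
      by_cases hcyc : ∃ A : Subgroup P, A.index = 2 ∧ IsCyclic A
      · rw [(hgoodcyc h4 hcyc).1]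
      · have : IsEmpty {M : Subgroup P // M.index = 2 ∧ IsCyclic M} :=
          ⟨fun M => hcyc ⟨M.1, M.2.1, M.2.2⟩⟩
        rw [Nat.card_of_isEmpty]

open Classical in
/-- **Kulakoff's theorem for `p = 2`**, in its refined form: in a group of order `2^n` the number
of subgroups of order `2^a` (`1 ≤ a < n`) is `≡ 1 (mod 4)` if the group is cyclic, or if its
commutator subgroup has index four and `a ≤ n - 2`; otherwise it is `≡ 3 (mod 4)`. -/
theorem kulakoff_two :
    ∀ (n : ℕ) (P : Type u) [Group P] [Finite P], Nat.card P = 2 ^ n →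
      ∀ a, 1 ≤ a → a < n →
        Nat.card {H : Subgroup P // Nat.card H = 2 ^ a} ≡
          (if IsCyclic P ∨ ((commutator P).index = 4 ∧ a + 2 ≤ n) then 1 else 1 + 2)
            [MOD 2 ^ 2] := by
  intro n
  induction n using Nat.strong_induction_on with
  | _ n ih =>
  intro P _ _ hP a ha1 han
  have hp := Nat.prime_two
  by_cases hcP : IsCyclic P
  · rw [if_pos (Or.inl hcP)]
    rw [card_subgroups_cyclic 2 a hp (by rw [hP]; exact pow_dvd_pow 2 (by omega))]
  have hnc := hcP
  have hbt := bot_ne_top_of_not_cyclic hnc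
  have hM := card_M_modEq hp hP hbt
  rcases Nat.lt_or_ge a (n - 1) with hlt | hge
  · -- `a ≤ n - 2`
    have : Fintype {M : Subgroup P // M.index = 2} := Fintype.ofFinite _
    have : Fintype {K : Subgroup P // PhiP 2 P ≤ K ∧ K.index = 2 ^ 2} := Fintype.ofFinite _
    have henum := hall_enum hp hP a han
    have hMs : ∀ M : {M : Subgroup P // M.index = 2},
        Nat.card {H : Subgroup P // H ≤ M.1 ∧ Nat.card H = 2 ^ a} ≡
          (if IsCyclic M.1 ∨ ((commutator M.1).index = 4 ∧ a + 3 ≤ n) then 1 else 1 + 2)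
            [MOD 2 ^ 2] := by
      intro M
      have hMc : Nat.card M.1 = 2 ^ (n - 1) :=
        (index_eq_iff_card_eq hp hP (k := 1) (by omega) M.1).mp (by rw [pow_one]; exact M.2)
      rw [← Nat.card_congr (relEquiv M.1 (2 ^ a))]
      have h := ih (n - 1) (by omega) M.1 hMc a ha1 hlt
      have hiff : (IsCyclic M.1 ∨ ((commutator M.1).index = 4 ∧ a + 2 ≤ n - 1)) ↔
          (IsCyclic M.1 ∨ ((commutator M.1).index = 4 ∧ a + 3 ≤ n)) := by
        apply or_congr_right
        apply and_congr_right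
        intro _
        omega
      rw [if_congr hiff rfl rfl] at h
      exact h
    have h2 := Nat.ModEq.sum (s := Finset.univ) (fun M _ => hMs M)
    have h3 : ∑ M : {M : Subgroup P // M.index = 2},
          (if IsCyclic M.1 ∨ ((commutator M.1).index = 4 ∧ a + 3 ≤ n) then 1 else 1 + 2) +
        2 * Nat.card {M : Subgroup P // M.index = 2 ∧
          (IsCyclic M ∨ ((commutator M).index = 4 ∧ a + 3 ≤ n))} =
        (1 + 2) * Nat.card {M : Subgroup P // M.index = 2} := by
      have hc : Nat.card {M : Subgroup P // M.index = 2 ∧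
            (IsCyclic M ∨ ((commutator M).index = 4 ∧ a + 3 ≤ n))} =
          ∑ M : {M : Subgroup P // M.index = 2},
            (if IsCyclic M.1 ∨ ((commutator M.1).index = 4 ∧ a + 3 ≤ n) then 1 else 0) := by
        have : Fintype {M : Subgroup P // M.index = 2 ∧
            (IsCyclic M ∨ ((commutator M).index = 4 ∧ a + 3 ≤ n))} := Fintype.ofFinite _
        rw [Finset.sum_boole, Nat.cast_id, Nat.card_eq_fintype_card, ← Fintype.card_subtype]
        exact Fintype.card_congr (Equiv.subtypeSubtypeEquivSubtypeInter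
          (fun M : Subgroup P => M.index = 2)
          (fun M : Subgroup P => IsCyclic M ∨ ((commutator M).index = 4 ∧ a + 3 ≤ n))).symm
      rw [hc, Finset.mul_sum, ← Finset.sum_add_distrib, Nat.card_eq_fintype_card,
        ← Finset.card_univ, mul_comm, ← smul_eq_mul, ← Finset.sum_const]
      apply Finset.sum_congr rfl
      intro M _
      split_ifs <;> ring
    have hST := card_bad_max_mod_two n (by omega) hP hnc a ha1 (by omega)
    have hKs : ∀ K : {K : Subgroup P // PhiP 2 P ≤ K ∧ K.index = 2 ^ 2},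
        Nat.card {H : Subgroup P // H ≤ K.1 ∧ Nat.card H = 2 ^ a} ≡ 1 [MOD 2] := by
      intro K
      have hKc : Nat.card K.1 = 2 ^ (n - 2) :=
        (index_eq_iff_card_eq hp hP (k := 2) (by omega) K.1).mp K.2.2
      exact card_subgroups_le_modEq_one 2 a hp K.1 (by rw [hKc]; exact pow_dvd_pow 2 (by omega))
    have h4 := Nat.ModEq.sum (s := Finset.univ) (fun K _ => hKs K)
    rw [Finset.sum_const, Finset.card_univ, smul_eq_mul, mul_one, ← Nat.card_eq_fintype_card] at h4
    have h5 := Nat.ModEq.mul_left' 2 h4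
    rw [← sq] at h5
    -- cast to `ZMod (2²)`
    set β := Nat.card {M : Subgroup P // M.index = 2 ∧
      (IsCyclic M ∨ ((commutator M).index = 4 ∧ a + 3 ≤ n))} with hβ
    have e6 : ((2 : ZMod (2 ^ 2))) ^ 2 = 0 := by
      have := ZMod.natCast_self (2 ^ 2)
      push_cast at this
      exact this
    have e1 := (ZMod.natCast_eq_natCast_iff _ _ _).mpr henum
    have e2 := (ZMod.natCast_eq_natCast_iff _ _ _).mpr h2
    have e3 := congrArg (Nat.cast : ℕ → ZMod (2 ^ 2)) h3
    have e4 := (ZMod.natCast_eq_natCast_iff _ _ _).mpr h5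
    have e5 := (ZMod.natCast_eq_natCast_iff _ _ _).mpr hM
    rw [← ZMod.natCast_eq_natCast_iff]
    have hcond : (IsCyclic P ∨ ((commutator P).index = 4 ∧ a + 2 ≤ n)) ↔
        (commutator P).index = 4 := by
      constructor
      · rintro (h | h)
        · exact absurd h hnc
        · exact h.1
      · intro h; exact Or.inr ⟨h, by omega⟩
    rw [if_congr hcond rfl rfl]
    by_cases hidx4 : (commutator P).index = 4
    · rw [if_pos hidx4] at hST ⊢
      obtain ⟨t, ht⟩ : ∃ t, β = 2 * t + 1 := ⟨β / 2, by omega⟩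
      rw [ht] at e3
      push_cast at e1 e2 e3 e4 e5 ⊢
      rw [e2] at e1
      linear_combination (-1 : ZMod (2 ^ 2)) * e1 + e3 - e4 + (1 + 2 : ZMod (2 ^ 2)) * e5 +
        ((Nat.card {K : Subgroup P // PhiP 2 P ≤ K ∧ K.index = 2 ^ 2} : ZMod (2 ^ 2)) -
          (t : ZMod (2 ^ 2))) * e6
    · rw [if_neg hidx4] at hST ⊢
      obtain ⟨t, ht⟩ : ∃ t, β = 2 * t := ⟨β / 2, by omega⟩
      rw [ht] at e3
      push_cast at e1 e2 e3 e4 e5 ⊢
      rw [e2] at e1
      linear_combination (-1 : ZMod (2 ^ 2)) * e1 + e3 - e4 + (1 + 2 : ZMod (2 ^ 2)) * e5 +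
        ((Nat.card {K : Subgroup P // PhiP 2 P ≤ K ∧ K.index = 2 ^ 2} : ZMod (2 ^ 2)) -
          (t : ZMod (2 ^ 2))) * e6
  · -- `a = n - 1`
    have han' : a = n - 1 := by omega
    have hcond : ¬ (IsCyclic P ∨ ((commutator P).index = 4 ∧ a + 2 ≤ n)) := by
      rintro (h | h)
      · exact hnc h
      · omega
    rw [if_neg hcond]
    have e1 : Nat.card {H : Subgroup P // Nat.card H = 2 ^ a} =
        Nat.card {M : Subgroup P // M.index = 2} := by
      apply Nat.card_congr
      apply Equiv.subtypeEquivRight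
      intro H
      rw [han']
      have := index_eq_iff_card_eq hp hP (k := 1) (by omega) H
      rw [pow_one] at this
      exact this.symm
    rw [e1]
    have hK := card_K_modEq_one hp hP hnc
    have h5 := Nat.ModEq.mul_left' 2 hK
    rw [← sq, mul_one] at h5
    exact hM.trans (Nat.ModEq.add_left 1 h5)

end Cfsg.Agent.Lib.Helper23.Kulakoff
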