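import Mathlib
import Cfsg.Agent.Lib.Helper23.KulakoffK

set_option autoImplicit false

namespace Cfsg.Agent.Lib.Helper23.Kulakoff

open Subgroup
open scoped commutatorElement

universe u

/-- in a finite group of exponent two, a non-identity element is avoided by some subgroup of
index two -/
theorem exists_index_two_not_mem {E : Type*} [Group E] [Finite E] (hE : ∀ x : E, x ^ 2 = 1)
    (e : E) (he : e ≠ 1) : ∃ H : Subgroup E, H.index = 2 ∧ e ∉ H := by
  classical
  have hcomm : ∀ a b : E, a * b = b * a := by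
    intro a b
    have hinv : ∀ x : E, x⁻¹ = x := by
      intro x
      have := hE x
      rw [pow_two] at this
      exact inv_eq_of_mul_eq_one_left this
    calc a * b = (a * b)⁻¹ := (hinv _).symm
      _ = b⁻¹ * a⁻¹ := mul_inv_rev a b
      _ = b * a := by rw [hinv, hinv]
  obtain ⟨H, hH, hmax⟩ := (Set.toFinite {H : Subgroup E | e ∉ H}).exists_le_maximal
    (show (⊥ : Subgroup E) ∈ {H : Subgroup E | e ∉ H} from fun h => he (Subgroup.mem_bot.mp h))
  have heH : e ∉ H := hmax.prop
  refine ⟨H, ?_, heH⟩
  rw [Subgroup.index_eq_two_iff]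
  refine ⟨e, fun b => ?_⟩
  -- every element outside `H` lies in `e H`
  have key : ∀ x : E, x ∉ H → x * e ∈ H := by
    intro x hx
    by_contra hxe
    -- `H' = H ∪ x H`
    let H' : Subgroup E :=
      { carrier := {y | y ∈ H ∨ x * y ∈ H}
        one_mem' := Or.inl H.one_mem
        mul_mem' := by
          rintro a b (ha | ha) (hb | hb)
          · exact Or.inl (H.mul_mem ha hb)
          · right
            have : x * (a * b) = a * (x * b) := by rw [← mul_assoc, hcomm x a, mul_assoc]
            rw [this]; exact H.mul_mem ha hb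
          · right
            rw [← mul_assoc]; exact H.mul_mem ha hb
          · left
            have hx2 : x * x = 1 := by rw [← pow_two]; exact hE x
            have : a * b = (x * a) * (x * b) := by
              rw [mul_assoc, ← mul_assoc a x b, hcomm a x, mul_assoc, ← mul_assoc, hx2, one_mul]
            rw [this]; exact H.mul_mem ha hb
        inv_mem' := by
          rintro a (ha | ha)
          · exact Or.inl (H.inv_mem ha)
          · right
            have hinv : a⁻¹ = a := by
              have := hE a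
              rw [pow_two] at this
              exact inv_eq_of_mul_eq_one_left this
            rw [hinv]; exact ha }
    have hle : H ≤ H' := fun y hy => Or.inl hy
    have heH' : e ∉ H' := by
      rintro (h | h)
      · exact heH h
      · exact hxe h
    have hH'le := hmax.le_of_ge (show H' ∈ {H : Subgroup E | e ∉ H} from heH') hle
    have hxH' : x ∈ H' := Or.inr (by
      have hx2 : x * x = 1 := by rw [← pow_two]; exact hE x
      rw [hx2]; exact H.one_mem)
    exact hx (hH'le hxH')
  by_cases hb : b ∈ H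
  · right
    refine ⟨hb, fun h => heH ?_⟩
    have : e = b⁻¹ * (b * e) := by group
    rw [this]; exact H.mul_mem (H.inv_mem hb) h
  · left
    exact ⟨key b hb, hb⟩

/-- **Setup for good groups with a maximal subgroup of maximal class.** -/
theorem good_setup {P : Type u} [Group P] [Finite P] (n : ℕ) (hn : 4 ≤ n)
    (hP : Nat.card P = 2 ^ n) (hnc : ¬ IsCyclic P) (hgood : (commutator P).index ≠ 4)
    (M₁ : Subgroup P) (hM₁i : M₁.index = 2) (hM₁ : (commutator M₁).index = 4) :
    ∃ N : Subgroup P, N.Normal ∧ N ≤ commutator P ∧ Nat.card N = 2 ^ (n - 4) ∧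
      Nat.card (commutator P) = 2 ^ (n - 3) ∧ (commutator P).index = 8 ∧
      ⁅M₁, M₁⁆ = commutator P ∧
      (∀ H : Subgroup P, H ≤ commutator P → H ≤ N ∨ H = commutator P) := by
  classical
  have hp := Nat.prime_two
  haveI : Fact (Nat.Prime 2) := ⟨hp⟩
  have hidx : ∀ M : Subgroup P, M.index = 2 ↔ Nat.card M = 2 ^ (n - 1) := by
    intro M
    have := index_eq_iff_card_eq hp hP (k := 1) (by omega) M
    rwa [pow_one] at this
  set D : Subgroup P := commutator P with hD
  have h8 := eight_dvd_index_commutator hP hnc hgood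
  have hcardcomm : ∀ M : Subgroup P, Nat.card (⁅M, M⁆ : Subgroup P) = Nat.card (commutator M) := by
    intro M
    rw [← Subgroup.map_subtype_commutator]
    exact Nat.card_congr
      ((commutator M).equivMapOfInjective M.subtype M.subtype_injective).toEquiv.symm
  have hleD : ∀ M : Subgroup P, ⁅M, M⁆ ≤ D := fun M => by
    rw [hD, _root_.commutator_def]; exact Subgroup.commutator_mono le_top le_top
  have h2n1 : 2 ^ (n - 1) = 2 ^ (n - 3) * 4 := by
    rw [show (4 : ℕ) = 2 ^ 2 by norm_num, ← pow_add]; congr 1; omega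
  have h2n : 2 ^ n = 2 ^ (n - 3) * 8 := by
    rw [show (8 : ℕ) = 2 ^ 3 by norm_num, ← pow_add]; congr 1; omega
  have hM₁c : Nat.card (⁅M₁, M₁⁆ : Subgroup P) = 2 ^ (n - 3) := by
    rw [hcardcomm]
    have h := (commutator M₁).card_mul_index
    rw [(hidx M₁).mp hM₁i, h2n1, hM₁] at h
    exact Nat.eq_of_mul_eq_mul_right (by norm_num) h
  have hDci := D.card_mul_index
  rw [hP] at hDci
  have hDcard : Nat.card D = 2 ^ (n - 3) := by
    apply le_antisymm
    · obtain ⟨s, hs⟩ := h8
      rw [hs, h2n] at hDci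
      have hs0 : 0 < s := by
        rcases Nat.eq_zero_or_pos s with h | h
        · rw [h] at hDci
          have : 0 < 2 ^ (n - 3) := by positivity
          omega
        · exact h
      nlinarith
    · rw [← hM₁c]
      exact Subgroup.card_le_of_le (hleD M₁)
  have hDidx : D.index = 8 := by
    rw [hDcard, h2n] at hDci
    exact Nat.eq_of_mul_eq_mul_left (by positivity) hDci
  have hM₁D : ⁅M₁, M₁⁆ = D := Subgroup.eq_of_le_of_card_ge (hleD M₁) (by rw [hDcard, hM₁c])
  have hM₁card : Nat.card M₁ = 2 ^ (n - 1) := (hidx M₁).mp hM₁i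
  have hDcyc : IsCyclic D := by
    obtain ⟨A', hA'i, hA'c, -, -⟩ := maxclass_data (n - 1) (by omega) hM₁card hM₁
    have hle : commutator M₁ ≤ A' := by
      rw [_root_.commutator_def, Subgroup.commutator_le]
      intro x _ y _
      rw [commutatorElement_def]
      exact PhiP_le 2 hA'i (comm_mem_PhiP hp hM₁card x y)
    haveI := hA'c
    haveI : IsCyclic (commutator M₁) := Subgroup.isCyclic_of_le hle
    rw [← hM₁D, ← Subgroup.map_subtype_commutator]
    exact isCyclic_of_surjective
      ((commutator M₁).equivMapOfInjective M₁.subtype M₁.subtype_injective)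
      (MulEquiv.surjective _)
  haveI hDn : D.Normal := by rw [hD]; infer_instance
  obtain ⟨N', hN'⟩ := Sylow.exists_subgroup_card_pow_prime 2 (n := n - 4) (G := D)
    (by rw [hDcard]; exact pow_dvd_pow 2 (by omega))
  set N : Subgroup P := N'.map D.subtype with hN
  have hNcard : Nat.card N = 2 ^ (n - 4) := by
    rw [← hN']
    exact Nat.card_congr (N'.equivMapOfInjective D.subtype D.subtype_injective).toEquiv.symm
  have hND : N ≤ D := Subgroup.map_subtype_le N'
  have hNn : N.Normal := by
    constructor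
    intro x hx g
    have h1 : N.map (MulAut.conj g).toMonoidHom = N := by
      apply Cfsg.Agent.Lib.Helper9.eq_of_card_eq_of_le_isCyclic D _ _ ?_ hND ?_
      · rintro _ ⟨y, hy, rfl⟩
        have : (MulAut.conj g).toMonoidHom y = g * y * g⁻¹ := by simp
        rw [this]
        exact hDn.conj_mem y (hND hy) g
      · exact Nat.card_congr (N.equivMapOfInjective (MulAut.conj g).toMonoidHom
          (MulAut.conj g).injective).toEquiv.symm
    rw [← h1]
    exact ⟨x, hx, by simp⟩
  refine ⟨N, hNn, hND, hNcard, hDcard, hDidx, hM₁D, ?_⟩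
  intro H hH
  obtain ⟨f, hf, hfc⟩ := (Nat.dvd_prime_pow hp).mp (hDcard ▸ Subgroup.card_dvd_of_le hH)
  rcases Nat.lt_or_ge f (n - 3) with hlt | hge
  · left
    intro x hx
    apply cyc_mem D N hND x (hH hx)
    rw [hNcard]
    have hxf : x ^ (2 ^ f) = 1 := by
      rw [← hfc]
      have h0 := congrArg Subtype.val (pow_card_eq_one' (G := H) (x := ⟨x, hx⟩))
      simpa only [Subgroup.coe_pow, Subgroup.coe_one] using h0
    obtain ⟨j, hj⟩ : ∃ j, n - 4 = f + j := ⟨n - 4 - f, by omega⟩
    rw [hj, pow_add, pow_mul, hxf, one_pow]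
  · right
    exact Subgroup.eq_of_le_of_card_ge hH (by
      rw [hDcard, hfc]; exact Nat.pow_le_pow_right (by norm_num) hge)

/-- **Extension theorem.**  A `2`-group of order at least `16` with Frattini quotient of order at
most four and a subgroup of index two whose commutator subgroup has index four has itself
commutator subgroup of index four. -/
theorem index_commutator_of_max_of_two_generated {P : Type u} [Group P] [Finite P] (n : ℕ)
    (hn : 4 ≤ n) (hP : Nat.card P = 2 ^ n) (hΦ : (PhiP 2 P).index ≤ 4)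
    (M₁ : Subgroup P) (hM₁i : M₁.index = 2) (hM₁ : (commutator M₁).index = 4) :
    (commutator P).index = 4 := by
  classical
  by_contra hgood
  have hp := Nat.prime_two
  haveI : Fact (Nat.Prime 2) := ⟨hp⟩
  have hidx : ∀ M : Subgroup P, M.index = 2 ↔ Nat.card M = 2 ^ (n - 1) := by
    intro M
    have := index_eq_iff_card_eq hp hP (k := 1) (by omega) M
    rwa [pow_one] at this
  have hM₁card := (hidx M₁).mp hM₁i
  have hnc : ¬ IsCyclic P := by
    intro hc
    haveI := hc
    have hM₁ab : IsMulCommutative M₁ := IsCyclic.isMulCommutative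
    rw [Cfsg.Agent.Lib.Helper1.commutator_eq_bot_of_isMulCommutative hM₁ab, Subgroup.index_bot,
      hM₁card] at hM₁
    have h8 : 2 ^ 3 ≤ 2 ^ (n - 1) := Nat.pow_le_pow_right (by norm_num) (by omega)
    omega
  obtain ⟨N, hNn, hND, hNcard, hDcard, hDidx, hM₁D, -⟩ :=
    good_setup n hn hP hnc hgood M₁ hM₁i hM₁
  haveI := hNn
  set D : Subgroup P := commutator P with hD
  haveI hDn : D.Normal := by rw [hD]; infer_instance
  have h2n4 : 2 ^ n = 2 ^ (n - 4) * 16 := by
    rw [show (16 : ℕ) = 2 ^ 4 by norm_num, ← pow_add]; congr 1; omega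
  have h2n34 : 2 ^ (n - 3) = 2 ^ (n - 4) * 2 := by
    rw [← pow_succ]; congr 1; omega
  set π : P →* P ⧸ N := QuotientGroup.mk' N with hπ
  have hπs : Function.Surjective π := QuotientGroup.mk'_surjective N
  have hQcard : Nat.card (P ⧸ N) = 16 := by
    rw [← Subgroup.index_eq_card]
    have h := N.card_mul_index
    rw [hP, hNcard, h2n4] at h
    exact Nat.eq_of_mul_eq_mul_left (by positivity) h
  set K : Subgroup (P ⧸ N) := D.map π with hK
  haveI hKn : K.Normal := hDn.map π hπs
  have hKcard : Nat.card K = 2 := by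
    have h1 : K.index = 8 := by
      rw [hK, Subgroup.index_map_eq D hπs (by rw [hπ, QuotientGroup.ker_mk']; exact hND)]
      exact hDidx
    have h2 := K.card_mul_index
    rw [h1, hQcard] at h2
    omega
  have hcommK : ∀ x y : P ⧸ N, ⁅x, y⁆ ∈ K := by
    intro x y
    obtain ⟨a, rfl⟩ := hπs x
    obtain ⟨b, rfl⟩ := hπs y
    rw [← map_commutatorElement]
    refine ⟨⁅a, b⁆, ?_, rfl⟩
    rw [hD, _root_.commutator_def]
    exact Subgroup.commutator_mem_commutator (Subgroup.mem_top _) (Subgroup.mem_top _)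
  have hKc := central_of_normal_card_two K hKcard
  have hKsq : ∀ a ∈ K, a * a = 1 := by
    intro a ha
    have := pow_card_eq_one' (G := K) (x := ⟨a, ha⟩)
    rw [hKcard] at this
    have := congrArg Subtype.val this
    simpa [pow_two] using this
  -- squares are central in the quotient
  have hsqc : ∀ x : P ⧸ N, x ^ 2 ∈ center (P ⧸ N) := by
    intro x
    rw [Subgroup.mem_center_iff]
    intro y
    have h1 : ⁅x ^ 2, y⁆ = x * ⁅x, y⁆ * x⁻¹ * ⁅x, y⁆ := by
      simp only [commutatorElement_def, pow_two]; group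
    have h2 : x * ⁅x, y⁆ * x⁻¹ = ⁅x, y⁆ := by
      rw [hKc _ (hcommK x y) x]; group
    have h3 : ⁅x ^ 2, y⁆ = 1 := by rw [h1, h2]; exact hKsq _ (hcommK x y)
    exact (commutatorElement_eq_one_iff_commute.mp h3).eq.symm
  -- the Frattini subgroup is central modulo `N`
  have hΦc : ∀ g ∈ PhiP 2 P, π g ∈ center (P ⧸ N) := by
    intro g hg
    by_contra hgc
    set Z : Subgroup (P ⧸ N) := center (P ⧸ N) with hZ
    have hE : ∀ x : (P ⧸ N) ⧸ Z, x ^ 2 = 1 := by
      intro x
      obtain ⟨x', rfl⟩ := QuotientGroup.mk'_surjective Z x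
      rw [← map_pow, ← MonoidHom.mem_ker, QuotientGroup.ker_mk']
      exact hsqc x'
    have hne : (QuotientGroup.mk' Z) (π g) ≠ 1 := by
      intro h
      rw [← MonoidHom.mem_ker, QuotientGroup.ker_mk'] at h
      exact hgc h
    obtain ⟨H, hHi, hgH⟩ := exists_index_two_not_mem hE _ hne
    set ρ : P →* (P ⧸ N) ⧸ Z := (QuotientGroup.mk' Z).comp π with hρ
    have hρs : Function.Surjective ρ := (QuotientGroup.mk'_surjective Z).comp hπs
    have hMi : (H.comap ρ).index = 2 := by
      rw [Subgroup.index_comap_of_surjective _ hρs]; exact hHi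
    have := PhiP_le 2 hMi hg
    exact hgH this
  -- `M₁` is abelian modulo `N`
  have hΦM : PhiP 2 P ≤ M₁ := PhiP_le 2 hM₁i
  have hrel : (PhiP 2 P).relIndex M₁ * M₁.index = (PhiP 2 P).index :=
    Subgroup.relIndex_mul_index hΦM
  rw [hM₁i] at hrel
  have hrel2 : (PhiP 2 P).relIndex M₁ ≤ 2 := by omega
  have hM₁ab : ∀ x ∈ M₁, ∀ y ∈ M₁, Commute (π x) (π y) := by
    intro x hx y hy
    by_cases hxΦ : x ∈ PhiP 2 P
    · exact (Subgroup.mem_center_iff.mp (hΦc x hxΦ) (π y)).symm
    by_cases hyΦ : y ∈ PhiP 2 P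
    · exact Subgroup.mem_center_iff.mp (hΦc y hyΦ) (π x)
    have hidx0 : (PhiP 2 P).index ≠ 0 := Subgroup.index_ne_zero_of_finite
    have hrelpos : (PhiP 2 P).relIndex M₁ ≠ 0 := by
      intro h
      rw [h] at hrel
      omega
    have hrel1 : (PhiP 2 P).relIndex M₁ ≠ 1 := by
      intro h
      rw [Subgroup.relIndex_eq_one] at h
      exact hxΦ (h hx)
    have hrel' : ((PhiP 2 P).subgroupOf M₁).index = 2 := by
      have : (PhiP 2 P).relIndex M₁ = 2 := by omega
      exact this
    have hmem : (⟨x, hx⟩ : M₁)⁻¹ * ⟨y, hy⟩ ∈ (PhiP 2 P).subgroupOf M₁ := by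
      rw [Subgroup.mul_mem_iff_of_index_two hrel', inv_mem_iff]
      constructor
      · intro h; exact absurd (Subgroup.mem_subgroupOf.mp h) hxΦ
      · intro h; exact absurd (Subgroup.mem_subgroupOf.mp h) hyΦ
    have hmem' : x⁻¹ * y ∈ PhiP 2 P := Subgroup.mem_subgroupOf.mp hmem
    have hc := Subgroup.mem_center_iff.mp (hΦc _ hmem') (π x)
    have hy' : y = x * (x⁻¹ * y) := by group
    rw [hy', map_mul]
    exact (Commute.refl (π x)).mul_right hc
  -- contradiction
  have hle : ⁅M₁, M₁⁆ ≤ N := by
    rw [Subgroup.commutator_le]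
    intro x hx y hy
    have h1 := hM₁ab x hx y hy
    rw [← commutatorElement_eq_one_iff_commute, ← map_commutatorElement] at h1
    rwa [← QuotientGroup.ker_mk' N, MonoidHom.mem_ker]
  rw [hM₁D] at hle
  have h3 := Subgroup.card_le_of_le hle
  rw [hDcard, hNcard, h2n34] at h3
  have : 0 < 2 ^ (n - 4) := by positivity
  omega

end Cfsg.Agent.Lib.Helper23.Kulakoff
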