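import Mathlib
import Cfsg.Prelude.Def_CaseTheorems
import Cfsg.Agent.Lib.Helper1.MaxClassClassify
import Cfsg.Agent.Lib.Helper23.SectionalRank
import Cfsg.Agent.Lib.Helper23.KulakoffM

set_option autoImplicit false

namespace Cfsg.Agent.Lib.Helper23.Kulakoff

open Subgroup
open scoped commutatorElement

universe u

/-- the index of the commutator subgroup is invariant under isomorphism -/
theorem index_commutator_congr {A B : Type*} [Group A] [Group B] (e : A ≃* B) :
    (commutator A).index = (commutator B).index := by
  have h1 : (commutator A).map e.toMonoidHom = commutator B := by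
    rw [_root_.commutator_def, _root_.commutator_def, Subgroup.map_commutator]
    have : (⊤ : Subgroup A).map e.toMonoidHom = ⊤ :=
      Subgroup.map_top_of_surjective e.toMonoidHom e.surjective
    rw [this]
  rw [← h1]
  exact (Subgroup.index_map_equiv (commutator A) e).symm

theorem isMulCommutative_of_mulEquiv {A B : Type*} [Group A] [Group B] (e : A ≃* B)
    (h : IsMulCommutative A) : IsMulCommutative B := by
  constructor; constructor
  intro a b
  apply e.symm.injective
  rw [map_mul, map_mul]
  exact mul_comm' _ _

/-- a nonabelian group of order `8` has commutator subgroup of index `4` -/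
theorem index_commutator_of_card_eight {X : Type u} [Group X] [Finite X] (h8 : Nat.card X = 8)
    (hnab : ¬ IsMulCommutative X) : (commutator X).index = 4 := by
  have hP : Nat.card X = 2 ^ 3 := by rw [h8]; norm_num
  have hnc : ¬ IsCyclic X := fun h => hnab IsCyclic.isMulCommutative
  by_contra hgood
  have h8' := eight_dvd_index_commutator hP hnc hgood
  have hci := (commutator X).card_mul_index
  rw [h8] at hci
  obtain ⟨s, hs⟩ := h8'
  have hd1 : Nat.card (commutator X) = 1 := by
    have hd0 : 0 < Nat.card (commutator X) := Nat.card_pos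
    rw [hs] at hci
    have hs0 : 0 < s := by
      rcases Nat.eq_zero_or_pos s with h | h
      · rw [h] at hci; simp at hci
      · exact h
    nlinarith
  have hbot : commutator X = ⊥ := Subgroup.card_eq_one.mp hd1
  apply hnab
  constructor; constructor
  intro v w
  have h1 : ⁅v, w⁆ ∈ commutator X := by
    rw [_root_.commutator_def]
    exact Subgroup.commutator_mem_commutator (Subgroup.mem_top _) (Subgroup.mem_top _)
  rw [hbot, Subgroup.mem_bot, commutatorElement_eq_one_iff_commute] at h1
  exact h1.eq

/-- in a `2`-group of sectional rank at most two, every subgroup containing a nonabelian subgroup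
of order `8` has commutator subgroup of index four -/
theorem maxclass_of_sectional {S : Type u} [Group S] [Finite S]
    (hr : Cfsg.SectionalPRankLE 2 2 S) :
    ∀ (n : ℕ) (M : Subgroup S), Nat.card M = 2 ^ n →
      (∃ H : Subgroup S, H ≤ M ∧ Nat.card H = 8 ∧ ¬ IsMulCommutative H) →
      3 ≤ n ∧ (commutator M).index = 4 := by
  intro n
  induction n using Nat.strong_induction_on with
  | _ n ih =>
  intro M hM ⟨H, hHM, hH8, hHnab⟩
  have hp := Nat.prime_two
  have hn3 : 3 ≤ n := by
    have h1 : Nat.card H ∣ Nat.card M := Subgroup.card_dvd_of_le hHM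
    rw [hH8, hM, show (8 : ℕ) = 2 ^ 3 by norm_num] at h1
    exact (Nat.pow_dvd_pow_iff_le_right (by norm_num)).mp h1
  refine ⟨hn3, ?_⟩
  by_cases hHeq : H = M
  · subst hHeq
    exact index_commutator_of_card_eight hH8 hHnab
  · -- a maximal subgroup of `M` containing `H`
    have hH' : H.subgroupOf M ≠ ⊤ := by
      intro h
      rw [Subgroup.subgroupOf_eq_top] at h
      exact hHeq (le_antisymm hHM h)
    obtain ⟨M', hM'i, hHM'⟩ := exists_index_p_of_ne_top hp hM hH'
    have hM'card : Nat.card M' = 2 ^ (n - 1) := by
      have := (index_eq_iff_card_eq hp hM (k := 1) (by omega) M').mp (by rw [pow_one]; exact hM'i)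
      exact this
    set M'' : Subgroup S := M'.map M.subtype with hM''
    let e : M' ≃* M'' := M'.equivMapOfInjective M.subtype M.subtype_injective
    have hM''card : Nat.card M'' = 2 ^ (n - 1) := by
      rw [← hM'card]; exact (Nat.card_congr e.toEquiv).symm
    have hHM'' : H ≤ M'' := by
      intro h hh
      refine ⟨⟨h, hHM hh⟩, hHM' (Subgroup.mem_subgroupOf.mpr hh), rfl⟩
    obtain ⟨hn4, hidx4''⟩ := ih (n - 1) (by omega) M'' hM''card ⟨H, hHM'', hH8, hHnab⟩
    have hidx4' : (commutator M').index = 4 := by
      rw [index_commutator_congr e]; exact hidx4''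
    -- the Frattini quotient of `M` has order at most four
    haveI hΦn : (PhiP 2 M).Normal := normal_of_PhiP_le hp hM le_rfl
    have hΦ : (PhiP 2 M).index ≤ 4 := by
      rw [Subgroup.index_eq_card]
      have hE : ∀ x : M ⧸ PhiP 2 M, x ^ 2 = 1 := by
        intro x
        obtain ⟨x', rfl⟩ := QuotientGroup.mk'_surjective (PhiP 2 M) x
        rw [← map_pow, ← MonoidHom.mem_ker, QuotientGroup.ker_mk']
        exact pow_mem_PhiP hp hM x'
      have := Cfsg.Agent.Lib.Helper23.card_le_of_sectionalPRankLE 2 2 hr M.subtype
        (QuotientGroup.mk' (PhiP 2 M)) (QuotientGroup.mk'_surjective _)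
        (Cfsg.Agent.Lib.Helper23.mul_comm_of_forall_sq_eq_one hE) hE
        (by rw [Subgroup.ker_subtype]; exact bot_le)
      simpa using this
    exact index_commutator_of_max_of_two_generated n (by omega) hM hΦ M' hM'i hidx4'

/-- **S4398**: a `2`-group of sectional rank at most two containing a dihedral or quaternion
subgroup of order `8` has commutator subgroup of index four. -/
theorem index_commutator_of_sectional {S : Type u} [Group S] [Finite S] (h2 : IsPGroup 2 S)
    (hr : Cfsg.SectionalPRankLE 2 2 S)
    (hsub : ∃ H : Subgroup S, Nonempty (↥H ≃* DihedralGroup 4) ∨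
      Nonempty (↥H ≃* QuaternionGroup 2)) :
    ∃ n, 3 ≤ n ∧ Nat.card S = 2 ^ n ∧ (commutator S).index = 4 := by
  obtain ⟨n, hn⟩ := IsPGroup.iff_card.mp h2
  obtain ⟨H, hH⟩ := hsub
  have hH8 : Nat.card H = 8 ∧ ¬ IsMulCommutative H := by
    rcases hH with ⟨⟨e⟩⟩ | ⟨⟨e⟩⟩
    · refine ⟨?_, fun h => ?_⟩
      · rw [Nat.card_congr e.toEquiv, Nat.card_eq_fintype_card, DihedralGroup.card]
      · exact DihedralGroup.not_commutative (by norm_num) (by norm_num)
          (isMulCommutative_of_mulEquiv e h)
    · refine ⟨?_, fun h => ?_⟩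
      · rw [Nat.card_congr e.toEquiv, Nat.card_eq_fintype_card, QuaternionGroup.card]
      · have hc := isMulCommutative_of_mulEquiv e h
        have h1 : (QuaternionGroup.a 1 : QuaternionGroup 2) * QuaternionGroup.xa 0 =
            QuaternionGroup.xa 0 * QuaternionGroup.a 1 := mul_comm' _ _
        revert h1
        decide
  have htop : Nat.card (⊤ : Subgroup S) = 2 ^ n := by rw [Subgroup.card_top]; exact hn
  obtain ⟨hn3, hidx⟩ := maxclass_of_sectional hr n ⊤ htop ⟨H, le_top, hH8.1, hH8.2⟩
  refine ⟨n, hn3, hn, ?_⟩
  rw [← index_commutator_congr (Subgroup.topEquiv (G := S))]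
  exact hidx

end Cfsg.Agent.Lib.Helper23.Kulakoff
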