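import Mathlib

/-! # Invariant hyperplanes for a `p`-group acting on an elementary abelian `p`-group

Basic tools for the bound `d(Q) ≤ m ^ 2 / 4` for a `p`-group `Q` acting faithfully on an
elementary abelian `p`-group of rank `m` (Patterson, Laffey). -/

set_option autoImplicit false

namespace Cfsg.Agent.Lib.Helper23.Laffey

open Subgroup

section Action
variable {Q V : Type*} [Group Q] [CommGroup V] [MulDistribMulAction Q V]

/-- `X` is stable under the action of `Q`. -/
def Inv (Q : Type*) {V : Type*} [Group Q] [CommGroup V] [MulDistribMulAction Q V]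
    (X : Subgroup V) : Prop := ∀ g : Q, ∀ x ∈ X, g • x ∈ X

/-- the pointwise fixer of `X` in `Q` -/
def fixer (Q : Type*) {V : Type*} [Group Q] [CommGroup V] [MulDistribMulAction Q V]
    (X : Subgroup V) : Subgroup Q where
  carrier := {g | ∀ x ∈ X, g • x = x}
  one_mem' := by intro x _; simp
  mul_mem' := by
    intro a b ha hb x hx
    rw [mul_smul, hb x hx, ha x hx]
  inv_mem' := by
    intro a ha x hx
    rw [inv_smul_eq_iff, ha x hx]

theorem mem_fixer {X : Subgroup V} {g : Q} : g ∈ fixer Q X ↔ ∀ x ∈ X, g • x = x := Iff.rfl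

theorem fixer_normal {X : Subgroup V} (hX : Inv Q X) : (fixer Q X).Normal := by
  constructor
  intro k hk g x hx
  have h1 : g⁻¹ • x ∈ X := hX g⁻¹ x hx
  rw [mul_smul, mul_smul, hk _ h1, smul_inv_smul]

theorem fixer_anti {X Y : Subgroup V} (h : X ≤ Y) : fixer Q Y ≤ fixer Q X :=
  fun _ hg x hx => hg x (h hx)

theorem inv_bot : Inv Q (⊥ : Subgroup V) := by
  intro g x hx
  rw [Subgroup.mem_bot] at hx ⊢
  rw [hx, smul_one]

theorem fixer_bot : fixer Q (⊥ : Subgroup V) = ⊤ := by
  rw [eq_top_iff]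
  intro g _ x hx
  rw [Subgroup.mem_bot] at hx
  rw [hx, smul_one]

/-- the action of `Q` on the cosets of `U` in `X` -/
@[reducible] def quotAct (X U : Subgroup V) (hX : Inv Q X) (hU : Inv Q U) :
    MulAction Q (↥X ⧸ U.subgroupOf X) where
  smul g := Quotient.map' (fun x => (⟨g • x.1, hX g x.1 x.2⟩ : ↥X)) (by
    intro a b hab
    rw [QuotientGroup.leftRel_apply] at hab ⊢
    rw [Subgroup.mem_subgroupOf] at hab ⊢
    have h1 : ((⟨g • a.1, hX g a.1 a.2⟩ : ↥X)⁻¹ * ⟨g • b.1, hX g b.1 b.2⟩ : ↥X).1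
        = g • ((a⁻¹ * b : ↥X) : V) := by
      simp [smul_mul', smul_inv']
    rw [h1]
    exact hU g _ hab)
  one_smul := by
    intro q
    induction q using Quotient.inductionOn' with
    | h x =>
      show Quotient.map' _ _ _ = _
      rw [Quotient.map'_mk'']
      congr 1
      exact Subtype.ext (one_smul Q x.1)
  mul_smul := by
    intro g h q
    induction q using Quotient.inductionOn' with
    | h x =>
      show Quotient.map' _ _ _ = Quotient.map' _ _ (Quotient.map' _ _ _)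
      rw [Quotient.map'_mk'', Quotient.map'_mk'', Quotient.map'_mk'']
      congr 1
      exact Subtype.ext (mul_smul g h x.1)

/-- a `p`-group acting on `X` stabilising `U < X` (of `p`-power index) fixes a nontrivial coset -/
theorem exists_fixed_mod {p : ℕ} [Fact p.Prime] (hQ : IsPGroup p Q) (X U : Subgroup V)
    [Finite X] (hX : Inv Q X) (hU : Inv Q U) (hidx : p ∣ U.relIndex X) :
    ∃ t ∈ X, t ∉ U ∧ ∀ g : Q, (g • t) * t⁻¹ ∈ U := by
  let _ := quotAct X U hX hU
  have hsm : ∀ (g : Q) (x : ↥X), g • (QuotientGroup.mk x : ↥X ⧸ U.subgroupOf X)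
      = QuotientGroup.mk (⟨g • x.1, hX g x.1 x.2⟩ : ↥X) := fun g x => rfl
  have hcard : p ∣ Nat.card (↥X ⧸ U.subgroupOf X) := hidx
  have hfix : (QuotientGroup.mk (1 : ↥X) : ↥X ⧸ U.subgroupOf X) ∈
      MulAction.fixedPoints Q (↥X ⧸ U.subgroupOf X) := by
    intro g
    rw [hsm]
    congr 1
    exact Subtype.ext (smul_one g)
  obtain ⟨b, hb, hne⟩ :=
    hQ.exists_fixed_point_of_prime_dvd_card_of_fixed_point (↥X ⧸ U.subgroupOf X) hcard hfix
  induction b using QuotientGroup.induction_on with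
  | H x =>
    refine ⟨x.1, x.2, ?_, ?_⟩
    · intro hxU
      apply hne
      rw [eq_comm, QuotientGroup.eq, Subgroup.mem_subgroupOf]
      simpa using hxU
    · intro g
      have h1 := hb g
      rw [hsm, QuotientGroup.eq, Subgroup.mem_subgroupOf] at h1
      have h2 : ((⟨g • x.1, hX g x.1 x.2⟩ : ↥X)⁻¹ * x : ↥X).1 = ((g • x.1) * x.1⁻¹)⁻¹ := by
        simp [mul_comm]
      rw [h2] at h1
      exact (Subgroup.inv_mem_iff U).mp h1

end Action

section Comm
variable {V : Type*} [CommGroup V]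

/-- adjoining an element of order `p` outside `W` multiplies the order by `p` -/
theorem card_sup_zpowers {p : ℕ} [hp : Fact p.Prime] (W : Subgroup V) [Finite W] {t : V}
    (htp : t ^ p = 1) (htW : t ∉ W) :
    Nat.card (W ⊔ zpowers t : Subgroup V) = p * Nat.card W := by
  have ht1 : t ≠ 1 := fun h => htW (h ▸ W.one_mem)
  have hord : orderOf t = p := orderOf_eq_prime htp ht1
  have hinf : W ⊓ zpowers t = ⊥ := by
    have hcard : Nat.card (zpowers t) = p := by rw [Nat.card_zpowers, hord]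
    have hdvd : Nat.card (W ⊓ zpowers t : Subgroup V) ∣ p := by
      rw [← hcard]; exact Subgroup.card_dvd_of_le inf_le_right
    rcases (Nat.dvd_prime hp.out).mp hdvd with h | h
    · exact Subgroup.card_eq_one.mp h
    · exfalso
      apply htW
      have : Finite (zpowers t) := Nat.finite_of_card_ne_zero (by rw [hcard]; exact hp.out.ne_zero)
      have : W ⊓ zpowers t = zpowers t :=
        Subgroup.eq_of_le_of_card_ge inf_le_right (by rw [h, hcard])
      have hle : zpowers t ≤ W := by rw [← this]; exact inf_le_left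
      exact hle (mem_zpowers t)
  have h1 : W.relIndex (W ⊔ zpowers t) = p := by
    rw [Subgroup.relIndex_sup_left, ← Subgroup.inf_relIndex_right, hinf,
      Subgroup.relIndex_bot_left, Nat.card_zpowers, hord]
  have h2 := Subgroup.relIndex_mul_relIndex (⊥ : Subgroup V) W (W ⊔ zpowers t) bot_le le_sup_left
  rw [Subgroup.relIndex_bot_left, Subgroup.relIndex_bot_left, h1] at h2
  rw [← h2, mul_comm]

end Comm

section Hyperplane
variable {Q V : Type*} [Group Q] [CommGroup V] [MulDistribMulAction Q V]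

theorem inv_sup_zpowers {W : Subgroup V} (hW : Inv Q W) {t : V}
    (ht : ∀ g : Q, (g • t) * t⁻¹ ∈ W) : Inv Q (W ⊔ zpowers t) := by
  intro g y hy
  rw [Subgroup.mem_sup] at hy ⊢
  obtain ⟨w, hw, z, hz, rfl⟩ := hy
  obtain ⟨i, rfl⟩ := Subgroup.mem_zpowers_iff.mp hz
  refine ⟨(g • w) * ((g • t) * t⁻¹) ^ i, W.mul_mem (hW g w hw) (W.zpow_mem (ht g) i), t ^ i,
    Subgroup.zpow_mem_zpowers t i, ?_⟩
  rw [smul_mul', smul_zpow', mul_zpow, mul_assoc, mul_assoc, ← mul_zpow, inv_mul_cancel, one_zpow,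
    mul_one]

/-- an invariant hyperplane of `X` above a proper invariant subgroup, with a vector fixed
modulo it -/
theorem exists_invariant_hyperplane {p : ℕ} [Fact p.Prime] [Finite V] (hQ : IsPGroup p Q)
    (X U : Subgroup V) (hXp : ∃ m, Nat.card X = p ^ m)
    (hX : Inv Q X) (hU : Inv Q U) (hUX : U < X) :
    ∃ (W : Subgroup V) (t : V), U ≤ W ∧ W ≤ X ∧ Inv Q W ∧ t ∈ X ∧ t ∉ W ∧
      (∀ g : Q, (g • t) * t⁻¹ ∈ W) ∧ X = W ⊔ zpowers t := by
  have hp : p.Prime := Fact.out
  obtain ⟨W, hUW, hWmax⟩ := (Set.toFinite {W : Subgroup V | U ≤ W ∧ W < X ∧ Inv Q W}).exists_le_maximal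
    (show U ∈ {W : Subgroup V | U ≤ W ∧ W < X ∧ Inv Q W} from ⟨le_rfl, hUX, hU⟩)
  obtain ⟨⟨hUW', hWX, hW⟩, hmax⟩ := hWmax
  have hidx : p ∣ W.relIndex X := by
    obtain ⟨m, hm⟩ := hXp
    have h1 : W.relIndex X ∣ p ^ m := hm ▸ Subgroup.relIndex_dvd_card W X
    obtain ⟨j, -, hj⟩ := (Nat.dvd_prime_pow hp).mp h1
    rcases Nat.eq_zero_or_pos j with h0 | hpos
    · exfalso
      rw [h0, pow_zero, Subgroup.relIndex_eq_one] at hj
      exact (not_le_of_gt hWX) hj
    · rw [hj]; exact dvd_pow_self p (by omega)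
  obtain ⟨t, htX, htW, ht⟩ := exists_fixed_mod hQ X W hX hW hidx
  refine ⟨W, t, hUW', hWX.le, hW, htX, htW, ht, ?_⟩
  by_contra hne
  have hle : W ⊔ zpowers t ≤ X := sup_le hWX.le (by rw [zpowers_le]; exact htX)
  have hlt : W ⊔ zpowers t < X := lt_of_le_of_ne hle (fun h => hne h.symm)
  have hmem : W ⊔ zpowers t ∈ {W : Subgroup V | U ≤ W ∧ W < X ∧ Inv Q W} :=
    ⟨hUW'.trans le_sup_left, hlt, inv_sup_zpowers hW ht⟩
  have := hmax hmem le_sup_left
  exact htW (this (le_sup_right (a := W) (mem_zpowers t)))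

end Hyperplane

end Cfsg.Agent.Lib.Helper23.Laffey
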