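import Mathlib
import Cfsg.Agent.Lib.Helper23.LaffeyA
import Cfsg.Agent.S0012

/-! # The evaluation map on the fixer of an invariant hyperplane -/

set_option autoImplicit false

namespace Cfsg.Agent.Lib.Helper23.Laffey

open Subgroup
open scoped commutatorElement

section Ev
variable {Q V : Type*} [Group Q] [CommGroup V] [MulDistribMulAction Q V]

/-- `k ↦ (k • t) t⁻¹` on the fixer of `W` -/
def evHom (W : Subgroup V) (t : V) (ht : ∀ g : Q, (g • t) * t⁻¹ ∈ W) : ↥(fixer Q W) →* V where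
  toFun k := (k.1 • t) * t⁻¹
  map_one' := by simp
  map_mul' := by
    intro a b
    have hb : (b.1 • t) * t⁻¹ ∈ W := ht b.1
    have h1 : a.1 • ((b.1 • t) * t⁻¹) = (b.1 • t) * t⁻¹ := a.2 _ hb
    have h2 : b.1 • t = ((b.1 • t) * t⁻¹) * t := by simp
    show ((a * b : fixer Q W).1 • t) * t⁻¹ = _
    rw [Subgroup.coe_mul, mul_smul]
    conv_lhs => rw [h2, smul_mul', h1]
    rw [mul_comm ((a.1 • t) * t⁻¹), mul_assoc]

variable {W : Subgroup V} {t : V} (ht : ∀ g : Q, (g • t) * t⁻¹ ∈ W)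

theorem evHom_apply (k : fixer Q W) : evHom W t ht k = (k.1 • t) * t⁻¹ := rfl

theorem evHom_mem (k : fixer Q W) : evHom W t ht k ∈ W := ht k.1

theorem evHom_range_le : (evHom W t ht).range ≤ W := by
  rintro _ ⟨k, rfl⟩
  exact evHom_mem ht k

theorem evHom_ker {X : Subgroup V} (hsup : X = W ⊔ zpowers t) :
    (evHom W t ht).ker = (fixer Q X).subgroupOf (fixer Q W) := by
  ext k
  rw [MonoidHom.mem_ker, evHom_apply, mul_inv_eq_one, Subgroup.mem_subgroupOf, mem_fixer]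
  constructor
  · intro hk x hx
    rw [hsup, Subgroup.mem_sup] at hx
    obtain ⟨w, hw, z, hz, rfl⟩ := hx
    obtain ⟨i, rfl⟩ := Subgroup.mem_zpowers_iff.mp hz
    rw [smul_mul', smul_zpow', hk, k.2 w hw]
  · intro hk
    apply hk
    rw [hsup]
    exact le_sup_right (a := W) (mem_zpowers t)

theorem evHom_conj (g : Q) (k : fixer Q W) (hk' : g * k.1 * g⁻¹ ∈ fixer Q W) :
    evHom W t ht ⟨g * k.1 * g⁻¹, hk'⟩ = g • evHom W t ht k := by
  show ((g * k.1 * g⁻¹) • t) * t⁻¹ = g • ((k.1 • t) * t⁻¹)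
  have hw1 : (g⁻¹ • t) * t⁻¹ ∈ W := ht g⁻¹
  have h1 : k.1 • ((g⁻¹ • t) * t⁻¹) = (g⁻¹ • t) * t⁻¹ := k.2 _ hw1
  have h2 : g⁻¹ • t = ((g⁻¹ • t) * t⁻¹) * t := by simp
  rw [mul_smul, mul_smul]
  conv_lhs => rw [h2, smul_mul', h1, smul_mul', smul_mul', smul_inv_smul, smul_inv']
  rw [smul_mul', smul_inv']
  rw [mul_comm t, mul_assoc, mul_assoc, mul_comm t, mul_assoc, inv_mul_cancel, mul_one, mul_comm]

end Ev

section Sections
variable {Q V : Type*} [Group Q] [CommGroup V] [MulDistribMulAction Q V]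

/-- the part of the fixer of `W` absorbed by `fixer X ⊔ Φ(Q)` -/
def K0 (Q : Type*) {V : Type*} [Group Q] [CommGroup V] [MulDistribMulAction Q V]
    (X W : Subgroup V) : Subgroup Q := fixer Q W ⊓ (fixer Q X ⊔ frattini Q)

theorem K0_normal {X W : Subgroup V} (hX : Inv Q X) (hW : Inv Q W) : (K0 Q X W).Normal := by
  have := fixer_normal hX
  have := fixer_normal hW
  unfold K0
  infer_instance

variable {X W : Subgroup V} {t : V} (ht : ∀ g : Q, (g • t) * t⁻¹ ∈ W)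

/-- top of the new trivial section -/
def secTop : Subgroup V := (evHom W t ht).range

/-- bottom of the new trivial section -/
def secBot (X : Subgroup V) : Subgroup V :=
  ((K0 Q X W).subgroupOf (fixer Q W)).map (evHom W t ht)

theorem secBot_le_secTop : secBot ht X ≤ secTop ht := by
  rintro _ ⟨k, -, rfl⟩
  exact ⟨k, rfl⟩

theorem secTop_le : secTop ht ≤ W := evHom_range_le ht

theorem inv_secTop (hW : Inv Q W) : Inv Q (secTop ht) := by
  have := fixer_normal hW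
  rintro g _ ⟨k, rfl⟩
  have hk' : g * k.1 * g⁻¹ ∈ fixer Q W := (fixer_normal hW).conj_mem k.1 k.2 g
  exact ⟨⟨g * k.1 * g⁻¹, hk'⟩, evHom_conj ht g k hk'⟩

theorem inv_secBot (hX : Inv Q X) (hW : Inv Q W) : Inv Q (secBot ht X) := by
  rintro g _ ⟨k, hk, rfl⟩
  have hk' : g * k.1 * g⁻¹ ∈ fixer Q W := (fixer_normal hW).conj_mem k.1 k.2 g
  refine ⟨⟨g * k.1 * g⁻¹, hk'⟩, ?_, evHom_conj ht g k hk'⟩
  rw [SetLike.mem_coe, Subgroup.mem_subgroupOf] at hk ⊢
  exact (K0_normal hX hW).conj_mem k.1 hk g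

theorem secTriv (hW : Inv Q W) (hcomm : commutator Q ≤ frattini Q) (g : Q) :
    ∀ u ∈ secTop ht, (g • u) * u⁻¹ ∈ secBot ht X := by
  rintro _ ⟨k, rfl⟩
  have hk' : g * k.1 * g⁻¹ ∈ fixer Q W := (fixer_normal hW).conj_mem k.1 k.2 g
  refine ⟨(⟨g * k.1 * g⁻¹, hk'⟩ : fixer Q W) * k⁻¹, ?_, ?_⟩
  · rw [SetLike.mem_coe, Subgroup.mem_subgroupOf]
    refine ⟨((⟨g * k.1 * g⁻¹, hk'⟩ : fixer Q W) * k⁻¹).2, ?_⟩
    apply le_sup_right (a := fixer Q X)
    apply hcomm
    have : (((⟨g * k.1 * g⁻¹, hk'⟩ : fixer Q W) * k⁻¹ : fixer Q W) : Q) = ⁅g, k.1⁆ := by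
      rw [commutatorElement_def]; rfl
    rw [this, _root_.commutator_def]
    exact Subgroup.commutator_mem_commutator (Subgroup.mem_top g) (Subgroup.mem_top k.1)
  · rw [map_mul, map_inv, evHom_conj ht g k hk']

theorem secBot_relIndex_secTop (hsup : X = W ⊔ zpowers t) :
    (secBot ht X).relIndex (secTop ht) = (K0 Q X W).relIndex (fixer Q W) := by
  have hker : (evHom W t ht).ker ≤ (K0 Q X W).subgroupOf (fixer Q W) := by
    rw [evHom_ker ht hsup]
    intro k hk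
    rw [Subgroup.mem_subgroupOf] at hk ⊢
    exact ⟨k.2, le_sup_left (a := fixer Q X) hk⟩
  unfold secBot secTop
  rw [MonoidHom.range_eq_map, Subgroup.relIndex_map_map, sup_eq_left.mpr hker, top_sup_eq,
    Subgroup.relIndex_top_right]
  rfl

/-- the index of `fixer X ⊔ Φ` splits along the fixer of `W` -/
theorem index_fixer_sup (hX : Inv Q X) (hWX : W ≤ X) :
    (fixer Q X ⊔ frattini Q).index =
      (K0 Q X W).relIndex (fixer Q W) * (fixer Q W ⊔ frattini Q).index := by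
  have := fixer_normal hX
  have hle : fixer Q X ≤ fixer Q W := fixer_anti hWX
  have h1 : fixer Q W ⊔ (fixer Q X ⊔ frattini Q) = fixer Q W ⊔ frattini Q := by
    rw [← sup_assoc, sup_eq_left.mpr hle]
  have h2 : fixer Q X ⊔ frattini Q ≤ fixer Q W ⊔ frattini Q := sup_le_sup_right hle _
  rw [← Subgroup.relIndex_mul_index h2, ← h1, Subgroup.relIndex_sup_right]
  unfold K0
  rw [inf_comm, Subgroup.inf_relIndex_right]

end Sections

end Cfsg.Agent.Lib.Helper23.Laffey
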