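import Mathlib
import Cfsg.Agent.Lib.Helper23.LaffeyB

/-! # `p`-groups of automorphisms of an elementary abelian group of rank `m` need at most
`m ^ 2 / 4` generators -/

set_option autoImplicit false

namespace Cfsg.Agent.Lib.Helper23.Laffey

open Subgroup

section Key
variable {Q V : Type*} [Group Q] [Finite Q] [CommGroup V] [Finite V] [MulDistribMulAction Q V]
variable {p : ℕ} [Fact p.Prime]

/-- the statement proved by induction on the rank `m` -/
def KeyProp (Q : Type*) {V : Type*} [Group Q] [CommGroup V] [MulDistribMulAction Q V]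
    (p m : ℕ) : Prop :=
  ∀ (X U U₁ : Subgroup V) (s : ℕ), (∀ x ∈ X, x ^ p = 1) → Nat.card X = p ^ m → Inv Q X →
    Inv Q U → Inv Q U₁ → U₁ ≤ U → U ≤ X → (∀ g : Q, ∀ u ∈ U, (g • u) * u⁻¹ ∈ U₁) →
    U₁.relIndex U = p ^ s →
    ∃ t, s ≤ t ∧ t ≤ m ∧ (fixer Q X ⊔ frattini Q).index ≤ p ^ (t * (m - t))

theorem exists_relIndex_eq_pow (hQ : IsPGroup p Q) (H K : Subgroup Q) :
    ∃ j, H.relIndex K = p ^ j := by
  have hp : p.Prime := Fact.out
  obtain ⟨n, hn⟩ := IsPGroup.iff_card.mp hQ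
  have h1 : H.relIndex K ∣ p ^ n := by
    rw [← hn]
    exact (Subgroup.relIndex_dvd_card H K).trans (Subgroup.card_subgroup_dvd_card K)
  obtain ⟨j, -, hj⟩ := (Nat.dvd_prime_pow hp).mp h1
  exact ⟨j, hj⟩

theorem step (hQ : IsPGroup p Q) (m : ℕ) (IH : KeyProp (V := V) Q p m)
    (X W : Subgroup V) (t₀ : V) (hXe : ∀ x ∈ X, x ^ p = 1) (hXc : Nat.card X = p ^ (m + 1))
    (hX : Inv Q X) (hW : Inv Q W) (hWX : W ≤ X) (ht₀X : t₀ ∈ X) (ht₀W : t₀ ∉ W)
    (ht₀ : ∀ g : Q, (g • t₀) * t₀⁻¹ ∈ W) (hsup : X = W ⊔ zpowers t₀)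
    (U U₁ : Subgroup V) (s : ℕ) (hU : Inv Q U) (hU₁ : Inv Q U₁) (h1 : U₁ ≤ U) (h2 : U ≤ W)
    (htriv : ∀ g : Q, ∀ u ∈ U, (g • u) * u⁻¹ ∈ U₁) (hs : U₁.relIndex U = p ^ s) :
    ∃ s₁ t, s ≤ t ∧ s₁ ≤ t ∧ t ≤ m ∧
      (fixer Q X ⊔ frattini Q).index ≤ p ^ (t * (m - t) + s₁) ∧
      ∀ Y : Subgroup V, (∀ g : Q, (g • t₀) * t₀⁻¹ ∈ Y) → p ^ s₁ ≤ Nat.card Y := by
  have hp : p.Prime := Fact.out
  have hWc : Nat.card W = p ^ m := by
    have h := card_sup_zpowers (p := p) W (hXe t₀ ht₀X) ht₀W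
    rw [← hsup, hXc, pow_succ, mul_comm] at h
    exact (Nat.eq_of_mul_eq_mul_left hp.pos h).symm
  have hWe : ∀ x ∈ W, x ^ p = 1 := fun x hx => hXe x (hWX hx)
  obtain ⟨s₁, hs₁⟩ := exists_relIndex_eq_pow hQ (K0 Q X W) (fixer Q W)
  have hcomm : commutator Q ≤ frattini Q := (Cfsg.Agent.S0012.result p hQ).1
  have hsec : (secBot ht₀ X).relIndex (secTop ht₀) = p ^ s₁ := by
    rw [secBot_relIndex_secTop ht₀ hsup, hs₁]
  have hidx := index_fixer_sup (Q := Q) hX hWX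
  rw [hs₁] at hidx
  have hY : ∀ Y : Subgroup V, (∀ g : Q, (g • t₀) * t₀⁻¹ ∈ Y) → p ^ s₁ ≤ Nat.card Y := by
    intro Y hYm
    have hle : secTop ht₀ ≤ Y := by
      rintro _ ⟨k, rfl⟩
      exact hYm k.1
    calc p ^ s₁ = (secBot ht₀ X).relIndex (secTop ht₀) := hsec.symm
      _ ≤ Nat.card (secTop ht₀) :=
        Nat.le_of_dvd Nat.card_pos (Subgroup.relIndex_dvd_card _ _)
      _ ≤ Nat.card Y := Subgroup.card_le_of_le hle
  have hfin : ∀ t, (fixer Q W ⊔ frattini Q).index ≤ p ^ (t * (m - t)) →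
      (fixer Q X ⊔ frattini Q).index ≤ p ^ (t * (m - t) + s₁) := by
    intro t ht
    rw [hidx, pow_add, mul_comm]
    exact Nat.mul_le_mul_right _ ht
  rcases le_total s s₁ with hle | hle
  · obtain ⟨t, ht1, ht2, ht3⟩ := IH W (secTop ht₀) (secBot ht₀ X) s₁ hWe hWc hW
      (inv_secTop ht₀ hW) (inv_secBot ht₀ hX hW) (secBot_le_secTop ht₀) (secTop_le ht₀)
      (fun g => secTriv ht₀ hW hcomm g) hsec
    exact ⟨s₁, t, hle.trans ht1, ht1, ht2, hfin t ht3, hY⟩
  · obtain ⟨t, ht1, ht2, ht3⟩ := IH W U U₁ s hWe hWc hW hU hU₁ h1 h2 htriv hs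
    exact ⟨s₁, t, ht1, hle.trans ht1, ht2, hfin t ht3, hY⟩

theorem pow_exp_le_succ (p t m s₁ : ℕ) (hp : 0 < p) (h1 : s₁ ≤ t) (h2 : t ≤ m) :
    p ^ (t * (m - t) + s₁) ≤ p ^ (t * (m + 1 - t)) := by
  apply Nat.pow_le_pow_right hp
  have h3 : m + 1 - t = (m - t) + 1 := by omega
  rw [h3, Nat.mul_succ]
  omega

omit [Finite Q] [Finite V] in
theorem keyProp_zero : KeyProp (V := V) Q p 0 := by
  intro X U U₁ s _ hXc _ _ _ h1 h2 _ hs
  have hp : p.Prime := Fact.out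
  rw [pow_zero, Subgroup.card_eq_one] at hXc
  have hU : U = ⊥ := by rw [eq_bot_iff, ← hXc]; exact h2
  have hU₁ : U₁ = ⊥ := by rw [eq_bot_iff, ← hU]; exact h1
  have hs0 : s = 0 := by
    rw [hU, hU₁, Subgroup.relIndex_bot_left, Subgroup.card_bot] at hs
    by_contra hne
    have : 1 < p ^ s := Nat.one_lt_pow hne hp.one_lt
    omega
  refine ⟨0, by omega, le_rfl, ?_⟩
  rw [hXc, fixer_bot, top_sup_eq, Subgroup.index_top]
  simp

theorem keyProp_succ (hQ : IsPGroup p Q) (m : ℕ) (IH : KeyProp (V := V) Q p m) :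
    KeyProp (V := V) Q p (m + 1) := by
  intro X U U₁ s hXe hXc hX hU hU₁ h1 h2 htriv hs
  have hp : p.Prime := Fact.out
  have hXp : ∃ m, Nat.card X = p ^ m := ⟨_, hXc⟩
  have hXne : (⊥ : Subgroup V) < X := by
    rw [bot_lt_iff_ne_bot]
    intro h
    rw [h, Subgroup.card_bot] at hXc
    have : 1 < p ^ (m + 1) := Nat.one_lt_pow (by omega) hp.one_lt
    omega
  by_cases hUX : U = X
  · by_cases hs0 : s = 0
    · -- no information: use the trivial section `⊥ / ⊥`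
      obtain ⟨W, t₀, -, hWX, hW, ht₀X, ht₀W, ht₀, hsup⟩ :=
        exists_invariant_hyperplane hQ X ⊥ hXp hX inv_bot hXne
      obtain ⟨s₁, t, -, ht2, ht3, ht4, -⟩ := step hQ m IH X W t₀ hXe hXc hX hW hWX ht₀X ht₀W ht₀
        hsup ⊥ ⊥ 0 inv_bot inv_bot le_rfl bot_le
        (fun g u hu => by
          rw [Subgroup.mem_bot] at hu ⊢
          rw [hu, smul_one, inv_one, mul_one])
        (by rw [Subgroup.relIndex_bot_left, Subgroup.card_bot, pow_zero])
      exact ⟨t, by omega, by omega, ht4.trans (pow_exp_le_succ p t m s₁ hp.pos ht2 ht3)⟩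
    · -- the section sits at the top of `X`
      subst hUX
      have hs1 : 1 ≤ s := Nat.one_le_iff_ne_zero.mpr hs0
      have hU₁X : U₁ < U := by
        refine lt_of_le_of_ne h1 (fun h => ?_)
        rw [h, Subgroup.relIndex_self] at hs
        have : 1 < p ^ s := Nat.one_lt_pow hs0 hp.one_lt
        omega
      obtain ⟨W, t₀, hU₁W, hWX, hW, ht₀X, ht₀W, ht₀, hsup⟩ :=
        exists_invariant_hyperplane hQ U U₁ hXp hX hU₁ hU₁X
      -- cardinalities
      have hWc : p * Nat.card W = p ^ (m + 1) := by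
        have h := card_sup_zpowers (p := p) W (hXe t₀ ht₀X) ht₀W
        rw [← hsup, hXc] at h
        exact h.symm
      have hWrel : W.relIndex U = p := by
        have h3 := Subgroup.relIndex_mul_relIndex (⊥ : Subgroup V) W U bot_le hWX
        rw [Subgroup.relIndex_bot_left, Subgroup.relIndex_bot_left, hXc, ← hWc] at h3
        rw [mul_comm] at h3
        exact Nat.eq_of_mul_eq_mul_right Nat.card_pos h3
      have hU₁rel : U₁.relIndex W = p ^ (s - 1) := by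
        have h3 := Subgroup.relIndex_mul_relIndex U₁ W U hU₁W hWX
        rw [hWrel, hs] at h3
        have h4 : p ^ s = p ^ (s - 1) * p := by rw [← pow_succ]; congr 1; omega
        rw [h4] at h3
        exact Nat.eq_of_mul_eq_mul_right hp.pos h3
      obtain ⟨s₁, t, ht1, ht2, ht3, ht4, hY⟩ := step hQ m IH U W t₀ hXe hXc hX hW hWX ht₀X ht₀W
        ht₀ hsup W U₁ (s - 1) hW hU₁ hU₁W le_rfl (fun g u hu => htriv g u (hWX hu)) hU₁rel
      by_cases hts : s ≤ t
      · exact ⟨t, hts, by omega, ht4.trans (pow_exp_le_succ p t m s₁ hp.pos ht2 ht3)⟩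
      · have hteq : t = s - 1 := by omega
        have hsm : s ≤ m + 1 := by omega
        -- `|U₁| = p ^ (m + 1 - s)`
        have hU₁c : Nat.card U₁ = p ^ (m + 1 - s) := by
          have h3 := Subgroup.relIndex_mul_relIndex (⊥ : Subgroup V) U₁ U bot_le h1
          rw [Subgroup.relIndex_bot_left, Subgroup.relIndex_bot_left, hXc, hs] at h3
          have h4 : p ^ (m + 1) = p ^ (m + 1 - s) * p ^ s := by
            rw [← pow_add]; congr 1; omega
          rw [h4] at h3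
          exact Nat.eq_of_mul_eq_mul_right (pow_pos hp.pos s) h3
        have hs₁ : s₁ ≤ m + 1 - s := by
          have h5 := hY U₁ (fun g => htriv g t₀ ht₀X)
          rw [hU₁c] at h5
          exact (Nat.pow_le_pow_iff_right hp.one_lt).mp h5
        refine ⟨s, le_rfl, hsm, ht4.trans ?_⟩
        apply Nat.pow_le_pow_right hp.pos
        subst hteq
        have h6 : m - (s - 1) = m + 1 - s := by omega
        have h7 : s * (m + 1 - s) = (s - 1) * (m + 1 - s) + (m + 1 - s) := by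
          obtain ⟨a, rfl⟩ : ∃ a, s = a + 1 := ⟨s - 1, by omega⟩
          rw [Nat.add_sub_cancel, Nat.succ_mul]
        rw [h6, h7]
        omega
  · have hlt : U < X := lt_of_le_of_ne h2 hUX
    obtain ⟨W, t₀, hUW, hWX, hW, ht₀X, ht₀W, ht₀, hsup⟩ :=
      exists_invariant_hyperplane hQ X U hXp hX hU hlt
    obtain ⟨s₁, t, ht1, ht2, ht3, ht4, -⟩ := step hQ m IH X W t₀ hXe hXc hX hW hWX ht₀X ht₀W ht₀
      hsup U U₁ s hU hU₁ h1 hUW htriv hs
    exact ⟨t, ht1, by omega, ht4.trans (pow_exp_le_succ p t m s₁ hp.pos ht2 ht3)⟩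

theorem keyProp (hQ : IsPGroup p Q) : ∀ m, KeyProp (V := V) Q p m
  | 0 => keyProp_zero
  | m + 1 => keyProp_succ hQ m (keyProp hQ m)

/-- **Patterson–Laffey**: a finite `p`-group acting on an elementary abelian `p`-group `X` of
rank `m` induces on `X` a group needing at most `m ^ 2 / 4` generators. -/
theorem index_fixer_sup_frattini_le (hQ : IsPGroup p Q) (X : Subgroup V) (m : ℕ)
    (hXe : ∀ x ∈ X, x ^ p = 1) (hXc : Nat.card X = p ^ m) (hX : Inv Q X) :
    (fixer Q X ⊔ frattini Q).index ≤ p ^ (m ^ 2 / 4) := by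
  have hp : p.Prime := Fact.out
  obtain ⟨t, -, ht, hle⟩ := keyProp hQ m X ⊥ ⊥ 0 hXe hXc hX inv_bot inv_bot le_rfl bot_le
    (fun g u hu => by
      rw [Subgroup.mem_bot] at hu ⊢
      rw [hu, smul_one, inv_one, mul_one])
    (by rw [Subgroup.relIndex_bot_left, Subgroup.card_bot, pow_zero])
  refine hle.trans (Nat.pow_le_pow_right hp.pos ?_)
  rw [Nat.le_div_iff_mul_le (by norm_num)]
  obtain ⟨d, rfl⟩ := Nat.exists_eq_add_of_le ht
  rw [Nat.add_sub_cancel_left]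
  nlinarith [sq_nonneg ((t : ℤ) - d), sq_nonneg (t - d), Nat.zero_le (t * d)]

end Key

end Cfsg.Agent.Lib.Helper23.Laffey
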