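import Mathlib
import Cfsg.Agent.Lib.Helper1.Alperin
import Cfsg.Agent.S0012

/-! # `p`-central groups (`p` odd): `|D : Φ(D)| ≤ |Ω₁(D)|` (Thompson) -/

set_option autoImplicit false

namespace Cfsg.Agent.Lib.Helper23.Laffey

open Subgroup

universe u

/-- In a `p`-group (`p` odd) all of whose elements of order `p` are central, `x ^ p = y ^ p`
forces `(x⁻¹ * y) ^ p = 1`. -/
theorem pow_eq_pow_aux (p : ℕ) [hpf : Fact p.Prime] (hp2 : p ≠ 2) :
    ∀ (n : ℕ) (D : Type u) [Group D] [Finite D], Nat.card D = n → IsPGroup p D →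
      (∀ x : D, x ^ p = 1 → x ∈ Subgroup.center D) →
      ∀ x y : D, x ^ p = y ^ p → (x⁻¹ * y) ^ p = 1 := by
  have hp : p.Prime := hpf.out
  intro n
  induction n using Nat.strong_induction_on with
  | _ n IH =>
  intro D _ _ hn hD hcent x y hxy
  by_cases hcomm : Commute x y
  · rw [(hcomm.inv_left).mul_pow, inv_pow, hxy, inv_mul_cancel]
  by_cases hS : closure ({x, y} : Set D) = ⊤
  · -- `D = ⟨x, y⟩` is not cyclic
    have hny : zpowers y ≠ ⊤ := by
      intro h
      apply hcomm
      have hx : x ∈ zpowers y := h ▸ Subgroup.mem_top x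
      obtain ⟨k, rfl⟩ := Subgroup.mem_zpowers_iff.mp hx
      exact (Commute.refl y).zpow_left k
    obtain ⟨M, hM, hyM⟩ := (IsCoatomic.eq_top_or_exists_le_coatom (zpowers y)).resolve_left hny
    have : Group.IsNilpotent D := hD.isNilpotent
    have hMn : M.Normal :=
      NormalizerCondition.normal_of_coatom M Group.normalizerCondition_of_isNilpotent hM
    have hyM' : y ∈ M := hyM (mem_zpowers y)
    have hyxM : x⁻¹ * y * x ∈ M := by
      have := hMn.conj_mem y hyM' x⁻¹
      rwa [inv_inv] at this
    have hMlt : Nat.card M < n := by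
      rw [← hn]
      refine lt_of_le_of_ne (Subgroup.card_le_card_group M) (fun h => ?_)
      exact hM.1 ((Subgroup.card_eq_iff_eq_top M).mp h)
    have hMcent : ∀ z : M, z ^ p = 1 → z ∈ Subgroup.center M := by
      intro z hz
      have h1 : (z : D) ^ p = 1 := by
        have := congrArg Subtype.val hz
        simpa using this
      have h2 := hcent z.1 h1
      rw [Subgroup.mem_center_iff] at h2 ⊢
      intro g
      exact Subtype.ext (h2 g.1)
    have hpow : (⟨y, hyM'⟩ : M) ^ p = (⟨x⁻¹ * y * x, hyxM⟩ : M) ^ p := by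
      apply Subtype.ext
      have h1 : (x⁻¹ * y * x) ^ p = x⁻¹ * y ^ p * x := by
        have := conj_pow (i := p) (a := x⁻¹) (b := y)
        rwa [inv_inv] at this
      show y ^ p = (x⁻¹ * y * x) ^ p
      rw [h1, ← hxy, mul_assoc, ← pow_succ, pow_succ', inv_mul_cancel_left]
    have h3 := IH (Nat.card M) hMlt M rfl (hD.to_subgroup M) hMcent _ _ hpow
    -- the commutator `c` is central of order dividing `p`
    obtain ⟨c, hc⟩ : ∃ c, c = y⁻¹ * (x⁻¹ * y * x) := ⟨_, rfl⟩
    have hcp : c ^ p = 1 := by
      have := congrArg Subtype.val h3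
      rw [hc]
      simpa using this
    have hcc : c ∈ Subgroup.center D := hcent c hcp
    rw [Subgroup.mem_center_iff] at hcc
    have hcx : Commute c x := (hcc x).symm
    have hcy : Commute c y := (hcc y).symm
    have hz1 : Commute c⁻¹ x⁻¹ := hcx.inv_inv
    have hz2 : Commute c⁻¹ y := hcy.inv_left
    have e1 : x⁻¹ * y * x = y * c := by rw [hc]; group
    have e2 : x⁻¹ * y = y * x⁻¹ * c := by
      calc x⁻¹ * y = (x⁻¹ * y * x) * x⁻¹ := by group
        _ = y * c * x⁻¹ := by rw [e1]
        _ = y * (c * x⁻¹) := mul_assoc _ _ _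
        _ = y * (x⁻¹ * c) := by rw [(hcx.inv_right).eq]
        _ = y * x⁻¹ * c := (mul_assoc _ _ _).symm
    have hrel : y * x⁻¹ = x⁻¹ * y * c⁻¹ := by
      rw [e2, mul_inv_cancel_right]
    have hform := Cfsg.Agent.Lib.Helper1.mul_pow_of_commute_commutator hrel hz1 hz2 p
    rw [hform, inv_pow, hxy, inv_mul_cancel, one_mul]
    have hdvd : p ∣ p.choose 2 := hp.dvd_choose_self (by norm_num)
      (lt_of_le_of_ne hp.two_le (Ne.symm hp2))
    obtain ⟨j, hj⟩ := hdvd
    rw [hj, pow_mul, inv_pow, hcp, inv_one, one_pow]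
  · -- pass to the proper subgroup `⟨x, y⟩`
    obtain ⟨S, hSdef⟩ : ∃ S : Subgroup D, S = closure ({x, y} : Set D) := ⟨_, rfl⟩
    rw [← hSdef] at hS
    have hxS : x ∈ S := hSdef ▸ subset_closure (by simp)
    have hyS : y ∈ S := hSdef ▸ subset_closure (by simp)
    have hSlt : Nat.card S < n := by
      rw [← hn]
      refine lt_of_le_of_ne (Subgroup.card_le_card_group S) (fun h => ?_)
      exact hS ((Subgroup.card_eq_iff_eq_top S).mp h)
    have hScent : ∀ z : S, z ^ p = 1 → z ∈ Subgroup.center S := by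
      intro z hz
      have h1 : (z : D) ^ p = 1 := by
        have := congrArg Subtype.val hz
        simpa using this
      have h2 := hcent z.1 h1
      rw [Subgroup.mem_center_iff] at h2 ⊢
      intro g
      exact Subtype.ext (h2 g.1)
    have hpow : (⟨x, hxS⟩ : S) ^ p = (⟨y, hyS⟩ : S) ^ p := Subtype.ext hxy
    have h3 := IH (Nat.card S) hSlt S rfl (hD.to_subgroup S) hScent _ _ hpow
    have := congrArg Subtype.val h3
    simpa using this

/-- **Thompson** (Huppert III.12.2): if `p` is odd and every element of order `p` of the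
`p`-group `D` lies in the central subgroup `Ω`, then `|D : Φ(D)| ≤ |Ω|`. -/
theorem index_frattini_le_card {D : Type u} [Group D] [Finite D] {p : ℕ} [Fact p.Prime]
    (hp2 : p ≠ 2) (hD : IsPGroup p D) (Ω : Subgroup D) (hΩc : Ω ≤ Subgroup.center D)
    (hΩ : ∀ x : D, x ^ p = 1 → x ∈ Ω) : (frattini D).index ≤ Nat.card Ω := by
  classical
  have : Fintype D := Fintype.ofFinite D
  have hpowΦ : ∀ x : D, x ^ p ∈ frattini D := (Cfsg.Agent.S0012.result p hD).2
  have hkey : ∀ x y : D, x ^ p = y ^ p → x⁻¹ * y ∈ Ω := fun x y hxy =>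
    hΩ _ (pow_eq_pow_aux p hp2 _ D rfl hD (fun z hz => hΩc (hΩ z hz)) x y hxy)
  -- count the fibres of the `p`-power map
  have h1 := Finset.card_le_mul_card_image (f := fun x : D => x ^ p) (Finset.univ : Finset D)
    (Nat.card Ω) (by
      intro b hb
      obtain ⟨x, -, rfl⟩ := Finset.mem_image.mp hb
      have hinj : ({a ∈ (Finset.univ : Finset D) | a ^ p = x ^ p}).card
          ≤ ((Ω : Set D).toFinset).card := by
        apply Finset.card_le_card_of_injOn (fun y => x⁻¹ * y)
        · intro y hy
          simp only [Finset.coe_filter, Finset.mem_univ, true_and, Set.mem_ofPred_eq] at hy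
          simp only [Set.coe_toFinset, SetLike.mem_coe]
          exact hkey x y hy.symm
        · intro y _ z _ hyz
          exact mul_left_cancel hyz
      refine hinj.trans (le_of_eq ?_)
      rw [Set.toFinset_card, ← Nat.card_eq_fintype_card]
      rfl)
  have h2 : (Finset.image (fun x : D => x ^ p) Finset.univ).card ≤ Nat.card (frattini D) := by
    have : (Finset.image (fun x : D => x ^ p) Finset.univ).card
        ≤ ((frattini D : Set D).toFinset).card := by
      apply Finset.card_le_card
      intro b hb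
      obtain ⟨x, -, rfl⟩ := Finset.mem_image.mp hb
      simp only [Set.mem_toFinset, SetLike.mem_coe]
      exact hpowΦ x
    refine this.trans (le_of_eq ?_)
    rw [Set.toFinset_card, ← Nat.card_eq_fintype_card]
    rfl
  have h3 : Nat.card D ≤ Nat.card Ω * Nat.card (frattini D) := by
    rw [Nat.card_eq_fintype_card, ← Finset.card_univ]
    exact h1.trans (Nat.mul_le_mul_left _ h2)
  rw [← Subgroup.card_mul_index (frattini D), mul_comm] at h3
  exact Nat.le_of_mul_le_mul_right h3 Nat.card_pos

end Cfsg.Agent.Lib.Helper23.Laffey
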