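import Mathlib
import Cfsg.Agent.Lib.Helper23.LaffeyC
import Cfsg.Agent.Lib.Helper23.LaffeyD
import Cfsg.Agent.S0013

/-! # Laffey's bound: assembling the pieces -/

set_option autoImplicit false

namespace Cfsg.Agent.Lib.Helper23.Laffey

open Subgroup
open scoped commutatorElement

/-- an elementary abelian group generated by a finite set `S` has order `p ^ n`, `n ≤ |S|` -/
theorem card_eq_pow_of_closure {P : Type*} [Group P] [Finite P] {p : ℕ} [Fact p.Prime]
    (E : Subgroup P) (hEc : IsMulCommutative E) (hEe : ∀ e ∈ E, e ^ p = 1) (S : Finset P)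
    (hS : closure (S : Set P) = E) : ∃ n, n ≤ S.card ∧ Nat.card E = p ^ n := by
  have hp : p.Prime := Fact.out
  subst hS
  let _ : CommGroup ↥(closure (S : Set P)) :=
    { (inferInstance : Group ↥(closure (S : Set P))) with mul_comm := fun a b => mul_comm' a b }
  have h1 := card_dvd_exponent_pow_rank' ↥(closure (S : Set P)) (n := p)
    (fun g => Subtype.ext (by simpa using hEe g.1 g.2))
  obtain ⟨n, hn, hcard⟩ := (Nat.dvd_prime_pow hp).mp h1
  exact ⟨n, hn.trans (Subgroup.rank_closure_finset_le_card S), hcard⟩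

/-- the Frattini quotient of a subgroup `H`, given a normal elementary abelian subgroup `E`
of order `p ^ n` containing every element of order `p` of its centralizer -/
theorem index_frattini_le_of_normal_elemAb {P : Type*} [Group P] [Finite P] {p : ℕ}
    [Fact p.Prime] (hp2 : p ≠ 2) (hP : IsPGroup p P) (E : Subgroup P) [hEn : E.Normal]
    (hEc : IsMulCommutative E) (hEe : ∀ e ∈ E, e ^ p = 1) (n : ℕ) (hEcard : Nat.card E = p ^ n)
    (halp : ∀ x ∈ centralizer (E : Set P), x ^ p = 1 → x ∈ E) (H : Subgroup P) :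
    (frattini ↥H).index ≤ p ^ (n ^ 2 / 4 + n) := by
  classical
  have hp : p.Prime := Fact.out
  let _ : CommGroup ↥E :=
    { (inferInstance : Group ↥E) with mul_comm := fun a b => mul_comm' a b }
  let _ : MulDistribMulAction ↥H ↥E :=
    MulDistribMulAction.compHom ↥E ((MulAut.conjNormal (H := E)).comp H.subtype)
  have hsmul : ∀ (h : ↥H) (e : ↥E), ((h • e : ↥E) : P) = h.1 * e.1 * h.1⁻¹ := by
    intro h e
    show ((MulAut.conjNormal (h : P)) e : P) = _
    rw [MulAut.conjNormal_apply]
  have hH : IsPGroup p ↥H := hP.to_subgroup H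
  -- the bound for the induced group of automorphisms of `E`
  have h1 := index_fixer_sup_frattini_le (Q := ↥H) (V := ↥E) hH ⊤ n
    (fun x _ => Subtype.ext (by simpa using hEe x.1 x.2))
    (by rw [Subgroup.card_top, hEcard]) (fun g x _ => Subgroup.mem_top _)
  obtain ⟨F, hF⟩ : ∃ F : Subgroup ↥H, F = fixer ↥H (⊤ : Subgroup ↥E) := ⟨_, rfl⟩
  rw [← hF] at h1
  have hFmem : ∀ h : ↥H, h ∈ F → ∀ e ∈ E, h.1 * e = e * h.1 := by
    intro h hh e he
    rw [hF] at hh
    have h2 := hh ⟨e, he⟩ (Subgroup.mem_top _)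
    have h3 := congrArg Subtype.val h2
    rw [hsmul] at h3
    have h4 : h.1 * e * h.1⁻¹ = e := h3
    calc h.1 * e = (h.1 * e * h.1⁻¹) * h.1 := by group
      _ = e * h.1 := by rw [h4]
  -- the `p`-central group `F`
  have hFp : IsPGroup p ↥F := hH.to_subgroup F
  obtain ⟨Ω, hΩ⟩ : ∃ Ω : Subgroup ↥F, Ω = (E.subgroupOf H).subgroupOf F := ⟨_, rfl⟩
  have hΩmem : ∀ d : ↥F, d ∈ Ω ↔ d.1.1 ∈ E := by
    intro d
    rw [hΩ, Subgroup.mem_subgroupOf, Subgroup.mem_subgroupOf]
  have hΩc : Ω ≤ Subgroup.center ↥F := by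
    intro ω hω
    rw [Subgroup.mem_center_iff]
    intro d
    apply Subtype.ext
    apply Subtype.ext
    exact hFmem d.1 d.2 ω.1.1 ((hΩmem ω).mp hω)
  have hΩp : ∀ x : ↥F, x ^ p = 1 → x ∈ Ω := by
    intro x hx
    rw [hΩmem]
    apply halp
    · rw [Subgroup.mem_centralizer_iff]
      intro e he
      exact (hFmem x.1 x.2 e he).symm
    · have := congrArg (fun y : ↥F => y.1.1) hx
      simpa using this
  have h2 := index_frattini_le_card hp2 hFp Ω hΩc hΩp
  have hΩcard : Nat.card Ω ≤ p ^ n := by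
    rw [← hEcard]
    apply Nat.card_le_card_of_injective (fun ω : Ω => (⟨ω.1.1.1, (hΩmem ω.1).mp ω.2⟩ : ↥E))
    intro a b hab
    apply Subtype.ext
    apply Subtype.ext
    apply Subtype.ext
    have h5 := congrArg Subtype.val hab
    exact h5
  -- `Φ(F) ≤ Φ(H)`
  have hS12 := Cfsg.Agent.S0012.result p hH
  have hle : frattini ↥F ≤ (frattini ↥H).subgroupOf F := by
    apply Cfsg.Agent.S0013.result p hFp
    · rw [_root_.commutator_def, Subgroup.commutator_le]
      intro a _ b _
      rw [Subgroup.mem_subgroupOf]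
      apply hS12.1
      rw [_root_.commutator_def]
      exact Subgroup.commutator_mem_commutator (Subgroup.mem_top a.1) (Subgroup.mem_top b.1)
    · intro x
      rw [Subgroup.mem_subgroupOf]
      exact hS12.2 x.1
  have h3 : (frattini ↥H).relIndex F ≤ p ^ n := by
    have : (frattini ↥H).relIndex F ∣ (frattini ↥F).index := Subgroup.index_dvd_of_le hle
    exact (Nat.le_of_dvd (Nat.pos_of_ne_zero Subgroup.index_ne_zero_of_finite) this).trans
      (h2.trans hΩcard)
  have h4 : (frattini ↥H).index = (frattini ↥H).relIndex F * (F ⊔ frattini ↥H).index := by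
    rw [← Subgroup.relIndex_sup_right F (frattini ↥H)]
    exact (Subgroup.relIndex_mul_index le_sup_right).symm
  rw [h4, pow_add, mul_comm]
  exact Nat.mul_le_mul h1 h3

end Cfsg.Agent.Lib.Helper23.Laffey
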