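/-
helper23: S4017 leaf MIX-DIH `false_of_inverted` (planner helper26, notes/S4017_leaves.lean).
-/
import Mathlib
import Cfsg.Prelude.Def_Local
import Cfsg.Agent.Lib.Helper26.MixDefs

set_option autoImplicit false

namespace Cfsg.Agent.Lib.Helper23.MIXDIH

open Cfsg Cfsg.Agent.Lib.Helper26.Mix

universe u

variable {G : Type u} [Group G] [Finite G] {p a : ℕ} {Q : Subgroup G} {g : G}

/-- if `s` is an involution inverting `x`, every element of `⟨x⟩⟨s⟩` lies in `⟨x⟩` or squares to `1`. -/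
theorem mem_or_sq (x s : G) (hs2 : s * s = 1) (hinv : s * x * s⁻¹ = x⁻¹) (y : G)
    (hy : y ∈ Subgroup.zpowers x ⊔ Subgroup.zpowers s) :
    y ∈ Subgroup.zpowers x ∨ y * y = 1 := by
  have hsinv : s⁻¹ = s := inv_eq_of_mul_eq_one_left hs2
  have hconj : ∀ k : ℤ, s * x ^ k * s⁻¹ = (x ^ k)⁻¹ := by
    intro k
    have h1 : s * x ^ k * s⁻¹ = (s * x * s⁻¹) ^ k := by
      rw [conj_zpow]
    rw [h1, hinv, inv_zpow]
  have hsN : Subgroup.zpowers s ≤ Subgroup.normalizer (Subgroup.zpowers x : Set G) := by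
    rw [Subgroup.zpowers_le]
    rw [Subgroup.mem_normalizer_iff]
    intro h
    constructor
    · rintro ⟨k, rfl⟩
      rw [hconj k]
      exact inv_mem (Subgroup.zpow_mem_zpowers x k)
    · intro hh
      obtain ⟨k, hk⟩ := hh
      have hk' : x ^ k = s * h * s⁻¹ := hk
      have : h = s⁻¹ * (x ^ k) * s := by
        rw [hk']; group
      rw [this]
      have h2 : s⁻¹ * x ^ k * s = s * x ^ k * s⁻¹ := by rw [hsinv]
      rw [h2, hconj k]
      exact inv_mem (Subgroup.zpow_mem_zpowers x k)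
  have hset := Subgroup.coe_mul_of_right_le_normalizer_left (Subgroup.zpowers x)
    (Subgroup.zpowers s) hsN
  have hy' : y ∈ ((Subgroup.zpowers x ⊔ Subgroup.zpowers s : Subgroup G) : Set G) := hy
  rw [hset] at hy'
  obtain ⟨u, hu, v, hv, rfl⟩ := hy'
  obtain ⟨k, rfl⟩ := hu
  obtain ⟨j, rfl⟩ := hv
  -- s ^ j = 1 or s
  have hsj : s ^ j = 1 ∨ s ^ j = s := by
    have hs2' : s ^ (2 : ℤ) = 1 := by
      rw [zpow_two]; exact hs2
    rcases Int.emod_two_eq_zero_or_one j with h0 | h1
    · left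
      have : j = 2 * (j / 2) := by omega
      rw [this, zpow_mul, hs2', one_zpow]
    · right
      have : j = 2 * (j / 2) + 1 := by omega
      rw [this, zpow_add, zpow_mul, hs2', one_zpow, one_mul, zpow_one]
  rcases hsj with h | h
  · left
    simp only [h, mul_one]
    exact Subgroup.zpow_mem_zpowers x k
  · right
    simp only [h]
    have h3 : s * x ^ k = (x ^ k)⁻¹ * s := by
      have := hconj k
      calc s * x ^ k = (s * x ^ k * s⁻¹) * s := by group
        _ = (x ^ k)⁻¹ * s := by rw [this]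
    calc x ^ k * s * (x ^ k * s) = x ^ k * (s * x ^ k) * s := by group
      _ = x ^ k * ((x ^ k)⁻¹ * s) * s := by rw [h3]
      _ = s * s := by group
      _ = 1 := hs2

/-- DIH : an element of order `r` (third prime) inverted by an involution gives a subgroup of order `2r`,
violating hviol. -/
theorem false_of_inverted (c : Ctx G p a Q g) (r : ℕ) (hr : r.Prime) (hr2 : r ≠ 2) (hrp : r ≠ p)
    (x s : G) (hox : orderOf x = r) (hs1 : s ≠ 1) (hs2 : s * s = 1)
    (hinv : s * x * s⁻¹ = x⁻¹) : False := by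
  have : Fact p.Prime := ⟨c.hp⟩
  set H : Subgroup G := Subgroup.zpowers x ⊔ Subgroup.zpowers s with hH
  have hxH : x ∈ H := (le_sup_left : Subgroup.zpowers x ≤ H) (Subgroup.mem_zpowers x)
  have hsH : s ∈ H := (le_sup_right : Subgroup.zpowers s ≤ H) (Subgroup.mem_zpowers s)
  have hos : orderOf s = 2 := by
    apply orderOf_eq_prime
    · rw [pow_two]; exact hs2
    · exact hs1
  -- 2 ∣ |H|
  have h2H : 2 ∣ Nat.card H := by
    have h := Subgroup.orderOf_dvd_natCard H hsH
    rwa [hos] at h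
  -- H is not a 2-group
  have hnot : ¬ IsPGroup 2 H := by
    intro hP
    obtain ⟨k, hk⟩ := hP ⟨x, hxH⟩
    have hxk : x ^ 2 ^ k = 1 := by
      have := congrArg Subtype.val hk
      simpa using this
    have hdvd : r ∣ 2 ^ k := by
      rw [← hox]; exact orderOf_dvd_of_pow_eq_one hxk
    have : r ∣ 2 := hr.dvd_of_dvd_pow hdvd
    exact hr2 ((Nat.prime_dvd_prime_iff_eq hr Nat.prime_two).mp this)
  have hpH : p ∣ Nat.card H := c.hviol H h2H hnot
  obtain ⟨y, hy⟩ := exists_prime_orderOf_dvd_card' (G := H) p hpH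
  have hyG : orderOf (y : G) = p := by
    rw [Subgroup.orderOf_coe]; exact hy
  rcases mem_or_sq x s hs2 hinv (y : G) y.2 with h | h
  · -- y ∈ ⟨x⟩ : order divides r
    obtain ⟨k, hk⟩ := h
    have hd : orderOf (y : G) ∣ r := by
      rw [← hk, ← hox]
      exact orderOf_dvd_of_pow_eq_one (by
        rw [← zpow_natCast, ← zpow_mul, mul_comm, zpow_mul, zpow_natCast, pow_orderOf_eq_one,
          one_zpow])
    rw [hyG] at hd
    exact hrp ((Nat.prime_dvd_prime_iff_eq c.hp hr).mp hd).symm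
  · have hd : orderOf (y : G) ∣ 2 := orderOf_dvd_of_pow_eq_one (by rw [pow_two]; exact h)
    rw [hyG] at hd
    exact c.hp2 ((Nat.prime_dvd_prime_iff_eq c.hp Nat.prime_two).mp hd)

end Cfsg.Agent.Lib.Helper23.MIXDIH
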