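/-
helper23: S4017 leaf MIX-TI `core_TI` in `_of` form over CY (planner helper26, notes/S4017_leaves.lean).
-/
import Mathlib
import Cfsg.Prelude.Def_Local
import Cfsg.Agent.Lib.Helper26.MixDefs
import Cfsg.Agent.Lib.Helper2.MIXCORELE

set_option autoImplicit false

namespace Cfsg.Agent.Lib.Helper23.MIXTIOf

open Cfsg Cfsg.Agent.Lib.Helper26.Mix

universe u

variable {G : Type u} [Group G] [Finite G] {p a : ℕ} {Q : Subgroup G} {g : G}

/-- elements of `θ t <t>` are `w` or `w t`, `w ∈ θ t` (`t` an involution). -/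
theorem mem_sup_cases (t : G) (ht2 : t * t = 1) (k : G)
    (hk : k ∈ centralizerPPrimeCore 2 t ⊔ Subgroup.zpowers t) :
    ∃ w ∈ centralizerPPrimeCore 2 t, k = w ∨ k = w * t := by
  obtain ⟨hle, hnorm, -⟩ := Cfsg.Agent.Lib.Helper2.MIXCORELE.core_basic t
  have htC : t ∈ Subgroup.centralizer ({t} : Set G) := by
    rw [Subgroup.mem_centralizer_iff]
    intro y hy
    rw [Set.mem_singleton_iff] at hy
    subst hy
    rfl
  have htinv : t⁻¹ = t := inv_eq_of_mul_eq_one_left ht2
  have hsN : Subgroup.zpowers t ≤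
      Subgroup.normalizer ((centralizerPPrimeCore 2 t : Subgroup G) : Set G) := by
    rw [Subgroup.zpowers_le, Subgroup.mem_normalizer_iff]
    intro h
    constructor
    · intro hh
      exact hnorm t htC h hh
    · intro hh
      have h1 := hnorm t htC _ hh
      have h2 : t * (t * h * t⁻¹) * t⁻¹ = h := by
        calc t * (t * h * t⁻¹) * t⁻¹ = (t * t) * h * (t * t)⁻¹ := by group
          _ = h := by rw [ht2]; group
      rwa [h2] at h1
  have hset := Subgroup.coe_mul_of_right_le_normalizer_left (centralizerPPrimeCore 2 t)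
    (Subgroup.zpowers t) hsN
  have hk' : k ∈ ((centralizerPPrimeCore 2 t ⊔ Subgroup.zpowers t : Subgroup G) : Set G) := hk
  rw [hset] at hk'
  obtain ⟨w, hw, v, hv, rfl⟩ := hk'
  obtain ⟨j, rfl⟩ := hv
  refine ⟨w, hw, ?_⟩
  have ht2' : t ^ (2 : ℤ) = 1 := by rw [zpow_two]; exact ht2
  rcases Int.emod_two_eq_zero_or_one j with h0 | h1
  · left
    have : j = 2 * (j / 2) := by omega
    show w * t ^ j = w
    rw [this, zpow_mul, ht2', one_zpow, mul_one]
  · right
    have : j = 2 * (j / 2) + 1 := by omega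
    show w * t ^ j = w * t
    rw [this, zpow_add, zpow_mul, ht2', one_zpow, one_mul, zpow_one]

theorem pow_odd_of_sq (t : G) (ht2 : t * t = 1) (m : ℕ) (hm : Odd m) : t ^ m = t := by
  obtain ⟨j, rfl⟩ := hm
  rw [pow_succ, pow_mul, pow_two, ht2, one_pow, one_mul]

theorem eq_one_of_sq_of_pow_odd (w : G) (hw2 : w * w = 1) (m : ℕ) (hm : Odd m) (hwm : w ^ m = 1) :
    w = 1 := by
  rw [pow_odd_of_sq w hw2 m hm] at hwm
  exact hwm

theorem pow_card_core (t w : G) (hw : w ∈ centralizerPPrimeCore 2 t) :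
    w ^ Nat.card ↥(centralizerPPrimeCore 2 t) = 1 := by
  have h1 : (⟨w, hw⟩ : ↥(centralizerPPrimeCore 2 t)) ^ Nat.card ↥(centralizerPPrimeCore 2 t) = 1 :=
    pow_card_eq_one'
  have h2 := congrArg Subtype.val h1
  rw [Subgroup.coe_pow, Subgroup.coe_one] at h2
  exact h2

theorem comm_core (t w : G) (hw : w ∈ centralizerPPrimeCore 2 t) : w * t = t * w := by
  obtain ⟨hle, -, -⟩ := Cfsg.Agent.Lib.Helper2.MIXCORELE.core_basic t
  have := Subgroup.mem_centralizer_iff.mp (hle hw) t (Set.mem_singleton t)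
  exact this.symm

theorem pow_card_mul (t : G) (ht2 : t * t = 1) (w : G) (hw : w ∈ centralizerPPrimeCore 2 t) :
    (w * t) ^ Nat.card ↥(centralizerPPrimeCore 2 t) = t := by
  obtain ⟨-, -, hodd⟩ := Cfsg.Agent.Lib.Helper2.MIXCORELE.core_basic t
  have hc : Commute w t := comm_core t w hw
  rw [hc.mul_pow, pow_card_core t w hw, one_mul, pow_odd_of_sq t ht2 _ hodd]

/-- TI in `_of` form: `K = θ t <t>` meets its conjugates by elements outside `C_G(t)` trivially, given CY for `t`. -/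
theorem core_TI_of (t : G) (ht1 : t ≠ 1) (ht2 : t * t = 1)
    (hcy : ∀ y ∈ centralizerPPrimeCore 2 t, y ≠ 1 → ∀ x' : G, x' * y = y * x' →
      x' ∈ centralizerPPrimeCore 2 t ⊔ Subgroup.zpowers t)
    (x : G) (hx : x ∉ Subgroup.centralizer ({t} : Set G)) :
    (centralizerPPrimeCore 2 t ⊔ Subgroup.zpowers t) ⊓
      (centralizerPPrimeCore 2 t ⊔ Subgroup.zpowers t).map (MulAut.conj x).toMonoidHom = ⊥ := by
  obtain ⟨hle, hnorm, hodd⟩ := Cfsg.Agent.Lib.Helper2.MIXCORELE.core_basic t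
  set m := Nat.card ↥(centralizerPPrimeCore 2 t) with hm
  have hxt : x * t * x⁻¹ ≠ t := by
    intro h
    apply hx
    rw [Subgroup.mem_centralizer_iff]
    intro y hy
    rw [Set.mem_singleton_iff] at hy
    subst hy
    calc y * x = (x * y * x⁻¹) * x := by rw [h]
      _ = x * y := by group
  have hconj1 : x * t * x⁻¹ ≠ 1 := by
    intro h
    apply ht1
    have : t = x⁻¹ * (x * t * x⁻¹) * x := by group
    rw [this, h]; group
  rw [Subgroup.eq_bot_iff_forall]
  intro k hk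
  obtain ⟨hk1, hk2⟩ := hk
  have hk2' : k ∈ (centralizerPPrimeCore 2 t ⊔ Subgroup.zpowers t).map
      (MulAut.conj x).toMonoidHom := hk2
  rw [Subgroup.mem_map] at hk2'
  obtain ⟨k0, hk0, hk0k⟩ := hk2'
  have hk0k' : x * k0 * x⁻¹ = k := hk0k
  obtain ⟨w, hw, hkw⟩ := mem_sup_cases t ht2 k hk1
  obtain ⟨w0, hw0, hkw0⟩ := mem_sup_cases t ht2 k0 hk0
  have hpowconj : k ^ m = x * k0 ^ m * x⁻¹ := by
    rw [← hk0k', conj_pow]
  by_contra hkne
  rcases hkw with hkw | hkw <;> rcases hkw0 with hkw0 | hkw0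
  · -- k = w, k0 = w0
    have hkmem : k ∈ centralizerPPrimeCore 2 t := hkw ▸ hw
    have hcomm : (x * t * x⁻¹) * k = k * (x * t * x⁻¹) := by
      rw [← hk0k', hkw0]
      have := comm_core t w0 hw0
      calc x * t * x⁻¹ * (x * w0 * x⁻¹) = x * (t * w0) * x⁻¹ := by group
        _ = x * (w0 * t) * x⁻¹ := by rw [this]
        _ = x * w0 * x⁻¹ * (x * t * x⁻¹) := by group
    have hmem := hcy k hkmem hkne _ hcomm
    obtain ⟨w1, hw1, h1⟩ := mem_sup_cases t ht2 _ hmem
    have hsq : (x * t * x⁻¹) * (x * t * x⁻¹) = 1 := by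
      calc (x * t * x⁻¹) * (x * t * x⁻¹) = x * (t * t) * x⁻¹ := by group
        _ = 1 := by rw [ht2]; group
    rcases h1 with h1 | h1
    · rw [h1] at hsq
      have := eq_one_of_sq_of_pow_odd w1 hsq m hodd (pow_card_core t w1 hw1)
      exact hconj1 (h1.trans this)
    · have hc : Commute w1 t := comm_core t w1 hw1
      have hsq' : w1 * w1 = 1 := by
        have h2 : (w1 * t) * (w1 * t) = 1 := by rw [← h1]; exact hsq
        calc w1 * w1 = (w1 * w1) * (t * t) := by rw [ht2, mul_one]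
          _ = (w1 * t) * (w1 * t) := (hc.mul_mul_mul_comm w1 t).symm ▸ rfl
          _ = 1 := h2
      have hw11 := eq_one_of_sq_of_pow_odd w1 hsq' m hodd (pow_card_core t w1 hw1)
      rw [hw11, one_mul] at h1
      exact hxt h1
  · -- k = w, k0 = w0 * t
    have h1 : k ^ m = 1 := by rw [hkw]; exact pow_card_core t w hw
    rw [hpowconj, hkw0, pow_card_mul t ht2 w0 hw0] at h1
    exact hconj1 h1
  · -- k = w * t, k0 = w0
    have h1 : k ^ m = t := by rw [hkw]; exact pow_card_mul t ht2 w hw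
    rw [hpowconj, hkw0, pow_card_core t w0 hw0] at h1
    apply ht1
    rw [← h1]; group
  · -- k = w * t, k0 = w0 * t
    have h1 : k ^ m = t := by rw [hkw]; exact pow_card_mul t ht2 w hw
    rw [hpowconj, hkw0, pow_card_mul t ht2 w0 hw0] at h1
    exact hxt h1

end Cfsg.Agent.Lib.Helper23.MIXTIOf
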