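/-
helper23: S4017 leaf MIX-TI `core_TI` EXACT (planner helper26, notes/S4017_leaves.lean)
= `MIXTIOf.core_TI_of` over helper9's MIX-CY.  `P0Triv G Q` is stated unfolded (definitionally equal).
-/
import Mathlib
import Cfsg.Prelude.Def_Local
import Cfsg.Agent.Lib.Helper26.MixDefs
import Cfsg.Agent.Lib.Helper9.MIXCY
import Cfsg.Agent.Lib.Helper23.MIXTIOf

set_option autoImplicit false

namespace Cfsg.Agent.Lib.Helper23.MIXTI

open Cfsg Cfsg.Agent.Lib.Helper26.Mix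

universe u

variable {G : Type u} [Group G] [Finite G] {p a : ℕ} {Q : Subgroup G} {g : G}

/-- TI : `K = θ t <t>` meets its conjugates by elements outside `C_G(t)` trivially. -/
theorem core_TI (c : Ctx G p a Q g) (hsimple : Simple G) (ha2 : a = 2)
    (h0 : ∀ t ∈ Q, t ≠ 1 → ∀ z ∈ centralizerPPrimeCore 2 t, (∀ u ∈ Q, z * u = u * z) → z = 1)
    (t : G) (ht : t ∈ Q) (ht1 : t ≠ 1) (x : G) (hx : x ∉ Subgroup.centralizer ({t} : Set G)) :
    (centralizerPPrimeCore 2 t ⊔ Subgroup.zpowers t) ⊓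
      (centralizerPPrimeCore 2 t ⊔ Subgroup.zpowers t).map (MulAut.conj x).toMonoidHom = ⊥ :=
  Cfsg.Agent.Lib.Helper23.MIXTIOf.core_TI_of t ht1 (c.hQexp t ht)
    (fun y hy hy1 x' hxy =>
      Cfsg.Agent.Lib.Helper9.MIXCY.centralizer_of_mem_core c hsimple ha2 h0 t ht ht1 y hy hy1 x' hxy)
    x hx

end Cfsg.Agent.Lib.Helper23.MIXTI
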