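/-
helper23: the symmetric integer expansion of the scaled contributions of the subsections `(w^k, e)`:
`p^d μ^{(w^k)}_{χψ} = ∑_{ζ ζ'} A(ζ, ζ') ε(ζ, ζ')^k`, `A = resMult χ ζ * resMult ψ ζ' * nMat p e ζ ζ'` an
integer matrix (symmetric for `χ = ψ`), `ε(ζ, ζ') = λ_ζ(w) conj λ_ζ'(w)` roots of unity with
`ε(ζ', ζ) = conj ε(ζ, ζ')`, `ε(ζ, ζ) = 1`; for `p = 2` the Galois trace `∑_σ 2^d μ^{(w^{k_σ})}_{χψ}` is
`|Gal| ∑ A rVal ε`.
-/
import Mathlib
import Cfsg.Agent.Lib.Helper27.MajSubDefs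
import Cfsg.Agent.Lib.Helper23.SubsecG

set_option autoImplicit false
set_option linter.unusedSectionVars false

namespace Cfsg.Agent.Lib.Helper23.MajSubT

open Cfsg Cfsg.Agent.CharLib Cfsg.Agent.Lib.Helper24 Cfsg.Agent.Lib.Helper6 Cfsg.Agent.Lib.Helper23
open Cfsg.Agent.Lib.Helper23.Subsec Cfsg.Agent.Lib.Helper27.MajSub
open scoped ComplexConjugate

universe u w

section expansion

variable {G : Type u} [Group G] [Fintype G] {M : Ideal AlgInt} {p : ℕ} [hpp : Fact p.Prime]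

/-- The integer coefficients of the expansion. -/
noncomputable def expA (p : ℕ) [Fact p.Prime] (C : Subgroup G) [Fintype C]
    [Fintype (IrrCharacter C)] (e : Set (IrrCharacter C)) (χ ψ : IrrCharacter G)
    (ζ ζ' : IrrCharacter C) : ℤ :=
  (resMult C χ ζ : ℤ) * (resMult C ψ ζ' : ℤ) * nMat p e ζ ζ'

/-- The roots of unity of the expansion. -/
noncomputable def expEps (C : Subgroup G) [Fintype C] (w : Subgroup.center C)
    (ζ ζ' : IrrCharacter C) : ℂ :=
  centHom C ζ w * conj (centHom C ζ' w)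

theorem nMat_symm' {C : Type u} [Group C] [Fintype C] (e : Set (IrrCharacter C))
    (ζ ζ' : IrrCharacter C) : nMat p e ζ ζ' = nMat p e ζ' ζ := by
  classical
  unfold nMat
  by_cases h : ζ ∈ e ∧ ζ' ∈ e
  · rw [if_pos h, if_pos ⟨h.2, h.1⟩, tildeInt_symm]
  · have hn : ¬ (ζ' ∈ e ∧ ζ ∈ e) := fun h' => h ⟨h'.2, h'.1⟩
    rw [if_neg h, if_neg hn]

theorem expA_symm (C : Subgroup G) [Fintype C] [Fintype (IrrCharacter C)]
    (e : Set (IrrCharacter C)) (χ : IrrCharacter G) (ζ ζ' : IrrCharacter C) :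
    expA p C e χ χ ζ ζ' = expA p C e χ χ ζ' ζ := by
  unfold expA
  rw [nMat_symm' e ζ ζ']
  ring

theorem expA_swap (C : Subgroup G) [Fintype C] [Fintype (IrrCharacter C)]
    (e : Set (IrrCharacter C)) (χ ψ : IrrCharacter G) (ζ ζ' : IrrCharacter C) :
    expA p C e χ ψ ζ ζ' = expA p C e ψ χ ζ' ζ := by
  unfold expA
  rw [nMat_symm' e ζ ζ']
  ring

theorem expEps_conj (C : Subgroup G) [Fintype C] (w : Subgroup.center C) (ζ ζ' : IrrCharacter C) :
    expEps C w ζ' ζ = conj (expEps C w ζ ζ') := by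
  unfold expEps
  rw [map_mul, Complex.conj_conj, mul_comm]

theorem expEps_diag (C : Subgroup G) [Fintype C] (w : Subgroup.center C) (ζ : IrrCharacter C) :
    expEps C w ζ ζ = 1 := by
  unfold expEps
  rw [Complex.mul_conj, Complex.normSq_eq_norm_sq, centHom_norm]
  norm_num

theorem expEps_pow_eq_one (C : Subgroup G) [Fintype C] (w : Subgroup.center C) {n : ℕ}
    (hwn : w ^ n = 1) (ζ ζ' : IrrCharacter C) : expEps C w ζ ζ' ^ n = 1 := by
  unfold expEps
  rw [mul_pow, ← map_pow, ← map_pow, ← map_pow, hwn, map_one, map_one, one_mul, map_one]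

theorem expEps_pow (C : Subgroup G) [Fintype C] (w : Subgroup.center C) (k : ℕ)
    (ζ ζ' : IrrCharacter C) : expEps C (w ^ k) ζ ζ' = expEps C w ζ ζ' ^ k := by
  unfold expEps
  rw [map_pow, map_pow, mul_pow, map_pow]

/-- On `e × e`, `p^minVal * nMat = tildeInt`. -/
theorem nMat_cast (hM : IsPModular p M) {C : Type u} [Group C] [Fintype C]
    (e : Set (IrrCharacter C)) {ζ ζ' : IrrCharacter C} (hζ : ζ ∈ e) (hζ' : ζ' ∈ e) :
    (nMat p e ζ ζ' : ℂ) = (tildeInt p ζ ζ' : ℂ) / (p : ℂ) ^ minVal p e := by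
  classical
  have hp : p.Prime := hpp.out
  have hp0 : ((p : ℂ) ^ minVal p e) ≠ 0 := pow_ne_zero _ (Nat.cast_ne_zero.mpr hp.ne_zero)
  have h1 : (p : ℤ) ^ minVal p e ∣ tildeInt p ζ ζ' :=
    dvd_trans (pow_dvd_pow _ (minVal_le hζ')) (pow_dvd_tildeInt hM ζ ζ')
  obtain ⟨t, ht⟩ := h1
  unfold nMat
  rw [if_pos ⟨hζ, hζ'⟩, ht,
    Int.mul_ediv_cancel_left _ (pow_ne_zero _ (by exact_mod_cast hp.ne_zero))]
  push_cast
  field_simp

/-- **The expansion** of the scaled contributions. -/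
theorem contrib_expansion (hM : IsPModular p M) (C : Subgroup G) [Fintype C]
    [Fintype (IrrCharacter C)] (e : Set (IrrCharacter C)) (he : IsPBlock M e)
    (w : Subgroup.center C) (χ ψ : IrrCharacter G) :
    (p : ℂ) ^ blockDefect p e * contrib p C e (((w : C) : G)) χ ψ =
      ∑ ζ : IrrCharacter C, ∑ ζ' : IrrCharacter C,
        (expA p C e χ ψ ζ ζ' : ℂ) * expEps C w ζ ζ' := by
  classical
  have hprime : M.IsPrime := isPrime_of_isPModular hM
  have hp : p.Prime := hpp.out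
  have hp0 : (p : ℂ) ≠ 0 := Nat.cast_ne_zero.mpr hp.ne_zero
  have hne : e.Nonempty := by
    obtain ⟨χ₁, h⟩ := he
    exact ⟨χ₁, by rw [h]; exact mem_blockOf_self χ₁⟩
  set m := minVal p e with hm
  set a := (Nat.card C).factorization p with ha
  have hma : m ≤ a := minVal_le_factorization_card hne
  have hq : blockDefect p e = a - m := blockDefect_eq e
  have hpm0 : ((p : ℂ) ^ m) ≠ 0 := pow_ne_zero _ hp0
  have hpq : ((p : ℂ) ^ blockDefect p e) / ((p ^ a : ℕ) : ℂ) = 1 / ((p : ℂ) ^ m) := by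
    have hpa : ((p ^ a : ℕ) : ℂ) = (p : ℂ) ^ (a - m) * (p : ℂ) ^ m := by
      rw [← pow_add, Nat.sub_add_cancel hma]; push_cast; ring
    rw [hq, hpa]
    have : ((p : ℂ) ^ (a - m)) ≠ 0 := pow_ne_zero _ hp0
    field_simp
  rw [contrib_eq, ← ha]
  rw [show ((p : ℂ) ^ blockDefect p e) * ((∑ ζ : IrrCharacter C, ∑ ζ' : IrrCharacter C,
      decCoeff C e w χ ζ * conj (decCoeff C e w ψ ζ') * (tildeInt p ζ ζ' : ℂ)) /
      ((p ^ a : ℕ) : ℂ)) =
    (((p : ℂ) ^ blockDefect p e) / ((p ^ a : ℕ) : ℂ)) * (∑ ζ : IrrCharacter C,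
      ∑ ζ' : IrrCharacter C,
      decCoeff C e w χ ζ * conj (decCoeff C e w ψ ζ') * (tildeInt p ζ ζ' : ℂ)) by ring]
  rw [hpq, Finset.mul_sum]
  apply Finset.sum_congr rfl
  intro ζ _
  rw [Finset.mul_sum]
  apply Finset.sum_congr rfl
  intro ζ' _
  unfold decCoeff expA expEps
  by_cases hζ : ζ ∈ e
  · by_cases hζ' : ζ' ∈ e
    · rw [if_pos hζ, if_pos hζ']
      push_cast
      rw [nMat_cast hM e hζ hζ', map_mul, Complex.conj_natCast, ← hm]
      field_simp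
    · have hn : ¬ (ζ ∈ e ∧ ζ' ∈ e) := fun h => hζ' h.2
      have h0 : nMat p e ζ ζ' = 0 := by unfold nMat; rw [if_neg hn]
      rw [if_neg hζ', h0]
      simp
  · have hn : ¬ (ζ ∈ e ∧ ζ' ∈ e) := fun h => hζ h.1
    have h0 : nMat p e ζ ζ' = 0 := by unfold nMat; rw [if_neg hn]
    rw [if_neg hζ, h0]
    simp

/-- The expansion for the powers of `w`. -/
theorem contrib_expansion_pow (hM : IsPModular p M) (C : Subgroup G) [Fintype C]
    [Fintype (IrrCharacter C)] (e : Set (IrrCharacter C)) (he : IsPBlock M e)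
    (w : Subgroup.center C) (χ ψ : IrrCharacter G) (k : ℕ) :
    (p : ℂ) ^ blockDefect p e * contrib p C e ((((w ^ k : Subgroup.center C) : C) : G)) χ ψ =
      ∑ ζ : IrrCharacter C, ∑ ζ' : IrrCharacter C,
        (expA p C e χ ψ ζ ζ' : ℂ) * expEps C w ζ ζ' ^ k := by
  rw [contrib_expansion hM C e he (w ^ k) χ ψ]
  apply Finset.sum_congr rfl
  intro ζ _
  apply Finset.sum_congr rfl
  intro ζ' _
  rw [expEps_pow]

end expansion

section trace2

variable {G : Type u} [Group G] [Fintype G] {M : Ideal AlgInt}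

/-- The integer `T = ∑ A rVal ε` (`p = 2`). -/
noncomputable def traceInt (C : Subgroup G) [Fintype C] [Fintype (IrrCharacter C)]
    (e : Set (IrrCharacter C)) (w : Subgroup.center C) (χ ψ : IrrCharacter G) : ℤ :=
  ∑ ζ : IrrCharacter C, ∑ ζ' : IrrCharacter C, expA 2 C e χ ψ ζ ζ' * rVal (expEps C w ζ ζ')

/-- **Galois trace** of the scaled contributions for `p = 2`. -/
theorem sum_gal_contrib_eq (hM : IsPModular 2 M) (N : ℕ) [NeZero N] (K : Type w) [Field K]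
    [Algebra ℚ K] [IsCyclotomicExtension {N} ℚ K] [Fintype (K ≃ₐ[ℚ] K)]
    (C : Subgroup G) [Fintype C] [Fintype (IrrCharacter C)] (e : Set (IrrCharacter C))
    (he : IsPBlock M e) (w : Subgroup.center C) (hwN : w ^ N = 1)
    (hw2 : ∃ j : ℕ, w ^ (2 ^ j) = 1) (χ ψ : IrrCharacter G) :
    ∑ σ : K ≃ₐ[ℚ] K, ((2 : ℕ) : ℂ) ^ blockDefect 2 e *
        contrib 2 C e ((((w ^ galExp N K σ : Subgroup.center C) : C) : G)) χ ψ =
      (Fintype.card (K ≃ₐ[ℚ] K) : ℂ) * (traceInt C e w χ ψ : ℂ) := by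
  have hformula := fun k : ℕ => contrib_expansion_pow hM C e he w χ ψ k
  simp_rw [hformula]
  rw [Finset.sum_comm]
  simp_rw [Finset.sum_comm (s := (Finset.univ : Finset (K ≃ₐ[ℚ] K)))]
  simp_rw [← Finset.mul_sum]
  have hR : ∀ ζ ζ' : IrrCharacter C, ∑ σ : K ≃ₐ[ℚ] K, expEps C w ζ ζ' ^ galExp N K σ =
      (Fintype.card (K ≃ₐ[ℚ] K) : ℂ) * (rVal (expEps C w ζ ζ') : ℂ) := by
    intro ζ ζ'
    obtain ⟨j, hj⟩ := hw2
    rw [sum_gal_eq_sum_units N K (fun k => expEps C w ζ ζ' ^ k), card_gal_eq_card_units N K]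
    exact sum_units_pow_two N (expEps C w ζ ζ') (expEps_pow_eq_one C w hwN ζ ζ')
      ⟨j, expEps_pow_eq_one C w hj ζ ζ'⟩
  simp_rw [hR]
  unfold traceInt
  push_cast
  rw [Finset.mul_sum]
  apply Finset.sum_congr rfl
  intro ζ _
  rw [Finset.mul_sum]
  apply Finset.sum_congr rfl
  intro ζ' _
  ring

end trace2

end Cfsg.Agent.Lib.Helper23.MajSubT
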