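import Mathlib
import Cfsg.Prelude.Def_Solvable
import Cfsg.Agent.Lib.Helper26.McLDefs
import Cfsg.Agent.Lib.Helper26.McLBasic
import Cfsg.Agent.Lib.Helper26.McLMore

/-!
S5075 (helper26's market), leaf CN `exists_common_nbr`: any two centres have a common neighbour.
-/

set_option autoImplicit false
set_option linter.unusedSectionVars false
set_option linter.unusedVariables false

namespace Cfsg.Agent.Lib.Helper23.McLLeaf
open Module Cfsg.Agent.Lib.Helper26.McL

universe u
variable {p : ℕ} [Fact p.Prime] {V : Type u} [AddCommGroup V] [Module (ZMod p) V]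
variable {K : Subgroup (V ≃ₗ[ZMod p] V)}

/-- the shortcut: a path `v - u - x - y` of centres can be replaced by `v - q - y` -/
lemma exists_shortcut (hG : Geo K) {v u x y : V} (hv : IsCtr K v) (hu : IsCtr K u) (hx : IsCtr K x)
    (hy : IsCtr K y) (huv : Arr K u v) (hux : Arr K u x) (hxy : Arr K x y) :
    ∃ q, IsCtr K q ∧ Arr K q v ∧ Arr K q y := by
  by_cases h1 : Arr K v x
  · exact ⟨x, hx, hG.symm v x hv hx h1, hxy⟩
  by_cases h2 : Arr K u y
  · exact ⟨u, hu, huv, h2⟩
  -- `q = u + x`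
  have hxu : Arr K x u := hG.symm u x hu hx hux
  have hq : IsCtr K (u + (1 : ZMod p) • x) := isCtr_add_smul hxu hu 1
  rw [one_smul] at hq
  have hvu : Arr K v u := hG.symm u v hu hv huv
  have hyx : Arr K y x := hG.symm x y hx hy hxy
  have h2' : ¬ Arr K y u := fun h => h2 (hG.symm y u hy hu h)
  refine ⟨u + x, hq, ?_, ?_⟩
  · apply hG.symm v (u + x) hv hq
    obtain ⟨φ, hφ, hφu⟩ := hvu
    refine ⟨φ, hφ, ?_⟩
    rw [map_add, (not_arr_iff.mp h1) φ hφ, add_zero]
    exact hφu
  · apply hG.symm y (u + x) hy hq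
    obtain ⟨ψ, hψ, hψx⟩ := hyx
    refine ⟨ψ, hψ, ?_⟩
    rw [map_add, (not_arr_iff.mp h2') ψ hψ, zero_add]
    exact hψx

/-- **CN**.  Any two centres (also equal or proportional ones) have a common neighbour. -/
theorem exists_common_nbr (hG : Geo K) {v w : V} (hv : IsCtr K v) (hw : IsCtr K w) :
    ∃ u, IsCtr K u ∧ Arr K u v ∧ Arr K u w := by
  have hpath := hG.conn v w hv hw
  induction hpath with
  | refl =>
    obtain ⟨hv0, φ, hφ, hφ0⟩ := isCtr_iff.mp hv
    obtain ⟨u, hu, hφu⟩ := hG.noN v hv0 φ hφ hφ0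
    have huv : Arr K u v := hG.symm v u hv hu ⟨φ, hφ, hφu⟩
    exact ⟨u, hu, huv, huv⟩
  | tail hab hbc ih =>
    rename_i x y
    obtain ⟨hx, hy, hxy⟩ := hbc
    obtain ⟨u, hu, huv, hux⟩ := ih hx
    exact exists_shortcut hG hv hu hx hy huv hux hxy

end Cfsg.Agent.Lib.Helper23.McLLeaf
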