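import Mathlib
import Cfsg.Prelude.Def_Solvable
import Cfsg.Agent.Lib.Helper26.McLDefs
import Cfsg.Agent.Lib.Helper26.McLBasic
import Cfsg.Agent.Lib.Helper26.McLMore

/-!
S5075 (helper26's market), leaf F4 `arr_symm_and_finrank`: symmetry of the arrow relation and constancy of
`d = dim Phi K v`.
-/

set_option autoImplicit false
set_option linter.unusedSectionVars false
set_option linter.unusedVariables false

namespace Cfsg.Agent.Lib.Helper23.McLLeaf
open Module Cfsg.Agent.Lib.Helper26.McL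

universe u
variable {p : ℕ} [Fact p.Prime] {V : Type u} [AddCommGroup V] [Module (ZMod p) V]
variable {K : Subgroup (V ≃ₗ[ZMod p] V)}

/-- (i)+(ii): from a centre `v` with minimal `dim Phi K v`, arrows are symmetric and preserve minimality -/
lemma f4_step [Finite V] {d₀ : ℕ} (hmin : ∀ v, IsCtr K v → d₀ ≤ finrank (ZMod p) (Phi K v))
    {v w : V} (hv : IsCtr K v) (hvd : finrank (ZMod p) (Phi K v) = d₀) (hw : IsCtr K w)
    (hvw : Arr K v w) : Arr K w v ∧ finrank (ZMod p) (Phi K w) = d₀ := by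
  have hfin : Module.Finite (ZMod p) V := Module.Finite.of_finite
  have hwv : Arr K w v := by
    by_contra hnot
    have hle : Phi K w ≤ Phi K v := Phi_le_of_arr hvw hnot
    have heq : Phi K w = Phi K v := by
      apply Submodule.eq_of_le_of_finrank_le hle
      rw [hvd]
      exact hmin w hw
    obtain ⟨φ, hφ, hφw⟩ := hvw
    rw [← heq] at hφ
    exact hφw hφ.1
  refine ⟨hwv, ?_⟩
  obtain ⟨φ, hφ, hφw⟩ := hvw
  obtain ⟨ψ, hψ, hψv⟩ := hwv
  obtain ⟨g, hg, hgv⟩ := exists_map_eq_of_arr hφ hψ hφw hψv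
  rw [← hgv, finrank_Phi_conj hg, hvd]

/-- along a chain, a property that holds at the start and fails at the end switches at some step -/
lemma exists_switch {α : Type*} {R : α → α → Prop} {A : α → Prop} {s t : α}
    (h : Relation.ReflTransGen R s t) (hs : A s) (ht : ¬ A t) : ∃ a b, R a b ∧ A a ∧ ¬ A b := by
  by_contra hcon
  push Not at hcon
  have hAt : A t := by
    clear ht
    induction h with
    | refl => exact hs
    | tail _ hbc ih => exact hcon _ _ hbc ih
  exact ht hAt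

/-- **F4**.  Symmetry of the arrow relation and constancy of `d = dim Phi K v`. -/
theorem arr_symm_and_finrank [Finite V] (hgen : K = Subgroup.closure (TvSet K))
    (hconn : ∀ s ∈ TvSet K, ∀ t ∈ TvSet K,
      Relation.ReflTransGen (fun a b => a ∈ TvSet K ∧ b ∈ TvSet K ∧ a * b ≠ b * a) s t)
    (hU : UProp K) :
    (∀ v w, IsCtr K v → IsCtr K w → Arr K v w → Arr K w v) ∧
    (∀ v w, IsCtr K v → IsCtr K w → finrank (ZMod p) (Phi K v) = finrank (ZMod p) (Phi K w)) := by
  classical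
  by_cases hex : ∃ v, IsCtr K v
  swap
  · push Not at hex
    exact ⟨fun v w hv => absurd hv (hex v), fun v w hv => absurd hv (hex v)⟩
  obtain ⟨v₁, hv₁⟩ := hex
  have hexd : ∃ d, ∃ v, IsCtr K v ∧ finrank (ZMod p) (Phi K v) = d := ⟨_, v₁, hv₁, rfl⟩
  obtain ⟨v₀, hv₀, hv₀d⟩ := Nat.find_spec hexd
  have hmin : ∀ v, IsCtr K v → Nat.find hexd ≤ finrank (ZMod p) (Phi K v) :=
    fun v hv => Nat.find_min' hexd ⟨v, hv, rfl⟩
  generalize Nat.find hexd = d₀ at hv₀d hmin
  -- (iii) every centre has `dim Phi = d₀`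
  have hall : ∀ w, IsCtr K w → finrank (ZMod p) (Phi K w) = d₀ := by
    by_contra hcon
    push Not at hcon
    obtain ⟨w₀, hw₀, hw₀d⟩ := hcon
    -- the property "all representations have centre in `P₀`"
    let A : (V ≃ₗ[ZMod p] V) → Prop := fun a =>
      ∀ (φ : Dual (ZMod p) V) (v : V), IsCtr K v → φ ∈ Phi K v → φ ≠ 0 → a = tv φ v →
        finrank (ZMod p) (Phi K v) = d₀
    obtain ⟨hv₀0, φ₀, hφ₀, hφ₀0⟩ := isCtr_iff.mp hv₀
    obtain ⟨hw₀0, ψ₀, hψ₀, hψ₀0⟩ := isCtr_iff.mp hw₀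
    have hs₀ : tv φ₀ v₀ ∈ TvSet K := mem_TvSet_of hφ₀ hφ₀0 hv₀0
    have ht₀ : tv ψ₀ w₀ ∈ TvSet K := mem_TvSet_of hψ₀ hψ₀0 hw₀0
    have hAs : A (tv φ₀ v₀) := by
      intro φ' v' hv' hφ' hφ'0 heq
      obtain ⟨c, hc0, hc1, -⟩ := tv_eq_tv hφ₀.1 hφ'.1 hφ₀0 hv₀0 heq
      rw [hc1, Phi_smul hc0, hv₀d]
    have hAt : ¬ A (tv ψ₀ w₀) := fun h => hw₀d (h ψ₀ w₀ hw₀ hψ₀ hψ₀0 rfl)
    obtain ⟨a, b, ⟨haT, hbT, hnc⟩, hAa, hAb⟩ := exists_switch (hconn _ hs₀ _ ht₀) hAs hAt
    obtain ⟨φ, v, hv, hφ, hφ0, rfl⟩ := exists_of_mem_TvSet haT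
    have hvd : finrank (ZMod p) (Phi K v) = d₀ := hAa φ v hv hφ hφ0 rfl
    have hAb' : ∃ (ψ : Dual (ZMod p) V) (w : V), IsCtr K w ∧ ψ ∈ Phi K w ∧ ψ ≠ 0 ∧ b = tv ψ w ∧
        finrank (ZMod p) (Phi K w) ≠ d₀ := by
      by_contra hcon
      push Not at hcon
      exact hAb (fun ψ w hw hψ hψ0 heq => hcon ψ w hw hψ hψ0 heq)
    obtain ⟨ψ, w, hw, hψ, hψ0, rfl, hwd⟩ := hAb'
    -- (*) functionals at minimal centres kill the non-minimal centres
    have hstar : ∀ (v' : V) (φ' : Dual (ZMod p) V) (w' : V), IsCtr K v' →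
        finrank (ZMod p) (Phi K v') = d₀ → φ' ∈ Phi K v' → IsCtr K w' →
        finrank (ZMod p) (Phi K w') ≠ d₀ → φ' w' = 0 := by
      intro v' φ' w' hv' hv'd hφ' hw' hw'd
      by_contra hne
      exact hw'd (f4_step hmin hv' hv'd hw' ⟨φ', hφ', hne⟩).2
    -- the span of the non-minimal centres
    set U : Submodule (ZMod p) V :=
      Submodule.span (ZMod p) {w' | IsCtr K w' ∧ finrank (ZMod p) (Phi K w') ≠ d₀} with hUdef
    have hUinv : ∀ g ∈ K, ∀ x ∈ U, g x ∈ U := by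
      intro g hg x hx
      rw [hUdef] at hx ⊢
      induction hx using Submodule.span_induction with
      | mem x hx =>
        apply Submodule.subset_span
        exact ⟨(isCtr_conj hg).mpr hx.1, by rw [finrank_Phi_conj hg]; exact hx.2⟩
      | zero => rw [map_zero]; exact Submodule.zero_mem _
      | add x y _ _ hx hy => rw [map_add]; exact Submodule.add_mem _ hx hy
      | smul c x _ hx => rw [map_smul]; exact Submodule.smul_mem _ c hx
    have hwU : w ∈ U := Submodule.subset_span ⟨hw, hwd⟩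
    have hφU : ∀ x ∈ U, φ x = 0 := by
      intro x hx
      rw [hUdef] at hx
      induction hx using Submodule.span_induction with
      | mem x hx => exact hstar v φ x hv hvd hφ hx.1 hx.2
      | zero => exact map_zero φ
      | add x y _ _ hx hy => rw [map_add, hx, hy, add_zero]
      | smul c x _ hx => rw [map_smul, hx, smul_zero]
    -- `s = tv φ v` and its inverse fix `U` pointwise
    have hsU : ∀ x ∈ U, tv φ v x = x := by
      intro x hx
      rw [tv_apply hφ.1, hφU x hx, zero_smul, add_zero]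
    have hsU' : ∀ x ∈ U, (tv φ v)⁻¹ x = x := by
      intro x hx
      have hneg : (-φ) v = 0 := by simp [hφ.1]
      rw [tv_inv hφ.1, tv_apply hneg, LinearMap.neg_apply, hφU x hx, neg_zero, zero_smul, add_zero]
    -- `s t s⁻¹ = tv (dconj s ψ) w`
    have hconj : tv φ v * tv ψ w * (tv φ v)⁻¹ = tv (dconj (tv φ v) ψ) w := by
      rw [conj_tv', hsU w hwU]
    have hdw : dconj (tv φ v) ψ w = 0 := by
      have := dconj_apply_apply (tv φ v) ψ w
      rw [hsU w hwU] at this
      rw [this, hψ.1]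
    set c : V ≃ₗ[ZMod p] V := tv φ v * tv ψ w * (tv φ v)⁻¹ * (tv ψ w)⁻¹ with hc
    have hcK : c ∈ K :=
      K.mul_mem (K.mul_mem (K.mul_mem hφ.2 hψ.2) (K.inv_mem hφ.2)) (K.inv_mem hψ.2)
    have h3 : ∀ x, c x - x ∈ U := by
      intro x
      have hnegψ : (-ψ) w = 0 := by simp [hψ.1]
      have e1 : (tv ψ w)⁻¹ x = x + (-ψ) x • w := by rw [tv_inv hψ.1, tv_apply hnegψ]
      have e2 : c x = (tv ψ w)⁻¹ x + dconj (tv φ v) ψ ((tv ψ w)⁻¹ x) • w := by
        rw [hc, hconj, LinearEquiv.mul_apply, tv_apply hdw]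
      rw [e2, e1]
      have : x + (-ψ) x • w + dconj (tv φ v) ψ (x + (-ψ) x • w) • w - x =
          ((-ψ) x + dconj (tv φ v) ψ (x + (-ψ) x • w)) • w := by
        rw [add_smul]; abel
      rw [this]
      exact Submodule.smul_mem _ _ hwU
    have h2 : ∀ x ∈ U, c x - x ∈ (⊥ : Submodule (ZMod p) V) := by
      intro x hx
      have hx' : (tv ψ w)⁻¹ x ∈ U := hUinv _ (K.inv_mem hψ.2) x hx
      have : c x = x := by
        rw [hc]
        simp only [LinearEquiv.mul_apply]
        rw [hsU' _ hx', apply_inv_apply', hsU x hx]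
      rw [this, sub_self]
      exact Submodule.zero_mem _
    have hc1 : c = 1 := by
      refine hU ⊥ U bot_le ?_ hUinv c hcK h3 h2 ?_
      · intro g _ x hx
        rw [Submodule.mem_bot] at hx ⊢
        rw [hx, map_zero]
      · intro x hx
        rw [Submodule.mem_bot] at hx
        rw [hx, map_zero]
    apply hnc
    have h4 : tv φ v * tv ψ w * (tv φ v)⁻¹ = tv ψ w := mul_inv_eq_one.mp hc1
    exact mul_inv_eq_iff_eq_mul.mp h4
  refine ⟨?_, ?_⟩
  · intro v w hv hw hvw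
    exact (f4_step hmin hv (hall v hv) hw hvw).1
  · intro v w hv hw
    rw [hall v hv, hall w hw]

end Cfsg.Agent.Lib.Helper23.McLLeaf
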