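import Mathlib
import Cfsg.Prelude.Def_Solvable
import Cfsg.Agent.Lib.Helper26.McLDefs
import Cfsg.Agent.Lib.Helper26.McLBasic
import Cfsg.Agent.Lib.Helper26.McLMore

/-!
S5075 (helper26's market), leaf F5b `ctr_connected`: the graph of the centres is connected.
-/

set_option autoImplicit false
set_option linter.unusedSectionVars false
set_option linter.unusedVariables false

namespace Cfsg.Agent.Lib.Helper23.McLLeaf
open Module Cfsg.Agent.Lib.Helper26.McL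

universe u
variable {p : ℕ} [Fact p.Prime] {V : Type u} [AddCommGroup V] [Module (ZMod p) V]
variable {K : Subgroup (V ≃ₗ[ZMod p] V)}

/-- non-commuting transvections of `K` have adjacent centres -/
lemma arr_or_arr_of_not_commute {φ₁ φ₂ : Dual (ZMod p) V} {v₁ v₂ : V} (h1 : φ₁ ∈ Phi K v₁)
    (h2 : φ₂ ∈ Phi K v₂) (hne : tv φ₁ v₁ * tv φ₂ v₂ ≠ tv φ₂ v₂ * tv φ₁ v₁) :
    Arr K v₁ v₂ ∨ Arr K v₂ v₁ := by
  by_cases ha : φ₁ v₂ = 0
  · by_cases hb : φ₂ v₁ = 0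
    · exact absurd (tv_commute h1.1 h2.1 ha hb) hne
    · exact Or.inr ⟨φ₂, h2, hb⟩
  · exact Or.inl ⟨φ₁, h1, ha⟩

/-- `Arr K u v → Arr K u (c • v)` for `c ≠ 0` -/
lemma arr_smul_right {u v : V} {c : ZMod p} (hc : c ≠ 0) (h : Arr K u v) : Arr K u (c • v) := by
  obtain ⟨ψ, hψ, hψv⟩ := h
  exact ⟨ψ, hψ, by rw [map_smul, smul_eq_mul]; exact mul_ne_zero hc hψv⟩

/-- a centre is joined to its non-zero multiples -/
lemma joined_smul
    (hconn : ∀ s ∈ TvSet K, ∀ t ∈ TvSet K,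
      Relation.ReflTransGen (fun a b => a ∈ TvSet K ∧ b ∈ TvSet K ∧ a * b ≠ b * a) s t)
    (hsymm : ∀ v w, IsCtr K v → IsCtr K w → Arr K v w → Arr K w v)
    {v : V} (hv : IsCtr K v) {c : ZMod p} (hc : c ≠ 0) :
    Relation.ReflTransGen (fun a b => IsCtr K a ∧ IsCtr K b ∧ Arr K a b) v (c • v) := by
  by_cases hc1 : c = 1
  · rw [hc1, one_smul]
  obtain ⟨hv0, φ, hφ, hφ0⟩ := isCtr_iff.mp hv
  have hcφ : c • φ ∈ Phi K v := (Phi K v).smul_mem c hφ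
  have hcφ0 : c • φ ≠ 0 := smul_ne_zero hc hφ0
  have hs : tv φ v ∈ TvSet K := mem_TvSet_of hφ hφ0 hv0
  have hs' : tv (c • φ) v ∈ TvSet K := mem_TvSet_of hcφ hcφ0 hv0
  have hne : tv φ v ≠ tv (c • φ) v := by
    intro heq
    obtain ⟨d, hd0, hd1, hd2⟩ := tv_eq_tv hφ.1 hcφ.1 hφ0 hv0 heq
    have hd : d = 1 := by
      have h3 : (d - 1) • v = 0 := by rw [sub_smul, one_smul, ← hd1, sub_self]
      rcases smul_eq_zero.mp h3 with h4 | h4
      · exact sub_eq_zero.mp h4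
      · exact absurd h4 hv0
    rw [hd, one_smul] at hd2
    -- `φ = c • φ`
    have h5 : (c - 1) • φ = 0 := by
      have h7 := sub_smul c 1 φ
      rw [one_smul, ← hd2, sub_self] at h7
      exact h7
    rcases smul_eq_zero.mp h5 with h6 | h6
    · exact hc1 (sub_eq_zero.mp h6)
    · exact hφ0 h6
  rcases Relation.ReflTransGen.cases_head (hconn _ hs _ hs') with heq | ⟨b, ⟨-, hb, hnc⟩, -⟩
  · exact absurd heq hne
  · obtain ⟨ψ, u, hu, hψ, hψ0, rfl⟩ := exists_of_mem_TvSet hb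
    have hvu : Arr K v u ∧ Arr K u v := by
      rcases arr_or_arr_of_not_commute hφ hψ hnc with h | h
      · exact ⟨h, hsymm v u hv hu h⟩
      · exact ⟨hsymm u v hu hv h, h⟩
    have hcv : IsCtr K (c • v) := (isCtr_smul hc).mpr hv
    exact Relation.ReflTransGen.tail (Relation.ReflTransGen.single ⟨hv, hu, hvu.1⟩)
      ⟨hu, hcv, arr_smul_right hc hvu.2⟩

/-- **F5b**.  The graph of the centres is connected. -/
theorem ctr_connected
    (hconn : ∀ s ∈ TvSet K, ∀ t ∈ TvSet K,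
      Relation.ReflTransGen (fun a b => a ∈ TvSet K ∧ b ∈ TvSet K ∧ a * b ≠ b * a) s t)
    (hsymm : ∀ v w, IsCtr K v → IsCtr K w → Arr K v w → Arr K w v)
    {v w : V} (hv : IsCtr K v) (hw : IsCtr K w) :
    Relation.ReflTransGen (fun a b => IsCtr K a ∧ IsCtr K b ∧ Arr K a b) v w := by
  obtain ⟨hv0, φ, hφ, hφ0⟩ := isCtr_iff.mp hv
  obtain ⟨hw0, ψ, hψ, hψ0⟩ := isCtr_iff.mp hw
  have hs : tv φ v ∈ TvSet K := mem_TvSet_of hφ hφ0 hv0
  have ht : tv ψ w ∈ TvSet K := mem_TvSet_of hψ hψ0 hw0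
  have key : ∀ a, Relation.ReflTransGen
      (fun a b => a ∈ TvSet K ∧ b ∈ TvSet K ∧ a * b ≠ b * a) (tv φ v) a →
      ∀ (φ' : Dual (ZMod p) V) (v' : V), IsCtr K v' → φ' ∈ Phi K v' → φ' ≠ 0 → a = tv φ' v' →
        Relation.ReflTransGen (fun a b => IsCtr K a ∧ IsCtr K b ∧ Arr K a b) v v' := by
    intro a ha
    induction ha with
    | refl =>
      intro φ' v' hv' hφ' hφ'0 heq
      obtain ⟨c, hc0, hc1, -⟩ := tv_eq_tv hφ.1 hφ'.1 hφ0 hv0 heq
      rw [hc1]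
      exact joined_smul hconn hsymm hv hc0
    | tail hab hbc ih =>
      rename_i b c
      intro φ₂ v₂ hv₂ hφ₂ hφ₂0 heq
      obtain ⟨hbT, hcT, hnc⟩ := hbc
      obtain ⟨φ₁, v₁, hv₁, hφ₁, hφ₁0, rfl⟩ := exists_of_mem_TvSet hbT
      subst heq
      have h12 : Arr K v₁ v₂ := by
        rcases arr_or_arr_of_not_commute hφ₁ hφ₂ hnc with h | h
        · exact h
        · exact hsymm v₂ v₁ hv₂ hv₁ h
      exact Relation.ReflTransGen.tail (ih φ₁ v₁ hv₁ hφ₁ hφ₁0 rfl) ⟨hv₁, hv₂, h12⟩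
  exact key _ (hconn _ hs _ ht) ψ w hw hψ hψ0 rfl

end Cfsg.Agent.Lib.Helper23.McLLeaf
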