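/- helper23: towards S1384. Part B: the Sylow `p`-subgroup of a nilpotent subgroup `H ≤ G`;
an element normalizing all of them normalizes `H`. -/
import Mathlib
import Cfsg.Agent.Lib.Helper23.NilHallA

set_option autoImplicit false
set_option linter.style.haveILetI false
set_option linter.unusedSectionVars false

namespace Cfsg.Agent.Lib.Helper23.NilHall

open Cfsg.Agent.Lib.Helper8 (IsSylIn sylow_map_subtype_isSylIn)

variable {G : Type*} [Group G] [Finite G]

/-- a Sylow `p`-subgroup of `H`, as a subgroup of `G`. -/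
noncomputable def sylOf (p : ℕ) [Fact p.Prime] (H : Subgroup G) : Subgroup G :=
  ((default : Sylow p ↥H) : Subgroup ↥H).map H.subtype

variable {p : ℕ} [Fact p.Prime] {H : Subgroup G}

theorem sylOf_le : sylOf p H ≤ H := Subgroup.map_subtype_le _

theorem sylOf_isSylIn : IsSylIn p (sylOf p H) H := sylow_map_subtype_isSylIn _

theorem sylOf_isPGroup : IsPGroup p (sylOf p H) := (sylOf_isSylIn (H := H)).isPGroup

theorem sylOf_normal (hnil : Group.IsNilpotent H) :
    ((default : Sylow p ↥H) : Subgroup ↥H).Normal :=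
  by
    have h := (Group.isNilpotent_of_finite_tfae (G := ↥H)).out 0 3
    exact h.mp hnil p inferInstance default

/-- `H` normalizes its Sylow `p`-subgroup. -/
theorem le_normalizer_sylOf (hnil : Group.IsNilpotent H) :
    H ≤ Subgroup.normalizer ((sylOf p H : Subgroup G) : Set G) := by
  haveI := sylOf_normal (p := p) hnil
  intro h hh
  have h1 : (⟨h, hh⟩ : ↥H) ∈
      Subgroup.normalizer ((((default : Sylow p ↥H) : Subgroup ↥H)) : Set ↥H) := by
    rw [Subgroup.normalizer_eq_top_iff.mpr inferInstance]; exact Subgroup.mem_top _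
  exact Subgroup.le_normalizer_map H.subtype (Subgroup.mem_map_of_mem H.subtype h1)

/-- the Sylow `p`-subgroup of a nilpotent `H` contains every `p`-element of `H`. -/
theorem mem_sylOf_of_pow_eq_one (hnil : Group.IsNilpotent H) {h : G} (hh : h ∈ H) {k : ℕ}
    (hk : h ^ p ^ k = 1) : h ∈ sylOf p H := by
  haveI := sylOf_normal (p := p) hnil
  have hP : IsPGroup p (Subgroup.zpowers (⟨h, hh⟩ : ↥H)) := by
    apply IsPGroup.of_card (n := (orderOf (⟨h, hh⟩ : ↥H)).factorization p)
    rw [Nat.card_zpowers]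
    have hd : orderOf (⟨h, hh⟩ : ↥H) ∣ p ^ k := by
      apply orderOf_dvd_of_pow_eq_one
      exact Subtype.ext (by simpa using hk)
    obtain ⟨j, -, hj⟩ := (Nat.dvd_prime_pow (Fact.out : p.Prime)).mp hd
    rw [hj, Nat.Prime.factorization_pow (Fact.out : p.Prime)]
    simp
  obtain ⟨Q, hQ⟩ := hP.exists_le_sylow
  have hu := Sylow.unique_of_normal (default : Sylow p ↥H) inferInstance
  have hQd : Q = default := Subsingleton.elim _ _
  refine ⟨⟨h, hh⟩, ?_, rfl⟩
  rw [← hQd]
  exact hQ (Subgroup.mem_zpowers _)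

/-- an element normalizing the Sylow `p`-subgroup of `H` for every prime `p` normalizes `H`. -/
theorem mem_normalizer_of_forall_sylOf {n : G}
    (hn : ∀ (q : ℕ) [Fact q.Prime], n ∈ Subgroup.normalizer ((sylOf q H : Subgroup G) : Set G)) :
    n ∈ Subgroup.normalizer (H : Set G) := by
  -- `D = H ∩ n⁻¹ H n` contains all Sylow subgroups of `H`
  set Hn : Subgroup G := H.map (MulAut.conj n⁻¹).toMonoidHom with hHn
  have hle : ∀ (q : ℕ) [Fact q.Prime], sylOf q H ≤ H ⊓ Hn := by
    intro q _ s hs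
    refine ⟨sylOf_le hs, ?_⟩
    have h1 := (Subgroup.mem_normalizer_iff.mp (hn q) s).mp hs
    refine ⟨n * s * n⁻¹, sylOf_le h1, ?_⟩
    simp only [MulEquiv.coe_toMonoidHom, MulAut.conj_apply]
    group
  have hcard : Nat.card H ∣ Nat.card ↥(H ⊓ Hn) := by
    rw [← Nat.factorization_prime_le_iff_dvd Nat.card_pos.ne' Nat.card_pos.ne']
    intro q hq
    haveI : Fact q.Prime := ⟨hq⟩
    have h1 : Nat.card (sylOf q H) ∣ Nat.card ↥(H ⊓ Hn) := Subgroup.card_dvd_of_le (hle q)
    rw [(sylOf_isSylIn (p := q) (H := H)).2] at h1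
    exact (Nat.Prime.pow_dvd_iff_le_factorization hq Nat.card_pos.ne').mp h1
  have hD : H ⊓ Hn = H := by
    apply Subgroup.eq_of_le_of_card_ge inf_le_left
    exact Nat.le_of_dvd Nat.card_pos hcard
  have hHHn : H ≤ Hn := by rw [← hD]; exact inf_le_right
  have hcardn : Nat.card Hn = Nat.card H :=
    Subgroup.card_map_of_injective (MulAut.conj n⁻¹).injective
  have hHn' : Hn = H := (Subgroup.eq_of_le_of_card_ge hHHn hcardn.le).symm
  -- so `n⁻¹ H n = H`
  have h1 : n⁻¹ ∈ Subgroup.normalizer (H : Set G) := by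
    rw [Subgroup.mem_normalizer_iff_map_conj_eq]
    exact hHn'
  simpa using Subgroup.inv_mem _ h1

end Cfsg.Agent.Lib.Helper23.NilHall
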