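/- helper23: towards S1384. Part C: the step (reduction to `N(P)`), the induction inside a group
all of whose subgroups have `q`-length one, and the theorem for minimal simple groups. -/
import Mathlib
import Cfsg.Agent.Lib.Helper23.NilHallB
import Cfsg.Agent.Lib.Helper9.PLengthFusion
import Cfsg.Agent.Lib.Helper24.BGTen1
import Cfsg.Agent.Lib.Helper17.BGUniqC
import Cfsg.Agent.S1410

set_option autoImplicit false
set_option linter.style.haveILetI false
set_option linter.unusedSectionVars false

namespace Cfsg.Agent.Lib.Helper23.NilHall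

open Cfsg.Agent.Lib.Helper8 (IsSylIn sylow_map_subtype_isSylIn mem_map_conj conj_mem_map_conj
  map_conj_map_conj card_map_conj mem_normalizer_iff_map_conj isSylIn_of_card_le
  card_dvd_of_isPGroup_le)
open Cfsg.Agent.Lib.Helper8.BGEx (cj isSylIn_exists_conj isSylIn_of_not_dvd_relIndex)

variable {G : Type*} [Group G] [Finite G]

/-- restriction of a Sylow subgroup to an intermediate subgroup. -/
theorem isSylIn_mono {p : ℕ} [Fact p.Prime] {P C X : Subgroup G} (h : IsSylIn p P X) (hPC : P ≤ C)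
    (hCX : C ≤ X) : IsSylIn p P C := by
  apply isSylIn_of_card_le h.isPGroup hPC
  rw [h.2]
  apply Nat.pow_le_pow_right (Fact.out : p.Prime).pos
  have hd : Nat.card C ∣ Nat.card X := Subgroup.card_dvd_of_le hCX
  exact (Nat.factorization_le_iff_dvd Nat.card_pos.ne' Nat.card_pos.ne').mpr hd p

/-- in a nilpotent `H`, the Sylow `p`-subgroup commutes with the `p'`-part of any element. -/
theorem sylOf_comm_pPrimePart {p : ℕ} [Fact p.Prime] {H : Subgroup G}
    (hnil : Group.IsNilpotent H) {y : G} (hy : y ∈ H) {u : G} (hu : u ∈ sylOf p H) :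
    u * pPrimePart p y = pPrimePart p y * u := by
  haveI := hnil
  have hb : pPrimePart p y ∈ H :=
    (Subgroup.zpowers_le.mpr hy) (pPrimePart_mem_zpowers p y)
  have huH : u ∈ H := sylOf_le hu
  have hcop : (orderOf (⟨u, huH⟩ : ↥H)).Coprime (orderOf (⟨pPrimePart p y, hb⟩ : ↥H)) := by
    rw [Subgroup.orderOf_mk, Subgroup.orderOf_mk]
    obtain ⟨k, hk⟩ := (sylOf_isPGroup (p := p) (H := H)) ⟨u, hu⟩
    have h1 : orderOf u ∣ p ^ k := by
      apply orderOf_dvd_of_pow_eq_one
      have := congrArg Subtype.val hk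
      simpa using this
    exact Nat.Coprime.coprime_dvd_left h1
      ((coprime_orderOf_pPrimePart (Fact.out : p.Prime) y).symm.pow_left k)
  have := commute_of_coprime_of_nilpotent ↥H ⟨u, huH⟩ ⟨pPrimePart p y, hb⟩ hcop
  exact congrArg Subtype.val this

/-- **the step**: `x, g x g⁻¹ ∈ H` (nilpotent), `P` the Sylow `p`-subgroup of `H`, `C` a subgroup
of `p`-length one centralizing the `p'`-part of `g x g⁻¹`, containing `P` and `g P g⁻¹` as Sylow
`p`-subgroups.  Then some `c ∈ C` centralizes `g x g⁻¹` and has `c g ∈ N(P)`. -/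
theorem step {p : ℕ} [Fact p.Prime] {H C : Subgroup G} (hnil : Group.IsNilpotent H)
    {x g : G} (hx : x ∈ H) (hgx : g * x * g⁻¹ ∈ H)
    (hCb : ∀ c ∈ C, c * pPrimePart p (g * x * g⁻¹) = pPrimePart p (g * x * g⁻¹) * c)
    (hgPC : cj g (sylOf p H) ≤ C)
    (hSyl : IsSylIn p (sylOf p H) C) (hpl : Cfsg.PLengthLE p 1 ↥C) :
    ∃ c ∈ C, c * g ∈ Subgroup.normalizer ((sylOf p H : Subgroup G) : Set G) ∧
      (c * g) * x * (c * g)⁻¹ = g * x * g⁻¹ := by
  have hp : p.Prime := Fact.out
  set P := sylOf p H with hP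
  set x' := g * x * g⁻¹ with hx'
  -- the parts
  have hab' : pPart p x' * pPrimePart p x' = x' := pPart_mul_pPrimePart hp x'
  have ha'P : pPart p x' ∈ P :=
    mem_sylOf_of_pow_eq_one hnil ((Subgroup.zpowers_le.mpr hgx) (pPart_mem_zpowers p x'))
      (pPart_pow_eq_one p x')
  have haP : pPart p x ∈ P :=
    mem_sylOf_of_pow_eq_one hnil ((Subgroup.zpowers_le.mpr hx) (pPart_mem_zpowers p x))
      (pPart_pow_eq_one p x)
  have ha' : pPart p x' = g * pPart p x * g⁻¹ := pPart_conj p g x
  -- Sylow's theorem in `C`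
  have hT : IsSylIn p (cj g P) C := ⟨hgPC, by rw [card_map_conj]; exact hSyl.2⟩
  obtain ⟨c, hc, hcP⟩ := isSylIn_exists_conj hT hSyl
  have hg₁ : c * g ∈ Subgroup.normalizer ((P : Subgroup G) : Set G) := by
    rw [mem_normalizer_iff_map_conj, ← map_conj_map_conj]
    exact hcP.symm
  -- `c a' c⁻¹ ∈ P`
  have ha'' : c * pPart p x' * c⁻¹ ∈ P := by
    have e : c * pPart p x' * c⁻¹ = (c * g) * pPart p x * (c * g)⁻¹ := by rw [ha']; group
    rw [e]
    exact (Subgroup.mem_normalizer_iff.mp hg₁ _).mp haP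
  -- control of fusion in `C`
  have ha'C : pPart p x' ∈ C := hSyl.1 ha'P
  set S : Sylow p ↥C := hSyl.toSylow with hS
  have hmemS : ∀ z : ↥C, z ∈ (S : Subgroup ↥C) ↔ (z : G) ∈ P := by
    intro z
    show z ∈ P.subgroupOf C ↔ _
    exact Subgroup.mem_subgroupOf
  obtain ⟨g', hg', c', hc', hgc⟩ :=
    Cfsg.Agent.Lib.Helper9.exists_normalizer_mul_centralizer hpl S
      ({⟨pPart p x', ha'C⟩} : Set ↥C) ⟨c, hc⟩
      (by
        intro z hz
        rw [Set.mem_singleton_iff.mp hz]
        exact (hmemS _).mpr ha'P)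
      (by
        rintro _ ⟨z, hz, rfl⟩
        rw [Set.mem_singleton_iff.mp hz]
        exact (hmemS _).mpr ha'')
  -- `g'` normalizes `P`
  have hg'P : (g' : G) ∈ Subgroup.normalizer ((P : Subgroup G) : Set G) := by
    have h1 := Subgroup.le_normalizer_map C.subtype (Subgroup.mem_map_of_mem C.subtype hg')
    rw [hSyl.toSylow_map] at h1
    exact h1
  -- `c'` centralizes `a'` and `b'`
  have hc'a : (c' : G) * pPart p x' = pPart p x' * (c' : G) := by
    have := Subgroup.mem_centralizer_iff.mp hc' ⟨pPart p x', ha'C⟩ rfl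
    exact (congrArg Subtype.val this).symm
  have hc'b := hCb (c' : G) c'.2
  have hcg : c = (g' : G) * (c' : G) := by
    have := congrArg Subtype.val hgc
    simpa using this.symm
  refine ⟨(c' : G), c'.2, ?_, ?_⟩
  · have e : (c' : G) * g = (g' : G)⁻¹ * (c * g) := by rw [hcg]; group
    rw [e]
    exact Subgroup.mul_mem _ (Subgroup.inv_mem _ hg'P) hg₁
  · have e : (c' : G) * g * x * ((c' : G) * g)⁻¹ = (c' : G) * x' * (c' : G)⁻¹ := by
      rw [hx']; group
    rw [e, ← hab']
    calc (c' : G) * (pPart p x' * pPrimePart p x') * (c' : G)⁻¹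
        = ((c' : G) * pPart p x') * pPrimePart p x' * (c' : G)⁻¹ := by group
      _ = (pPart p x' * (c' : G)) * pPrimePart p x' * (c' : G)⁻¹ := by rw [hc'a]
      _ = pPart p x' * ((c' : G) * pPrimePart p x') * (c' : G)⁻¹ := by group
      _ = pPart p x' * (pPrimePart p x' * (c' : G)) * (c' : G)⁻¹ := by rw [hc'b]
      _ = pPart p x' * pPrimePart p x' := by group

/-- the step inside a subgroup `X` (with `C = X ∩ C_G(b')`). -/
theorem step_in {p : ℕ} [Fact p.Prime] {H X : Subgroup G} (hnil : Group.IsNilpotent H)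
    (hSylX : IsSylIn p (sylOf p H) X) {x g : G} (hx : x ∈ H) (hg : g ∈ X)
    (hgx : g * x * g⁻¹ ∈ H)
    (hpl : Cfsg.PLengthLE p 1
      ↥(X ⊓ Subgroup.centralizer ({pPrimePart p (g * x * g⁻¹)} : Set G) : Subgroup G)) :
    ∃ g₂ ∈ X, g₂ ∈ Subgroup.normalizer ((sylOf p H : Subgroup G) : Set G) ∧
      g₂ * x * g₂⁻¹ = g * x * g⁻¹ := by
  set C : Subgroup G := X ⊓ Subgroup.centralizer ({pPrimePart p (g * x * g⁻¹)} : Set G) with hC
  have hCb : ∀ c ∈ C, c * pPrimePart p (g * x * g⁻¹) = pPrimePart p (g * x * g⁻¹) * c := by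
    intro c hc
    exact (Subgroup.mem_centralizer_iff.mp hc.2 _ rfl).symm
  have hPC : sylOf p H ≤ C := by
    intro u hu
    refine ⟨hSylX.1 hu, ?_⟩
    show u ∈ Subgroup.centralizer ({pPrimePart p (g * x * g⁻¹)} : Set G)
    rw [Subgroup.mem_centralizer_iff]
    intro z hz
    rw [Set.mem_singleton_iff.mp hz]
    exact (sylOf_comm_pPrimePart hnil hgx hu).symm
  have hgPC : cj g (sylOf p H) ≤ C := by
    rintro _ ⟨u, hu, rfl⟩
    simp only [MulEquiv.coe_toMonoidHom, MulAut.conj_apply]
    refine ⟨X.mul_mem (X.mul_mem hg (hSylX.1 hu)) (X.inv_mem hg), ?_⟩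
    show g * u * g⁻¹ ∈ Subgroup.centralizer ({pPrimePart p (g * x * g⁻¹)} : Set G)
    rw [Subgroup.mem_centralizer_iff]
    intro z hz
    rw [Set.mem_singleton_iff.mp hz, pPrimePart_conj]
    have h1 := sylOf_comm_pPrimePart hnil hx hu
    calc g * pPrimePart p x * g⁻¹ * (g * u * g⁻¹) = g * (pPrimePart p x * u) * g⁻¹ := by group
      _ = g * (u * pPrimePart p x) * g⁻¹ := by rw [h1]
      _ = g * u * g⁻¹ * (g * pPrimePart p x * g⁻¹) := by group
  have hSyl : IsSylIn p (sylOf p H) C := isSylIn_mono hSylX hPC inf_le_left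
  obtain ⟨c, hc, hcn, hcx⟩ := step hnil hx hgx hCb hgPC hSyl hpl
  exact ⟨c * g, X.mul_mem hc.1 hg, hcn, hcx⟩

/-- **control of fusion inside `X`**: `X` a subgroup all of whose subgroups have `q`-length one for
all primes `q`, `H ≤ X` a nilpotent Hall subgroup of `X`. -/
theorem control_in : ∀ (N : ℕ) (X : Subgroup G), Nat.card X = N → ∀ H : Subgroup G, H ≤ X →
    Group.IsNilpotent H → (Nat.card H).Coprime (H.relIndex X) →
    (∀ C : Subgroup G, C ≤ X → ∀ q : ℕ, q.Prime → Cfsg.PLengthLE q 1 ↥C) →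
    ∀ x ∈ H, ∀ g ∈ X, g * x * g⁻¹ ∈ H →
      ∃ n ∈ X ⊓ Subgroup.normalizer (H : Set G), n * x * n⁻¹ = g * x * g⁻¹ := by
  intro N
  induction N using Nat.strong_induction_on with
  | _ N ih =>
    intro X hXN H hHX hnil hHall hpl x hx g hg hgx
    by_cases hall : ∀ (q : ℕ) [Fact q.Prime],
        X ≤ Subgroup.normalizer ((sylOf q H : Subgroup G) : Set G)
    · exact ⟨g, ⟨hg, mem_normalizer_of_forall_sylOf (fun q _ => hall q hg)⟩, rfl⟩
    · push Not at hall
      obtain ⟨p, hpF, hXP⟩ := hall
      haveI : Fact p.Prime := hpF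
      have hp : p.Prime := Fact.out
      -- `P ≠ 1`, so `p ∣ |H|` and `P` is a Sylow subgroup of `X`
      have hP1 : sylOf p H ≠ ⊥ := by
        intro h
        apply hXP
        rw [h]
        intro z _
        rw [Subgroup.mem_normalizer_iff]
        intro w
        simp only [Subgroup.mem_bot]
        constructor
        · rintro rfl; group
        · intro h2
          have := congrArg (fun t => z⁻¹ * t * z) h2
          simpa [mul_assoc] using this
      have hpH : p ∣ Nat.card H := by
        have h1 : Nat.card (sylOf p H) ∣ Nat.card H := Subgroup.card_dvd_of_le sylOf_le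
        have h2 : p ∣ Nat.card (sylOf p H) := by
          rw [(sylOf_isSylIn (p := p) (H := H)).2]
          apply dvd_pow_self
          intro h0
          apply hP1
          apply Subgroup.card_eq_one.mp
          rw [(sylOf_isSylIn (p := p) (H := H)).2, h0, pow_zero]
        exact h2.trans h1
      have hpidx : ¬ p ∣ H.relIndex X := by
        intro h
        have := Nat.Coprime.eq_one_of_dvd (Nat.Coprime.coprime_dvd_left hpH hHall) h
        exact hp.one_lt.ne' this
      have hSylX : IsSylIn p (sylOf p H) X :=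
        isSylIn_of_not_dvd_relIndex sylOf_isSylIn hHX hpidx
      obtain ⟨g₂, hg₂X, hg₂n, hg₂x⟩ := step_in hnil hSylX hx hg hgx
        (hpl _ inf_le_left p hp)
      -- the smaller group `X₁ = N_X(P)`
      set X₁ : Subgroup G := X ⊓ Subgroup.normalizer ((sylOf p H : Subgroup G) : Set G) with hX₁
      have hX₁lt : X₁ < X := by
        refine lt_of_le_of_ne inf_le_left ?_
        intro h
        apply hXP
        rw [← h]
        exact inf_le_right
      have hcardlt : Nat.card X₁ < N := by
        rw [← hXN]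
        by_contra hcon
        push Not at hcon
        exact (ne_of_lt hX₁lt) (Subgroup.eq_of_le_of_card_ge hX₁lt.le hcon)
      have hHX₁ : H ≤ X₁ := le_inf hHX (le_normalizer_sylOf hnil)
      have hHall₁ : (Nat.card H).Coprime (H.relIndex X₁) := by
        apply Nat.Coprime.coprime_dvd_right _ hHall
        exact Dvd.intro _ (Subgroup.relIndex_mul_relIndex H X₁ X hHX₁ inf_le_left)
      obtain ⟨n, hn, hnx⟩ := ih (Nat.card X₁) hcardlt X₁ rfl H hHX₁ hnil hHall₁
        (fun C hC q hq => hpl C (hC.trans inf_le_left) q hq) x hx g₂ ⟨hg₂X, hg₂n⟩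
        (by rw [hg₂x]; exact hgx)
      exact ⟨n, ⟨hn.1.1, hn.2⟩, by rw [hnx, hg₂x]⟩

/-! ### minimal simple groups of odd order -/

theorem not_solvable_of_minSimple (hG : Cfsg.IsMinSimpleOddOrder G) : ¬ Group.IsSolvable G := by
  haveI := hG.2.1
  intro h
  exact hG.2.2.1 ⟨⟨IsSimpleGroup.comm_iff_isSolvable.mpr h⟩⟩

theorem centralizer_singleton_ne_top (hG : Cfsg.IsMinSimpleOddOrder G) {b : G} (hb : b ≠ 1) :
    Subgroup.centralizer ({b} : Set G) ≠ ⊤ := by
  haveI := hG.2.1
  intro h
  have hbc : b ∈ Subgroup.center G := by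
    rw [Subgroup.mem_center_iff]
    intro w
    have hw : w ∈ Subgroup.centralizer ({b} : Set G) := h ▸ Subgroup.mem_top w
    exact (Subgroup.mem_centralizer_iff.mp hw b rfl).symm
  rcases (inferInstance : (Subgroup.center G).Normal).eq_bot_or_eq_top with h1 | h1
  · rw [h1, Subgroup.mem_bot] at hbc
    exact hb hbc
  · apply hG.2.2.1
    refine ⟨⟨fun a c => ?_⟩⟩
    have : c ∈ Subgroup.center G := h1 ▸ Subgroup.mem_top c
    exact Subgroup.mem_center_iff.mp this a

/-- **S1384**: in a minimal simple group of odd order, the normalizer of a nilpotent Hall subgroup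
`H` controls fusion of elements of `H`. -/
theorem nilpotent_hall_control (hG : Cfsg.IsMinSimpleOddOrder G) (H : Subgroup G)
    (hnil : Group.IsNilpotent H) (hHall : (Nat.card H).Coprime H.index) :
    ∀ x ∈ H, ∀ g : G, g * x * g⁻¹ ∈ H →
      ∃ n ∈ Subgroup.normalizer (H : Set G), n * x * n⁻¹ = g * x * g⁻¹ := by
  intro x hx g hgx
  haveI := hG.2.1
  by_cases hH1 : H = ⊥
  · rw [hH1, Subgroup.mem_bot] at hx
    exact ⟨1, Subgroup.one_mem _, by rw [hx]; group⟩
  · have hcard1 : Nat.card H ≠ 1 := fun h => hH1 (Subgroup.card_eq_one.mp h)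
    obtain ⟨p, hp, hpH⟩ := Nat.exists_prime_and_dvd hcard1
    haveI : Fact p.Prime := ⟨hp⟩
    have hpidx : ¬ p ∣ H.relIndex ⊤ := by
      rw [Subgroup.relIndex_top_right]
      intro h
      have := Nat.Coprime.eq_one_of_dvd (Nat.Coprime.coprime_dvd_left hpH hHall) h
      exact hp.one_lt.ne' this
    have hSylT : IsSylIn p (sylOf p H) ⊤ :=
      isSylIn_of_not_dvd_relIndex sylOf_isSylIn le_top hpidx
    have hP1 : sylOf p H ≠ ⊥ := by
      intro h
      have h1 := (sylOf_isSylIn (p := p) (H := H)).2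
      rw [h, Subgroup.card_bot] at h1
      have h2 : 1 ≤ (Nat.card H).factorization p :=
        (Nat.Prime.dvd_iff_one_le_factorization hp Nat.card_pos.ne').mp hpH
      have h3 : p ∣ p ^ (Nat.card H).factorization p := dvd_pow_self p (by omega)
      rw [← h1] at h3
      exact hp.one_lt.ne' (Nat.dvd_one.mp h3)
    have hPtop : sylOf p H ≠ ⊤ := by
      intro h
      apply not_solvable_of_minSimple hG
      have hGp : IsPGroup p G := by
        have := sylOf_isPGroup (p := p) (H := H)
        rw [h] at this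
        exact this.of_equiv Subgroup.topEquiv
      haveI : Group.IsNilpotent G := hGp.isNilpotent
      infer_instance
    -- first step: reduce to `g ∈ N(P)`
    have key : ∃ g₂ ∈ Subgroup.normalizer ((sylOf p H : Subgroup G) : Set G),
        g₂ * x * g₂⁻¹ = g * x * g⁻¹ := by
      by_cases hb : pPrimePart p (g * x * g⁻¹) = 1
      · -- `x` and `g x g⁻¹` are `p`-elements: strong control of fusion by `N(P)`
        have hx'P : g * x * g⁻¹ ∈ sylOf p H := by
          have h1 := pPart_mul_pPrimePart hp (g * x * g⁻¹)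
          rw [hb, mul_one] at h1
          rw [← h1]
          exact mem_sylOf_of_pow_eq_one hnil
            ((Subgroup.zpowers_le.mpr hgx) (pPart_mem_zpowers p _)) (pPart_pow_eq_one p _)
        have hb0 : pPrimePart p x = 1 := by
          have h1 := pPrimePart_conj p g x
          rw [hb] at h1
          have h2 := congrArg (fun t => g⁻¹ * t * g) h1
          simp only [mul_one, inv_mul_cancel] at h2
          rw [h2]; group
        have hxP : x ∈ sylOf p H := by
          have h1 := pPart_mul_pPrimePart hp x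
          rw [hb0, mul_one] at h1
          rw [← h1]
          exact mem_sylOf_of_pow_eq_one hnil
            ((Subgroup.zpowers_le.mpr hx) (pPart_mem_zpowers p _)) (pPart_pow_eq_one p _)
        have hcardP : Nat.card (sylOf p H) = p ^ (Nat.card G).factorization p := by
          rw [hSylT.2, Subgroup.card_top]
        set Ps : Sylow p G := Sylow.ofCard (sylOf p H) hcardP with hPs
        have hyp : Cfsg.Agent.Lib.Helper24.BGTen.Hyp p G :=
          ⟨hG.2.1, hG.2.2.1, fun L hL => Cfsg.Agent.S1410.result hG p L hL⟩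
        obtain ⟨y, hy, hyx⟩ := Cfsg.Agent.Lib.Helper24.BGTen.strong_control hyp Ps ({x} : Set G) g
          (by intro a ha; rw [Set.mem_singleton_iff.mp ha]; exact hxP)
          (by rintro _ ⟨a, ha, rfl⟩; rw [Set.mem_singleton_iff.mp ha]; exact hx'P)
        exact ⟨y, hy, hyx x rfl⟩
      · have hCne : (⊤ ⊓ Subgroup.centralizer ({pPrimePart p (g * x * g⁻¹)} : Set G) :
            Subgroup G) ≠ ⊤ := by
          rw [top_inf_eq]
          exact centralizer_singleton_ne_top hG hb
        obtain ⟨g₂, -, hg₂n, hg₂x⟩ := step_in hnil hSylT hx (Subgroup.mem_top g) hgx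
          (Cfsg.Agent.S1410.result hG p _ hCne)
        exact ⟨g₂, hg₂n, hg₂x⟩
    obtain ⟨g₂, hg₂n, hg₂x⟩ := key
    -- now work inside `X = N(P)`
    set X : Subgroup G := Subgroup.normalizer ((sylOf p H : Subgroup G) : Set G) with hX
    have hXtop : X ≠ ⊤ := Cfsg.Agent.Lib.Helper17.BGU.normalizer_ne_top hP1 hPtop
    have hHX : H ≤ X := le_normalizer_sylOf hnil
    have hHallX : (Nat.card H).Coprime (H.relIndex X) := by
      apply Nat.Coprime.coprime_dvd_right _ hHall
      exact Dvd.intro _ (Subgroup.relIndex_mul_index hHX)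
    obtain ⟨n, hn, hnx⟩ := control_in (Nat.card X) X rfl H hHX hnil hHallX
      (fun C hC q hq => by
        haveI : Fact q.Prime := ⟨hq⟩
        apply Cfsg.Agent.S1410.result hG q C
        intro h
        exact hXtop (top_le_iff.mp (h ▸ hC)))
      x hx g₂ hg₂n (by rw [hg₂x]; exact hgx)
    exact ⟨n, hn.2, by rw [hnx, hg₂x]⟩

end Cfsg.Agent.Lib.Helper23.NilHall
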