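import Mathlib

namespace Cfsg.Agent.Lib.Helper23.NineDihedral

theorem add_self_zmod_two {M : Type*} [AddCommGroup M] [Module (ZMod 2) M] (m : M) : m + m = 0 := by
  have h : (2 : ZMod 2) = 0 := by decide
  rw [← two_smul (ZMod 2) m, h, zero_smul]

theorem eq_of_add_eq_zero_zmod_two {M : Type*} [AddCommGroup M] [Module (ZMod 2) M] {x y : M}
    (h : x + y = 0) : x = y := by
  have := add_self_zmod_two y
  have h2 : x + y = y + y := by rw [h, this]
  exact add_right_cancel h2

theorem zmod_two_cases : ∀ x : ZMod 2, x = 0 ∨ x = 1 := by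
  decide

/-- invariance under generators implies invariance under the whole (finite) group -/
theorem invariant_of_closure {S M : Type*} [Group S] [Finite S] [AddCommGroup M] [Module (ZMod 2) M]
    (ρ : Representation (ZMod 2) S M) (N : Submodule (ZMod 2) M) (gens : Set S)
    (hgen : Subgroup.closure gens = ⊤) (h : ∀ g ∈ gens, ∀ m ∈ N, ρ g m ∈ N) :
    ∀ s : S, ∀ m ∈ N, ρ s m ∈ N := by
  intro s
  have hs : s ∈ Submonoid.closure gens := by
    rw [← Subgroup.closure_toSubmonoid_of_finite, hgen]; trivial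
  induction hs using Submonoid.closure_induction with
  | mem x hx => exact h x hx
  | one => intro m hm; simpa using hm
  | mul x y _ _ hx hy =>
    intro m hm
    rw [map_mul]
    exact hx _ (hy _ hm)

/-- coordinates -/
def amat (c : Fin 4 → ZMod 2) : Fin 4 → ZMod 2 := ![c 0, c 1, c 3, c 2 + c 3]
def bmat (c : Fin 4 → ZMod 2) : Fin 4 → ZMod 2 := ![c 1, c 0 + c 1, c 2, c 3]
def t1mat (c : Fin 4 → ZMod 2) : Fin 4 → ZMod 2 := ![c 0 + c 1, c 1, c 2, c 3]
def t2mat (c : Fin 4 → ZMod 2) : Fin 4 → ZMod 2 := ![c 2, c 3, c 0, c 1]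
def zmat (c : Fin 4 → ZMod 2) : Fin 4 → ZMod 2 := ![c 0 + c 1, c 1, c 2 + c 3, c 3]

theorem card_fix_t1z : Nat.card {c : Fin 4 → ZMod 2 // t1mat c = c ∧ zmat c = c} = 4 := by
  rw [Nat.card_eq_fintype_card, Fintype.card_subtype]
  decide

theorem card_fix_t2z : Nat.card {c : Fin 4 → ZMod 2 // t2mat c = c ∧ zmat c = c} = 2 := by
  rw [Nat.card_eq_fintype_card, Fintype.card_subtype]
  decide

/-- a nonzero fixed point of an involution on an invariant "property" -/
theorem exists_fixed_of_involution {M : Type*} [AddCommGroup M] [Module (ZMod 2) M]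
    (σ : M →ₗ[ZMod 2] M) (hσ : ∀ m, σ (σ m) = m) (P : M → Prop)
    (hadd : ∀ x y, P x → P y → P (x + y)) (hP : ∀ m, P m → P (σ m))
    (m : M) (hm : m ≠ 0) (hPm : P m) : ∃ m' : M, m' ≠ 0 ∧ P m' ∧ σ m' = m' := by
  by_cases h : m + σ m = 0
  · refine ⟨m, hm, hPm, ?_⟩
    exact (eq_of_add_eq_zero_zmod_two h).symm
  · refine ⟨m + σ m, h, hadd _ _ hPm (hP _ hPm), ?_⟩
    rw [map_add, hσ, add_comm]

set_option maxHeartbeats 1000000 in
theorem lemmaL {S : Type*} {M : Type*} [Group S] [Finite S] [AddCommGroup M] [Module (ZMod 2) M]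
    [Finite M]
    (ρ : Representation (ZMod 2) S M) (hM : Nontrivial M)
    (a b t1 t2 z : S)
    (ha : a * a * a = 1) (hb : b * b * b = 1) (hab : a * b = b * a)
    (ht1 : t1 * t1 = 1) (ht2 : t2 * t2 = 1) (hz : z * z = 1)
    (hzt1 : z * t1 = t1 * z) (hzt2 : z * t2 = t2 * z) (h12 : t1 * t2 = t2 * z * t1)
    (h1a : t1 * a = a * t1) (h1b : t1 * b = b * b * t1) (h2a : t2 * a = b * t2)
    (h2b : t2 * b = a * t2)
    (hza : z * a = a * a * z) (hzb : z * b = b * b * z)
    (hgen : Subgroup.closure {a, b, t1, t2} = ⊤)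
    (hirr : ∀ N : Submodule (ZMod 2) M, (∀ s : S, ∀ m ∈ N, ρ s m ∈ N) → N = ⊥ ∨ N = ⊤)
    (hfix : ∀ m, ρ a m = m → ρ b m = m → m = 0)
    (hspan : ∀ m, ∃ u v, ρ a u = u ∧ ρ b v = v ∧ m = u + v) :
    Nat.card M = 16 ∧ Nat.card {m : M // ρ t1 m = m ∧ ρ z m = m} = 4 ∧
      Nat.card {m : M // ρ t2 m = m ∧ ρ z m = m} = 2 := by
  -- operator relations
  have rel : ∀ {x y : S}, x = y → ∀ m, ρ x m = ρ y m := fun h m => by rw [h]
  have A3 : ∀ m, ρ a (ρ a (ρ a m)) = m := fun m => by
    simpa [map_mul] using rel ha m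
  have B3 : ∀ m, ρ b (ρ b (ρ b m)) = m := fun m => by
    simpa [map_mul] using rel hb m
  have AB : ∀ m, ρ a (ρ b m) = ρ b (ρ a m) := fun m => by
    simpa [map_mul] using rel hab m
  have T1sq : ∀ m, ρ t1 (ρ t1 m) = m := fun m => by
    simpa [map_mul] using rel ht1 m
  have T2sq : ∀ m, ρ t2 (ρ t2 m) = m := fun m => by
    simpa [map_mul] using rel ht2 m
  have Zsq : ∀ m, ρ z (ρ z m) = m := fun m => by
    simpa [map_mul] using rel hz m
  have ZT1 : ∀ m, ρ z (ρ t1 m) = ρ t1 (ρ z m) := fun m => by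
    simpa [map_mul] using rel hzt1 m
  have ZT2 : ∀ m, ρ z (ρ t2 m) = ρ t2 (ρ z m) := fun m => by
    simpa [map_mul] using rel hzt2 m
  have T12 : ∀ m, ρ t1 (ρ t2 m) = ρ t2 (ρ z (ρ t1 m)) := fun m => by
    simpa [map_mul] using rel h12 m
  have T1A : ∀ m, ρ t1 (ρ a m) = ρ a (ρ t1 m) := fun m => by
    simpa [map_mul] using rel h1a m
  have T1B : ∀ m, ρ t1 (ρ b m) = ρ b (ρ b (ρ t1 m)) := fun m => by
    simpa [map_mul] using rel h1b m
  have T2A : ∀ m, ρ t2 (ρ a m) = ρ b (ρ t2 m) := fun m => by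
    simpa [map_mul] using rel h2a m
  have T2B : ∀ m, ρ t2 (ρ b m) = ρ a (ρ t2 m) := fun m => by
    simpa [map_mul] using rel h2b m
  have ZA : ∀ m, ρ z (ρ a m) = ρ a (ρ a (ρ z m)) := fun m => by
    simpa [map_mul] using rel hza m
  have ZB : ∀ m, ρ z (ρ b m) = ρ b (ρ b (ρ z m)) := fun m => by
    simpa [map_mul] using rel hzb m
  -- injectivity
  have injOf : ∀ (σ : M →ₗ[ZMod 2] M), (∀ m, σ (σ m) = m) → ∀ m, σ m = 0 → m = 0 := by
    intro σ h m hm
    have := h m
    rw [hm, map_zero] at this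
    exact this.symm
  have Ainj : ∀ m, ρ a m = 0 → m = 0 := by
    intro m hm
    have := A3 m
    rw [hm, map_zero, map_zero] at this
    exact this.symm
  have Binj : ∀ m, ρ b m = 0 → m = 0 := by
    intro m hm
    have := B3 m
    rw [hm, map_zero, map_zero] at this
    exact this.symm
  -- trace relations
  have trA : ∀ m, ρ b m = m → m + ρ a m + ρ a (ρ a m) = 0 := by
    intro m hm
    apply hfix
    · rw [map_add, map_add, A3]; abel
    · rw [map_add, map_add, ← AB, ← AB, ← AB, hm]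
  have trB : ∀ m, ρ a m = m → m + ρ b m + ρ b (ρ b m) = 0 := by
    intro m hm
    apply hfix
    · rw [map_add, map_add, AB, AB, AB, hm]
    · rw [map_add, map_add, B3]; abel
  -- Step 1: nonzero a-fixed vector
  obtain ⟨m, hm0, hma⟩ : ∃ m : M, m ≠ 0 ∧ ρ a m = m := by
    obtain ⟨x, hx⟩ := exists_ne (0 : M)
    obtain ⟨u, v, hu, hv, hxuv⟩ := hspan x
    by_cases hu0 : u = 0
    · refine ⟨ρ t2 v, ?_, ?_⟩
      · intro h
        have hv0 := injOf _ T2sq v h
        rw [hu0, hv0, add_zero] at hxuv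
        exact hx hxuv
      · rw [← T2B, hv]
    · exact ⟨u, hu0, hu⟩
  -- Step 3: common fixed vector
  have ZAfix : ∀ m, ρ a m = m → ρ a (ρ z m) = ρ z m := by
    intro m hm
    have h1 := ZA m
    rw [hm] at h1
    have h2 := A3 (ρ z m)
    rw [← h1] at h2
    exact h2
  obtain ⟨m1, hm10, hm1a, hm1t⟩ := exists_fixed_of_involution (ρ t1) T1sq (fun m => ρ a m = m)
    (fun x y hx hy => by simp only [map_add]; rw [hx, hy])
    (fun m hm => by show ρ a (ρ t1 m) = ρ t1 m; rw [← T1A, hm]) m hm0 hma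
  obtain ⟨m0, hm00, ⟨hm0a, hm0t⟩, hm0z⟩ := exists_fixed_of_involution (ρ z) Zsq
    (fun m => ρ a m = m ∧ ρ t1 m = m)
    (fun x y hx hy => by simp only [map_add]; rw [hx.1, hy.1, hx.2, hy.2]; exact ⟨rfl, rfl⟩)
    (fun m hm => ⟨ZAfix m hm.1, by rw [← ZT1, hm.2]⟩) m1 hm10 ⟨hm1a, hm1t⟩
  -- the four vectors
  set p := ρ b m0 with hp
  set n0 := ρ t2 m0 with hn0
  set q := ρ a n0 with hq
  have hn0b : ρ b n0 = n0 := by rw [hn0, ← T2A, hm0a]
  have hpa : ρ a p = p := by rw [hp, AB, hm0a]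
  have hqb : ρ b q = q := by rw [hq, ← AB, hn0b]
  have hbp : ρ b p = m0 + p := by
    have := trB m0 hm0a
    rw [← hp] at this
    exact eq_of_add_eq_zero_zmod_two (by rw [← this]; abel)
  have haq : ρ a q = n0 + q := by
    have := trA n0 hn0b
    rw [← hq] at this
    exact eq_of_add_eq_zero_zmod_two (by rw [← this]; abel)
  have ht1p : ρ t1 p = m0 + p := by rw [hp, T1B, hm0t, ← hp, hbp]
  have ht1n : ρ t1 n0 = n0 := by rw [hn0, T12, hm0t, hm0z]
  have ht1q : ρ t1 q = q := by rw [hq, T1A, ht1n]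
  have ht2n : ρ t2 n0 = m0 := by rw [hn0, T2sq]
  have ht2p : ρ t2 p = q := by rw [hp, T2B]
  have ht2q : ρ t2 q = p := by rw [hq, T2A, ht2n]
  have hzp : ρ z p = m0 + p := by rw [hp, ZB, hm0z, ← hp, hbp]
  have hzn : ρ z n0 = n0 := by rw [hn0, ZT2, hm0z]
  have hzq : ρ z q = n0 + q := by rw [hq, ZA, hzn, ← hq, haq]
  -- coordinates map
  let v : Fin 4 → M := ![m0, p, n0, q]
  let G : (Fin 4 → ZMod 2) →ₗ[ZMod 2] M := Fintype.linearCombination (ZMod 2) v
  have hG : ∀ c, G c = c 0 • m0 + c 1 • p + c 2 • n0 + c 3 • q := by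
    intro c
    simp [G, v, Fintype.linearCombination_apply, Fin.sum_univ_four]
  have hGa : ∀ c, ρ a (G c) = G (amat c) := by
    intro c
    simp only [hG, map_add, map_smul, hm0a, hpa, haq, amat]
    simp only [Matrix.cons_val_zero, Matrix.cons_val_one, Matrix.cons_val]
    rw [← hq]
    module
  have hGb : ∀ c, ρ b (G c) = G (bmat c) := by
    intro c
    simp only [hG, map_add, map_smul, hn0b, hqb, hbp, bmat]
    simp only [Matrix.cons_val_zero, Matrix.cons_val_one, Matrix.cons_val]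
    rw [← hp]
    module
  have hGt1 : ∀ c, ρ t1 (G c) = G (t1mat c) := by
    intro c
    simp only [hG, map_add, map_smul, hm0t, ht1p, ht1n, ht1q, t1mat]
    simp only [Matrix.cons_val_zero, Matrix.cons_val_one, Matrix.cons_val]
    module
  have hGt2 : ∀ c, ρ t2 (G c) = G (t2mat c) := by
    intro c
    simp only [hG, map_add, map_smul, ht2n, ht2p, ht2q, t2mat]
    simp only [Matrix.cons_val_zero, Matrix.cons_val_one, Matrix.cons_val]
    rw [← hn0]
    module
  have hGz : ∀ c, ρ z (G c) = G (zmat c) := by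
    intro c
    simp only [hG, map_add, map_smul, hm0z, hzp, hzn, hzq, zmat]
    simp only [Matrix.cons_val_zero, Matrix.cons_val_one, Matrix.cons_val]
    module
  -- W = range G invariant
  have hWinv : ∀ s : S, ∀ x ∈ LinearMap.range G, ρ s x ∈ LinearMap.range G := by
    apply invariant_of_closure ρ _ {a, b, t1, t2} hgen
    intro g hg x hx
    obtain ⟨c, rfl⟩ := hx
    simp only [Set.mem_insert_iff, Set.mem_singleton_iff] at hg
    rcases hg with rfl | rfl | rfl | rfl
    · exact ⟨amat c, (hGa c).symm⟩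
    · exact ⟨bmat c, (hGb c).symm⟩
    · exact ⟨t1mat c, (hGt1 c).symm⟩
    · exact ⟨t2mat c, (hGt2 c).symm⟩
  have hWtop : LinearMap.range G = ⊤ := by
    rcases hirr _ hWinv with h | h
    · exfalso
      have hmem : m0 ∈ LinearMap.range G := ⟨![1, 0, 0, 0], by simp [hG]⟩
      rw [h] at hmem
      exact hm00 ((Submodule.mem_bot _).1 hmem)
    · exact h
  have hsurj : Function.Surjective G := LinearMap.range_eq_top.1 hWtop
  have hn00 : n0 ≠ 0 := fun h => hm00 (injOf _ T2sq m0 h)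
  have hinj : Function.Injective G := by
    rw [← LinearMap.ker_eq_bot, LinearMap.ker_eq_bot']
    intro c hc
    rw [hG] at hc
    have huw : c 0 • m0 + c 1 • p = c 2 • n0 + c 3 • q :=
      eq_of_add_eq_zero_zmod_two (by rw [← hc]; abel)
    have hu0 : c 0 • m0 + c 1 • p = 0 := by
      apply hfix
      · simp only [map_add, map_smul, hm0a, hpa]
      · rw [huw]; simp only [map_add, map_smul, hn0b, hqb]
    have hw0 : c 2 • n0 + c 3 • q = 0 := huw ▸ hu0
    have h01 : c 0 = 0 ∧ c 1 = 0 := by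
      rcases zmod_two_cases (c 0) with h0 | h0 <;> rcases zmod_two_cases (c 1) with h1 | h1
      · exact ⟨h0, h1⟩
      · exfalso
        rw [h0, h1, zero_smul, one_smul, zero_add] at hu0
        exact hm00 (Binj m0 hu0)
      · exfalso
        rw [h0, h1, zero_smul, one_smul, add_zero] at hu0
        exact hm00 hu0
      · exfalso
        rw [h0, h1, one_smul, one_smul] at hu0
        have : m0 = p := eq_of_add_eq_zero_zmod_two hu0
        exact hm00 (hfix m0 hm0a this.symm)
    have h23 : c 2 = 0 ∧ c 3 = 0 := by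
      rcases zmod_two_cases (c 2) with h0 | h0 <;> rcases zmod_two_cases (c 3) with h1 | h1
      · exact ⟨h0, h1⟩
      · exfalso
        rw [h0, h1, zero_smul, one_smul, zero_add] at hw0
        exact hn00 (Ainj n0 hw0)
      · exfalso
        rw [h0, h1, zero_smul, one_smul, add_zero] at hw0
        exact hn00 hw0
      · exfalso
        rw [h0, h1, one_smul, one_smul] at hw0
        have : n0 = q := eq_of_add_eq_zero_zmod_two hw0
        exact hn00 (hfix n0 this.symm hn0b)
    funext i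
    fin_cases i
    · exact h01.1
    · exact h01.2
    · exact h23.1
    · exact h23.2
  let e : (Fin 4 → ZMod 2) ≃ M := Equiv.ofBijective G ⟨hinj, hsurj⟩
  have he : ∀ c, e c = G c := fun c => rfl
  refine ⟨?_, ?_, ?_⟩
  · rw [← Nat.card_congr e, Nat.card_eq_fintype_card]
    simp
  · refine ((Nat.card_congr (Equiv.subtypeEquiv e (fun c => ?_))).symm).trans card_fix_t1z
    rw [he, hGt1, hGz, hinj.eq_iff, hinj.eq_iff]
  · refine ((Nat.card_congr (Equiv.subtypeEquiv e (fun c => ?_))).symm).trans card_fix_t2z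
    rw [he, hGt2, hGz, hinj.eq_iff, hinj.eq_iff]

end Cfsg.Agent.Lib.Helper23.NineDihedral
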