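import Cfsg.Agent.Lib.Helper23.NineDihedralA

namespace Cfsg.Agent.Lib.Helper23.NineDihedral

set_option linter.unusedSimpArgs false
set_option linter.unusedVariables false

/-- fixed submodule of a group element -/
def fixSub {S M : Type*} [Group S] [AddCommGroup M] [Module (ZMod 2) M]
    (ρ : Representation (ZMod 2) S M) (g : S) : Submodule (ZMod 2) M := LinearMap.ker (ρ g - 1)

theorem mem_fixSub {S M : Type*} [Group S] [AddCommGroup M] [Module (ZMod 2) M]
    (ρ : Representation (ZMod 2) S M) (g : S) (m : M) : m ∈ fixSub ρ g ↔ ρ g m = m := by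
  simp [fixSub, LinearMap.mem_ker, sub_eq_zero]

/-- the four-line decomposition -/
theorem four_line_decomp {S M : Type*} [Group S] [AddCommGroup M] [Module (ZMod 2) M]
    (ρ : Representation (ZMod 2) S M) (a b : S)
    (ha : a * a * a = 1) (hb : b * b * b = 1) (hab : a * b = b * a)
    (hfix : ∀ m, ρ a m = m → ρ b m = m → m = 0) (m : M) :
    ∃ u v u' v', ρ a u = u ∧ ρ b v = v ∧ ρ (a * b) u' = u' ∧ ρ (a * b * b) v' = v' ∧
      m = (u + v) + (u' + v') := by
  have rel : ∀ {x y : S}, x = y → ∀ m, ρ x m = ρ y m := fun h m => by rw [h]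
  have A3 : ∀ m, ρ a (ρ a (ρ a m)) = m := fun m => by
    simpa [map_mul] using rel ha m
  have B3 : ∀ m, ρ b (ρ b (ρ b m)) = m := fun m => by
    simpa [map_mul] using rel hb m
  have BA : ∀ m, ρ b (ρ a m) = ρ a (ρ b m) := fun m => by
    simpa [map_mul] using (rel hab m).symm
  have hE : m + ρ a m + ρ a (ρ a m) + ρ b m + ρ a (ρ b m) + ρ a (ρ a (ρ b m)) + ρ b (ρ b m)
      + ρ a (ρ b (ρ b m)) + ρ a (ρ a (ρ b (ρ b m))) = 0 := by
    apply hfix
    · simp only [map_add, A3]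
      abel
    · simp only [map_add, BA, B3]
      abel
  refine ⟨m + ρ a m + ρ a (ρ a m), m + ρ b m + ρ b (ρ b m),
    m + ρ a (ρ b m) + ρ a (ρ a (ρ b (ρ b m))), m + ρ a (ρ b (ρ b m)) + ρ a (ρ a (ρ b m)),
    ?_, ?_, ?_, ?_, ?_⟩
  · simp only [map_add, A3]; abel
  · simp only [map_add, B3]; abel
  · simp only [map_mul, Module.End.mul_apply, map_add, BA, A3, B3]; abel
  · simp only [map_mul, Module.End.mul_apply, map_add, BA, A3, B3]; abel
  · have h2 := add_self_zmod_two m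
    have h3 : ρ a m + ρ a (ρ a m) + ρ b m + ρ a (ρ b m) + ρ a (ρ a (ρ b m)) + ρ b (ρ b m)
      + ρ a (ρ b (ρ b m)) + ρ a (ρ a (ρ b (ρ b m))) = m := by
      apply eq_of_add_eq_zero_zmod_two
      rw [← hE]; abel
    calc m = (m + m) + (m + m) + (ρ a m + ρ a (ρ a m) + ρ b m + ρ a (ρ b m) + ρ a (ρ a (ρ b m))
          + ρ b (ρ b m) + ρ a (ρ b (ρ b m)) + ρ a (ρ a (ρ b (ρ b m)))) := by
            rw [h2, h3, add_zero, zero_add]
      _ = _ := by abel

theorem swap_relations {S : Type*} [Group S] (a b t1 t2 z : S)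
    (ha : a * a * a = 1) (hb : b * b * b = 1) (hab : a * b = b * a)
    (ht1 : t1 * t1 = 1) (ht2 : t2 * t2 = 1) (hz : z * z = 1)
    (hzt1 : z * t1 = t1 * z) (hzt2 : z * t2 = t2 * z) (h12 : t1 * t2 = t2 * z * t1)
    (h1a : t1 * a = a * t1) (h1b : t1 * b = b * b * t1) (h2a : t2 * a = b * t2)
    (h2b : t2 * b = a * t2)
    (hza : z * a = a * a * z) (hzb : z * b = b * b * z) :
    (a * b) * (a * b) * (a * b) = 1 ∧ (a * b * b) * (a * b * b) * (a * b * b) = 1 ∧
    (a * b) * (a * b * b) = (a * b * b) * (a * b) ∧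
    t2 * t1 = t1 * z * t2 ∧
    t2 * (a * b) = (a * b) * t2 ∧ t2 * (a * b * b) = (a * b * b) * (a * b * b) * t2 ∧
    t1 * (a * b) = (a * b * b) * t1 ∧ t1 * (a * b * b) = (a * b) * t1 ∧
    z * (a * b) = (a * b) * (a * b) * z ∧ z * (a * b * b) = (a * b * b) * (a * b * b) * z ∧
    a = (a * b) * (a * b * b) * ((a * b) * (a * b * b)) ∧ b = a * a * (a * b) := by
  have R1 : ∀ w, t1 * (a * w) = a * (t1 * w) := fun w => by rw [← mul_assoc, h1a, mul_assoc]
  have R2 : ∀ w, t1 * (b * w) = b * (b * (t1 * w)) := fun w => by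
    rw [← mul_assoc, h1b, mul_assoc, mul_assoc]
  have R3 : ∀ w, t2 * (a * w) = b * (t2 * w) := fun w => by rw [← mul_assoc, h2a, mul_assoc]
  have R4 : ∀ w, t2 * (b * w) = a * (t2 * w) := fun w => by rw [← mul_assoc, h2b, mul_assoc]
  have R5 : ∀ w, z * (a * w) = a * (a * (z * w)) := fun w => by
    rw [← mul_assoc, hza, mul_assoc, mul_assoc]
  have R6 : ∀ w, z * (b * w) = b * (b * (z * w)) := fun w => by
    rw [← mul_assoc, hzb, mul_assoc, mul_assoc]
  have R7 : ∀ w, b * (a * w) = a * (b * w) := fun w => by rw [← mul_assoc, ← hab, mul_assoc]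
  have R7' : b * a = a * b := hab.symm
  have R8 : ∀ w, a * (a * (a * w)) = w := fun w => by
    rw [← mul_assoc, ← mul_assoc, ha, one_mul]
  have R8' : a * (a * a) = 1 := by rw [← mul_assoc, ha]
  have R9 : ∀ w, b * (b * (b * w)) = w := fun w => by
    rw [← mul_assoc, ← mul_assoc, hb, one_mul]
  have R9' : b * (b * b) = 1 := by rw [← mul_assoc, hb]
  have R2' : t1 * b = b * (b * t1) := by rw [h1b, mul_assoc]
  have R5' : z * a = a * (a * z) := by rw [hza, mul_assoc]
  have R6' : z * b = b * (b * z) := by rw [hzb, mul_assoc]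
  refine ⟨?_, ?_, ?_, ?_, ?_, ?_, ?_, ?_, ?_, ?_, ?_, ?_⟩
  · simp only [mul_assoc, one_mul, mul_one, R7, R7', R8, R8', R9, R9']
  · simp only [mul_assoc, one_mul, mul_one, R7, R7', R8, R8', R9, R9']
  · simp only [mul_assoc, one_mul, mul_one, R7, R7', R8, R8', R9, R9']
  · have h : t1 * (t1 * t2) = t1 * (t2 * z * t1) := by rw [h12]
    rw [← mul_assoc, ht1, one_mul] at h
    calc t2 * t1 = t1 * (t2 * z * t1) * t1 := by rw [← h]
      _ = t1 * (t2 * z) * (t1 * t1) := by simp only [mul_assoc]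
      _ = t1 * (t2 * z) := by rw [ht1, mul_one]
      _ = t1 * z * t2 := by rw [← hzt2, mul_assoc]
  · simp only [mul_assoc, one_mul, mul_one, R3, R4, h2a, h2b, R7, R7', R8, R8', R9, R9']
  · simp only [mul_assoc, one_mul, mul_one, R3, R4, h2a, h2b, R7, R7', R8, R8', R9, R9']
  · simp only [mul_assoc, one_mul, mul_one, R1, R2, h1a, R2', R7, R7', R8, R8', R9, R9']
  · simp only [mul_assoc, one_mul, mul_one, R1, R2, h1a, R2', R7, R7', R8, R8', R9, R9']
  · simp only [mul_assoc, one_mul, mul_one, R5, R6, R5', R6', R7, R7', R8, R8', R9, R9']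
  · simp only [mul_assoc, one_mul, mul_one, R5, R6, R5', R6', R7, R7', R8, R8', R9, R9']
  · simp only [mul_assoc, one_mul, mul_one, R7, R7', R8, R8', R9, R9']
  · simp only [mul_assoc, one_mul, mul_one, R7, R7', R8, R8', R9, R9']

set_option maxHeartbeats 1000000 in
theorem lemmaM {S : Type*} {M : Type*} [Group S] [Finite S] [AddCommGroup M] [Module (ZMod 2) M]
    [Finite M]
    (ρ : Representation (ZMod 2) S M) (hM : Nontrivial M)
    (a b t1 t2 z : S)
    (ha : a * a * a = 1) (hb : b * b * b = 1) (hab : a * b = b * a)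
    (ht1 : t1 * t1 = 1) (ht2 : t2 * t2 = 1) (hz : z * z = 1)
    (hzt1 : z * t1 = t1 * z) (hzt2 : z * t2 = t2 * z) (h12 : t1 * t2 = t2 * z * t1)
    (h1a : t1 * a = a * t1) (h1b : t1 * b = b * b * t1) (h2a : t2 * a = b * t2)
    (h2b : t2 * b = a * t2)
    (hza : z * a = a * a * z) (hzb : z * b = b * b * z)
    (hgen : Subgroup.closure {a, b, t1, t2} = ⊤)
    (hirr : ∀ N : Submodule (ZMod 2) M, (∀ s : S, ∀ m ∈ N, ρ s m ∈ N) → N = ⊥ ∨ N = ⊤)
    (hfix : ∀ m, ρ a m = m → ρ b m = m → m = 0) :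
    Nat.card M = 16 ∧
      ((Nat.card {m : M // ρ t1 m = m ∧ ρ z m = m} = 4 ∧
        Nat.card {m : M // ρ t2 m = m ∧ ρ z m = m} = 2) ∨
      (Nat.card {m : M // ρ t2 m = m ∧ ρ z m = m} = 4 ∧
        Nat.card {m : M // ρ t1 m = m ∧ ρ z m = m} = 2)) := by
  have rel : ∀ {x y : S}, x = y → ∀ m, ρ x m = ρ y m := fun h m => by rw [h]
  have A3 : ∀ m, ρ a (ρ a (ρ a m)) = m := fun m => by
    simpa [map_mul] using rel ha m
  have B3 : ∀ m, ρ b (ρ b (ρ b m)) = m := fun m => by
    simpa [map_mul] using rel hb m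
  have AB : ∀ m, ρ a (ρ b m) = ρ b (ρ a m) := fun m => by
    simpa [map_mul] using rel hab m
  have BA : ∀ m, ρ b (ρ a m) = ρ a (ρ b m) := fun m => (AB m).symm
  have T1A : ∀ m, ρ t1 (ρ a m) = ρ a (ρ t1 m) := fun m => by
    simpa [map_mul] using rel h1a m
  have T1B : ∀ m, ρ t1 (ρ b m) = ρ b (ρ b (ρ t1 m)) := fun m => by
    simpa [map_mul] using rel h1b m
  have T2A : ∀ m, ρ t2 (ρ a m) = ρ b (ρ t2 m) := fun m => by
    simpa [map_mul] using rel h2a m
  have T2B : ∀ m, ρ t2 (ρ b m) = ρ a (ρ t2 m) := fun m => by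
    simpa [map_mul] using rel h2b m
  have mAB : ∀ m, ρ (a * b) m = ρ a (ρ b m) := fun m => by
    simp only [map_mul, Module.End.mul_apply]
  have mABB : ∀ m, ρ (a * b * b) m = ρ a (ρ b (ρ b m)) := fun m => by
    simp only [map_mul, Module.End.mul_apply]
  set N1 : Submodule (ZMod 2) M := fixSub ρ a ⊔ fixSub ρ b with hN1
  set N2 : Submodule (ZMod 2) M := fixSub ρ (a * b) ⊔ fixSub ρ (a * b * b) with hN2
  have hN1inv : ∀ s : S, ∀ x ∈ N1, ρ s x ∈ N1 := by
    apply invariant_of_closure ρ _ {a, b, t1, t2} hgen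
    intro g hg x hx
    obtain ⟨u, hu, v, hv, rfl⟩ := Submodule.mem_sup.1 hx
    rw [mem_fixSub] at hu hv
    simp only [Set.mem_insert_iff, Set.mem_singleton_iff] at hg
    rw [map_add]
    rcases hg with rfl | rfl | rfl | rfl
    · refine Submodule.mem_sup.2 ⟨_, ?_, _, ?_, rfl⟩
      · rw [mem_fixSub, hu, hu]
      · rw [mem_fixSub, BA, hv]
    · refine Submodule.mem_sup.2 ⟨_, ?_, _, ?_, rfl⟩
      · rw [mem_fixSub, AB, hu]
      · rw [mem_fixSub, hv, hv]
    · refine Submodule.mem_sup.2 ⟨_, ?_, _, ?_, rfl⟩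
      · rw [mem_fixSub, ← T1A, hu]
      · rw [mem_fixSub]
        have h1 := T1B v
        rw [hv] at h1
        have h2 := B3 (ρ g v)
        rw [← h1] at h2
        exact h2
    · rw [add_comm]
      refine Submodule.mem_sup.2 ⟨_, ?_, _, ?_, rfl⟩
      · rw [mem_fixSub, ← T2B, hv]
      · rw [mem_fixSub, ← T2A, hu]
  have hN2inv : ∀ s : S, ∀ x ∈ N2, ρ s x ∈ N2 := by
    apply invariant_of_closure ρ _ {a, b, t1, t2} hgen
    intro g hg x hx
    obtain ⟨u, hu, v, hv, rfl⟩ := Submodule.mem_sup.1 hx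
    rw [mem_fixSub, mAB] at hu
    rw [mem_fixSub, mABB] at hv
    simp only [Set.mem_insert_iff, Set.mem_singleton_iff] at hg
    rw [map_add]
    rcases hg with rfl | rfl | rfl | rfl
    · refine Submodule.mem_sup.2 ⟨_, ?_, _, ?_, rfl⟩
      · rw [mem_fixSub, mAB, BA, hu]
      · rw [mem_fixSub, mABB, BA, BA, hv]
    · refine Submodule.mem_sup.2 ⟨_, ?_, _, ?_, rfl⟩
      · rw [mem_fixSub, mAB, AB, hu]
      · rw [mem_fixSub, mABB, AB, hv]
    · rw [add_comm]
      refine Submodule.mem_sup.2 ⟨_, ?_, _, ?_, rfl⟩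
      · rw [mem_fixSub, mAB]
        have h1 := congrArg (ρ g) hv
        rw [T1A, T1B, T1B, B3] at h1
        exact h1
      · rw [mem_fixSub, mABB, ← T1B, ← T1A, hu]
    · refine Submodule.mem_sup.2 ⟨_, ?_, _, ?_, rfl⟩
      · rw [mem_fixSub, mAB]
        have h1 := congrArg (ρ g) hu
        rw [T2A, T2B, BA] at h1
        exact h1
      · rw [mem_fixSub, mABB]
        have h1 := congrArg (ρ g) hv
        rw [T2A, T2B, T2B, BA, BA] at h1
        -- h1 : a a b X = X
        calc ρ a (ρ b (ρ b (ρ g v))) = ρ a (ρ b (ρ b (ρ a (ρ a (ρ b (ρ g v)))))) := by rw [h1]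
          _ = ρ g v := by simp only [BA, A3, B3]
  have hsup : N1 ⊔ N2 = ⊤ := by
    rw [eq_top_iff]
    intro m _
    obtain ⟨u, v, u', v', hu, hv, hu', hv', rfl⟩ := four_line_decomp ρ a b ha hb hab hfix m
    refine Submodule.mem_sup.2 ⟨u + v, ?_, u' + v', ?_, rfl⟩
    · exact Submodule.mem_sup.2 ⟨u, (mem_fixSub ρ a u).2 hu, v, (mem_fixSub ρ b v).2 hv, rfl⟩
    · exact Submodule.mem_sup.2 ⟨u', (mem_fixSub ρ _ u').2 hu', v', (mem_fixSub ρ _ v').2 hv', rfl⟩
  have hor : N1 = ⊤ ∨ N2 = ⊤ := by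
    rcases hirr N1 hN1inv with h | h
    · right
      rw [h, bot_sup_eq] at hsup
      exact hsup
    · left; exact h
  rcases hor with h | h
  · -- orientation 1
    have hspan : ∀ m, ∃ u v, ρ a u = u ∧ ρ b v = v ∧ m = u + v := by
      intro m
      have hm : m ∈ N1 := by rw [h]; trivial
      obtain ⟨u, hu, v, hv, rfl⟩ := Submodule.mem_sup.1 hm
      exact ⟨u, v, (mem_fixSub ρ a u).1 hu, (mem_fixSub ρ b v).1 hv, rfl⟩
    obtain ⟨h16, h4, h2⟩ := lemmaL ρ hM a b t1 t2 z ha hb hab ht1 ht2 hz hzt1 hzt2 h12 h1a h1b h2a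
      h2b hza hzb hgen hirr hfix hspan
    exact ⟨h16, Or.inl ⟨h4, h2⟩⟩
  · -- orientation 2
    obtain ⟨ha', hb', hab', h12', h1a', h1b', h2a', h2b', hza', hzb', haexp, hbexp⟩ :=
      swap_relations a b t1 t2 z ha hb hab ht1 ht2 hz hzt1 hzt2 h12 h1a h1b h2a h2b hza hzb
    have hspan : ∀ m, ∃ u v, ρ (a * b) u = u ∧ ρ (a * b * b) v = v ∧ m = u + v := by
      intro m
      have hm : m ∈ N2 := by rw [h]; trivial
      obtain ⟨u, hu, v, hv, rfl⟩ := Submodule.mem_sup.1 hm
      exact ⟨u, v, (mem_fixSub ρ _ u).1 hu, (mem_fixSub ρ _ v).1 hv, rfl⟩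
    have hgen' : Subgroup.closure {a * b, a * b * b, t2, t1} = ⊤ := by
      rw [eq_top_iff, ← hgen, Subgroup.closure_le]
      have hab_mem : a * b ∈ Subgroup.closure ({a * b, a * b * b, t2, t1} : Set S) :=
        Subgroup.subset_closure (by simp)
      have habb_mem : a * b * b ∈ Subgroup.closure ({a * b, a * b * b, t2, t1} : Set S) :=
        Subgroup.subset_closure (by simp)
      have ha_mem : a ∈ Subgroup.closure ({a * b, a * b * b, t2, t1} : Set S) := by
        have h' := mul_mem (mul_mem hab_mem habb_mem) (mul_mem hab_mem habb_mem)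
        rwa [← haexp] at h'
      have hb_mem : b ∈ Subgroup.closure ({a * b, a * b * b, t2, t1} : Set S) := by
        have h' := mul_mem (mul_mem ha_mem ha_mem) hab_mem
        rwa [← hbexp] at h'
      intro x hx
      simp only [Set.mem_insert_iff, Set.mem_singleton_iff] at hx
      rcases hx with hx | hx | hx | hx
      · rw [hx]; exact ha_mem
      · rw [hx]; exact hb_mem
      · rw [hx]; exact Subgroup.subset_closure (by simp)
      · rw [hx]; exact Subgroup.subset_closure (by simp)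
    have hfix' : ∀ m, ρ (a * b) m = m → ρ (a * b * b) m = m → m = 0 := by
      intro m h1 h2
      have hma : ρ a m = m := by
        have e1 : ρ ((a * b) * (a * b * b)) m = m := by
          rw [map_mul, Module.End.mul_apply, h2, h1]
        have : ρ ((a * b) * (a * b * b) * ((a * b) * (a * b * b))) m = m := by
          rw [map_mul, Module.End.mul_apply, e1, e1]
        rw [← haexp] at this
        exact this
      have hmb : ρ b m = m := by
        have : ρ (a * a * (a * b)) m = m := by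
          rw [map_mul, Module.End.mul_apply, h1, map_mul, Module.End.mul_apply, hma, hma]
        rw [← hbexp] at this
        exact this
      exact hfix m hma hmb
    obtain ⟨h16, h4, h2⟩ := lemmaL ρ hM (a * b) (a * b * b) t2 t1 z ha' hb' hab' ht2 ht1 hz hzt2 hzt1
      h12' h1a' h1b' h2a' h2b' hza' hzb' hgen' hirr hfix' hspan
    exact ⟨h16, Or.inr ⟨h4, h2⟩⟩

end Cfsg.Agent.Lib.Helper23.NineDihedral
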