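import Cfsg.Agent.Lib.Helper23.NineDihedralB

namespace Cfsg.Agent.Lib.Helper23.NineDihedral

set_option linter.unusedSimpArgs false
set_option linter.unusedVariables false


theorem exists_eigen {A0 : Type*} [Group A0] (hcomm : ∀ x y : A0, x * y = y * x)
    (τ1 ζ τ2 : MulAut A0)
    (h3 : ∀ c : A0, c * c * c = 1)
    (hτ1 : ∀ c, τ1 (τ1 c) = c) (hζ : ∀ c, ζ (ζ c) = c) (hτ2 : ∀ c, τ2 (τ2 c) = c)
    (hc1 : ∀ c, ζ (τ1 c) = τ1 (ζ c)) (hc2 : ∀ c, ζ (τ2 c) = τ2 (ζ c))
    (h12 : ∀ c, τ1 (τ2 c) = τ2 (ζ (τ1 c)))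
    (hζne : ∃ c, ζ c ≠ c) :
    ∃ a : A0, a ≠ 1 ∧ τ1 a = a ∧ ζ a = a⁻¹ ∧ τ1 (τ2 a) = (τ2 a)⁻¹ ∧ ζ (τ2 a) = (τ2 a)⁻¹ := by
  have : Std.Commutative (fun x y : A0 => x * y) := ⟨hcomm⟩
  suffices hs : ∃ a : A0, a ≠ 1 ∧ τ1 a = a ∧ ζ a = a⁻¹ by
    obtain ⟨a, ha1, hat, haz⟩ := hs
    refine ⟨a, ha1, hat, haz, ?_, ?_⟩
    · rw [h12, hat, haz, map_inv]
    · rw [hc2, haz, map_inv]
  by_contra H
  push Not at H
  have H' : ∀ a : A0, τ1 a = a → ζ a = a⁻¹ → a = 1 := by
    intro a h1 h2
    by_contra hne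
    exact H a hne h1 h2
  obtain ⟨c, hc⟩ := hζne
  apply hc
  have hp : c * τ1 c * (ζ c)⁻¹ * (τ1 (ζ c))⁻¹ = 1 := by
    apply H'
    · simp only [map_mul, map_inv, hτ1]
      ac_rfl
    · simp only [map_mul, map_inv, hζ, hc1, mul_inv_rev, inv_inv]
      ac_rfl
  have hq : c * (τ1 c)⁻¹ * (ζ c)⁻¹ * τ1 (ζ c) = 1 := by
    have hq1 : τ1 (c * (τ1 c)⁻¹ * (ζ c)⁻¹ * τ1 (ζ c)) = (c * (τ1 c)⁻¹ * (ζ c)⁻¹ * τ1 (ζ c))⁻¹ := by
      simp only [map_mul, map_inv, hτ1, mul_inv_rev, inv_inv]
      ac_rfl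
    have hq2 : ζ (c * (τ1 c)⁻¹ * (ζ c)⁻¹ * τ1 (ζ c)) = (c * (τ1 c)⁻¹ * (ζ c)⁻¹ * τ1 (ζ c))⁻¹ := by
      simp only [map_mul, map_inv, hζ, hc1, mul_inv_rev, inv_inv]
      ac_rfl
    set q := c * (τ1 c)⁻¹ * (ζ c)⁻¹ * τ1 (ζ c) with hqdef
    have hq' : τ2 q = 1 := by
      apply H'
      · rw [h12, hq1, map_inv, hq2, inv_inv]
      · rw [hc2, hq2, map_inv]
    have := congrArg τ2 hq'
    rw [hτ2, map_one] at this
    exact this
  have h2 : c * c = ζ c * ζ c := by
    have : (c * τ1 c * (ζ c)⁻¹ * (τ1 (ζ c))⁻¹) * (c * (τ1 c)⁻¹ * (ζ c)⁻¹ * τ1 (ζ c)) = 1 := by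
      rw [hp, hq, one_mul]
    have h' : (c * c) * (ζ c * ζ c)⁻¹ = 1 := by
      rw [← this]
      simp only [mul_inv_rev]
      have e1 : τ1 c * (τ1 c)⁻¹ = 1 := mul_inv_cancel _
      have e2 : (τ1 (ζ c))⁻¹ * τ1 (ζ c) = 1 := inv_mul_cancel _
      calc c * c * ((ζ c)⁻¹ * (ζ c)⁻¹) = c * c * ((ζ c)⁻¹ * (ζ c)⁻¹) * (τ1 c * (τ1 c)⁻¹) *
            ((τ1 (ζ c))⁻¹ * τ1 (ζ c)) := by rw [e1, e2, mul_one, mul_one]
        _ = _ := by ac_rfl
    exact mul_inv_eq_one.1 h'
  have h4 : ∀ x : A0, x = (x * x) * (x * x) := by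
    intro x
    have := h3 x
    calc x = x * 1 := (mul_one x).symm
      _ = x * (x * x * x) := by rw [this]
      _ = _ := by ac_rfl
  rw [h4 (ζ c), ← h2, ← h4 c]


open DihedralGroup



theorem d4_rel : (sr 0 * sr 0 : DihedralGroup 4) = 1 ∧ (sr 1 * sr 1 : DihedralGroup 4) = 1 ∧
    (r 2 * r 2 : DihedralGroup 4) = 1 ∧ (r 2 * sr 0 : DihedralGroup 4) = sr 0 * r 2 ∧
    (r 2 * sr 1 : DihedralGroup 4) = sr 1 * r 2 ∧
    (sr 0 * sr 1 : DihedralGroup 4) = sr 1 * r 2 * sr 0 ∧ (r 2 : DihedralGroup 4) ≠ 1 := by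
  decide

theorem d4_exp : ∀ y : DihedralGroup 4, y * y * y * y = 1 := by decide

theorem d4_gen : ∀ y : DihedralGroup 4, ∃ i : Fin 4, ∃ j : Fin 2,
    y = (sr 0 * sr 1) ^ (i : ℕ) * (sr 0) ^ (j : ℕ) := by decide

def inC1 (y : DihedralGroup 4) : Prop := y = r 0 ∨ y = r 2 ∨ y = sr 0 ∨ y = sr 2
def inC2 (y : DihedralGroup 4) : Prop := y = r 0 ∨ y = r 2 ∨ y = sr 1 ∨ y = sr 3

instance : DecidablePred inC1 := fun y => by unfold inC1; infer_instance
instance : DecidablePred inC2 := fun y => by unfold inC2; infer_instance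

def C1 : Subgroup (DihedralGroup 4) where
  carrier := {y | inC1 y}
  mul_mem' := by
    have : ∀ a b : DihedralGroup 4, inC1 a → inC1 b → inC1 (a * b) := by decide
    intro a b ha hb; exact this a b ha hb
  one_mem' := by
    have : inC1 1 := by decide
    exact this
  inv_mem' := by
    have : ∀ a : DihedralGroup 4, inC1 a → inC1 a⁻¹ := by decide
    intro a ha; exact this a ha

def C2 : Subgroup (DihedralGroup 4) where
  carrier := {y | inC2 y}
  mul_mem' := by
    have : ∀ a b : DihedralGroup 4, inC2 a → inC2 b → inC2 (a * b) := by decide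
    intro a b ha hb; exact this a b ha hb
  one_mem' := by
    have : inC2 1 := by decide
    exact this
  inv_mem' := by
    have : ∀ a : DihedralGroup 4, inC2 a → inC2 a⁻¹ := by decide
    intro a ha; exact this a ha

theorem mem_C1 (y : DihedralGroup 4) : y ∈ C1 ↔ inC1 y := Iff.rfl
theorem mem_C2 (y : DihedralGroup 4) : y ∈ C2 ↔ inC2 y := Iff.rfl

instance : DecidablePred (· ∈ C1) := fun y => inferInstanceAs (Decidable (inC1 y))
instance : DecidablePred (· ∈ C2) := fun y => inferInstanceAs (Decidable (inC2 y))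

theorem card_C1 : Nat.card C1 = 4 := by
  rw [Nat.card_eq_fintype_card]
  decide

theorem card_C2 : Nat.card C2 = 4 := by
  rw [Nat.card_eq_fintype_card]
  decide

theorem d4_key : ∀ y1 y2 : DihedralGroup 4, y1 * y1 = 1 → y2 * y2 = 1 → (y1 * y2) * (y1 * y2) = 1 →
    (inC1 y1 ∧ inC1 y2) ∨ (inC2 y1 ∧ inC2 y2) := by decide

theorem d4_C1_sq : ∀ y : DihedralGroup 4, inC1 y → y * y = 1 := by decide
theorem d4_C2_sq : ∀ y : DihedralGroup 4, inC2 y → y * y = 1 := by decide

theorem d4_subgroups (B' : Subgroup (DihedralGroup 4)) (hcard : Nat.card B' = 4)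
    (hexp : ∀ y ∈ B', y * y = 1) : B' = C1 ∨ B' = C2 := by
  by_cases h : B' ≤ C1
  · left
    exact Subgroup.eq_of_le_of_card_ge h (by rw [card_C1, hcard])
  · right
    obtain ⟨y1, hy1, hy1'⟩ := SetLike.not_le_iff_exists.1 h
    have h2 : B' ≤ C2 := by
      intro y2 hy2
      rcases d4_key y1 y2 (hexp _ hy1) (hexp _ hy2) (hexp _ (mul_mem hy1 hy2)) with h' | h'
      · exact absurd h'.1 hy1'
      · exact h'.2
    exact Subgroup.eq_of_le_of_card_ge h2 (by rw [card_C2, hcard])


/-- the main theorem: `3^2 : D8` acting faithfully and irreducibly over `F_2`. -/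
theorem nine_dihedral_main {S : Type*} [Group S] [Finite S]
    (A : Subgroup S) [A.Normal] (hAc : IsMulCommutative A) (hA3 : ∀ a ∈ A, a ^ 3 = 1)
    (hA9 : Nat.card ↥A = 9)
    (hAC : Subgroup.centralizer (A : Set S) = A) (X : Subgroup S)
    (hX : Nonempty (↥X ≃* DihedralGroup 4)) (hAX : A ⊔ X = ⊤)
    {M : Type*} [AddCommGroup M] [Module (ZMod 2) M] [Finite M] (ρ : Representation (ZMod 2) S M)
    (hfaith : Function.Injective ρ)
    (hirr : ∀ N : Submodule (ZMod 2) M, (∀ s : S, ∀ m ∈ N, ρ s m ∈ N) → N = ⊥ ∨ N = ⊤)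
    (hM : Nontrivial M) :
    Nat.card M = 16 ∧
      ∃! B : Subgroup S, B ≤ X ∧ Nat.card ↥B = 4 ∧ (∀ b ∈ B, b ^ 2 = 1) ∧
        Nat.card {m : M // ∀ b ∈ B, ρ b m = m} = 2 := by
  obtain ⟨φ⟩ := hX
  let ψ : DihedralGroup 4 →* S := X.subtype.comp φ.symm.toMonoidHom
  have hψinj : Function.Injective ψ := X.subtype_injective.comp φ.symm.injective
  have hψX : ∀ y, ψ y ∈ X := fun y => (φ.symm y).2
  have hψsurj : ∀ x ∈ X, ∃ y, ψ y = x := fun x hx => ⟨φ ⟨x, hx⟩, by simp [ψ]⟩
  obtain ⟨d1, d2, d3, d4, d5, d6, d7⟩ := d4_rel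
  set t1 : S := ψ (sr 0) with ht1def
  set t2 : S := ψ (sr 1) with ht2def
  set z : S := ψ (r 2) with hzdef
  have ht1 : t1 * t1 = 1 := by rw [ht1def, ← map_mul, d1, map_one]
  have ht2 : t2 * t2 = 1 := by rw [ht2def, ← map_mul, d2, map_one]
  have hz : z * z = 1 := by rw [hzdef, ← map_mul, d3, map_one]
  have hzt1 : z * t1 = t1 * z := by rw [hzdef, ht1def, ← map_mul, d4, map_mul]
  have hzt2 : z * t2 = t2 * z := by rw [hzdef, ht2def, ← map_mul, d5, map_mul]
  have h12 : t1 * t2 = t2 * z * t1 := by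
    rw [hzdef, ht1def, ht2def, ← map_mul, d6, map_mul, map_mul]
  have hz1 : z ≠ 1 := by
    intro h
    apply d7
    apply hψinj
    rw [map_one]; exact h
  -- X ∩ A = 1
  have hXA : ∀ x, x ∈ X → x ∈ A → x = 1 := by
    intro x hxX hxA
    obtain ⟨y, rfl⟩ := hψsurj x hxX
    have h4 : ψ y * ψ y * ψ y * ψ y = 1 := by
      rw [← map_mul, ← map_mul, ← map_mul, d4_exp, map_one]
    have h3 : ψ y * ψ y * ψ y = 1 := by
      have := hA3 _ hxA
      rw [pow_succ, pow_two] at this
      exact this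
    rw [h3, one_mul] at h4
    exact h4
  -- the conjugation automorphisms
  have hcomm : ∀ x y : ↥A, x * y = y * x := fun x y => hAc.is_comm.comm x y
  have h3A : ∀ c : ↥A, c * c * c = 1 := by
    intro c
    apply Subtype.ext
    have := hA3 _ c.2
    rw [pow_succ, pow_two] at this
    simpa using this
  have hconj : ∀ (g h : S) (c : ↥A), (MulAut.conjNormal g : MulAut ↥A) (MulAut.conjNormal h c) =
      MulAut.conjNormal (g * h) c := by
    intro g h c
    rw [map_mul, MulAut.mul_apply]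
  have hτ1 : ∀ c : ↥A, (MulAut.conjNormal t1 : MulAut ↥A) (MulAut.conjNormal t1 c) = c := by
    intro c; rw [hconj, ht1, map_one, MulAut.one_apply]
  have hτ2 : ∀ c : ↥A, (MulAut.conjNormal t2 : MulAut ↥A) (MulAut.conjNormal t2 c) = c := by
    intro c; rw [hconj, ht2, map_one, MulAut.one_apply]
  have hζ : ∀ c : ↥A, (MulAut.conjNormal z : MulAut ↥A) (MulAut.conjNormal z c) = c := by
    intro c; rw [hconj, hz, map_one, MulAut.one_apply]
  have hc1 : ∀ c : ↥A, (MulAut.conjNormal z : MulAut ↥A) (MulAut.conjNormal t1 c) =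
      MulAut.conjNormal t1 (MulAut.conjNormal z c) := by
    intro c; rw [hconj, hconj, hzt1]
  have hc2 : ∀ c : ↥A, (MulAut.conjNormal z : MulAut ↥A) (MulAut.conjNormal t2 c) =
      MulAut.conjNormal t2 (MulAut.conjNormal z c) := by
    intro c; rw [hconj, hconj, hzt2]
  have hh12 : ∀ c : ↥A, (MulAut.conjNormal t1 : MulAut ↥A) (MulAut.conjNormal t2 c) =
      MulAut.conjNormal t2 (MulAut.conjNormal z (MulAut.conjNormal t1 c)) := by
    intro c; rw [hconj, hconj, hconj, h12, mul_assoc]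
  have hζne : ∃ c : ↥A, (MulAut.conjNormal z : MulAut ↥A) c ≠ c := by
    by_contra hcon
    push Not at hcon
    apply hz1
    apply hXA z (hψX _)
    rw [← hAC, Subgroup.mem_centralizer_iff]
    intro c hc
    have := congrArg Subtype.val (hcon ⟨c, hc⟩)
    rw [MulAut.conjNormal_apply] at this
    simp only at this
    -- this : z * c * z⁻¹ = c
    calc c * z = z * c * z⁻¹ * z := by rw [this]
      _ = z * c := by group
  obtain ⟨a0, ha01, ha0t, ha0z, hb0t, hb0z⟩ := exists_eigen hcomm (MulAut.conjNormal t1)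
    (MulAut.conjNormal z) (MulAut.conjNormal t2) h3A hτ1 hζ hτ2 hc1 hc2 hh12 hζne
  set b0 : ↥A := (MulAut.conjNormal t2 : MulAut ↥A) a0 with hb0def
  -- conversion to S-level relations
  have conv : ∀ (g : S) (x y : ↥A), (MulAut.conjNormal g : MulAut ↥A) x = y →
      g * (x : S) = (y : S) * g := by
    intro g x y h
    have := congrArg Subtype.val h
    rw [MulAut.conjNormal_apply] at this
    rw [← this]; group
  have hinvsq : ∀ c : ↥A, ((c⁻¹ : ↥A) : S) = (c : S) * (c : S) := by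
    intro c
    have := h3A c
    have h' : c⁻¹ = c * c := by
      rw [inv_eq_iff_mul_eq_one, ← mul_assoc]; exact this
    rw [h']; rfl
  set a : S := (a0 : S) with hadef
  set b : S := (b0 : S) with hbdef
  have ha : a * a * a = 1 := congrArg Subtype.val (h3A a0)
  have hb : b * b * b = 1 := congrArg Subtype.val (h3A b0)
  have hab : a * b = b * a := congrArg Subtype.val (hcomm a0 b0)
  have h1a : t1 * a = a * t1 := conv t1 a0 a0 ha0t
  have h1b : t1 * b = b * b * t1 := by
    have := conv t1 b0 b0⁻¹ hb0t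
    rw [hinvsq] at this
    exact this
  have h2a : t2 * a = b * t2 := conv t2 a0 b0 rfl
  have h2b : t2 * b = a * t2 := conv t2 b0 a0 (hτ2 a0)
  have hza : z * a = a * a * z := by
    have := conv z a0 a0⁻¹ ha0z
    rw [hinvsq] at this
    exact this
  have hzb : z * b = b * b * z := by
    have := conv z b0 b0⁻¹ hb0z
    rw [hinvsq] at this
    exact this
  have ha1 : a ≠ 1 := by
    intro h
    apply ha01
    apply Subtype.ext
    exact h
  have hb1 : b ≠ 1 := by
    intro h
    apply ha1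
    have h' : t2 * a = t2 := by rw [h2a, h, one_mul]
    exact mul_left_cancel (a := t2) (by rw [h', mul_one])
  -- closure {a, b} = A
  have hclAB : Subgroup.closure ({a, b} : Set S) = A := by
    have hle : Subgroup.closure ({a, b} : Set S) ≤ A := by
      rw [Subgroup.closure_le]
      intro x hx
      simp only [Set.mem_insert_iff, Set.mem_singleton_iff] at hx
      rcases hx with hx | hx
      · rw [hx]; exact a0.2
      · rw [hx]; exact b0.2
    have hza_le : Subgroup.zpowers a ≤ Subgroup.closure ({a, b} : Set S) := by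
      rw [Subgroup.zpowers_le]
      exact Subgroup.subset_closure (by simp)
    have hcardz : Nat.card (Subgroup.zpowers a) = 3 := by
      rw [Nat.card_zpowers]
      have : Fact (Nat.Prime 3) := ⟨by norm_num⟩
      exact orderOf_eq_prime (by rw [pow_succ, pow_two]; exact ha) ha1
    have hbnot : b ∉ Subgroup.zpowers a := by
      intro hmem
      obtain ⟨k, hk⟩ := Subgroup.mem_zpowers_iff.1 hmem
      have hcomm' : t1 * b = b * t1 := by
        rw [← hk]
        have : Commute t1 a := h1a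
        exact (this.zpow_right k)
      rw [h1b] at hcomm'
      have := mul_right_cancel hcomm'
      -- b * b = b
      apply hb1
      exact mul_left_cancel (a := b) (by rw [this, mul_one])
    have hd1 : Nat.card (Subgroup.zpowers a) ∣ Nat.card (Subgroup.closure ({a, b} : Set S)) :=
      Subgroup.card_dvd_of_le hza_le
    have hd2 : Nat.card (Subgroup.closure ({a, b} : Set S)) ∣ Nat.card A :=
      Subgroup.card_dvd_of_le hle
    rw [hcardz] at hd1
    rw [hA9] at hd2
    have hne3 : Nat.card (Subgroup.closure ({a, b} : Set S)) ≠ 3 := by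
      intro h3
      have := Subgroup.eq_of_le_of_card_ge hza_le (by rw [h3, hcardz])
      apply hbnot
      rw [this]
      exact Subgroup.subset_closure (by simp)
    have h9 : Nat.card (Subgroup.closure ({a, b} : Set S)) = 9 := by
      have hle9 : Nat.card (Subgroup.closure ({a, b} : Set S)) ≤ 9 := Nat.le_of_dvd (by norm_num) hd2
      interval_cases hcl : Nat.card (Subgroup.closure ({a, b} : Set S)) <;> omega
    exact Subgroup.eq_of_le_of_card_ge hle (by rw [h9, hA9])
  -- closure of the four generators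
  have hgen : Subgroup.closure ({a, b, t1, t2} : Set S) = ⊤ := by
    rw [eq_top_iff, ← hAX, sup_le_iff]
    constructor
    · rw [← hclAB]
      apply Subgroup.closure_mono
      intro x hx
      simp only [Set.mem_insert_iff, Set.mem_singleton_iff] at hx ⊢
      rcases hx with hx | hx
      · exact Or.inl hx
      · exact Or.inr (Or.inl hx)
    · intro x hx
      obtain ⟨y, rfl⟩ := hψsurj x hx
      obtain ⟨i, j, hy⟩ := d4_gen y
      rw [hy, map_mul, map_pow, map_pow, map_mul]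
      have m1 : t1 ∈ Subgroup.closure ({a, b, t1, t2} : Set S) :=
        Subgroup.subset_closure (by simp)
      have m2 : t2 ∈ Subgroup.closure ({a, b, t1, t2} : Set S) :=
        Subgroup.subset_closure (by simp)
      exact mul_mem (pow_mem (mul_mem m1 m2) _) (pow_mem m1 _)
  -- no fixed points of A
  have hfix : ∀ m, ρ a m = m → ρ b m = m → m = 0 := by
    let F : Submodule (ZMod 2) M :=
      { carrier := {m | ∀ c ∈ A, ρ c m = m}
        add_mem' := by
          intro x y hx hy c hc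
          rw [map_add, hx c hc, hy c hc]
        zero_mem' := by
          intro c _
          rw [map_zero]
        smul_mem' := by
          intro k x hx c hc
          rw [map_smul, hx c hc] }
    have hFinv : ∀ s : S, ∀ m ∈ F, ρ s m ∈ F := by
      intro s m hm c hc
      have hc' : s⁻¹ * c * s ∈ A := by
        have := ‹A.Normal›.conj_mem c hc s⁻¹
        simpa using this
      have e : c * s = s * (s⁻¹ * c * s) := by group
      calc ρ c (ρ s m) = ρ (c * s) m := by rw [map_mul, Module.End.mul_apply]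
        _ = ρ (s * (s⁻¹ * c * s)) m := by rw [e]
        _ = ρ s (ρ (s⁻¹ * c * s) m) := by rw [map_mul, Module.End.mul_apply]
        _ = ρ s m := by rw [hm _ hc']
    have hFbot : F = ⊥ := by
      rcases hirr F hFinv with h | h
      · exact h
      · exfalso
        apply ha1
        apply hfaith
        rw [map_one]
        ext m
        have hm : m ∈ F := by rw [h]; trivial
        rw [hm a a0.2]
        rfl
    intro m hma hmb
    have hmF : m ∈ F := by
      intro c hc
      rw [← hclAB] at hc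
      induction hc using Subgroup.closure_induction with
      | mem x hx =>
        simp only [Set.mem_insert_iff, Set.mem_singleton_iff] at hx
        rcases hx with hx | hx
        · rw [hx]; exact hma
        · rw [hx]; exact hmb
      | one => rw [map_one]; rfl
      | mul x y _ _ hx hy => rw [map_mul, Module.End.mul_apply, hy, hx]
      | inv x _ hx =>
        have : ρ x⁻¹ (ρ x m) = m := by
          rw [← Module.End.mul_apply, ← map_mul, inv_mul_cancel, map_one]; rfl
        rw [hx] at this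
        exact this
    rw [hFbot] at hmF
    exact (Submodule.mem_bot _).1 hmF
  obtain ⟨h16, hcases⟩ := lemmaM ρ hM a b t1 t2 z ha hb hab ht1 ht2 hz hzt1 hzt2 h12 h1a h1b h2a h2b
    hza hzb hgen hirr hfix
  refine ⟨h16, ?_⟩
  -- the two four-subgroups
  have hB1X : C1.map ψ ≤ X := by
    rintro _ ⟨y, _, rfl⟩; exact hψX y
  have hB2X : C2.map ψ ≤ X := by
    rintro _ ⟨y, _, rfl⟩; exact hψX y
  have hB1card : Nat.card (C1.map ψ) = 4 := by
    rw [Subgroup.card_map_of_injective hψinj, card_C1]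
  have hB2card : Nat.card (C2.map ψ) = 4 := by
    rw [Subgroup.card_map_of_injective hψinj, card_C2]
  have hB1exp : ∀ x ∈ C1.map ψ, x ^ 2 = 1 := by
    rintro _ ⟨y, hy, rfl⟩
    rw [pow_two, ← map_mul, d4_C1_sq y hy, map_one]
  have hB2exp : ∀ x ∈ C2.map ψ, x ^ 2 = 1 := by
    rintro _ ⟨y, hy, rfl⟩
    rw [pow_two, ← map_mul, d4_C2_sq y hy, map_one]
  have hsr2 : (sr 2 : DihedralGroup 4) = sr 0 * r 2 := by decide
  have hsr3 : (sr 3 : DihedralGroup 4) = sr 1 * r 2 := by decide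
  have hfixB1 : ∀ m : M, (∀ x ∈ C1.map ψ, ρ x m = m) ↔ (ρ t1 m = m ∧ ρ z m = m) := by
    intro m
    constructor
    · intro h
      exact ⟨h _ ⟨sr 0, Or.inr (Or.inr (Or.inl rfl)), rfl⟩, h _ ⟨r 2, Or.inr (Or.inl rfl), rfl⟩⟩
    · rintro ⟨h1, h2⟩ _ ⟨y, hy, rfl⟩
      rcases hy with hy | hy | hy | hy
      · rw [hy, show (r 0 : DihedralGroup 4) = 1 from rfl, map_one, map_one]; rfl
      · rw [hy]; exact h2
      · rw [hy]; exact h1
      · rw [hy, hsr2, map_mul, map_mul, Module.End.mul_apply]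
        show ρ t1 (ρ z m) = m
        rw [h2, h1]
  have hfixB2 : ∀ m : M, (∀ x ∈ C2.map ψ, ρ x m = m) ↔ (ρ t2 m = m ∧ ρ z m = m) := by
    intro m
    constructor
    · intro h
      exact ⟨h _ ⟨sr 1, Or.inr (Or.inr (Or.inl rfl)), rfl⟩, h _ ⟨r 2, Or.inr (Or.inl rfl), rfl⟩⟩
    · rintro ⟨h1, h2⟩ _ ⟨y, hy, rfl⟩
      rcases hy with hy | hy | hy | hy
      · rw [hy, show (r 0 : DihedralGroup 4) = 1 from rfl, map_one, map_one]; rfl
      · rw [hy]; exact h2
      · rw [hy]; exact h1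
      · rw [hy, hsr3, map_mul, map_mul, Module.End.mul_apply]
        show ρ t2 (ρ z m) = m
        rw [h2, h1]
  have hcardB1 : Nat.card {m : M // ∀ x ∈ C1.map ψ, ρ x m = m} =
      Nat.card {m : M // ρ t1 m = m ∧ ρ z m = m} :=
    Nat.card_congr (Equiv.subtypeEquivRight hfixB1)
  have hcardB2 : Nat.card {m : M // ∀ x ∈ C2.map ψ, ρ x m = m} =
      Nat.card {m : M // ρ t2 m = m ∧ ρ z m = m} :=
    Nat.card_congr (Equiv.subtypeEquivRight hfixB2)
  -- classification of admissible B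
  have hclass : ∀ B : Subgroup S, B ≤ X → Nat.card ↥B = 4 → (∀ x ∈ B, x ^ 2 = 1) →
      B = C1.map ψ ∨ B = C2.map ψ := by
    intro B hBX hB4 hBexp
    have hrange : B ≤ ψ.range := by
      intro x hx
      obtain ⟨y, hy⟩ := hψsurj x (hBX hx)
      exact ⟨y, hy⟩
    have hmap : (B.comap ψ).map ψ = B := Subgroup.map_comap_eq_self hrange
    have hcard' : Nat.card (B.comap ψ) = 4 := by
      rw [← Subgroup.card_map_of_injective hψinj, hmap, hB4]
    have hexp' : ∀ y ∈ B.comap ψ, y * y = 1 := by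
      intro y hy
      apply hψinj
      rw [map_mul, map_one, ← pow_two]
      exact hBexp _ hy
    rcases d4_subgroups _ hcard' hexp' with h | h
    · left; rw [← hmap, h]
    · right; rw [← hmap, h]
  rcases hcases with ⟨h4, h2⟩ | ⟨h4, h2⟩
  · refine ⟨C2.map ψ, ⟨hB2X, hB2card, hB2exp, by rw [hcardB2, h2]⟩, ?_⟩
    rintro B ⟨hBX, hB4, hBexp, hBfix⟩
    rcases hclass B hBX hB4 hBexp with h | h
    · exfalso
      rw [h, hcardB1, h4] at hBfix
      omega
    · exact h
  · refine ⟨C1.map ψ, ⟨hB1X, hB1card, hB1exp, by rw [hcardB1, h2]⟩, ?_⟩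
    rintro B ⟨hBX, hB4, hBexp, hBfix⟩
    rcases hclass B hBX hB4 hBexp with h | h
    · exact h
    · exfalso
      rw [h, hcardB2, h4] at hBfix
      omega

end Cfsg.Agent.Lib.Helper23.NineDihedral
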