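import Cfsg.Agent.Lib.Helper13.OSubG123
import Cfsg.Agent.Lib.Helper23.OSubX4c
import Cfsg.Agent.Lib.Helper23.OSubX6c

/-!
# S5683 leaves X4 and X6 (exact statements)
-/

set_option autoImplicit false
set_option linter.unusedSectionVars false
set_option linter.unusedVariables false

namespace Cfsg.Agent.Lib.Helper23.OSubLeaf
open Cfsg Matrix QuadraticMap Module Cfsg.Agent.Lib.Helper25.Siegel Cfsg.Agent.Lib.Helper19.OSub
open scoped commutatorElement

variable {ι : Type} [Fintype ι] [DecidableEq ι] {F : Type*} [Field F] [Fintype F]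
  {F₀ : Subfield F} {Q : QuadraticForm F (ι → F)} {M : Subgroup (GL ι F)}

/-- X4: a good involution of rank 4 inside the fixed space of `y` -/
theorem exists_ginv4 (h : QCtx F₀ Q) (h2 : (2 : F) ≠ 0) {y : GL ι F} (hy : RatInv F₀ Q y)
    (hk : finrank F (Eig y (-1)) ≤ 2) :
    ∃ t, GInv F₀ Q t ∧ t * y = y * t ∧ (∀ v, mv y v = -v → mv t v = v) ∧
      finrank F (Eig t (-1)) = 4 :=
  exists_ginv4_core h h2
    (fun hy h9 => Cfsg.Agent.Lib.Helper13.OSubLeaf.exists_frame_eig h h2 hy h9) hy hk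

/-- X6: a good involution of rank 6 inside the fixed space of `y` -/
theorem exists_ginv6 (h : QCtx F₀ Q) (h2 : (2 : F) ≠ 0) {y : GL ι F} (hy : RatInv F₀ Q y)
    (hk : finrank F (Eig y (-1)) ≤ 2) :
    ∃ t, GInv F₀ Q t ∧ t * y = y * t ∧ (∀ v, mv y v = -v → mv t v = v) ∧
      finrank F (Eig t (-1)) = 6 :=
  exists_ginv6_core h h2
    (fun hz h5 => Cfsg.Agent.Lib.Helper13.OSubLeaf.exists_pairs_eig h h2 hz (Or.inl rfl) h5)
    (fun hy h9 => Cfsg.Agent.Lib.Helper13.OSubLeaf.exists_frame_eig h h2 hy h9) hy hk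

end Cfsg.Agent.Lib.Helper23.OSubLeaf
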