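import Mathlib
import Cfsg.Agent.Lib.Helper2.SOTDefs
import Cfsg.Agent.Lib.Helper27.SOTLADefs
import Cfsg.Agent.Lib.Helper13.OTUCalc
import Cfsg.Agent.Lib.Helper13.OTLADefs
import Cfsg.Agent.Lib.Helper5.UOGDefs
import Cfsg.Agent.Lib.Helper1.SOTLAA7core

/-!
S5681 + S5709 PART (LA'), block EX (`notes/S5681_LA_exit_leaves.lean`): the exits `ExitS` / `ExitL` of helper13's
`OTLADefs` are helper5's `HasS` / `HasL`.  EXACT signatures.
-/

set_option autoImplicit false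
set_option linter.unusedSectionVars false
set_option linter.unusedVariables false

namespace Cfsg.Agent.Lib.Helper23.OTLALeaf
open Matrix
open Cfsg.Agent.Lib.Helper25.Tens Cfsg.Agent.Lib.Helper19.OSub
open Cfsg.Agent.Lib.Helper2.SOT Cfsg.Agent.Lib.Helper27.SOTLA Cfsg.Agent.Lib.Helper13.OTU
open Cfsg.Agent.Lib.Helper13.OTLA Cfsg.Agent.Lib.Helper5.UOG
open scoped Kronecker

variable {F : Type*} [Field F] [Fintype F] {a b : ℕ} {G₁ : Matrix (Fin a) (Fin a) F}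
  {G₂ : Matrix (Fin b) (Fin b) F} {o o' p p' : Fin b} {M : Subgroup (GL (Idx a b) F)}

/-- `G₂ e_o = e_p` for a symmetric adapted Gram matrix -/
theorem ex_mulVec_single_o (hs2 : G₂ᵀ = G₂) (hA : Adp G₂ o o' p p') :
    G₂ *ᵥ Pi.single o 1 = Pi.single p 1 := by
  ext k
  rw [Matrix.mulVec_single_one]
  have h1 : G₂ k o = G₂ o k := by
    have := congrFun (congrFun hs2 o) k
    rw [Matrix.transpose_apply] at this
    exact this
  show G₂ k o = _
  rw [h1, hA.row_o k]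
  by_cases hk : k = p
  · subst hk; simp
  · simp [hk]

/-- `G₂ e_o' = e_p'` -/
theorem ex_mulVec_single_o' (hs2 : G₂ᵀ = G₂) (hA : Adp G₂ o o' p p') :
    G₂ *ᵥ Pi.single o' 1 = Pi.single p' 1 := by
  ext k
  rw [Matrix.mulVec_single_one]
  have h1 : G₂ k o' = G₂ o' k := by
    have := congrFun (congrFun hs2 o') k
    rw [Matrix.transpose_apply] at this
    exact this
  show G₂ k o' = _
  rw [h1, hA.row_o' k]
  by_cases hk : k = p'
  · subst hk; simp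
  · simp [hk]

/-- `(x ⊗ e_k)(x' ⊗ e_l)ᵀ = x x'ᵀ ⊗ E_{k,l}` -/
theorem ex_vecMulVec_pt (x x' : Fin a → F) (k l : Fin b) :
    Matrix.vecMulVec (pt x (Pi.single k (1 : F))) (pt x' (Pi.single l (1 : F))) =
      (Matrix.vecMulVec x x') ⊗ₖ (Matrix.single k l (1 : F)) := by
  ext ⟨i, k'⟩ ⟨j, l'⟩
  simp only [Matrix.vecMulVec_apply, pt, Matrix.kroneckerMap_apply, Matrix.single_apply,
    Pi.single_apply]
  rcases eq_or_ne k' k with rfl | h1 <;> rcases eq_or_ne l' l with rfl | h2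
  · simp
  · simp [h2, h2.symm]
  · simp [h1, h1.symm]
  · simp [h1, h1.symm]

/-- (EX-1) -/
theorem rootM_S_eq (hs1 : G₁ᵀ = G₁) (hs2 : G₂ᵀ = G₂) (hn1 : G₁.det ≠ 0) (hA : Adp G₂ o o' p p') (x : Fin a → F) (c : F) :
    rootM (G₁ ⊗ₖ G₂ : Matrix (Idx a b) (Idx a b) F) (pt x (Pi.single o 1)) (pt x (Pi.single o' 1)) c =
      Zc G₁ o o' p p' 0 0 ((-c) • rk1 G₁ x x) := by
  unfold rootM Zc Zm
  rw [kron_mulVec_pt, kron_mulVec_pt, ex_mulVec_single_o hs2 hA, ex_mulVec_single_o' hs2 hA,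
    ex_vecMulVec_pt, ex_vecMulVec_pt, Cfsg.Agent.Lib.Helper1.SOTLALeaf.adjB_smul,
    Cfsg.Agent.Lib.Helper1.SOTLALeaf.adjB_rk1 hs1 hn1]
  unfold rk1
  ext ⟨i, k⟩ ⟨j, l⟩
  simp only [Matrix.add_apply, Matrix.smul_apply, Matrix.sub_apply, Matrix.kroneckerMap_apply,
    Matrix.zero_apply, Matrix.neg_apply, smul_eq_mul, zero_mul, add_zero]
  ring

/-- (EX-2) -/
theorem rootM_L_eq (hs2 : G₂ᵀ = G₂) (hn1 : G₁.det ≠ 0) (hA : Adp G₂ o o' p p') (d e : Fin a → F) (c : F) :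
    rootM (G₁ ⊗ₖ G₂ : Matrix (Idx a b) (Idx a b) F) (pt d (Pi.single o 1)) (pt e (Pi.single o 1)) c =
      Zc G₁ o o' p p' (c • wdg G₁ e d) 0 0 := by
  have hz : adjB G₁ (0 : Matrix (Fin a) (Fin a) F) = 0 := by
    unfold adjB
    simp
  unfold rootM Zc Zm
  rw [kron_mulVec_pt, kron_mulVec_pt, ex_mulVec_single_o hs2 hA,
    ex_vecMulVec_pt, ex_vecMulVec_pt, hz]
  unfold wdg rk1
  ext ⟨i, k⟩ ⟨j, l⟩
  simp only [Matrix.add_apply, Matrix.smul_apply, Matrix.sub_apply, Matrix.kroneckerMap_apply,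
    Matrix.zero_apply, smul_eq_mul, zero_mul, add_zero, neg_zero]
  ring

/-- (EX-3) -/
theorem hasS_of_exitS (hs1 : G₁ᵀ = G₁) (hs2 : G₂ᵀ = G₂) (hn1 : G₁.det ≠ 0) (hA : Adp G₂ o o' p p')
    (h : ExitS G₁ o o' p p' M) : HasS G₁ G₂ M := by
  obtain ⟨z, hz0, hzz, hM⟩ := h
  have ho : fB G₂ (Pi.single o 1) (Pi.single o 1) = 0 := by
    unfold fB
    rw [ex_mulVec_single_o hs2 hA, single_dotProduct, one_mul, Pi.single_apply, if_neg hA.hop]
  have ho' : fB G₂ (Pi.single o' 1) (Pi.single o' 1) = 0 := by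
    unfold fB
    rw [ex_mulVec_single_o' hs2 hA, single_dotProduct, one_mul, Pi.single_apply, if_neg hA.ho'p']
  have hoo' : fB G₂ (Pi.single o 1) (Pi.single o' 1) = 0 := by
    unfold fB
    rw [ex_mulVec_single_o' hs2 hA, single_dotProduct, one_mul, Pi.single_apply, if_neg hA.hop']
  refine ⟨z, Pi.single o 1, Pi.single o' 1, hz0, hzz, ?_, ho, ho', hoo', ?_, ?_⟩
  · intro h0
    have := congrFun h0 o
    simp at this
  · intro t h0
    have := congrFun h0 o'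
    rw [Pi.smul_apply, Pi.single_apply, Pi.single_apply, if_pos rfl, if_neg hA.hoo'.symm,
      smul_zero] at this
    exact one_ne_zero this
  · intro c
    rw [rootM_S_eq hs1 hs2 hn1 hA]
    exact hM (-c)

/-- (EX-4) -/
theorem hasL_of_exitL (hs2 : G₂ᵀ = G₂) (hn1 : G₁.det ≠ 0) (hA : Adp G₂ o o' p p')
    (h : ExitL G₁ o o' p p' M) : HasL G₁ G₂ M := by
  obtain ⟨d, hdd, hM⟩ := h
  have ho : fB G₂ (Pi.single o 1) (Pi.single o 1) = 0 := by
    unfold fB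
    rw [ex_mulVec_single_o hs2 hA, single_dotProduct, one_mul, Pi.single_apply, if_neg hA.hop]
  refine ⟨d, Pi.single o 1, hdd, ?_, ho, ?_⟩
  · intro h0
    have := congrFun h0 o
    simp at this
  · intro e hde c
    rw [rootM_L_eq hs2 hn1 hA]
    exact hM e hde c

end Cfsg.Agent.Lib.Helper23.OTLALeaf
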