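/-
helper23: S2146 market "OM2", leaf C3 `exists_moves_three` (twin): `m = 4`, `U` a maximal totally singular subspace
through `x`: three translates of `U` under `G_x` through a common vector `u0 ∈ U ∖ {0, x}`.
-/
import Mathlib
import Cfsg.Agent.Lib.Helper11.Om2Tools
import Cfsg.Agent.Lib.Helper15.Om2GB
import Cfsg.Agent.Lib.Helper16.Om2C2a

set_option autoImplicit false

open Cfsg.Agent.Lib.Helper11.Om2 MulAction
open scoped Pointwise

namespace Cfsg.Agent.Lib.Helper23.Om2Leaf

variable {F V G : Type*} [Field F] [AddCommGroup V] [Module F V] [Group G] [DistribMulAction G V]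
  (S : Setting F V G)

/-- a translate of a finite set contained in the set is the whole set -/
theorem smul_set_eq_of_subset [Finite V] (g : G) (s : Set V) (h : g • s ⊆ s) : g • s = s :=
  Set.eq_of_subset_of_ncard_le h (by rw [Set.ncard_smul_set]) (Set.toFinite _)

/-- a finite set contained in a translate of itself is the translate -/
theorem smul_set_eq_of_superset [Finite V] (g : G) (s : Set V) (h : s ⊆ g • s) : g • s = s :=
  (Set.eq_of_subset_of_ncard_le h (by rw [Set.ncard_smul_set]) (Set.toFinite _)).symm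

/-- a totally singular subspace is totally isotropic -/
theorem B_eq_zero_of_ts {U : Submodule F V} (hts : ∀ u ∈ U, S.Q u = 0) {u u' : V} (hu : u ∈ U)
    (hu' : u' ∈ U) : S.B u u' = 0 := by
  have h := S.Q_add u u'
  rw [hts _ (U.add_mem hu hu'), hts u hu, hts u' hu', zero_add, zero_add] at h
  exact h.symm

/-- `sg a b` fixes a totally singular subspace containing `a, b` pointwise -/
theorem sg_smul_of_ts {U : Submodule F V} (hts : ∀ u ∈ U, S.Q u = 0) {a b z : V} (ha : a ∈ U)
    (hb : b ∈ U) (hz : z ∈ U) : S.sg a b • z = z :=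
  S.sg_smul_of_perp_perp (hts a ha) (B_eq_zero_of_ts S hts ha hb) (B_eq_zero_of_ts S hts ha hz)
    (B_eq_zero_of_ts S hts hb hz)

/-- `sg a b` stabilizes a totally singular subspace containing `a, b` -/
theorem sg_smul_set_of_ts [Finite V] {U : Submodule F V} (hts : ∀ u ∈ U, S.Q u = 0) {a b : V}
    (ha : a ∈ U) (hb : b ∈ U) : S.sg a b • (U : Set V) = U := by
  apply smul_set_eq_of_subset
  rintro _ ⟨z, hz, rfl⟩
  show S.sg a b • z ∈ (U : Set V)
  rw [sg_smul_of_ts S hts ha hb hz]
  exact hz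

/-- a totally singular subspace of order 16 in dimension 8 is its own perpendicular: a vector outside
it is not perpendicular to it -/
theorem exists_B_eq_one_of_not_mem [Finite V] (hV : Nat.card V = 2 ^ (2 * 4)) (U : Submodule F V)
    (hts : ∀ u ∈ U, S.Q u = 0) (hc : Nat.card U = 16) {v : V} (hv : v ∉ U) :
    ∃ a ∈ U, S.B v a = 1 := by
  by_contra hcon
  push Not at hcon
  have hperp : ∀ a ∈ U, S.B a v = 0 := by
    intro a ha
    rw [S.B_symm]
    exact S.eq_zero_of_ne_one (hcon a ha)
  have hle : U ≤ S.B.orthogonal U := by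
    intro u hu
    rw [S.mem_orthogonal]
    intro u' hu'
    exact B_eq_zero_of_ts S hts hu' hu
  have hcard := S.card_mul_card_orthogonal U
  rw [hV, hc] at hcard
  have hc' : Nat.card (S.B.orthogonal U) = 16 := by
    have : (16 : ℕ) * Nat.card (S.B.orthogonal U) = 16 * 16 := by rw [hcard]; norm_num
    exact Nat.eq_of_mul_eq_mul_left (by norm_num) this
  have heq : (U : Set V) = (S.B.orthogonal U : Set V) := by
    apply Set.eq_of_subset_of_ncard_le hle _ (Set.toFinite _)
    rw [← Nat.card_coe_set_eq, ← Nat.card_coe_set_eq]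
    show Nat.card (S.B.orthogonal U) ≤ Nat.card U
    rw [hc', hc]
  have hvmem : v ∈ (S.B.orthogonal U : Set V) := by
    show v ∈ S.B.orthogonal U
    rw [S.mem_orthogonal]
    exact hperp
  rw [← heq] at hvmem
  exact hv hvmem

/-- the alternative at one vector `u0`: three translates through `u0`, or a translate `g1 • U` meeting
`U` in (at least) a hyperplane `U ∩ v^⊥` -/
theorem moves_three_or [Finite V] (hV : Nat.card V = 2 ^ (2 * 4)) {x : V}
    (hx0 : x ≠ 0) (hx : S.Q x = 0) (U : Submodule F V) (hxU : x ∈ U) (hts : ∀ u ∈ U, S.Q u = 0)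
    (hc : Nat.card U = 16) {u0 : V} (hu0U : u0 ∈ U) (hu00 : u0 ≠ 0) (hu0x : u0 ≠ x) :
    (∃ g : Fin 3 → G, (∀ i, g i • x = x) ∧ (∀ i, u0 ∈ g i • (U : Set V)) ∧
        Function.Injective (fun i => g i • (U : Set V))) ∨
    (∃ g1 : G, g1 • x = x ∧ g1 • u0 = u0 ∧ g1 • (U : Set V) ≠ U ∧
        ∃ v : V, ∀ b ∈ U, S.B v b = 0 → b ∈ g1 • (U : Set V)) := by
  classical
  have hU : ∀ u ∈ U, S.B x u = 0 := fun u hu => B_eq_zero_of_ts S hts hxU hu
  obtain ⟨g, hgx, hgu, hginj⟩ := Cfsg.Agent.Lib.Helper16.Om2Leaf.exists_moves_two S hV (le_refl 4)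
    hx0 hx U hxU hU (by rw [hc]; norm_num) (by rw [hc]; norm_num) hu0U hu00 hu0x
  obtain ⟨g1, hg1⟩ : ∃ g1 : G, g1 = (g 0)⁻¹ * g 1 := ⟨_, rfl⟩
  have hg1x : g1 • x = x := by
    rw [hg1, mul_smul, hgx 1, inv_smul_eq_iff, hgx 0]
  have hg1u : g1 • u0 = u0 := by
    rw [hg1, mul_smul, hgu 1, inv_smul_eq_iff, hgu 0]
  have hg1U : g1 • (U : Set V) ≠ U := by
    intro h
    have h01 : (0 : Fin 2) ≠ 1 := by decide
    apply h01
    apply hginj
    show g 0 • (U : Set V) = g 1 • (U : Set V)
    rw [hg1, mul_smul, inv_smul_eq_iff] at h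
    exact h.symm
  by_cases hA : ∃ a ∈ U, ∃ b ∈ U, S.sg a b • (g1 • (U : Set V)) ≠ g1 • (U : Set V)
  · left
    obtain ⟨a, ha, b, hb, hab⟩ := hA
    have hsx : S.sg a b • x = x := sg_smul_of_ts S hts ha hb hxU
    have hsu : S.sg a b • u0 = u0 := sg_smul_of_ts S hts ha hb hu0U
    have hsU : S.sg a b • (U : Set V) = U := sg_smul_set_of_ts S hts ha hb
    refine ⟨![1, g1, S.sg a b * g1], ?_, ?_, ?_⟩
    · intro i
      fin_cases i
      · show (1 : G) • x = x
        rw [one_smul]
      · show g1 • x = x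
        exact hg1x
      · show (S.sg a b * g1) • x = x
        rw [mul_smul, hg1x, hsx]
    · intro i
      fin_cases i
      · show u0 ∈ (1 : G) • (U : Set V)
        rw [one_smul]
        exact hu0U
      · show u0 ∈ g1 • (U : Set V)
        exact ⟨u0, hu0U, hg1u⟩
      · show u0 ∈ (S.sg a b * g1) • (U : Set V)
        refine ⟨u0, hu0U, ?_⟩
        show (S.sg a b * g1) • u0 = u0
        rw [mul_smul, hg1u, hsu]
    · have h01 : (1 : G) • (U : Set V) ≠ g1 • (U : Set V) := by
        rw [one_smul]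
        exact fun h => hg1U h.symm
      have h12 : g1 • (U : Set V) ≠ (S.sg a b * g1) • (U : Set V) := by
        rw [mul_smul]
        exact fun h => hab h.symm
      have h02 : (1 : G) • (U : Set V) ≠ (S.sg a b * g1) • (U : Set V) := by
        rw [one_smul, mul_smul]
        intro h
        apply hg1U
        have h2 : (S.sg a b)⁻¹ • (U : Set V) = g1 • (U : Set V) := by
          rw [inv_smul_eq_iff]
          exact h
        rw [← h2, inv_smul_eq_iff, hsU]
      intro i j hij
      fin_cases i <;> fin_cases j <;> first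
        | rfl
        | exact absurd hij h01
        | exact absurd hij h12
        | exact absurd hij h02
        | exact absurd hij.symm h01
        | exact absurd hij.symm h12
        | exact absurd hij.symm h02
  · right
    push Not at hA
    refine ⟨g1, hg1x, hg1u, hg1U, ?_⟩
    -- a vector of `g1 • U` outside `U`
    have hex : ∃ v ∈ g1 • (U : Set V), v ∉ U := by
      by_contra hcon
      push Not at hcon
      exact hg1U (smul_set_eq_of_subset g1 _ (fun v hv => hcon v hv))
    obtain ⟨v, hv1, hvU⟩ := hex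
    obtain ⟨a, ha, hva⟩ := exists_B_eq_one_of_not_mem S hV U hts hc hvU
    refine ⟨v, ?_⟩
    intro b hb hvb
    have hab : S.B a b = 0 := B_eq_zero_of_ts S hts ha hb
    have hmem : S.sg a b • v ∈ g1 • (U : Set V) := by
      rw [← hA a ha b hb]
      exact Set.smul_mem_smul_set hv1
    rw [S.sg_smul' (hts a ha) hab, hvb, hva, hts b hb, zero_smul, one_smul, zero_mul, zero_smul,
      add_zero, add_zero] at hmem
    rw [Set.mem_smul_set_iff_inv_smul_mem] at hmem hv1 ⊢
    have : g1⁻¹ • b = g1⁻¹ • (v + b) - g1⁻¹ • v := by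
      rw [← smul_sub, add_sub_cancel_left]
    rw [this]
    exact U.sub_mem hmem hv1

/-- C3 (`m = 4`, `U` a maximal totally singular subspace through `x`) -/
theorem exists_moves_three [Finite V] (hV : Nat.card V = 2 ^ (2 * 4)) {x : V}
    (hx0 : x ≠ 0) (hx : S.Q x = 0) (U : Submodule F V) (hxU : x ∈ U) (hts : ∀ u ∈ U, S.Q u = 0)
    (hc : Nat.card U = 16) :
    ∃ u0 ∈ U, u0 ≠ 0 ∧ u0 ≠ x ∧ ∃ g : Fin 3 → G, (∀ i, g i • x = x) ∧
      (∀ i, u0 ∈ g i • (U : Set V)) ∧ Function.Injective (fun i => g i • (U : Set V)) := by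
  classical
  -- a first vector
  obtain ⟨u0, hu0U, hu0l⟩ := Cfsg.Agent.Lib.Helper15.Om2Leaf.exists_not_mem_list U [0, x]
    (by rw [hc]; simp)
  have hu00 : u0 ≠ 0 := fun h => hu0l (by simp [h])
  have hu0x : u0 ≠ x := fun h => hu0l (by simp [h])
  rcases moves_three_or S hV hx0 hx U hxU hts hc hu0U hu00 hu0x with hA | hB
  · exact ⟨u0, hu0U, hu00, hu0x, hA⟩
  obtain ⟨g1, hg1x, hg1u, hg1U, v, hv⟩ := hB
  -- a second vector, outside `g1 • U`
  have hex : ∃ u1 ∈ U, u1 ∉ g1 • (U : Set V) := by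
    by_contra hcon
    push Not at hcon
    exact hg1U (smul_set_eq_of_superset g1 _ (fun u hu => hcon u hu))
  obtain ⟨u1, hu1U, hu1⟩ := hex
  have hu10 : u1 ≠ 0 := by
    intro h
    apply hu1
    rw [h]
    exact ⟨0, U.zero_mem, smul_zero g1⟩
  have hu1x : u1 ≠ x := by
    intro h
    apply hu1
    rw [h]
    exact ⟨x, hxU, hg1x⟩
  rcases moves_three_or S hV hx0 hx U hxU hts hc hu1U hu10 hu1x with hA | hB
  · exact ⟨u1, hu1U, hu10, hu1x, hA⟩
  obtain ⟨g2, hg2x, hg2u, hg2U, v', hv'⟩ := hB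
  -- a common vector of the two hyperplanes
  have h1 := Cfsg.Agent.Lib.Helper16.Om2Leaf.card_le_two_mul_inf_ker S U v
  have h2 := Cfsg.Agent.Lib.Helper16.Om2Leaf.card_le_two_mul_inf_ker S
    (U ⊓ LinearMap.ker (S.B v)) v'
  obtain ⟨u2, hu2K, hu2l⟩ := Cfsg.Agent.Lib.Helper15.Om2Leaf.exists_not_mem_list
    (U ⊓ LinearMap.ker (S.B v) ⊓ LinearMap.ker (S.B v')) [0, x] (by
      rw [hc] at h1
      simp only [List.length_cons, List.length_nil]
      omega)
  have hu20 : u2 ≠ 0 := fun h => hu2l (by simp [h])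
  have hu2x : u2 ≠ x := fun h => hu2l (by simp [h])
  rw [Submodule.mem_inf, Submodule.mem_inf, LinearMap.mem_ker, LinearMap.mem_ker] at hu2K
  obtain ⟨⟨hu2U, hu2v⟩, hu2v'⟩ := hu2K
  refine ⟨u2, hu2U, hu20, hu2x, ![1, g1, g2], ?_, ?_, ?_⟩
  · intro i
    fin_cases i
    · show (1 : G) • x = x
      rw [one_smul]
    · exact hg1x
    · exact hg2x
  · intro i
    fin_cases i
    · show u2 ∈ (1 : G) • (U : Set V)
      rw [one_smul]
      exact hu2U
    · exact hv u2 hu2U hu2v
    · exact hv' u2 hu2U hu2v'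
  · have h01 : (1 : G) • (U : Set V) ≠ g1 • (U : Set V) := by
      rw [one_smul]
      exact fun h => hg1U h.symm
    have h02 : (1 : G) • (U : Set V) ≠ g2 • (U : Set V) := by
      rw [one_smul]
      exact fun h => hg2U h.symm
    have h12 : g1 • (U : Set V) ≠ g2 • (U : Set V) := by
      intro h
      apply hu1
      rw [h]
      exact ⟨u1, hu1U, hg2u⟩
    intro i j hij
    fin_cases i <;> fin_cases j <;> first
      | rfl
      | exact absurd hij h01
      | exact absurd hij h12
      | exact absurd hij h02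
      | exact absurd hij.symm h01
      | exact absurd hij.symm h12
      | exact absurd hij.symm h02

end Cfsg.Agent.Lib.Helper23.Om2Leaf
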