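import Cfsg.Agent.Lib.Helper6.Orb.Basic

/-!
# S4125 orbit lemma, leaf OrbA2 (for helper6): `H` permutes a system of blocks permuted by a Sylow
`p`-subgroup.
-/

set_option autoImplicit false

namespace Cfsg.Agent.Lib.Helper23.OrbLeaf
open Cfsg.Agent.Lib.Helper6.Orb

universe u v

variable {p q : ℕ} [hp : Fact p.Prime] [hq : Fact q.Prime]
  {H : Type u} {V : Type v} [Group H] [Finite H] [AddCommGroup V] [Finite V] [DistribMulAction H V]
  [FaithfulSMul H V]

section indep

variable {ι : Type*} [Fintype ι] {W : ι → AddSubgroup V}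

/-- two blocks meeting nontrivially are equal -/
theorem blocks_index_unique {P : Subgroup H} (hW : Blocks P W) {j j' : ι} {w : V} (hw0 : w ≠ 0)
    (hj : w ∈ W j) (hj' : w ∈ W j') : j = j' := by
  classical
  by_contra hne
  have h := hW.indep (Pi.single j w) (Pi.single j' w)
    (fun i => by
      by_cases hi : i = j
      · subst hi; simpa using hj
      · rw [Pi.single_eq_of_ne hi]; exact (W i).zero_mem)
    (fun i => by
      by_cases hi : i = j'
      · subst hi; simpa using hj'
      · rw [Pi.single_eq_of_ne hi]; exact (W i).zero_mem)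
    (by rw [Finset.sum_pi_single', Finset.sum_pi_single']; simp)
  have := congrFun h j
  rw [Pi.single_eq_same, Pi.single_eq_of_ne hne] at this
  exact hw0 this

/-- a sum of two vectors from different blocks lying in a block forces one of them to vanish -/
theorem blocks_sum_mem {P : Subgroup H} (hW : Blocks P W) {j j' l : ι} (hne : j ≠ j') {u u' : V}
    (hu : u ∈ W j) (hu' : u' ∈ W j') (hl : u + u' ∈ W l) : u = 0 ∨ u' = 0 := by
  classical
  have h := hW.indep (Pi.single j u + Pi.single j' u') (Pi.single l (u + u'))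
    (fun i => by
      rw [Pi.add_apply]
      apply (W i).add_mem
      · by_cases hi : i = j
        · subst hi; simpa using hu
        · rw [Pi.single_eq_of_ne hi]; exact (W i).zero_mem
      · by_cases hi : i = j'
        · subst hi; simpa using hu'
        · rw [Pi.single_eq_of_ne hi]; exact (W i).zero_mem)
    (fun i => by
      by_cases hi : i = l
      · subst hi; simpa using hl
      · rw [Pi.single_eq_of_ne hi]; exact (W i).zero_mem)
    (by
      simp only [Pi.add_apply, Finset.sum_add_distrib]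
      rw [Finset.sum_pi_single', Finset.sum_pi_single', Finset.sum_pi_single']
      simp)
  by_cases hlj : l = j
  · right
    have := congrFun h j'
    rw [Pi.add_apply, Pi.single_eq_of_ne (Ne.symm hne), Pi.single_eq_same, zero_add,
      Pi.single_eq_of_ne (by rw [hlj]; exact Ne.symm hne)] at this
    exact this
  · left
    have := congrFun h j
    rw [Pi.add_apply, Pi.single_eq_same, Pi.single_eq_of_ne hne, add_zero,
      Pi.single_eq_of_ne (Ne.symm hlj)] at this
    exact this

end indep

/-- OrbA2 -/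
theorem blocks_perm (S : Setup p q H V) (P : Sylow p H) {ι : Type*} [Fintype ι]
    (W : ι → AddSubgroup V) (hW : Blocks (P : Subgroup H) W) :
    ∃ σ : H →* Equiv.Perm ι, ∀ (x : H) (i : ι) (w : V), w ∈ W i ↔ x • w ∈ W (σ x i) := by
  classical
  -- the union of the blocks is `H`-invariant
  have hT : ∀ (x : H) (t : V), (∃ i, t ∈ W i) → ∃ j, x • t ∈ W j := by
    intro x t ht
    have := smul_mem_of_sylow_invariant S.pp P (T := {t : V | ∃ i, t ∈ W i})
      (fun g hg t ⟨i, hi⟩ => by
        obtain ⟨j, hj⟩ := hW.perm g hg i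
        exact ⟨j, hj t hi⟩) x (t := t) ht
    exact this
  have hsm0 : ∀ (x : H) (w : V), x • w = 0 → w = 0 := by
    intro x w h
    have := congrArg (fun t => x⁻¹ • t) h
    simpa using this
  -- existence of the image block
  have hex : ∀ (x : H) (i : ι), ∃ j, ∀ w ∈ W i, x • w ∈ W j := by
    intro x i
    obtain ⟨w0, hw0, hw0ne⟩ : ∃ w0 ∈ W i, w0 ≠ 0 := by
      by_contra hcon
      apply hW.ne_bot i
      rw [AddSubgroup.eq_bot_iff_forall]
      intro w hw
      by_contra hne
      exact hcon ⟨w, hw, hne⟩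
    obtain ⟨j, hj⟩ := hT x w0 ⟨i, hw0⟩
    refine ⟨j, fun w hw => ?_⟩
    by_cases hw00 : w = 0
    · rw [hw00, smul_zero]; exact (W j).zero_mem
    obtain ⟨j', hj'⟩ := hT x w ⟨i, hw⟩
    by_cases hjj : j' = j
    · rw [← hjj]; exact hj'
    exfalso
    by_cases hsum : w + w0 = 0
    · have : w = -w0 := eq_neg_of_add_eq_zero_left hsum
      have h2 : x • w ∈ W j := by
        rw [this, smul_neg]; exact (W j).neg_mem hj
      exact hjj (blocks_index_unique hW (fun h => hw00 (hsm0 x w h)) hj' h2)
    · obtain ⟨l, hl⟩ := hT x (w + w0) ⟨i, (W i).add_mem hw hw0⟩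
      rw [smul_add] at hl
      rcases blocks_sum_mem hW hjj hj' hj hl with h | h
      · exact hw00 (hsm0 x w h)
      · exact hw0ne (hsm0 x w0 h)
  -- uniqueness
  have huniq : ∀ (x : H) (i j j' : ι), (∀ w ∈ W i, x • w ∈ W j) → (∀ w ∈ W i, x • w ∈ W j') →
      j = j' := by
    intro x i j j' h1 h2
    obtain ⟨w0, hw0, hw0ne⟩ : ∃ w0 ∈ W i, w0 ≠ 0 := by
      by_contra hcon
      apply hW.ne_bot i
      rw [AddSubgroup.eq_bot_iff_forall]
      intro w hw
      by_contra hne
      exact hcon ⟨w, hw, hne⟩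
    exact blocks_index_unique hW (fun h => hw0ne (hsm0 x w0 h)) (h1 w0 hw0) (h2 w0 hw0)
  let φ : H → ι → ι := fun x i => Classical.choose (hex x i)
  have hφ : ∀ (x : H) (i : ι), ∀ w ∈ W i, x • w ∈ W (φ x i) :=
    fun x i => Classical.choose_spec (hex x i)
  have hφ1 : ∀ i, φ 1 i = i := by
    intro i
    exact huniq 1 i _ _ (hφ 1 i) (fun w hw => by rw [one_smul]; exact hw)
  have hφmul : ∀ x y i, φ (x * y) i = φ x (φ y i) := by
    intro x y i
    exact huniq (x * y) i _ _ (hφ (x * y) i)
      (fun w hw => by rw [mul_smul]; exact hφ x _ _ (hφ y i w hw))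
  let _ : MulAction H ι :=
    { smul := φ
      one_smul := hφ1
      mul_smul := hφmul }
  refine ⟨MulAction.toPermHom H ι, fun x i w => ⟨fun hw => hφ x i w hw, fun hw => ?_⟩⟩
  have h1 : x⁻¹ • (x • w) ∈ W (φ x⁻¹ (φ x i)) := hφ x⁻¹ _ _ hw
  rw [inv_smul_smul, ← hφmul, inv_mul_cancel, hφ1] at h1
  exact h1

end Cfsg.Agent.Lib.Helper23.OrbLeaf
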