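import Cfsg.Agent.Lib.Helper6.Orb.Basic

/-!
# S4125 orbit lemma, leaf OrbD1 (for helper6): `p = 2`, `V` irreducible under the cyclic subgroup
`⟨a⟩` of index two: the subring of `End V` generated by `a` is a finite field `F` with `V = F v₀`.
-/

set_option autoImplicit false

namespace Cfsg.Agent.Lib.Helper23.OrbLeaf
open Cfsg.Agent.Lib.Helper6.Orb

universe u v

section index_two

variable {G : Type*} [Group G]

/-- facts on a subgroup `A` of relative index two in `P` and an element `b ∈ P \ A` -/
theorem index_two_facts {A P : Subgroup G} (hAP : A ≤ P) (hidx : A.relIndex P = 2) {b : G}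
    (hb : b ∈ P) (hbA : b ∉ A) :
    b * b ∈ A ∧ (∀ c ∈ A, b * c * b⁻¹ ∈ A) ∧ (∀ c ∈ A, b⁻¹ * c * b ∈ A) ∧
      ∀ g ∈ P, g ∈ A ∨ b⁻¹ * g ∈ A := by
  have hidx' : (A.subgroupOf P).index = 2 := hidx
  have hnorm : (A.subgroupOf P).Normal := Subgroup.normal_of_index_eq_two hidx'
  have hbA' : (⟨b, hb⟩ : P) ∉ A.subgroupOf P := by
    rw [Subgroup.mem_subgroupOf]; exact hbA
  refine ⟨?_, ?_, ?_, ?_⟩
  · have := Subgroup.mul_self_mem_of_index_two hidx' (⟨b, hb⟩ : P)
    rw [Subgroup.mem_subgroupOf] at this
    exact this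
  · intro c hc
    have hc' : (⟨c, hAP hc⟩ : P) ∈ A.subgroupOf P := by
      rw [Subgroup.mem_subgroupOf]; exact hc
    have := hnorm.conj_mem _ hc' (⟨b, hb⟩ : P)
    rw [Subgroup.mem_subgroupOf] at this
    exact this
  · intro c hc
    have hc' : (⟨c, hAP hc⟩ : P) ∈ A.subgroupOf P := by
      rw [Subgroup.mem_subgroupOf]; exact hc
    have := hnorm.conj_mem _ hc' (⟨b, hb⟩ : P)⁻¹
    rw [Subgroup.mem_subgroupOf] at this
    simpa using this
  · intro g hg
    by_cases hgA : g ∈ A
    · exact Or.inl hgA
    right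
    have h1 := Subgroup.mul_mem_iff_of_index_two hidx' (a := (⟨b, hb⟩ : P)⁻¹) (b := (⟨g, hg⟩ : P))
    have h2 : ((⟨b, hb⟩ : P)⁻¹ ∈ A.subgroupOf P ↔ (⟨g, hg⟩ : P) ∈ A.subgroupOf P) := by
      rw [inv_mem_iff]
      constructor
      · intro h; exact absurd h hbA'
      · intro h; rw [Subgroup.mem_subgroupOf] at h; exact absurd h hgA
    have h3 := h1.mpr h2
    rw [Subgroup.mem_subgroupOf] at h3
    simpa using h3

end index_two

section neg

variable {H : Type u} {V : Type v} [Group H] [AddCommGroup V] [DistribMulAction H V]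

/-- a fixed-point-free involution acts as `-1` -/
theorem smul_eq_neg_of_involution {z : H} (hz : z * z = 1) (hfix : ∀ v : V, z • v = v → v = 0)
    (v : V) : z • v = -v := by
  have h : z • (z • v + v) = z • v + v := by
    rw [smul_add, ← mul_smul, hz, one_smul, add_comm]
  have := hfix _ h
  exact eq_neg_of_add_eq_zero_left this

end neg

section conj

variable {E : Type*} [Ring E]

/-- conjugation by a unit preserves the closure of a set it preserves up to closure -/
theorem conj_mem_closure {s : Set E} (β β' : E) (h1 : β' * β = 1) (h2 : β * β' = 1)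
    (hs : ∀ x ∈ s, β * x * β' ∈ Subring.closure s) :
    ∀ f ∈ Subring.closure s, β * f * β' ∈ Subring.closure s := by
  intro f hf
  refine Subring.closure_induction (p := fun f _ => β * f * β' ∈ Subring.closure s)
    ?_ ?_ ?_ ?_ ?_ ?_ hf
  · exact hs
  · rw [mul_zero, zero_mul]; exact Subring.zero_mem _
  · rw [mul_one, h2]; exact Subring.one_mem _
  · intro x y _ _ hx hy
    have : β * (x + y) * β' = β * x * β' + β * y * β' := by noncomm_ring
    rw [this]; exact Subring.add_mem _ hx hy
  · intro x _ hx
    have : β * (-x) * β' = -(β * x * β') := by noncomm_ring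
    rw [this]; exact Subring.neg_mem _ hx
  · intro x y _ _ hx hy
    have : β * (x * y) * β' = (β * x * β') * (β * y * β') := by
      calc β * (x * y) * β' = β * x * 1 * y * β' := by noncomm_ring
        _ = β * x * (β' * β) * y * β' := by rw [h1]
        _ = _ := by noncomm_ring
    rw [this]; exact Subring.mul_mem _ hx hy

end conj

variable {q : ℕ} [hq : Fact q.Prime]
  {H : Type u} {V : Type v} [Group H] [Finite H] [AddCommGroup V] [Finite V] [DistribMulAction H V]
  [FaithfulSMul H V]

/-- OrbD1 -/
theorem exists_field_of_irreducible (S : Setup 2 q H V) (hq2 : q ≠ 2) (P : Sylow 2 H) (a a' b : H)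
    (ha : a ∈ (P : Subgroup H)) (hb : b ∈ (P : Subgroup H))
    (hidx : (Subgroup.zpowers a).relIndex (P : Subgroup H) = 2)
    (ha' : a' ∈ Subgroup.zpowers a) (ho : orderOf a' = 4) (hbA : b ∉ Subgroup.zpowers a)
    (hinv : b * a' * b⁻¹ = a'⁻¹)
    (hirr : ∀ W : AddSubgroup V, (∀ w ∈ W, a • w ∈ W) → W = ⊥ ∨ W = ⊤) :
    ∃ (F : Type v) (_ : Field F) (_ : Fintype F) (_ : CharP F q) (τ : F ≃+* F) (J α : F) (e : ℕ),
      (∀ x, τ (τ x) = x) ∧ J * J = -1 ∧ τ J = -J ∧ α ^ (2 ^ e) = 1 ∧
      Subring.closure {α} = ⊤ ∧ Nat.card V = Fintype.card F := by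
  classical
  have _ := hq2
  let φ : H →* AddMonoid.End V := DistribMulAction.toAddMonoidEnd H V
  have φ_apply : ∀ (h : H) (v : V), φ h v = h • v := fun h v => rfl
  have hAP : Subgroup.zpowers a ≤ (P : Subgroup H) := (Subgroup.zpowers_le).mpr ha
  obtain ⟨hb2, hconj, hconj', hcases⟩ := index_two_facts hAP hidx hb hbA
  -- the central involution
  have ha4 : a' ^ 4 = 1 := by rw [← ho]; exact pow_orderOf_eq_one a'
  have hz2 : (a' * a') * (a' * a') = 1 := by
    rw [← ha4]; simp only [pow_succ, pow_zero, one_mul, mul_assoc]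
  have hz1 : a' * a' ≠ 1 := by
    intro h
    have h2 : a' ^ 2 = 1 := by rw [pow_two]; exact h
    have := orderOf_dvd_of_pow_eq_one h2
    rw [ho] at this
    omega
  have hzA : a' * a' ∈ Subgroup.zpowers a := Subgroup.mul_mem _ ha' ha'
  have hcommA : ∀ c ∈ Subgroup.zpowers a, ∀ d ∈ Subgroup.zpowers a, c * d = d * c := by
    intro c hc d hd
    obtain ⟨m, rfl⟩ := Subgroup.mem_zpowers_iff.mp hc
    obtain ⟨n, rfl⟩ := Subgroup.mem_zpowers_iff.mp hd
    exact (Commute.zpow_zpow (Commute.refl a) m n)
  have hbz : b * (a' * a') = (a' * a') * b := by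
    have h1 : b * (a' * a') * b⁻¹ = a' * a' := by
      calc b * (a' * a') * b⁻¹ = (b * a' * b⁻¹) * (b * a' * b⁻¹) := by group
        _ = a'⁻¹ * a'⁻¹ := by rw [hinv]
        _ = (a' * a')⁻¹ := by group
        _ = a' * a' := by rw [inv_eq_iff_mul_eq_one]; exact hz2
    calc b * (a' * a') = (b * (a' * a') * b⁻¹) * b := by group
      _ = (a' * a') * b := by rw [h1]
  have hzc : ∀ g ∈ (P : Subgroup H), g * (a' * a') = (a' * a') * g := by
    intro g hg
    rcases hcases g hg with h | h
    · exact hcommA g h _ hzA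
    · have := hcommA _ h _ hzA
      calc g * (a' * a') = b * ((b⁻¹ * g) * (a' * a')) := by group
        _ = b * ((a' * a') * (b⁻¹ * g)) := by rw [this]
        _ = (b * (a' * a')) * (b⁻¹ * g) := by group
        _ = ((a' * a') * b) * (b⁻¹ * g) := by rw [hbz]
        _ = (a' * a') * g := by group
  have hzneg : ∀ v : V, (a' * a') • v = -v :=
    smul_eq_neg_of_involution hz2 (fun v hv => S.fixed_eq_zero P hzc hz1 hv)
  -- `V` is nontrivial
  obtain ⟨v0, hv0⟩ : ∃ v0 : V, v0 ≠ 0 := by
    by_contra hcon
    push Not at hcon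
    apply hz1
    apply eq_of_smul_eq_smul (α := V)
    intro v
    rw [hcon v, smul_zero, smul_zero]
  -- the ring
  let R : Subring (AddMonoid.End V) := Subring.closure {φ a}
  have hcm : IsMulCommutative R := Subring.isMulCommutative_closure (by
    intro x hx y hy
    rw [Set.mem_singleton_iff] at hx hy
    rw [hx, hy])
  let instCR : CommRing R :=
    { (inferInstance : Ring R) with mul_comm := fun x y => hcm.is_comm.comm x y }
  have haR : φ a ∈ R := Subring.subset_closure (Set.mem_singleton _)
  have hcomm : ∀ f g : R, (f : AddMonoid.End V) * (g : AddMonoid.End V) =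
      (g : AddMonoid.End V) * (f : AddMonoid.End V) := by
    intro f g
    exact congrArg Subtype.val (mul_comm f g)
  have hpowR : ∀ c ∈ Subgroup.zpowers a, φ c ∈ R := by
    intro c hc
    rw [← mem_powers_iff_mem_zpowers] at hc
    obtain ⟨n, rfl⟩ := hc
    rw [map_pow]
    exact pow_mem haR n
  -- nonzero elements are injective
  have hinj : ∀ f : R, f ≠ 0 → ∀ v : V, (f : AddMonoid.End V) v = 0 → v = 0 := by
    intro f hf v hv
    let K : AddSubgroup V := AddMonoidHom.ker (show V →+ V from (f : AddMonoid.End V))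
    have hK : ∀ w ∈ K, a • w ∈ K := by
      intro w hw
      have hw' : (f : AddMonoid.End V) w = 0 := hw
      change (f : AddMonoid.End V) (a • w) = 0
      have h1 : (f : AddMonoid.End V) (a • w) = ((f : AddMonoid.End V) * φ a) w := rfl
      rw [h1, hcomm f ⟨φ a, haR⟩]
      change a • ((f : AddMonoid.End V) w) = 0
      rw [hw', smul_zero]
    rcases hirr K hK with h0 | h1
    · have : v ∈ K := hv
      rw [h0, AddSubgroup.mem_bot] at this
      exact this
    · exfalso
      apply hf
      apply Subtype.ext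
      apply AddMonoidHom.ext
      intro w
      have : w ∈ K := h1 ▸ AddSubgroup.mem_top w
      exact this
  have : Nontrivial R := by
    refine ⟨⟨0, 1, fun h => hv0 ?_⟩⟩
    have := congrArg (fun f : R => (f : AddMonoid.End V) v0) h
    exact this.symm
  have : NoZeroDivisors R := by
    refine ⟨fun {f g} hfg => ?_⟩
    by_contra hcon
    push Not at hcon
    have h1 : ((f * g : R) : AddMonoid.End V) v0 = 0 := by rw [hfg]; rfl
    have h2 : (f : AddMonoid.End V) ((g : AddMonoid.End V) v0) = 0 := h1
    exact hv0 (hinj g hcon.2 _ (hinj f hcon.1 _ h2))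
  have : IsDomain R := NoZeroDivisors.to_isDomain R
  have : Finite (AddMonoid.End V) := DFunLike.finite (AddMonoid.End V)
  let instFin : Fintype R := Fintype.ofFinite R
  -- conjugation by `b`
  let β : AddMonoid.End V := φ b
  let β' : AddMonoid.End V := φ b⁻¹
  have hββ' : β * β' = 1 := by rw [← map_mul, mul_inv_cancel, map_one]
  have hβ'β : β' * β = 1 := by rw [← map_mul, inv_mul_cancel, map_one]
  have hstab : ∀ f ∈ R, β * f * β' ∈ R := by
    apply conj_mem_closure β β' hβ'β hββ'
    intro x hx
    rw [Set.mem_singleton_iff] at hx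
    rw [hx]
    have : β * φ a * β' = φ (b * a * b⁻¹) := by rw [map_mul, map_mul]
    rw [this]
    exact hpowR _ (hconj a (Subgroup.mem_zpowers a))
  have hstab' : ∀ f ∈ R, β' * f * β ∈ R := by
    apply conj_mem_closure β' β hββ' hβ'β
    intro x hx
    rw [Set.mem_singleton_iff] at hx
    rw [hx]
    have : β' * φ a * β = φ (b⁻¹ * a * b) := by rw [map_mul, map_mul]
    rw [this]
    exact hpowR _ (hconj' a (Subgroup.mem_zpowers a))
  let τ : R ≃+* R :=
    { toFun := fun f => ⟨β * f * β', hstab f f.2⟩
      invFun := fun f => ⟨β' * f * β, hstab' f f.2⟩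
      left_inv := fun f => Subtype.ext (by
        show β' * (β * (f : AddMonoid.End V) * β') * β = f
        calc β' * (β * (f : AddMonoid.End V) * β') * β
            = (β' * β) * (f : AddMonoid.End V) * (β' * β) := by noncomm_ring
          _ = f := by rw [hβ'β, one_mul, mul_one])
      right_inv := fun f => Subtype.ext (by
        show β * (β' * (f : AddMonoid.End V) * β) * β' = f
        calc β * (β' * (f : AddMonoid.End V) * β) * β'
            = (β * β') * (f : AddMonoid.End V) * (β * β') := by noncomm_ring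
          _ = f := by rw [hββ', one_mul, mul_one])
      map_mul' := fun f g => Subtype.ext (by
        show β * ((f : AddMonoid.End V) * (g : AddMonoid.End V)) * β' =
          (β * (f : AddMonoid.End V) * β') * (β * (g : AddMonoid.End V) * β')
        calc β * ((f : AddMonoid.End V) * (g : AddMonoid.End V)) * β'
            = β * (f : AddMonoid.End V) * 1 * (g : AddMonoid.End V) * β' := by noncomm_ring
          _ = β * (f : AddMonoid.End V) * (β' * β) * (g : AddMonoid.End V) * β' := by rw [hβ'β]
          _ = _ := by noncomm_ring)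
      map_add' := fun f g => Subtype.ext (by
        show β * ((f : AddMonoid.End V) + (g : AddMonoid.End V)) * β' =
          (β * (f : AddMonoid.End V) * β') + (β * (g : AddMonoid.End V) * β')
        noncomm_ring) }
  have hττ : ∀ x, τ (τ x) = x := by
    intro x
    apply Subtype.ext
    show β * (β * (x : AddMonoid.End V) * β') * β' = x
    have hbbR : β * β ∈ R := by
      have : β * β = φ (b * b) := by rw [map_mul]
      rw [this]; exact hpowR _ hb2
    have hc : (β * β) * (x : AddMonoid.End V) = (x : AddMonoid.End V) * (β * β) :=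
      hcomm ⟨β * β, hbbR⟩ x
    calc β * (β * (x : AddMonoid.End V) * β') * β'
        = ((β * β) * (x : AddMonoid.End V)) * β' * β' := by noncomm_ring
      _ = ((x : AddMonoid.End V) * (β * β)) * β' * β' := by rw [hc]
      _ = (x : AddMonoid.End V) * β * (β * β') * β' := by noncomm_ring
      _ = x := by rw [hββ', mul_one, mul_assoc, hββ', mul_one]
  have ha'R : φ a' ∈ R := hpowR a' ha'
  let J : R := ⟨φ a', ha'R⟩
  let α : R := ⟨φ a, haR⟩
  have hJJ : J * J = -1 := by
    apply Subtype.ext
    show φ a' * φ a' = -1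
    rw [← map_mul]
    apply AddMonoidHom.ext
    intro w
    show (a' * a') • w = -w
    exact hzneg w
  have hτJ : τ J = -J := by
    apply Subtype.ext
    show β * φ a' * β' = -φ a'
    have h1 : β * φ a' * β' = φ (b * a' * b⁻¹) := by rw [map_mul, map_mul]
    have h2 : a'⁻¹ = a' * (a' * a') := by
      apply inv_eq_of_mul_eq_one_right
      rw [← ha4]; simp only [pow_succ, pow_zero, one_mul, mul_assoc]
    rw [h1, hinv, h2, map_mul]
    apply AddMonoidHom.ext
    intro w
    show a' • ((a' * a') • w) = -(a' • w)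
    rw [hzneg, smul_neg]
  obtain ⟨e, he⟩ : ∃ e : ℕ, a ^ (2 ^ e) = 1 := by
    obtain ⟨k, hk⟩ := P.isPGroup' ⟨a, ha⟩
    exact ⟨k, by simpa using congrArg Subtype.val hk⟩
  have hα : α ^ (2 ^ e) = 1 := by
    apply Subtype.ext
    show (φ a) ^ (2 ^ e) = 1
    rw [← map_pow, he, map_one]
  have hgen : Subring.closure {α} = ⊤ := by
    rw [eq_top_iff]
    rintro ⟨x, hx⟩ -
    refine Subring.closure_induction
      (p := fun y hy => (⟨y, hy⟩ : R) ∈ Subring.closure {α}) ?_ ?_ ?_ ?_ ?_ ?_ hx
    · intro y hy
      have : (⟨y, Subring.subset_closure hy⟩ : R) = α :=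
        Subtype.ext (by rw [Set.mem_singleton_iff] at hy; exact hy)
      rw [this]; exact Subring.subset_closure (Set.mem_singleton _)
    · exact Subring.zero_mem _
    · exact Subring.one_mem _
    · intro x y hx hy h1 h2; exact Subring.add_mem _ h1 h2
    · intro x hx h1; exact Subring.neg_mem _ h1
    · intro x y hx hy h1 h2; exact Subring.mul_mem _ h1 h2
  have hcard : Nat.card V = Fintype.card R := by
    rw [← Nat.card_eq_fintype_card]
    symm
    let ev : R → V := fun f => (f : AddMonoid.End V) v0
    have hev_inj : Function.Injective ev := by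
      intro f g hfg
      by_contra hne
      have hsub : (f - g) ≠ 0 := sub_ne_zero.mpr hne
      apply hv0
      apply hinj (f - g) hsub
      have : ((f - g : R) : AddMonoid.End V) v0 = ev f - ev g := rfl
      rw [this, hfg, sub_self]
    have hev_surj : Function.Surjective ev := by
      let W : AddSubgroup V :=
        { carrier := Set.range ev
          zero_mem' := ⟨0, rfl⟩
          add_mem' := by rintro _ _ ⟨f, rfl⟩ ⟨g, rfl⟩; exact ⟨f + g, rfl⟩
          neg_mem' := by rintro _ ⟨f, rfl⟩; exact ⟨-f, rfl⟩ }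
      have hW : ∀ w ∈ W, a • w ∈ W := by
        rintro _ ⟨f, rfl⟩
        exact ⟨⟨φ a, haR⟩ * f, rfl⟩
      rcases hirr W hW with h0 | h1
      · exfalso; apply hv0
        have : v0 ∈ W := ⟨1, rfl⟩
        rw [h0, AddSubgroup.mem_bot] at this; exact this
      · intro v
        have : v ∈ W := h1 ▸ AddSubgroup.mem_top v
        exact this
    exact Nat.card_congr (Equiv.ofBijective ev ⟨hev_inj, hev_surj⟩)
  have hq0 : ((q : ℕ) : R) = 0 := by
    apply Subtype.ext
    apply AddMonoidHom.ext
    intro w
    show ((q : ℕ) : AddMonoid.End V) w = 0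
    rw [AddMonoid.End.natCast_apply]
    exact S.nsmul_eq_zero w
  have hchar : CharP R q := (CharP.charP_iff_prime_eq_zero hq.out).mpr hq0
  exact ⟨R, Fintype.fieldOfDomain R, instFin, hchar, τ, J, α, e, hττ, hJJ, hτJ, hα, hgen, hcard⟩

end Cfsg.Agent.Lib.Helper23.OrbLeaf
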