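import Mathlib
import Cfsg.Agent.Lib.Helper23.PConjA
import Cfsg.Agent.Lib.Helper6.Osima
import Cfsg.Agent.Lib.Helper6.DefectOrder
import Cfsg.Agent.Lib.Helper24.IntLemmas
import Cfsg.Agent.Lib.Helper24.IrrFacts
import Cfsg.Agent.Lib.Lead.CharOrtho

set_option autoImplicit false

namespace Cfsg.Agent.Lib.Helper23.PConj

open Cfsg Cfsg.Agent.CharLib Cfsg.Agent.Lib.Helper24 Cfsg.Agent.Lib.Helper6
open scoped ComplexConjugate

universe u

section eta

variable {G : Type u} [Group G] [Fintype G]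

instance neZeroCard : NeZero (Nat.card G) := ⟨Nat.card_pos.ne'⟩

/-- Sum over a subgroup `Q` of units of the conjugates of the twists of `χ`. -/
noncomputable def etaFun (Q : Subgroup (ZMod (Nat.card G))ˣ) [Fintype Q] (χ : IrrCharacter G) (g : G) : ℂ :=
  ∑ u : Q, conj ((twist (u : (ZMod (Nat.card G))ˣ) χ : G → ℂ) g)

open Classical in
theorem sum_etaFun_mul (Q : Subgroup (ZMod (Nat.card G))ˣ) [Fintype Q] (χ ψ : IrrCharacter G) :
    ∑ g : G, etaFun Q χ g * (ψ : G → ℂ) g =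
      (Nat.card G : ℂ) *
        ((Finset.univ.filter (fun u : Q => ψ = twist (u : (ZMod (Nat.card G))ˣ) χ)).card : ℂ) := by
  unfold etaFun
  simp_rw [Finset.sum_mul]
  rw [Finset.sum_comm]
  have hne : (Nat.card G : ℂ) ≠ 0 := Nat.cast_ne_zero.mpr Nat.card_pos.ne'
  have h1 : ∀ u : Q, ∑ g : G, conj ((twist (u : (ZMod (Nat.card G))ˣ) χ : G → ℂ) g) * (ψ : G → ℂ) g =
      (Nat.card G : ℂ) * (if ψ = twist (u : (ZMod (Nat.card G))ˣ) χ then 1 else 0) := by
    intro u
    rw [← classInner_irr' ψ (twist (u : (ZMod (Nat.card G))ˣ) χ)]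
    unfold classInner
    rw [← mul_assoc, mul_inv_cancel₀ hne, one_mul]
    apply Finset.sum_congr rfl
    intro g _
    ring
  rw [Finset.sum_congr rfl (fun u _ => h1 u), ← Finset.mul_sum, Finset.sum_boole]

theorem etaFun_isClassFunction (Q : Subgroup (ZMod (Nat.card G))ˣ) [Fintype Q] (χ : IrrCharacter G) :
    IsClassFunction G (etaFun Q χ) := by
  classical
  intro g h
  unfold etaFun
  apply Finset.sum_congr rfl
  intro u _
  have := IsCharacter.isClassFunction (IsIrrCharacter.isCharacter (twist (u : (ZMod (Nat.card G))ˣ) χ).2)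
  rw [this g h]


/-- For `Q` the kernel of reduction modulo `h` (where every prime divisor of `|G|` divides `h`),
the values of `etaFun Q χ` are `|G| / h` times algebraic integers. -/
theorem exists_isIntegral_etaFun (h : ℕ) (hh : 2 ≤ h) (hn : h ∣ Nat.card G)
    (hrad : ∀ q : ℕ, q.Prime → q ∣ Nat.card G → q ∣ h) (χ : IrrCharacter G) (g : G) :
    ∃ z : ℂ, IsIntegral ℤ z ∧
      etaFun (ZMod.unitsMap hn).ker χ g = ((Nat.card G / h : ℕ) : ℂ) * z := by
  classical
  obtain ⟨N, ρ, hρ, hχ⟩ := χ.2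
  obtain ⟨ι, hι, μ, h1, h2, h3, h4⟩ := Cfsg.Agent.Lib.Helper24.exists_roots_char_pow ρ g
  have hμn : ∀ i, μ i ^ Nat.card G = 1 := by
    intro i
    obtain ⟨c, hc⟩ := orderOf_dvd_natCard g
    rw [hc, pow_mul, h1 i, one_pow]
  refine ⟨conj (∑ i, if μ i ^ h = 1 then μ i else 0), ?_, ?_⟩
  · apply map_isIntegral_int
    apply IsIntegral.sum
    intro i _
    split_ifs
    · apply IsIntegral.of_pow (Nat.card_pos (α := G))
      rw [hμn i]
      exact isIntegral_one
    · exact isIntegral_zero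
  · unfold etaFun
    simp_rw [twist_apply, ← hχ, h4]
    rw [← map_sum, Finset.sum_comm]
    rw [Finset.sum_congr rfl (fun i _ => sum_ker_unitsMap_pow (Nat.card G) h hh hn hrad (μ i) (hμn i))]
    rw [← map_natCast (starRingEnd ℂ) (Nat.card G / h), ← map_mul, Finset.mul_sum]
    congr 1
    apply Finset.sum_congr rfl
    intro i _
    split_ifs <;> simp

end eta


section main

variable {G : Type u} [Group G] [Fintype G]

/-- The normalized sum of the conjugates of the twists of `χ` by the units congruent to `1`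
modulo `h`. -/
noncomputable def etaN (h : ℕ) (hn : h ∣ Nat.card G) (χ : IrrCharacter G) (g : G) : ℂ :=
  (((Nat.card G / h : ℕ) : ℂ))⁻¹ * etaFun (ZMod.unitsMap hn).ker χ g

theorem div_pos_of_dvd_card (h : ℕ) (hn : h ∣ Nat.card G) : 0 < Nat.card G / h :=
  Nat.div_pos (Nat.le_of_dvd Nat.card_pos hn) (Nat.pos_of_dvd_of_pos hn Nat.card_pos)

theorem etaN_isClassFunction (h : ℕ) (hn : h ∣ Nat.card G) (χ : IrrCharacter G) :
    IsClassFunction G (etaN h hn χ) := by
  intro g k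
  unfold etaN
  rw [etaFun_isClassFunction _ χ g k]

theorem isIntegral_etaN (h : ℕ) (hh : 2 ≤ h) (hn : h ∣ Nat.card G)
    (hrad : ∀ q : ℕ, q.Prime → q ∣ Nat.card G → q ∣ h) (χ : IrrCharacter G) (g : G) :
    IsIntegral ℤ (etaN h hn χ g) := by
  obtain ⟨z, hz, hzeq⟩ := exists_isIntegral_etaFun h hh hn hrad χ g
  have hne : ((Nat.card G / h : ℕ) : ℂ) ≠ 0 :=
    Nat.cast_ne_zero.mpr (div_pos_of_dvd_card h hn).ne'
  unfold etaN
  rw [hzeq, ← mul_assoc, inv_mul_cancel₀ hne, one_mul]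
  exact hz

open Classical in
theorem omegaFun_etaN (h : ℕ) (hn : h ∣ Nat.card G) (χ ψ : IrrCharacter G) :
    omegaFun (ψ : G → ℂ) (etaN h hn χ) =
      (Nat.card G : ℂ) * ((Finset.univ.filter (fun u : (ZMod.unitsMap hn).ker =>
        ψ = twist (u : (ZMod (Nat.card G))ˣ) χ)).card : ℂ) /
        (((Nat.card G / h : ℕ) : ℂ) * (charDegree (ψ : G → ℂ) : ℂ)) := by
  unfold omegaFun etaN
  simp_rw [mul_assoc]
  rw [← Finset.mul_sum, sum_etaFun_mul, irr_apply_one]
  have hne : ((Nat.card G / h : ℕ) : ℂ) ≠ 0 :=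
    Nat.cast_ne_zero.mpr (div_pos_of_dvd_card h hn).ne'
  have hf : (charDegree (ψ : G → ℂ) : ℂ) ≠ 0 := Nat.cast_ne_zero.mpr (irr_charDegree_pos ψ).ne'
  field_simp

theorem isIntegral_omegaFun (χ : IrrCharacter G) {a : G → ℂ} (ha : IsClassFunction G a)
    (haI : ∀ x, IsIntegral ℤ (a x)) : IsIntegral ℤ (omegaFun (χ : G → ℂ) a) := by
  classical
  let _ : Fintype (ConjClasses G) := Fintype.ofFinite _
  rw [omegaFun_eq_sum_conjClasses χ ha]
  exact IsIntegral.sum _ (fun C _ => IsIntegral.mul (haI _) (isIntegral_centralChar χ _))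

open Classical in
/-- (F3) -/
theorem div_mul_charDegree_dvd (h : ℕ) (hh : 2 ≤ h) (hn : h ∣ Nat.card G)
    (hrad : ∀ q : ℕ, q.Prime → q ∣ Nat.card G → q ∣ h) (χ : IrrCharacter G) :
    (Nat.card G / h) * charDegree (χ : G → ℂ) ∣ Nat.card G *
      (Finset.univ.filter (fun u : (ZMod.unitsMap hn).ker =>
        χ = twist (u : (ZMod (Nat.card G))ˣ) χ)).card := by
  have h1 := isIntegral_omegaFun χ (etaN_isClassFunction h hn χ) (isIntegral_etaN h hh hn hrad χ)
  rw [omegaFun_etaN] at h1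
  have hpos : 0 < (Nat.card G / h) * charDegree (χ : G → ℂ) :=
    Nat.mul_pos (div_pos_of_dvd_card h hn) (irr_charDegree_pos χ)
  apply nat_dvd_of_isIntegral_div hpos
  push_cast
  exact h1

open Classical in
/-- (F4a) -/
theorem exists_twist_of_mem_blockOf {M : Ideal AlgInt} {p : ℕ} (hM : IsPModular p M)
    (h : ℕ) (hh : 2 ≤ h) (hn : h ∣ Nat.card G)
    (hrad : ∀ q : ℕ, q.Prime → q ∣ Nat.card G → q ∣ h) (χ ψ : IrrCharacter G)
    (hψ : ψ ∈ blockOf M (χ : G → ℂ)) (A : ℕ)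
    (hA : Nat.card G * (Finset.univ.filter (fun u : (ZMod.unitsMap hn).ker =>
        χ = twist (u : (ZMod (Nat.card G))ˣ) χ)).card =
        (Nat.card G / h) * charDegree (χ : G → ℂ) * A) (hpA : ¬ p ∣ A) :
    ∃ u : (ZMod (Nat.card G))ˣ, u ∈ (ZMod.unitsMap hn).ker ∧ ψ = twist u χ := by
  haveI hprime : M.IsPrime := isPrime_of_isPModular hM
  by_contra hcon
  push Not at hcon
  have hR : ∀ x, MemLocalRing M (etaN h hn χ x) := fun x =>
    memLocalRing_of_algInt ⟨_, isIntegral_etaN h hh hn hrad χ x⟩ hprime.one_notMem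
  have h1 := memLocalIdeal_omegaFun_sub χ ψ hψ (etaN_isClassFunction h hn χ) hR
  have h2 : omegaFun (ψ : G → ℂ) (etaN h hn χ) = 0 := by
    rw [omegaFun_etaN]
    have : (Finset.univ.filter (fun u : (ZMod.unitsMap hn).ker =>
        ψ = twist (u : (ZMod (Nat.card G))ˣ) χ)) = ∅ := by
      rw [Finset.filter_eq_empty_iff]
      intro u _
      exact hcon u u.2
    rw [this]
    simp
  have h3 : omegaFun (χ : G → ℂ) (etaN h hn χ) = (A : ℂ) := by
    rw [omegaFun_etaN]
    have hpos : (((Nat.card G / h : ℕ) : ℂ) * (charDegree (χ : G → ℂ) : ℂ)) ≠ 0 := by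
      have : 0 < (Nat.card G / h) * charDegree (χ : G → ℂ) :=
        Nat.mul_pos (div_pos_of_dvd_card h hn) (irr_charDegree_pos χ)
      exact_mod_cast this.ne'
    rw [div_eq_iff hpos]
    have := congrArg (fun t : ℕ => (t : ℂ)) hA
    push_cast at this
    rw [this]; ring
  rw [h2, h3, sub_zero] at h1
  have h4 : MemLocalIdeal M (((A : AlgInt)) : ℂ) := by
    have : (((A : AlgInt)) : ℂ) = (A : ℂ) := by simp
    rw [this]; exact h1
  rw [memLocalIdeal_coe_iff] at h4
  exact natCast_not_mem_of_not_dvd hM hpA h4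

end main

end Cfsg.Agent.Lib.Helper23.PConj
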