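import Mathlib
import Cfsg.Agent.Lib.Helper23.PConjB
import Cfsg.Agent.Lib.Lead.SecondMain3
import Cfsg.Agent.Lib.Lead.SecondMain

set_option autoImplicit false

namespace Cfsg.Agent.Lib.Helper23.PConj

open Cfsg Cfsg.Agent.CharLib Cfsg.Agent.Lib.Helper24 Cfsg.Agent.Lib.Helper6
open scoped ComplexConjugate

universe u

section vanish

variable {G : Type u} [Group G] [Finite G] {M : Ideal AlgInt}

theorem mem_blockOf_self [hprime : M.IsPrime] (χ : IrrCharacter G) : χ ∈ blockOf M (χ : G → ℂ) := by
  intro g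
  rw [sub_self]
  exact memLocalIdeal_zero hprime.one_notMem

/-- If all members of the block of `χ` have the degree of `χ`, then `χ` vanishes off the elements
of order dividing `|G|_{p'} · p ^ d`, `d` the defect of `χ`. -/
theorem orderOf_dvd_of_apply_ne_zero {p : ℕ} [hpp : Fact p.Prime] (hM : IsPModular p M)
    (χ : IrrCharacter G)
    (hdeg : ∀ ψ ∈ blockOf M (χ : G → ℂ), charDegree (ψ : G → ℂ) = charDegree (χ : G → ℂ))
    (g : G) (hg : (χ : G → ℂ) g ≠ 0) :
    orderOf g ∣ (Nat.card G / p ^ (Nat.card G).factorization p) *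
      p ^ ((Nat.card G).factorization p - (charDegree (χ : G → ℂ)).factorization p) := by
  classical
  haveI hprime : M.IsPrime := isPrime_of_isPModular hM
  have hp : p.Prime := hpp.out
  set B := blockOf M (χ : G → ℂ) with hB
  have hBblock : IsPBlock M B := ⟨χ, rfl⟩
  have hdef : blockDefect p B =
      (Nat.card G).factorization p - (charDegree (χ : G → ℂ)).factorization p := by
    unfold blockDefect
    have himg : ((fun ψ : IrrCharacter G => (charDegree (ψ : G → ℂ)).factorization p) '' B) =
        {(charDegree (χ : G → ℂ)).factorization p} := by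
      ext v
      simp only [Set.mem_image, Set.mem_singleton_iff]
      constructor
      · rintro ⟨ψ, hψ, rfl⟩
        rw [hdeg ψ hψ]
      · rintro rfl
        exact ⟨χ, mem_blockOf_self χ, rfl⟩
    rw [himg, csInf_singleton]
  obtain ⟨-, -, x, -, hx, -⟩ := exists_ppart_data p g
  have hex : ∃ D : Subgroup G, IsDefectGroup p M B D ∧ x ∈ D := by
    by_contra hcon
    push Not at hcon
    exact hg (irr_eq_zero_of_ppart_not_mem_defectGroup hM χ g x hx hcon)
  obtain ⟨D, hD, hxD⟩ := hex
  have hDcard := card_defectGroup_eq hM B hBblock D hD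
  rw [hdef] at hDcard
  obtain ⟨y, hxy, hcomm, -, hy⟩ := hx
  have hox : orderOf x ∣ p ^ ((Nat.card G).factorization p -
      (charDegree (χ : G → ℂ)).factorization p) := by
    rw [← hDcard]
    have h1 : orderOf (⟨x, hxD⟩ : D) ∣ Nat.card D := orderOf_dvd_natCard _
    rwa [Subgroup.orderOf_mk] at h1
  have hoy : orderOf y ∣ Nat.card G / p ^ (Nat.card G).factorization p := by
    have h1 : orderOf y ∣ Nat.card G := orderOf_dvd_natCard y
    have h2 : Nat.card G = p ^ (Nat.card G).factorization p *
        (Nat.card G / p ^ (Nat.card G).factorization p) :=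
      (Nat.ordProj_mul_ordCompl_eq_self (Nat.card G) p).symm
    rw [h2] at h1
    have h3 : Nat.Coprime (orderOf y) (p ^ (Nat.card G).factorization p) :=
      Nat.Coprime.pow_right _ (Nat.Coprime.symm ((Nat.Prime.coprime_iff_not_dvd hp).mpr hy))
    exact h3.dvd_of_dvd_mul_left h1
  rw [← hxy]
  have h4 := hcomm.orderOf_mul_dvd_mul_orderOf
  rw [mul_comm] at h4
  exact h4.trans (Nat.mul_dvd_mul hoy hox)

end vanish


section stab

variable {G : Type u} [Group G] [Finite G] {M : Ideal AlgInt}

theorem charDegree_twist (u : (ZMod (Nat.card G))ˣ) (χ : IrrCharacter G) :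
    charDegree (twist u χ : G → ℂ) = charDegree (χ : G → ℂ) := by
  unfold charDegree
  rw [twist_apply, one_pow]

/-- Under the hypothesis of `orderOf_dvd_of_apply_ne_zero`, the units congruent to `1` modulo
`|G|_{p'} p ^ d` fix `χ`. -/
theorem twist_eq_self_of_mem_ker {p : ℕ} [hpp : Fact p.Prime] (hM : IsPModular p M)
    (χ : IrrCharacter G)
    (hdeg : ∀ ψ ∈ blockOf M (χ : G → ℂ), charDegree (ψ : G → ℂ) = charDegree (χ : G → ℂ))
    (h : ℕ) (hh : h = (Nat.card G / p ^ (Nat.card G).factorization p) *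
      p ^ ((Nat.card G).factorization p - (charDegree (χ : G → ℂ)).factorization p))
    (hn : h ∣ Nat.card G) (u : (ZMod (Nat.card G))ˣ) (hu : u ∈ (ZMod.unitsMap hn).ker) :
    twist u χ = χ := by
  haveI : NeZero (Nat.card G) := ⟨Nat.card_pos.ne'⟩
  have hmod := (mem_ker_unitsMap_iff hn u).mp hu
  have hco : Nat.Coprime ((u : ZMod (Nat.card G)).val) (Nat.card G) := ZMod.val_coe_unit_coprime u
  apply Subtype.ext
  funext g
  rw [twist_apply]
  by_cases hg : orderOf g ∣ h
  · have h1 : g ^ (u : ZMod (Nat.card G)).val = g ^ 1 := by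
      rw [pow_eq_pow_iff_modEq]
      exact hmod.of_dvd hg
    rw [h1, pow_one]
  · have h1 : (χ : G → ℂ) g = 0 := by
      by_contra hne
      apply hg
      rw [hh]
      exact orderOf_dvd_of_apply_ne_zero hM χ hdeg g hne
    have h2 : (χ : G → ℂ) (g ^ (u : ZMod (Nat.card G)).val) = 0 := by
      by_contra hne
      apply hg
      have h3 := orderOf_dvd_of_apply_ne_zero hM χ hdeg _ hne
      rw [← hh] at h3
      have h4 : Nat.Coprime (orderOf g) ((u : ZMod (Nat.card G)).val) :=
        Nat.Coprime.symm (Nat.Coprime.coprime_dvd_right (orderOf_dvd_natCard g) hco)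
      rwa [h4.orderOf_pow] at h3
    rw [h1, h2]

end stab

section generic

/-- Orbit–stabilizer for a subgroup, with the stabilizer computed in the ambient group. -/
theorem card_orbit_mul_card_inf_stabilizer {Γ X : Type*} [Group Γ] [MulAction Γ X] [Finite Γ]
    (H : Subgroup Γ) (x : X) :
    Nat.card {y : X // ∃ u ∈ H, y = u • x} * Nat.card ↥(H ⊓ MulAction.stabilizer Γ x) =
      Nat.card H := by
  have e1 : {y : X // ∃ u ∈ H, y = u • x} ≃ MulAction.orbit H x := by
    apply Equiv.subtypeEquivRight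
    intro y
    rw [MulAction.mem_orbit_iff]
    constructor
    · rintro ⟨u, hu, rfl⟩
      exact ⟨⟨u, hu⟩, rfl⟩
    · rintro ⟨u, rfl⟩
      exact ⟨u.1, u.2, rfl⟩
  have e2 : MulAction.stabilizer H x ≃ ↥(H ⊓ MulAction.stabilizer Γ x) :=
    { toFun := fun v => ⟨(v.1 : Γ), Subgroup.mem_inf.mpr ⟨v.1.2, v.2⟩⟩
      invFun := fun w => ⟨⟨w.1, (Subgroup.mem_inf.mp w.2).1⟩, (Subgroup.mem_inf.mp w.2).2⟩
      left_inv := fun v => rfl
      right_inv := fun w => rfl }
  rw [Nat.card_congr e1, ← Nat.card_congr e2,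
    Nat.card_congr (MulAction.orbitEquivQuotientStabilizer H x),
    ← Subgroup.card_eq_card_quotient_mul_card_subgroup]

end generic

end Cfsg.Agent.Lib.Helper23.PConj
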