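import Mathlib
import Cfsg.Agent.Lib.Helper23.PConjC
import Cfsg.Agent.Lib.Helper6.Knoerr

set_option autoImplicit false

namespace Cfsg.Agent.Lib.Helper23.PConj

open Cfsg Cfsg.Agent.CharLib Cfsg.Agent.Lib.Helper24 Cfsg.Agent.Lib.Helper6
open scoped ComplexConjugate

universe u

section final

theorem card_ker_unitsMap_of_rad (n h : ℕ) [NeZero n] (hh : 2 ≤ h) (hn : h ∣ n)
    (hrad : ∀ q : ℕ, q.Prime → q ∣ n → q ∣ h) :
    Nat.card (ZMod.unitsMap hn).ker = n / h := by
  classical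
  have h1 := sum_ker_unitsMap_pow n h hh hn hrad 1 (one_pow _)
  simp only [one_pow, Finset.sum_const, Finset.card_univ, nsmul_eq_mul, mul_one, if_true] at h1
  rw [Nat.card_eq_fintype_card]
  exact_mod_cast h1

theorem ker_unitsMap_le {n h₁ h₂ : ℕ} [NeZero n] (hn₁ : h₁ ∣ n) (hn₂ : h₂ ∣ n) (h12 : h₁ ∣ h₂) :
    (ZMod.unitsMap hn₂).ker ≤ (ZMod.unitsMap hn₁).ker := by
  intro u hu
  rw [mem_ker_unitsMap_iff] at hu ⊢
  exact hu.of_dvd h12

variable {G : Type u} [Group G] [Finite G]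

theorem filter_card_eq_card_inf_stabilizer [Fintype G] (Q : Subgroup (ZMod (Nat.card G))ˣ)
    [Fintype Q] [DecidableEq (IrrCharacter G)] (χ : IrrCharacter G) :
    letI : MulAction (ZMod (Nat.card G))ˣ (IrrCharacter G) := powAct G
    (Finset.univ.filter (fun u : Q => χ = twist (u : (ZMod (Nat.card G))ˣ) χ)).card =
      Nat.card ↥(Q ⊓ MulAction.stabilizer (ZMod (Nat.card G))ˣ χ) := by
  letI : MulAction (ZMod (Nat.card G))ˣ (IrrCharacter G) := powAct G
  rw [← Fintype.card_subtype, ← Nat.card_eq_fintype_card]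
  apply Nat.card_congr
  exact
    { toFun := fun v => ⟨(v.1 : (ZMod (Nat.card G))ˣ), Subgroup.mem_inf.mpr ⟨v.1.2,
        MulAction.mem_stabilizer_iff.mpr v.2.symm⟩⟩
      invFun := fun w => ⟨⟨w.1, (Subgroup.mem_inf.mp w.2).1⟩,
        (MulAction.mem_stabilizer_iff.mp (Subgroup.mem_inf.mp w.2).2).symm⟩
      left_inv := fun v => rfl
      right_inv := fun w => rfl }


/-- **Brauer**: let `r` be the number of `p`-conjugates of the irreducible character `χ`.  Then
the `p`-part of `r χ(1)` is at most `|G|_p`, and if it equals `|G|_p` then `|G|_p` divides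
`χ(1)`. -/
theorem pconj_bound (p : ℕ) (hp : p.Prime) (χ : IrrCharacter G) (r : ℕ)
    (hr : Nat.card {ψ : IrrCharacter G // ∃ σ : ℂ ≃+* ℂ,
      σ (Complex.exp (2 * Real.pi * Complex.I /
        ((Nat.card G / p ^ (Nat.card G).factorization p : ℕ) : ℂ))) =
      Complex.exp (2 * Real.pi * Complex.I /
        ((Nat.card G / p ^ (Nat.card G).factorization p : ℕ) : ℂ)) ∧
      (ψ : G → ℂ) = fun g => σ ((χ : G → ℂ) g)} = r) :
    (r * charDegree (χ : G → ℂ)).factorization p ≤ (Nat.card G).factorization p ∧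
      (p ^ (Nat.card G).factorization p ∣ r * charDegree (χ : G → ℂ) →
        p ^ (Nat.card G).factorization p ∣ charDegree (χ : G → ℂ)) := by
  classical
  haveI : Fact p.Prime := ⟨hp⟩
  let _ : Fintype G := Fintype.ofFinite G
  haveI : NeZero (Nat.card G) := ⟨Nat.card_pos.ne'⟩
  obtain ⟨M, hM⟩ := exists_isPModular p
  letI : MulAction (ZMod (Nat.card G))ˣ (IrrCharacter G) := powAct G
  set a := (Nat.card G).factorization p with ha
  set g' := Nat.card G / p ^ a with hg'
  have hn0 : Nat.card G ≠ 0 := Nat.card_pos.ne'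
  have hnfac : p ^ a * g' = Nat.card G := Nat.ordProj_mul_ordCompl_eq_self (Nat.card G) p
  have hpg' : ¬ p ∣ g' := Nat.not_dvd_ordCompl hp hn0
  have hg'pos : 0 < g' := Nat.ordCompl_pos p hn0
  have hg'dvd : g' ∣ Nat.card G := Nat.ordCompl_dvd (Nat.card G) p
  set f := charDegree (χ : G → ℂ) with hf
  have hfpos : 0 < f := irr_charDegree_pos χ
  have hfdvd : f ∣ Nat.card G := irr_charDegree_dvd_card χ
  set Stab := MulAction.stabilizer (ZMod (Nat.card G))ˣ χ with hStab
  set U := (ZMod.unitsMap hg'dvd).ker with hU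
  have hrU : r * Nat.card ↥(U ⊓ Stab) = Nat.card U := by
    rw [← card_orbit_mul_card_inf_stabilizer U χ, ← hr]
    congr 1
    apply Nat.card_congr
    apply Equiv.subtypeEquivRight
    intro ψ
    rw [pConj_iff χ ψ g' hg'pos hg'dvd]
    rfl
  have hUcard : Nat.card U * Nat.totient g' = Nat.totient (Nat.card G) := card_ker_unitsMap hg'dvd
  have hφg' : 0 < Nat.totient g' := Nat.totient_pos.mpr hg'pos
  have hcop : Nat.Coprime (p ^ a) g' :=
    Nat.Coprime.pow_left a ((Nat.Prime.coprime_iff_not_dvd hp).mpr hpg')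
  rcases Nat.eq_zero_or_pos a with ha0 | hapos
  · -- `p` does not divide `|G|`
    have hg'n : g' = Nat.card G := by rw [← hnfac, ha0, pow_zero, one_mul]
    have hU1 : Nat.card U = 1 := by
      have h1 : Nat.card U * Nat.totient g' = 1 * Nat.totient g' := by rw [hUcard, hg'n, one_mul]
      exact Nat.eq_of_mul_eq_mul_right hφg' h1
    have hr1 : r = 1 := by
      rw [hU1] at hrU
      exact Nat.eq_one_of_mul_eq_one_right hrU
    rw [hr1, one_mul, ha0]
    refine ⟨?_, fun _ => by rw [pow_zero]; exact one_dvd _⟩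
    have := (Nat.factorization_le_iff_dvd hfpos.ne' hn0).mpr hfdvd p
    rw [← ha, ha0] at this
    exact this
  -- main case
  have hUcard' : Nat.card U = p ^ (a - 1) * (p - 1) := by
    have h1 : Nat.totient (Nat.card G) = p ^ (a - 1) * (p - 1) * Nat.totient g' := by
      rw [← hnfac, Nat.totient_mul hcop, Nat.totient_prime_pow hp hapos]
    rw [h1] at hUcard
    exact Nat.eq_of_mul_eq_mul_right hφg' hUcard
  have hp1 : 0 < p - 1 := Nat.sub_pos_of_lt hp.one_lt
  have hpa1 : 0 < p ^ (a - 1) := pow_pos hp.pos _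
  have hpa : p ^ a = p * p ^ (a - 1) := by rw [← pow_succ', Nat.sub_add_cancel hapos]
  -- the subgroup `Q`
  set h₁ := g' * p with hh₁
  have hh₁2 : 2 ≤ h₁ := by
    have : 1 * 2 ≤ g' * p := Nat.mul_le_mul hg'pos hp.two_le
    omega
  have hh₁n : h₁ ∣ Nat.card G := ⟨p ^ (a - 1), by rw [← hnfac, hpa, hh₁]; ring⟩
  have hdivh₁ : Nat.card G / h₁ = p ^ (a - 1) := by
    apply Nat.div_eq_of_eq_mul_right (by omega)
    rw [← hnfac, hpa, hh₁]; ring
  have hrad₁ : ∀ q : ℕ, q.Prime → q ∣ Nat.card G → q ∣ h₁ := by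
    intro q hq hqn
    rw [← hnfac] at hqn
    rcases (Nat.Prime.dvd_mul hq).mp hqn with h | h
    · have := (Nat.prime_dvd_prime_iff_eq hq hp).mp (hq.dvd_of_dvd_pow h)
      rw [this]; exact dvd_mul_left p g'
    · exact h.trans (dvd_mul_right g' p)
  set Q := (ZMod.unitsMap hh₁n).ker with hQ
  have hQU : Q ≤ U := ker_unitsMap_le hg'dvd hh₁n (dvd_mul_right g' p)
  set sQ := Nat.card ↥(Q ⊓ Stab) with hsQ
  have hsQU : sQ ∣ Nat.card ↥(U ⊓ Stab) := Subgroup.card_dvd_of_le (inf_le_inf_right Stab hQU)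
  obtain ⟨c, hc⟩ := hsQU
  have hF3 := div_mul_charDegree_dvd h₁ hh₁2 hh₁n hrad₁ χ
  rw [filter_card_eq_card_inf_stabilizer Q χ, hdivh₁] at hF3
  obtain ⟨A, hA⟩ := hF3
  have hrc : r * c * sQ = p ^ (a - 1) * (p - 1) := by
    rw [← hUcard', ← hrU, hc]; ring
  have hkey : (r * f) * (A * c) = Nat.card G * (p - 1) := by
    apply Nat.eq_of_mul_eq_mul_left hpa1
    calc p ^ (a - 1) * (r * f * (A * c)) = (p ^ (a - 1) * f * A) * (r * c) := by ring
      _ = Nat.card G * sQ * (r * c) := by rw [← hA]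
      _ = Nat.card G * (r * c * sQ) := by ring
      _ = p ^ (a - 1) * (Nat.card G * (p - 1)) := by rw [hrc]; ring
  have hr0 : r ≠ 0 := by
    intro h0
    rw [h0] at hrc
    simp at hrc
    omega
  have hrf0 : r * f ≠ 0 := Nat.mul_ne_zero hr0 hfpos.ne'
  have hnp0 : Nat.card G * (p - 1) ≠ 0 := Nat.mul_ne_zero hn0 hp1.ne'
  have hvp1 : (p - 1).factorization p = 0 :=
    Nat.factorization_eq_zero_of_not_dvd (Nat.not_dvd_of_pos_of_lt hp1 (Nat.sub_lt hp.pos Nat.one_pos))
  have hvnp : (Nat.card G * (p - 1)).factorization p = a := by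
    rw [Nat.factorization_mul hn0 hp1.ne', Finsupp.add_apply, hvp1, add_zero]
  refine ⟨?_, ?_⟩
  · have h1 : r * f ∣ Nat.card G * (p - 1) := ⟨A * c, hkey.symm⟩
    have := (Nat.factorization_le_iff_dvd hrf0 hnp0).mpr h1 p
    rw [hvnp] at this
    exact this
  · intro hdvd
    by_contra hnd
    have hvf : f.factorization p < a := by
      by_contra hle
      push Not at hle
      exact hnd ((hp.pow_dvd_iff_le_factorization hfpos.ne').mpr hle)
    have hAc0 : A * c ≠ 0 := by
      intro h0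
      rw [h0, mul_zero] at hkey
      exact hnp0 hkey.symm
    have hpA : ¬ p ∣ A := by
      intro hpA
      have h1 : p ^ a * p ∣ (r * f) * (A * c) := Nat.mul_dvd_mul hdvd (hpA.trans (dvd_mul_right A c))
      rw [hkey, ← pow_succ] at h1
      have := (hp.pow_dvd_iff_le_factorization hnp0).mp h1
      rw [hvnp] at this
      omega
    -- all members of the block are twists of `χ`
    have hA' : Nat.card G * (Finset.univ.filter (fun u : (ZMod.unitsMap hh₁n).ker =>
        χ = twist (u : (ZMod (Nat.card G))ˣ) χ)).card =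
        (Nat.card G / h₁) * charDegree (χ : G → ℂ) * A := by
      rw [filter_card_eq_card_inf_stabilizer (ZMod.unitsMap hh₁n).ker χ, hdivh₁]
      exact hA
    have hdeg : ∀ ψ ∈ blockOf M (χ : G → ℂ), charDegree (ψ : G → ℂ) = charDegree (χ : G → ℂ) := by
      intro ψ hψ
      obtain ⟨u, -, rfl⟩ := exists_twist_of_mem_blockOf hM h₁ hh₁2 hh₁n hrad₁ χ ψ hψ A hA' hpA
      exact charDegree_twist u χ
    -- the subgroup `Q₁`
    set d := a - f.factorization p with hd
    have hd1 : 1 ≤ d := by omega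
    have hda : d ≤ a := Nat.sub_le _ _
    set h₂ := g' * p ^ d with hh₂
    have hpd : p ^ d = p * p ^ (d - 1) := by rw [← pow_succ', Nat.sub_add_cancel hd1]
    have hpad : p ^ a = p ^ d * p ^ (a - d) := by rw [← pow_add, Nat.add_sub_cancel' hda]
    have hh₂2 : 2 ≤ h₂ := by
      have h1 : 2 ≤ p ^ d := by
        rw [hpd]
        have : 2 * 1 ≤ p * p ^ (d - 1) := Nat.mul_le_mul hp.two_le (pow_pos hp.pos _)
        omega
      have : 1 * 2 ≤ g' * p ^ d := Nat.mul_le_mul hg'pos h1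
      omega
    have hh₂n : h₂ ∣ Nat.card G := ⟨p ^ (a - d), by rw [← hnfac, hpad, hh₂]; ring⟩
    have hdivh₂ : Nat.card G / h₂ = p ^ (a - d) := by
      apply Nat.div_eq_of_eq_mul_right (by omega)
      rw [← hnfac, hpad, hh₂]; ring
    have hrad₂ : ∀ q : ℕ, q.Prime → q ∣ Nat.card G → q ∣ h₂ := by
      intro q hq hqn
      have h1 := hrad₁ q hq hqn
      have h2 : h₁ ∣ h₂ := by
        rw [hh₁, hh₂, hpd]
        exact Nat.mul_dvd_mul_left g' (dvd_mul_right p _)
      exact h1.trans h2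
    have h12 : h₁ ∣ h₂ := by
      rw [hh₁, hh₂, hpd]
      exact Nat.mul_dvd_mul_left g' (dvd_mul_right p _)
    set Q₁ := (ZMod.unitsMap hh₂n).ker with hQ₁
    have hQ₁Q : Q₁ ≤ Q := ker_unitsMap_le hh₁n hh₂n h12
    have hQ₁S : Q₁ ≤ Stab := by
      intro u hu
      rw [hStab, MulAction.mem_stabilizer_iff]
      exact twist_eq_self_of_mem_ker hM χ hdeg h₂ rfl hh₂n u hu
    have hQ₁card : Nat.card Q₁ = p ^ (a - d) := by
      rw [hQ₁, card_ker_unitsMap_of_rad (Nat.card G) h₂ hh₂2 hh₂n hrad₂, hdivh₂]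
    have hQ₁dvd : p ^ (a - d) ∣ sQ := by
      rw [← hQ₁card]
      exact Subgroup.card_dvd_of_le (le_inf hQ₁Q hQ₁S)
    obtain ⟨t, ht⟩ := hQ₁dvd
    have hpa1d : p ^ (a - 1) = p ^ (a - d) * p ^ (d - 1) := by
      rw [← pow_add]; congr 1; omega
    have hrt : r * (c * t) = p ^ (d - 1) * (p - 1) := by
      apply Nat.eq_of_mul_eq_mul_left (pow_pos hp.pos (a - d))
      calc p ^ (a - d) * (r * (c * t)) = r * c * (p ^ (a - d) * t) := by ring
        _ = r * c * sQ := by rw [← ht]
        _ = p ^ (a - 1) * (p - 1) := hrc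
        _ = p ^ (a - d) * (p ^ (d - 1) * (p - 1)) := by rw [hpa1d]; ring
    have hvr : r.factorization p ≤ d - 1 := by
      have h1 : r ∣ p ^ (d - 1) * (p - 1) := ⟨c * t, hrt.symm⟩
      have h2 : p ^ (d - 1) * (p - 1) ≠ 0 := Nat.mul_ne_zero (pow_pos hp.pos _).ne' hp1.ne'
      have := (Nat.factorization_le_iff_dvd hr0 h2).mpr h1 p
      rw [Nat.factorization_mul (pow_pos hp.pos _).ne' hp1.ne', Finsupp.add_apply, hvp1, add_zero,
        hp.factorization_pow, Finsupp.single_eq_same] at this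
      exact this
    have hvrf : (r * f).factorization p = r.factorization p + f.factorization p := by
      rw [Nat.factorization_mul hr0 hfpos.ne', Finsupp.add_apply]
    have hle : a ≤ (r * f).factorization p := (hp.pow_dvd_iff_le_factorization hrf0).mp hdvd
    omega

end final

end Cfsg.Agent.Lib.Helper23.PConj
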