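import Mathlib
import Cfsg.Agent.Lib.Helper6.PDDefs

/-!
# S3611 market "PD", leaf PDGE3 (helper23)

The two-point stabilizer `G_α ⊓ G_β` has at least three orbits when `|Ω| ≥ 3`.
-/

set_option autoImplicit false

namespace Cfsg.Agent.Lib.Helper23.PDGE3

open Module MulAction Cfsg.Agent.Lib.Helper6.PD

/-- the orbit class of a point fixed by the whole subgroup is only that point -/
theorem mk_eq_of_fixed {G Ω : Type*} [Group G] [MulAction G Ω] (H : Subgroup G) (α γ : Ω)
    (hfix : ∀ h ∈ H, h • α = α)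
    (h : (Quotient.mk'' γ : MulAction.orbitRel.Quotient H Ω) = Quotient.mk'' α) : γ = α := by
  have h' := Quotient.exact' h
  obtain ⟨⟨k, hk⟩, hk'⟩ := h'
  rw [← hk']
  exact hfix k hk

/-- **PDGE3**.  At least three orbits. -/
theorem PDGE3 {G Ω : Type*} [Group G] [MulAction G Ω] [Finite Ω] (h3 : 3 ≤ Nat.card Ω)
    (α β : Ω) (hαβ : α ≠ β) :
    3 ≤ Nat.card (MulAction.orbitRel.Quotient ↥(stabilizer G α ⊓ stabilizer G β) Ω) := by
  classical
  haveI : Fintype Ω := Fintype.ofFinite Ω
  haveI : Finite (MulAction.orbitRel.Quotient ↥(stabilizer G α ⊓ stabilizer G β) Ω) :=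
    Quotient.finite _
  -- a third point
  have hex : ∃ γ : Ω, γ ≠ α ∧ γ ≠ β := by
    by_contra hcon
    push_neg at hcon
    have hsub : (Finset.univ : Finset Ω) ⊆ {α, β} := by
      intro γ _
      by_cases hγ : γ = α
      · simp [hγ]
      · simp [hcon γ hγ]
    have hc := Finset.card_le_card hsub
    rw [Finset.card_univ, ← Nat.card_eq_fintype_card] at hc
    have : ({α, β} : Finset Ω).card ≤ 2 := Finset.card_le_two
    omega
  obtain ⟨γ, hγα, hγβ⟩ := hex
  have hfa : ∀ h ∈ stabilizer G α ⊓ stabilizer G β, h • α = α := fun h hh => hh.1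
  have hfb : ∀ h ∈ stabilizer G α ⊓ stabilizer G β, h • β = β := fun h hh => hh.2
  let Q := MulAction.orbitRel.Quotient ↥(stabilizer G α ⊓ stabilizer G β) Ω
  let F : Fin 3 → Q := ![Quotient.mk'' α, Quotient.mk'' β, Quotient.mk'' γ]
  have hF : Function.Injective F := by
    intro i j hij
    fin_cases i <;> fin_cases j <;> simp only [F, Fin.zero_eta, Fin.mk_one, Fin.reduceFinMk,
      Matrix.cons_val_zero, Matrix.cons_val_one, Matrix.cons_val_two, Matrix.head_cons,
      Matrix.tail_cons, Matrix.cons_val] at hij <;> first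
      | rfl
      | exact absurd (mk_eq_of_fixed _ _ _ hfb hij) hαβ
      | exact absurd (mk_eq_of_fixed _ _ _ hfa hij) hαβ.symm
      | exact absurd (mk_eq_of_fixed _ _ _ hfa hij) hγα
      | exact absurd (mk_eq_of_fixed _ _ _ hfb hij) hγβ
      | exact absurd (mk_eq_of_fixed _ _ _ hfa hij.symm) hγα
      | exact absurd (mk_eq_of_fixed _ _ _ hfb hij.symm) hγβ
      | exact absurd (mk_eq_of_fixed _ _ _ hfb hij.symm) hαβ
      | exact absurd (mk_eq_of_fixed _ _ _ hfa hij.symm) hαβ.symm
  have := Nat.card_le_card_of_injective F hF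
  simpa using this

end Cfsg.Agent.Lib.Helper23.PDGE3
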