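import Mathlib
import Cfsg.Agent.Lib.Helper6.PDDefs
import Cfsg.Agent.Lib.Helper23.PDGE3

/-!
# S3611 market "PD", leaf PD3T (helper23)

Exactly three orbits of `G_α ⊓ G_β` for one pair `α ≠ β`, and 2-transitivity, give 3-transitivity.
-/

set_option autoImplicit false

namespace Cfsg.Agent.Lib.Helper23.PD3T

open Module MulAction Cfsg.Agent.Lib.Helper6.PD Cfsg.Agent.Lib.Helper23.PDGE3

/-- with exactly three orbits, the two-point stabilizer is transitive off the two points -/
theorem exists_smul_eq_off {G Ω : Type*} [Group G] [MulAction G Ω] [Finite Ω]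
    (α β : Ω) (hαβ : α ≠ β)
    (hcard : Nat.card (MulAction.orbitRel.Quotient ↥(stabilizer G α ⊓ stabilizer G β) Ω) = 3)
    (γ δ : Ω) (hγα : γ ≠ α) (hγβ : γ ≠ β) (hδα : δ ≠ α) (hδβ : δ ≠ β) :
    ∃ h ∈ stabilizer G α ⊓ stabilizer G β, h • γ = δ := by
  classical
  haveI : Finite (MulAction.orbitRel.Quotient ↥(stabilizer G α ⊓ stabilizer G β) Ω) :=
    Quotient.finite _
  have hfa : ∀ h ∈ stabilizer G α ⊓ stabilizer G β, h • α = α := fun h hh => hh.1
  have hfb : ∀ h ∈ stabilizer G α ⊓ stabilizer G β, h • β = β := fun h hh => hh.2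
  by_contra hcon
  push_neg at hcon
  have hne : (Quotient.mk'' δ :
      MulAction.orbitRel.Quotient ↥(stabilizer G α ⊓ stabilizer G β) Ω) ≠ Quotient.mk'' γ := by
    intro h
    obtain ⟨⟨k, hk⟩, hk'⟩ := Quotient.exact' h
    exact hcon k hk hk'
  let Q := MulAction.orbitRel.Quotient ↥(stabilizer G α ⊓ stabilizer G β) Ω
  let F : Fin 4 → Q := ![Quotient.mk'' α, Quotient.mk'' β, Quotient.mk'' γ, Quotient.mk'' δ]
  have hF : Function.Injective F := by
    intro i j hij
    fin_cases i <;> fin_cases j <;> simp only [F, Fin.zero_eta, Fin.mk_one, Fin.reduceFinMk,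
      Matrix.cons_val_zero, Matrix.cons_val_one, Matrix.cons_val_two, Matrix.head_cons,
      Matrix.tail_cons, Matrix.cons_val] at hij <;> first
      | rfl
      | exact absurd hij hne
      | exact absurd hij.symm hne
      | exact absurd (mk_eq_of_fixed _ _ _ hfb hij) hαβ
      | exact absurd (mk_eq_of_fixed _ _ _ hfa hij) hαβ.symm
      | exact absurd (mk_eq_of_fixed _ _ _ hfa hij) hγα
      | exact absurd (mk_eq_of_fixed _ _ _ hfb hij) hγβ
      | exact absurd (mk_eq_of_fixed _ _ _ hfa hij) hδα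
      | exact absurd (mk_eq_of_fixed _ _ _ hfb hij) hδβ
      | exact absurd (mk_eq_of_fixed _ _ _ hfa hij.symm) hγα
      | exact absurd (mk_eq_of_fixed _ _ _ hfb hij.symm) hγβ
      | exact absurd (mk_eq_of_fixed _ _ _ hfa hij.symm) hδα
      | exact absurd (mk_eq_of_fixed _ _ _ hfb hij.symm) hδβ
      | exact absurd (mk_eq_of_fixed _ _ _ hfb hij.symm) hαβ
      | exact absurd (mk_eq_of_fixed _ _ _ hfa hij.symm) hαβ.symm
  have := Nat.card_le_card_of_injective F hF
  simp only [Nat.card_eq_fintype_card, Fintype.card_fin] at this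
  have hQ : Nat.card Q = 3 := hcard
  omega

/-- **PD3T**.  Exactly three orbits for one pair, and 2-transitivity, give 3-transitivity. -/
theorem PD3T {G Ω : Type*} [Group G] [MulAction G Ω] [Finite Ω]
    (h2 : MulAction.IsMultiplyPretransitive G Ω 2) (α β : Ω) (hαβ : α ≠ β)
    (hcard : Nat.card (MulAction.orbitRel.Quotient ↥(stabilizer G α ⊓ stabilizer G β) Ω) = 3) :
    MulAction.IsMultiplyPretransitive G Ω 3 := by
  classical
  rw [MulAction.is_two_pretransitive_iff] at h2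
  rw [MulAction.isMultiplyPretransitive_iff]
  intro x y
  have hx01 : x 0 ≠ x 1 := x.injective.ne (by decide)
  have hx02 : x 0 ≠ x 2 := x.injective.ne (by decide)
  have hx12 : x 1 ≠ x 2 := x.injective.ne (by decide)
  have hy01 : y 0 ≠ y 1 := y.injective.ne (by decide)
  have hy02 : y 0 ≠ y 2 := y.injective.ne (by decide)
  have hy12 : y 1 ≠ y 2 := y.injective.ne (by decide)
  obtain ⟨g1, hg1a, hg1b⟩ := h2 hαβ hx01
  obtain ⟨g2, hg2a, hg2b⟩ := h2 hαβ hy01
  have hγα : g1⁻¹ • x 2 ≠ α := by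
    intro h
    apply hx02
    rw [← hg1a, ← h, smul_inv_smul]
  have hγβ : g1⁻¹ • x 2 ≠ β := by
    intro h
    apply hx12
    rw [← hg1b, ← h, smul_inv_smul]
  have hδα : g2⁻¹ • y 2 ≠ α := by
    intro h
    apply hy02
    rw [← hg2a, ← h, smul_inv_smul]
  have hδβ : g2⁻¹ • y 2 ≠ β := by
    intro h
    apply hy12
    rw [← hg2b, ← h, smul_inv_smul]
  obtain ⟨h, hh, hhγ⟩ := exists_smul_eq_off α β hαβ hcard _ _ hγα hγβ hδα hδβ
  have hha : h • α = α := hh.1
  have hhb : h • β = β := hh.2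
  refine ⟨g2 * h * g1⁻¹, ?_⟩
  ext i
  rw [Function.Embedding.smul_apply]
  fin_cases i
  · show (g2 * h * g1⁻¹) • x 0 = y 0
    rw [mul_smul, mul_smul, ← hg1a, inv_smul_smul, hha, hg2a]
  · show (g2 * h * g1⁻¹) • x 1 = y 1
    rw [mul_smul, mul_smul, ← hg1b, inv_smul_smul, hhb, hg2b]
  · show (g2 * h * g1⁻¹) • x 2 = y 2
    rw [mul_smul, mul_smul, hhγ, smul_inv_smul]

end Cfsg.Agent.Lib.Helper23.PD3T
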