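import Mathlib
import Cfsg.Agent.Lib.Helper6.PDDefs

/-!
# S3611 market "PD", leaf PDELL (helper23)

Semi-invariance of the first moment `ell` under an affine element.
-/

set_option autoImplicit false

namespace Cfsg.Agent.Lib.Helper23.PDELL

open Module MulAction Cfsg.Agent.Lib.Helper6.PD

/-- **PDELL**.  Semi-invariance of `ell` under an affine element. -/
theorem PDELL {G Ω : Type*} [Group G] [MulAction G Ω] [Fintype Ω] {p : ℕ} [Fact p.Prime]
    (e : ZMod p ≃ Ω) (n : G) (u b : ZMod p) (hn : ∀ j : ZMod p, n • e j = e (u * j + b))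
    (f : Ω → ZMod p) :
    u ≠ 0 ∧ u * ell e (fun a => f (n • a)) = ell e f - b * ∑ a, f a := by
  classical
  have hu : u ≠ 0 := by
    intro hu
    have h0 := hn 0
    have h1 := hn 1
    rw [hu] at h0 h1
    simp only [zero_mul, zero_add] at h0 h1
    have h01 : e (0 : ZMod p) = e 1 := MulAction.injective n (h0.trans h1.symm)
    exact zero_ne_one (e.injective h01)
  refine ⟨hu, ?_⟩
  let σ : ZMod p ≃ ZMod p := (Equiv.mulLeft₀ u hu).trans (Equiv.addRight b)
  have hσ : ∀ j, σ j = u * j + b := fun j => rfl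
  have hsum : ∑ a, f a = ∑ i : ZMod p, f (e i) := (Equiv.sum_comp e f).symm
  unfold ell
  rw [Finset.mul_sum]
  have h1 : ∀ j : ZMod p, u * (j * f (n • e j)) = (σ j - b) * f (e (σ j)) := by
    intro j
    rw [hn j, hσ j]
    ring
  rw [Finset.sum_congr rfl (fun j _ => h1 j),
    Equiv.sum_comp σ (fun i => (i - b) * f (e i)), hsum, Finset.mul_sum, ← Finset.sum_sub_distrib]
  apply Finset.sum_congr rfl
  intro i _
  ring

end Cfsg.Agent.Lib.Helper23.PDELL
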