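import Mathlib
import Cfsg.Agent.Lib.Helper6.PDDefs

/-!
# S3611 market "PD", leaf PDZ (helper23)

The functionals `Σ` and `ell` are independent: their common kernel has dimension `≤ p - 2`.
-/

set_option autoImplicit false

namespace Cfsg.Agent.Lib.Helper23.PDZ

open Module MulAction Cfsg.Agent.Lib.Helper6.PD

/-- the sum functional -/
noncomputable def sumL {p : ℕ} (Ω : Type*) [Fintype Ω] : (Ω → ZMod p) →ₗ[ZMod p] ZMod p :=
  ∑ a : Ω, LinearMap.proj a

theorem sumL_apply {p : ℕ} {Ω : Type*} [Fintype Ω] (f : Ω → ZMod p) :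
    sumL (p := p) Ω f = ∑ a, f a := by
  simp [sumL, LinearMap.sum_apply]

/-- the first moment as a linear functional -/
noncomputable def ellL {p : ℕ} [NeZero p] {Ω : Type*} (e : ZMod p ≃ Ω) :
    (Ω → ZMod p) →ₗ[ZMod p] ZMod p :=
  ∑ j : ZMod p, j • LinearMap.proj (e j)

theorem ellL_apply {p : ℕ} [NeZero p] {Ω : Type*} (e : ZMod p ≃ Ω) (f : Ω → ZMod p) :
    ellL e f = ell e f := by
  simp [ellL, ell, LinearMap.sum_apply]

theorem sum_single {p : ℕ} {Ω : Type*} [Fintype Ω] [DecidableEq Ω] (a : Ω) (c : ZMod p) :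
    ∑ x, (Pi.single a c : Ω → ZMod p) x = c := by
  simp

theorem ell_single {p : ℕ} [NeZero p] {Ω : Type*} [DecidableEq Ω] (e : ZMod p ≃ Ω)
    (i : ZMod p) (c : ZMod p) : ell e (Pi.single (e i) c) = i * c := by
  unfold ell
  rw [Finset.sum_eq_single i]
  · simp
  · intro j _ hji
    have : e j ≠ e i := fun h => hji (e.injective h)
    simp [Pi.single_apply, this]
  · intro h
    exact absurd (Finset.mem_univ i) h

/-- **PDZ**.  The two functionals `Σ` and `ell` are independent: their common kernel has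
dimension at most `p - 2`. -/
theorem PDZ {Ω : Type*} [Fintype Ω] [DecidableEq Ω] {p : ℕ} [Fact p.Prime] (e : ZMod p ≃ Ω)
    (Z : Submodule (ZMod p) (Ω → ZMod p))
    (hZ : ∀ f ∈ Z, ∑ a, f a = 0 ∧ ell e f = 0) :
    finrank (ZMod p) Z ≤ p - 2 := by
  classical
  let Φ : (Ω → ZMod p) →ₗ[ZMod p] (ZMod p × ZMod p) := (sumL Ω).prod (ellL e)
  have hΦ : ∀ f, Φ f = (∑ a, f a, ell e f) := by
    intro f
    show ((sumL Ω) f, (ellL e) f) = _
    rw [sumL_apply, ellL_apply]
  have hZker : Z ≤ LinearMap.ker Φ := by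
    intro f hf
    rw [LinearMap.mem_ker, hΦ f, (hZ f hf).1, (hZ f hf).2]
    rfl
  have hsurj : Function.Surjective Φ := by
    rintro ⟨c, d⟩
    refine ⟨c • Pi.single (e 0) 1 + d • (Pi.single (e 1) 1 - Pi.single (e 0) 1), ?_⟩
    rw [map_add, map_smul, map_smul, map_sub, hΦ, hΦ, sum_single, sum_single, ell_single,
      ell_single]
    ext <;> simp
  have hrange : LinearMap.range Φ = ⊤ := LinearMap.range_eq_top.mpr hsurj
  have hrk := LinearMap.finrank_range_add_finrank_ker Φ
  rw [hrange, finrank_top, Module.finrank_prod, Module.finrank_self,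
    Module.finrank_fintype_fun_eq_card] at hrk
  have hcard : Fintype.card Ω = p := by
    rw [← Fintype.card_congr e, ZMod.card]
  have hle := Submodule.finrank_mono hZker
  omega

end Cfsg.Agent.Lib.Helper23.PDZ
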