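/-
helper23: all irreducible degrees p-powers iff normal abelian p-complement (Thompson + Ito + Clifford).
-/
import Mathlib
import Cfsg.Agent.Lib.Helper23.Thompson
import Cfsg.Agent.Lib.Helper2.Ito
import Cfsg.Agent.Lib.Lead.Taketa
import Cfsg.Agent.Lib.Helper6.CliffordCorr

set_option autoImplicit false

namespace Cfsg.Agent.Lib.Helper23

open Cfsg Cfsg.Agent.CharLib Cfsg.Agent.Lib.Helper6
open scoped ComplexConjugate commutatorElement

universe u

/-- a finite group all of whose irreducible characters are linear is abelian -/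
theorem commute_of_forall_irr_linear {H : Type u} [Group H] [Finite H]
    (h : ∀ θ : IrrCharacter H, (θ : H → ℂ) 1 = 1) (a b : H) : a * b = b * a := by
  have h1 : ⁅a, b⁆ = 1 := by
    apply eq_one_of_forall_irr_apply_eq
    intro θ
    rw [h θ]
    exact apply_eq_one_of_mem_commutator (IsIrrCharacter.isCharacter θ.2) (h θ) _
      (Subgroup.commutator_mem_commutator (Subgroup.mem_top a) (Subgroup.mem_top b))
  rw [commutatorElement_def] at h1
  have h2 : a * b * a⁻¹ * b⁻¹ * b * a = 1 * b * a := by rw [h1]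
  simpa [mul_assoc] using h2

/-- every irreducible character of a normal subgroup lies under an irreducible character of `G`,
and its degree divides the degree of that character -/
theorem exists_irr_over {G : Type u} [Group G] [Fintype G] (M : Subgroup G) [hM : M.Normal]
    [Fintype M] (θ : IrrCharacter M) :
    ∃ χ : IrrCharacter G, charDegree (θ : M → ℂ) ∣ charDegree (χ : G → ℂ) := by
  classical
  have hθc : IsCharacter M θ.1 := IsIrrCharacter.isCharacter θ.2
  have hΦ : IsCharacter G (indFun M θ.1) := IsCharacter.indFun M hθc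
  have hΦ0 : indFun M θ.1 ≠ 0 := by
    intro h0
    have h1 := Cfsg.Agent.Lib.Helper6.indFun_apply_one M θ.1
    rw [h0, Pi.zero_apply] at h1
    have h2 : (Nat.card M : ℂ)⁻¹ ≠ 0 := inv_ne_zero (by exact_mod_cast Nat.card_pos.ne')
    have h3 : (Nat.card G : ℂ) ≠ 0 := by exact_mod_cast Nat.card_pos.ne'
    have h4 := Cfsg.Agent.Lib.Helper24.irr_apply_one_ne_zero θ
    exact mul_ne_zero (mul_ne_zero h2 h3) h4 h1.symm
  obtain ⟨χ, hχ, hne⟩ := IsCharacter.exists_constituent hΦ hΦ0
  have hχc : IsCharacter G χ := IsIrrCharacter.isCharacter hχ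
  have hne2 : classInner (resFun M χ) θ.1 ≠ 0 := by
    rw [frobenius_reciprocity M θ.1 (IsCharacter.isClassFunction hχc), ← classInner_conj_symm] at hne
    intro h0
    apply hne
    have : classInner (fun h : M => χ h) θ.1 = 0 := h0
    rw [this, map_zero]
  have hdeg := clifford_degree M hχ θ.2 hne2
  obtain ⟨n, hn⟩ := IsCharacter.classInner_nat (isCharacter_resFun M hχc) hθc
  refine ⟨⟨χ, hχ⟩, ?_⟩
  have h1 := Cfsg.Agent.Lib.Helper24.irr_apply_one θ
  have h2 := Cfsg.Agent.Lib.Helper24.irr_apply_one (⟨χ, hχ⟩ : IrrCharacter G)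
  rw [hn, h1] at hdeg
  change χ 1 = _ at h2
  rw [h2] at hdeg
  have h3 : charDegree χ = n * (conjOrbit M θ.1).card * charDegree θ.1 := by exact_mod_cast hdeg
  exact ⟨n * (conjOrbit M θ.1).card, by rw [h3]; ring⟩


/-- **Isaacs 12.?**: all irreducible degrees are powers of `p` iff `G` has a normal abelian
`p`-complement. -/
theorem forall_irr_ppow_iff {G : Type u} [Group G] [Finite G] (p : ℕ) (hp : p.Prime) :
    (∀ χ : IrrCharacter G, ∃ k : ℕ, (χ : G → ℂ) 1 = (p : ℂ) ^ k) ↔
      ∃ A : Subgroup G, A.Normal ∧ (∀ a ∈ A, ∀ b ∈ A, a * b = b * a) ∧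
        Nat.Coprime (Nat.card A) p ∧ ∃ k : ℕ, A.index = p ^ k := by
  classical
  letI : Fintype G := Fintype.ofFinite G
  constructor
  · intro h
    have hdegpow : ∀ χ : IrrCharacter G, ∃ k : ℕ, charDegree (χ : G → ℂ) = p ^ k := by
      intro χ
      obtain ⟨k, hk⟩ := h χ
      refine ⟨k, ?_⟩
      rw [Cfsg.Agent.Lib.Helper24.irr_apply_one χ] at hk
      exact_mod_cast hk
    have hdeg : ∀ χ : IrrCharacter G, charDegree (χ : G → ℂ) ≠ 1 → p ∣ charDegree (χ : G → ℂ) := by
      intro χ hne
      obtain ⟨k, hk⟩ := hdegpow χ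
      rw [hk] at hne ⊢
      rcases Nat.eq_zero_or_pos k with rfl | hkpos
      · exact absurd (pow_zero p) hne
      · exact dvd_pow_self p hkpos.ne'
    obtain ⟨M, hMn, hcop, k, hk⟩ := thompson_normal_p_complement p hp hdeg
    refine ⟨M, hMn, ?_, hcop, k, hk⟩
    letI : Fintype M := Fintype.ofFinite M
    have hlin : ∀ θ : IrrCharacter M, (θ : M → ℂ) 1 = 1 := by
      intro θ
      obtain ⟨χ, hdvd⟩ := exists_irr_over M θ
      obtain ⟨j, hj⟩ := hdegpow χ
      rw [hj] at hdvd
      obtain ⟨i, _, hi⟩ := (Nat.dvd_prime_pow hp).mp hdvd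
      have hdvd2 := Cfsg.Agent.Lib.Helper24.irr_charDegree_dvd_card θ
      rw [Cfsg.Agent.Lib.Helper24.irr_apply_one θ, hi]
      rcases Nat.eq_zero_or_pos i with rfl | hipos
      · simp
      · exfalso
        have h1 : p ∣ Nat.card M := by
          refine dvd_trans ?_ hdvd2
          rw [hi]
          exact dvd_pow_self p hipos.ne'
        exact (Nat.Prime.coprime_iff_not_dvd hp).1 hcop.symm h1
    intro a ha b hb
    have := commute_of_forall_irr_linear hlin ⟨a, ha⟩ ⟨b, hb⟩
    exact congrArg Subtype.val this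
  · rintro ⟨A, hAn, hab, _, k, hk⟩ χ
    obtain ⟨χf, n, ρ, hirr, rfl⟩ := χ
    haveI := hirr
    have h1 := Cfsg.Agent.Lib.Helper2.ito ρ A hab
    rw [Module.finrank_fin_fun, hk] at h1
    obtain ⟨i, _, hi⟩ := (Nat.dvd_prime_pow hp).mp h1
    refine ⟨i, ?_⟩
    show ρ.character 1 = _
    rw [Representation.char_one, Module.finrank_fin_fun, hi]
    push_cast
    rfl

end Cfsg.Agent.Lib.Helper23
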