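/-
helper23: S4591 part A: an element of a Sylow p-subgroup P lying in the kernel of all p'-degree
irreducible characters lies in P'.
-/
import Mathlib
import Cfsg.Agent.Lib.Helper23.PPrimeKerA
import Cfsg.Agent.Lib.Helper6.LinChar
import Cfsg.Agent.Lib.Lead.BlockBasic

set_option autoImplicit false

namespace Cfsg.Agent.Lib.Helper23.PPrimeKer

open Cfsg Cfsg.Agent.CharLib Cfsg.Agent.Lib.Helper24 Cfsg.Agent.Lib.Helper25 Cfsg.Agent.Lib.Helper6
open scoped ComplexConjugate

universe u
variable {G : Type u} [Group G]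

/-- A homomorphism to `ℂˣ` as an irreducible character. -/
noncomputable def homIrr {H : Type u} [Group H] (φ : H →* ℂˣ) : IrrCharacter H :=
  ⟨fun g => ((φ g : ℂˣ) : ℂ), isIrrCharacter_of_hom φ⟩

theorem homIrr_apply {H : Type u} [Group H] (φ : H →* ℂˣ) (g : H) :
    (homIrr φ : H → ℂ) g = ((φ g : ℂˣ) : ℂ) := rfl

theorem charDegree_homIrr {H : Type u} [Group H] (φ : H →* ℂˣ) :
    charDegree (homIrr φ : H → ℂ) = 1 := by
  apply charDegree_eq_of_apply_one
  rw [homIrr_apply, map_one]
  simp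

/-- An element outside the derived subgroup is detected by a homomorphism to `ℂˣ`. -/
theorem exists_hom_apply_ne_one {H : Type u} [Group H] [Finite H] {x : H} (hx : x ∉ commutator H) :
    ∃ φ : H →* ℂˣ, φ x ≠ 1 := by
  have hx' : (Abelianization.of x : Abelianization H) ≠ 1 := by
    intro h
    apply hx
    exact (QuotientGroup.eq_one_iff x).mp h
  obtain ⟨φ, hφ⟩ := CommGroup.exists_apply_ne_one_of_hasEnoughRootsOfUnity (Abelianization H) ℂ hx'
  exact ⟨φ.comp Abelianization.of, hφ⟩

/-- An element of a Sylow `p`-subgroup `P` that lies in the kernel of every irreducible character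
of degree prime to `p` lies in the derived subgroup of `P`. -/
theorem mem_commutator_of_forall_not_dvd [Finite G] (p : ℕ) [hp : Fact p.Prime] (P : Sylow p G)
    {x : G} (hxP : x ∈ (P : Subgroup G))
    (hx : ∀ χ : IrrCharacter G, ¬ p ∣ charDegree (χ : G → ℂ) →
      (χ : G → ℂ) x = (χ : G → ℂ) 1) :
    x ∈ ⁅(P : Subgroup G), (P : Subgroup G)⁆ := by
  classical
  let _ : Fintype G := Fintype.ofFinite G
  by_contra hcon
  have hx' : (⟨x, hxP⟩ : (P : Subgroup G)) ∉ commutator (P : Subgroup G) := by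
    intro h
    apply hcon
    rw [← Subgroup.map_subtype_commutator]
    exact ⟨⟨x, hxP⟩, h, rfl⟩
  obtain ⟨φ, hφ⟩ := exists_hom_apply_ne_one hx'
  have hidx : ¬ p ∣ (P : Subgroup G).index := P.not_dvd_index
  have hdeg : ¬ p ∣ charDegree (homIrr φ : ↥(P : Subgroup G) → ℂ) := by
    rw [charDegree_homIrr]
    exact hp.out.one_lt.ne' ∘ Nat.dvd_one.mp
  obtain ⟨χ, hχ, hne⟩ := exists_irr_over_not_dvd p hp.out (P : Subgroup G) hidx (homIrr φ) hdeg
  have hker : ((⟨x, hxP⟩ : (P : Subgroup G)) : G) ∈ irrKer χ := (mem_irrKer χ x).mpr (hx χ hχ)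
  have h1 := constituent_apply_eq_of_mem_irrKer χ (P : Subgroup G) (homIrr φ) hne hker
  rw [homIrr_apply, homIrr_apply, map_one] at h1
  apply hφ
  exact Units.ext h1

end Cfsg.Agent.Lib.Helper23.PPrimeKer
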