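/-
helper23: S4591 part D: for a normal subgroup N with C_N(P) = 1 (P a Sylow p-subgroup), the normal
core of N P' lies in the kernel of every irreducible character of degree prime to p.
-/
import Mathlib
import Cfsg.Agent.Lib.Helper23.PPrimeKerB
import Cfsg.Agent.Lib.Helper2.GlaubSolv
import Cfsg.Agent.Lib.Helper6.Gallagher2
import Cfsg.Agent.Lib.Helper10.PGroupBasic
import Cfsg.Agent.S0887

set_option autoImplicit false

namespace Cfsg.Agent.Lib.Helper23.PPrimeKer

open Cfsg Cfsg.Agent.CharLib Cfsg.Agent.Lib.Helper24 Cfsg.Agent.Lib.Helper25 Cfsg.Agent.Lib.Helper6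
open Cfsg.Agent.Lib.Helper2.Glaub
open scoped ComplexConjugate

universe u
variable {G : Type u} [Group G]

/-- A normal subgroup in which a Sylow `p`-subgroup has trivial centralizer has order prime to
`p`. -/
theorem not_dvd_card_of_inf_centralizer_eq_bot [Finite G] (p : ℕ) [hp : Fact p.Prime]
    (P : Sylow p G) (N : Subgroup G) [hNn : N.Normal]
    (hN : N ⊓ Subgroup.centralizer ((P : Subgroup G) : Set G) = ⊥) : ¬ p ∣ Nat.card N := by
  intro hdvd
  obtain ⟨n, hn⟩ := exists_prime_orderOf_dvd_card' p hdvd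
  have hny : orderOf (n : G) = p := by rw [Subgroup.orderOf_coe]; exact hn
  have hpg : IsPGroup p (Subgroup.zpowers (n : G)) := by
    rw [IsPGroup.iff_card, Nat.card_zpowers, hny]
    exact ⟨1, (pow_one p).symm⟩
  obtain ⟨Q, hQ⟩ := hpg.exists_le_sylow
  obtain ⟨g, hg⟩ := MulAction.exists_smul_eq G Q P
  have hzP : g * (n : G) * g⁻¹ ∈ (P : Subgroup G) := by
    rw [← hg]
    have h := Subgroup.smul_mem_pointwise_smul (n : G) (MulAut.conj g) (Q : Subgroup G)
      (hQ (Subgroup.mem_zpowers _))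
    rw [MulAut.smul_def, MulAut.conj_apply] at h
    exact h
  have hzN : g * (n : G) * g⁻¹ ∈ N := hNn.conj_mem _ n.2 g
  have hz1 : g * (n : G) * g⁻¹ ≠ 1 := by
    intro h
    have : (n : G) = 1 := by
      have := congrArg (fun y => g⁻¹ * y * g) h
      rw [show g⁻¹ * (g * (n : G) * g⁻¹) * g = (n : G) by group] at this
      rw [this]; group
    rw [this, orderOf_one] at hny
    exact hp.out.one_lt.ne hny
  -- the normal subgroup `N ∩ P` of `P` meets the centre of `P`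
  have hne : N.subgroupOf (P : Subgroup G) ≠ ⊥ := by
    intro h
    have hmem : (⟨g * (n : G) * g⁻¹, hzP⟩ : (P : Subgroup G)) ∈ N.subgroupOf (P : Subgroup G) :=
      Subgroup.mem_subgroupOf.mpr hzN
    rw [h, Subgroup.mem_bot] at hmem
    exact hz1 (congrArg Subtype.val hmem)
  obtain ⟨x, hxN, hxZ, hx1⟩ :=
    Cfsg.Agent.Lib.Helper10.exists_mem_center_of_normal_ne_bot p P.2 (N.subgroupOf (P : Subgroup G)) hne
  have hxmem : (x : G) ∈ N ⊓ Subgroup.centralizer ((P : Subgroup G) : Set G) := by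
    refine Subgroup.mem_inf.mpr ⟨Subgroup.mem_subgroupOf.mp hxN, ?_⟩
    rw [Subgroup.mem_centralizer_iff]
    intro h hh
    have := Subgroup.mem_center_iff.mp hxZ ⟨h, hh⟩
    exact congrArg Subtype.val this
  rw [hN, Subgroup.mem_bot] at hxmem
  exact hx1 (Subtype.ext hxmem)

/-- The group of irreducible characters of the trivial subgroup has one element. -/
theorem card_irrCharacter_bot : Nat.card (IrrCharacter (⊥ : Subgroup G)) = 1 := by
  rw [card_irrCharacter]
  have hs : Subsingleton (ConjClasses (⊥ : Subgroup G)) :=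
    Function.Surjective.subsingleton ConjClasses.mk_surjective
  exact Nat.card_eq_one_iff_unique.mpr ⟨hs, ⟨ConjClasses.mk 1⟩⟩

/-- If a Sylow `p`-subgroup `P` has trivial centralizer in the normal subgroup `N`, the only
`P`-invariant irreducible character of `N` is the trivial one. -/
theorem eq_one_of_invUnder [Fintype G] (p : ℕ) [hp : Fact p.Prime] (P : Sylow p G)
    (N : Subgroup G) [hNn : N.Normal]
    (hN : N ⊓ Subgroup.centralizer ((P : Subgroup G) : Set G) = ⊥)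
    (θ : IrrCharacter N) (hθ : InvUnder N (P : Subgroup G) (θ : N → ℂ)) :
    (θ : N → ℂ) = 1 := by
  have hnd := not_dvd_card_of_inf_centralizer_eq_bot p P N hN
  have hSG : (P : Subgroup G) ≤ Subgroup.normalizer (N : Set G) := by
    rw [Subgroup.normalizer_eq_top]; exact le_top
  obtain ⟨k, hk⟩ := P.2.exists_card_eq
  have hcop : (Nat.card N).Coprime (Nat.card (P : Subgroup G)) := by
    rw [hk]
    exact Nat.Coprime.pow_right k ((Nat.Prime.coprime_iff_not_dvd hp.out).mpr hnd).symm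
  have hsolv : Group.IsSolvable (P : Subgroup G) := by
    haveI := P.2.isNilpotent
    infer_instance
  have hcard := card_inv_irr_solv N (P : Subgroup G) ⊥ hSG hcop hsolv hN.symm
  rw [card_irrCharacter_bot] at hcard
  obtain ⟨hss, _⟩ := Nat.card_eq_one_iff_unique.mp hcard
  have h1 : InvUnder N (P : Subgroup G) (1 : N → ℂ) := fun _ _ _ _ _ => rfl
  have := hss.elim ⟨θ, hθ⟩ ⟨⟨1, isIrrCharacter_one N⟩, h1⟩
  exact congrArg (fun ξ => ((ξ : {χ : IrrCharacter N // InvUnder N (P : Subgroup G) (χ : N → ℂ)}) :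
    IrrCharacter N).1) this

/-- Key step: a `p'`-degree irreducible character of `G` has, on `N P`, a linear constituent which
is trivial on `N`. -/
theorem exists_hom_constituent [Fintype G] (p : ℕ) [hp : Fact p.Prime] (P : Sylow p G)
    (N : Subgroup G) [hNn : N.Normal]
    (hN : N ⊓ Subgroup.centralizer ((P : Subgroup G) : Set G) = ⊥)
    [Fintype ↥(N ⊔ (P : Subgroup G))]
    (χ : IrrCharacter G) (hχ : ¬ p ∣ charDegree (χ : G → ℂ)) :
    ∃ φ : ↥(N ⊔ (P : Subgroup G)) →* ℂˣ,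
      classInner (fun h : ↥(N ⊔ (P : Subgroup G)) => (χ : G → ℂ) h)
        (homIrr φ : ↥(N ⊔ (P : Subgroup G)) → ℂ) ≠ 0 ∧
      ∀ n : ↥(N ⊔ (P : Subgroup G)), (n : G) ∈ N → φ n = 1 := by
  classical
  obtain ⟨ψ, hψdeg, hψne⟩ := exists_irr_res_not_dvd p χ hχ (N ⊔ (P : Subgroup G))
  have hNH : N ≤ N ⊔ (P : Subgroup G) := le_sup_left
  have hPH : (P : Subgroup G) ≤ N ⊔ (P : Subgroup G) := le_sup_right
  let N' : Subgroup ↥(N ⊔ (P : Subgroup G)) := N.subgroupOf (N ⊔ (P : Subgroup G))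
  haveI : N'.Normal := Subgroup.normal_subgroupOf
  obtain ⟨θ, hθdeg, hθne⟩ := exists_irr_res_not_dvd p ψ hψdeg N'
  have h887 := Cfsg.Agent.S0887.result N' (ψ : ↥(N ⊔ (P : Subgroup G)) → ℂ) ψ.2 (θ : N' → ℂ) θ.2 hθne
    (charDegree (ψ : ↥(N ⊔ (P : Subgroup G)) → ℂ)) (charDegree (θ : N' → ℂ))
    (irr_apply_one ψ) (irr_apply_one θ)
  obtain ⟨hdc, hquot⟩ := h887
  -- the index is a power of `p`
  obtain ⟨k, hk⟩ := P.2.exists_card_eq
  have hidx : N'.index ∣ p ^ k := by
    have h1 : N'.index = N.relIndex (N ⊔ (P : Subgroup G)) := rfl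
    rw [h1, Subgroup.relIndex_sup_left, ← hk]
    exact Subgroup.relIndex_dvd_card _ _
  have hq1 : charDegree (ψ : ↥(N ⊔ (P : Subgroup G)) → ℂ) / charDegree (θ : N' → ℂ) = 1 := by
    obtain ⟨j, _, hj⟩ := (Nat.dvd_prime_pow hp.out).mp (hquot.trans hidx)
    rcases Nat.eq_zero_or_pos j with h0 | hpos
    · rw [hj, h0, pow_zero]
    · exfalso
      apply hψdeg
      have h2 : p ∣ charDegree (ψ : ↥(N ⊔ (P : Subgroup G)) → ℂ) / charDegree (θ : N' → ℂ) := by
        rw [hj]; exact dvd_pow_self p hpos.ne'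
      exact h2.trans (Nat.div_dvd_of_dvd hdc)
  have hcd : charDegree (ψ : ↥(N ⊔ (P : Subgroup G)) → ℂ) = charDegree (θ : N' → ℂ) := by
    have := Nat.div_mul_cancel hdc
    rw [hq1, one_mul] at this
    exact this.symm
  -- `ψ` restricts irreducibly to `N`
  have hres : (fun n : N' => (ψ : ↥(N ⊔ (P : Subgroup G)) → ℂ) n) = (θ : N' → ℂ) := by
    apply IsCharacter.eq_of_constituent_of_degree_le
      (IsCharacter.restrict (IsIrrCharacter.isCharacter ψ.2) N') θ.2 hθne
      (D := charDegree (ψ : ↥(N ⊔ (P : Subgroup G)) → ℂ)) (d := charDegree (θ : N' → ℂ))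
    · show (ψ : ↥(N ⊔ (P : Subgroup G)) → ℂ) ((1 : N') : ↥(N ⊔ (P : Subgroup G))) = _
      rw [Subgroup.coe_one, irr_apply_one]
    · exact irr_apply_one θ
    · exact hcd.le
  -- transport to `N`
  let e : N ≃* N' := (Subgroup.subgroupOfEquivOfLe hNH).symm
  have hθt : IsIrrCharacter N (fun n : N => (ψ : ↥(N ⊔ (P : Subgroup G)) → ℂ) ⟨n, hNH n.2⟩) := by
    have h1 := IsIrrCharacter.comp_mulEquiv θ.2 e
    convert h1 using 1
    funext n
    rw [Function.comp_apply, ← hres]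
    congr 1
  have hinv : InvUnder N (P : Subgroup G)
      (fun n : N => (ψ : ↥(N ⊔ (P : Subgroup G)) → ℂ) ⟨n, hNH n.2⟩) := by
    intro t ht g g' hg'
    have hcf := IsCharacter.isClassFunction (IsIrrCharacter.isCharacter ψ.2)
    have h1 := hcf ⟨g, hNH g.2⟩ ⟨t, hPH ht⟩
    show (ψ : ↥(N ⊔ (P : Subgroup G)) → ℂ) ⟨g', hNH g'.2⟩ = (ψ : ↥(N ⊔ (P : Subgroup G)) → ℂ) ⟨g, hNH g.2⟩
    rw [← h1]
    refine congrArg (ψ : ↥(N ⊔ (P : Subgroup G)) → ℂ) (Subtype.ext ?_)
    simp only [Subgroup.coe_mul, Subgroup.coe_inv]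
    exact hg'
  have htriv := eq_one_of_invUnder p P N hN ⟨_, hθt⟩ hinv
  have hψN : ∀ n : ↥(N ⊔ (P : Subgroup G)), (n : G) ∈ N →
      (ψ : ↥(N ⊔ (P : Subgroup G)) → ℂ) n = 1 := by
    intro n hn
    have := congrFun htriv ⟨(n : G), hn⟩
    simpa using this
  have hψ1 : (ψ : ↥(N ⊔ (P : Subgroup G)) → ℂ) 1 = 1 := hψN 1 (by rw [Subgroup.coe_one]; exact N.one_mem)
  let φ : ↥(N ⊔ (P : Subgroup G)) →* ℂˣ := linCharUnitsHom (IsIrrCharacter.isCharacter ψ.2) hψ1
  have hφψ : homIrr φ = ψ := by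
    apply Subtype.ext
    funext g
    rfl
  refine ⟨φ, ?_, ?_⟩
  · rw [hφψ]; exact hψne
  · intro n hn
    apply Units.ext
    show (ψ : ↥(N ⊔ (P : Subgroup G)) → ℂ) n = 1
    exact hψN n hn

end Cfsg.Agent.Lib.Helper23.PPrimeKer
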