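/-
helper23: S4591 part D (end): the normal core of N P' lies in the kernel of every irreducible
character of degree prime to p.
-/
import Mathlib
import Cfsg.Agent.Lib.Helper23.PPrimeKerC

set_option autoImplicit false

namespace Cfsg.Agent.Lib.Helper23.PPrimeKer

open Cfsg Cfsg.Agent.CharLib Cfsg.Agent.Lib.Helper24 Cfsg.Agent.Lib.Helper25 Cfsg.Agent.Lib.Helper6
open Cfsg.Agent.Lib.Helper2.Glaub
open scoped ComplexConjugate commutatorElement

universe u
variable {G : Type u} [Group G]

/-- If a character `Φ` of `H` has a linear constituent `φ` which is trivial on the subgroup `C`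
of `H`, then the trivial character is a constituent of the restriction of `Φ` to `C`. -/
theorem classInner_res_one_ne_zero {H : Type u} [Group H] [Fintype H] {Φ : H → ℂ}
    (hΦ : IsCharacter H Φ) (φ : H →* ℂˣ) (hφ : classInner Φ (homIrr φ : H → ℂ) ≠ 0)
    (C : Subgroup H) [Fintype C] (hC : ∀ c ∈ C, φ c = 1) :
    classInner (fun c : C => Φ c) (1 : C → ℂ) ≠ 0 := by
  classical
  let _ := fintypeIrr H
  obtain ⟨m, hm, hcoef⟩ := IsCharacter.exists_decomp_sum hΦ
  have h1C : IsCharacter C (1 : C → ℂ) := IsIrrCharacter.isCharacter (isIrrCharacter_one C)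
  have hnat : ∀ μ : IrrCharacter H, ∃ n : ℕ, classInner (fun c : C => (μ : H → ℂ) c) (1 : C → ℂ) = n :=
    fun μ => IsCharacter.classInner_nat (IsCharacter.restrict (IsIrrCharacter.isCharacter μ.2) C) h1C
  choose n hn using hnat
  have hdec : (fun c : C => Φ c) = ∑ μ : IrrCharacter H, (m μ : ℂ) • (fun c : C => (μ : H → ℂ) c) := by
    funext c
    have := congrFun hm c
    rw [Finset.sum_apply] at this
    rw [this, Finset.sum_apply]
    apply Finset.sum_congr rfl
    intro μ _
    rw [Pi.smul_apply, Pi.smul_apply, smul_eq_mul, nsmul_eq_mul]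
  have hval : classInner (fun c : C => Φ c) (1 : C → ℂ) = ((∑ μ : IrrCharacter H, m μ * n μ : ℕ) : ℂ) := by
    rw [hdec, classInner_sum_left]
    push_cast
    apply Finset.sum_congr rfl
    intro μ _
    rw [classInner_smul_left, hn μ]
  rw [hval]
  have hφ1 : n (homIrr φ) = 1 := by
    have h1 : (fun c : C => (homIrr φ : H → ℂ) c) = (1 : C → ℂ) := by
      funext c
      rw [homIrr_apply, hC c c.2]
      simp
    have h2 := hn (homIrr φ)
    rw [h1, classInner_irr (isIrrCharacter_one C) (isIrrCharacter_one C), if_pos rfl] at h2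
    exact_mod_cast h2.symm
  have hmφ : m (homIrr φ) ≠ 0 := by
    intro h0
    apply hφ
    rw [hcoef, h0, Nat.cast_zero]
  have hpos : 0 < ∑ μ : IrrCharacter H, m μ * n μ := by
    apply Finset.sum_pos'
    · intro μ _; exact Nat.zero_le _
    · exact ⟨homIrr φ, Finset.mem_univ _, by rw [hφ1, mul_one]; exact Nat.pos_of_ne_zero hmφ⟩
  exact_mod_cast hpos.ne'

/-- For a normal subgroup `N` with `C_N(P) = 1`, the normal core of `N P'` lies in the kernel of
every irreducible character of degree prime to `p`. -/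
theorem apply_eq_of_mem_normalCore [Finite G] (p : ℕ) [hp : Fact p.Prime] (P : Sylow p G)
    (N : Subgroup G) [hNn : N.Normal]
    (hN : N ⊓ Subgroup.centralizer ((P : Subgroup G) : Set G) = ⊥)
    (χ : IrrCharacter G) (hχ : ¬ p ∣ charDegree (χ : G → ℂ)) {g : G}
    (hg : g ∈ (N ⊔ ⁅(P : Subgroup G), (P : Subgroup G)⁆).normalCore) :
    (χ : G → ℂ) g = (χ : G → ℂ) 1 := by
  classical
  let _ : Fintype G := Fintype.ofFinite G
  obtain ⟨φ, hφne, hφN⟩ := exists_hom_constituent p P N hN χ hχ
  -- the subgroup of `G` on which `φ` is trivial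
  let K' : Subgroup G := φ.ker.map (N ⊔ (P : Subgroup G)).subtype
  have hNK : N ≤ K' := by
    intro n hn
    exact ⟨⟨n, le_sup_left (a := N) hn⟩, MonoidHom.mem_ker.mpr (hφN _ hn), rfl⟩
  have hPK : ⁅(P : Subgroup G), (P : Subgroup G)⁆ ≤ K' := by
    rw [Subgroup.commutator_le]
    intro a ha b hb
    refine ⟨⁅(⟨a, le_sup_right (a := N) ha⟩ : ↥(N ⊔ (P : Subgroup G))), ⟨b, le_sup_right (a := N) hb⟩⁆, ?_, rfl⟩
    rw [SetLike.mem_coe, MonoidHom.mem_ker, map_commutatorElement]
    exact commutatorElement_eq_one_iff_commute.mpr (Commute.all _ _)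
  let C : Subgroup G := (N ⊔ ⁅(P : Subgroup G), (P : Subgroup G)⁆).normalCore
  have hCK : C ≤ K' := (Subgroup.normalCore_le _).trans (sup_le hNK hPK)
  have hCH : C ≤ N ⊔ (P : Subgroup G) := by
    intro c hc
    obtain ⟨h, _, rfl⟩ := hCK hc
    exact h.2
  haveI : C.Normal := Subgroup.normalCore_normal _
  -- the trivial character of `C` is a constituent of the restriction of `χ`
  let C' : Subgroup ↥(N ⊔ (P : Subgroup G)) := C.subgroupOf (N ⊔ (P : Subgroup G))
  have hC' : ∀ c ∈ C', φ c = 1 := by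
    intro c hc
    obtain ⟨h, hker, hh⟩ := hCK (Subgroup.mem_subgroupOf.mp hc)
    have : h = c := Subtype.ext hh
    rw [← this]
    exact MonoidHom.mem_ker.mp hker
  have hne := classInner_res_one_ne_zero
    (IsCharacter.restrict (IsIrrCharacter.isCharacter χ.2) (N ⊔ (P : Subgroup G))) φ hφne C' hC'
  -- transport the sum from `C'` to `C`
  let e : C' ≃* C := Subgroup.subgroupOfEquivOfLe hCH
  have hsum : ∑ c : C', (χ : G → ℂ) ((c : ↥(N ⊔ (P : Subgroup G))) : G) = ∑ c : C, (χ : G → ℂ) c := by
    apply Fintype.sum_equiv e.toEquiv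
    intro c
    rfl
  have hne2 : ∑ c : C, (χ : G → ℂ) c ≠ 0 := by
    intro h0
    apply hne
    unfold classInner
    have : ∑ c : C', (fun c : C' => (χ : G → ℂ) ((c : ↥(N ⊔ (P : Subgroup G))) : G)) c * conj ((1 : C' → ℂ) c)
        = ∑ c : C', (χ : G → ℂ) ((c : ↥(N ⊔ (P : Subgroup G))) : G) := by
      apply Finset.sum_congr rfl
      intro c _
      simp
    rw [this, hsum, h0, mul_zero]
  have hind : classInner (indFun C (1 : C → ℂ)) (χ : G → ℂ) ≠ 0 := by
    rw [classInner_indFun_one C (IsCharacter.isClassFunction (IsIrrCharacter.isCharacter χ.2))]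
    apply mul_ne_zero
    · have : Nat.card C ≠ 0 := Nat.card_pos.ne'
      exact inv_ne_zero (by exact_mod_cast this)
    · intro h0
      apply hne2
      have := congrArg conj h0
      rwa [Complex.conj_conj, map_zero] at this
  have hker := (apply_mul_of_indFun_one_ne_zero C χ.2 hind).2 ⟨g, hg⟩ 1
  simpa using hker

end Cfsg.Agent.Lib.Helper23.PPrimeKer
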