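/-
helper23: S4591 part B: the intersection `K` of the kernels of the `p'`-degree irreducible
characters as a normal subgroup; `K ∩ P ≤ P'`, Tate's theorem, and the factorization
`K = O_{p'}(K) (K ∩ P)`.
-/
import Mathlib
import Cfsg.Agent.Lib.Helper23.PPrimeKerB
import Cfsg.Agent.Lib.Helper1.PGroup
import Cfsg.Agent.Lib.Helper12.Cores
import Cfsg.Agent.Lib.Helper12.PComplement
import Cfsg.Agent.S0081

set_option autoImplicit false

namespace Cfsg.Agent.Lib.Helper23.PPrimeKer

open Cfsg Cfsg.Agent.CharLib Cfsg.Agent.Lib.Helper24 Cfsg.Agent.Lib.Helper25 Cfsg.Agent.Lib.Helper6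
open scoped ComplexConjugate Pointwise

universe u
variable {G : Type u} [Group G]

/-- The intersection of the kernels of the irreducible characters of degree prime to `p`. -/
noncomputable def pPrimeKer (G : Type u) [Group G] [Finite G] (p : ℕ) : Subgroup G :=
  ⨅ χ : {χ : IrrCharacter G // ¬ p ∣ charDegree (χ : G → ℂ)}, irrKer χ.1

instance pPrimeKer_normal [Finite G] (p : ℕ) : (pPrimeKer G p).Normal :=
  Subgroup.normal_iInf_normal (fun χ => irrKer_normal χ.1)

theorem mem_pPrimeKer [Finite G] (p : ℕ) (g : G) :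
    g ∈ pPrimeKer G p ↔ ∀ χ : IrrCharacter G, ¬ p ∣ charDegree (χ : G → ℂ) →
      (χ : G → ℂ) g = (χ : G → ℂ) 1 := by
  unfold pPrimeKer
  rw [Subgroup.mem_iInf]
  constructor
  · intro h χ hχ
    exact (mem_irrKer χ g).mp (h ⟨χ, hχ⟩)
  · intro h χ
    exact (mem_irrKer χ.1 g).mpr (h χ.1 χ.2)

theorem pPrimeKer_inf_sylow_le [Finite G] (p : ℕ) [hp : Fact p.Prime] (P : Sylow p G) :
    pPrimeKer G p ⊓ (P : Subgroup G) ≤ ⁅(P : Subgroup G), (P : Subgroup G)⁆ := by
  intro x hx
  obtain ⟨hxK, hxP⟩ := Subgroup.mem_inf.mp hx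
  exact mem_commutator_of_forall_not_dvd p P hxP ((mem_pPrimeKer p x).mp hxK)

theorem hasNormalPComplement_pPrimeKer [Finite G] (p : ℕ) [hp : Fact p.Prime] (P : Sylow p G) :
    HasNormalPComplement p ↥(pPrimeKer G p) := by
  apply Cfsg.Agent.S0081.result P (pPrimeKer G p)
  refine (pPrimeKer_inf_sylow_le p P).trans ?_
  rw [← Subgroup.map_subtype_commutator]
  exact Subgroup.map_mono (Cfsg.Agent.Lib.Helper1.IsPGroup.commutator_le_frattini P.2)

/-- A normal subgroup `K` with a normal `p`-complement is the product of `O_{p'}(K)` and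
`P ∩ K`. -/
theorem exists_mul_of_hasNormalPComplement [Finite G] (p : ℕ) [hp : Fact p.Prime] (P : Sylow p G)
    (K : Subgroup G) [hK : K.Normal] (h : HasNormalPComplement p ↥K) {k : G} (hk : k ∈ K) :
    ∃ l ∈ (pPrimeCore p ↥K).map K.subtype, ∃ y ∈ (P : Subgroup G) ⊓ K, k = l * y := by
  obtain ⟨Q, L, hLn, hLQ⟩ := h
  -- `L ≤ O_{p'}(K)`
  have hLcard : Nat.card L = (Q : Subgroup K).index := (hLQ.index_eq_card).symm
  have hLcop : (Nat.card L).Coprime p := by
    rw [hLcard]
    exact ((Nat.Prime.coprime_iff_not_dvd hp.out).mpr Q.not_dvd_index).symm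
  have hLle : L ≤ pPrimeCore p ↥K := Cfsg.Agent.Lib.Helper12.le_pPrimeCore p L hLn hLcop
  obtain ⟨a, ha⟩ := Q.2.exists_card_eq
  have hLidx : L.index = p ^ a := by rw [hLQ.symm.index_eq_card, ha]
  -- `P ∩ K` has `p'`-index in `K`
  have hD : ¬ p ∣ ((P : Subgroup G) ⊓ K).relIndex K :=
    Cfsg.Agent.Lib.Helper12.sylow_inf_relIndex P ⊤ K le_top le_top
      (fun h _ k hk => hK.conj_mem k hk h)
  let L' : Subgroup K := pPrimeCore p ↥K
  let D' : Subgroup K := ((P : Subgroup G) ⊓ K).subgroupOf K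
  haveI : L'.Normal := by
    have := Cfsg.Agent.Lib.Helper12.pPrimeCore_characteristic (G := ↥K) p
    infer_instance
  have htop : L' ⊔ D' = ⊤ := by
    rw [← Subgroup.index_eq_one]
    have h1 : (L' ⊔ D').index ∣ p ^ a := by
      rw [← hLidx]
      exact Subgroup.index_dvd_of_le (hLle.trans le_sup_left)
    have h2 : (L' ⊔ D').index ∣ ((P : Subgroup G) ⊓ K).relIndex K :=
      Subgroup.index_dvd_of_le le_sup_right
    obtain ⟨j, _, hj⟩ := (Nat.dvd_prime_pow hp.out).mp h1
    rcases Nat.eq_zero_or_pos j with h0 | hpos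
    · rw [hj, h0, pow_zero]
    · exfalso
      apply hD
      refine dvd_trans ?_ h2
      rw [hj]
      exact dvd_pow_self p hpos.ne'
  have hkmem : (⟨k, hk⟩ : K) ∈ L' ⊔ D' := by rw [htop]; exact Subgroup.mem_top _
  have hset : ((⟨k, hk⟩ : K)) ∈ ((L' : Set K) * (D' : Set K)) := by
    rw [← Subgroup.normal_mul]
    exact hkmem
  obtain ⟨l, hl, y, hy, hly⟩ := Set.mem_mul.mp hset
  refine ⟨(l : G), ⟨l, hl, rfl⟩, (y : G), Subgroup.mem_subgroupOf.mp hy, ?_⟩
  have := congrArg Subtype.val hly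
  simpa using this.symm

theorem pPrimeCore_map_normal [Finite G] (p : ℕ) (K : Subgroup G) [hK : K.Normal] :
    ((pPrimeCore p ↥K).map K.subtype).Normal := by
  haveI := Cfsg.Agent.Lib.Helper12.pPrimeCore_characteristic (G := ↥K) p
  exact ConjAct.normal_of_characteristic_of_normal

theorem not_dvd_card_pPrimeCore_map [Finite G] (p : ℕ) [hp : Fact p.Prime] (K : Subgroup G) :
    ¬ p ∣ Nat.card ((pPrimeCore p ↥K).map K.subtype) := by
  rw [Subgroup.card_map_of_injective K.subtype_injective]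
  have := Cfsg.Agent.Lib.Helper12.pPrimeCore_coprime (X := ↥K) p
  exact (Nat.Prime.coprime_iff_not_dvd hp.out).mp this.symm

end Cfsg.Agent.Lib.Helper23.PPrimeKer
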