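/-
helper23: S4591 part C: a normal `p'`-subgroup `L` contained in the kernel of every `p'`-degree
irreducible character satisfies `C_L(P) = 1`.
-/
import Mathlib
import Cfsg.Agent.Lib.Helper23.PPrimeKerC
import Cfsg.Agent.Lib.Helper2.GlaubTwist
import Cfsg.Agent.S0867

set_option autoImplicit false

namespace Cfsg.Agent.Lib.Helper23.PPrimeKer

open Cfsg Cfsg.Agent.CharLib Cfsg.Agent.Lib.Helper24 Cfsg.Agent.Lib.Helper25 Cfsg.Agent.Lib.Helper6
open Cfsg.Agent.Lib.Helper2.Glaub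
open scoped ComplexConjugate

universe u
variable {G : Type u} [Group G]

/-- An irreducible character which is constant is the trivial character. -/
theorem eq_one_of_forall_apply_eq {H : Type u} [Group H] [Finite H] (θ : IrrCharacter H)
    (h : ∀ x : H, (θ : H → ℂ) x = (θ : H → ℂ) 1) : (θ : H → ℂ) = 1 := by
  classical
  let _ : Fintype H := Fintype.ofFinite H
  have h1 := classInner_irr θ.2 (isIrrCharacter_one H)
  by_contra hne
  rw [if_neg hne] at h1
  unfold classInner at h1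
  have h2 : ∑ g : H, (θ : H → ℂ) g * conj ((1 : H → ℂ) g) = (Nat.card H : ℂ) * (θ : H → ℂ) 1 := by
    rw [Finset.sum_congr rfl (fun g _ => by rw [h g, Pi.one_apply, map_one, mul_one]),
      Finset.sum_const, Finset.card_univ, nsmul_eq_mul, Nat.card_eq_fintype_card]
  rw [h2] at h1
  have hH : (Nat.card H : ℂ) ≠ 0 := by
    have : Nat.card H ≠ 0 := Nat.card_pos.ne'
    exact_mod_cast this
  rw [← mul_assoc, inv_mul_cancel₀ hH, one_mul] at h1
  exact irr_apply_one_ne_zero θ h1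

/-- A nontrivial finite group has at least two conjugacy classes. -/
theorem one_lt_card_conjClasses {H : Type u} [Group H] [Finite H] {c : H} (hc : c ≠ 1) :
    1 < Nat.card (ConjClasses H) := by
  rw [Finite.one_lt_card_iff_nontrivial]
  refine ⟨⟨ConjClasses.mk c, ConjClasses.mk 1, ?_⟩⟩
  intro h
  rw [ConjClasses.mk_eq_mk_iff_isConj] at h
  exact hc (isConj_one_left.mp h)

/-- A normal `p'`-subgroup `L` lying in the kernel of every irreducible character of degree prime
to `p` has no nontrivial fixed points under a Sylow `p`-subgroup. -/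
theorem inf_centralizer_eq_bot_of_forall_apply_eq [Finite G] (p : ℕ) [hp : Fact p.Prime]
    (P : Sylow p G) (L : Subgroup G) [hLn : L.Normal] (hLp : ¬ p ∣ Nat.card L)
    (hLK : ∀ x ∈ L, ∀ χ : IrrCharacter G, ¬ p ∣ charDegree (χ : G → ℂ) →
      (χ : G → ℂ) x = (χ : G → ℂ) 1) :
    L ⊓ Subgroup.centralizer ((P : Subgroup G) : Set G) = ⊥ := by
  classical
  let _ : Fintype G := Fintype.ofFinite G
  by_contra hne
  -- a nontrivial fixed point
  obtain ⟨c, hc1⟩ := (Subgroup.ne_bot_iff_exists_ne_one).mp hne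
  have hSG : (P : Subgroup G) ≤ Subgroup.normalizer (L : Set G) := by
    rw [Subgroup.normalizer_eq_top]; exact le_top
  obtain ⟨k, hk⟩ := P.2.exists_card_eq
  have hcopp : (Nat.card L).Coprime p := ((Nat.Prime.coprime_iff_not_dvd hp.out).mpr hLp).symm
  have hcop : (Nat.card L).Coprime (Nat.card (P : Subgroup G)) := by
    rw [hk]; exact Nat.Coprime.pow_right k hcopp
  have hsolv : Group.IsSolvable (P : Subgroup G) := by
    haveI := P.2.isNilpotent
    infer_instance
  have hcard := card_inv_irr_solv L (P : Subgroup G)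
    (L ⊓ Subgroup.centralizer ((P : Subgroup G) : Set G)) hSG hcop hsolv rfl
  rw [card_irrCharacter] at hcard
  have hlt : 1 < Nat.card {χ : IrrCharacter L // InvUnder L (P : Subgroup G) (χ : L → ℂ)} := by
    rw [hcard]
    exact one_lt_card_conjClasses hc1
  -- a nontrivial invariant irreducible character of `L`
  have h1inv : InvUnder L (P : Subgroup G) (1 : L → ℂ) := fun _ _ _ _ _ => rfl
  haveI : Nontrivial {χ : IrrCharacter L // InvUnder L (P : Subgroup G) (χ : L → ℂ)} :=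
    Finite.one_lt_card_iff_nontrivial.mp hlt
  obtain ⟨⟨θ, hθinv⟩, hθne⟩ := exists_ne
    (⟨⟨1, isIrrCharacter_one L⟩, h1inv⟩ : {χ : IrrCharacter L // InvUnder L (P : Subgroup G) (χ : L → ℂ)})
  have hθ1 : (θ : L → ℂ) ≠ 1 := by
    intro h
    apply hθne
    apply Subtype.ext
    apply Subtype.ext
    exact h
  -- the group `H = L P`
  have hLH : L ≤ L ⊔ (P : Subgroup G) := le_sup_left
  have hPH : (P : Subgroup G) ≤ L ⊔ (P : Subgroup G) := le_sup_right
  let L' : Subgroup ↥(L ⊔ (P : Subgroup G)) := L.subgroupOf (L ⊔ (P : Subgroup G))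
  haveI hL'n : L'.Normal := Subgroup.normal_subgroupOf
  let e : L' ≃* L := Subgroup.subgroupOfEquivOfLe hLH
  have hθ' : IsIrrCharacter L' ((θ : L → ℂ) ∘ e) := IsIrrCharacter.comp_mulEquiv θ.2 e
  -- invariance in `H`
  have hinvH : L ⊔ (P : Subgroup G) ≤ invSub L (θ : L → ℂ) := by
    apply sup_le
    · intro l hl
      refine ⟨by rw [Subgroup.normalizer_eq_top]; exact Subgroup.mem_top _, ?_⟩
      intro g g' hg'
      have hcf := IsCharacter.isClassFunction (IsIrrCharacter.isCharacter θ.2)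
      have := hcf g ⟨l, hl⟩
      rw [← this]
      refine congrArg (θ : L → ℂ) (Subtype.ext ?_)
      simp only [Subgroup.coe_mul, Subgroup.coe_inv]
      exact hg'
    · exact (invUnder_iff_le_invSub hSG _).mp hθinv
  have hinv : ∀ (g : ↥(L ⊔ (P : Subgroup G))) (n : L'),
      ((θ : L → ℂ) ∘ e) ⟨g * n * g⁻¹, hL'n.conj_mem (n : ↥(L ⊔ (P : Subgroup G))) n.2 g⟩ =
        ((θ : L → ℂ) ∘ e) n := by
    intro g n
    exact (hinvH g.2).2 (e n) (e ⟨g * n * g⁻¹, hL'n.conj_mem (n : ↥(L ⊔ (P : Subgroup G))) n.2 g⟩) rfl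
  -- coprimality
  have hcardL' : Nat.card L' = Nat.card L := Nat.card_congr e.toEquiv
  have hidx : L'.index ∣ p ^ k := by
    have h1 : L'.index = L.relIndex (L ⊔ (P : Subgroup G)) := rfl
    rw [h1, Subgroup.relIndex_sup_left, ← hk]
    exact Subgroup.relIndex_dvd_card _ _
  have hdeg : ((θ : L → ℂ) ∘ e) 1 = ((charDegree (θ : L → ℂ) : ℕ) : ℂ) := by
    rw [Function.comp_apply, map_one, irr_apply_one]
  have hcop2 : Nat.Coprime L'.index (detOrder ((θ : L → ℂ) ∘ e) * charDegree (θ : L → ℂ)) := by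
    apply Nat.Coprime.coprime_dvd_left hidx
    apply Nat.Coprime.pow_left
    apply Nat.Coprime.mul_right
    · apply Nat.Coprime.coprime_dvd_right (detOrder_dvd_card (IsIrrCharacter.isCharacter hθ'))
      rw [hcardL']; exact hcopp.symm
    · apply Nat.Coprime.coprime_dvd_right (irr_charDegree_dvd_card θ)
      exact hcopp.symm
  obtain ⟨ψf, ⟨hψirr, hψres, _⟩, _⟩ := Cfsg.Agent.S0867.result L' ((θ : L → ℂ) ∘ e) hθ' hinv
    (charDegree (θ : L → ℂ)) hdeg hcop2
  let ψ : IrrCharacter ↥(L ⊔ (P : Subgroup G)) := ⟨ψf, hψirr⟩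
  have hψdeg : ¬ p ∣ charDegree (ψ : ↥(L ⊔ (P : Subgroup G)) → ℂ) := by
    have h1 : (ψ : ↥(L ⊔ (P : Subgroup G)) → ℂ) 1 = ((charDegree (θ : L → ℂ) : ℕ) : ℂ) := by
      have := hψres 1
      rw [Subgroup.coe_one] at this
      rw [show (ψ : ↥(L ⊔ (P : Subgroup G)) → ℂ) = ψf from rfl, this, hdeg]
    rw [charDegree_eq_of_apply_one h1]
    intro hdvd
    exact hLp (hdvd.trans (irr_charDegree_dvd_card θ))
  have hHidx : ¬ p ∣ (L ⊔ (P : Subgroup G)).index := by
    intro hdvd
    exact P.not_dvd_index (hdvd.trans (Subgroup.index_dvd_of_le hPH))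
  obtain ⟨χ, hχ, hχne⟩ := exists_irr_over_not_dvd p hp.out (L ⊔ (P : Subgroup G)) hHidx ψ hψdeg
  -- `θ` is constant
  apply hθ1
  apply eq_one_of_forall_apply_eq θ
  intro x
  have hxker : (((⟨x, hLH x.2⟩ : ↥(L ⊔ (P : Subgroup G))) : G)) ∈ irrKer χ :=
    (mem_irrKer χ _).mpr (hLK x x.2 χ hχ)
  have h1 := constituent_apply_eq_of_mem_irrKer χ (L ⊔ (P : Subgroup G)) ψ hχne hxker
  have h2 := hψres ⟨⟨x, hLH x.2⟩, Subgroup.mem_subgroupOf.mpr x.2⟩
  have h3 := hψres 1
  rw [Subgroup.coe_one] at h3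
  have h4 : (ψ : ↥(L ⊔ (P : Subgroup G)) → ℂ) ⟨x, hLH x.2⟩ = (θ : L → ℂ) x := by
    show ψf _ = _
    rw [h2, Function.comp_apply]
    congr 1
  have h5 : (ψ : ↥(L ⊔ (P : Subgroup G)) → ℂ) 1 = (θ : L → ℂ) 1 := by
    show ψf 1 = _
    rw [h3, Function.comp_apply, map_one]
  rw [← h4, ← h5]
  exact h1

end Cfsg.Agent.Lib.Helper23.PPrimeKer
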