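import Mathlib
import Cfsg.Agent.Lib.Helper1.HH4

/-!
# helper23: commutant of a diagonalisable operator of finite order (for the coprime Hall--Higman
lemma)
-/

set_option autoImplicit false

namespace Cfsg.Agent.Lib.Helper23.S3


open Module Cfsg.Agent.Lib.Helper1.HH

universe u v

variable {K : Type u} [Field K] {W : Type v} [AddCommGroup W] [Module K W]

/-- an operator of finite order prime to the characteristic is diagonalisable. -/
theorem iSup_eigenspace_eq_top_of_pow [IsAlgClosed K] [FiniteDimensional K W] (T : Module.End K W)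
    (q : ℕ) (hqK : (q : K) ≠ 0) (hT : T ^ q = 1) :
    ⨆ μ : K, Module.End.eigenspace T μ = ⊤ := by
  have hss : T.IsFinitelySemisimple := by
    apply Module.End.isFinitelySemisimple_iff_isSemisimple.mpr
    apply Module.End.isSemisimple_of_squarefree_aeval_eq_zero
      (p := (Polynomial.X ^ q - 1 : Polynomial K))
    · exact (Polynomial.X_pow_sub_one_separable_iff.mpr hqK).squarefree
    · simp [hT]
  have h1 := Module.End.iSup_maxGenEigenspace_eq_top T
  simp_rw [hss.maxGenEigenspace_eq_eigenspace] at h1
  exact h1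

/-- a basis of eigenvectors. -/
theorem exists_eigenbasis [IsAlgClosed K] [FiniteDimensional K W] (T : Module.End K W)
    (q : ℕ) (hqK : (q : K) ≠ 0) (hT : T ^ q = 1) :
    ∃ (ι : Type (max u v)) (_ : Fintype ι) (b : Basis ι K W) (μ : ι → K),
      ∀ i, T (b i) = μ i • b i := by
  classical
  have htop := iSup_eigenspace_eq_top_of_pow T q hqK hT
  have hind := Module.End.eigenspaces_iSupIndep T
  have hint : DirectSum.IsInternal (fun μ : K => Module.End.eigenspace T μ) :=
    DirectSum.isInternal_submodule_of_iSupIndep_of_iSup_eq_top hind htop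
  let v : ∀ μ : K, Basis (Fin (finrank K (Module.End.eigenspace T μ))) K
      (Module.End.eigenspace T μ) := fun μ => Module.finBasis K _
  let b := hint.collectedBasis v
  have hfin : Finite (Σ μ : K, Fin (finrank K (Module.End.eigenspace T μ))) :=
    Module.Finite.finite_basis b
  let e : (Σ μ : K, Fin (finrank K (Module.End.eigenspace T μ))) ≃
      ULift.{max u v} (Σ μ : K, Fin (finrank K (Module.End.eigenspace T μ))) := Equiv.ulift.symm
  refine ⟨ULift.{max u v} (Σ μ : K, Fin (finrank K (Module.End.eigenspace T μ))),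
    @Fintype.ofFinite _ (Finite.of_equiv _ e), b.reindex e, fun i => i.down.1, ?_⟩
  intro i
  have h1 : (b.reindex e) i = b i.down := by
    rw [Basis.reindex_apply]; rfl
  rw [h1]
  have h2 : b i.down ∈ Module.End.eigenspace T i.down.1 := hint.collectedBasis_mem v i.down
  exact Module.End.mem_eigenspace_iff.mp h2






/-- the coordinate of `T w` in an eigenbasis. -/
theorem coord_apply_eigen {ι : Type*} [Fintype ι] (b : Basis ι K W) (T : Module.End K W)
    (μ : ι → K) (hb : ∀ i, T (b i) = μ i • b i) (j : ι) (w : W) :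
    b.coord j (T w) = μ j * b.coord j w := by
  classical
  have h : (b.coord j) ∘ₗ T = μ j • b.coord j := by
    apply b.ext
    intro k
    rw [LinearMap.comp_apply, hb, map_smul, LinearMap.smul_apply, Basis.coord_apply,
      Basis.repr_self, Finsupp.single_apply]
    by_cases hkj : k = j
    · subst hkj
      simp
    · simp [hkj]
  have := LinearMap.congr_fun h w
  simpa using this

/-- the dimension of the commutant of a diagonalisable operator is at least the number of pairs
of basis vectors with equal eigenvalues. -/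
theorem card_pairs_le_finrank_comm [FiniteDimensional K W] {ι : Type*} [Fintype ι] [DecidableEq ι]
    (b : Basis ι K W)
    (T : Module.End K W) (μ : ι → K) (hb : ∀ i, T (b i) = μ i • b i) [DecidableEq K] :
    Fintype.card {p : ι × ι // μ p.1 = μ p.2} ≤ finrank K (comm T) := by
  let E : {p : ι × ι // μ p.1 = μ p.2} → ↥(comm T) := fun p =>
    ⟨(b.coord p.1.2).smulRight (b p.1.1), by
      rw [mem_comm]
      apply LinearMap.ext
      intro w
      simp only [Module.End.mul_apply, LinearMap.smulRight_apply]
      rw [map_smul, hb, coord_apply_eigen b T μ hb, smul_smul, p.2, mul_comm]⟩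
  have hli : LinearIndependent K E := by
    rw [Fintype.linearIndependent_iff]
    intro g hg p
    have h1 := congrArg Subtype.val hg
    have h2 : ∑ x : {p : ι × ι // μ p.1 = μ p.2},
        g x • ((b.coord x.1.2).smulRight (b x.1.1) : Module.End K W) = 0 := by
      simpa [E] using h1
    have h3 := LinearMap.congr_fun h2 (b p.1.2)
    rw [LinearMap.sum_apply] at h3
    have h4 := congrArg (b.coord p.1.1) h3
    rw [map_sum, LinearMap.zero_apply, map_zero] at h4
    rw [Finset.sum_eq_single p] at h4
    · simpa using h4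
    · intro x _ hxp
      simp only [LinearMap.smul_apply, LinearMap.smulRight_apply, Basis.coord_apply,
        Basis.repr_self, map_smul, smul_eq_mul, Finsupp.single_apply]
      by_cases h5 : p.1.2 = x.1.2
      · by_cases h6 : x.1.1 = p.1.1
        · exfalso
          apply hxp
          apply Subtype.ext
          exact Prod.ext h6 h5.symm
        · simp [h6]
      · simp [h5]
    · intro h
      exact absurd (Finset.mem_univ p) h
  have := hli.fintype_card_le_finrank
  exact this



theorem card_le_card_pairs {ι : Type*} [Fintype ι] [DecidableEq ι] {κ : Type*} [DecidableEq κ]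
    (μ : ι → κ) : Fintype.card ι ≤ Fintype.card {p : ι × ι // μ p.1 = μ p.2} := by
  apply Fintype.card_le_of_injective (fun i => (⟨(i, i), rfl⟩ : {p : ι × ι // μ p.1 = μ p.2}))
  intro i j hij
  have := congrArg (fun p : {p : ι × ι // μ p.1 = μ p.2} => p.1.1) hij
  exact this

theorem sq_card_le_mul_card_pairs {ι : Type*} [Fintype ι] [DecidableEq ι] {κ : Type*}
    [DecidableEq κ] (μ : ι → κ) (R : Finset κ) (hR : ∀ i, μ i ∈ R) :
    Fintype.card ι ^ 2 ≤ R.card * Fintype.card {p : ι × ι // μ p.1 = μ p.2} := by
  classical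
  have h1 : Fintype.card ι = ∑ r ∈ R, (Finset.univ.filter (fun i => μ i = r)).card := by
    rw [← Finset.card_univ]
    exact Finset.card_eq_sum_card_fiberwise (fun i _ => hR i)
  have h2 : Fintype.card {p : ι × ι // μ p.1 = μ p.2} =
      ∑ r ∈ R, (Finset.univ.filter (fun i => μ i = r)).card ^ 2 := by
    rw [Fintype.card_subtype]
    rw [Finset.card_eq_sum_card_fiberwise (f := fun p : ι × ι => μ p.1) (t := R)
      (fun p _ => hR p.1)]
    apply Finset.sum_congr rfl
    intro r _
    rw [sq, ← Finset.card_product]
    congr 1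
    ext p
    simp only [Finset.mem_filter, Finset.mem_univ, true_and, Finset.mem_product]
    constructor
    · rintro ⟨h3, h4⟩
      exact ⟨h4, by rw [← h3, h4]⟩
    · rintro ⟨h3, h4⟩
      exact ⟨by rw [h3, h4], h3⟩
  rw [h1, h2]
  exact sq_sum_le_card_mul_sum_sq

/-- **dimension bounds for the commutant** of an operator of order dividing `q` without nonzero
fixed vectors. -/
theorem finrank_comm_bounds [IsAlgClosed K] [FiniteDimensional K W] (T : Module.End K W)
    (q : ℕ) (hq0 : 0 < q) (hqK : (q : K) ≠ 0) (hT : T ^ q = 1) (hfix : ∀ w, T w = w → w = 0) :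
    finrank K W ≤ finrank K (comm T) ∧ finrank K W ^ 2 ≤ (q - 1) * finrank K (comm T) := by
  classical
  obtain ⟨ι, _, b, μ, hb⟩ := exists_eigenbasis T q hqK hT
  have hn : finrank K W = Fintype.card ι := Module.finrank_eq_card_basis b
  have hc := card_pairs_le_finrank_comm b T μ hb
  refine ⟨?_, ?_⟩
  · rw [hn]
    exact (card_le_card_pairs μ).trans hc
  · -- eigenvalues are `q`-th roots of unity different from `1`
    have hμq : ∀ i, μ i ^ q = 1 := by
      intro i
      have h1 : (T ^ q) (b i) = (μ i) ^ q • b i := by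
        have : ∀ k : ℕ, (T ^ k) (b i) = (μ i) ^ k • b i := by
          intro k
          induction k with
          | zero => simp
          | succ k ih =>
            rw [pow_succ, Module.End.mul_apply, hb, map_smul, ih, smul_smul, pow_succ, mul_comm]
        exact this q
      rw [hT, Module.End.one_apply] at h1
      have h2 : ((μ i) ^ q - 1) • b i = 0 := by rw [sub_smul, one_smul, ← h1, sub_self]
      rcases smul_eq_zero.mp h2 with h3 | h3
      · exact sub_eq_zero.mp h3
      · exact absurd h3 (b.ne_zero i)
    have hμ1 : ∀ i, μ i ≠ 1 := by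
      intro i h1
      have h2 : T (b i) = b i := by rw [hb, h1, one_smul]
      exact b.ne_zero i (hfix _ h2)
    set R : Finset K := (Polynomial.nthRootsFinset q (1 : K)).erase 1 with hR
    have hRmem : ∀ i, μ i ∈ R := by
      intro i
      rw [hR, Finset.mem_erase]
      exact ⟨hμ1 i, (Polynomial.mem_nthRootsFinset hq0 1).mpr (hμq i)⟩
    have hRcard : R.card ≤ q - 1 := by
      have h1 : (1 : K) ∈ Polynomial.nthRootsFinset q (1 : K) :=
        (Polynomial.mem_nthRootsFinset hq0 1).mpr (one_pow q)
      rw [hR, Finset.card_erase_of_mem h1]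
      have h2 : (Polynomial.nthRootsFinset q (1 : K)).card ≤ q := by
        rw [Polynomial.nthRootsFinset_def]
        exact (Multiset.toFinset_card_le _).trans (Polynomial.card_nthRoots q 1)
      omega
    rw [hn]
    calc Fintype.card ι ^ 2 ≤ R.card * Fintype.card {p : ι × ι // μ p.1 = μ p.2} :=
          sq_card_le_mul_card_pairs μ R hRmem
      _ ≤ (q - 1) * finrank K (comm T) := Nat.mul_le_mul hRcard hc



theorem hhq_arith (q n c E : ℕ) (hq : 1 ≤ q) (hn : 1 ≤ n) (hE : 1 ≤ E) (h1 : n ≤ c)
    (h2 : n ^ 2 ≤ (q - 1) * c) (h3 : q + n ^ 2 = q * c + E) :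
    n = 1 ∨ (n = q - 1 ∧ E = 1) := by
  obtain ⟨p, rfl⟩ : ∃ p, q = p + 1 := ⟨q - 1, by omega⟩
  simp only [Nat.add_sub_cancel] at h2 ⊢
  have h4 : (p + 1) * c + 1 ≤ p + 1 + n ^ 2 := by omega
  have h5 : n ≤ p := by
    by_contra hcon
    rw [not_le] at hcon
    have : p + 1 ≤ n := hcon
    nlinarith
  have h6 : n ≤ 1 ∨ p ≤ n := by
    by_contra hcon
    rw [not_or, not_le, not_le] at hcon
    obtain ⟨ha, hb⟩ := hcon
    obtain ⟨a, rfl⟩ : ∃ a, n = a + 2 := ⟨n - 2, by omega⟩
    obtain ⟨b, rfl⟩ : ∃ b, p = a + 2 + b + 1 := ⟨p - (a + 2) - 1, by omega⟩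
    nlinarith
  rcases h6 with h6 | h6
  · left; omega
  · right
    have hnp : n = p := le_antisymm h5 h6
    subst hnp
    refine ⟨rfl, ?_⟩
    have hc : n ≤ c := h1
    nlinarith


end Cfsg.Agent.Lib.Helper23.S3
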