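import Mathlib

/-!
# Ward theorem, part A: linear algebra (Frobenius action, weight spaces)
-/

set_option autoImplicit false
set_option linter.style.haveILetI false

namespace Cfsg.Agent.Lib.Helper23.Ward

open Subgroup Module

variable {K : Type*} [Field K] {Γ : Type*} [Group Γ] {V : Type*} [AddCommGroup V] [Module K V]

theorem exists_pow_pow_eq {b : Γ} {p i : ℕ} (hp : p.Prime) (hbp : b ^ p = 1)
    (hi0 : 0 < i) (hip : i < p) : ∃ m : ℕ, (b ^ i) ^ m = b := by
  have hcop : Nat.Coprime i p := by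
    rw [Nat.coprime_comm, Nat.Prime.coprime_iff_not_dvd hp]
    intro hd
    exact absurd (Nat.le_of_dvd hi0 hd) (not_le.mpr hip)
  obtain ⟨m, -, hm⟩ := Nat.exists_mul_mod_eq_one_of_coprime hcop hp.one_lt
  refine ⟨m, ?_⟩
  rw [← pow_mul]
  conv_lhs => rw [← Nat.div_add_mod (i * m) p, hm]
  rw [pow_add, pow_mul, hbp, one_pow, one_mul, pow_one]

theorem comm_of_comm_pow {b c : Γ} {p i : ℕ} (hp : p.Prime) (hbp : b ^ p = 1)
    (hi0 : 0 < i) (hip : i < p) (h : c * b ^ i = b ^ i * c) : c * b = b * c := by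
  obtain ⟨m, hm⟩ := exists_pow_pow_eq hp hbp hi0 hip
  have h1 : Commute c (b ^ i) := h
  have h2 : Commute c ((b ^ i) ^ m) := h1.pow_right m
  rw [hm] at h2
  exact h2

/-- shifting a cyclic sum -/
theorem sum_range_shift {M : Type*} [AddCommGroup M] (f : ℕ → M) (p : ℕ) (h : f p = f 0) :
    ∑ i ∈ Finset.range p, f (i + 1) = ∑ i ∈ Finset.range p, f i := by
  have h1 := Finset.sum_range_succ' f p
  have h2 := Finset.sum_range_succ f p
  rw [h1, h] at h2
  exact add_right_cancel h2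

/-- **Frobenius action**: if `b` of prime order acts fixed-point-freely on the finite group `D`
and on the `D⟨b⟩`-invariant subspace `W`, then `D` acts trivially on `W`. -/
theorem frob_fix (ρ : Representation K Γ V) (D : Subgroup Γ) [Finite D] (b : Γ) {p : ℕ}
    (hp : p.Prime) (hbp : b ^ p = 1) (hbD : ∀ d ∈ D, b * d * b⁻¹ ∈ D)
    (hfpf : ∀ d ∈ D, b * d = d * b → d = 1) (hDK : (Nat.card D : K) ≠ 0)
    (W : Submodule K V) (hWD : ∀ d ∈ D, ∀ w ∈ W, ρ d w ∈ W) (hWb : ∀ w ∈ W, ρ b w ∈ W)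
    (hWfix : ∀ w ∈ W, ρ b w = w → w = 0) :
    ∀ d ∈ D, ∀ w ∈ W, ρ d w = w := by
  classical
  letI : Fintype ↥D := Fintype.ofFinite _
  have hbiD : ∀ i : ℕ, ∀ d ∈ D, b ^ i * d * (b ^ i)⁻¹ ∈ D := by
    intro i
    induction i with
    | zero => intro d hd; simpa using hd
    | succ i ih =>
      intro d hd
      have h1 := hbD _ (ih d hd)
      have h2 : b * (b ^ i * d * (b ^ i)⁻¹) * b⁻¹ = b ^ (i + 1) * d * (b ^ (i + 1))⁻¹ := by
        rw [pow_succ']; group
      rwa [h2] at h1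
  have hWbi : ∀ i : ℕ, ∀ w ∈ W, ρ (b ^ i) w ∈ W := by
    intro i
    induction i with
    | zero => intro w hw; simpa using hw
    | succ i ih =>
      intro w hw
      rw [pow_succ', map_mul]
      exact hWb _ (ih w hw)
  -- the norm of `b` vanishes on `W`
  have hNb : ∀ w ∈ W, ∑ i ∈ Finset.range p, ρ (b ^ i) w = 0 := by
    intro w hw
    apply hWfix _ (W.sum_mem fun i _ => hWbi i w hw)
    rw [map_sum]
    have h1 : ∀ i, ρ b (ρ (b ^ i) w) = ρ (b ^ (i + 1)) w := by
      intro i; rw [pow_succ', map_mul]; rfl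
    simp_rw [h1]
    apply sum_range_shift (fun i => ρ (b ^ i) w)
    show ρ (b ^ p) w = ρ (b ^ 0) w
    rw [hbp, pow_zero]
  obtain ⟨p', rfl⟩ : ∃ p', p = p' + 1 := ⟨p - 1, (Nat.succ_pred_eq_of_pos hp.pos).symm⟩
  have hNb' : ∀ w ∈ W, ∑ i ∈ Finset.range p', ρ (b ^ (i + 1)) w = - w := by
    intro w hw
    have h1 := hNb w hw
    rw [Finset.sum_range_succ'] at h1
    simp only [pow_zero, map_one, Module.End.one_apply] at h1
    exact eq_neg_of_add_eq_zero_left h1
  -- the bijections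
  have hbij : ∀ i : ℕ, i < p' → ∀ w : V,
      ∑ d : ↥D, ρ ((d : Γ) * b ^ (i + 1)) w
        = ∑ u : ↥D, ρ ((u : Γ)⁻¹ * b ^ (i + 1) * (u : Γ)) w := by
    intro i hi w
    let φ : ↥D → ↥D := fun u =>
      ⟨(u : Γ)⁻¹ * (b ^ (i + 1) * (u : Γ) * (b ^ (i + 1))⁻¹),
        D.mul_mem (D.inv_mem u.2) (hbiD (i + 1) _ u.2)⟩
    have hφinj : Function.Injective φ := by
      intro u u' h
      have h1 : (u : Γ)⁻¹ * (b ^ (i + 1) * (u : Γ) * (b ^ (i + 1))⁻¹)
          = (u' : Γ)⁻¹ * (b ^ (i + 1) * (u' : Γ) * (b ^ (i + 1))⁻¹) := congrArg Subtype.val h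
      have h2 : ((u' : Γ) * (u : Γ)⁻¹) * b ^ (i + 1) = b ^ (i + 1) * ((u' : Γ) * (u : Γ)⁻¹) := by
        have h3 : (u : Γ)⁻¹ * b ^ (i + 1) * (u : Γ) = (u' : Γ)⁻¹ * b ^ (i + 1) * (u' : Γ) := by
          have := congrArg (fun g => g * b ^ (i + 1)) h1
          simpa [mul_assoc] using this
        calc ((u' : Γ) * (u : Γ)⁻¹) * b ^ (i + 1)
            = (u' : Γ) * ((u : Γ)⁻¹ * b ^ (i + 1) * (u : Γ)) * (u : Γ)⁻¹ := by group
          _ = (u' : Γ) * ((u' : Γ)⁻¹ * b ^ (i + 1) * (u' : Γ)) * (u : Γ)⁻¹ := by rw [h3]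
          _ = b ^ (i + 1) * ((u' : Γ) * (u : Γ)⁻¹) := by group
      have h4 := comm_of_comm_pow hp hbp (Nat.succ_pos i) (Nat.succ_lt_succ hi) h2
      have h5 := hfpf _ (D.mul_mem u'.2 (D.inv_mem u.2)) h4.symm
      apply Subtype.ext
      exact (mul_inv_eq_one.mp h5).symm
    have hφbij : Function.Bijective φ := Finite.injective_iff_bijective.mp hφinj
    rw [← (Equiv.ofBijective φ hφbij).sum_comp]
    apply Finset.sum_congr rfl
    intro u _
    congr 2
    show (u : Γ)⁻¹ * (b ^ (i + 1) * (u : Γ) * (b ^ (i + 1))⁻¹) * b ^ (i + 1) = _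
    group
  -- the main computation
  have hmain : ∀ w ∈ W, ∑ d : ↥D, ρ (d : Γ) w = (Nat.card D : K) • w := by
    intro w hw
    have hA : ∑ d : ↥D, ∑ i ∈ Finset.range (p' + 1), ρ ((d : Γ) * b ^ i) w = 0 := by
      apply Finset.sum_eq_zero
      intro d _
      have : ∀ i, ρ ((d : Γ) * b ^ i) w = ρ (d : Γ) (ρ (b ^ i) w) := by
        intro i; rw [map_mul]; rfl
      simp_rw [this]
      rw [← map_sum, hNb w hw, map_zero]
    have hB : ∑ d : ↥D, ∑ i ∈ Finset.range (p' + 1), ρ ((d : Γ) * b ^ i) w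
        = ∑ d : ↥D, ρ (d : Γ) w
          + ∑ i ∈ Finset.range p', ∑ d : ↥D, ρ ((d : Γ) * b ^ (i + 1)) w := by
      rw [Finset.sum_comm, Finset.sum_range_succ', add_comm]
      simp
    have hC : ∑ i ∈ Finset.range p', ∑ d : ↥D, ρ ((d : Γ) * b ^ (i + 1)) w
        = - ((Nat.card D : K) • w) := by
      have h1 : ∑ i ∈ Finset.range p', ∑ d : ↥D, ρ ((d : Γ) * b ^ (i + 1)) w
          = ∑ i ∈ Finset.range p', ∑ u : ↥D, ρ ((u : Γ)⁻¹ * b ^ (i + 1) * (u : Γ)) w := by
        apply Finset.sum_congr rfl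
        intro i hi
        exact hbij i (Finset.mem_range.mp hi) w
      rw [h1, Finset.sum_comm]
      have h2 : ∀ u : ↥D, ∑ i ∈ Finset.range p', ρ ((u : Γ)⁻¹ * b ^ (i + 1) * (u : Γ)) w = - w := by
        intro u
        have h3 : ∀ i, ρ ((u : Γ)⁻¹ * b ^ (i + 1) * (u : Γ)) w
            = ρ ((u : Γ)⁻¹) (ρ (b ^ (i + 1)) (ρ (u : Γ) w)) := by
          intro i; rw [map_mul, map_mul]; rfl
        simp_rw [h3]
        rw [← map_sum, hNb' _ (hWD _ u.2 w hw), map_neg]
        congr 1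
        have : ρ ((u : Γ)⁻¹) (ρ (u : Γ) w) = (ρ ((u : Γ)⁻¹) * ρ (u : Γ)) w := rfl
        rw [this, ← map_mul, inv_mul_cancel, map_one, Module.End.one_apply]
      simp_rw [h2]
      rw [Finset.sum_const, Finset.card_univ, ← Nat.card_eq_fintype_card, smul_neg,
        Nat.cast_smul_eq_nsmul]
    rw [hB, hC] at hA
    exact eq_of_sub_eq_zero (by rw [sub_eq_add_neg]; exact hA)
  intro d hd w hw
  have h1 : ρ d (∑ u : ↥D, ρ (u : Γ) w) = ∑ u : ↥D, ρ (u : Γ) w := by
    rw [map_sum]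
    have h2 : ∀ u : ↥D, ρ d (ρ (u : Γ) w) = ρ (((⟨d, hd⟩ : ↥D) * u : ↥D) : Γ) w := by
      intro u; rw [Subgroup.coe_mul, map_mul]; rfl
    simp_rw [h2]
    exact Fintype.sum_equiv (Equiv.mulLeft (⟨d, hd⟩ : ↥D)) _ _ (fun u => rfl)
  rw [hmain w hw, map_smul] at h1
  exact smul_right_injective V hDK h1

/-- the weight space of the subgroup `Z` for the weight `χ`. -/
def wt (ρ : Representation K Γ V) (Z : Subgroup Γ) (χ : Γ → K) : Submodule K V where
  carrier := {v | ∀ z ∈ Z, ρ z v = χ z • v}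
  add_mem' := by
    intro a b ha hb z hz
    rw [map_add, ha z hz, hb z hz, smul_add]
  zero_mem' := by
    intro z _
    rw [map_zero, smul_zero]
  smul_mem' := by
    intro c a ha z hz
    rw [map_smul, ha z hz, smul_comm]

theorem mem_wt {ρ : Representation K Γ V} {Z : Subgroup Γ} {χ : Γ → K} {v : V} :
    v ∈ wt ρ Z χ ↔ ∀ z ∈ Z, ρ z v = χ z • v := Iff.rfl

/-- vectors in weight spaces for pairwise distinct weights are independent. -/
theorem wt_indep (ρ : Representation K Γ V) (Z : Subgroup Γ) {ι : Type*} [DecidableEq ι]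
    (s : Finset ι) (χ : ι → Γ → K)
    (hχ : ∀ i ∈ s, ∀ j ∈ s, i ≠ j → ∃ z ∈ Z, χ i z ≠ χ j z) :
    ∀ t : ι → V, (∀ i ∈ s, t i ∈ wt ρ Z (χ i)) → ∑ i ∈ s, t i = 0 → ∀ i ∈ s, t i = 0 := by
  induction s using Finset.induction_on with
  | empty => intro t _ _ i hi; simp at hi
  | insert a s ha ih =>
    intro t ht hsum
    have ih' := ih (fun i hi j hj hij =>
      hχ i (Finset.mem_insert_of_mem hi) j (Finset.mem_insert_of_mem hj) hij)
    have hs : ∀ j ∈ s, t j = 0 := by
      intro j hj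
      have haj : a ≠ j := fun h => ha (h ▸ hj)
      obtain ⟨z, hz, hne⟩ := hχ a (Finset.mem_insert_self a s) j (Finset.mem_insert_of_mem hj) haj
      -- apply ρ z - χ a z
      have h1 : ρ z (∑ i ∈ insert a s, t i) - χ a z • ∑ i ∈ insert a s, t i = 0 := by
        rw [hsum, map_zero, smul_zero, sub_zero]
      rw [Finset.sum_insert ha, map_add, smul_add,
        (ht a (Finset.mem_insert_self a s)) z hz] at h1
      have h2 : ρ z (∑ i ∈ s, t i) - χ a z • ∑ i ∈ s, t i = 0 := by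
        rw [← h1]; abel
      rw [map_sum, Finset.smul_sum, ← Finset.sum_sub_distrib] at h2
      have h3 : ∀ i ∈ s, ρ z (t i) - χ a z • t i = (χ i z - χ a z) • t i := by
        intro i hi
        rw [(ht i (Finset.mem_insert_of_mem hi)) z hz, sub_smul]
      rw [Finset.sum_congr rfl h3] at h2
      have h4 := ih' (fun i => (χ i z - χ a z) • t i)
        (fun i hi => (wt ρ Z (χ i)).smul_mem _ (ht i (Finset.mem_insert_of_mem hi))) h2 j hj
      rcases smul_eq_zero.mp h4 with h5 | h5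
      · exact absurd (sub_eq_zero.mp h5).symm hne
      · exact h5
    intro i hi
    rcases Finset.mem_insert.mp hi with rfl | hi'
    · rw [Finset.sum_insert ha, Finset.sum_eq_zero hs, add_zero] at hsum
      exact hsum
    · exact hs i hi'

variable [IsAlgClosed K] [FiniteDimensional K V]

/-- weight decomposition of a subspace on which the finite subgroup `Z` acts through commuting
operators of order invertible in `K`. -/
theorem mem_iSup_wt (ρ : Representation K Γ V) (Z : Subgroup Γ) [Finite Z] (U : Submodule K V)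
    (hUZ : ∀ z ∈ Z, ∀ u ∈ U, ρ z u ∈ U)
    (hcomm : ∀ z ∈ Z, ∀ z' ∈ Z, ∀ u ∈ U, ρ z (ρ z' u) = ρ z' (ρ z u))
    (hZK : (Nat.card Z : K) ≠ 0) :
    ∀ u ∈ U, u ∈ ⨆ χ : Γ → K, U ⊓ wt ρ Z χ := by
  classical
  set n := Nat.card Z with hn
  have hn0 : 0 < n := Nat.card_pos
  let f : ↥Z → Module.End K ↥U := fun z => (ρ (z : Γ)).restrict (hUZ z z.2)
  have hfapp : ∀ (z : ↥Z) (u : ↥U), ((f z u : ↥U) : V) = ρ (z : Γ) (u : V) := fun z u => rfl
  have hfcomm : Pairwise fun i j => Commute (f i) (f j) := by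
    intro i j _
    show f i * f j = f j * f i
    ext u
    simp only [Module.End.mul_apply, hfapp]
    exact hcomm i i.2 j j.2 u u.2
  have hfpow : ∀ z : ↥Z, (f z) ^ n = 1 := by
    intro z
    have h1 : ∀ k : ℕ, ∀ u : ↥U, ((((f z) ^ k) u : ↥U) : V) = ρ ((z : Γ) ^ k) (u : V) := by
      intro k
      induction k with
      | zero => intro u; simp
      | succ k ih =>
        intro u
        rw [pow_succ', Module.End.mul_apply, hfapp, ih, pow_succ', map_mul]
        rfl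
    ext u
    rw [h1]
    have h2 : (z : Γ) ^ n = 1 := by
      have := pow_card_eq_one' (G := ↥Z) (x := z)
      rw [← hn] at this
      exact_mod_cast congrArg Subtype.val this
    rw [h2, map_one]
    rfl
  have hss : ∀ z : ↥Z, (f z).IsFinitelySemisimple := by
    intro z
    apply Module.End.isFinitelySemisimple_iff_isSemisimple.mpr
    apply Module.End.isSemisimple_of_squarefree_aeval_eq_zero
      (p := (Polynomial.X ^ n - 1 : Polynomial K))
    · exact (Polynomial.X_pow_sub_one_separable_iff.mpr hZK).squarefree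
    · simp [hfpow z]
  have htop := Module.End.iSup_iInf_maxGenEigenspace_eq_top_of_iSup_maxGenEigenspace_eq_top_of_commute
    f hfcomm (fun z => Module.End.iSup_maxGenEigenspace_eq_top (f z))
  intro u hu
  have hmem : (⟨u, hu⟩ : ↥U) ∈ ⨆ χ : ↥Z → K, ⨅ z, (f z).maxGenEigenspace (χ z) := by
    rw [htop]; trivial
  have key : ∀ x : ↥U, x ∈ (⨆ χ : ↥Z → K, ⨅ z, (f z).maxGenEigenspace (χ z)) →
      (x : V) ∈ ⨆ χ : Γ → K, U ⊓ wt ρ Z χ := by
    intro x hx
    induction hx using Submodule.iSup_induction' with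
    | mem χ x hx =>
      let χ' : Γ → K := fun g => if h : g ∈ Z then χ ⟨g, h⟩ else 0
      apply Submodule.mem_iSup_of_mem χ'
      refine ⟨x.2, ?_⟩
      intro z hz
      have h1 : x ∈ (f ⟨z, hz⟩).maxGenEigenspace (χ ⟨z, hz⟩) := (Submodule.mem_iInf _).mp hx ⟨z, hz⟩
      rw [(hss ⟨z, hz⟩).maxGenEigenspace_eq_eigenspace, Module.End.mem_eigenspace_iff] at h1
      have h2 := congrArg Subtype.val h1
      rw [hfapp] at h2
      show ρ z (x : V) = χ' z • (x : V)
      simp only [χ', dif_pos hz]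
      exact h2
    | zero => simp
    | add x y _ _ hx hy =>
      rw [Submodule.coe_add]
      exact Submodule.add_mem _ hx hy
  exact key ⟨u, hu⟩ hmem

end Cfsg.Agent.Lib.Helper23.Ward
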