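import Mathlib
import Cfsg.Prelude.Def_Transfer
import Cfsg.Agent.Lib.Helper23.WardA
import Cfsg.Agent.Lib.Helper8.Factorization
import Cfsg.Agent.Lib.Helper17.BG146A
import Cfsg.Agent.Lib.Helper29.PrimePowerElement
import Cfsg.Agent.Lib.Helper1.Coprime

set_option autoImplicit false
set_option linter.style.haveILetI false

namespace Cfsg.Agent.Lib.Helper23.Ward

open Subgroup Module
open scoped commutatorElement

variable {K : Type*} [Field K] {Γ : Type*} [Group Γ] {V : Type*} [AddCommGroup V] [Module K V]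

/-- the hypotheses of the key proposition. -/
structure Hyp (ρ : Representation K Γ V) (p q s : ℕ) (A Q S : Subgroup Γ) : Prop where
  hp : p.Prime
  hq : q.Prime
  hs : s.Prime
  hpq : p ≠ q
  hps : p ≠ s
  hqs : q ≠ s
  hqK : (q : K) ≠ 0
  hA : Cfsg.IsElementaryAbelian p A
  hAcard : Nat.card A = p ^ 2
  hQ : IsPGroup q Q
  hS : IsPGroup s S
  hAQ : A ≤ normalizer (Q : Set Γ)
  hAS : A ≤ normalizer (S : Set Γ)
  hSQ : S ≤ normalizer (Q : Set Γ)
  hfQ : ∀ x ∈ Q, (∀ a ∈ A, a * x = x * a) → x = 1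
  hfS : ∀ y ∈ S, (∀ a ∈ A, a * y = y * a) → y = 1
  hfV : ∀ v : V, (∀ a ∈ A, ρ a v = v) → v = 0

namespace Hyp

variable {ρ : Representation K Γ V} {p q s : ℕ} {A Q S : Subgroup Γ}

theorem comm (h : Hyp ρ p q s A Q S) {a b : Γ} (ha : a ∈ A) (hb : b ∈ A) : a * b = b * a := by
  haveI := h.hA.1
  exact setLike_mul_comm ha hb

theorem pow_eq_one (h : Hyp ρ p q s A Q S) {a : Γ} (ha : a ∈ A) : a ^ p = 1 := h.hA.2 a ha

theorem coprime_of_isPGroup [Finite Γ] (h : Hyp ρ p q s A Q S) {r : ℕ} (hr : r.Prime) (hpr : p ≠ r)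
    {P : Subgroup Γ} (hP : IsPGroup r P) : (Nat.card A).Coprime (Nat.card P) := by
  haveI : Fact r.Prime := ⟨hr⟩
  obtain ⟨n, hn⟩ := IsPGroup.iff_card.mp hP
  rw [h.hAcard, hn]
  exact Nat.Coprime.pow _ _ ((Nat.coprime_primes h.hp hr).mpr hpr)

theorem card_ne_zero_of_le [Finite Γ] (h : Hyp ρ p q s A Q S) {D : Subgroup Γ} (hD : D ≤ Q) :
    (Nat.card D : K) ≠ 0 := by
  haveI : Fact q.Prime := ⟨h.hq⟩
  obtain ⟨n, hn⟩ := IsPGroup.iff_card.mp (h.hQ.to_le hD)
  rw [hn, Nat.cast_pow]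
  exact pow_ne_zero _ h.hqK

theorem orderOf_eq (h : Hyp ρ p q s A Q S) {a : Γ} (ha : a ∈ A) (ha1 : a ≠ 1) : orderOf a = p := by
  have h1 : orderOf a ∣ p := orderOf_dvd_of_pow_eq_one (h.pow_eq_one ha)
  rcases (Nat.dvd_prime h.hp).mp h1 with h2 | h2
  · exact absurd (orderOf_eq_one_iff.mp h2) ha1
  · exact h2

/-- a subgroup of `A` containing `a ≠ 1` and some `b ∉ ⟨a⟩` is `A`. -/
theorem eq_of_le [Finite Γ] (h : Hyp ρ p q s A Q S) {A' : Subgroup Γ} (hA' : A' ≤ A) {a b : Γ}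
    (ha : a ∈ A') (ha1 : a ≠ 1) (hb : b ∈ A') (hb' : b ∉ zpowers a) : A' = A := by
  have hp := h.hp
  have hza : zpowers a ≤ A' := (zpowers_le).mpr ha
  have hlt : zpowers a < A' := lt_of_le_of_ne hza (fun he => hb' (he ▸ hb))
  have hcz : Nat.card (zpowers a) = p := by
    rw [Nat.card_zpowers, h.orderOf_eq (hA' ha) ha1]
  have h1 : p < Nat.card A' := by
    rw [← hcz]
    exact lt_of_le_of_ne (Subgroup.card_le_of_le hza)
      (fun he => hlt.ne (Subgroup.eq_of_le_of_card_ge hza he.ge))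
  have h2 : Nat.card A' ∣ p ^ 2 := h.hAcard ▸ Subgroup.card_dvd_of_le hA'
  obtain ⟨k, hk, hk'⟩ := (Nat.dvd_prime_pow hp).mp h2
  have hk2 : k = 2 := by
    interval_cases k
    · rw [hk', pow_zero] at h1; exact absurd h1 (by have := hp.one_lt; omega)
    · rw [hk', pow_one] at h1; exact absurd h1 (lt_irrefl _)
    · rfl
  rw [hk2] at hk'
  exact Subgroup.eq_of_le_of_card_ge hA' (by rw [h.hAcard, hk'])

theorem exists_not_mem_zpowers [Finite Γ] (h : Hyp ρ p q s A Q S) (a : Γ) :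
    ∃ b ∈ A, b ∉ zpowers a := by
  by_contra hcon
  push Not at hcon
  by_cases ha : a ∈ A
  · have hle : A ≤ zpowers a := fun b hb => hcon b hb
    have h1 : Nat.card A ≤ Nat.card (zpowers a) := Subgroup.card_le_of_le hle
    rw [h.hAcard, Nat.card_zpowers] at h1
    have h2 : orderOf a ≤ p := Nat.le_of_dvd h.hp.pos (orderOf_dvd_of_pow_eq_one (h.pow_eq_one ha))
    have h3 : p < p ^ 2 := by
      have := h.hp.one_lt
      nlinarith
    omega
  · -- then zpowers a ∩ A ... use b = 1? 1 ∈ zpowers a; need another argument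
    have hA1 : ∃ c ∈ A, c ≠ 1 := by
      by_contra hc
      push Not at hc
      have : Nat.card A ≤ 1 := by
        have hbot : A = ⊥ := (Subgroup.eq_bot_iff_forall _).mpr hc
        rw [hbot, Subgroup.card_bot]
      rw [h.hAcard] at this
      have := h.hp.one_lt
      nlinarith
    obtain ⟨c, hc, hc1⟩ := hA1
    -- c ∈ zpowers a, c ≠ 1, c of order p, a ∈ ? 
    have hcz := hcon c hc
    -- all of A inside zpowers a, so card A ≤ orderOf a; zpowers a cyclic: A cyclic of order p^2 but exponent p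
    have hle : A ≤ zpowers a := fun b hb => hcon b hb
    have hcyc : IsCyclic A := by
      have : IsCyclic (zpowers a) := inferInstance
      exact Subgroup.isCyclic_of_le hle
    exact Cfsg.Agent.Lib.Helper8.not_isCyclic_of_elemAb h.hp h.hA (le_of_eq h.hAcard.symm) hcyc

end Hyp

/-- the stabilizer of a vector -/
def fixer (ρ : Representation K Γ V) (v : V) : Subgroup Γ where
  carrier := {g | ρ g v = v}
  mul_mem' := by
    intro a b ha hb
    show ρ (a * b) v = v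
    rw [map_mul, Module.End.mul_apply, hb, ha]
  one_mem' := by
    show ρ 1 v = v
    rw [map_one, Module.End.one_apply]
  inv_mem' := by
    intro a ha
    show ρ a⁻¹ v = v
    have h1 : ρ a⁻¹ (ρ a v) = v := by
      rw [← Module.End.mul_apply, ← map_mul, inv_mul_cancel, map_one, Module.End.one_apply]
    rwa [ha] at h1

theorem mem_fixer {ρ : Representation K Γ V} {v : V} {g : Γ} : g ∈ fixer ρ v ↔ ρ g v = v := Iff.rfl

theorem conj_mem_of_mem_normalizer {H : Subgroup Γ} {g x : Γ} (hg : g ∈ normalizer (H : Set Γ))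
    (hx : x ∈ H) : g * x * g⁻¹ ∈ H := (mem_normalizer_iff.mp hg x).mp hx

theorem inv_conj_mem_of_mem_normalizer {H : Subgroup Γ} {g x : Γ}
    (hg : g ∈ normalizer (H : Set Γ)) (hx : x ∈ H) : g⁻¹ * x * g ∈ H := by
  have h1 := conj_mem_of_mem_normalizer ((normalizer (H : Set Γ)).inv_mem hg) hx
  rwa [inv_inv] at h1

/-- the space of fixed vectors of an element. -/
def fixSp (ρ : Representation K Γ V) (a : Γ) : Submodule K V := LinearMap.ker (ρ a - 1)

theorem mem_fixSp {ρ : Representation K Γ V} {a : Γ} {v : V} : v ∈ fixSp ρ a ↔ ρ a v = v := by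
  unfold fixSp
  rw [LinearMap.mem_ker, LinearMap.sub_apply, Module.End.one_apply, sub_eq_zero]

theorem fixSp_invariant {ρ : Representation K Γ V} {a g : Γ} (hg : g * a = a * g) {v : V}
    (hv : v ∈ fixSp ρ a) : ρ g v ∈ fixSp ρ a := by
  rw [mem_fixSp] at hv ⊢
  have h1 : ρ a (ρ g v) = ρ (a * g) v := by rw [map_mul]; rfl
  rw [h1, ← hg, map_mul, Module.End.mul_apply, hv]

namespace Hyp

variable {ρ : Representation K Γ V} {p q s : ℕ} {A Q S : Subgroup Γ}

/-- an element of `Γ` commuting with `a ≠ 1` and `b ∉ ⟨a⟩` commutes with all of `A`. -/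
theorem comm_all [Finite Γ] (h : Hyp ρ p q s A Q S) {a b c : Γ} (ha : a ∈ A) (ha1 : a ≠ 1)
    (hb : b ∈ A) (hb' : b ∉ zpowers a) (hca : a * c = c * a) (hcb : b * c = c * b) :
    ∀ a' ∈ A, a' * c = c * a' := by
  have h1 : A ⊓ centralizer {c} = A := by
    apply h.eq_of_le inf_le_left (a := a) (b := b) _ ha1 _ hb'
    · exact ⟨ha, mem_centralizer_singleton_iff.mpr hca⟩
    · exact ⟨hb, mem_centralizer_singleton_iff.mpr hcb⟩
  intro a' ha'
  have h2 : a' ∈ A ⊓ centralizer {c} := by rw [h1]; exact ha'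
  exact mem_centralizer_singleton_iff.mp h2.2

/-- a vector fixed by `a ≠ 1` and `b ∉ ⟨a⟩` is zero. -/
theorem eq_zero_of_fixed [Finite Γ] (h : Hyp ρ p q s A Q S) {a b : Γ} (ha : a ∈ A) (ha1 : a ≠ 1)
    (hb : b ∈ A) (hb' : b ∉ zpowers a) {v : V} (hva : ρ a v = v) (hvb : ρ b v = v) : v = 0 := by
  have h1 : A ⊓ fixer ρ v = A := by
    apply h.eq_of_le inf_le_left (a := a) (b := b) _ ha1 _ hb'
    · exact ⟨ha, hva⟩
    · exact ⟨hb, hvb⟩
  apply h.hfV
  intro a' ha'
  have h2 : a' ∈ A ⊓ fixer ρ v := by rw [h1]; exact ha'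
  exact h2.2

/-- **module version of Thompson's theorem**: `C_Q(a)` acts trivially on `C_V(a)`. -/
theorem fix [Finite Γ] (h : Hyp ρ p q s A Q S) {a x : Γ} (ha : a ∈ A) (ha1 : a ≠ 1) (hx : x ∈ Q)
    (hax : a * x = x * a) {v : V} (hv : ρ a v = v) : ρ x v = v := by
  obtain ⟨b, hb, hb'⟩ := h.exists_not_mem_zpowers a
  have hab : a * b = b * a := h.comm ha hb
  set D : Subgroup Γ := Q ⊓ centralizer {a} with hD
  have hxD : x ∈ D := ⟨hx, mem_centralizer_singleton_iff.mpr hax.symm⟩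
  refine frob_fix ρ D b h.hp (h.pow_eq_one hb) ?_ ?_ (h.card_ne_zero_of_le inf_le_left)
    (fixSp ρ a) ?_ ?_ ?_ x hxD v (mem_fixSp.mpr hv)
  · intro d hd
    refine Subgroup.mem_inf.mpr ⟨conj_mem_of_mem_normalizer (h.hAQ hb) hd.1, ?_⟩
    rw [mem_centralizer_singleton_iff]
    have h1 : d * a = a * d := mem_centralizer_singleton_iff.mp hd.2
    calc b * d * b⁻¹ * a = b * d * (b⁻¹ * a) := by group
      _ = b * d * (a * b⁻¹) := by
          have : b⁻¹ * a = a * b⁻¹ := by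
            calc b⁻¹ * a = b⁻¹ * (a * b) * b⁻¹ := by group
              _ = b⁻¹ * (b * a) * b⁻¹ := by rw [hab]
              _ = a * b⁻¹ := by group
          rw [this]
      _ = b * (d * a) * b⁻¹ := by group
      _ = b * (a * d) * b⁻¹ := by rw [h1]
      _ = (b * a) * d * b⁻¹ := by group
      _ = (a * b) * d * b⁻¹ := by rw [hab]
      _ = a * (b * d * b⁻¹) := by group
  · intro d hd hbd
    apply h.hfQ d hd.1
    exact h.comm_all ha ha1 hb hb' (mem_centralizer_singleton_iff.mp hd.2).symm hbd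
  · intro d hd w hw
    exact fixSp_invariant (mem_centralizer_singleton_iff.mp hd.2) hw
  · intro w hw
    exact fixSp_invariant hab.symm hw
  · intro w hw hbw
    exact h.eq_zero_of_fixed ha ha1 hb hb' (mem_fixSp.mp hw) hbw

/-- no nonidentity element of `Q ⊔ S` is centralized by `A`. -/
theorem fpf_sup (h : Hyp ρ p q s A Q S) {c : Γ} (hc : c ∈ Q ⊔ S)
    (hcA : ∀ a ∈ A, a * c = c * a) : c = 1 := by
  haveI : Fact q.Prime := ⟨h.hq⟩
  haveI : Fact s.Prime := ⟨h.hs⟩
  have h1 : c ∈ ((Q ⊔ S : Subgroup Γ) : Set Γ) := hc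
  rw [Subgroup.coe_mul_of_right_le_normalizer_left Q S h.hSQ] at h1
  obtain ⟨x, hx, y, hy, rfl⟩ := Set.mem_mul.mp h1
  have hdisj : Disjoint Q S := IsPGroup.disjoint_of_ne q s h.hqs Q S h.hQ h.hS
  have key : ∀ a ∈ A, a * x * a⁻¹ = x ∧ a * y * a⁻¹ = y := by
    intro a ha
    have h2 : (a * x * a⁻¹) * (a * y * a⁻¹) = x * y := by
      have := hcA a ha
      calc (a * x * a⁻¹) * (a * y * a⁻¹) = a * (x * y) * a⁻¹ := by group
        _ = (x * y) * a * a⁻¹ := by rw [this]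
        _ = x * y := by group
    have hx' : a * x * a⁻¹ ∈ Q := conj_mem_of_mem_normalizer (h.hAQ ha) hx
    have hy' : a * y * a⁻¹ ∈ S := conj_mem_of_mem_normalizer (h.hAS ha) hy
    have h3 : x⁻¹ * (a * x * a⁻¹) = y * (a * y * a⁻¹)⁻¹ := by
      calc x⁻¹ * (a * x * a⁻¹) = x⁻¹ * ((a * x * a⁻¹) * (a * y * a⁻¹)) * (a * y * a⁻¹)⁻¹ := by group
        _ = x⁻¹ * (x * y) * (a * y * a⁻¹)⁻¹ := by rw [h2]
        _ = y * (a * y * a⁻¹)⁻¹ := by group
    have h4 : x⁻¹ * (a * x * a⁻¹) = 1 := by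
      apply Subgroup.disjoint_def.mp hdisj (Q.mul_mem (Q.inv_mem hx) hx')
      rw [h3]
      exact S.mul_mem hy (S.inv_mem hy')
    have h5 : a * x * a⁻¹ = x := by
      have := congrArg (fun g => x * g) h4
      simpa using this
    refine ⟨h5, ?_⟩
    rw [h5] at h2
    exact mul_left_cancel h2
  have hx1 : x = 1 := by
    apply h.hfQ x hx
    intro a ha
    have := (key a ha).1
    calc a * x = (a * x * a⁻¹) * a := by group
      _ = x * a := by rw [this]
  have hy1 : y = 1 := by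
    apply h.hfS y hy
    intro a ha
    have := (key a ha).2
    calc a * y = (a * y * a⁻¹) * a := by group
      _ = y * a := by rw [this]
  rw [hx1, hy1, mul_one]

end Hyp

theorem le_normalizer_centralizer_singleton {A : Subgroup Γ} {b : Γ}
    (hcomm : ∀ a ∈ A, a * b = b * a) : A ≤ normalizer ((centralizer {b} : Subgroup Γ) : Set Γ) := by
  intro a ha
  have key : ∀ a' : Γ, a' * b = b * a' → ∀ g ∈ centralizer {b}, a' * g * a'⁻¹ ∈ centralizer {b} := by
    intro a' ha' g hg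
    rw [mem_centralizer_singleton_iff] at hg ⊢
    have h1 : a'⁻¹ * b = b * a'⁻¹ := by
      calc a'⁻¹ * b = a'⁻¹ * (b * a') * a'⁻¹ := by group
        _ = a'⁻¹ * (a' * b) * a'⁻¹ := by rw [ha']
        _ = b * a'⁻¹ := by group
    calc a' * g * a'⁻¹ * b = a' * g * (a'⁻¹ * b) := by group
      _ = a' * g * (b * a'⁻¹) := by rw [h1]
      _ = a' * (g * b) * a'⁻¹ := by group
      _ = a' * (b * g) * a'⁻¹ := by rw [hg]
      _ = (a' * b) * g * a'⁻¹ := by group
      _ = (b * a') * g * a'⁻¹ := by rw [ha']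
      _ = b * (a' * g * a'⁻¹) := by group
  rw [mem_normalizer_iff]
  intro g
  constructor
  · exact key a (hcomm a ha) g
  · intro hg
    have h1 : a⁻¹ * b = b * a⁻¹ := by
      have ha' := hcomm a ha
      calc a⁻¹ * b = a⁻¹ * (b * a) * a⁻¹ := by group
        _ = a⁻¹ * (a * b) * a⁻¹ := by rw [ha']
        _ = b * a⁻¹ := by group
    have h2 := key a⁻¹ h1 _ hg
    have h3 : a⁻¹ * (a * g * a⁻¹) * a⁻¹⁻¹ = g := by group
    rwa [h3] at h2

namespace Hyp

variable {ρ : Representation K Γ V} {p q s : ℕ} {A Q S : Subgroup Γ}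

/-- **Thompson**: `C_Q(b)` and `C_S(b)` commute elementwise. -/
theorem comm_cent [Finite Γ] (h : Hyp ρ p q s A Q S) {b₀ x y : Γ} (hb : b₀ ∈ A) (hb1 : b₀ ≠ 1)
    (hx : x ∈ Q) (hy : y ∈ S) (hbx : b₀ * x = x * b₀) (hby : b₀ * y = y * b₀) :
    x * y = y * x := by
  haveI : Fact q.Prime := ⟨h.hq⟩
  obtain ⟨a', ha', ha''⟩ := h.exists_not_mem_zpowers b₀
  have hAC : A ≤ normalizer ((centralizer {b₀} : Subgroup Γ) : Set Γ) :=
    le_normalizer_centralizer_singleton (fun a ha => h.comm ha hb)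
  set H : Subgroup Γ := (Q ⊓ centralizer {b₀}) ⊔ (S ⊓ centralizer {b₀}) with hH
  have hAH : A ≤ normalizer (H : Set Γ) :=
    Cfsg.Agent.Lib.Helper8.le_normalizer_sup
      (Cfsg.Agent.Lib.Helper8.le_normalizer_inf h.hAQ hAC)
      (Cfsg.Agent.Lib.Helper8.le_normalizer_inf h.hAS hAC)
  have hHQS : H ≤ Q ⊔ S := sup_le_sup inf_le_left inf_le_left
  have hHC : H ≤ centralizer {b₀} := sup_le inf_le_right inf_le_right
  have ha'1 : a' ≠ 1 := fun h1 => ha'' (h1 ▸ one_mem _)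
  have hnil : Group.IsNilpotent ↥H := by
    apply Cfsg.Agent.Lib.Helper17.BG146.isNilpotent_of_fpf_mod_central H ⊥ a' bot_le
      (t := p) _ _ _ h.hp (h.orderOf_eq ha' ha'1) _ _
    · intro k hk c _
      rw [Subgroup.mem_bot.mp hk, one_mul, mul_one]
    · intro c hc
      exact conj_mem_of_mem_normalizer (hAH ha') hc
    · intro k hk
      rw [Subgroup.mem_bot.mp hk, one_mul, mul_one]
    · rw [Subgroup.card_bot]; exact Nat.coprime_one_left p
    · intro c hc hac
      rw [Subgroup.mem_bot]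
      apply h.fpf_sup (hHQS hc)
      have hbc : b₀ * c = c * b₀ := (mem_centralizer_singleton_iff.mp (hHC hc)).symm
      exact h.comm_all hb hb1 ha' ha'' hbc hac
  have hxH : x ∈ H := (le_sup_left : Q ⊓ centralizer {b₀} ≤ H)
    ⟨hx, mem_centralizer_singleton_iff.mpr hbx.symm⟩
  have hyH : y ∈ H := (le_sup_right : S ⊓ centralizer {b₀} ≤ H)
    ⟨hy, mem_centralizer_singleton_iff.mpr hby.symm⟩
  obtain ⟨k, hk⟩ := h.hQ ⟨x, hx⟩
  have hk' : x ^ q ^ k = 1 := by
    have := congrArg Subtype.val hk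
    simpa using this
  obtain ⟨j, hj⟩ := h.hS ⟨y, hy⟩
  have hj' : y ^ s ^ j = 1 := by
    have := congrArg Subtype.val hj
    simpa using this
  have hoy : (orderOf y).Coprime q := by
    have h1 : orderOf y ∣ s ^ j := orderOf_dvd_of_pow_eq_one hj'
    exact Nat.Coprime.coprime_dvd_left h1
      (Nat.Coprime.pow_left _ ((Nat.coprime_primes h.hs h.hq).mpr h.hqs.symm))
  have := Cfsg.Agent.Lib.Helper29.commute_of_isNilpotent_of_coprime hnil (q := q)
    (⟨x, hxH⟩ : ↥H) (⟨y, hyH⟩ : ↥H) k (Subtype.ext (by simpa using hk'))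
    (by rw [← Subgroup.orderOf_coe]; exact hoy)
  exact congrArg Subtype.val this

/-- generation by centralizers -/
theorem gen [Finite Γ] (h : Hyp ρ p q s A Q S) {r : ℕ} (hr : r.Prime) (hpr : p ≠ r)
    {P M : Subgroup Γ} (hP : IsPGroup r P) (hAP : A ≤ normalizer (P : Set Γ))
    (hM : ∀ a ∈ A, a ≠ 1 → P ⊓ centralizer {a} ≤ M) : P ≤ M := by
  haveI : Fact p.Prime := ⟨h.hp⟩
  exact Cfsg.Agent.Lib.Helper8.le_of_forall_inf_centralizer_le h.hA (le_of_eq h.hAcard.symm) hAP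
    (h.coprime_of_isPGroup hr hpr hP) hM

end Hyp

end Cfsg.Agent.Lib.Helper23.Ward
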