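import Mathlib
import Cfsg.Agent.Lib.Helper23.WardB
import Cfsg.Agent.Lib.Helper17.CoprimeGen

set_option autoImplicit false
set_option linter.unusedSectionVars false

namespace Cfsg.Agent.Lib.Helper23.Ward

open Subgroup Module
open scoped commutatorElement

variable {K : Type*} [Field K] {Γ : Type*} [Group Γ] {V : Type*} [AddCommGroup V] [Module K V]

/-- the conjugate weight -/
def cj (g : Γ) (χ : Γ → K) : Γ → K := fun z => χ (g⁻¹ * z * g)

theorem cj_apply (g : Γ) (χ : Γ → K) (z : Γ) : cj g χ z = χ (g⁻¹ * z * g) := rfl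

theorem map_wt {ρ : Representation K Γ V} {Z : Subgroup Γ} {χ : Γ → K} {g : Γ}
    (hg : g ∈ normalizer (Z : Set Γ)) {v : V} (hv : v ∈ wt ρ Z χ) : ρ g v ∈ wt ρ Z (cj g χ) := by
  intro z hz
  have h1 : g⁻¹ * z * g ∈ Z := inv_conj_mem_of_mem_normalizer hg hz
  have h2 := hv _ h1
  have h3 : z * g = g * (g⁻¹ * z * g) := by group
  calc ρ z (ρ g v) = ρ (z * g) v := by rw [map_mul]; rfl
    _ = ρ (g * (g⁻¹ * z * g)) v := by rw [h3]
    _ = ρ g (ρ (g⁻¹ * z * g) v) := by rw [map_mul]; rfl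
    _ = cj g χ z • ρ g v := by rw [h2, map_smul]; rfl

theorem wt_congr {ρ : Representation K Γ V} {Z : Subgroup Γ} {χ χ' : Γ → K}
    (h : ∀ z ∈ Z, χ z = χ' z) {v : V} (hv : v ∈ wt ρ Z χ) : v ∈ wt ρ Z χ' := by
  intro z hz
  rw [hv z hz, h z hz]

/-- the stabilizer of a weight of `Z` -/
def stab (Z : Subgroup Γ) (χ : Γ → K) : Subgroup Γ where
  carrier := {g | g ∈ normalizer (Z : Set Γ) ∧ ∀ z ∈ Z, χ (g⁻¹ * z * g) = χ z}
  mul_mem' := by
    rintro g h ⟨hg, hg'⟩ ⟨hh, hh'⟩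
    refine ⟨Subgroup.mul_mem _ hg hh, ?_⟩
    intro z hz
    have h1 : g⁻¹ * z * g ∈ Z := inv_conj_mem_of_mem_normalizer hg hz
    have h2 : (g * h)⁻¹ * z * (g * h) = h⁻¹ * (g⁻¹ * z * g) * h := by group
    rw [h2, hh' _ h1, hg' z hz]
  one_mem' := by
    refine ⟨Subgroup.one_mem _, ?_⟩
    intro z _
    simp
  inv_mem' := by
    rintro g ⟨hg, hg'⟩
    refine ⟨Subgroup.inv_mem _ hg, ?_⟩
    intro z hz
    have h1 : g * z * g⁻¹ ∈ Z := conj_mem_of_mem_normalizer hg hz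
    have h2 := hg' _ h1
    have h3 : g⁻¹ * (g * z * g⁻¹) * g = z := by group
    rw [h3] at h2
    rw [inv_inv, h2]

theorem mem_stab {Z : Subgroup Γ} {χ : Γ → K} {g : Γ} :
    g ∈ stab Z χ ↔ g ∈ normalizer (Z : Set Γ) ∧ ∀ z ∈ Z, χ (g⁻¹ * z * g) = χ z := Iff.rfl

theorem stab_le_normalizer (Z : Subgroup Γ) (χ : Γ → K) : stab Z χ ≤ normalizer (Z : Set Γ) :=
  fun _ hg => hg.1

/-- `g ∈ stab (cj y χ) ↔ y⁻¹ g y ∈ stab χ` for `y` normalizing `Z` -/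
theorem mem_stab_cj {Z : Subgroup Γ} {χ : Γ → K} {y g : Γ} (hy : y ∈ normalizer (Z : Set Γ)) :
    g ∈ stab Z (cj y χ) ↔ y⁻¹ * g * y ∈ stab Z χ := by
  have hy' : y⁻¹ ∈ normalizer (Z : Set Γ) := Subgroup.inv_mem _ hy
  constructor
  · rintro ⟨hg, hg'⟩
    refine ⟨Subgroup.mul_mem _ (Subgroup.mul_mem _ hy' hg) hy, ?_⟩
    intro z hz
    have h1 : y * z * y⁻¹ ∈ Z := conj_mem_of_mem_normalizer hy hz
    have h2 := hg' _ h1
    rw [cj_apply, cj_apply] at h2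
    have h3 : y⁻¹ * (g⁻¹ * (y * z * y⁻¹) * g) * y = (y⁻¹ * g * y)⁻¹ * z * (y⁻¹ * g * y) := by group
    have h4 : y⁻¹ * (y * z * y⁻¹) * y = z := by group
    rw [h3, h4] at h2
    exact h2
  · rintro ⟨hg, hg'⟩
    have hg2 : g ∈ normalizer (Z : Set Γ) := by
      have := Subgroup.mul_mem _ (Subgroup.mul_mem _ hy hg) hy'
      have e : y * (y⁻¹ * g * y) * y⁻¹ = g := by group
      rwa [e] at this
    refine ⟨hg2, ?_⟩
    intro z hz
    rw [cj_apply, cj_apply]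
    have h1 : y⁻¹ * z * y ∈ Z := inv_conj_mem_of_mem_normalizer hy hz
    have h2 := hg' _ h1
    have h3 : (y⁻¹ * g * y)⁻¹ * (y⁻¹ * z * y) * (y⁻¹ * g * y) = y⁻¹ * (g⁻¹ * z * g) * y := by group
    rw [h3] at h2
    exact h2

/-- elements of the stabilizer map the weight space to itself -/
theorem map_wt_of_mem_stab {ρ : Representation K Γ V} {Z : Subgroup Γ} {χ : Γ → K} {g : Γ}
    (hg : g ∈ stab Z χ) {v : V} (hv : v ∈ wt ρ Z χ) : ρ g v ∈ wt ρ Z χ :=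
  wt_congr (fun z hz => hg.2 z hz) (map_wt hg.1 hv)

/-- the kernel of the action of `Q` on the subspace `X` -/
def kerX (ρ : Representation K Γ V) (Q : Subgroup Γ) (X : Submodule K V) : Subgroup Γ where
  carrier := {x | x ∈ Q ∧ ∀ v ∈ X, ρ x v = v}
  mul_mem' := by
    rintro a b ⟨ha, ha'⟩ ⟨hb, hb'⟩
    refine ⟨Subgroup.mul_mem _ ha hb, ?_⟩
    intro v hv
    rw [map_mul]
    show ρ a (ρ b v) = v
    rw [hb' v hv, ha' v hv]
  one_mem' := by
    refine ⟨Subgroup.one_mem _, ?_⟩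
    intro v _
    simp
  inv_mem' := by
    rintro a ⟨ha, ha'⟩
    refine ⟨Subgroup.inv_mem _ ha, ?_⟩
    intro v hv
    have h1 : ρ a⁻¹ (ρ a v) = v := by
      rw [← Module.End.mul_apply, ← map_mul, inv_mul_cancel, map_one]; rfl
    rw [ha' v hv] at h1
    exact h1

theorem mem_kerX {ρ : Representation K Γ V} {Q : Subgroup Γ} {X : Submodule K V} {x : Γ} :
    x ∈ kerX ρ Q X ↔ x ∈ Q ∧ ∀ v ∈ X, ρ x v = v := Iff.rfl

theorem kerX_le {ρ : Representation K Γ V} {Q : Subgroup Γ} {X : Submodule K V} :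
    kerX ρ Q X ≤ Q := fun _ hx => hx.1

theorem rho_inv_apply (ρ : Representation K Γ V) (g : Γ) (v : V) : ρ g⁻¹ (ρ g v) = v := by
  rw [← Module.End.mul_apply, ← map_mul, inv_mul_cancel, map_one]; rfl

theorem rho_apply_inv (ρ : Representation K Γ V) (g : Γ) (v : V) : ρ g (ρ g⁻¹ v) = v := by
  rw [← Module.End.mul_apply, ← map_mul, mul_inv_cancel, map_one]; rfl

/-- an element normalizing `Q` and preserving `X` (with its inverse) normalizes `kerX` -/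
theorem conj_mem_kerX {ρ : Representation K Γ V} {Q : Subgroup Γ} {X : Submodule K V} {g : Γ}
    (hgQ : g ∈ normalizer (Q : Set Γ)) (hgX : ∀ v ∈ X, ρ g⁻¹ v ∈ X) {x : Γ}
    (hx : x ∈ kerX ρ Q X) : g * x * g⁻¹ ∈ kerX ρ Q X := by
  refine ⟨conj_mem_of_mem_normalizer hgQ hx.1, ?_⟩
  intro v hv
  rw [map_mul, map_mul]
  show ρ g (ρ x (ρ g⁻¹ v)) = v
  rw [hx.2 _ (hgX v hv), rho_apply_inv]

theorem mem_normalizer_kerX {ρ : Representation K Γ V} {Q : Subgroup Γ} {X : Submodule K V} {g : Γ}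
    (hgQ : g ∈ normalizer (Q : Set Γ)) (hgX : ∀ v ∈ X, ρ g v ∈ X) (hgX' : ∀ v ∈ X, ρ g⁻¹ v ∈ X) :
    g ∈ normalizer ((kerX ρ Q X : Subgroup Γ) : Set Γ) := by
  rw [mem_normalizer_iff]
  intro x
  constructor
  · exact conj_mem_kerX hgQ hgX'
  · intro hx
    have := conj_mem_kerX (ρ := ρ) (Q := Q) (X := X) (g := g⁻¹) (Subgroup.inv_mem _ hgQ)
      (by rw [inv_inv]; exact hgX) hx
    have e : g⁻¹ * (g * x * g⁻¹) * g⁻¹⁻¹ = x := by group
    rwa [e] at this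

end Cfsg.Agent.Lib.Helper23.Ward
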