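import Mathlib
import Cfsg.Agent.Lib.Helper23.WardC
import Cfsg.Agent.Lib.Helper1.Commutator

set_option autoImplicit false
set_option linter.unusedSectionVars false

namespace Cfsg.Agent.Lib.Helper23.Ward

open Subgroup Module
open scoped commutatorElement

variable {K : Type*} [Field K] {Γ : Type*} [Group Γ] {V : Type*} [AddCommGroup V] [Module K V]

/-- the relative setting: a central step `Z` of `Q` acting by commuting operators on `U` -/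
structure Ctx (ρ : Representation K Γ V) (A Q S Z : Subgroup Γ) (U : Submodule K V) : Prop where
  hZQ : Z ≤ Q
  hQZ : Q ≤ normalizer (Z : Set Γ)
  hSZ : S ≤ normalizer (Z : Set Γ)
  hAZ : A ≤ normalizer (Z : Set Γ)
  hUQ : ∀ x ∈ Q, ∀ u ∈ U, ρ x u ∈ U
  hUS : ∀ y ∈ S, ∀ u ∈ U, ρ y u ∈ U
  hUA : ∀ a ∈ A, ∀ u ∈ U, ρ a u ∈ U
  hcomm : ∀ z ∈ Z, ∀ t ∈ Q, ∀ u ∈ U, ρ z (ρ t u) = ρ t (ρ z u)

/-- the weight space inside `U` -/
def XX (ρ : Representation K Γ V) (Z : Subgroup Γ) (U : Submodule K V) (χ : Γ → K) :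
    Submodule K V := U ⊓ wt ρ Z χ

/-- a nontrivial weight with nonzero weight space -/
structure NW (ρ : Representation K Γ V) (Z : Subgroup Γ) (U : Submodule K V) (χ : Γ → K) :
    Prop where
  hv : ∃ v ∈ XX ρ Z U χ, v ≠ 0
  hz : ∃ z ∈ Z, χ z ≠ 1

variable {ρ : Representation K Γ V} {p q s : ℕ} {A Q S Z : Subgroup Γ} {U : Submodule K V}
  {χ : Γ → K}

theorem Ctx.map_Q (c : Ctx ρ A Q S Z U) {x : Γ} (hx : x ∈ Q) {v : V} (hv : v ∈ XX ρ Z U χ) :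
    ρ x v ∈ XX ρ Z U χ := by
  refine ⟨c.hUQ x hx v hv.1, ?_⟩
  intro z hz
  rw [c.hcomm z hz x hx v hv.1, hv.2 z hz, map_smul]

theorem map_XX_of_mem_stab {g : Γ} (hgU : ∀ u ∈ U, ρ g u ∈ U) (hg : g ∈ stab Z χ) {v : V}
    (hv : v ∈ XX ρ Z U χ) : ρ g v ∈ XX ρ Z U χ :=
  ⟨hgU v hv.1, map_wt_of_mem_stab hg hv.2⟩

theorem Ctx.conj_mem_kerX_Q (c : Ctx ρ A Q S Z U) {x : Γ} (hx : x ∈ Q) {k : Γ}
    (hk : k ∈ kerX ρ Q (XX ρ Z U χ)) : x * k * x⁻¹ ∈ kerX ρ Q (XX ρ Z U χ) :=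
  conj_mem_kerX (le_normalizer hx) (fun _ hv => c.map_Q (Q.inv_mem hx) hv) hk

theorem NW.chi_eq_one (w : NW ρ Z U χ) {n : Γ} (hnZ : n ∈ Z)
    (hn : n ∈ kerX ρ Q (XX ρ Z U χ)) : χ n = 1 := by
  obtain ⟨v₀, hv₀, hne⟩ := w.hv
  have h1 := hn.2 v₀ hv₀
  have h2 := hv₀.2 n hnZ
  have h3 : (χ n - 1) • v₀ = 0 := by rw [sub_smul, ← h2, h1, one_smul, sub_self]
  rcases smul_eq_zero.mp h3 with h4 | h4
  · exact sub_eq_zero.mp h4
  · exact absurd h4 hne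

theorem NW.cj (c : Ctx ρ A Q S Z U) (w : NW ρ Z U χ) {y : Γ} (hy : y ∈ S) :
    NW ρ Z U (cj y χ) := by
  obtain ⟨v₀, hv₀, hne⟩ := w.hv
  obtain ⟨z₀, hz₀, hz₀ne⟩ := w.hz
  constructor
  · refine ⟨ρ y v₀, ⟨c.hUS y hy v₀ hv₀.1, map_wt (c.hSZ hy) hv₀.2⟩, ?_⟩
    intro h0
    apply hne
    have := rho_inv_apply ρ y v₀
    rw [h0, map_zero] at this
    exact this.symm
  · refine ⟨y * z₀ * y⁻¹, conj_mem_of_mem_normalizer (c.hSZ hy) hz₀, ?_⟩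
    rw [cj_apply]
    have e : y⁻¹ * (y * z₀ * y⁻¹) * y = z₀ := by group
    rw [e]
    exact hz₀ne

theorem pow_mem_stab_of_cj_eq {a : Γ} (haZ : ∀ i : ℕ, a ^ i ∈ normalizer (Z : Set Γ)) {j k : ℕ}
    (h : ∀ z ∈ Z, cj (a ^ (j + k)) χ z = cj (a ^ j) χ z) : a ^ k ∈ stab Z χ := by
  refine ⟨haZ k, ?_⟩
  intro z hz
  have h1 : a ^ j * z * (a ^ j)⁻¹ ∈ Z := conj_mem_of_mem_normalizer (haZ j) hz
  have h2 := h _ h1
  rw [cj_apply, cj_apply, pow_add] at h2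
  have e1 : (a ^ j * a ^ k)⁻¹ * (a ^ j * z * (a ^ j)⁻¹) * (a ^ j * a ^ k) =
      (a ^ k)⁻¹ * z * a ^ k := by
    generalize a ^ j = g
    generalize a ^ k = g'
    group
  have e2 : (a ^ j)⁻¹ * (a ^ j * z * (a ^ j)⁻¹) * a ^ j = z := by group
  rw [e1, e2] at h2
  exact h2

theorem mem_stab_of_pow_mem {a : Γ} {k : ℕ} (hp : p.Prime) (hap : a ^ p = 1) (hk0 : 0 < k)
    (hkp : k < p) (h : a ^ k ∈ stab Z χ) : a ∈ stab Z χ := by
  obtain ⟨m, hm⟩ := exists_pow_pow_eq hp hap hk0 hkp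
  rw [← hm]
  exact Subgroup.pow_mem _ h m

/-- step (i) -/
theorem step1 [Finite Γ] (h : Hyp ρ p q s A Q S) (c : Ctx ρ A Q S Z U) {a : Γ} (ha : a ∈ A)
    (ha' : a ∉ stab Z χ) {x : Γ} (hx : x ∈ Q) (hax : a * x = x * a) {v : V}
    (hv : v ∈ XX ρ Z U χ) : ρ x v = v := by
  classical
  have hp := h.hp
  have ha1 : a ≠ 1 := fun e => ha' (e ▸ Subgroup.one_mem _)
  have hap : a ^ p = 1 := h.pow_eq_one ha
  have haZ : ∀ i : ℕ, a ^ i ∈ normalizer (Z : Set Γ) := fun i => c.hAZ (Subgroup.pow_mem _ ha i)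
  set d : V := ρ x v - v with hd
  have hdX : d ∈ XX ρ Z U χ := Submodule.sub_mem _ (c.map_Q hx hv) hv
  set w : V := ∑ i ∈ Finset.range p, ρ (a ^ i) v with hw
  have hw1 : ρ a w = w := by
    rw [hw, map_sum]
    have := sum_range_shift (fun i => ρ (a ^ i) v) p (by simp [hap])
    rw [← this]
    apply Finset.sum_congr rfl
    intro i _
    rw [pow_succ', map_mul]; rfl
  have hw2 : ρ x w = w := h.fix ha ha1 hx hax hw1
  have hcomm : ∀ i : ℕ, ρ x (ρ (a ^ i) v) = ρ (a ^ i) (ρ x v) := by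
    intro i
    have e : x * a ^ i = a ^ i * x := (Commute.pow_right (show Commute x a from hax.symm)) i
    calc ρ x (ρ (a ^ i) v) = ρ (x * a ^ i) v := by rw [map_mul]; rfl
      _ = ρ (a ^ i * x) v := by rw [e]
      _ = ρ (a ^ i) (ρ x v) := by rw [map_mul]; rfl
  have hsum : ∑ i ∈ Finset.range p, ρ (a ^ i) d = 0 := by
    have : ∑ i ∈ Finset.range p, ρ (a ^ i) d = ρ x w - w := by
      rw [hw, map_sum, ← Finset.sum_sub_distrib]
      apply Finset.sum_congr rfl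
      intro i _
      rw [hcomm i, hd, map_sub]
    rw [this, hw2, sub_self]
  have hdist : ∀ i ∈ Finset.range p, ∀ j ∈ Finset.range p, i ≠ j →
      ∃ z ∈ Z, cj (a ^ i) χ z ≠ cj (a ^ j) χ z := by
    intro i hi j hj hij
    by_contra hcon
    push Not at hcon
    rw [Finset.mem_range] at hi hj
    rcases lt_or_gt_of_ne hij with hlt | hlt
    · have e : i + (j - i) = j := by omega
      have h1 : a ^ (j - i) ∈ stab Z χ := by
        apply pow_mem_stab_of_cj_eq haZ (j := i)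
        intro z hz
        rw [e]
        exact (hcon z hz).symm
      exact ha' (mem_stab_of_pow_mem hp hap (by omega) (by omega) h1)
    · have e : j + (i - j) = i := by omega
      have h1 : a ^ (i - j) ∈ stab Z χ := by
        apply pow_mem_stab_of_cj_eq haZ (j := j)
        intro z hz
        rw [e]
        exact hcon z hz
      exact ha' (mem_stab_of_pow_mem hp hap (by omega) (by omega) h1)
  have h0 := wt_indep ρ Z (Finset.range p) (fun i => cj (a ^ i) χ) hdist (fun i => ρ (a ^ i) d)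
    (fun i _ => map_wt (haZ i) hdX.2) hsum 0 (Finset.mem_range.mpr hp.pos)
  simp only [pow_zero, map_one] at h0
  have h1 : d = 0 := h0
  rw [hd] at h1
  exact sub_eq_zero.mp h1

/-- step (ii), first half -/
theorem inf_stab_ne_bot [Finite Γ] (h : Hyp ρ p q s A Q S) (c : Ctx ρ A Q S Z U)
    (w : NW ρ Z U χ) : ∃ b ∈ A ⊓ stab Z χ, b ≠ 1 := by
  by_contra hcon
  push Not at hcon
  have hQ : Q ≤ kerX ρ Q (XX ρ Z U χ) := by
    apply h.gen h.hq h.hpq h.hQ h.hAQ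
    intro a ha ha1 x hx
    have ha' : a ∉ stab Z χ := fun hs => ha1 (hcon a ⟨ha, hs⟩)
    have hxa : a * x = x * a := (mem_centralizer_singleton_iff.mp hx.2).symm
    exact ⟨hx.1, fun v hv => step1 h c ha ha' hx.1 hxa hv⟩
  obtain ⟨z₀, hz₀, hne⟩ := w.hz
  exact hne (w.chi_eq_one hz₀ (hQ (c.hZQ hz₀)))

/-- step (ii), second half -/
theorem not_le_stab [Finite Γ] (h : Hyp ρ p q s A Q S) (c : Ctx ρ A Q S Z U)
    (w : NW ρ Z U χ) : ¬ A ≤ stab Z χ := by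
  intro hAs
  obtain ⟨z₀, hz₀, hne⟩ := w.hz
  have hAX : ∀ a ∈ A, ∀ v ∈ XX ρ Z U χ, ρ a v ∈ XX ρ Z U χ := fun a ha v hv =>
    map_XX_of_mem_stab (c.hUA a ha) (hAs ha) hv
  have hnorm : A ≤ normalizer ((Z ⊓ kerX ρ Q (XX ρ Z U χ) : Subgroup Γ) : Set Γ) := by
    apply Cfsg.Agent.Lib.Helper8.le_normalizer_inf c.hAZ
    intro a ha
    exact mem_normalizer_kerX (h.hAQ ha) (hAX a ha) (hAX a⁻¹ (A.inv_mem ha))
  have hcop : Nat.Coprime (Nat.card A) (Nat.card ↥(Z ⊓ kerX ρ Q (XX ρ Z U χ))) :=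
    h.coprime_of_isPGroup h.hq h.hpq (h.hQ.to_le (inf_le_left.trans c.hZQ))
  have hsolv : Group.IsSolvable A ∨ Group.IsSolvable ↥(Z ⊓ kerX ρ Q (XX ρ Z U χ)) :=
    Or.inl (Group.isSolvable_of_comm (fun a b => Subtype.ext (h.comm a.2 b.2)))
  have hx : ∀ a ∈ A, z₀⁻¹ * a * z₀ * a⁻¹ ∈ Z ⊓ kerX ρ Q (XX ρ Z U χ) := by
    intro a ha
    have h1 : a * z₀ * a⁻¹ ∈ Z := conj_mem_of_mem_normalizer (c.hAZ ha) hz₀
    have e : z₀⁻¹ * a * z₀ * a⁻¹ = z₀⁻¹ * (a * z₀ * a⁻¹) := by group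
    rw [e]
    have hmem : z₀⁻¹ * (a * z₀ * a⁻¹) ∈ Z := Z.mul_mem (Z.inv_mem hz₀) h1
    refine ⟨hmem, c.hZQ hmem, ?_⟩
    intro v hv
    rw [map_mul]
    show ρ z₀⁻¹ (ρ (a * z₀ * a⁻¹) v) = v
    have h2 : χ (a * z₀ * a⁻¹) = χ z₀ := by
      have := (hAs (A.inv_mem ha)).2 z₀ hz₀
      rwa [inv_inv] at this
    rw [hv.2 _ h1, h2, ← hv.2 z₀ hz₀, rho_inv_apply]
  obtain ⟨n, hn, hcent⟩ :=
    Cfsg.Agent.Lib.Helper1.exists_mul_mem_centralizer hnorm hcop hsolv z₀ hx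
  have h1 : z₀ * n = 1 := h.hfQ _ (c.hZQ (Z.mul_mem hz₀ hn.1)) (fun a ha => hcent a ha)
  have h2 : z₀ ∈ kerX ρ Q (XX ρ Z U χ) := by
    have : z₀ = n⁻¹ := eq_inv_of_mul_eq_one_left h1
    rw [this]
    exact Subgroup.inv_mem _ hn.2
  exact hne (w.chi_eq_one hz₀ h2)

/-- step (ii) -/
theorem card_inf_stab [Finite Γ] (h : Hyp ρ p q s A Q S) (c : Ctx ρ A Q S Z U)
    (w : NW ρ Z U χ) : Nat.card ↥(A ⊓ stab Z χ) = p := by
  have hp := h.hp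
  have h2 : Nat.card ↥(A ⊓ stab Z χ) ∣ p ^ 2 := h.hAcard ▸ Subgroup.card_dvd_of_le inf_le_left
  obtain ⟨k, hk, hk'⟩ := (Nat.dvd_prime_pow hp).mp h2
  interval_cases k
  · exfalso
    obtain ⟨b, hb, hb1⟩ := inf_stab_ne_bot h c w
    rw [pow_zero] at hk'
    have := Subgroup.eq_bot_of_card_eq _ hk'
    rw [this] at hb
    exact hb1 (Subgroup.mem_bot.mp hb)
  · rw [hk', pow_one]
  · exfalso
    apply not_le_stab h c w
    have : A ⊓ stab Z χ = A :=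
      Subgroup.eq_of_le_of_card_ge inf_le_left (by rw [h.hAcard, hk'])
    rw [← this]
    exact inf_le_right

theorem mem_zpowers_of_card (h : Hyp ρ p q s A Q S) {B : Subgroup Γ} [Finite B] (hBA : B ≤ A)
    (hB : Nat.card B = p) {a b : Γ} (ha : a ∈ B) (ha1 : a ≠ 1) (hb : b ∈ B) : b ∈ zpowers a := by
  have hza : zpowers a ≤ B := zpowers_le.mpr ha
  have hcz : Nat.card (zpowers a) = p := by
    rw [Nat.card_zpowers, h.orderOf_eq (hBA ha) ha1]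
  have : zpowers a = B := Subgroup.eq_of_le_of_card_ge hza (by rw [hcz, hB])
  rw [this]
  exact hb

/-- generation of `Q` modulo the kernel -/
theorem Q_le_of [Finite Γ] (h : Hyp ρ p q s A Q S) (c : Ctx ρ A Q S Z U) (w : NW ρ Z U χ)
    {b : Γ} (hb : b ∈ A ⊓ stab Z χ) {M : Subgroup Γ}
    (hM1 : kerX ρ Q (XX ρ Z U χ) ≤ M) (hM2 : Q ⊓ centralizer {b} ≤ M) : Q ≤ M := by
  apply h.gen h.hq h.hpq h.hQ h.hAQ
  intro a ha ha1 x hx
  have hxa : a * x = x * a := (mem_centralizer_singleton_iff.mp hx.2).symm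
  by_cases hs : a ∈ stab Z χ
  · apply hM2
    refine ⟨hx.1, ?_⟩
    obtain ⟨n, hn⟩ := mem_zpowers_iff.mp
      (mem_zpowers_of_card h inf_le_left (card_inf_stab h c w) ⟨ha, hs⟩ ha1 hb)
    show x ∈ centralizer {b}
    rw [mem_centralizer_singleton_iff, ← hn]
    exact ((show Commute x a from hxa.symm).zpow_right n)
  · apply hM1
    exact ⟨hx.1, fun v hv => step1 h c ha hs hx.1 hxa hv⟩

/-- the elements of `Q` that `g` centralizes modulo `N` -/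
def commSub (Q N : Subgroup Γ) (hN : ∀ x ∈ Q, ∀ n ∈ N, x * n * x⁻¹ ∈ N) (g : Γ) : Subgroup Γ where
  carrier := {x | x ∈ Q ∧ g * x * g⁻¹ * x⁻¹ ∈ N}
  mul_mem' := by
    rintro x y ⟨hx, hx'⟩ ⟨hy, hy'⟩
    refine ⟨Q.mul_mem hx hy, ?_⟩
    have e : g * (x * y) * g⁻¹ * (x * y)⁻¹ =
        (g * x * g⁻¹ * x⁻¹) * (x * (g * y * g⁻¹ * y⁻¹) * x⁻¹) := by group
    rw [e]
    exact N.mul_mem hx' (hN x hx _ hy')
  one_mem' := ⟨Q.one_mem, by simp⟩
  inv_mem' := by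
    rintro x ⟨hx, hx'⟩
    refine ⟨Q.inv_mem hx, ?_⟩
    have e : g * x⁻¹ * g⁻¹ * x⁻¹⁻¹ = x⁻¹ * (g * x * g⁻¹ * x⁻¹)⁻¹ * x⁻¹⁻¹ := by group
    rw [e]
    exact hN _ (Q.inv_mem hx) _ (N.inv_mem hx')

theorem map_XX_of_mem_inf_stab (c : Ctx ρ A Q S Z U) {g : Γ} (hg : g ∈ A ⊓ stab Z χ) {v : V}
    (hv : v ∈ XX ρ Z U χ) : ρ g v ∈ XX ρ Z U χ :=
  map_XX_of_mem_stab (c.hUA g hg.1) hg.2 hv

/-- step (iii) -/
theorem step3 [Finite Γ] (h : Hyp ρ p q s A Q S) (c : Ctx ρ A Q S Z U) (w : NW ρ Z U χ)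
    {b : Γ} (hb : b ∈ A ⊓ stab Z χ) :
    ∀ x ∈ Q, b * x * b⁻¹ * x⁻¹ ∈ kerX ρ Q (XX ρ Z U χ) := by
  have hN : ∀ x ∈ Q, ∀ n ∈ kerX ρ Q (XX ρ Z U χ), x * n * x⁻¹ ∈ kerX ρ Q (XX ρ Z U χ) :=
    fun x hx n hn => c.conj_mem_kerX_Q hx hn
  have key : Q ≤ commSub Q (kerX ρ Q (XX ρ Z U χ)) hN b := by
    apply Q_le_of h c w hb
    · intro k hk
      refine ⟨hk.1, ?_⟩
      have h1 : b * k * b⁻¹ ∈ kerX ρ Q (XX ρ Z U χ) :=
        conj_mem_kerX (h.hAQ hb.1)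
          (fun v hv => map_XX_of_mem_inf_stab c (Subgroup.inv_mem _ hb) hv) hk
      exact Subgroup.mul_mem _ h1 (Subgroup.inv_mem _ hk)
    · intro x hx
      refine ⟨hx.1, ?_⟩
      have hxb : x * b = b * x := mem_centralizer_singleton_iff.mp hx.2
      have e : b * x * b⁻¹ * x⁻¹ = 1 := by rw [← hxb]; group
      rw [e]
      exact Subgroup.one_mem _
  intro x hx
  exact (key hx).2

theorem exists_mul_of_mem_sup {S H : Subgroup Γ} (hH : H ≤ normalizer (S : Set Γ)) {γ : Γ}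
    (hγ : γ ∈ S ⊔ H) : ∃ k ∈ S, ∃ u ∈ H, γ = k * u := by
  have h1 := Subgroup.coe_mul_of_right_le_normalizer_left S H hH
  have h2 : γ ∈ ((S ⊔ H : Subgroup Γ) : Set Γ) := hγ
  rw [h1] at h2
  obtain ⟨k, hk, u, hu, rfl⟩ := Set.mem_mul.mp h2
  exact ⟨k, hk, u, hu, rfl⟩

/-- step (iv) -/
theorem step4 [Finite Γ] (h : Hyp ρ p q s A Q S) (c : Ctx ρ A Q S Z U) (w : NW ρ Z U χ) :
    ∀ y ∈ S, ∀ b ∈ A ⊓ stab Z χ, y⁻¹ * b * y ∈ stab Z χ := by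
  set T' : Subgroup Γ := stab Z χ ⊓ (S ⊔ A) with hT'
  set P : Subgroup Γ := A ⊓ (S ⊔ T') with hP
  have hSAn : S ⊔ A ≤ normalizer (S : Set Γ) := sup_le le_normalizer h.hAS
  have hT'n : T' ≤ normalizer (S : Set Γ) := inf_le_right.trans hSAn
  have hPA : P ≤ A := inf_le_left
  have hPn : P ≤ normalizer (S : Set Γ) := hPA.trans h.hAS
  have hcop : Nat.Coprime (Nat.card P) (Nat.card S) :=
    Nat.Coprime.coprime_dvd_left (Subgroup.card_dvd_of_le hPA)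
      (h.coprime_of_isPGroup h.hs h.hps h.hS)
  have hsolv : Group.IsSolvable P ∨ Group.IsSolvable S :=
    Or.inl (Group.isSolvable_of_comm (fun a b => Subtype.ext (h.comm (hPA a.2) (hPA b.2))))
  have hKU : ∀ γ ∈ S ⊔ P, ∃ k ∈ S, ∃ u ∈ (S ⊔ P) ⊓ T', γ = k * u := by
    intro γ hγ
    obtain ⟨k, hk, a, ha, rfl⟩ := exists_mul_of_mem_sup hPn hγ
    obtain ⟨k', hk', t, ht, hat⟩ := exists_mul_of_mem_sup hT'n ha.2
    refine ⟨k * k', S.mul_mem hk hk', t, ⟨?_, ht⟩, by rw [hat]; group⟩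
    have e : t = k'⁻¹ * a := by rw [hat]; group
    rw [e]
    exact Subgroup.mul_mem _ (mem_sup_left (S.inv_mem hk')) (mem_sup_right ha)
  obtain ⟨k, hk, hPk⟩ :=
    Cfsg.Agent.Lib.Helper1.exists_le_conj_smul_of_coprime hPn hcop hsolv inf_le_left hKU
  have hPle : P ≤ A ⊓ stab Z (cj k χ) := by
    intro a ha
    refine ⟨hPA ha, ?_⟩
    show a ∈ stab Z (cj k χ)
    rw [mem_stab_cj (c.hSZ hk)]
    have h1 := hPk ha
    rw [Subgroup.mem_pointwise_smul_iff_inv_smul_mem] at h1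
    have e : (MulAut.conj k)⁻¹ • a = k⁻¹ * a * k := by
      simp [MulAut.smul_def]
    rw [e] at h1
    exact h1.2.1
  have hcardP : Nat.card P ≤ p := by
    have := Subgroup.card_le_of_le hPle
    rwa [card_inf_stab h c (w.cj c hk)] at this
  have hle : ∀ y ∈ S, A ⊓ stab Z (cj y χ) ≤ P := by
    intro y hy a ha
    refine ⟨ha.1, ?_⟩
    have h1 : y⁻¹ * a * y ∈ stab Z χ := (mem_stab_cj (c.hSZ hy)).mp ha.2
    have h2 : y⁻¹ * a * y ∈ T' :=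
      ⟨h1, Subgroup.mul_mem _ (Subgroup.mul_mem _ (mem_sup_left (S.inv_mem hy))
        (mem_sup_right ha.1)) (mem_sup_left hy)⟩
    have e : a = y * (y⁻¹ * a * y) * y⁻¹ := by group
    rw [e]
    exact Subgroup.mul_mem _ (Subgroup.mul_mem _ (mem_sup_left hy) (mem_sup_right h2))
      (mem_sup_left (S.inv_mem hy))
  have heq : ∀ y ∈ S, A ⊓ stab Z (cj y χ) = P := by
    intro y hy
    apply Subgroup.eq_of_le_of_card_ge (hle y hy)
    rw [card_inf_stab h c (w.cj c hy)]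
    exact hcardP
  have hB : A ⊓ stab Z χ = P := by
    apply Subgroup.eq_of_le_of_card_ge
    · intro a ha
      exact ⟨ha.1, mem_sup_right ⟨ha.2, mem_sup_right ha.1⟩⟩
    · rw [card_inf_stab h c w]
      exact hcardP
  intro y hy b hb
  have h1 : b ∈ A ⊓ stab Z (cj y χ) := by
    rw [heq y hy, ← hB]
    exact hb
  exact (mem_stab_cj (c.hSZ hy)).mp h1.2

theorem normalizer_commutator_of_mem {H₁ H₂ : Subgroup Γ} {g : Γ}
    (h1 : g ∈ normalizer (H₁ : Set Γ)) (h2 : g ∈ normalizer (H₂ : Set Γ)) :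
    g ∈ normalizer ((⁅H₁, H₂⁆ : Subgroup Γ) : Set Γ) := by
  rw [mem_normalizer_iff_map_conj_eq, Subgroup.map_commutator,
    mem_normalizer_iff_map_conj_eq.mp h1, mem_normalizer_iff_map_conj_eq.mp h2]

theorem mem_normalizer_zpowers_of_comm {b y : Γ} (hby : b * y = y * b) :
    y ∈ normalizer ((zpowers b : Subgroup Γ) : Set Γ) := by
  apply Subgroup.centralizer_le_normalizer
  rw [mem_centralizer_iff]
  intro g hg
  obtain ⟨n, rfl⟩ := mem_zpowers_iff.mp hg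
  exact ((show Commute b y from hby).zpow_left n)

/-- step (v), (a) -/
theorem step5a [Finite Γ] (h : Hyp ρ p q s A Q S) (c : Ctx ρ A Q S Z U) (w : NW ρ Z U χ)
    {b : Γ} (hb : b ∈ A ⊓ stab Z χ) (hb1 : b ≠ 1) {y : Γ} (hy : y ∈ S) (hby : b * y = y * b) :
    y ∈ stab Z χ := by
  refine ⟨c.hSZ hy, ?_⟩
  intro z hz
  obtain ⟨v₀, hv₀, hv₀ne⟩ := w.hv
  have hBA : zpowers b ≤ A := zpowers_le.mpr hb.1
  have hBs : zpowers b ≤ A ⊓ stab Z χ := zpowers_le.mpr hb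
  have hBZ : zpowers b ≤ normalizer (Z : Set Γ) := hBA.trans c.hAZ
  have hN₁Z : ⁅Z, zpowers b⁆ ≤ Z := Cfsg.Agent.Lib.Helper1.commutator_le_of_le_normalizer hBZ
  have hN₁K : ⁅Z, zpowers b⁆ ≤ kerX ρ Q (XX ρ Z U χ) := by
    rw [Subgroup.commutator_le]
    intro z' hz' b' hb'
    have h3 := step3 h c w (hBs hb') z'⁻¹ (c.hZQ (Z.inv_mem hz'))
    have h4 := c.conj_mem_kerX_Q (c.hZQ hz') h3
    have e : z' * (b' * z'⁻¹ * b'⁻¹ * z'⁻¹⁻¹) * z'⁻¹ = ⁅z', b'⁆ := by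
      rw [commutatorElement_def]; group
    rwa [e] at h4
  have hnorm : zpowers b ≤ normalizer ((⁅Z, zpowers b⁆ : Subgroup Γ) : Set Γ) :=
    Cfsg.Agent.Lib.Helper1.le_normalizer_commutator_right Z (zpowers b)
  have hcop : Nat.Coprime (Nat.card (zpowers b)) (Nat.card ↥⁅Z, zpowers b⁆) :=
    Nat.Coprime.coprime_dvd_left (Subgroup.card_dvd_of_le hBA)
      (h.coprime_of_isPGroup h.hq h.hpq (h.hQ.to_le (hN₁Z.trans c.hZQ)))
  have hsolv : Group.IsSolvable (zpowers b) ∨ Group.IsSolvable ↥⁅Z, zpowers b⁆ :=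
    Or.inl (Group.isSolvable_of_comm (fun a b' => Subtype.ext (h.comm (hBA a.2) (hBA b'.2))))
  have hx : ∀ a ∈ zpowers b, z⁻¹ * a * z * a⁻¹ ∈ ⁅Z, zpowers b⁆ := by
    intro a ha
    have := Subgroup.commutator_mem_commutator (Z.inv_mem hz) ha
    rw [commutatorElement_def, inv_inv] at this
    exact this
  obtain ⟨n, hn, hcent⟩ :=
    Cfsg.Agent.Lib.Helper1.exists_mul_mem_centralizer hnorm hcop hsolv z hx
  have hbzn : b * (z * n) = (z * n) * b := hcent b (mem_zpowers b)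
  have hznQ : z * n ∈ Q := c.hZQ (Z.mul_mem hz (hN₁Z hn))
  have hcomm : (z * n) * y = y * (z * n) := h.comm_cent hb.1 hb1 hznQ hy hbzn hby
  have hyN : y ∈ normalizer ((⁅Z, zpowers b⁆ : Subgroup Γ) : Set Γ) :=
    normalizer_commutator_of_mem (c.hSZ hy) (mem_normalizer_zpowers_of_comm hby)
  have hyN₁ : y⁻¹ * n⁻¹ * y ∈ ⁅Z, zpowers b⁆ :=
    inv_conj_mem_of_mem_normalizer hyN (Subgroup.inv_mem _ hn)
  have e : y⁻¹ * z * y = z * n * (y⁻¹ * n⁻¹ * y) := by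
    have h5 : y⁻¹ * (z * n) = (z * n) * y⁻¹ := by
      have : y⁻¹ * ((z * n) * y) * y⁻¹ = y⁻¹ * (y * (z * n)) * y⁻¹ := by rw [hcomm]
      have e1 : y⁻¹ * ((z * n) * y) * y⁻¹ = y⁻¹ * (z * n) := by group
      have e2 : y⁻¹ * (y * (z * n)) * y⁻¹ = (z * n) * y⁻¹ := by group
      rw [e1, e2] at this
      exact this
    calc y⁻¹ * z * y = y⁻¹ * (z * n) * (n⁻¹ * y) := by group
      _ = (z * n) * y⁻¹ * (n⁻¹ * y) := by rw [h5]
      _ = z * n * (y⁻¹ * n⁻¹ * y) := by group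
  have hnK := hN₁K hn
  have hmK := hN₁K hyN₁
  have h1 : ρ (y⁻¹ * z * y) v₀ = χ (y⁻¹ * z * y) • v₀ :=
    hv₀.2 _ (inv_conj_mem_of_mem_normalizer (c.hSZ hy) hz)
  have h2 : ρ (y⁻¹ * z * y) v₀ = χ z • v₀ := by
    rw [e, map_mul, map_mul]
    show ρ z (ρ n (ρ (y⁻¹ * n⁻¹ * y) v₀)) = _
    rw [hmK.2 v₀ hv₀, hnK.2 v₀ hv₀, hv₀.2 z hz]
  have h3 : (χ (y⁻¹ * z * y) - χ z) • v₀ = 0 := by rw [sub_smul, ← h1, ← h2, sub_self]
  rcases smul_eq_zero.mp h3 with h4 | h4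
  · exact sub_eq_zero.mp h4
  · exact absurd h4 hv₀ne

/-- the decomposition `S = C_S(b) [S, ⟨b⟩]` -/
theorem S_le_sup [Finite Γ] (h : Hyp ρ p q s A Q S) {b : Γ} (hb : b ∈ A) :
    S ≤ (S ⊓ centralizer ((zpowers b : Subgroup Γ) : Set Γ)) ⊔ ⁅S, zpowers b⁆ := by
  have hBA : zpowers b ≤ A := zpowers_le.mpr hb
  apply Cfsg.Agent.Lib.Helper17.le_centralizer_sup_commutator (zpowers b) S (hBA.trans h.hAS)
  · exact Nat.Coprime.coprime_dvd_left (Subgroup.card_dvd_of_le hBA)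
      (h.coprime_of_isPGroup h.hs h.hps h.hS)
  · exact Or.inl (Group.isSolvable_of_comm
      (fun a b' => Subtype.ext (h.comm (hBA a.2) (hBA b'.2))))

/-- step (v) -/
theorem S_le_stab [Finite Γ] (h : Hyp ρ p q s A Q S) (c : Ctx ρ A Q S Z U) (w : NW ρ Z U χ) :
    S ≤ stab Z χ := by
  obtain ⟨b, hb, hb1⟩ := inf_stab_ne_bot h c w
  have hBs : zpowers b ≤ A ⊓ stab Z χ := zpowers_le.mpr hb
  refine (S_le_sup h hb.1).trans (sup_le ?_ ?_)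
  · intro y hy
    have hby : b * y = y * b := (mem_centralizer_iff.mp hy.2) b (mem_zpowers b)
    exact step5a h c w hb hb1 hy.1 hby
  · rw [Subgroup.commutator_le]
    intro y hy b' hb'
    have h4 := step4 h c w y⁻¹ (S.inv_mem hy) b' (hBs hb')
    rw [inv_inv] at h4
    rw [commutatorElement_def]
    exact Subgroup.mul_mem _ h4 (Subgroup.inv_mem _ (hBs hb').2)

/-- the elements acting trivially on `Q` modulo `N` -/
def trivSub (Q N : Subgroup Γ) : Subgroup Γ where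
  carrier := {g | g ∈ normalizer (Q : Set Γ) ∧ g ∈ normalizer (N : Set Γ) ∧
    ∀ x ∈ Q, g * x * g⁻¹ * x⁻¹ ∈ N}
  mul_mem' := by
    rintro g g' ⟨hg1, hg2, hg3⟩ ⟨hg'1, hg'2, hg'3⟩
    refine ⟨Subgroup.mul_mem _ hg1 hg'1, Subgroup.mul_mem _ hg2 hg'2, ?_⟩
    intro x hx
    have e : g * g' * x * (g * g')⁻¹ * x⁻¹ =
        (g * (g' * x * g'⁻¹ * x⁻¹) * g⁻¹) * (g * x * g⁻¹ * x⁻¹) := by group
    rw [e]
    exact N.mul_mem (conj_mem_of_mem_normalizer hg2 (hg'3 x hx)) (hg3 x hx)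
  one_mem' := ⟨Subgroup.one_mem _, Subgroup.one_mem _, fun x _ => by simp⟩
  inv_mem' := by
    rintro g ⟨hg1, hg2, hg3⟩
    refine ⟨Subgroup.inv_mem _ hg1, Subgroup.inv_mem _ hg2, ?_⟩
    intro x hx
    have hx' : g⁻¹ * x * g ∈ Q := inv_conj_mem_of_mem_normalizer hg1 hx
    have e : g⁻¹ * x * g⁻¹⁻¹ * x⁻¹ = (g * (g⁻¹ * x * g) * g⁻¹ * (g⁻¹ * x * g)⁻¹)⁻¹ := by group
    rw [e]
    exact N.inv_mem (hg3 _ hx')

theorem conj_mem_trivSub {Q N : Subgroup Γ} {g y : Γ} (hg : g ∈ trivSub Q N)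
    (hy1 : y ∈ normalizer (Q : Set Γ)) (hy2 : y ∈ normalizer (N : Set Γ)) :
    y * g * y⁻¹ ∈ trivSub Q N := by
  obtain ⟨hg1, hg2, hg3⟩ := hg
  refine ⟨Subgroup.mul_mem _ (Subgroup.mul_mem _ hy1 hg1) (Subgroup.inv_mem _ hy1),
    Subgroup.mul_mem _ (Subgroup.mul_mem _ hy2 hg2) (Subgroup.inv_mem _ hy2), ?_⟩
  intro x hx
  have hx' : y⁻¹ * x * y ∈ Q := inv_conj_mem_of_mem_normalizer hy1 hx
  have e : y * g * y⁻¹ * x * (y * g * y⁻¹)⁻¹ * x⁻¹ =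
      y * (g * (y⁻¹ * x * y) * g⁻¹ * (y⁻¹ * x * y)⁻¹) * y⁻¹ := by group
  rw [e]
  exact conj_mem_of_mem_normalizer hy2 (hg3 _ hx')

/-- step (vi): the nontrivial weight case -/
theorem step6 [Finite Γ] (h : Hyp ρ p q s A Q S) (c : Ctx ρ A Q S Z U) (w : NW ρ Z U χ) :
    ∀ x ∈ Q, ∀ y ∈ S, ∀ v ∈ XX ρ Z U χ, ρ ⁅x, y⁆ v = v := by
  have hSs := S_le_stab h c w
  have hN : ∀ x ∈ Q, ∀ n ∈ kerX ρ Q (XX ρ Z U χ), x * n * x⁻¹ ∈ kerX ρ Q (XX ρ Z U χ) :=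
    fun x hx n hn => c.conj_mem_kerX_Q hx hn
  have hSX : ∀ y ∈ S, ∀ v ∈ XX ρ Z U χ, ρ y v ∈ XX ρ Z U χ := fun y hy v hv =>
    map_XX_of_mem_stab (c.hUS y hy) (hSs hy) hv
  have hSK : S ≤ normalizer ((kerX ρ Q (XX ρ Z U χ) : Subgroup Γ) : Set Γ) := fun y hy =>
    mem_normalizer_kerX (h.hSQ hy) (hSX y hy) (hSX y⁻¹ (S.inv_mem hy))
  obtain ⟨b, hb, hb1⟩ := inf_stab_ne_bot h c w
  have hBs : zpowers b ≤ A ⊓ stab Z χ := zpowers_le.mpr hb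
  have hBT : zpowers b ≤ trivSub Q (kerX ρ Q (XX ρ Z U χ)) := by
    intro b' hb'
    have hb'' := hBs hb'
    exact ⟨h.hAQ hb''.1,
      mem_normalizer_kerX (h.hAQ hb''.1) (fun v hv => map_XX_of_mem_inf_stab c hb'' hv)
        (fun v hv => map_XX_of_mem_inf_stab c (Subgroup.inv_mem _ hb'') hv),
      step3 h c w hb''⟩
  have hST : S ≤ trivSub Q (kerX ρ Q (XX ρ Z U χ)) := by
    refine (S_le_sup h hb.1).trans (sup_le ?_ ?_)
    · intro y hy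
      have hby : b * y = y * b := (mem_centralizer_iff.mp hy.2) b (mem_zpowers b)
      refine ⟨h.hSQ hy.1, hSK hy.1, ?_⟩
      have key : Q ≤ commSub Q (kerX ρ Q (XX ρ Z U χ)) hN y := by
        apply Q_le_of h c w hb
        · intro k hk
          refine ⟨hk.1, ?_⟩
          exact Subgroup.mul_mem _ (conj_mem_of_mem_normalizer (hSK hy.1) hk)
            (Subgroup.inv_mem _ hk)
        · intro x hx
          refine ⟨hx.1, ?_⟩
          have hxb : x * b = b * x := mem_centralizer_singleton_iff.mp hx.2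
          have hxy : x * y = y * x := h.comm_cent hb.1 hb1 hx.1 hy.1 hxb.symm hby
          have e : y * x * y⁻¹ * x⁻¹ = 1 := by rw [← hxy]; group
          rw [e]
          exact Subgroup.one_mem _
      intro x hx
      exact (key hx).2
    · rw [Subgroup.commutator_le]
      intro y hy b' hb'
      rw [commutatorElement_def]
      exact Subgroup.mul_mem _ (conj_mem_trivSub (hBT hb') (h.hSQ hy) (hSK hy))
        (Subgroup.inv_mem _ (hBT hb'))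
  intro x hx y hy v hv
  have h1 := (hST hy).2.2 x⁻¹ (Q.inv_mem hx)
  have h2 := c.conj_mem_kerX_Q hx h1
  have e : x * (y * x⁻¹ * y⁻¹ * x⁻¹⁻¹) * x⁻¹ = ⁅x, y⁆ := by
    rw [commutatorElement_def]; group
  rw [e] at h2
  exact h2.2 v hv

end Cfsg.Agent.Lib.Helper23.Ward
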