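import Mathlib
import Cfsg.Agent.Lib.Helper23.WardD

set_option autoImplicit false
set_option linter.unusedSectionVars false

namespace Cfsg.Agent.Lib.Helper23.Ward

open Subgroup Module
open scoped commutatorElement

variable {K : Type*} [Field K] {Γ : Type*} [Group Γ] {V : Type*} [AddCommGroup V] [Module K V]

/-- the preimage in `Q` of the centre of `Q/N` -/
def upperZ (Q N : Subgroup Γ) (hN : ∀ x ∈ Q, ∀ n ∈ N, x * n * x⁻¹ ∈ N) : Subgroup Γ where
  carrier := {x | x ∈ Q ∧ ∀ t ∈ Q, ⁅x, t⁆ ∈ N}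
  mul_mem' := by
    rintro x y ⟨hx, hx'⟩ ⟨hy, hy'⟩
    refine ⟨Q.mul_mem hx hy, ?_⟩
    intro t ht
    have e : ⁅x * y, t⁆ = (x * ⁅y, t⁆ * x⁻¹) * ⁅x, t⁆ := by
      simp only [commutatorElement_def]; group
    rw [e]
    exact N.mul_mem (hN x hx _ (hy' t ht)) (hx' t ht)
  one_mem' := ⟨Q.one_mem, fun t _ => by rw [commutatorElement_one_left]; exact N.one_mem⟩
  inv_mem' := by
    rintro x ⟨hx, hx'⟩
    refine ⟨Q.inv_mem hx, ?_⟩
    intro t ht
    have e : ⁅x⁻¹, t⁆ = x⁻¹ * (⁅x, t⁆)⁻¹ * x⁻¹⁻¹ := by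
      simp only [commutatorElement_def]; group
    rw [e]
    exact hN _ (Q.inv_mem hx) _ (N.inv_mem (hx' t ht))

theorem mem_upperZ {Q N : Subgroup Γ} {hN : ∀ x ∈ Q, ∀ n ∈ N, x * n * x⁻¹ ∈ N} {x : Γ} :
    x ∈ upperZ Q N hN ↔ x ∈ Q ∧ ∀ t ∈ Q, ⁅x, t⁆ ∈ N := Iff.rfl

theorem upperZ_le {Q N : Subgroup Γ} (hN : ∀ x ∈ Q, ∀ n ∈ N, x * n * x⁻¹ ∈ N) :
    upperZ Q N hN ≤ Q := fun _ hx => hx.1

theorem le_upperZ {Q N : Subgroup Γ} (hN : ∀ x ∈ Q, ∀ n ∈ N, x * n * x⁻¹ ∈ N) (hNQ : N ≤ Q) :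
    N ≤ upperZ Q N hN := by
  intro n hn
  refine ⟨hNQ hn, ?_⟩
  intro t ht
  have e : ⁅n, t⁆ = n * (t * n⁻¹ * t⁻¹) := by
    simp only [commutatorElement_def]; group
  rw [e]
  exact N.mul_mem hn (hN t ht _ (N.inv_mem hn))

theorem conj_mem_upperZ {Q N : Subgroup Γ} (hN : ∀ x ∈ Q, ∀ n ∈ N, x * n * x⁻¹ ∈ N) {g : Γ}
    (hgQ : g ∈ normalizer (Q : Set Γ)) (hgN : g ∈ normalizer (N : Set Γ)) {x : Γ}
    (hx : x ∈ upperZ Q N hN) : g * x * g⁻¹ ∈ upperZ Q N hN := by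
  refine ⟨conj_mem_of_mem_normalizer hgQ hx.1, ?_⟩
  intro t ht
  have ht' : g⁻¹ * t * g ∈ Q := inv_conj_mem_of_mem_normalizer hgQ ht
  have e : ⁅g * x * g⁻¹, t⁆ = g * ⁅x, g⁻¹ * t * g⁆ * g⁻¹ := by
    simp only [commutatorElement_def]; group
  rw [e]
  exact conj_mem_of_mem_normalizer hgN (hx.2 _ ht')

theorem mem_normalizer_upperZ {Q N : Subgroup Γ} (hN : ∀ x ∈ Q, ∀ n ∈ N, x * n * x⁻¹ ∈ N) {g : Γ}
    (hgQ : g ∈ normalizer (Q : Set Γ)) (hgN : g ∈ normalizer (N : Set Γ)) :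
    g ∈ normalizer ((upperZ Q N hN : Subgroup Γ) : Set Γ) := by
  rw [mem_normalizer_iff]
  intro x
  constructor
  · exact conj_mem_upperZ hN hgQ hgN
  · intro hx
    have := conj_mem_upperZ hN (Subgroup.inv_mem _ hgQ) (Subgroup.inv_mem _ hgN) hx
    have e : g⁻¹ * (g * x * g⁻¹) * g⁻¹⁻¹ = x := by group
    rwa [e] at this

/-- the centre of `Q/N` is nontrivial -/
theorem exists_mem_upperZ_not_mem [Finite Γ] {q : ℕ} (hq : q.Prime) {Q N : Subgroup Γ}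
    (hQ : IsPGroup q Q) (hN : ∀ x ∈ Q, ∀ n ∈ N, x * n * x⁻¹ ∈ N) (hNQ : N ≤ Q) (hne : N ≠ Q) :
    ∃ x ∈ upperZ Q N hN, x ∉ N := by
  have : Fact q.Prime := ⟨hq⟩
  have hnorm : (N.subgroupOf Q).Normal := by
    constructor
    intro n hn x
    rw [mem_subgroupOf] at hn ⊢
    exact hN x.1 x.2 _ hn
  have hQ' : IsPGroup q (↥Q ⧸ N.subgroupOf Q) := hQ.to_quotient _
  have : Nontrivial (↥Q ⧸ N.subgroupOf Q) := by
    by_contra hcon
    rw [not_nontrivial_iff_subsingleton] at hcon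
    have h1 : N.subgroupOf Q = ⊤ := QuotientGroup.subgroup_eq_top_of_subsingleton _ hcon
    rw [subgroupOf_eq_top] at h1
    exact hne (le_antisymm hNQ h1)
  have := hQ'.center_nontrivial
  obtain ⟨⟨c, hc⟩, hc1⟩ := exists_ne (1 : ↥(center (↥Q ⧸ N.subgroupOf Q)))
  obtain ⟨x, rfl⟩ := QuotientGroup.mk_surjective c
  refine ⟨x.1, ⟨x.2, ?_⟩, ?_⟩
  · intro t ht
    have h1 : (QuotientGroup.mk ⁅x, (⟨t, ht⟩ : ↥Q)⁆ : ↥Q ⧸ N.subgroupOf Q) = 1 := by
      rw [commutatorElement_def]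
      simp only [QuotientGroup.mk_mul, QuotientGroup.mk_inv]
      have h2 := (mem_center_iff.mp hc) (QuotientGroup.mk (⟨t, ht⟩ : ↥Q))
      rw [← h2]
      group
    rw [QuotientGroup.eq_one_iff, mem_subgroupOf] at h1
    exact h1
  · intro hxN
    apply hc1
    apply Subtype.ext
    show (QuotientGroup.mk x : ↥Q ⧸ N.subgroupOf Q) = 1
    rw [QuotientGroup.eq_one_iff, mem_subgroupOf]
    exact hxN

/-- the fixed space of a subgroup -/
def fixN (ρ : Representation K Γ V) (N : Subgroup Γ) : Submodule K V where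
  carrier := {v | ∀ n ∈ N, ρ n v = v}
  add_mem' := by
    intro a b ha hb n hn
    rw [map_add, ha n hn, hb n hn]
  zero_mem' := by
    intro n _
    rw [map_zero]
  smul_mem' := by
    intro c a ha n hn
    rw [map_smul, ha n hn]

theorem mem_fixN {ρ : Representation K Γ V} {N : Subgroup Γ} {v : V} :
    v ∈ fixN ρ N ↔ ∀ n ∈ N, ρ n v = v := Iff.rfl

theorem map_fixN {ρ : Representation K Γ V} {N : Subgroup Γ} {g : Γ}
    (hg : g ∈ normalizer (N : Set Γ)) {v : V} (hv : v ∈ fixN ρ N) : ρ g v ∈ fixN ρ N := by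
  intro n hn
  have h1 : g⁻¹ * n * g ∈ N := inv_conj_mem_of_mem_normalizer hg hn
  have h3 : n * g = g * (g⁻¹ * n * g) := by group
  calc ρ n (ρ g v) = ρ (n * g) v := by rw [map_mul]; rfl
    _ = ρ (g * (g⁻¹ * n * g)) v := by rw [h3]
    _ = ρ g (ρ (g⁻¹ * n * g) v) := by rw [map_mul]; rfl
    _ = ρ g v := by rw [hv _ h1]

variable {ρ : Representation K Γ V} {p q s : ℕ} {A Q S : Subgroup Γ}

theorem ctx_upperZ (h : Hyp ρ p q s A Q S) {N : Subgroup Γ}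
    (hQN : Q ≤ normalizer (N : Set Γ)) (hSN : S ≤ normalizer (N : Set Γ))
    (hAN : A ≤ normalizer (N : Set Γ)) (hN : ∀ x ∈ Q, ∀ n ∈ N, x * n * x⁻¹ ∈ N) :
    Ctx ρ A Q S (upperZ Q N hN) (fixN ρ N) where
  hZQ := upperZ_le hN
  hQZ := fun x hx => mem_normalizer_upperZ hN (le_normalizer hx) (hQN hx)
  hSZ := fun y hy => mem_normalizer_upperZ hN (h.hSQ hy) (hSN hy)
  hAZ := fun a ha => mem_normalizer_upperZ hN (h.hAQ ha) (hAN ha)
  hUQ := fun x hx u hu => map_fixN (hQN hx) hu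
  hUS := fun y hy u hu => map_fixN (hSN hy) hu
  hUA := fun a ha u hu => map_fixN (hAN ha) hu
  hcomm := by
    intro z hz t ht u hu
    have h1 : ρ (t * z) u ∈ fixN ρ N := map_fixN (hQN (Q.mul_mem ht hz.1)) hu
    have h2 : z * t = ⁅z, t⁆ * (t * z) := by
      simp only [commutatorElement_def]; group
    calc ρ z (ρ t u) = ρ (z * t) u := by rw [map_mul]; rfl
      _ = ρ (⁅z, t⁆ * (t * z)) u := by rw [h2]
      _ = ρ ⁅z, t⁆ (ρ (t * z) u) := by rw [map_mul]; rfl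
      _ = ρ (t * z) u := h1 _ (hz.2 t ht)
      _ = ρ t (ρ z u) := by rw [map_mul]; rfl

/-- **Key proposition** -/
theorem key_prop [Finite Γ] [IsAlgClosed K] [FiniteDimensional K V] (h : Hyp ρ p q s A Q S) :
    ∀ x ∈ Q, ∀ y ∈ S, ∀ v : V, ρ ⁅x, y⁆ v = v := by
  have main : ∀ N : Subgroup Γ, N ≤ Q → Q ≤ normalizer (N : Set Γ) →
      S ≤ normalizer (N : Set Γ) → A ≤ normalizer (N : Set Γ) →
      ∀ v ∈ fixN ρ N, ∀ x ∈ Q, ∀ y ∈ S, ρ ⁅x, y⁆ v = v := by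
    intro N
    induction N using WellFoundedGT.induction with
    | ind N ih =>
      intro hNQ hQN hSN hAN v hv x hx y hy
      by_cases hne : N = Q
      · have hc : ⁅x, y⁆ ∈ Q := by
          have e : ⁅x, y⁆ = x * (y * x⁻¹ * y⁻¹) := by
            simp only [commutatorElement_def]; group
          rw [e]
          exact Q.mul_mem hx (conj_mem_of_mem_normalizer (h.hSQ hy) (Q.inv_mem hx))
        exact hv _ (hne ▸ hc)
      · have hN : ∀ x ∈ Q, ∀ n ∈ N, x * n * x⁻¹ ∈ N :=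
          fun x hx n hn => conj_mem_of_mem_normalizer (hQN hx) hn
        obtain ⟨x₀, hx₀, hx₀N⟩ := exists_mem_upperZ_not_mem h.hq h.hQ hN hNQ hne
        have hlt : N < upperZ Q N hN :=
          lt_of_le_of_ne (le_upperZ hN hNQ) (fun e => hx₀N (e ▸ hx₀))
        have c := ctx_upperZ h hQN hSN hAN hN
        have ihZ := ih (upperZ Q N hN) hlt c.hZQ c.hQZ c.hSZ c.hAZ
        have hdec := mem_iSup_wt ρ (upperZ Q N hN) (fixN ρ N)
          (fun z hz u hu => c.hUQ z (c.hZQ hz) u hu)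
          (fun z hz z' hz' u hu => c.hcomm z hz z' (c.hZQ hz') u hu)
          (h.card_ne_zero_of_le c.hZQ) v hv
        have hle : (⨆ χ : Γ → K, fixN ρ N ⊓ wt ρ (upperZ Q N hN) χ) ≤ fixSp ρ ⁅x, y⁆ := by
          apply iSup_le
          intro χ u hu
          rw [mem_fixSp]
          by_cases hX : ∃ v' ∈ XX ρ (upperZ Q N hN) (fixN ρ N) χ, v' ≠ 0
          · by_cases hz : ∃ z ∈ upperZ Q N hN, χ z ≠ 1
            · exact step6 h c ⟨hX, hz⟩ x hx y hy u hu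
            · push Not at hz
              apply ihZ u _ x hx y hy
              intro z hzZ
              rw [hu.2 z hzZ, hz z hzZ, one_smul]
          · push Not at hX
            rw [hX u hu, map_zero]
        exact mem_fixSp.mp (hle hdec)
  intro x hx y hy v
  apply main ⊥ bot_le _ _ _ v _ x hx y hy
  · intro g _
    rw [mem_normalizer_iff]
    intro k
    simp [Subgroup.mem_bot]
  · intro g _
    rw [mem_normalizer_iff]
    intro k
    simp [Subgroup.mem_bot]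
  · intro g _
    rw [mem_normalizer_iff]
    intro k
    simp [Subgroup.mem_bot]
  · intro n hn
    rw [Subgroup.mem_bot.mp hn, map_one]; rfl

end Cfsg.Agent.Lib.Helper23.Ward
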