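import Mathlib
import Cfsg.Agent.Lib.Helper1.HB3
import Cfsg.Agent.Lib.Helper23.S3A
import Cfsg.Agent.Lib.Helper23.WardE
import Cfsg.Agent.Lib.Helper24.LinPGroup

set_option autoImplicit false
set_option linter.unusedSectionVars false

namespace Cfsg.Agent.Lib.Helper23.S3

open Module Subgroup
open Cfsg.Agent.Lib.Helper1.HH Cfsg.Agent.Lib.Helper1.HB Cfsg.Agent.Lib.Helper23.Ward
open Cfsg.Agent.Lib.Helper24.LinPGroup (Inv resRep resRep_apply subRep subRep_apply)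
open scoped commutatorElement

universe u

variable {K : Type*} [Field K] {W : Type u} [AddCommGroup W] [Module K W]
variable {G : Type*} [Group G]

theorem rho_mul_inv (ρ : Representation K G W) (g : G) : ρ g * ρ g⁻¹ = 1 := by
  rw [← map_mul, mul_inv_cancel, map_one]

theorem rho_inv_mul (ρ : Representation K G W) (g : G) : ρ g⁻¹ * ρ g = 1 := by
  rw [← map_mul, inv_mul_cancel, map_one]

/-- `ρ ⁅x, f⁆ = 1` iff `ρ x` and `ρ f` commute. -/
theorem rho_comm_eq_one_iff (ρ : Representation K G W) (x f : G) :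
    ρ ⁅x, f⁆ = 1 ↔ ρ x * ρ f = ρ f * ρ x := by
  rw [commutatorElement_def, map_mul, map_mul, map_mul]
  constructor
  · intro h
    calc ρ x * ρ f = ρ x * ρ f * (ρ x⁻¹ * ρ f⁻¹) * (ρ f * ρ x) := by
          rw [mul_assoc (ρ x * ρ f), ← mul_assoc (ρ x⁻¹ * ρ f⁻¹), mul_assoc (ρ x⁻¹), rho_inv_mul,
            mul_one, rho_inv_mul, mul_one]
      _ = ρ f * ρ x := by
          rw [← mul_assoc (ρ x * ρ f), h, one_mul]
  · intro h
    rw [h, mul_assoc (ρ f), rho_mul_inv, mul_one, rho_mul_inv]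

/-- elements of `D` whose operators commute with a given operator -/
def cent1 (ρ : Representation K G W) (D : Subgroup G) (T : Module.End K W) : Subgroup G where
  carrier := {d | d ∈ D ∧ T * ρ d = ρ d * T}
  mul_mem' := by
    rintro a b ⟨ha, ha'⟩ ⟨hb, hb'⟩
    refine ⟨D.mul_mem ha hb, ?_⟩
    rw [map_mul, ← mul_assoc, ha', mul_assoc, hb', mul_assoc]
  one_mem' := ⟨D.one_mem, by rw [map_one, mul_one, one_mul]⟩
  inv_mem' := by
    rintro a ⟨ha, ha'⟩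
    refine ⟨D.inv_mem ha, ?_⟩
    calc T * ρ a⁻¹ = ρ a⁻¹ * (ρ a * T) * ρ a⁻¹ := by
          rw [← mul_assoc, rho_inv_mul, one_mul]
      _ = ρ a⁻¹ * (T * ρ a) * ρ a⁻¹ := by rw [ha']
      _ = ρ a⁻¹ * T := by rw [mul_assoc, mul_assoc, rho_mul_inv, mul_one]

theorem mem_cent1 {ρ : Representation K G W} {D : Subgroup G} {T : Module.End K W} {d : G} :
    d ∈ cent1 ρ D T ↔ d ∈ D ∧ T * ρ d = ρ d * T := Iff.rfl

/-- elements of `D` whose operators commute with all operators of `D` -/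
def centD (ρ : Representation K G W) (D : Subgroup G) : Subgroup G where
  carrier := {x | x ∈ D ∧ ∀ d ∈ D, ρ x * ρ d = ρ d * ρ x}
  mul_mem' := by
    rintro a b ⟨ha, ha'⟩ ⟨hb, hb'⟩
    refine ⟨D.mul_mem ha hb, ?_⟩
    intro d hd
    rw [map_mul, mul_assoc, hb' d hd, ← mul_assoc, ha' d hd, mul_assoc]
  one_mem' := ⟨D.one_mem, fun d _ => by rw [map_one, mul_one, one_mul]⟩
  inv_mem' := by
    rintro a ⟨ha, ha'⟩
    refine ⟨D.inv_mem ha, ?_⟩
    intro d hd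
    calc ρ a⁻¹ * ρ d = ρ a⁻¹ * (ρ d * ρ a) * ρ a⁻¹ := by
          rw [mul_assoc, mul_assoc, rho_mul_inv, mul_one]
      _ = ρ a⁻¹ * (ρ a * ρ d) * ρ a⁻¹ := by rw [ha' d hd]
      _ = ρ d * ρ a⁻¹ := by rw [← mul_assoc, rho_inv_mul, one_mul]

theorem mem_centD {ρ : Representation K G W} {D : Subgroup G} {x : G} :
    x ∈ centD ρ D ↔ x ∈ D ∧ ∀ d ∈ D, ρ x * ρ d = ρ d * ρ x := Iff.rfl

theorem centD_le (ρ : Representation K G W) (D : Subgroup G) : centD ρ D ≤ D := fun _ hx => hx.1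

/-- conjugation by an element normalising `D` preserves `centD` -/
theorem conj_mem_centD {ρ : Representation K G W} {D : Subgroup G} {g x : G}
    (hg : ∀ d ∈ D, g * d * g⁻¹ ∈ D) (hg' : ∀ d ∈ D, g⁻¹ * d * g ∈ D) (hx : x ∈ centD ρ D) :
    g * x * g⁻¹ ∈ centD ρ D := by
  refine ⟨hg x hx.1, ?_⟩
  intro d hd
  have h1 := hx.2 _ (hg' d hd)
  have e1 : ρ (g * x * g⁻¹) = ρ g * ρ x * ρ g⁻¹ := by rw [map_mul, map_mul]
  have e2 : ρ d = ρ g * ρ (g⁻¹ * d * g) * ρ g⁻¹ := by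
    rw [← map_mul, ← map_mul]
    congr 1
    group
  rw [e1, e2]
  calc ρ g * ρ x * ρ g⁻¹ * (ρ g * ρ (g⁻¹ * d * g) * ρ g⁻¹)
      = ρ g * (ρ x * (ρ g⁻¹ * ρ g) * ρ (g⁻¹ * d * g)) * ρ g⁻¹ := by simp only [mul_assoc]
    _ = ρ g * (ρ (g⁻¹ * d * g) * ρ x) * ρ g⁻¹ := by rw [rho_inv_mul, mul_one, h1]
    _ = ρ g * ρ (g⁻¹ * d * g) * ρ g⁻¹ * (ρ g * ρ x * ρ g⁻¹) := by
        simp only [← map_mul]
        congr 1
        group


theorem eq_one_of_pow_coprime {M : Type*} [Monoid M] (T : M) {m n : ℕ} (hmn : m.Coprime n)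
    (hm : T ^ m = 1) (hn : T ^ n = 1) : T = 1 := by
  have h1 := orderOf_dvd_of_pow_eq_one hm
  have h2 := orderOf_dvd_of_pow_eq_one hn
  have h3 : orderOf T = 1 := Nat.eq_one_of_dvd_coprimes hmn h1 h2
  exact orderOf_eq_one_iff.mp h3

theorem end_comm_of_finrank_eq_one (h : finrank K W = 1) (S T : Module.End K W) :
    S * T = T * S := by
  obtain ⟨v, -, hv⟩ := finrank_eq_one_iff'.mp h
  obtain ⟨s, hs⟩ := hv (S v)
  obtain ⟨t, ht⟩ := hv (T v)
  apply LinearMap.ext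
  intro w
  obtain ⟨c, rfl⟩ := hv w
  simp only [Module.End.mul_apply, map_smul, ← hs, ← ht, smul_smul, mul_comm]

theorem comm_eq_comm_sub_one (T : Module.End K W) : comm (T - 1) = comm T := by
  ext S
  rw [mem_comm, mem_comm, sub_mul, mul_sub, one_mul, mul_one]
  constructor
  · intro h
    exact sub_left_injective h
  · intro h
    rw [h]

/-- `f x f⁻¹ = ⁅x, f⁆⁻¹ x` -/
theorem conj_eq_comm_inv_mul (x f : G) : f * x * f⁻¹ = ⁅x, f⁆⁻¹ * x := by
  rw [commutatorElement_def]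
  group

/-- if `ρ ⁅x,f⁆` commutes with `ρ f`, then `ρ (f^k x f^-k) = ρ(⁅x,f⁆⁻¹)^k ρ x` -/
theorem rho_conj_pow (ρ : Representation K G W) (x f : G)
    (hy : ρ ⁅x, f⁆ * ρ f = ρ f * ρ ⁅x, f⁆) (k : ℕ) :
    ρ (f ^ k * x * (f ^ k)⁻¹) = (ρ ⁅x, f⁆⁻¹) ^ k * ρ x := by
  induction k with
  | zero => simp
  | succ k ih =>
    have hy' : ρ f * ρ ⁅x, f⁆⁻¹ = ρ ⁅x, f⁆⁻¹ * ρ f := by
      calc ρ f * ρ ⁅x, f⁆⁻¹ = ρ ⁅x, f⁆⁻¹ * (ρ ⁅x, f⁆ * ρ f) * ρ ⁅x, f⁆⁻¹ := by
            rw [← mul_assoc, rho_inv_mul, one_mul]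
        _ = ρ ⁅x, f⁆⁻¹ * ρ f := by rw [hy, mul_assoc, mul_assoc, rho_mul_inv, mul_one]
    have hy'' : ρ f * (ρ ⁅x, f⁆⁻¹) ^ k = (ρ ⁅x, f⁆⁻¹) ^ k * ρ f :=
      (Commute.pow_right (show Commute (ρ f) (ρ ⁅x, f⁆⁻¹) from hy') k)
    have e1 : f ^ (k + 1) * x * (f ^ (k + 1))⁻¹ = f * (f ^ k * x * (f ^ k)⁻¹) * f⁻¹ := by
      rw [pow_succ']
      group
    rw [e1, map_mul, map_mul, ih, ← mul_assoc, hy'', pow_succ, mul_assoc, mul_assoc, mul_assoc]
    congr 1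
    rw [← map_mul, ← map_mul, ← map_mul, ← mul_assoc, conj_eq_comm_inv_mul]

/-- if `ρ ⁅x,f⁆` commutes with `ρ f` (with `x` a `t`-element, `f^q = 1`) then `ρ ⁅x,f⁆ = 1` -/
theorem comm_triv_of_comm (ρ : Representation K G W) {q m : ℕ} (hcop : q.Coprime m)
    (x f : G) (hf : f ^ q = 1) (hc : ⁅x, f⁆ ^ m = 1)
    (hy : ρ ⁅x, f⁆ * ρ f = ρ f * ρ ⁅x, f⁆) : ρ ⁅x, f⁆ = 1 := by
  have h1 := rho_conj_pow ρ x f hy q
  rw [hf, inv_one, one_mul, mul_one] at h1
  have h2 : (ρ ⁅x, f⁆⁻¹) ^ q = 1 := by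
    calc (ρ ⁅x, f⁆⁻¹) ^ q = (ρ ⁅x, f⁆⁻¹) ^ q * ρ x * ρ x⁻¹ := by
          rw [mul_assoc, rho_mul_inv, mul_one]
      _ = 1 := by rw [← h1, rho_mul_inv]
  have h3 : (ρ ⁅x, f⁆) ^ q = 1 := by
    rw [← map_pow] at h2 ⊢
    rw [inv_pow] at h2
    calc ρ (⁅x, f⁆ ^ q) = ρ (⁅x, f⁆ ^ q) * ρ (⁅x, f⁆ ^ q)⁻¹ := by rw [h2, mul_one]
      _ = 1 := rho_mul_inv ρ _
  have h4 : (ρ ⁅x, f⁆) ^ m = 1 := by rw [← map_pow, hc, map_one]
  exact eq_one_of_pow_coprime _ hcop h3 h4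


/-- twisted version: if `ρ (f x f⁻¹) = c • ρ x` with `x^m = 1`, `f^q = 1`, coprime, then `c = 1` -/
theorem scalar_twist_eq_one [Nontrivial W] (ρ : Representation K G W) {q m : ℕ} (hcop : q.Coprime m)
    (x f : G) (hf : f ^ q = 1) (hx : x ^ m = 1) (c : K)
    (hc : ρ (f * x * f⁻¹) = c • ρ x) : c = 1 := by
  have h1 : ∀ k : ℕ, ρ (f ^ k * x * (f ^ k)⁻¹) = c ^ k • ρ x := by
    intro k
    induction k with
    | zero => simp
    | succ k ih =>
      have e1 : f ^ (k + 1) * x * (f ^ (k + 1))⁻¹ = f * (f ^ k * x * (f ^ k)⁻¹) * f⁻¹ := by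
        rw [pow_succ']
        group
      rw [e1, map_mul, map_mul, ih, mul_smul_comm, smul_mul_assoc, ← map_mul, ← map_mul, hc,
        smul_smul, pow_succ]
  have hinj : ∀ μ : K, μ • ρ x = ρ x → μ = 1 := by
    intro μ hμ
    have h2 : μ • (1 : Module.End K W) = 1 := by
      calc μ • (1 : Module.End K W) = (μ • ρ x) * ρ x⁻¹ := by
            rw [smul_mul_assoc, rho_mul_inv]
        _ = 1 := by rw [hμ, rho_mul_inv]
    exact (smul_one_eq_one_iff μ).mp h2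
  have h2 : c ^ q = 1 := by
    apply hinj
    rw [← h1 q, hf, inv_one, one_mul, mul_one]
  have h3 : c ^ m = 1 := by
    have h4 : (ρ (f * x * f⁻¹)) ^ m = 1 := by
      rw [← map_pow, conj_pow, hx, mul_one, mul_inv_cancel, map_one]
    rw [hc, smul_pow, ← map_pow, hx, map_one] at h4
    exact (smul_one_eq_one_iff (V := W) _).mp h4
  exact eq_one_of_pow_coprime _ hcop h2 h3


/-- **Hall--Higman in coprime characteristic, prime order, irreducible minimal case** -/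
theorem hh1_irr [IsAlgClosed K] [FiniteDimensional K W] [Nontrivial W] [Finite G]
    (ρ : Representation K G W) (hirr : IrrOn ρ Set.univ)
    {t q : ℕ} (ht : t.Prime) (hq : q.Prime) (htq : t ≠ q) (htK : (t : K) ≠ 0) (hqK : (q : K) ≠ 0)
    (D : Subgroup G) [hDn : D.Normal] (hD : IsPGroup t D) (f : G) (hf : f ^ q = 1)
    (hgen : D ⊔ zpowers f = ⊤)
    (hfix : ∀ w, ρ f w = w → w = 0)
    (hmin : ∀ D₁ : Subgroup G, D₁ < D → (∀ d ∈ D₁, f * d * f⁻¹ ∈ D₁) → ∀ x ∈ D₁, ρ ⁅x, f⁆ = 1)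
    (hexc : ∀ b : ℕ, 0 < b → t ^ b ≠ q - 1) :
    ∀ x ∈ D, ρ ⁅x, f⁆ = 1 := by
  classical
  by_contra hcon
  push Not at hcon
  obtain ⟨x₀, hx₀, hx₀1⟩ := hcon
  have : Fact t.Prime := ⟨ht⟩
  have : Fact q.Prime := ⟨hq⟩
  obtain ⟨a, ha⟩ := IsPGroup.iff_card.mp hD
  have hpowD : ∀ d ∈ D, d ^ (t ^ a) = 1 := by
    intro d hd
    have h1 : (⟨d, hd⟩ : ↥D) ^ (t ^ a) = 1 := by
      rw [← ha]
      exact pow_card_eq_one'
    exact congrArg Subtype.val h1
  have hcop : q.Coprime (t ^ a) :=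
    Nat.Coprime.pow_right a ((Nat.coprime_primes hq ht).mpr (Ne.symm htq))
  have hDf : ∀ d ∈ D, f * d * f⁻¹ ∈ D := fun d hd => hDn.conj_mem d hd f
  have hDf' : ∀ d ∈ D, f⁻¹ * d * f ∈ D := fun d hd => by
    have := hDn.conj_mem d hd f⁻¹
    rwa [inv_inv] at this
  have hcommD : ∀ d ∈ D, ⁅d, f⁆ ∈ D := by
    intro d hd
    have e : ⁅d, f⁆ = d * (f * d⁻¹ * f⁻¹) := by rw [commutatorElement_def]; group
    rw [e]
    exact D.mul_mem hd (hDf _ (D.inv_mem hd))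
  -- r2
  have r2 : ∀ M : Subgroup G, M ≤ D → (∀ d ∈ M, f * d * f⁻¹ ∈ M) → (∀ d ∈ D, ⁅d, f⁆ ∈ M) →
      M = D := by
    intro M hMD hMf hMc
    by_contra hne
    have hlt : M < D := lt_of_le_of_ne hMD hne
    apply hx₀1
    apply comm_triv_of_comm ρ hcop x₀ f hf (hpowD _ (hcommD x₀ hx₀))
    have := hmin M hlt hMf _ (hMc x₀ hx₀)
    exact ((rho_comm_eq_one_iff ρ _ f).mp this)
  set Z : Subgroup G := D ⊓ scalarSubgroup ρ with hZ
  have hZn : Z.Normal := inferInstance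
  have hZcent : ∀ z ∈ Z, ∀ g : G, ρ z * ρ g = ρ g * ρ z := by
    rintro z ⟨-, μ, hμ⟩ g
    rw [hμ, smul_mul_assoc, one_mul, mul_smul_comm, mul_one]
  have hschur : ∀ x ∈ D, ρ x * ρ f = ρ f * ρ x → (∀ d ∈ D, ρ x * ρ d = ρ d * ρ x) → x ∈ Z := by
    intro x hx h1 h2
    refine ⟨hx, scalar_of_comm_of_irr ρ hirr x ?_⟩
    intro g
    have hg : g ∈ cent1 ρ ⊤ (ρ x) := by
      have hle : D ⊔ zpowers f ≤ cent1 ρ ⊤ (ρ x) := by
        apply sup_le
        · intro d hd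
          exact ⟨mem_top d, h2 d hd⟩
        · rw [zpowers_le]
          exact ⟨mem_top f, h1⟩
      apply hle
      rw [hgen]
      exact mem_top g
    exact hg.2.symm
  -- elements of `D` commuting with `f` are scalar
  have hkey : ∀ x ∈ D, ρ x * ρ f = ρ f * ρ x → x ∈ Z := by
    by_cases hZ₀ : centD ρ D = D
    · intro x hx h1
      apply hschur x hx h1
      intro d hd
      have : x ∈ centD ρ D := by rw [hZ₀]; exact hx
      exact this.2 d hd
    · have h3 : centD ρ D ≤ Z := by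
        intro x hx
        have hlt : centD ρ D < D := lt_of_le_of_ne (centD_le ρ D) hZ₀
        have := hmin _ hlt (fun d hd => conj_mem_centD hDf hDf' hd) x hx
        exact hschur x hx.1 ((rho_comm_eq_one_iff ρ x f).mp this) hx.2
      have hc1 : ∀ x ∈ D, ρ x * ρ f = ρ f * ρ x → (∀ d ∈ D, ⁅x, d⁆ ∈ Z) → x ∈ centD ρ D := by
        intro x hx h1 h2
        have h1' : ρ x * ρ f⁻¹ = ρ f⁻¹ * ρ x := by
          calc ρ x * ρ f⁻¹ = ρ f⁻¹ * (ρ f * ρ x) * ρ f⁻¹ := by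
                rw [← mul_assoc, rho_inv_mul, one_mul]
            _ = ρ f⁻¹ * ρ x := by rw [← h1, mul_assoc, mul_assoc, rho_mul_inv, mul_one]
        have hxd : ∀ d ∈ D, ρ x * ρ d = ρ ⁅x, d⁆ * (ρ d * ρ x) := by
          intro d hd
          rw [← map_mul, ← map_mul, ← map_mul]
          congr 1
          rw [commutatorElement_def]
          group
        have hcent : cent1 ρ D (ρ x) = D := by
          apply r2 _ (fun d (hd : d ∈ cent1 ρ D (ρ x)) => hd.1)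
          · rintro d ⟨hd, hd'⟩
            refine ⟨hDf d hd, ?_⟩
            rw [map_mul, map_mul]
            calc ρ x * (ρ f * ρ d * ρ f⁻¹) = (ρ x * ρ f) * ρ d * ρ f⁻¹ := by
                  simp only [mul_assoc]
              _ = ρ f * (ρ x * ρ d) * ρ f⁻¹ := by rw [h1]; simp only [mul_assoc]
              _ = ρ f * ρ d * (ρ x * ρ f⁻¹) := by rw [hd']; simp only [mul_assoc]
              _ = ρ f * ρ d * ρ f⁻¹ * ρ x := by rw [h1']; simp only [mul_assoc]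
          · intro d hd
            refine ⟨hcommD d hd, ?_⟩
            have e1 := hxd d hd
            have e2 := hxd d⁻¹ (D.inv_mem hd)
            have hz1 := hZcent _ (h2 d hd)
            have hz2 := hZcent _ (h2 d⁻¹ (D.inv_mem hd))
            -- `⁅x,d⁻¹⁆` acts as the inverse scalar
            have e3 : ρ ⁅x, d⁆ * ρ ⁅x, d⁻¹⁆ = 1 := by
              have h5 : ρ x = ρ ⁅x, d⁆ * ρ ⁅x, d⁻¹⁆ * ρ x := by
                calc ρ x = ρ x * ρ d * ρ d⁻¹ := by rw [mul_assoc, rho_mul_inv, mul_one]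
                  _ = ρ ⁅x, d⁆ * (ρ d * ρ x) * ρ d⁻¹ := by rw [e1]
                  _ = ρ ⁅x, d⁆ * ρ d * (ρ x * ρ d⁻¹) := by simp only [mul_assoc]
                  _ = ρ ⁅x, d⁆ * ρ d * (ρ ⁅x, d⁻¹⁆ * (ρ d⁻¹ * ρ x)) := by rw [e2]
                  _ = ρ ⁅x, d⁆ * (ρ d * ρ ⁅x, d⁻¹⁆) * (ρ d⁻¹ * ρ x) := by simp only [mul_assoc]
                  _ = ρ ⁅x, d⁆ * (ρ ⁅x, d⁻¹⁆ * ρ d) * (ρ d⁻¹ * ρ x) := by rw [hz2 d]
                  _ = ρ ⁅x, d⁆ * ρ ⁅x, d⁻¹⁆ * (ρ d * ρ d⁻¹) * ρ x := by simp only [mul_assoc]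
                  _ = ρ ⁅x, d⁆ * ρ ⁅x, d⁻¹⁆ * ρ x := by rw [rho_mul_inv, mul_one]
              calc ρ ⁅x, d⁆ * ρ ⁅x, d⁻¹⁆ = ρ ⁅x, d⁆ * ρ ⁅x, d⁻¹⁆ * ρ x * ρ x⁻¹ := by
                    rw [mul_assoc _ (ρ x), rho_mul_inv, mul_one]
                _ = 1 := by rw [← h5, rho_mul_inv]
            rw [commutatorElement_def d f, map_mul, map_mul, map_mul]
            calc ρ x * (ρ d * ρ f * ρ d⁻¹ * ρ f⁻¹)
                = (ρ x * ρ d) * ρ f * ρ d⁻¹ * ρ f⁻¹ := by simp only [mul_assoc]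
              _ = ρ ⁅x, d⁆ * ρ d * (ρ x * ρ f) * ρ d⁻¹ * ρ f⁻¹ := by
                  rw [e1]; simp only [mul_assoc]
              _ = ρ ⁅x, d⁆ * ρ d * ρ f * (ρ x * ρ d⁻¹) * ρ f⁻¹ := by
                  rw [h1]; simp only [mul_assoc]
              _ = ρ ⁅x, d⁆ * ρ d * ρ f * (ρ ⁅x, d⁻¹⁆ * (ρ d⁻¹ * ρ x)) * ρ f⁻¹ := by rw [e2]
              _ = ρ ⁅x, d⁆ * (ρ d * ρ f * ρ ⁅x, d⁻¹⁆) * ρ d⁻¹ * (ρ x * ρ f⁻¹) := by
                  simp only [mul_assoc]
              _ = ρ ⁅x, d⁆ * (ρ ⁅x, d⁻¹⁆ * (ρ d * ρ f)) * ρ d⁻¹ * (ρ f⁻¹ * ρ x) := by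
                  have hz3 : ρ d * ρ f * ρ ⁅x, d⁻¹⁆ = ρ ⁅x, d⁻¹⁆ * (ρ d * ρ f) := by
                    rw [← map_mul]; exact (hz2 (d * f)).symm
                  rw [h1', hz3]
              _ = (ρ ⁅x, d⁆ * ρ ⁅x, d⁻¹⁆) * (ρ d * ρ f * ρ d⁻¹ * ρ f⁻¹) * ρ x := by
                  simp only [mul_assoc]
              _ = ρ d * ρ f * ρ d⁻¹ * ρ f⁻¹ * ρ x := by rw [e3, one_mul]
        refine ⟨hx, fun d hd => ?_⟩
        have : d ∈ cent1 ρ D (ρ x) := by rw [hcent]; exact hd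
        exact this.2
      have hZN : ∀ x ∈ D, ∀ n ∈ Z, x * n * x⁻¹ ∈ Z := fun x _ n hn => hZn.conj_mem n hn x
      have hZ₁ : upperZ D Z hZN = D := by
        by_contra hne
        have hlt : upperZ D Z hZN < D := lt_of_le_of_ne (upperZ_le hZN) hne
        have hfD : f ∈ normalizer (D : Set G) := by
          rw [Subgroup.normalizer_eq_top]; exact mem_top f
        have hfZ : f ∈ normalizer (Z : Set G) := by
          rw [Subgroup.normalizer_eq_top]; exact mem_top f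
        have hinv : ∀ d ∈ upperZ D Z hZN, f * d * f⁻¹ ∈ upperZ D Z hZN :=
          fun d hd => conj_mem_upperZ hZN hfD hfZ hd
        have h4 : upperZ D Z hZN ≤ Z := by
          intro x hx
          have := hmin _ hlt hinv x hx
          exact h3 (hc1 x hx.1 ((rho_comm_eq_one_iff ρ x f).mp this) hx.2)
        have hZD : Z ≠ D := by
          intro e
          apply hZ₀
          apply le_antisymm (centD_le _ _)
          intro x hx
          refine ⟨hx, fun d _ => hZcent x (by rw [e]; exact hx) d⟩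
        obtain ⟨x, hx, hxZ⟩ := exists_mem_upperZ_not_mem ht hD hZN inf_le_left hZD
        exact hxZ (h4 hx)
      intro x hx h1
      apply h3
      apply hc1 x hx h1
      intro d hd
      have : x ∈ upperZ D Z hZN := by rw [hZ₁]; exact hx
      exact this.2 d hd
  -- `f ≠ 1` and has order `q`
  have hf1 : f ≠ 1 := by
    intro e
    obtain ⟨w, hw⟩ := exists_ne (0 : W)
    apply hw
    apply hfix
    rw [e, map_one]
    rfl
  have hord : orderOf f = q := orderOf_eq_prime hf hf1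
  have hcardf : Nat.card (zpowers f) = q := by rw [Nat.card_zpowers, hord]
  -- a nontrivial power of `f` has `f` as a power
  have hgenf : ∀ h ∈ zpowers f, h ≠ 1 → f ∈ zpowers h := by
    intro h hh h1
    have h2 : (⟨h, hh⟩ : ↥(zpowers f)) ≠ 1 := fun e => h1 (congrArg Subtype.val e)
    have h3 := mem_zpowers_of_prime_card hcardf h2 (g' := ⟨f, mem_zpowers f⟩)
    obtain ⟨i, hi⟩ := mem_zpowers_iff.mp h3
    refine mem_zpowers_iff.mpr ⟨i, ?_⟩
    have := congrArg Subtype.val hi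
    simpa using this
  have hfD : f ∉ D := by
    intro hfD
    exact hf1 (eq_one_of_pow_coprime f hcop hf (hpowD f hfD))
  have hxZ : ∀ h ∈ zpowers f, h ∈ Z → h = 1 := by
    intro h hh hz
    by_contra h1
    have h2 := hgenf h hh h1
    apply hfD
    have h3 : zpowers h ≤ D := by
      rw [zpowers_le]
      exact hz.1
    exact h3 h2
  have hZs : ∀ z ∈ Z, ∃ μ : K, ρ z = μ • (1 : Module.End K W) := fun z hz => hz.2
  have hchar : (Nat.card ↥D : K) ≠ 0 := by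
    rw [ha, Nat.cast_pow]
    exact pow_ne_zero _ htK
  have hfpf : ∀ h ∈ zpowers f, h ∉ Z → ∀ x ∈ D, x⁻¹ * (h * x * h⁻¹) ∈ Z → x ∈ Z := by
    intro h hh hhZ x hx hxh
    have hh1 : h ≠ 1 := fun e => hhZ (e ▸ Z.one_mem)
    have hhq : h ^ q = 1 := by
      obtain ⟨i, rfl⟩ := mem_zpowers_iff.mp hh
      rw [← zpow_natCast, ← zpow_mul, mul_comm, zpow_mul, zpow_natCast, hf, one_zpow]
    obtain ⟨c, hc⟩ := hxh.2
    have hc' : ρ (h * x * h⁻¹) = c • ρ x := by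
      calc ρ (h * x * h⁻¹) = ρ x * ρ (x⁻¹ * (h * x * h⁻¹)) := by
            rw [← map_mul]; congr 1; group
        _ = c • ρ x := by rw [hc, mul_smul_comm, mul_one]
    have hc1 := scalar_twist_eq_one ρ hcop x h hhq (hpowD x hx) c hc'
    rw [hc1, one_smul, map_mul, map_mul] at hc'
    have hcomm : ρ x * ρ h = ρ h * ρ x := by
      calc ρ x * ρ h = ρ h * ρ x * ρ h⁻¹ * ρ h := by rw [hc']
        _ = ρ h * ρ x := by rw [mul_assoc, rho_inv_mul, mul_one]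
    have hle : zpowers h ≤ cent1 ρ ⊤ (ρ x) := by
      rw [zpowers_le]
      exact ⟨mem_top h, hcomm⟩
    exact hkey x hx (hle (hgenf h hh hh1)).2
  have hform := conj_dim_formula ρ Z D (zpowers f) hZs hD.isNilpotent hchar hfpf
  have hc2 : finrank K (commutant ρ ((D ⊔ zpowers f : Subgroup G) : Set G)) = 1 := by
    rw [hgen, Subgroup.coe_top]
    exact finrank_commutant_eq_one ρ _ hirr
  have hc3 : commutant ρ ((zpowers f : Subgroup G) : Set G) = comm (ρ f) := by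
    rw [commutant_zpowers, comm_eq_comm_sub_one]
  have hcard : Nat.card ↥((zpowers f).map (QuotientGroup.mk' Z)) = q := by
    rw [← hcardf]
    symm
    apply Nat.card_eq_of_bijective ((QuotientGroup.mk' Z).subgroupMap (zpowers f))
    refine ⟨?_, MonoidHom.subgroupMap_surjective _ _⟩
    rw [injective_iff_map_eq_one]
    rintro ⟨b, hb⟩ h1
    have h2 := congrArg Subtype.val h1
    have h3 : (QuotientGroup.mk' Z) b = 1 := h2
    rw [QuotientGroup.mk'_apply, QuotientGroup.eq_one_iff] at h3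
    exact Subtype.ext (hxZ b hb h3)
  rw [hc2, hc3, hcard, mul_one] at hform
  have hE1 : 1 ≤ finrank K (commutant ρ (D : Set G)) := by
    rw [Nat.succ_le_iff, Module.finrank_pos_iff_exists_ne_zero]
    refine ⟨⟨1, one_mem_commutant ρ _⟩, ?_⟩
    intro h0
    have := congrArg Subtype.val h0
    exact one_ne_zero this
  have hTq : (ρ f) ^ q = 1 := by rw [← map_pow, hf, map_one]
  obtain ⟨hb1, hb2⟩ := finrank_comm_bounds (ρ f) q hq.pos hqK hTq hfix
  have hn1 : 1 ≤ finrank K W := Module.finrank_pos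
  have hall : finrank K W = 1 → False := by
    intro h1
    apply hx₀1
    rw [rho_comm_eq_one_iff]
    exact end_comm_of_finrank_eq_one h1 _ _
  rcases hhq_arith q (finrank K W) (finrank K (comm (ρ f))) (finrank K (commutant ρ (D : Set G)))
    hq.one_lt.le hn1 hE1 hb1 hb2 hform with h1 | ⟨h1, hE⟩
  · exact hall h1
  · have hirrD : IrrOn ρ (D : Set G) := irrOn_of_finrank_commutant_eq_one ρ D hchar hE
    set ρD : Representation K ↥D W := ρ.comp D.subtype with hρD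
    have hirrD' : IrrOn ρD Set.univ := by
      intro U hU
      exact hirrD U (fun g hg => hU ⟨g, hg⟩ (Set.mem_univ _))
    obtain ⟨b, hb⟩ := finrank_eq_prime_pow (k := K) t (Nat.card ↥D) ↥D hD rfl W ρD hirrD'
    rcases Nat.eq_zero_or_pos b with hb0 | hb0
    · rw [hb0, pow_zero] at hb
      exact hall hb
    · exact hexc b hb0 (by rw [← hb, h1])


/-- **Hall--Higman in coprime characteristic, prime order, minimal case** (no irreducibility) -/
theorem hh1_top {K : Type*} [Field K] [IsAlgClosed K] {G : Type*} [Group G] [Finite G]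
    {t q : ℕ} (ht : t.Prime) (hq : q.Prime) (htq : t ≠ q) (htK : (t : K) ≠ 0) (hqK : (q : K) ≠ 0)
    (D : Subgroup G) [hDn : D.Normal] (hD : IsPGroup t D) (f : G) (hf : f ^ q = 1)
    (hgen : D ⊔ zpowers f = ⊤) (hexc : ∀ b : ℕ, 0 < b → t ^ b ≠ q - 1) :
    ∀ (n : ℕ) (W : Type u) [AddCommGroup W] [Module K W] [FiniteDimensional K W]
      (ρ : Representation K G W), finrank K W = n →
      (∀ w, ρ f w = w → w = 0) →
      (∀ D₁ : Subgroup G, D₁ < D → (∀ d ∈ D₁, f * d * f⁻¹ ∈ D₁) → ∀ x ∈ D₁, ρ ⁅x, f⁆ = 1) →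
      ∀ x ∈ D, ρ ⁅x, f⁆ = 1 := by
  intro n
  induction n using Nat.strong_induction_on with
  | _ n ih =>
  intro W _ _ _ ρ hn hfix hmin
  by_contra hcon
  push Not at hcon
  obtain ⟨x₀, hx₀, hx₀1⟩ := hcon
  have : Fact t.Prime := ⟨ht⟩
  have hDf : ∀ d ∈ D, f * d * f⁻¹ ∈ D := fun d hd => hDn.conj_mem d hd f
  have hcommD : ∀ d ∈ D, ⁅d, f⁆ ∈ D := by
    intro d hd
    have e : ⁅d, f⁆ = d * (f * d⁻¹ * f⁻¹) := by rw [commutatorElement_def]; group
    rw [e]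
    exact D.mul_mem hd (hDf _ (D.inv_mem hd))
  have hcharR : ∀ R : Subgroup G, R ≤ D → (Nat.card R : K) ≠ 0 := by
    intro R hR
    have hRt : IsPGroup t R := hD.to_le hR
    obtain ⟨b, hb⟩ := IsPGroup.iff_card.mp hRt
    rw [hb, Nat.cast_pow]
    exact pow_ne_zero _ htK
  have hirr : IrrOn ρ Set.univ := by
    apply irr_of_fixed ρ D hcharR {c | ∃ x ∈ D, c = ⁅x, f⁆}
    · rintro c ⟨x, hx, rfl⟩
      exact hcommD x hx
    · rintro U' hU' hU'top c ⟨x, hx, rfl⟩ u hu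
      have hlt : finrank K U' < n := by
        rw [← hn]
        exact Submodule.finrank_lt hU'top
      have hInv : Inv ρ U' := hU'
      have h1 := ih _ hlt ↥U' (resRep ρ U' hInv) rfl
        (by
          intro w hw
          have h2 := congrArg Subtype.val hw
          rw [resRep_apply] at h2
          exact Subtype.ext (hfix _ h2))
        (by
          intro D₁ hlt' hinv y hy
          apply LinearMap.ext
          intro w
          apply Subtype.ext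
          rw [resRep_apply, hmin D₁ hlt' hinv y hy]
          rfl)
        x hx
      have h2 := LinearMap.congr_fun h1 ⟨u, hu⟩
      have h3 := congrArg Subtype.val h2
      rw [resRep_apply] at h3
      exact h3
    · exact ⟨⁅x₀, f⁆, ⟨x₀, hx₀, rfl⟩, hx₀1⟩
  have hnt : Nontrivial W := by
    by_contra hcon
    rw [not_nontrivial_iff_subsingleton] at hcon
    apply hx₀1
    apply LinearMap.ext
    intro w
    exact Subsingleton.elim _ _
  exact hx₀1 (hh1_irr ρ hirr ht hq htq htK hqK D hD f hf hgen hfix hmin hexc x₀ hx₀)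


theorem inv_conj_mem_of_pow {Γ : Type*} [Group Γ] {D : Subgroup Γ} {f : Γ} {q : ℕ} (hq : 0 < q)
    (hf : f ^ q = 1) (hDf : ∀ d ∈ D, f * d * f⁻¹ ∈ D) : ∀ d ∈ D, f⁻¹ * d * f ∈ D := by
  have h1 : ∀ k : ℕ, ∀ d ∈ D, f ^ k * d * (f ^ k)⁻¹ ∈ D := by
    intro k
    induction k with
    | zero => intro d hd; simpa using hd
    | succ k ih =>
      intro d hd
      have e1 : f ^ (k + 1) * d * (f ^ (k + 1))⁻¹ = f * (f ^ k * d * (f ^ k)⁻¹) * f⁻¹ := by
        rw [pow_succ']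
        group
      rw [e1]
      exact hDf _ (ih d hd)
  have h2 : f ^ (q - 1) = f⁻¹ := by
    apply eq_inv_of_mul_eq_one_left
    rw [← pow_succ, Nat.sub_add_cancel hq, hf]
  intro d hd
  have := h1 (q - 1) d hd
  rwa [h2, inv_inv] at this

/-- **Hall--Higman in coprime characteristic for an element of prime order without fixed vectors**,
internal form -/
theorem hh1 {K : Type*} [Field K] [IsAlgClosed K] {Γ : Type*} [Group Γ] [Finite Γ]
    {V : Type u} [AddCommGroup V] [Module K V] [FiniteDimensional K V]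
    (ρ : Representation K Γ V) {t q : ℕ} (ht : t.Prime) (hq : q.Prime) (htq : t ≠ q)
    (htK : (t : K) ≠ 0) (hqK : (q : K) ≠ 0)
    (Q : Subgroup Γ) (hQ : IsPGroup t Q) (f : Γ) (hf : f ^ q = 1)
    (hfQ : ∀ x ∈ Q, f * x * f⁻¹ ∈ Q)
    (U : Submodule K V) (hUQ : ∀ x ∈ Q, ∀ u ∈ U, ρ x u ∈ U) (hUf : ∀ u ∈ U, ρ f u ∈ U)
    (hfix : ∀ u ∈ U, ρ f u = u → u = 0) (hexc : ∀ b : ℕ, 0 < b → t ^ b ≠ q - 1) :
    ∀ x ∈ Q, ∀ u ∈ U, ρ ⁅x, f⁆ u = u := by
  classical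
  by_contra hcon
  push Not at hcon
  let 𝓢 : Set (Subgroup Γ) :=
    {D | D ≤ Q ∧ (∀ d ∈ D, f * d * f⁻¹ ∈ D) ∧ ∃ x ∈ D, ∃ u ∈ U, ρ ⁅x, f⁆ u ≠ u}
  have hne : 𝓢.Nonempty := ⟨Q, le_rfl, hfQ, hcon⟩
  obtain ⟨D, ⟨hDQ, hDf, x₀, hx₀, u₀, hu₀, hxu⟩, hDmin⟩ :=
    (wellFounded_lt (α := Subgroup Γ)).has_min 𝓢 hne
  have hDf' := inv_conj_mem_of_pow hq.pos hf hDf
  set G₀ : Subgroup Γ := D ⊔ zpowers f with hG₀
  have hDG : D ≤ G₀ := le_sup_left
  have hzG : zpowers f ≤ G₀ := le_sup_right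
  have hfG : f ∈ G₀ := hzG (mem_zpowers f)
  have hInvG : ∀ g ∈ G₀, ∀ u ∈ U, ρ g u ∈ U := by
    have h1 : G₀ ≤ stabSub ρ U :=
      sup_le (fun d hd => hUQ d (hDQ hd)) (by rw [zpowers_le]; exact hUf)
    exact fun g hg => h1 hg
  have hfN : f ∈ normalizer (D : Set Γ) := by
    rw [mem_normalizer_iff]
    intro d
    constructor
    · exact hDf d
    · intro hd
      have := hDf' _ hd
      have e : f⁻¹ * (f * d * f⁻¹) * f = d := by group
      rwa [e] at this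
  have hDn : (D.subgroupOf G₀).Normal := by
    rw [normal_subgroupOf_iff_le_normalizer hDG]
    exact sup_le le_normalizer (by rw [zpowers_le]; exact hfN)
  have hD' : IsPGroup t ↥(D.subgroupOf G₀) := (hQ.to_le hDQ).comap_subtype
  set f' : ↥G₀ := ⟨f, hfG⟩ with hf'
  have hf'q : f' ^ q = 1 := Subtype.ext (by simpa using hf)
  have hgen' : D.subgroupOf G₀ ⊔ zpowers f' = ⊤ := by
    rw [eq_top_iff]
    have h1 : (D ⊔ zpowers f).subgroupOf G₀ = ⊤ := subgroupOf_self G₀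
    rw [← h1, subgroupOf_sup hDG hzG]
    apply sup_le_sup_left
    intro g hg
    rw [mem_subgroupOf, mem_zpowers_iff] at hg
    obtain ⟨k, hk⟩ := hg
    rw [mem_zpowers_iff]
    exact ⟨k, Subtype.ext (by simpa using hk)⟩
  have hInv : Inv (subRep ρ G₀) U := fun g u hu => hInvG g.1 g.2 u hu
  have hcoe : ∀ (g : ↥G₀) (w : ↥U), ((resRep (subRep ρ G₀) U hInv g) w : V) = ρ (g : Γ) w :=
    fun g w => rfl
  have hfix' : ∀ w : ↥U, (resRep (subRep ρ G₀) U hInv) f' w = w → w = 0 := by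
    intro w hw
    have h2 := congrArg Subtype.val hw
    rw [hcoe] at h2
    exact Subtype.ext (hfix _ w.2 h2)
  have hmin' : ∀ D₁ : Subgroup ↥G₀, D₁ < D.subgroupOf G₀ → (∀ d ∈ D₁, f' * d * f'⁻¹ ∈ D₁) →
      ∀ x ∈ D₁, (resRep (subRep ρ G₀) U hInv) ⁅x, f'⁆ = 1 := by
    intro D₁ hlt hinv x hx
    have hED : D₁.map G₀.subtype ≤ D := by
      rintro _ ⟨g, hg, rfl⟩
      exact mem_subgroupOf.mp (hlt.le hg)
    have hEne : D₁.map G₀.subtype ≠ D := by
      intro e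
      apply hlt.not_ge
      intro g hg
      rw [mem_subgroupOf, ← e] at hg
      obtain ⟨g', hg', hgg⟩ := hg
      have : g' = g := Subtype.ext hgg
      rw [← this]
      exact hg'
    have hEf : ∀ d ∈ D₁.map G₀.subtype, f * d * f⁻¹ ∈ D₁.map G₀.subtype := by
      rintro _ ⟨g, hg, rfl⟩
      exact ⟨f' * g * f'⁻¹, hinv g hg, rfl⟩
    have hnot : D₁.map G₀.subtype ∉ 𝓢 := fun hmem => hDmin _ hmem (lt_of_le_of_ne hED hEne)
    have hall : ∀ y ∈ D₁.map G₀.subtype, ∀ u ∈ U, ρ ⁅y, f⁆ u = u := by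
      intro y hy u hu
      by_contra hne'
      exact hnot ⟨hED.trans hDQ, hEf, y, hy, u, hu, hne'⟩
    apply LinearMap.ext
    intro w
    apply Subtype.ext
    rw [hcoe]
    exact hall _ ⟨x, hx, rfl⟩ w w.2
  have hmain := hh1_top ht hq htq htK hqK (D.subgroupOf G₀) hD' f' hf'q hgen' hexc
    (finrank K U) ↥U (resRep (subRep ρ G₀) U hInv) rfl hfix' hmin' ⟨x₀, hDG hx₀⟩
    (mem_subgroupOf.mpr hx₀)
  apply hxu
  have h2 := LinearMap.congr_fun hmain ⟨u₀, hu₀⟩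
  have h3 := congrArg Subtype.val h2
  rw [hcoe] at h3
  exact h3

end Cfsg.Agent.Lib.Helper23.S3
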