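import Mathlib
import Cfsg.Agent.Lib.Helper1.Coprime

set_option autoImplicit false
set_option linter.unusedSectionVars false

namespace Cfsg.Agent.Lib.Helper23.S3

open Subgroup
open scoped commutatorElement

/-- a subgroup `X` of `Γ` normalised by elements `f`, `h` generating a quotient of `S₃`, which act
fixed-point-freely, the order of `X` being prime to `6` -/
structure Act {Γ : Type*} [Group Γ] (X : Subgroup Γ) (f h : Γ) : Prop where
  hf3 : f ^ 3 = 1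
  hh2 : h ^ 2 = 1
  hrel : h * f * h⁻¹ = f⁻¹
  hfX : ∀ x ∈ X, f * x * f⁻¹ ∈ X
  hhX : ∀ x ∈ X, h * x * h⁻¹ ∈ X
  hcop : (Nat.card X).Coprime 6
  hfpf : ∀ x ∈ X, f * x = x * f → h * x = x * h → x = 1

variable {Γ : Type*} [Group Γ] {X : Subgroup Γ} {f h : Γ}

namespace Act

theorem h_inv (s : Act X f h) : h⁻¹ = h := by
  have := s.hh2
  rw [pow_two] at this
  exact inv_eq_of_mul_eq_one_left this

theorem f_inv (s : Act X f h) : f⁻¹ = f ^ 2 := by
  have := s.hf3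
  apply inv_eq_of_mul_eq_one_left
  rw [← pow_succ]
  exact this

theorem hf_eq (s : Act X f h) : h * f = f⁻¹ * h := by
  have := s.hrel
  calc h * f = (h * f * h⁻¹) * h := by group
    _ = f⁻¹ * h := by rw [this]

theorem hfinv_eq (s : Act X f h) : h * f⁻¹ = f * h := by
  have h1 := s.hf_eq
  calc h * f⁻¹ = f * (f⁻¹ * h) * f⁻¹ := by group
    _ = f * (h * f) * f⁻¹ := by rw [h1]
    _ = f * h := by group

theorem hfX' (s : Act X f h) : ∀ x ∈ X, f⁻¹ * x * f ∈ X := by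
  intro x hx
  have h1 := s.hfX _ (s.hfX x hx)
  have e : f * (f * x * f⁻¹) * f⁻¹ = f⁻¹ * x * f := by
    have := s.f_inv
    calc f * (f * x * f⁻¹) * f⁻¹ = f ^ 2 * x * (f ^ 2)⁻¹ := by rw [pow_two]; group
      _ = f⁻¹ * x * f := by rw [← this, inv_inv]
  rwa [e] at h1

theorem hhX' (s : Act X f h) : ∀ x ∈ X, h⁻¹ * x * h ∈ X := by
  intro x hx
  have := s.hhX x hx
  rw [s.h_inv]
  rwa [s.h_inv] at this

/-- restriction to an invariant subgroup -/
theorem sub (s : Act X f h) {Y : Subgroup Γ} [Finite X] (hYX : Y ≤ X)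
    (hfY : ∀ x ∈ Y, f * x * f⁻¹ ∈ Y) (hhY : ∀ x ∈ Y, h * x * h⁻¹ ∈ Y) : Act Y f h where
  hf3 := s.hf3
  hh2 := s.hh2
  hrel := s.hrel
  hfX := hfY
  hhX := hhY
  hcop := Nat.Coprime.coprime_dvd_left (Subgroup.card_dvd_of_le hYX) s.hcop
  hfpf := fun x hx => s.hfpf x (hYX hx)

/-- the same with the involution `f h f⁻¹` -/
theorem conj (s : Act X f h) : Act X f (f * h * f⁻¹) where
  hf3 := s.hf3
  hh2 := by
    rw [pow_two]
    have := s.hh2
    rw [pow_two] at this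
    calc f * h * f⁻¹ * (f * h * f⁻¹) = f * (h * h) * f⁻¹ := by group
      _ = 1 := by rw [this]; group
  hrel := by
    have := s.hrel
    calc f * h * f⁻¹ * f * (f * h * f⁻¹)⁻¹ = f * (h * f * h⁻¹) * f⁻¹ := by group
      _ = f⁻¹ := by rw [this]; group
  hfX := s.hfX
  hhX := by
    intro x hx
    have h1 := s.hfX _ (s.hhX _ (s.hfX' x hx))
    have e : f * (h * (f⁻¹ * x * f) * h⁻¹) * f⁻¹ = f * h * f⁻¹ * x * (f * h * f⁻¹)⁻¹ := by group
    rwa [e] at h1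
  hcop := s.hcop
  hfpf := by
    intro x hx h1 h2
    apply s.hfpf x hx h1
    have c1 : Commute x f := h1.symm
    have c2 : Commute x (f * h * f⁻¹) := h2.symm
    have c3 : Commute x (f⁻¹ * (f * h * f⁻¹) * f) := (c1.inv_right.mul_right c2).mul_right c1
    have e : f⁻¹ * (f * h * f⁻¹) * f = h := by group
    rw [e] at c3
    exact c3.symm

/-- elements of `X` have odd order -/
theorem eq_one_of_sq (s : Act X f h) [Finite X] {x : Γ} (hx : x ∈ X) (h2 : x ^ 2 = 1) : x = 1 := by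
  have h1 : (⟨x, hx⟩ : ↥X) ^ Nat.card X = 1 := pow_card_eq_one'
  have h3 : x ^ Nat.card X = 1 := congrArg Subtype.val h1
  have hc : (Nat.card X).Coprime 2 := Nat.Coprime.coprime_dvd_right (by norm_num) s.hcop
  have h4 := orderOf_dvd_of_pow_eq_one h3
  have h5 := orderOf_dvd_of_pow_eq_one h2
  have h6 : orderOf x = 1 := Nat.eq_one_of_dvd_coprimes hc h4 h5
  exact orderOf_eq_one_iff.mp h6

theorem eq_of_sq_eq (s : Act X f h) [Finite X] {x y : Γ} (hx : x ∈ X) (hy : y ∈ X)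
    (hxy : x * y = y * x) (h2 : x ^ 2 = y ^ 2) : x = y := by
  have h3 : (x * y⁻¹) ^ 2 = 1 := by
    have hc : Commute x y⁻¹ := (show Commute x y from hxy).inv_right
    rw [hc.mul_pow, inv_pow, h2, mul_inv_cancel]
  have := s.eq_one_of_sq (X.mul_mem hx (X.inv_mem hy)) h3
  exact mul_inv_eq_one.mp this

/-- membership of `x` from membership of `x²` -/
theorem mem_of_sq_mem (s : Act X f h) [Finite X] {L : Subgroup Γ} {x : Γ} (hx : x ∈ X)
    (h2 : x ^ 2 ∈ L) : x ∈ L := by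
  have h1 : (⟨x, hx⟩ : ↥X) ^ Nat.card X = 1 := pow_card_eq_one'
  have h3 : x ^ Nat.card X = 1 := congrArg Subtype.val h1
  have hc : (Nat.card X).Coprime 2 := Nat.Coprime.coprime_dvd_right (by norm_num) s.hcop
  have hodd : Nat.card X % 2 = 1 := by
    rcases Nat.even_or_odd (Nat.card X) with he | ho
    · exfalso
      have : 2 ∣ Nat.gcd (Nat.card X) 2 := Nat.dvd_gcd he.two_dvd (dvd_refl 2)
      rw [hc] at this
      omega
    · exact Nat.odd_iff.mp ho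
  obtain ⟨m, hm⟩ : ∃ m, Nat.card X + 1 = 2 * m := ⟨(Nat.card X + 1) / 2, by omega⟩
  have h4 : x = (x ^ 2) ^ m := by
    rw [← pow_mul, ← hm, pow_succ, h3, one_mul]
  rw [h4]
  exact L.pow_mem h2 m


theorem hinv_f_h (s : Act X f h) : h⁻¹ * f * h = f⁻¹ := by
  rw [s.h_inv]
  have := s.hrel
  rw [s.h_inv] at this
  exact this

/-- `h` normalises the centraliser of `f` -/
theorem conj_h_comm (s : Act X f h) {x : Γ} (hx : f * x = x * f) :
    f * (h * x * h⁻¹) = (h * x * h⁻¹) * f := by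
  have h1 : f⁻¹ * x = x * f⁻¹ := by
    calc f⁻¹ * x = f⁻¹ * (x * f) * f⁻¹ := by group
      _ = f⁻¹ * (f * x) * f⁻¹ := by rw [hx]
      _ = x * f⁻¹ := by group
  calc f * (h * x * h⁻¹) = h * ((h⁻¹ * f * h) * x) * h⁻¹ := by group
    _ = h * (f⁻¹ * x) * h⁻¹ := by rw [s.hinv_f_h]
    _ = h * (x * f⁻¹) * h⁻¹ := by rw [h1]
    _ = h * x * h⁻¹ * (h * f * h⁻¹)⁻¹ := by group
    _ = (h * x * h⁻¹) * f := by rw [s.hrel, inv_inv]

/-- **the involution inverts the centraliser of the element of order three** -/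
theorem inv (s : Act X f h) [Finite X] {x : Γ} (hx : x ∈ X) (hxf : f * x = x * f) :
    h * x * h⁻¹ = x⁻¹ := by
  classical
  set C : Subgroup Γ := X ⊓ centralizer {f} with hC
  have hmemC : ∀ c, c ∈ C ↔ c ∈ X ∧ f * c = c * f := by
    intro c
    rw [hC, Subgroup.mem_inf, mem_centralizer_singleton_iff]
    constructor
    · rintro ⟨h1, h2⟩
      exact ⟨h1, h2.symm⟩
    · rintro ⟨h1, h2⟩
      exact ⟨h1, h2.symm⟩
  have hCfin : Finite ↥C := Finite.of_injective (fun c : ↥C => (⟨c.1, c.2.1⟩ : ↥X))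
    (fun a b hab => Subtype.ext (congrArg (fun z : ↥X => (z : Γ)) hab))
  have hhC : ∀ c ∈ C, h * c * h⁻¹ ∈ C := by
    intro c hc
    rw [hmemC] at hc ⊢
    exact ⟨s.hhX c hc.1, s.conj_h_comm hc.2⟩
  let θ : ↥C → ↥C := fun c => ⟨c.1⁻¹ * (h * c.1 * h⁻¹), C.mul_mem (C.inv_mem c.2) (hhC c.1 c.2)⟩
  have hinj : Function.Injective θ := by
    intro a b hab
    have h1 : a.1⁻¹ * (h * a.1 * h⁻¹) = b.1⁻¹ * (h * b.1 * h⁻¹) := congrArg Subtype.val hab
    have h2 : b.1 * a.1⁻¹ ∈ C := C.mul_mem b.2 (C.inv_mem a.2)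
    have h3 : h * (b.1 * a.1⁻¹) = (b.1 * a.1⁻¹) * h := by
      calc h * (b.1 * a.1⁻¹) = b.1 * (b.1⁻¹ * (h * b.1 * h⁻¹)) * (h * a.1⁻¹) := by group
        _ = b.1 * (a.1⁻¹ * (h * a.1 * h⁻¹)) * (h * a.1⁻¹) := by rw [h1]
        _ = (b.1 * a.1⁻¹) * h := by group
    have h4 := s.hfpf _ ((hmemC _).mp h2).1 ((hmemC _).mp h2).2 h3
    apply Subtype.ext
    exact (mul_inv_eq_one.mp h4).symm
  have hsurj : Function.Surjective θ := Finite.injective_iff_surjective.mp hinj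
  obtain ⟨c, hc⟩ := hsurj ⟨x, (hmemC x).mpr ⟨hx, hxf⟩⟩
  have h1 : c.1⁻¹ * (h * c.1 * h⁻¹) = x := congrArg Subtype.val hc
  have hh : h * h = 1 := by rw [← pow_two]; exact s.hh2
  rw [← h1]
  calc h * (c.1⁻¹ * (h * c.1 * h⁻¹)) * h⁻¹ = h * c.1⁻¹ * (h * c.1 * h⁻¹) * h⁻¹ := by group
    _ = h * c.1⁻¹ * h⁻¹ * (h * h) * c.1 * (h * h)⁻¹ := by group
    _ = (c.1⁻¹ * (h * c.1 * h⁻¹))⁻¹ := by rw [hh]; group


end Act

section Lift

variable [Finite Γ]

theorem conj_inv_mem_of_finite {L : Subgroup Γ} {a : Γ} (hL : ∀ l ∈ L, a * l * a⁻¹ ∈ L) :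
    ∀ l ∈ L, a⁻¹ * l * a ∈ L := by
  have h1 : ∀ k : ℕ, ∀ d ∈ L, a ^ k * d * (a ^ k)⁻¹ ∈ L := by
    intro k
    induction k with
    | zero => intro d hd; simpa using hd
    | succ k ih =>
      intro d hd
      have e1 : a ^ (k + 1) * d * (a ^ (k + 1))⁻¹ = a * (a ^ k * d * (a ^ k)⁻¹) * a⁻¹ := by
        rw [pow_succ']
        group
      rw [e1]
      exact hL _ (ih d hd)
  have hpos : 0 < orderOf a := orderOf_pos a
  have h2 : a ^ (orderOf a - 1) = a⁻¹ := by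
    apply eq_inv_of_mul_eq_one_left
    rw [← pow_succ, Nat.sub_add_cancel hpos, pow_orderOf_eq_one]
  intro d hd
  have := h1 (orderOf a - 1) d hd
  rwa [h2, inv_inv] at this

theorem mem_normalizer_of_conj_mem {L : Subgroup Γ} {a : Γ} (hL : ∀ l ∈ L, a * l * a⁻¹ ∈ L) :
    a ∈ normalizer (L : Set Γ) := by
  rw [mem_normalizer_iff]
  intro l
  constructor
  · exact hL l
  · intro hl
    have := conj_inv_mem_of_finite hL _ hl
    have e : a⁻¹ * (a * l * a⁻¹) * a = l := by group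
    rwa [e] at this

/-- the elements stabilising the coset `x L` -/
def twS (L : Subgroup Γ) (x : Γ) : Subgroup Γ where
  carrier := {a | a ∈ normalizer (L : Set Γ) ∧ x⁻¹ * (a * x * a⁻¹) ∈ L}
  mul_mem' := by
    rintro a b ⟨ha, ha'⟩ ⟨hb, hb'⟩
    refine ⟨Subgroup.mul_mem _ ha hb, ?_⟩
    have e : x⁻¹ * (a * b * x * (a * b)⁻¹) =
        x⁻¹ * (a * x * a⁻¹) * (a * (x⁻¹ * (b * x * b⁻¹)) * a⁻¹) := by group
    rw [e]
    exact L.mul_mem ha' ((mem_normalizer_iff.mp ha _).mp hb')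
  one_mem' := ⟨Subgroup.one_mem _, by simp⟩
  inv_mem' := by
    rintro a ⟨ha, ha'⟩
    refine ⟨Subgroup.inv_mem _ ha, ?_⟩
    have e : x⁻¹ * (a⁻¹ * x * a⁻¹⁻¹) = a⁻¹ * (x⁻¹ * (a * x * a⁻¹))⁻¹ * a⁻¹⁻¹ := by group
    rw [e]
    exact (mem_normalizer_iff.mp (Subgroup.inv_mem _ ha) _).mp (L.inv_mem ha')

/-- coprime lifting for one element -/
theorem lift_of_pow {L : Subgroup Γ} {a : Γ} {m : ℕ} (ha : a ^ m = 1)
    (haL : ∀ l ∈ L, a * l * a⁻¹ ∈ L) (hcop : (Nat.card L).Coprime m) {x : Γ}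
    (hx : x⁻¹ * (a * x * a⁻¹) ∈ L) : ∃ n ∈ L, a * (x * n) = (x * n) * a := by
  have haN := mem_normalizer_of_conj_mem haL
  have hnorm : zpowers a ≤ normalizer (L : Set Γ) := by
    rw [zpowers_le]; exact haN
  have hcard : Nat.card (zpowers a) ∣ m := by
    rw [Nat.card_zpowers]
    exact orderOf_dvd_of_pow_eq_one ha
  have hcop' : (Nat.card (zpowers a)).Coprime (Nat.card L) :=
    (Nat.Coprime.coprime_dvd_right hcard hcop).symm
  have hle : zpowers a ≤ twS L x := by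
    rw [zpowers_le]
    exact ⟨haN, hx⟩
  have hsolv : Group.IsSolvable (zpowers a) := inferInstance
  obtain ⟨n, hn, hc⟩ := Cfsg.Agent.Lib.Helper1.exists_mul_mem_centralizer hnorm hcop'
    (Or.inl hsolv) x (fun b hb => by
      have := (hle hb).2
      have e : x⁻¹ * b * x * b⁻¹ = x⁻¹ * (b * x * b⁻¹) := by group
      rw [e]
      exact this)
  exact ⟨n, hn, (mem_centralizer_iff.mp hc) a (mem_zpowers a)⟩

end Lift

namespace Act

variable [Finite Γ]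

theorem lift_f (s : Act X f h) {L : Subgroup Γ} (hLX : L ≤ X)
    (hfL : ∀ l ∈ L, f * l * f⁻¹ ∈ L) {x : Γ} (hx : x⁻¹ * (f * x * f⁻¹) ∈ L) :
    ∃ n ∈ L, f * (x * n) = (x * n) * f := by
  apply lift_of_pow s.hf3 hfL _ hx
  have h1 : (Nat.card X).Coprime 3 := Nat.Coprime.coprime_dvd_right (by norm_num) s.hcop
  exact Nat.Coprime.coprime_dvd_left (Subgroup.card_dvd_of_le hLX) h1

theorem lift_h (s : Act X f h) {L : Subgroup Γ} (hLX : L ≤ X)
    (hhL : ∀ l ∈ L, h * l * h⁻¹ ∈ L) {x : Γ} (hx : x⁻¹ * (h * x * h⁻¹) ∈ L) :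
    ∃ n ∈ L, h * (x * n) = (x * n) * h := by
  apply lift_of_pow s.hh2 hhL _ hx
  have h1 : (Nat.card X).Coprime 2 := Nat.Coprime.coprime_dvd_right (by norm_num) s.hcop
  exact Nat.Coprime.coprime_dvd_left (Subgroup.card_dvd_of_le hLX) h1

/-- **fixed-point-freeness modulo an invariant subgroup** -/
theorem fpf_mod (s : Act X f h) {L : Subgroup Γ} (hLX : L ≤ X)
    (hfL : ∀ l ∈ L, f * l * f⁻¹ ∈ L) (hhL : ∀ l ∈ L, h * l * h⁻¹ ∈ L) {x : Γ} (hx : x ∈ X)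
    (h1 : x⁻¹ * (f * x * f⁻¹) ∈ L) (h2 : x⁻¹ * (h * x * h⁻¹) ∈ L) : x ∈ L := by
  obtain ⟨n₁, hn₁, hc₁⟩ := s.lift_f hLX hfL h1
  set L₂ : Subgroup Γ := L ⊓ centralizer {f} with hL₂
  have hmemL₂ : ∀ c, c ∈ L₂ ↔ c ∈ L ∧ f * c = c * f := by
    intro c
    rw [hL₂, Subgroup.mem_inf, mem_centralizer_singleton_iff]
    constructor
    · rintro ⟨h1, h2⟩
      exact ⟨h1, h2.symm⟩
    · rintro ⟨h1, h2⟩
      exact ⟨h1, h2.symm⟩
  have hhL₂ : ∀ l ∈ L₂, h * l * h⁻¹ ∈ L₂ := by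
    intro l hl
    rw [hmemL₂] at hl ⊢
    exact ⟨hhL l hl.1, s.conj_h_comm hl.2⟩
  have hx₁ : (x * n₁)⁻¹ * (h * (x * n₁) * h⁻¹) ∈ L₂ := by
    rw [hmemL₂]
    constructor
    · have e : (x * n₁)⁻¹ * (h * (x * n₁) * h⁻¹) =
          n₁⁻¹ * (x⁻¹ * (h * x * h⁻¹)) * (h * n₁ * h⁻¹) := by group
      rw [e]
      exact L.mul_mem (L.mul_mem (L.inv_mem hn₁) h2) (hhL _ hn₁)
    · have c1 : Commute f (x * n₁) := hc₁
      have c2 : Commute f (h * (x * n₁) * h⁻¹) := s.conj_h_comm hc₁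
      exact (c1.inv_right.mul_right c2)
  obtain ⟨n₂, hn₂, hc₂⟩ := s.lift_h (inf_le_left.trans hLX) hhL₂ hx₁
  have hn₂' := (hmemL₂ n₂).mp hn₂
  have hf2 : f * (x * n₁ * n₂) = (x * n₁ * n₂) * f := by
    have c1 : Commute f (x * n₁) := hc₁
    have c2 : Commute f n₂ := hn₂'.2
    exact c1.mul_right c2
  have hmem : x * n₁ * n₂ ∈ X := X.mul_mem (X.mul_mem hx (hLX hn₁)) (hLX hn₂'.1)
  have h3 := s.hfpf _ hmem hf2 hc₂
  have e : x = (n₁ * n₂)⁻¹ := by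
    apply eq_inv_of_mul_eq_one_left
    rw [← mul_assoc]
    exact h3
  rw [e]
  exact L.inv_mem (L.mul_mem hn₁ hn₂'.1)


/-- the image under a homomorphism -/
theorem map (s : Act X f h) {Γ' : Type*} [Group Γ'] (ψ : Γ →* Γ') :
    Act (X.map ψ) (ψ f) (ψ h) where
  hf3 := by rw [← map_pow, s.hf3, map_one]
  hh2 := by rw [← map_pow, s.hh2, map_one]
  hrel := by rw [← map_inv, ← map_mul, ← map_mul, s.hrel, map_inv]
  hfX := by
    rintro _ ⟨x, hx, rfl⟩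
    exact ⟨f * x * f⁻¹, s.hfX x hx, by rw [map_mul, map_mul, map_inv]⟩
  hhX := by
    rintro _ ⟨x, hx, rfl⟩
    exact ⟨h * x * h⁻¹, s.hhX x hx, by rw [map_mul, map_mul, map_inv]⟩
  hcop := Nat.Coprime.coprime_dvd_left (Subgroup.card_map_dvd X ψ) s.hcop
  hfpf := by
    rintro _ ⟨x, hx, rfl⟩ h1 h2
    have hfL : ∀ l ∈ X ⊓ ψ.ker, f * l * f⁻¹ ∈ X ⊓ ψ.ker := by
      rintro l ⟨hl1, hl2⟩
      exact ⟨s.hfX l hl1, (inferInstance : ψ.ker.Normal).conj_mem l hl2 f⟩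
    have hhL : ∀ l ∈ X ⊓ ψ.ker, h * l * h⁻¹ ∈ X ⊓ ψ.ker := by
      rintro l ⟨hl1, hl2⟩
      exact ⟨s.hhX l hl1, (inferInstance : ψ.ker.Normal).conj_mem l hl2 h⟩
    have h3 : x⁻¹ * (f * x * f⁻¹) ∈ X ⊓ ψ.ker := by
      refine ⟨X.mul_mem (X.inv_mem hx) (s.hfX x hx), ?_⟩
      show x⁻¹ * (f * x * f⁻¹) ∈ ψ.ker
      rw [MonoidHom.mem_ker, map_mul, map_mul, map_mul, map_inv, map_inv, h1]
      group
    have h4 : x⁻¹ * (h * x * h⁻¹) ∈ X ⊓ ψ.ker := by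
      refine ⟨X.mul_mem (X.inv_mem hx) (s.hhX x hx), ?_⟩
      show x⁻¹ * (h * x * h⁻¹) ∈ ψ.ker
      rw [MonoidHom.mem_ker, map_mul, map_mul, map_mul, map_inv, map_inv, h2]
      group
    have h5 := s.fpf_mod inf_le_left hfL hhL hx h3 h4
    exact MonoidHom.mem_ker.mp h5.2

end Act

/-- restriction of the ambient group -/
theorem Act.subtype {Γ : Type*} [Group Γ] {X : Subgroup Γ} {f h : Γ} (s : Act X f h)
    (N : Subgroup Γ) (hf : f ∈ N) (hh : h ∈ N) :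
    Act (X.subgroupOf N) (⟨f, hf⟩ : ↥N) (⟨h, hh⟩ : ↥N) where
  hf3 := Subtype.ext (by simpa using s.hf3)
  hh2 := Subtype.ext (by simpa using s.hh2)
  hrel := Subtype.ext (by simpa using s.hrel)
  hfX := by
    intro x hx
    rw [mem_subgroupOf] at hx ⊢
    simpa using s.hfX _ hx
  hhX := by
    intro x hx
    rw [mem_subgroupOf] at hx ⊢
    simpa using s.hhX _ hx
  hcop := by
    have h1 : Nat.card (X.subgroupOf N) ∣ Nat.card X := by
      have e : Nat.card (X.subgroupOf N) = Nat.card ((X ⊓ N : Subgroup Γ)) := by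
        rw [← Subgroup.inf_subgroupOf_right]
        exact Nat.card_congr (Subgroup.subgroupOfEquivOfLe inf_le_right).toEquiv
      rw [e]
      exact Subgroup.card_dvd_of_le inf_le_left
    exact Nat.Coprime.coprime_dvd_left h1 s.hcop
  hfpf := by
    intro x hx h1 h2
    rw [mem_subgroupOf] at hx
    have h3 := s.hfpf _ hx (by simpa using congrArg Subtype.val h1)
      (by simpa using congrArg Subtype.val h2)
    exact Subtype.ext h3

end Cfsg.Agent.Lib.Helper23.S3
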