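import Mathlib
import Cfsg.Agent.Lib.Helper23.S3C
import Cfsg.Agent.Lib.Helper23.S3B
import Cfsg.Agent.Lib.Helper17.ESMod4

/-!
# helper23: fixed-point-free actions of a Frobenius group of order `p l` (for S4306), part 1:
the structure `FAct` and its elementary properties
-/

set_option autoImplicit false
set_option linter.unusedSectionVars false

namespace Cfsg.Agent.Lib.Helper23.PQ

open Subgroup
open Cfsg.Agent.Lib.Helper23.S3 (conj_inv_mem_of_finite mem_normalizer_of_conj_mem lift_of_pow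
  inv_conj_mem_of_pow)
open Cfsg.Agent.Lib.Helper17.ESMod (gen_of_prime)
open scoped commutatorElement

/-- a subgroup `X` of `Γ` normalised by elements `f` (of order dividing `p`) and `h` (of order
dividing `l`) generating a quotient of a Frobenius group of order `p l` (kernel `⟨f⟩`), which act
fixed-point-freely on `X`, the order of `X` being prime to `p l`.  All the conditions are stable
under homomorphisms. -/
structure FAct {Γ : Type*} [Group Γ] (p l : ℕ) (X : Subgroup Γ) (f h : Γ) : Prop where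
  hp : p.Prime
  hl : l.Prime
  hfp : f ^ p = 1
  hhl : h ^ l = 1
  hnorm : ∀ j : ℕ, ∃ k : ℕ, h ^ j * f * (h ^ j)⁻¹ = f ^ k
  hfrob : ∀ j : ℕ, ¬ l ∣ j → ∃ c : ℕ, (h ^ j * f * (h ^ j)⁻¹ * f⁻¹) ^ c = f
  hfX : ∀ x ∈ X, f * x * f⁻¹ ∈ X
  hhX : ∀ x ∈ X, h * x * h⁻¹ ∈ X
  hcop : (Nat.card X).Coprime (p * l)
  hfpf : ∀ x ∈ X, f * x = x * f → h * x = x * h → x = 1

variable {Γ : Type*} [Group Γ] {p l : ℕ} {X : Subgroup Γ} {f h : Γ}

/-- `a⁻¹ = a ^ (n - 1)` when `a ^ n = 1` -/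
theorem inv_eq_pow_pred {a : Γ} {n : ℕ} (hn : 0 < n) (ha : a ^ n = 1) : a⁻¹ = a ^ (n - 1) := by
  apply inv_eq_of_mul_eq_one_left
  rw [← pow_succ, Nat.sub_add_cancel hn, ha]

theorem conj_pow_elt (a x : Γ) (n : ℕ) : a * x ^ n * a⁻¹ = (a * x * a⁻¹) ^ n := by
  rw [conj_pow]

/-- iterated conjugation -/
theorem conj_pow_mem {L : Subgroup Γ} {a : Γ} (hL : ∀ x ∈ L, a * x * a⁻¹ ∈ L) (j : ℕ) :
    ∀ x ∈ L, a ^ j * x * (a ^ j)⁻¹ ∈ L := by
  induction j with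
  | zero => intro x hx; simpa using hx
  | succ j ih =>
    intro x hx
    have e1 : a ^ (j + 1) * x * (a ^ (j + 1))⁻¹ = a * (a ^ j * x * (a ^ j)⁻¹) * a⁻¹ := by
      rw [pow_succ']
      group
    rw [e1]
    exact hL _ (ih x hx)

namespace FAct

theorem hinv (s : FAct p l X f h) : h⁻¹ = h ^ (l - 1) := inv_eq_pow_pred s.hl.pos s.hhl

theorem finv (s : FAct p l X f h) : f⁻¹ = f ^ (p - 1) := inv_eq_pow_pred s.hp.pos s.hfp

theorem hfX' (s : FAct p l X f h) : ∀ x ∈ X, f⁻¹ * x * f ∈ X :=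
  inv_conj_mem_of_pow s.hp.pos s.hfp s.hfX

theorem hhX' (s : FAct p l X f h) : ∀ x ∈ X, h⁻¹ * x * h ∈ X :=
  inv_conj_mem_of_pow s.hl.pos s.hhl s.hhX

theorem pow_hinv (s : FAct p l X f h) (j : ℕ) : (h ^ j)⁻¹ = h ^ ((l - 1) * j) := by
  rw [pow_mul, ← s.hinv, inv_pow]

/-- `h⁻ʲ` normalises `⟨f⟩` -/
theorem hnorm' (s : FAct p l X f h) (j : ℕ) : ∃ k : ℕ, (h ^ j)⁻¹ * f * h ^ j = f ^ k := by
  obtain ⟨k, hk⟩ := s.hnorm ((l - 1) * j)
  refine ⟨k, ?_⟩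
  rw [← s.pow_hinv, inv_inv] at hk
  exact hk

/-- `hʲ` normalises the centraliser of `f` -/
theorem conj_hpow_comm (s : FAct p l X f h) (j : ℕ) {x : Γ} (hx : f * x = x * f) :
    f * (h ^ j * x * (h ^ j)⁻¹) = (h ^ j * x * (h ^ j)⁻¹) * f := by
  obtain ⟨k, hk⟩ := s.hnorm' j
  have c1 : Commute (f ^ k) x := (show Commute f x from hx).pow_left k
  have c2 : Commute ((h ^ j)⁻¹ * f * h ^ j) x := by rw [hk]; exact c1
  calc f * (h ^ j * x * (h ^ j)⁻¹) = h ^ j * (((h ^ j)⁻¹ * f * h ^ j) * x) * (h ^ j)⁻¹ := by group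
    _ = h ^ j * (x * ((h ^ j)⁻¹ * f * h ^ j)) * (h ^ j)⁻¹ := by rw [c2.eq]
    _ = (h ^ j * x * (h ^ j)⁻¹) * f := by group

theorem conj_h_comm (s : FAct p l X f h) {x : Γ} (hx : f * x = x * f) :
    f * (h * x * h⁻¹) = (h * x * h⁻¹) * f := by
  have := s.conj_hpow_comm 1 hx
  rwa [pow_one] at this

theorem conj_hinv_comm (s : FAct p l X f h) {x : Γ} (hx : f * x = x * f) :
    f * (h⁻¹ * x * h) = (h⁻¹ * x * h) * f := by
  have := s.conj_hpow_comm (l - 1) hx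
  rwa [← s.hinv, inv_inv] at this

/-- restriction to an invariant subgroup -/
theorem sub (s : FAct p l X f h) {Y : Subgroup Γ} [Finite X] (hYX : Y ≤ X)
    (hfY : ∀ x ∈ Y, f * x * f⁻¹ ∈ Y) (hhY : ∀ x ∈ Y, h * x * h⁻¹ ∈ Y) : FAct p l Y f h where
  hp := s.hp
  hl := s.hl
  hfp := s.hfp
  hhl := s.hhl
  hnorm := s.hnorm
  hfrob := s.hfrob
  hfX := hfY
  hhX := hhY
  hcop := Nat.Coprime.coprime_dvd_left (Subgroup.card_dvd_of_le hYX) s.hcop
  hfpf := fun x hx => s.hfpf x (hYX hx)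

theorem cop_p (s : FAct p l X f h) : (Nat.card X).Coprime p :=
  Nat.Coprime.coprime_dvd_right (dvd_mul_right p l) s.hcop

theorem cop_l (s : FAct p l X f h) : (Nat.card X).Coprime l :=
  Nat.Coprime.coprime_dvd_right (dvd_mul_left l p) s.hcop

section Lift

variable [Finite Γ]

theorem lift_f (s : FAct p l X f h) {L : Subgroup Γ} (hLX : L ≤ X)
    (hfL : ∀ x ∈ L, f * x * f⁻¹ ∈ L) {x : Γ} (hx : x⁻¹ * (f * x * f⁻¹) ∈ L) :
    ∃ n ∈ L, f * (x * n) = (x * n) * f := by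
  apply lift_of_pow s.hfp hfL _ hx
  exact Nat.Coprime.coprime_dvd_left (Subgroup.card_dvd_of_le hLX) s.cop_p

theorem lift_h (s : FAct p l X f h) {L : Subgroup Γ} (hLX : L ≤ X)
    (hhL : ∀ x ∈ L, h * x * h⁻¹ ∈ L) {x : Γ} (hx : x⁻¹ * (h * x * h⁻¹) ∈ L) :
    ∃ n ∈ L, h * (x * n) = (x * n) * h := by
  apply lift_of_pow s.hhl hhL _ hx
  exact Nat.Coprime.coprime_dvd_left (Subgroup.card_dvd_of_le hLX) s.cop_l

/-- **fixed-point-freeness modulo an invariant subgroup** -/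
theorem fpf_mod (s : FAct p l X f h) {L : Subgroup Γ} (hLX : L ≤ X)
    (hfL : ∀ x ∈ L, f * x * f⁻¹ ∈ L) (hhL : ∀ x ∈ L, h * x * h⁻¹ ∈ L) {x : Γ} (hx : x ∈ X)
    (h1 : x⁻¹ * (f * x * f⁻¹) ∈ L) (h2 : x⁻¹ * (h * x * h⁻¹) ∈ L) : x ∈ L := by
  obtain ⟨n₁, hn₁, hc₁⟩ := s.lift_f hLX hfL h1
  set L₂ : Subgroup Γ := L ⊓ centralizer {f} with hL₂
  have hmemL₂ : ∀ c, c ∈ L₂ ↔ c ∈ L ∧ f * c = c * f := by
    intro c
    rw [hL₂, Subgroup.mem_inf, mem_centralizer_singleton_iff]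
    constructor
    · rintro ⟨h1, h2⟩
      exact ⟨h1, h2.symm⟩
    · rintro ⟨h1, h2⟩
      exact ⟨h1, h2.symm⟩
  have hhL₂ : ∀ x ∈ L₂, h * x * h⁻¹ ∈ L₂ := by
    intro y hy
    rw [hmemL₂] at hy ⊢
    exact ⟨hhL y hy.1, s.conj_h_comm hy.2⟩
  have hx₁ : (x * n₁)⁻¹ * (h * (x * n₁) * h⁻¹) ∈ L₂ := by
    rw [hmemL₂]
    constructor
    · have e : (x * n₁)⁻¹ * (h * (x * n₁) * h⁻¹) =
          n₁⁻¹ * (x⁻¹ * (h * x * h⁻¹)) * (h * n₁ * h⁻¹) := by group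
      rw [e]
      exact L.mul_mem (L.mul_mem (L.inv_mem hn₁) h2) (hhL _ hn₁)
    · have c1 : Commute f (x * n₁) := hc₁
      have c2 : Commute f (h * (x * n₁) * h⁻¹) := s.conj_h_comm hc₁
      exact (c1.inv_right.mul_right c2)
  obtain ⟨n₂, hn₂, hc₂⟩ := s.lift_h (inf_le_left.trans hLX) hhL₂ hx₁
  have hn₂' := (hmemL₂ n₂).mp hn₂
  have hf2 : f * (x * n₁ * n₂) = (x * n₁ * n₂) * f := by
    have c1 : Commute f (x * n₁) := hc₁
    have c2 : Commute f n₂ := hn₂'.2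
    exact c1.mul_right c2
  have hmem : x * n₁ * n₂ ∈ X := X.mul_mem (X.mul_mem hx (hLX hn₁)) (hLX hn₂'.1)
  have h3 := s.hfpf _ hmem hf2 hc₂
  have e : x = (n₁ * n₂)⁻¹ := by
    apply eq_inv_of_mul_eq_one_left
    rw [← mul_assoc]
    exact h3
  rw [e]
  exact L.inv_mem (L.mul_mem hn₁ hn₂'.1)

/-- the image under a homomorphism -/
theorem map (s : FAct p l X f h) {Γ' : Type*} [Group Γ'] (ψ : Γ →* Γ') :
    FAct p l (X.map ψ) (ψ f) (ψ h) where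
  hp := s.hp
  hl := s.hl
  hfp := by rw [← map_pow, s.hfp, map_one]
  hhl := by rw [← map_pow, s.hhl, map_one]
  hnorm := by
    intro j
    obtain ⟨k, hk⟩ := s.hnorm j
    refine ⟨k, ?_⟩
    rw [← map_pow, ← map_pow, ← map_inv, ← map_mul, ← map_mul, hk]
  hfrob := by
    intro j hj
    obtain ⟨c, hc⟩ := s.hfrob j hj
    refine ⟨c, ?_⟩
    rw [← map_pow, ← map_inv, ← map_inv, ← map_mul, ← map_mul, ← map_mul, ← map_pow, hc]
  hfX := by
    rintro _ ⟨x, hx, rfl⟩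
    exact ⟨f * x * f⁻¹, s.hfX x hx, by rw [map_mul, map_mul, map_inv]⟩
  hhX := by
    rintro _ ⟨x, hx, rfl⟩
    exact ⟨h * x * h⁻¹, s.hhX x hx, by rw [map_mul, map_mul, map_inv]⟩
  hcop := Nat.Coprime.coprime_dvd_left (Subgroup.card_map_dvd X ψ) s.hcop
  hfpf := by
    rintro _ ⟨x, hx, rfl⟩ h1 h2
    have hfL : ∀ y ∈ X ⊓ ψ.ker, f * y * f⁻¹ ∈ X ⊓ ψ.ker := by
      rintro y ⟨hl1, hl2⟩
      exact ⟨s.hfX y hl1, (inferInstance : ψ.ker.Normal).conj_mem y hl2 f⟩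
    have hhL : ∀ y ∈ X ⊓ ψ.ker, h * y * h⁻¹ ∈ X ⊓ ψ.ker := by
      rintro y ⟨hl1, hl2⟩
      exact ⟨s.hhX y hl1, (inferInstance : ψ.ker.Normal).conj_mem y hl2 h⟩
    have h3 : x⁻¹ * (f * x * f⁻¹) ∈ X ⊓ ψ.ker := by
      refine ⟨X.mul_mem (X.inv_mem hx) (s.hfX x hx), ?_⟩
      show x⁻¹ * (f * x * f⁻¹) ∈ ψ.ker
      rw [MonoidHom.mem_ker, map_mul, map_mul, map_mul, map_inv, map_inv, h1]
      group
    have h4 : x⁻¹ * (h * x * h⁻¹) ∈ X ⊓ ψ.ker := by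
      refine ⟨X.mul_mem (X.inv_mem hx) (s.hhX x hx), ?_⟩
      show x⁻¹ * (h * x * h⁻¹) ∈ ψ.ker
      rw [MonoidHom.mem_ker, map_mul, map_mul, map_mul, map_inv, map_inv, h2]
      group
    have h5 := s.fpf_mod inf_le_left hfL hhL hx h3 h4
    exact MonoidHom.mem_ker.mp h5.2

end Lift

end FAct

/-- restriction of the ambient group -/
theorem FAct.subtype (s : FAct p l X f h) (N : Subgroup Γ) (hf : f ∈ N) (hh : h ∈ N) :
    FAct p l (X.subgroupOf N) (⟨f, hf⟩ : ↥N) (⟨h, hh⟩ : ↥N) where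
  hp := s.hp
  hl := s.hl
  hfp := Subtype.ext (by simpa using s.hfp)
  hhl := Subtype.ext (by simpa using s.hhl)
  hnorm := by
    intro j
    obtain ⟨k, hk⟩ := s.hnorm j
    exact ⟨k, Subtype.ext (by simpa using hk)⟩
  hfrob := by
    intro j hj
    obtain ⟨c, hc⟩ := s.hfrob j hj
    exact ⟨c, Subtype.ext (by simpa using hc)⟩
  hfX := by
    intro x hx
    rw [mem_subgroupOf] at hx ⊢
    simpa using s.hfX _ hx
  hhX := by
    intro x hx
    rw [mem_subgroupOf] at hx ⊢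
    simpa using s.hhX _ hx
  hcop := by
    have h1 : Nat.card (X.subgroupOf N) ∣ Nat.card X := by
      have e : Nat.card (X.subgroupOf N) = Nat.card ((X ⊓ N : Subgroup Γ)) := by
        rw [← Subgroup.inf_subgroupOf_right]
        exact Nat.card_congr (Subgroup.subgroupOfEquivOfLe inf_le_right).toEquiv
      rw [e]
      exact Subgroup.card_dvd_of_le inf_le_left
    exact Nat.Coprime.coprime_dvd_left h1 s.hcop
  hfpf := by
    intro x hx h1 h2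
    rw [mem_subgroupOf] at hx
    have h3 := s.hfpf _ hx (by simpa using congrArg Subtype.val h1)
      (by simpa using congrArg Subtype.val h2)
    exact Subtype.ext h3

end Cfsg.Agent.Lib.Helper23.PQ
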