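import Mathlib
import Cfsg.Agent.Lib.Helper23.PQ1

/-!
# helper23: `FAct`, part 2: conjugates of `h`, the Frobenius structure of `⟨f, h⟩`
-/

set_option autoImplicit false
set_option linter.unusedSectionVars false

namespace Cfsg.Agent.Lib.Helper23.PQ

open Subgroup
open Cfsg.Agent.Lib.Helper23.S3 (conj_inv_mem_of_finite mem_normalizer_of_conj_mem lift_of_pow
  inv_conj_mem_of_pow)
open Cfsg.Agent.Lib.Helper17.ESMod (gen_of_prime)
open scoped commutatorElement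

variable {Γ : Type*} [Group Γ] {p l : ℕ} {X : Subgroup Γ} {f h : Γ}

/-- the conjugate `fᵘ h f⁻ᵘ` -/
def eta (f h : Γ) (u : ℕ) : Γ := f ^ u * h * (f ^ u)⁻¹

theorem eta_zero (f h : Γ) : eta f h 0 = h := by simp [eta]

theorem eta_pow (f h : Γ) (u j : ℕ) : eta f h u ^ j = f ^ u * h ^ j * (f ^ u)⁻¹ := by
  unfold eta
  rw [conj_pow]

/-- `a` is a power of `a ^ w` when `a ^ p = 1` and `p ∤ w` -/
theorem exists_pow_pow_eq {a : Γ} (hp : p.Prime) (ha : a ^ p = 1) {w : ℕ} (hw : ¬ p ∣ w) :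
    ∃ m : ℕ, (a ^ w) ^ m = a := by
  have hcop : Nat.Coprime w p := ((Nat.Prime.coprime_iff_not_dvd hp).mpr hw).symm
  obtain ⟨m, -, hm⟩ := Nat.exists_mul_mod_eq_one_of_coprime hcop hp.one_lt
  refine ⟨m, ?_⟩
  rw [← pow_mul, pow_eq_pow_mod (w * m) ha, hm, pow_one]

theorem mem_of_pow_mem {B : Subgroup Γ} {a : Γ} (hp : p.Prime) (ha : a ^ p = 1) {w : ℕ}
    (hw : ¬ p ∣ w) (h : a ^ w ∈ B) : a ∈ B := by
  obtain ⟨m, hm⟩ := exists_pow_pow_eq hp ha hw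
  rw [← hm]
  exact B.pow_mem h m

/-- generic twist lemma: if `a` normalises the finite group `X` without fixed points, every element
is of the form `y⁻¹ (a y a⁻¹)` -/
theorem exists_twist [Finite Γ] {a : Γ} (haX : ∀ x ∈ X, a * x * a⁻¹ ∈ X)
    (hc : ∀ c ∈ X, a * c = c * a → c = 1) {x : Γ} (hx : x ∈ X) :
    ∃ y ∈ X, y⁻¹ * (a * y * a⁻¹) = x := by
  classical
  let θ : ↥X → ↥X := fun y => ⟨y.1⁻¹ * (a * y.1 * a⁻¹), X.mul_mem (X.inv_mem y.2) (haX _ y.2)⟩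
  have hinj : Function.Injective θ := by
    intro u v huv
    have h1 : u.1⁻¹ * (a * u.1 * a⁻¹) = v.1⁻¹ * (a * v.1 * a⁻¹) := congrArg Subtype.val huv
    have h3 : a * (v.1 * u.1⁻¹) = (v.1 * u.1⁻¹) * a := by
      calc a * (v.1 * u.1⁻¹) = v.1 * (v.1⁻¹ * (a * v.1 * a⁻¹)) * (a * u.1⁻¹) := by group
        _ = v.1 * (u.1⁻¹ * (a * u.1 * a⁻¹)) * (a * u.1⁻¹) := by rw [h1]
        _ = (v.1 * u.1⁻¹) * a := by group
    have h4 := hc _ (X.mul_mem v.2 (X.inv_mem u.2)) h3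
    apply Subtype.ext
    exact (mul_inv_eq_one.mp h4).symm
  have hsurj : Function.Surjective θ := Finite.injective_iff_surjective.mp hinj
  obtain ⟨y, hy⟩ := hsurj ⟨x, hx⟩
  exact ⟨y.1, y.2, congrArg Subtype.val hy⟩

/-- the other form of the twist lemma: `x = (a y a⁻¹) y⁻¹` -/
theorem exists_twist' [Finite Γ] {a : Γ} (haX : ∀ x ∈ X, a * x * a⁻¹ ∈ X)
    (hc : ∀ c ∈ X, a * c = c * a → c = 1) {x : Γ} (hx : x ∈ X) :
    ∃ y ∈ X, (a * y * a⁻¹) * y⁻¹ = x := by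
  obtain ⟨y, hy, hyx⟩ := exists_twist haX hc (X.inv_mem hx)
  refine ⟨y⁻¹, X.inv_mem hy, ?_⟩
  have : x = (y⁻¹ * (a * y * a⁻¹))⁻¹ := by rw [hyx, inv_inv]
  rw [this]
  group

namespace FAct

/-- conjugating by `hʲ` maps `fⁱ` to a power of `f` -/
theorem conj_h_fpow (s : FAct p l X f h) (j i : ℕ) :
    ∃ k : ℕ, h ^ j * f ^ i * (h ^ j)⁻¹ = f ^ k := by
  obtain ⟨k, hk⟩ := s.hnorm j
  refine ⟨k * i, ?_⟩
  rw [← conj_pow, hk, pow_mul]

theorem conj_hinv_fpow (s : FAct p l X f h) (j i : ℕ) :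
    ∃ k : ℕ, (h ^ j)⁻¹ * f ^ i * h ^ j = f ^ k := by
  obtain ⟨k, hk⟩ := s.hnorm' j
  refine ⟨k * i, ?_⟩
  have e : (h ^ j)⁻¹ * f ^ i * h ^ j = ((h ^ j)⁻¹ * f * ((h ^ j)⁻¹)⁻¹) ^ i := by
    rw [conj_pow, inv_inv]
  rw [e, inv_inv, hk, pow_mul]

/-- `h` normalises `⟨f⟩` -/
theorem conj_h_mem_zpowers (s : FAct p l X f h) (j : ℕ) {g : Γ} (hg : g ∈ zpowers f) :
    h ^ j * g * (h ^ j)⁻¹ ∈ zpowers f := by
  obtain ⟨i, rfl⟩ := Cfsg.Agent.Lib.Helper17.ESMod.exists_pow_of_mem_zpowers f s.hp.pos s.hfp g hg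
  obtain ⟨k, hk⟩ := s.conj_h_fpow j i
  rw [hk]
  exact Subgroup.pow_mem _ (mem_zpowers f) k

theorem conj_hinv_mem_zpowers (s : FAct p l X f h) (j : ℕ) {g : Γ} (hg : g ∈ zpowers f) :
    (h ^ j)⁻¹ * g * h ^ j ∈ zpowers f := by
  obtain ⟨i, rfl⟩ := Cfsg.Agent.Lib.Helper17.ESMod.exists_pow_of_mem_zpowers f s.hp.pos s.hfp g hg
  obtain ⟨k, hk⟩ := s.conj_hinv_fpow j i
  rw [hk]
  exact Subgroup.pow_mem _ (mem_zpowers f) k

/-- the same structure with the conjugate `fᵘ h f⁻ᵘ` of `h` -/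
theorem conj (s : FAct p l X f h) (u : ℕ) : FAct p l X f (eta f h u) where
  hp := s.hp
  hl := s.hl
  hfp := s.hfp
  hhl := by rw [eta_pow, s.hhl]; group
  hnorm := by
    intro j
    obtain ⟨k, hk⟩ := s.hnorm j
    refine ⟨k, ?_⟩
    rw [eta_pow]
    have c : Commute (f ^ u) f := (Commute.refl f).pow_left u
    calc f ^ u * h ^ j * (f ^ u)⁻¹ * f * (f ^ u * h ^ j * (f ^ u)⁻¹)⁻¹
        = f ^ u * (h ^ j * ((f ^ u)⁻¹ * f * f ^ u) * (h ^ j)⁻¹) * (f ^ u)⁻¹ := by group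
      _ = f ^ u * (h ^ j * f * (h ^ j)⁻¹) * (f ^ u)⁻¹ := by
          rw [mul_assoc ((f ^ u)⁻¹), ← c.eq, inv_mul_cancel_left]
      _ = f ^ k := by
          rw [hk]
          have c' : Commute (f ^ u) (f ^ k) := (Commute.refl f).pow_pow u k
          rw [c'.eq, mul_inv_cancel_right]
  hfrob := by
    intro j hj
    obtain ⟨c, hc⟩ := s.hfrob j hj
    obtain ⟨k, hk⟩ := s.hnorm j
    refine ⟨c, ?_⟩
    rw [eta_pow]
    have cm : Commute (f ^ u) f := (Commute.refl f).pow_left u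
    have e : f ^ u * h ^ j * (f ^ u)⁻¹ * f * (f ^ u * h ^ j * (f ^ u)⁻¹)⁻¹ =
        h ^ j * f * (h ^ j)⁻¹ := by
      calc f ^ u * h ^ j * (f ^ u)⁻¹ * f * (f ^ u * h ^ j * (f ^ u)⁻¹)⁻¹
          = f ^ u * (h ^ j * ((f ^ u)⁻¹ * f * f ^ u) * (h ^ j)⁻¹) * (f ^ u)⁻¹ := by group
        _ = f ^ u * (h ^ j * f * (h ^ j)⁻¹) * (f ^ u)⁻¹ := by
            rw [mul_assoc ((f ^ u)⁻¹), ← cm.eq, inv_mul_cancel_left]
        _ = h ^ j * f * (h ^ j)⁻¹ := by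
            rw [hk]
            have c' : Commute (f ^ u) (f ^ k) := (Commute.refl f).pow_pow u k
            rw [c'.eq, mul_inv_cancel_right]
    rw [e]
    exact hc
  hfX := s.hfX
  hhX := by
    intro x hx
    have h1 : (f ^ u)⁻¹ * x * f ^ u ∈ X := by
      have hX'' : ∀ x ∈ X, f⁻¹ * x * (f⁻¹)⁻¹ ∈ X := by
        intro x hx
        rw [inv_inv]
        exact s.hfX' x hx
      have := conj_pow_mem hX'' u x hx
      rwa [inv_pow, inv_inv] at this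
    have h2 := conj_pow_mem s.hfX u _ (s.hhX _ h1)
    have e : f ^ u * (h * ((f ^ u)⁻¹ * x * f ^ u) * h⁻¹) * (f ^ u)⁻¹ =
        eta f h u * x * (eta f h u)⁻¹ := by
      unfold eta; group
    rwa [e] at h2
  hcop := s.hcop
  hfpf := by
    intro x hx h1 h2
    apply s.hfpf x hx h1
    have c1 : Commute x f := h1.symm
    have c2 : Commute x (eta f h u) := h2.symm
    have c3 : Commute x ((f ^ u)⁻¹ * eta f h u * f ^ u) :=
      ((c1.pow_right u).inv_right.mul_right c2).mul_right (c1.pow_right u)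
    have e : (f ^ u)⁻¹ * eta f h u * f ^ u = h := by unfold eta; group
    rw [e] at c3
    exact c3.symm

/-- `eta u` depends only on `u` modulo `p` -/
theorem eta_add_mul (s : FAct p l X f h) (u n : ℕ) : eta f h (u + p * n) = eta f h u := by
  unfold eta
  rw [pow_add, pow_mul, s.hfp, one_pow, mul_one]

/-- `η_{u+d} η_u⁻¹ = (g⁻¹)ᵈ` with `g = h f h⁻¹ f⁻¹` -/
theorem eta_mul_inv (s : FAct p l X f h) (u d : ℕ) :
    eta f h (u + d) * (eta f h u)⁻¹ = ((h * f * h⁻¹ * f⁻¹)⁻¹) ^ d := by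
  obtain ⟨k, hk⟩ := s.hnorm 1
  rw [pow_one] at hk
  have e1 : (h * f * h⁻¹ * f⁻¹)⁻¹ = f * (f ^ k)⁻¹ := by rw [hk]; group
  have c0 : Commute f ((f ^ k)⁻¹) := ((Commute.refl f).pow_right k).inv_right
  have e2 : (f * (f ^ k)⁻¹) ^ d = f ^ d * ((f ^ k)⁻¹) ^ d := c0.mul_pow d
  have e3 : h * (f ^ d)⁻¹ * h⁻¹ = ((f ^ k)⁻¹) ^ d := by
    rw [← inv_pow, ← conj_pow, ← conj_inv, hk]
  rw [e1, e2, ← e3]
  unfold eta
  have cu : Commute (f ^ u) (f ^ d) := (Commute.refl f).pow_pow u d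
  calc f ^ (u + d) * h * (f ^ (u + d))⁻¹ * (f ^ u * h * (f ^ u)⁻¹)⁻¹
      = f ^ u * (f ^ d * (h * (f ^ d)⁻¹ * h⁻¹)) * (f ^ u)⁻¹ := by
        rw [pow_add]; group
    _ = f ^ d * (h * (f ^ d)⁻¹ * h⁻¹) := by
        have c1 : Commute (f ^ u) (h * (f ^ d)⁻¹ * h⁻¹) := by
          rw [e3]
          exact (((Commute.refl f).pow_pow u k).inv_right).pow_right d
        have c2 : Commute (f ^ u) (f ^ d * (h * (f ^ d)⁻¹ * h⁻¹)) := cu.mul_right c1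
        rw [c2.eq, mul_inv_cancel_right]

/-- a subgroup containing two different conjugates of `h` contains `f` -/
theorem f_mem_of_eta_mem (s : FAct p l X f h) {B : Subgroup Γ} {u d : ℕ} (hd : ¬ p ∣ d)
    (h1 : eta f h (u + d) ∈ B) (h2 : eta f h u ∈ B) : f ∈ B := by
  have h3 : ((h * f * h⁻¹ * f⁻¹)⁻¹) ^ d ∈ B := by
    rw [← s.eta_mul_inv u d]
    exact B.mul_mem h1 (B.inv_mem h2)
  obtain ⟨k, hk⟩ := s.hnorm 1
  rw [pow_one] at hk
  have hgp : ((h * f * h⁻¹ * f⁻¹)⁻¹) ^ p = 1 := by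
    rw [inv_pow, hk]
    have c0 : Commute (f ^ k) (f⁻¹) := ((Commute.refl f).pow_left k).inv_right
    rw [c0.mul_pow, ← pow_mul, mul_comm k p, pow_mul, s.hfp, one_pow, inv_pow, s.hfp]
    simp
  have h4 := mem_of_pow_mem s.hp hgp hd h3
  have h5 : h * f * h⁻¹ * f⁻¹ ∈ B := by simpa using B.inv_mem h4
  have hl1 : ¬ l ∣ 1 := fun hdvd => s.hl.one_lt.ne' (Nat.dvd_one.mp hdvd)
  obtain ⟨c, hc⟩ := s.hfrob 1 hl1
  rw [pow_one] at hc
  rw [← hc]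
  exact B.pow_mem h5 c

/-- for two indices, either the conjugates of `h` agree or a subgroup containing both contains `f` -/
theorem eta_cases (s : FAct p l X f h) (u v : ℕ) :
    eta f h u = eta f h v ∨ ∀ B : Subgroup Γ, eta f h u ∈ B → eta f h v ∈ B → f ∈ B := by
  rcases Nat.le_total u v with huv | huv
  · obtain ⟨d, rfl⟩ := Nat.exists_eq_add_of_le huv
    by_cases hd : p ∣ d
    · left
      obtain ⟨n, rfl⟩ := hd
      exact (s.eta_add_mul u n).symm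
    · right
      intro B h1 h2
      exact s.f_mem_of_eta_mem hd h2 h1
  · obtain ⟨d, rfl⟩ := Nat.exists_eq_add_of_le huv
    by_cases hd : p ∣ d
    · left
      obtain ⟨n, rfl⟩ := hd
      exact s.eta_add_mul v n
    · right
      intro B h1 h2
      exact s.f_mem_of_eta_mem hd h1 h2

/-- `h ∈ B` if `f ∈ B` and some conjugate of `h` lies in `B` -/
theorem h_mem_of_eta_mem {B : Subgroup Γ} {u : ℕ} (h1 : f ∈ B) (h2 : eta f h u ∈ B) : h ∈ B := by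
  have e : h = (f ^ u)⁻¹ * eta f h u * f ^ u := by unfold eta; group
  rw [e]
  exact B.mul_mem (B.mul_mem (B.inv_mem (B.pow_mem h1 u)) h2) (B.pow_mem h1 u)

/-- **Frobenius structure**: an element `hʲ g` with `g ∈ ⟨f⟩` and `l ∤ j` is conjugate to `hʲ`
under `⟨f⟩` -/
theorem exists_conj_eq (s : FAct p l X f h) {j : ℕ} (hj : ¬ l ∣ j) {g : Γ} (hg : g ∈ zpowers f) :
    ∃ u : ℕ, h ^ j * g = f ^ u * h ^ j * (f ^ u)⁻¹ := by
  obtain ⟨i, rfl⟩ := Cfsg.Agent.Lib.Helper17.ESMod.exists_pow_of_mem_zpowers f s.hp.pos s.hfp g hg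
  -- `h⁻ʲ = h ^ ((l-1) j)` and `l ∤ (l-1) j`
  have hj' : ¬ l ∣ (l - 1) * j := by
    intro hdvd
    rcases (Nat.Prime.dvd_mul s.hl).mp hdvd with h1 | h1
    · have := Nat.le_of_dvd (Nat.sub_pos_of_lt s.hl.one_lt) h1
      have := s.hl.one_lt
      omega
    · exact hj h1
  obtain ⟨c, hc⟩ := s.hfrob _ hj'
  rw [← s.pow_hinv, inv_inv] at hc
  obtain ⟨k, hk⟩ := s.hnorm' j
  -- `g₀ = h⁻ʲ f hʲ f⁻¹ = f^k f⁻¹`, `g₀ ^ c = f`
  refine ⟨c * i, ?_⟩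
  have e1 : (h ^ j)⁻¹ * f ^ (c * i) * h ^ j = (f ^ k) ^ (c * i) := by
    have e : (h ^ j)⁻¹ * f ^ (c * i) * h ^ j = ((h ^ j)⁻¹ * f * ((h ^ j)⁻¹)⁻¹) ^ (c * i) := by
      rw [conj_pow, inv_inv]
    rw [e, inv_inv, hk]
  have c0 : Commute (f ^ k) (f⁻¹) := ((Commute.refl f).pow_left k).inv_right
  have e2 : f ^ i = (f ^ k) ^ (c * i) * (f ^ (c * i))⁻¹ := by
    have h1 : (f ^ k * f⁻¹) ^ c = f := by rw [← hk]; exact hc
    calc f ^ i = ((f ^ k * f⁻¹) ^ c) ^ i := by rw [h1]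
      _ = (f ^ k * f⁻¹) ^ (c * i) := by rw [pow_mul]
      _ = (f ^ k) ^ (c * i) * (f⁻¹) ^ (c * i) := c0.mul_pow _
      _ = (f ^ k) ^ (c * i) * (f ^ (c * i))⁻¹ := by rw [inv_pow]
  calc h ^ j * f ^ i = h ^ j * ((f ^ k) ^ (c * i) * (f ^ (c * i))⁻¹) := by rw [← e2]
    _ = h ^ j * (((h ^ j)⁻¹ * f ^ (c * i) * h ^ j) * (f ^ (c * i))⁻¹) := by rw [e1]
    _ = f ^ (c * i) * h ^ j * (f ^ (c * i))⁻¹ := by group

/-- `h` is a power of `hʲ` for `l ∤ j` -/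
theorem h_mem_of_pow_mem (s : FAct p l X f h) {B : Subgroup Γ} {j : ℕ} (hj : ¬ l ∣ j)
    (hB : h ^ j ∈ B) : h ∈ B := mem_of_pow_mem s.hl s.hhl hj hB

/-- **Frobenius partition**: a subgroup containing a nontrivial element `hʲ g` (`g ∈ ⟨f⟩`,
`j < l`) contains `f` or a conjugate of `h` -/
theorem mem_cases (s : FAct p l X f h) {B : Subgroup Γ} {j : ℕ} {g : Γ} (hg : g ∈ zpowers f)
    (hB : h ^ j * g ∈ B) (hne : ¬ (l ∣ j ∧ g = 1)) : f ∈ B ∨ ∃ u : ℕ, eta f h u ∈ B := by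
  by_cases hj : l ∣ j
  · left
    obtain ⟨n, rfl⟩ := hj
    rw [pow_mul, s.hhl, one_pow, one_mul] at hB
    have hg1 : g ≠ 1 := fun e => hne ⟨dvd_mul_right l n, e⟩
    obtain ⟨i, rfl⟩ :=
      Cfsg.Agent.Lib.Helper17.ESMod.exists_pow_of_mem_zpowers f s.hp.pos s.hfp g hg
    have hi : ¬ p ∣ i := by
      rintro ⟨n', rfl⟩
      apply hg1
      rw [pow_mul, s.hfp, one_pow]
    exact mem_of_pow_mem s.hp s.hfp hi hB
  · right
    obtain ⟨u, hu⟩ := s.exists_conj_eq hj hg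
    refine ⟨u, ?_⟩
    rw [hu, ← eta_pow] at hB
    have hη := s.conj u
    exact mem_of_pow_mem s.hl hη.hhl hj hB



theorem conj_hpow_f (_s : FAct p l X f h) {k : ℕ} (hk : h * f * h⁻¹ = f ^ k) (j : ℕ) :
    h ^ j * f * (h ^ j)⁻¹ = f ^ (k ^ j) := by
  induction j with
  | zero => simp
  | succ j ih =>
    have e1 : h ^ (j + 1) * f * (h ^ (j + 1))⁻¹ = h * (h ^ j * f * (h ^ j)⁻¹) * h⁻¹ := by
      rw [pow_succ']
      group
    rw [e1, ih, ← conj_pow, hk, ← pow_mul, pow_succ, mul_comm]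

/-- `l ∣ p - 1` in the nondegenerate case -/
theorem l_dvd_pred (s : FAct p l X f h) (hf1 : f ≠ 1) : l ∣ p - 1 := by
  have : Fact p.Prime := ⟨s.hp⟩
  have hord : orderOf f = p := orderOf_eq_prime s.hfp hf1
  obtain ⟨k, hk⟩ := s.hnorm 1
  rw [pow_one] at hk
  have h1 := s.conj_hpow_f hk l
  rw [s.hhl, inv_one, one_mul, mul_one] at h1
  have h2 : f ^ 1 = f ^ (k ^ l) := by rw [pow_one]; exact h1
  have h3 : 1 ≡ k ^ l [MOD p] := by
    rw [← hord]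
    exact pow_eq_pow_iff_modEq.mp h2
  have h4 : ((k : ZMod p)) ^ l = 1 := by
    have := (ZMod.natCast_eq_natCast_iff _ _ _).mpr h3
    rw [Nat.cast_one, Nat.cast_pow] at this
    exact this.symm
  set uk : (ZMod p)ˣ := Units.ofPowEqOne (k : ZMod p) l h4 s.hl.ne_zero with huk
  have h5 : uk ^ l = 1 := Units.pow_ofPowEqOne h4 s.hl.ne_zero
  have h6 : orderOf uk ∣ l := orderOf_dvd_of_pow_eq_one h5
  rcases (Nat.dvd_prime s.hl).mp h6 with h7 | h7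
  · exfalso
    have h8 : uk = 1 := orderOf_eq_one_iff.mp h7
    have h9 : (k : ZMod p) = 1 := by
      have := congrArg Units.val h8
      rwa [huk, Units.val_ofPowEqOne, Units.val_one] at this
    have h10 : k ≡ 1 [MOD p] := by
      apply (ZMod.natCast_eq_natCast_iff _ _ _).mp
      rw [h9, Nat.cast_one]
    have h11 : f ^ k = f ^ 1 := by
      rw [← hord] at h10
      exact pow_eq_pow_iff_modEq.mpr h10
    rw [pow_one] at h11
    have hl1 : ¬ l ∣ 1 := fun hdvd => s.hl.one_lt.ne' (Nat.dvd_one.mp hdvd)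
    obtain ⟨c, hc⟩ := s.hfrob 1 hl1
    rw [pow_one, hk, h11, mul_inv_cancel, one_pow] at hc
    exact hf1 hc.symm
  · have h8 : orderOf uk ∣ Fintype.card (ZMod p)ˣ := orderOf_dvd_card
    rw [ZMod.card_units, h7] at h8
    exact h8


end FAct

end Cfsg.Agent.Lib.Helper23.PQ
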