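import Mathlib
import Cfsg.Agent.Lib.Helper23.S3C

set_option autoImplicit false
set_option linter.unusedSectionVars false

namespace Cfsg.Agent.Lib.Helper23.S3

open Subgroup
open scoped commutatorElement

variable {Γ : Type*} [Group Γ] {X : Subgroup Γ} {f h : Γ}

/-- `a K a⁻¹` -/
def cjL (a : Γ) (K : Subgroup Γ) : Subgroup Γ where
  carrier := {k | a⁻¹ * k * a ∈ K}
  mul_mem' := by
    intro x y hx hy
    have e : a⁻¹ * (x * y) * a = (a⁻¹ * x * a) * (a⁻¹ * y * a) := by group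
    show a⁻¹ * (x * y) * a ∈ K
    rw [e]
    exact K.mul_mem hx hy
  one_mem' := by
    show a⁻¹ * 1 * a ∈ K
    simp
  inv_mem' := by
    intro x hx
    have e : a⁻¹ * x⁻¹ * a = (a⁻¹ * x * a)⁻¹ := by group
    show a⁻¹ * x⁻¹ * a ∈ K
    rw [e]
    exact K.inv_mem hx

theorem mem_cjL {a : Γ} {K : Subgroup Γ} {k : Γ} : k ∈ cjL a K ↔ a⁻¹ * k * a ∈ K := Iff.rfl

/-- `a⁻¹ K a` -/
def cjR (a : Γ) (K : Subgroup Γ) : Subgroup Γ where
  carrier := {k | a * k * a⁻¹ ∈ K}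
  mul_mem' := by
    intro x y hx hy
    have e : a * (x * y) * a⁻¹ = (a * x * a⁻¹) * (a * y * a⁻¹) := by group
    show a * (x * y) * a⁻¹ ∈ K
    rw [e]
    exact K.mul_mem hx hy
  one_mem' := by
    show a * 1 * a⁻¹ ∈ K
    simp
  inv_mem' := by
    intro x hx
    have e : a * x⁻¹ * a⁻¹ = (a * x * a⁻¹)⁻¹ := by group
    show a * x⁻¹ * a⁻¹ ∈ K
    rw [e]
    exact K.inv_mem hx

theorem mem_cjR {a : Γ} {K : Subgroup Γ} {k : Γ} : k ∈ cjR a K ↔ a * k * a⁻¹ ∈ K := Iff.rfl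

/-- normal subgroups of `X` meeting trivially commute -/
theorem comm_of_normal_disjoint {A B X : Subgroup Γ} (hAX : A ≤ X) (hBX : B ≤ X)
    (hAn : ∀ x ∈ X, ∀ a ∈ A, x * a * x⁻¹ ∈ A) (hBn : ∀ x ∈ X, ∀ b ∈ B, x * b * x⁻¹ ∈ B)
    (hdis : ∀ k, k ∈ A → k ∈ B → k = 1) : ∀ a ∈ A, ∀ b ∈ B, a * b = b * a := by
  intro a ha b hb
  have h1 : a * b * a⁻¹ * b⁻¹ ∈ A := by
    have e : a * b * a⁻¹ * b⁻¹ = a * (b * a⁻¹ * b⁻¹) := by group
    rw [e]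
    exact A.mul_mem ha (hAn b (hBX hb) _ (A.inv_mem ha))
  have h2 : a * b * a⁻¹ * b⁻¹ ∈ B := B.mul_mem (hBn a (hAX ha) b hb) (B.inv_mem hb)
  have h3 := hdis _ h1 h2
  calc a * b = (a * b * a⁻¹ * b⁻¹) * (b * a) := by group
    _ = b * a := by rw [h3, one_mul]

namespace Act

theorem ff (s : Act X f h) : f * f = f⁻¹ := by
  rw [s.f_inv, pow_two]

theorem fifi (s : Act X f h) : f⁻¹ * f⁻¹ = f := by
  have := s.ff
  calc f⁻¹ * f⁻¹ = (f * f)⁻¹ := by group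
    _ = f := by rw [this, inv_inv]

theorem hh (s : Act X f h) : h * h = 1 := by
  rw [← pow_two]; exact s.hh2

theorem fhfh (s : Act X f h) : f⁻¹ * h * f * h = f := by
  have h1 := s.hf_eq
  calc f⁻¹ * h * f * h = f⁻¹ * (h * f) * h := by group
    _ = f⁻¹ * (f⁻¹ * h) * h := by rw [h1]
    _ = (f⁻¹ * f⁻¹) * (h * h) := by group
    _ = f := by rw [s.fifi, s.hh, mul_one]

end Act

/-- the configuration of the key group-theoretic lemma -/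
structure G1H (X : Subgroup Γ) (f h : Γ) (K₀ : Subgroup Γ) : Prop where
  act : Act X f h
  hKX : K₀ ≤ X
  hKn : ∀ x ∈ X, ∀ k ∈ K₀, x * k * x⁻¹ ∈ K₀
  hKh : ∀ k ∈ K₀, h * k * h⁻¹ ∈ K₀
  hc : ∀ x ∈ X, x⁻¹ * (h * x * h⁻¹) ∈ K₀
  ht : ∀ k ∈ K₀, f⁻¹ * k * f ∈ K₀ → f * k * f⁻¹ ∈ K₀ → k = 1

namespace G1H

variable {K₀ : Subgroup Γ} [Finite Γ]

/-- `f` acts fixed-point-freely -/
theorem cent_f (g : G1H X f h K₀) {c : Γ} (hcX : c ∈ X) (hcf : f * c = c * f) : c = 1 := by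
  have h1 := g.act.inv hcX hcf
  have h2 := g.hc c hcX
  rw [h1] at h2
  have h3 : (c⁻¹) ^ 2 ∈ K₀ := by rw [pow_two]; exact h2
  have h4 : c⁻¹ ∈ K₀ := g.act.mem_of_sq_mem (X.inv_mem hcX) h3
  have h5 : c ∈ K₀ := by simpa using K₀.inv_mem h4
  have e1 : f⁻¹ * c * f = c := by
    calc f⁻¹ * c * f = f⁻¹ * (c * f) := by group
      _ = f⁻¹ * (f * c) := by rw [hcf]
      _ = c := by group
  have e2 : f * c * f⁻¹ = c := by rw [hcf]; group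
  exact g.ht c h5 (by rw [e1]; exact h5) (by rw [e2]; exact h5)

/-- the norm map of `f` is trivial -/
theorem norm_f (g : G1H X f h K₀) {x : Γ} (hx : x ∈ X) :
    x * (f * x * f⁻¹) * (f⁻¹ * x * f) = 1 := by
  classical
  let θ : ↥X → ↥X := fun y => ⟨y.1⁻¹ * (f * y.1 * f⁻¹), X.mul_mem (X.inv_mem y.2) (g.act.hfX _ y.2)⟩
  have hinj : Function.Injective θ := by
    intro a b hab
    have h1 : a.1⁻¹ * (f * a.1 * f⁻¹) = b.1⁻¹ * (f * b.1 * f⁻¹) := congrArg Subtype.val hab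
    have h3 : f * (b.1 * a.1⁻¹) = (b.1 * a.1⁻¹) * f := by
      calc f * (b.1 * a.1⁻¹) = b.1 * (b.1⁻¹ * (f * b.1 * f⁻¹)) * (f * a.1⁻¹) := by group
        _ = b.1 * (a.1⁻¹ * (f * a.1 * f⁻¹)) * (f * a.1⁻¹) := by rw [h1]
        _ = (b.1 * a.1⁻¹) * f := by group
    have h4 := g.cent_f (X.mul_mem b.2 (X.inv_mem a.2)) h3
    apply Subtype.ext
    exact (mul_inv_eq_one.mp h4).symm
  have hsurj : Function.Surjective θ := Finite.injective_iff_surjective.mp hinj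
  obtain ⟨y, hy⟩ := hsurj ⟨x, hx⟩
  have h1 : y.1⁻¹ * (f * y.1 * f⁻¹) = x := congrArg Subtype.val hy
  have hfff : f * f * f = 1 := by
    have := g.act.hf3
    rw [pow_succ, pow_two] at this
    exact this
  rw [← h1]
  calc y.1⁻¹ * (f * y.1 * f⁻¹) * (f * (y.1⁻¹ * (f * y.1 * f⁻¹)) * f⁻¹) *
        (f⁻¹ * (y.1⁻¹ * (f * y.1 * f⁻¹)) * f)
      = y.1⁻¹ * (f * f) * y.1 * (f * f * f)⁻¹ * y.1⁻¹ * f * y.1 := by group
    _ = 1 := by rw [hfff, g.act.ff]; group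

/-- `K₀ ∩ K₁ = 1` -/
theorem inter01 (g : G1H X f h K₀) {k : Γ} (h0 : k ∈ K₀) (h1 : f⁻¹ * k * f ∈ K₀) : k = 1 := by
  have hN := g.norm_f (g.hKX h0)
  -- `y = k * x₁ = x₂⁻¹`
  have hy : k * (f * k * f⁻¹) = (f⁻¹ * k * f)⁻¹ := eq_inv_of_mul_eq_one_left hN
  have hy0 : k * (f * k * f⁻¹) ∈ K₀ := by rw [hy]; exact K₀.inv_mem h1
  have hy1 : f⁻¹ * (k * (f * k * f⁻¹)) * f ∈ K₀ := by
    have e : f⁻¹ * (k * (f * k * f⁻¹)) * f = (f⁻¹ * k * f) * k := by group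
    rw [e]
    exact K₀.mul_mem h1 h0
  have hy2 : f * (k * (f * k * f⁻¹)) * f⁻¹ ∈ K₀ := by
    rw [hy]
    have e : f * (f⁻¹ * k * f)⁻¹ * f⁻¹ = k⁻¹ := by group
    rw [e]
    exact K₀.inv_mem h0
  have hy1' := g.ht _ hy0 hy1 hy2
  have hx₁ : f * k * f⁻¹ = k⁻¹ := eq_inv_of_mul_eq_one_right hy1'
  have hx₁0 : f * k * f⁻¹ ∈ K₀ := by rw [hx₁]; exact K₀.inv_mem h0
  have hx₁1 : f⁻¹ * (f * k * f⁻¹) * f ∈ K₀ := by
    have e : f⁻¹ * (f * k * f⁻¹) * f = k := by group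
    rw [e]; exact h0
  have hx₁2 : f * (f * k * f⁻¹) * f⁻¹ ∈ K₀ := by
    have e : f * (f * k * f⁻¹) * f⁻¹ = (f * f) * k * (f * f)⁻¹ := by group
    rw [e, g.act.ff, inv_inv]
    exact h1
  have h2 := g.ht _ hx₁0 hx₁1 hx₁2
  rw [hx₁] at h2
  exact inv_eq_one.mp h2

/-- `K₁ ∩ K₂ = 1` -/
theorem inter12 (g : G1H X f h K₀) {k : Γ} (h1 : f⁻¹ * k * f ∈ K₀) (h2 : f * k * f⁻¹ ∈ K₀) :
    k = 1 := by
  have h3 : f⁻¹ * (f⁻¹ * k * f) * f ∈ K₀ := by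
    have e : f⁻¹ * (f⁻¹ * k * f) * f = (f⁻¹ * f⁻¹) * k * (f⁻¹ * f⁻¹)⁻¹ := by
      simp only [mul_assoc, mul_inv_rev, inv_inv]
    rw [e, g.act.fifi]
    exact h2
  have h4 := g.inter01 h1 h3
  calc k = f * (f⁻¹ * k * f) * f⁻¹ := by group
    _ = 1 := by rw [h4]; group

/-- `K₀ ∩ K₂ = 1` -/
theorem inter02 (g : G1H X f h K₀) {k : Γ} (h0 : k ∈ K₀) (h2 : f * k * f⁻¹ ∈ K₀) : k = 1 := by
  have h3 : f⁻¹ * (f * k * f⁻¹) * f ∈ K₀ := by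
    have e : f⁻¹ * (f * k * f⁻¹) * f = k := by group
    rw [e]; exact h0
  have h4 := g.inter01 h2 h3
  calc k = f⁻¹ * (f * k * f⁻¹) * f := by group
    _ = 1 := by rw [h4]; group

theorem K1_le (g : G1H X f h K₀) : cjL f K₀ ≤ X := by
  intro k hk
  have := g.act.hfX _ (g.hKX hk)
  have e : f * (f⁻¹ * k * f) * f⁻¹ = k := by group
  rwa [e] at this

theorem K2_le (g : G1H X f h K₀) : cjR f K₀ ≤ X := by
  intro k hk
  have := g.act.hfX' _ (g.hKX hk)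
  have e : f⁻¹ * (f * k * f⁻¹) * f = k := by group
  rwa [e] at this

theorem K1_normal (g : G1H X f h K₀) : ∀ x ∈ X, ∀ k ∈ cjL f K₀, x * k * x⁻¹ ∈ cjL f K₀ := by
  intro x hx k hk
  rw [mem_cjL] at hk ⊢
  have e : f⁻¹ * (x * k * x⁻¹) * f = (f⁻¹ * x * f) * (f⁻¹ * k * f) * (f⁻¹ * x * f)⁻¹ := by group
  rw [e]
  exact g.hKn _ (g.act.hfX' x hx) _ hk

theorem K2_normal (g : G1H X f h K₀) : ∀ x ∈ X, ∀ k ∈ cjR f K₀, x * k * x⁻¹ ∈ cjR f K₀ := by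
  intro x hx k hk
  rw [mem_cjR] at hk ⊢
  have e : f * (x * k * x⁻¹) * f⁻¹ = (f * x * f⁻¹) * (f * k * f⁻¹) * (f * x * f⁻¹)⁻¹ := by group
  rw [e]
  exact g.hKn _ (g.act.hfX x hx) _ hk

theorem comm01 (g : G1H X f h K₀) : ∀ a ∈ K₀, ∀ b ∈ cjL f K₀, a * b = b * a :=
  comm_of_normal_disjoint g.hKX g.K1_le g.hKn g.K1_normal (fun _ h0 h1 => g.inter01 h0 h1)

theorem comm02 (g : G1H X f h K₀) : ∀ a ∈ K₀, ∀ b ∈ cjR f K₀, a * b = b * a :=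
  comm_of_normal_disjoint g.hKX g.K2_le g.hKn g.K2_normal (fun _ h0 h2 => g.inter02 h0 h2)

theorem comm12 (g : G1H X f h K₀) : ∀ a ∈ cjL f K₀, ∀ b ∈ cjR f K₀, a * b = b * a :=
  comm_of_normal_disjoint g.K1_le g.K2_le g.K1_normal g.K2_normal
    (fun _ h1 h2 => g.inter12 h1 h2)

/-- `h K₁ h⁻¹ = K₂` -/
theorem h_K1 (g : G1H X f h K₀) {k : Γ} (hk : k ∈ cjL f K₀) : h * k * h⁻¹ ∈ cjR f K₀ := by
  rw [mem_cjL] at hk
  rw [mem_cjR]
  have e : f * (h * k * h⁻¹) * f⁻¹ = h * ((h⁻¹ * f * h) * k * (h⁻¹ * f * h)⁻¹) * h⁻¹ := by group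
  rw [e, g.act.hinv_f_h, inv_inv]
  exact g.hKh _ hk

/-- `h K₂ h⁻¹ = K₁` -/
theorem h_K2 (g : G1H X f h K₀) {k : Γ} (hk : k ∈ cjR f K₀) : h * k * h⁻¹ ∈ cjL f K₀ := by
  rw [mem_cjR] at hk
  rw [mem_cjL]
  have e : f⁻¹ * (h * k * h⁻¹) * f = h * ((h⁻¹ * f * h)⁻¹ * k * (h⁻¹ * f * h)) * h⁻¹ := by group
  rw [e, g.act.hinv_f_h, inv_inv]
  exact g.hKh _ hk

/-- `K₀` is abelian -/
theorem comm00 (g : G1H X f h K₀) : ∀ a ∈ K₀, ∀ b ∈ K₀, a * b = b * a := by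
  intro r' hr' r hr
  -- `r = a * b⁻¹` with `a = h₁ r h₁⁻¹ ∈ K₂`, `b = r⁻¹ h₁ r h₁⁻¹ ∈ K₁`, `h₁ = f h f⁻¹`
  have hk2 : f⁻¹ * r * f ∈ cjR f K₀ := by
    rw [mem_cjR]
    have e : f * (f⁻¹ * r * f) * f⁻¹ = r := by group
    rw [e]; exact hr
  have ha : (f * h * f⁻¹) * r * (f * h * f⁻¹)⁻¹ ∈ cjR f K₀ := by
    have h1 := g.h_K2 hk2
    rw [mem_cjL] at h1
    rw [mem_cjR]
    have e : f * ((f * h * f⁻¹) * r * (f * h * f⁻¹)⁻¹) * f⁻¹ =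
        (f * f) * (h * (f⁻¹ * r * f) * h⁻¹) * (f * f)⁻¹ := by group
    rw [e, g.act.ff, inv_inv]
    exact h1
  have hb : r⁻¹ * ((f * h * f⁻¹) * r * (f * h * f⁻¹)⁻¹) ∈ cjL f K₀ := by
    rw [mem_cjL]
    have h1 := g.hc _ (g.act.hfX' r (g.hKX hr))
    have e : f⁻¹ * (r⁻¹ * ((f * h * f⁻¹) * r * (f * h * f⁻¹)⁻¹)) * f =
        (f⁻¹ * r * f)⁻¹ * (h * (f⁻¹ * r * f) * h⁻¹) := by group
    rw [e]
    exact h1
  have c1 := g.comm02 r' hr' _ ha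
  have c2 := g.comm01 r' hr' _ hb
  have e : r = ((f * h * f⁻¹) * r * (f * h * f⁻¹)⁻¹) *
      (r⁻¹ * ((f * h * f⁻¹) * r * (f * h * f⁻¹)⁻¹))⁻¹ := by group
  have c3 : Commute r' (((f * h * f⁻¹) * r * (f * h * f⁻¹)⁻¹) *
      (r⁻¹ * ((f * h * f⁻¹) * r * (f * h * f⁻¹)⁻¹))⁻¹) :=
    (show Commute r' _ from c1).mul_right (show Commute r' _ from c2).inv_right
  rw [← e] at c3
  exact c3

/-- an invariant subgroup containing `K₀` is everything -/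
theorem gen (g : G1H X f h K₀) {L : Subgroup Γ} (hLX : L ≤ X) (hK : K₀ ≤ L)
    (hfL : ∀ l ∈ L, f * l * f⁻¹ ∈ L) (hhL : ∀ l ∈ L, h * l * h⁻¹ ∈ L) : X ≤ L := by
  intro x hx
  have h2 : x⁻¹ * (h * x * h⁻¹) ∈ L := hK (g.hc x hx)
  have hu : h * x * h⁻¹ ∈ X := g.act.hhX x hx
  have h3 := g.hc _ (g.act.hfX _ hu)
  have h4 := conj_inv_mem_of_finite hfL _ (hK h3)
  have h1 : x⁻¹ * (f * x * f⁻¹) ∈ L := by
    have e : x⁻¹ * (f * x * f⁻¹) = (x⁻¹ * (h * x * h⁻¹)) *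
        (f⁻¹ * ((f * (h * x * h⁻¹) * f⁻¹)⁻¹ * (h * (f * (h * x * h⁻¹) * f⁻¹) * h⁻¹)) * f) := by
      have e1 := g.act.fhfh
      calc x⁻¹ * (f * x * f⁻¹) = x⁻¹ * ((f⁻¹ * h * f * h) * x * (f⁻¹ * h * f * h)⁻¹) := by rw [e1]
        _ = _ := by group
    rw [e]
    exact L.mul_mem h2 h4
  exact g.act.fpf_mod hLX hfL hhL hx h1 h2


/-- everything centralises `K₀`, `K₁`, `K₂` -/
theorem central (g : G1H X f h K₀) : ∀ x ∈ X, ∀ k ∈ K₀, x * k = k * x := by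
  set C : Subgroup Γ := X ⊓ centralizer (K₀ : Set Γ) ⊓ centralizer ((cjL f K₀ : Subgroup Γ) : Set Γ)
    ⊓ centralizer ((cjR f K₀ : Subgroup Γ) : Set Γ) with hC
  have hmemC : ∀ x, x ∈ C ↔ x ∈ X ∧ (∀ k ∈ K₀, k * x = x * k) ∧ (∀ k ∈ cjL f K₀, k * x = x * k) ∧
      (∀ k ∈ cjR f K₀, k * x = x * k) := by
    intro x
    rw [hC, Subgroup.mem_inf, Subgroup.mem_inf, Subgroup.mem_inf, mem_centralizer_iff,
      mem_centralizer_iff, mem_centralizer_iff]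
    constructor
    · rintro ⟨⟨⟨h1, h2⟩, h3⟩, h4⟩
      exact ⟨h1, h2, h3, h4⟩
    · rintro ⟨h1, h2, h3, h4⟩
      exact ⟨⟨⟨h1, h2⟩, h3⟩, h4⟩
  have hCX : C ≤ X := fun x hx => ((hmemC x).mp hx).1
  have hKC : K₀ ≤ C := by
    intro k hk
    rw [hmemC]
    refine ⟨g.hKX hk, ?_, ?_, ?_⟩
    · intro k' hk'
      exact g.comm00 k' hk' k hk
    · intro k' hk'
      exact (g.comm01 k hk k' hk').symm
    · intro k' hk'
      exact (g.comm02 k hk k' hk').symm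
  -- transport of commutation under conjugation
  have hconj : ∀ (a x k : Γ), (a⁻¹ * k * a) * x = x * (a⁻¹ * k * a) →
      k * (a * x * a⁻¹) = (a * x * a⁻¹) * k := by
    intro a x k hk
    calc k * (a * x * a⁻¹) = a * ((a⁻¹ * k * a) * x) * a⁻¹ := by group
      _ = a * (x * (a⁻¹ * k * a)) * a⁻¹ := by rw [hk]
      _ = (a * x * a⁻¹) * k := by group
  have hfC : ∀ l ∈ C, f * l * f⁻¹ ∈ C := by
    intro x hx
    rw [hmemC] at hx ⊢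
    obtain ⟨hxX, h0, h1, h2⟩ := hx
    refine ⟨g.act.hfX x hxX, ?_, ?_, ?_⟩
    · intro k hk
      apply hconj
      apply h2
      rw [mem_cjR]
      have e : f * (f⁻¹ * k * f) * f⁻¹ = k := by group
      rw [e]; exact hk
    · intro k hk
      apply hconj
      exact h0 _ hk
    · intro k hk
      apply hconj
      apply h1
      rw [mem_cjR] at hk
      rw [mem_cjL]
      have e : f⁻¹ * (f⁻¹ * k * f) * f = (f⁻¹ * f⁻¹) * k * (f⁻¹ * f⁻¹)⁻¹ := by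
        simp only [mul_assoc, mul_inv_rev, inv_inv]
      rw [e, g.act.fifi]
      exact hk
  have hhC : ∀ l ∈ C, h * l * h⁻¹ ∈ C := by
    intro x hx
    rw [hmemC] at hx ⊢
    obtain ⟨hxX, h0, h1, h2⟩ := hx
    have hinv : ∀ k : Γ, h⁻¹ * k * h = h * k * h⁻¹ := by
      intro k
      rw [g.act.h_inv]
    refine ⟨g.act.hhX x hxX, ?_, ?_, ?_⟩
    · intro k hk
      apply hconj
      apply h0
      rw [hinv]
      exact g.hKh k hk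
    · intro k hk
      apply hconj
      apply h2
      rw [hinv]
      exact g.h_K1 hk
    · intro k hk
      apply hconj
      apply h1
      rw [hinv]
      exact g.h_K2 hk
  have hXC := g.gen hCX hKC hfC hhC
  intro x hx k hk
  exact (((hmemC x).mp (hXC hx)).2.1 k hk).symm

/-- **the key group-theoretic lemma** -/
theorem abelian (g : G1H X f h K₀) : ∀ x ∈ X, ∀ y ∈ X, x * y = y * x := by
  set Z : Subgroup Γ := X ⊓ centralizer (X : Set Γ) with hZ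
  have hmemZ : ∀ x, x ∈ Z ↔ x ∈ X ∧ ∀ y ∈ X, y * x = x * y := by
    intro x
    rw [hZ, Subgroup.mem_inf, mem_centralizer_iff]
    rfl
  have hKZ : K₀ ≤ Z := by
    intro k hk
    rw [hmemZ]
    exact ⟨g.hKX hk, fun y hy => g.central y hy k hk⟩
  have hconj : ∀ (a x k : Γ), (a⁻¹ * k * a) * x = x * (a⁻¹ * k * a) →
      k * (a * x * a⁻¹) = (a * x * a⁻¹) * k := by
    intro a x k hk
    calc k * (a * x * a⁻¹) = a * ((a⁻¹ * k * a) * x) * a⁻¹ := by group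
      _ = a * (x * (a⁻¹ * k * a)) * a⁻¹ := by rw [hk]
      _ = (a * x * a⁻¹) * k := by group
  have hfZ : ∀ l ∈ Z, f * l * f⁻¹ ∈ Z := by
    intro x hx
    rw [hmemZ] at hx ⊢
    refine ⟨g.act.hfX x hx.1, ?_⟩
    intro y hy
    apply hconj
    exact hx.2 _ (g.act.hfX' y hy)
  have hhZ : ∀ l ∈ Z, h * l * h⁻¹ ∈ Z := by
    intro x hx
    rw [hmemZ] at hx ⊢
    refine ⟨g.act.hhX x hx.1, ?_⟩
    intro y hy
    apply hconj
    exact hx.2 _ (g.act.hhX' y hy)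
  have hXZ := g.gen inf_le_left hKZ hfZ hhZ
  intro x hx y hy
  exact (((hmemZ x).mp (hXZ hx)).2 y hy).symm

end G1H


/-- **the key group-theoretic lemma modulo an invariant normal subgroup `L`** -/
theorem G1_mod [Finite Γ] (s : Act X f h) (K₀ L : Subgroup Γ) (hKX : K₀ ≤ X) (hLK : L ≤ K₀)
    (hKn : ∀ x ∈ X, ∀ k ∈ K₀, x * k * x⁻¹ ∈ K₀) (hKh : ∀ k ∈ K₀, h * k * h⁻¹ ∈ K₀)
    (hc : ∀ x ∈ X, x⁻¹ * (h * x * h⁻¹) ∈ K₀)
    (hLn : ∀ x ∈ X, ∀ l ∈ L, x * l * x⁻¹ ∈ L) (hLf : ∀ l ∈ L, f * l * f⁻¹ ∈ L)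
    (hLh : ∀ l ∈ L, h * l * h⁻¹ ∈ L)
    (ht : ∀ k ∈ K₀, f⁻¹ * k * f ∈ K₀ → f * k * f⁻¹ ∈ K₀ → k ∈ L) :
    ∀ x ∈ X, ∀ y ∈ X, ⁅x, y⁆ ∈ L := by
  set N : Subgroup Γ := normalizer (L : Set Γ) with hN
  have hXN : X ≤ N := fun x hx => mem_normalizer_of_conj_mem (hLn x hx)
  have hfN : f ∈ N := mem_normalizer_of_conj_mem hLf
  have hhN : h ∈ N := mem_normalizer_of_conj_mem hLh
  have hKN : K₀ ≤ N := hKX.trans hXN
  set π : ↥N →* ↥N ⧸ L.subgroupOf N := QuotientGroup.mk' (L.subgroupOf N) with hπ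
  have hker : ∀ a : ↥N, π a = 1 ↔ (a : Γ) ∈ L := by
    intro a
    rw [hπ, QuotientGroup.mk'_apply, QuotientGroup.eq_one_iff, mem_subgroupOf]
  have act' := (s.subtype N hfN hhN).map π
  -- lifting membership in the image of `K₀`
  have hlift : ∀ a : ↥N, π a ∈ (K₀.subgroupOf N).map π → (a : Γ) ∈ K₀ := by
    rintro a ⟨b, hb, hab⟩
    rw [SetLike.mem_coe, mem_subgroupOf] at hb
    have h1 : π (b⁻¹ * a) = 1 := by rw [map_mul, map_inv, hab, inv_mul_cancel]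
    have h2 : ((b⁻¹ * a : ↥N) : Γ) ∈ L := (hker _).mp h1
    have h3 : (b : Γ)⁻¹ * (a : Γ) ∈ K₀ := hLK (by simpa using h2)
    have e : (a : Γ) = (b : Γ) * ((b : Γ)⁻¹ * (a : Γ)) := by group
    rw [e]
    exact K₀.mul_mem hb h3
  have g : G1H ((X.subgroupOf N).map π) (π ⟨f, hfN⟩) (π ⟨h, hhN⟩) ((K₀.subgroupOf N).map π) :=
    { act := act'
      hKX := Subgroup.map_mono (fun a ha => by
        rw [mem_subgroupOf] at ha ⊢
        exact hKX ha)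
      hKn := by
        rintro _ ⟨x, hx, rfl⟩ _ ⟨k, hk, rfl⟩
        rw [SetLike.mem_coe, mem_subgroupOf] at hx hk
        refine ⟨x * k * x⁻¹, ?_, by rw [map_mul, map_mul, map_inv]⟩
        rw [SetLike.mem_coe, mem_subgroupOf]
        simpa using hKn _ hx _ hk
      hKh := by
        rintro _ ⟨k, hk, rfl⟩
        rw [SetLike.mem_coe, mem_subgroupOf] at hk
        refine ⟨⟨h, hhN⟩ * k * ⟨h, hhN⟩⁻¹, ?_, by rw [map_mul, map_mul, map_inv]⟩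
        rw [SetLike.mem_coe, mem_subgroupOf]
        simpa using hKh _ hk
      hc := by
        rintro _ ⟨x, hx, rfl⟩
        rw [SetLike.mem_coe, mem_subgroupOf] at hx
        refine ⟨x⁻¹ * (⟨h, hhN⟩ * x * ⟨h, hhN⟩⁻¹), ?_, by
          rw [map_mul, map_mul, map_mul, map_inv, map_inv]⟩
        rw [SetLike.mem_coe, mem_subgroupOf]
        simpa using hc _ hx
      ht := by
        rintro _ ⟨k, hk, rfl⟩ h1 h2
        rw [SetLike.mem_coe, mem_subgroupOf] at hk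
        have h1' : π (⟨f, hfN⟩⁻¹ * k * ⟨f, hfN⟩) ∈ (K₀.subgroupOf N).map π := by
          rw [map_mul, map_mul, map_inv]; exact h1
        have h2' : π (⟨f, hfN⟩ * k * ⟨f, hfN⟩⁻¹) ∈ (K₀.subgroupOf N).map π := by
          rw [map_mul, map_mul, map_inv]; exact h2
        have h3 := hlift _ h1'
        have h4 := hlift _ h2'
        have h5 := ht _ hk (by simpa using h3) (by simpa using h4)
        exact (hker k).mpr h5 }
  intro x hx y hy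
  have h1 := g.abelian (π ⟨x, hXN hx⟩) (Subgroup.mem_map_of_mem _ (mem_subgroupOf.mpr hx))
    (π ⟨y, hXN hy⟩) (Subgroup.mem_map_of_mem _ (mem_subgroupOf.mpr hy))
  have h2 : π ⁅(⟨x, hXN hx⟩ : ↥N), ⟨y, hXN hy⟩⁆ = 1 := by
    rw [map_commutatorElement]
    exact commutatorElement_eq_one_iff_mul_comm.mpr h1
  have h3 := (hker _).mp h2
  exact h3


/-- the key lemma with `L` the intersection of the three conjugates of `K₀` -/
theorem G1_ker [Finite Γ] (s : Act X f h) (K₀ : Subgroup Γ) (hKX : K₀ ≤ X)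
    (hKn : ∀ x ∈ X, ∀ k ∈ K₀, x * k * x⁻¹ ∈ K₀) (hKh : ∀ k ∈ K₀, h * k * h⁻¹ ∈ K₀)
    (hc : ∀ x ∈ X, x⁻¹ * (h * x * h⁻¹) ∈ K₀) :
    ∀ x ∈ X, ∀ y ∈ X, ⁅x, y⁆ ∈ K₀ := by
  have hmem : ∀ k, k ∈ K₀ ⊓ cjL f K₀ ⊓ cjR f K₀ ↔
      k ∈ K₀ ∧ f⁻¹ * k * f ∈ K₀ ∧ f * k * f⁻¹ ∈ K₀ := by
    intro k
    rw [Subgroup.mem_inf, Subgroup.mem_inf, mem_cjL, mem_cjR, and_assoc]
  have key := G1_mod s K₀ (K₀ ⊓ cjL f K₀ ⊓ cjR f K₀) hKX (inf_le_left.trans inf_le_left) hKn hKh hc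
    (by
      intro x hx l hl
      rw [hmem] at hl ⊢
      obtain ⟨h0, h1, h2⟩ := hl
      refine ⟨hKn x hx l h0, ?_, ?_⟩
      · have e : f⁻¹ * (x * l * x⁻¹) * f = (f⁻¹ * x * f) * (f⁻¹ * l * f) * (f⁻¹ * x * f)⁻¹ := by
          group
        rw [e]
        exact hKn _ (s.hfX' x hx) _ h1
      · have e : f * (x * l * x⁻¹) * f⁻¹ = (f * x * f⁻¹) * (f * l * f⁻¹) * (f * x * f⁻¹)⁻¹ := by
          group
        rw [e]
        exact hKn _ (s.hfX x hx) _ h2)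
    (by
      intro l hl
      rw [hmem] at hl ⊢
      obtain ⟨h0, h1, h2⟩ := hl
      refine ⟨h2, ?_, ?_⟩
      · have e : f⁻¹ * (f * l * f⁻¹) * f = l := by group
        rw [e]; exact h0
      · have e : f * (f * l * f⁻¹) * f⁻¹ = (f * f) * l * (f * f)⁻¹ := by
          simp only [mul_assoc, mul_inv_rev]
        rw [e, s.ff, inv_inv]
        exact h1)
    (by
      intro l hl
      rw [hmem] at hl ⊢
      obtain ⟨h0, h1, h2⟩ := hl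
      refine ⟨hKh l h0, ?_, ?_⟩
      · have e : f⁻¹ * (h * l * h⁻¹) * f = h * ((h⁻¹ * f * h)⁻¹ * l * (h⁻¹ * f * h)) * h⁻¹ := by
          group
        rw [e, s.hinv_f_h, inv_inv]
        exact hKh _ h2
      · have e : f * (h * l * h⁻¹) * f⁻¹ = h * ((h⁻¹ * f * h) * l * (h⁻¹ * f * h)⁻¹) * h⁻¹ := by
          group
        rw [e, s.hinv_f_h, inv_inv]
        exact hKh _ h1)
    (by
      intro k h0 h1 h2
      rw [hmem]
      exact ⟨h0, h1, h2⟩)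
  intro x hx y hy
  exact ((hmem _).mp (key x hx y hy)).1

/-- the centraliser of `f` in `X` is abelian -/
theorem Act.cent_f_comm [Finite Γ] (s : Act X f h) {c c' : Γ} (hc : c ∈ X) (hcf : f * c = c * f)
    (hc' : c' ∈ X) (hc'f : f * c' = c' * f) : c * c' = c' * c := by
  have h1 := s.inv hc hcf
  have h2 := s.inv hc' hc'f
  have h3 : f * (c * c') = (c * c') * f :=
    ((show Commute f c from hcf).mul_right (show Commute f c' from hc'f))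
  have h4 := s.inv (X.mul_mem hc hc') h3
  have h5 : h * (c * c') * h⁻¹ = (h * c * h⁻¹) * (h * c' * h⁻¹) := by group
  rw [h5, h1, h2] at h4
  have h6 : (c' * c)⁻¹ = (c * c')⁻¹ := by rw [mul_inv_rev]; exact h4
  exact (inv_injective h6).symm

end Cfsg.Agent.Lib.Helper23.S3
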