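import Mathlib
import Cfsg.Agent.Lib.Helper23.S3B
import Cfsg.Agent.Lib.Helper23.S3D

set_option autoImplicit false
set_option linter.unusedSectionVars false

namespace Cfsg.Agent.Lib.Helper23.S3

open Module Subgroup
open Cfsg.Agent.Lib.Helper23.Ward
open scoped commutatorElement

universe u

variable {K : Type*} [Field K] {Γ : Type*} [Group Γ] {V : Type u} [AddCommGroup V] [Module K V]

/-- **Lemma M**: extracting the component of a given weight from a vanishing sum of translates of a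
weight vector -/
theorem lemmaM (ρ : Representation K Γ V) (Z : Subgroup Γ) {ι : Type*} [DecidableEq ι]
    (s : Finset ι) (g : ι → Γ) (hg : ∀ i ∈ s, g i ∈ normalizer (Z : Set Γ)) (χ : Γ → K) (v : V)
    (hv : v ∈ wt ρ Z χ) (hsum : ∑ i ∈ s, ρ (g i) v = 0) (i₀ : ι) (hi₀ : i₀ ∈ s)
    [DecidablePred (fun i => ∀ z ∈ Z, cj (g i) χ z = cj (g i₀) χ z)] :
    ∑ i ∈ s.filter (fun i => ∀ z ∈ Z, cj (g i) χ z = cj (g i₀) χ z), ρ (g i) v = 0 := by
  classical
  let r : ι → (↥Z → K) := fun i z => cj (g i) χ z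
  let χ' : (↥Z → K) → Γ → K := fun ψ γ => if hγ : γ ∈ Z then ψ ⟨γ, hγ⟩ else 0
  have hχ' : ∀ i, ∀ z ∈ Z, χ' (r i) z = cj (g i) χ z := by
    intro i z hz
    simp only [χ', r, dif_pos hz]
  have hdist : ∀ ψ ∈ s.image r, ∀ ψ' ∈ s.image r, ψ ≠ ψ' → ∃ z ∈ Z, χ' ψ z ≠ χ' ψ' z := by
    intro ψ _ ψ' _ hne
    by_contra hcon
    push Not at hcon
    apply hne
    funext z
    have := hcon z.1 z.2
    simp only [χ', dif_pos z.2] at this
    exact this
  let t : (↥Z → K) → V := fun ψ => ∑ i ∈ s.filter (fun i => r i = ψ), ρ (g i) v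
  have ht : ∀ ψ ∈ s.image r, t ψ ∈ wt ρ Z (χ' ψ) := by
    intro ψ _
    apply Submodule.sum_mem
    intro i hi
    rw [Finset.mem_filter] at hi
    have h1 := map_wt (hg i hi.1) hv
    refine wt_congr ?_ h1
    intro z hz
    rw [← hi.2, hχ' i z hz]
  have htsum : ∑ ψ ∈ s.image r, t ψ = 0 := by
    rw [← hsum]
    exact Finset.sum_fiberwise_of_maps_to (fun i hi => Finset.mem_image_of_mem r hi) _
  have h0 := wt_indep ρ Z (s.image r) χ' hdist t ht htsum (r i₀) (Finset.mem_image_of_mem r hi₀)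
  have hfilter : s.filter (fun i => ∀ z ∈ Z, cj (g i) χ z = cj (g i₀) χ z) =
      s.filter (fun i => r i = r i₀) := by
    apply Finset.filter_congr
    intro i _
    constructor
    · intro h1
      funext z
      exact h1 z.1 z.2
    · intro h1 z hz
      exact congrFun h1 ⟨z, hz⟩
  rw [hfilter]
  exact h0

/-- special case: only `i₀` has the weight of `g i₀` -/
theorem lemmaM_single (ρ : Representation K Γ V) (Z : Subgroup Γ) {ι : Type*} [DecidableEq ι]
    (s : Finset ι) (g : ι → Γ) (hg : ∀ i ∈ s, g i ∈ normalizer (Z : Set Γ)) (χ : Γ → K) (v : V)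
    (hv : v ∈ wt ρ Z χ) (hsum : ∑ i ∈ s, ρ (g i) v = 0) (i₀ : ι) (hi₀ : i₀ ∈ s)
    (hne : ∀ i ∈ s, i ≠ i₀ → ∃ z ∈ Z, cj (g i) χ z ≠ cj (g i₀) χ z) : ρ (g i₀) v = 0 := by
  classical
  have h1 := lemmaM ρ Z s g hg χ v hv hsum i₀ hi₀
  have h2 : s.filter (fun i => ∀ z ∈ Z, cj (g i) χ z = cj (g i₀) χ z) = {i₀} := by
    ext i
    rw [Finset.mem_filter, Finset.mem_singleton]
    constructor
    · rintro ⟨hi, h3⟩
      by_contra hne'
      obtain ⟨z, hz, hz'⟩ := hne i hi hne'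
      exact hz' (h3 z hz)
    · rintro rfl
      exact ⟨hi₀, fun z _ => rfl⟩
  rw [h2, Finset.sum_singleton] at h1
  exact h1


/-- the relative setting: a central step `Z` of `Q` acting by commuting operators on `U` -/
structure CtxA (ρ : Representation K Γ V) (Q : Subgroup Γ) (f h : Γ) (Z : Subgroup Γ)
    (U : Submodule K V) : Prop where
  hZQ : Z ≤ Q
  hQZ : Q ≤ normalizer (Z : Set Γ)
  hfZ : f ∈ normalizer (Z : Set Γ)
  hhZ : h ∈ normalizer (Z : Set Γ)
  hUQ : ∀ x ∈ Q, ∀ u ∈ U, ρ x u ∈ U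
  hUf : ∀ u ∈ U, ρ f u ∈ U
  hUh : ∀ u ∈ U, ρ h u ∈ U
  hcomm : ∀ z ∈ Z, ∀ t ∈ Q, ∀ u ∈ U, ρ z (ρ t u) = ρ t (ρ z u)

/-- the hypotheses of Lemma A -/
structure HypA (ρ : Representation K Γ V) (t : ℕ) (Q : Subgroup Γ) (f h : Γ) : Prop where
  act : Act Q f h
  ht : t.Prime
  ht5 : 5 ≤ t
  hQ : IsPGroup t Q
  htK : (t : K) ≠ 0
  h2K : (2 : K) ≠ 0
  h3K : (3 : K) ≠ 0
  hfV : ∀ v : V, ρ f v = v → ρ h v = v → v = 0

variable {ρ : Representation K Γ V} {t : ℕ} {Q Z : Subgroup Γ} {f h : Γ} {U : Submodule K V}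
  {χ : Γ → K}

theorem rho_mul_apply (ρ : Representation K Γ V) (a b : Γ) (v : V) : ρ (a * b) v = ρ a (ρ b v) := by
  rw [map_mul]; rfl

theorem HypA.conj (H : HypA ρ t Q f h) : HypA ρ t Q f (f * h * f⁻¹) where
  act := H.act.conj
  ht := H.ht
  ht5 := H.ht5
  hQ := H.hQ
  htK := H.htK
  h2K := H.h2K
  h3K := H.h3K
  hfV := by
    intro v h1 h2
    apply H.hfV v h1
    have h3 : ρ f⁻¹ v = v := by
      have := rho_inv_apply ρ f v
      rw [h1] at this
      exact this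
    have e : h = f⁻¹ * (f * h * f⁻¹) * f := by group
    rw [e, rho_mul_apply, rho_mul_apply, h1, h2, h3]

theorem CtxA.conj [Finite Γ] (c : CtxA ρ Q f h Z U) : CtxA ρ Q f (f * h * f⁻¹) Z U where
  hZQ := c.hZQ
  hQZ := c.hQZ
  hfZ := c.hfZ
  hhZ := Subgroup.mul_mem _ (Subgroup.mul_mem _ c.hfZ c.hhZ) (Subgroup.inv_mem _ c.hfZ)
  hUQ := c.hUQ
  hUf := c.hUf
  hUh := by
    intro u hu
    have hf' : ∀ u ∈ U, ρ f⁻¹ u ∈ U := by
      have h1 : f ∈ Cfsg.Agent.Lib.Helper1.HB.stabSub ρ U := c.hUf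
      exact (Subgroup.inv_mem _ h1)
    rw [rho_mul_apply, rho_mul_apply]
    exact c.hUf _ (c.hUh _ (hf' u hu))
  hcomm := c.hcomm

theorem CtxA.map_Q (c : CtxA ρ Q f h Z U) {x : Γ} (hx : x ∈ Q) {v : V} (hv : v ∈ XX ρ Z U χ) :
    ρ x v ∈ XX ρ Z U χ := by
  refine ⟨c.hUQ x hx v hv.1, ?_⟩
  intro z hz
  rw [c.hcomm z hz x hx v hv.1, hv.2 z hz, map_smul]

theorem CtxA.conj_mem_kerX_Q (c : CtxA ρ Q f h Z U) {x : Γ} (hx : x ∈ Q) {k : Γ}
    (hk : k ∈ kerX ρ Q (XX ρ Z U χ)) : x * k * x⁻¹ ∈ kerX ρ Q (XX ρ Z U χ) :=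
  conj_mem_kerX (le_normalizer hx) (fun _ hv => c.map_Q (Q.inv_mem hx) hv) hk

/-- if the operators of `x` and `y` commute on an invariant subspace, the commutator acts trivially
on it -/
theorem comm_apply_eq_of_comm {X₀ : Submodule K V} {x y : Γ}
    (hx' : ∀ u ∈ X₀, ρ x⁻¹ u ∈ X₀) (hy' : ∀ u ∈ X₀, ρ y⁻¹ u ∈ X₀)
    (hxy : ∀ u ∈ X₀, ρ x (ρ y u) = ρ y (ρ x u)) : ∀ u ∈ X₀, ρ ⁅x, y⁆ u = u := by
  intro u hu
  rw [commutatorElement_def, rho_mul_apply, rho_mul_apply, rho_mul_apply,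
    hxy _ (hx' _ (hy' u hu)), rho_apply_inv, rho_apply_inv]

section Avg

/-- the average over `⟨f⟩` of an `h`-fixed vector vanishes -/
theorem HypA.avg3 (H : HypA ρ t Q f h) {w : V} (hw : ρ h w = w) :
    w + ρ f w + ρ f⁻¹ w = 0 := by
  apply H.hfV
  · rw [map_add, map_add, ← rho_mul_apply, ← rho_mul_apply, H.act.ff, mul_inv_cancel, map_one]
    simp only [Module.End.one_apply]
    abel
  · rw [map_add, map_add, ← rho_mul_apply, ← rho_mul_apply, H.act.hf_eq, H.act.hfinv_eq,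
      rho_mul_apply, rho_mul_apply, hw]
    abel

theorem HypA.h_fixed (H : HypA ρ t Q f h) (v : V) : ρ h (v + ρ h v) = v + ρ h v := by
  rw [map_add, ← rho_mul_apply, H.act.hh, map_one]
  simp only [Module.End.one_apply]
  abel

end Avg


section Cases

variable [Finite Γ]

theorem CtxA.hUf' (c : CtxA ρ Q f h Z U) : ∀ u ∈ U, ρ f⁻¹ u ∈ U := by
  have h1 : f ∈ Cfsg.Agent.Lib.Helper1.HB.stabSub ρ U := c.hUf
  exact (Subgroup.inv_mem _ h1)

theorem CtxA.hUh' (c : CtxA ρ Q f h Z U) : ∀ u ∈ U, ρ h⁻¹ u ∈ U := by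
  have h1 : h ∈ Cfsg.Agent.Lib.Helper1.HB.stabSub ρ U := c.hUh
  exact (Subgroup.inv_mem _ h1)

/-- a normalising element outside the stabiliser moves the weight -/
theorem exists_of_not_mem_stab {g : Γ} (hgZ : g ∈ normalizer (Z : Set Γ)) (hg : g ∉ stab Z χ) :
    ∃ z ∈ Z, cj g χ z ≠ cj 1 χ z := by
  by_contra hcon
  push Not at hcon
  apply hg
  refine ⟨hgZ, ?_⟩
  intro z hz
  have := hcon z hz
  rw [cj_apply, cj_apply] at this
  simpa using this

/-- for `g` in the stabiliser, `z⁻¹ (g z g⁻¹)` acts trivially on the weight space -/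
theorem twist_mem_kerX {g : Γ} (hg : g ∈ stab Z χ) {z : Γ} (hz : z ∈ Z) :
    z⁻¹ * (g * z * g⁻¹) ∈ kerX ρ Z (XX ρ Z U χ) := by
  have hgz : g * z * g⁻¹ ∈ Z := conj_mem_of_mem_normalizer hg.1 hz
  refine ⟨Z.mul_mem (Z.inv_mem hz) hgz, ?_⟩
  intro v hv
  have h1 := hv.2 _ hgz
  have h2 := (Subgroup.inv_mem _ hg).2 z hz
  rw [inv_inv] at h2
  rw [rho_mul_apply, h1, h2, ← hv.2 z hz, rho_inv_apply]

/-- case (a): a nontrivial weight is not stabilised by both `f` and `h` -/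
theorem caseA (H : HypA ρ t Q f h) (c : CtxA ρ Q f h Z U) (w : NW ρ Z U χ)
    (hf : f ∈ stab Z χ) (hh : h ∈ stab Z χ) : False := by
  obtain ⟨z₀, hz₀, hz₀ne⟩ := w.hz
  have hfL : ∀ l ∈ kerX ρ Z (XX ρ Z U χ), f * l * f⁻¹ ∈ kerX ρ Z (XX ρ Z U χ) := by
    intro l hl
    exact conj_mem_kerX c.hfZ
      (fun v hv => map_XX_of_mem_stab c.hUf' (Subgroup.inv_mem _ hf) hv) hl
  have hhL : ∀ l ∈ kerX ρ Z (XX ρ Z U χ), h * l * h⁻¹ ∈ kerX ρ Z (XX ρ Z U χ) := by
    intro l hl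
    exact conj_mem_kerX c.hhZ
      (fun v hv => map_XX_of_mem_stab c.hUh' (Subgroup.inv_mem _ hh) hv) hl
  have h1 := H.act.fpf_mod (kerX_le.trans c.hZQ) hfL hhL (c.hZQ hz₀)
    (twist_mem_kerX hf hz₀) (twist_mem_kerX hh hz₀)
  exact hz₀ne (w.chi_eq_one hz₀ h1)

variable [IsAlgClosed K] [FiniteDimensional K V]

/-- case (b): `f` stabilises the weight, `h` does not -/
theorem caseB (H : HypA ρ t Q f h) (c : CtxA ρ Q f h Z U)
    (hf : f ∈ stab Z χ) (hh : h ∉ stab Z χ) :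
    ∀ x ∈ Q, ∀ y ∈ Q, ∀ u ∈ XX ρ Z U χ, ρ ⁅x, y⁆ u = u := by
  classical
  have hXf : ∀ u ∈ XX ρ Z U χ, ρ f u ∈ XX ρ Z U χ := fun u hu => map_XX_of_mem_stab c.hUf hf hu
  have hXf' : ∀ u ∈ XX ρ Z U χ, ρ f⁻¹ u ∈ XX ρ Z U χ :=
    fun u hu => map_XX_of_mem_stab c.hUf' (Subgroup.inv_mem _ hf) hu
  -- no fixed vectors of `f`
  have hfix : ∀ u ∈ XX ρ Z U χ, ρ f u = u → u = 0 := by
    intro u hu hfu
    have hfu' : ρ f⁻¹ u = u := by
      have := rho_inv_apply ρ f u
      rw [hfu] at this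
      exact this
    have h1 : u + ρ h u = 0 := by
      apply H.hfV
      · rw [map_add, ← rho_mul_apply, ← H.act.hfinv_eq, rho_mul_apply, hfu', hfu]
      · exact H.h_fixed u
    have h2 := lemmaM_single ρ Z (Finset.univ : Finset (Fin 2)) ![1, h]
      (by
        intro i _
        fin_cases i
        · exact Subgroup.one_mem _
        · exact c.hhZ) χ u hu.2
      (by
        rw [Fin.sum_univ_two]
        simpa using h1) 0 (Finset.mem_univ _)
      (by
        intro i _ hi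
        fin_cases i
        · exact absurd rfl hi
        · exact exists_of_not_mem_stab c.hhZ hh)
    simpa using h2
  have ht3 : t ≠ 3 := by have := H.ht5; omega
  have h3K : ((3 : ℕ) : K) ≠ 0 := by exact_mod_cast H.h3K
  have hexc : ∀ b : ℕ, 0 < b → t ^ b ≠ 3 - 1 := by
    intro b hb
    have h1 : t ^ 1 ≤ t ^ b := Nat.pow_le_pow_right H.ht.pos hb
    have := H.ht5
    rw [pow_one] at h1
    omega
  have hHH := hh1 ρ H.ht Nat.prime_three ht3 H.htK h3K Q H.hQ f H.act.hf3 H.act.hfX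
    (XX ρ Z U χ) (fun x hx u hu => c.map_Q hx hu) hXf hfix hexc
  have hfQ : f ∈ normalizer (Q : Set Γ) := mem_normalizer_of_conj_mem H.act.hfX
  -- every element of `Q` is congruent to an element of `C_Q(f)` modulo the kernel
  have hlift : ∀ x ∈ Q, ∃ k ∈ kerX ρ Q (XX ρ Z U χ), f * (x * k) = (x * k) * f := by
    intro x hx
    apply H.act.lift_f kerX_le
    · intro l hl
      exact conj_mem_kerX hfQ hXf' hl
    · refine ⟨Q.mul_mem (Q.inv_mem hx) (H.act.hfX x hx), ?_⟩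
      intro u hu
      have h1 := hHH x⁻¹ (Q.inv_mem hx) u hu
      rw [commutatorElement_def, inv_inv] at h1
      have e : x⁻¹ * (f * x * f⁻¹) = x⁻¹ * f * x * f⁻¹ := by group
      rw [e]
      exact h1
  intro x hx y hy
  apply comm_apply_eq_of_comm (fun u hu => c.map_Q (Q.inv_mem hx) hu)
    (fun u hu => c.map_Q (Q.inv_mem hy) hu)
  intro u hu
  obtain ⟨kx, hkx, hcx⟩ := hlift x hx
  obtain ⟨ky, hky, hcy⟩ := hlift y hy
  have hx' : ∀ v ∈ XX ρ Z U χ, ρ (x * kx) v = ρ x v := by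
    intro v hv
    rw [rho_mul_apply, hkx.2 v hv]
  have hy' : ∀ v ∈ XX ρ Z U χ, ρ (y * ky) v = ρ y v := by
    intro v hv
    rw [rho_mul_apply, hky.2 v hv]
  have hcomm := H.act.cent_f_comm (Q.mul_mem hx hkx.1) hcx (Q.mul_mem hy hky.1) hcy
  rw [← hy' u hu, ← hx' _ (by rw [hy' u hu]; exact c.map_Q hy hu), ← rho_mul_apply, hcomm,
    rho_mul_apply, hx' u hu, hy' _ (c.map_Q hx hu)]


/-- case (c): `h` stabilises the weight, `f` does not -/
theorem caseC (H : HypA ρ t Q f h) (c : CtxA ρ Q f h Z U)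
    (hf : f ∉ stab Z χ) (hh : h ∈ stab Z χ) :
    ∀ x ∈ Q, ∀ y ∈ Q, ∀ u ∈ XX ρ Z U χ, ρ ⁅x, y⁆ u = u := by
  classical
  have hXh : ∀ u ∈ XX ρ Z U χ, ρ h u ∈ XX ρ Z U χ := fun u hu => map_XX_of_mem_stab c.hUh hh hu
  have hXh' : ∀ u ∈ XX ρ Z U χ, ρ h⁻¹ u ∈ XX ρ Z U χ :=
    fun u hu => map_XX_of_mem_stab c.hUh' (Subgroup.inv_mem _ hh) hu
  have hf' : f⁻¹ ∉ stab Z χ := by
    intro h1
    apply hf
    have := Subgroup.inv_mem _ h1
    rwa [inv_inv] at this
  -- `h` acts as `-1`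
  have hneg : ∀ u ∈ XX ρ Z U χ, ρ h u = -u := by
    intro u hu
    have hw : u + ρ h u ∈ XX ρ Z U χ := Submodule.add_mem _ hu (hXh u hu)
    have h1 := H.avg3 (H.h_fixed u)
    have h2 := lemmaM_single ρ Z (Finset.univ : Finset (Fin 3)) ![1, f, f⁻¹]
      (by
        intro i _
        fin_cases i
        · exact Subgroup.one_mem _
        · exact c.hfZ
        · exact Subgroup.inv_mem _ c.hfZ) χ (u + ρ h u) hw.2
      (by
        rw [Fin.sum_univ_three]
        simpa using h1) 0 (Finset.mem_univ _)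
      (by
        intro i _ hi
        fin_cases i
        · exact absurd rfl hi
        · exact exists_of_not_mem_stab c.hfZ hf
        · exact exists_of_not_mem_stab (Subgroup.inv_mem _ c.hfZ) hf')
    have h3 : u + ρ h u = 0 := by simpa using h2
    exact (neg_eq_of_add_eq_zero_right h3).symm
  have hhQ : h ∈ normalizer (Q : Set Γ) := mem_normalizer_of_conj_mem H.act.hhX
  have key := G1_ker H.act (kerX ρ Q (XX ρ Z U χ)) kerX_le
    (fun x hx k hk => c.conj_mem_kerX_Q hx hk)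
    (fun k hk => conj_mem_kerX hhQ hXh' hk)
    (by
      intro x hx
      refine ⟨Q.mul_mem (Q.inv_mem hx) (H.act.hhX x hx), ?_⟩
      intro u hu
      have h1 : ρ h⁻¹ u = -u := by
        have := rho_inv_apply ρ h u
        rw [hneg u hu, map_neg] at this
        exact (neg_eq_iff_eq_neg.mp this)
      rw [rho_mul_apply, rho_mul_apply, rho_mul_apply, h1, map_neg, map_neg,
        hneg _ (c.map_Q hx hu), neg_neg, rho_inv_apply])
  intro x hx y hy u hu
  exact (key x hx y hy).2 u hu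

/-- case (d): nothing stabilises the weight -/
theorem caseD (H : HypA ρ t Q f h) (c : CtxA ρ Q f h Z U)
    (hf : f ∉ stab Z χ) (hh0 : h ∉ stab Z χ) (hh1 : f * h * f⁻¹ ∉ stab Z χ)
    (hh2 : f⁻¹ * h * f ∉ stab Z χ) : ∀ u ∈ XX ρ Z U χ, u = 0 := by
  classical
  have hf' : f⁻¹ ∉ stab Z χ := by
    intro h1
    apply hf
    have := Subgroup.inv_mem _ h1
    rwa [inv_inv] at this
  have e1 : f * h = f⁻¹ * h * f := by
    rw [mul_assoc, H.act.hf_eq, ← mul_assoc, H.act.fifi]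
  have e2 : f⁻¹ * h = f * h * f⁻¹ := by
    rw [mul_assoc, H.act.hfinv_eq, ← mul_assoc, H.act.ff]
  intro u hu
  have h1 := H.avg3 (H.h_fixed u)
  have h2 := lemmaM_single ρ Z (Finset.univ : Finset (Fin 6)) ![1, h, f, f * h, f⁻¹, f⁻¹ * h]
    (by
      intro i _
      fin_cases i
      · exact Subgroup.one_mem _
      · exact c.hhZ
      · exact c.hfZ
      · exact Subgroup.mul_mem _ c.hfZ c.hhZ
      · exact Subgroup.inv_mem _ c.hfZ
      · exact Subgroup.mul_mem _ (Subgroup.inv_mem _ c.hfZ) c.hhZ) χ u hu.2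
    (by
      rw [Fin.sum_univ_six]
      simp only [Matrix.cons_val_zero, Matrix.cons_val_one, Matrix.cons_val]
      rw [map_one, rho_mul_apply, rho_mul_apply]
      rw [map_add, map_add] at h1
      rw [← h1]
      simp only [Module.End.one_apply]
      abel) 0 (Finset.mem_univ _)
    (by
      intro i _ hi
      fin_cases i
      · exact absurd rfl hi
      · exact exists_of_not_mem_stab c.hhZ hh0
      · exact exists_of_not_mem_stab c.hfZ hf
      · refine exists_of_not_mem_stab (Subgroup.mul_mem _ c.hfZ c.hhZ) ?_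
        show f * h ∉ stab Z χ
        rw [e1]; exact hh2
      · exact exists_of_not_mem_stab (Subgroup.inv_mem _ c.hfZ) hf'
      · refine exists_of_not_mem_stab (Subgroup.mul_mem _ (Subgroup.inv_mem _ c.hfZ) c.hhZ) ?_
        show f⁻¹ * h ∉ stab Z χ
        rw [e2]; exact hh1)
  simpa using h2

end Cases


section Main

variable [Finite Γ]

theorem ctxA_upperZ (s : Act Q f h) {N : Subgroup Γ}
    (hQN : Q ≤ normalizer (N : Set Γ)) (hfN : f ∈ normalizer (N : Set Γ))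
    (hhN : h ∈ normalizer (N : Set Γ)) (hN : ∀ x ∈ Q, ∀ n ∈ N, x * n * x⁻¹ ∈ N) :
    CtxA ρ Q f h (upperZ Q N hN) (fixN ρ N) where
  hZQ := upperZ_le hN
  hQZ := fun x hx => mem_normalizer_upperZ hN (le_normalizer hx) (hQN hx)
  hfZ := mem_normalizer_upperZ hN (mem_normalizer_of_conj_mem s.hfX) hfN
  hhZ := mem_normalizer_upperZ hN (mem_normalizer_of_conj_mem s.hhX) hhN
  hUQ := fun x hx u hu => map_fixN (hQN hx) hu
  hUf := fun u hu => map_fixN hfN hu
  hUh := fun u hu => map_fixN hhN hu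
  hcomm := by
    intro z hz t ht u hu
    have h1 : ρ (t * z) u ∈ fixN ρ N := map_fixN (hQN (Q.mul_mem ht hz.1)) hu
    have h2 : z * t = ⁅z, t⁆ * (t * z) := by
      simp only [commutatorElement_def]; group
    calc ρ z (ρ t u) = ρ (z * t) u := by rw [map_mul]; rfl
      _ = ρ (⁅z, t⁆ * (t * z)) u := by rw [h2]
      _ = ρ ⁅z, t⁆ (ρ (t * z) u) := by rw [map_mul]; rfl
      _ = ρ (t * z) u := h1 _ (hz.2 t ht)
      _ = ρ t (ρ z u) := by rw [map_mul]; rfl

variable [IsAlgClosed K] [FiniteDimensional K V]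

/-- **Lemma A**: a `t`-group on which `S₃` acts fixed-point-freely acts through an abelian group
on a module on which `S₃` has no fixed vectors -/
theorem lemmaA (H : HypA ρ t Q f h) : ∀ x ∈ Q, ∀ y ∈ Q, ∀ v : V, ρ ⁅x, y⁆ v = v := by
  have : Fact t.Prime := ⟨H.ht⟩
  have hcard : ∀ D : Subgroup Γ, D ≤ Q → (Nat.card D : K) ≠ 0 := by
    intro D hD
    obtain ⟨b, hb⟩ := IsPGroup.iff_card.mp (H.hQ.to_le hD)
    rw [hb, Nat.cast_pow]
    exact pow_ne_zero _ H.htK
  have main : ∀ N : Subgroup Γ, N ≤ Q → Q ≤ normalizer (N : Set Γ) →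
      f ∈ normalizer (N : Set Γ) → h ∈ normalizer (N : Set Γ) →
      ∀ v ∈ fixN ρ N, ∀ x ∈ Q, ∀ y ∈ Q, ρ ⁅x, y⁆ v = v := by
    intro N
    induction N using WellFoundedGT.induction with
    | ind N ih =>
      intro hNQ hQN hfN hhN v hv x hx y hy
      by_cases hne : N = Q
      · have hc : ⁅x, y⁆ ∈ Q := by
          rw [commutatorElement_def]
          exact Q.mul_mem (Q.mul_mem (Q.mul_mem hx hy) (Q.inv_mem hx)) (Q.inv_mem hy)
        exact hv _ (hne ▸ hc)
      · have hN : ∀ x ∈ Q, ∀ n ∈ N, x * n * x⁻¹ ∈ N :=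
          fun x hx n hn => conj_mem_of_mem_normalizer (hQN hx) hn
        obtain ⟨x₀, hx₀, hx₀N⟩ := exists_mem_upperZ_not_mem H.ht H.hQ hN hNQ hne
        have hlt : N < upperZ Q N hN :=
          lt_of_le_of_ne (le_upperZ hN hNQ) (fun e => hx₀N (e ▸ hx₀))
        have c : CtxA ρ Q f h (upperZ Q N hN) (fixN ρ N) := ctxA_upperZ H.act hQN hfN hhN hN
        have ihZ := ih (upperZ Q N hN) hlt c.hZQ c.hQZ c.hfZ c.hhZ
        have hdec := mem_iSup_wt ρ (upperZ Q N hN) (fixN ρ N)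
          (fun z hz u hu => c.hUQ z (c.hZQ hz) u hu)
          (fun z hz z' hz' u hu => c.hcomm z hz z' (c.hZQ hz') u hu)
          (hcard _ c.hZQ) v hv
        have hle : (⨆ χ : Γ → K, fixN ρ N ⊓ wt ρ (upperZ Q N hN) χ) ≤ fixSp ρ ⁅x, y⁆ := by
          apply iSup_le
          intro χ u hu
          rw [mem_fixSp]
          by_cases hX : ∃ v' ∈ XX ρ (upperZ Q N hN) (fixN ρ N) χ, v' ≠ 0
          · by_cases hz : ∃ z ∈ upperZ Q N hN, χ z ≠ 1
            · have w : NW ρ (upperZ Q N hN) (fixN ρ N) χ := ⟨hX, hz⟩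
              by_cases hf : f ∈ stab (upperZ Q N hN) χ
              · by_cases hh : h ∈ stab (upperZ Q N hN) χ
                · exact (caseA H c w hf hh).elim
                · exact caseB H c hf hh x hx y hy u hu
              · by_cases hh0 : h ∈ stab (upperZ Q N hN) χ
                · exact caseC H c hf hh0 x hx y hy u hu
                · by_cases hh1 : f * h * f⁻¹ ∈ stab (upperZ Q N hN) χ
                  · exact caseC H.conj c.conj hf hh1 x hx y hy u hu
                  · by_cases hh2 : f⁻¹ * h * f ∈ stab (upperZ Q N hN) χ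
                    · have e : f * (f * h * f⁻¹) * f⁻¹ = f⁻¹ * h * f := by
                        have e1 : f * (f * h * f⁻¹) * f⁻¹ = (f * f) * h * (f * f)⁻¹ := by
                          simp only [mul_assoc, mul_inv_rev]
                        rw [e1, H.act.ff, inv_inv]
                      have H2 := H.conj.conj
                      have c2 := c.conj.conj
                      rw [e] at H2 c2
                      exact caseC H2 c2 hf hh2 x hx y hy u hu
                    · have := caseD H c hf hh0 hh1 hh2 u hu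
                      rw [this, map_zero]
            · push Not at hz
              apply ihZ u _ x hx y hy
              intro z hzZ
              rw [hu.2 z hzZ, hz z hzZ, one_smul]
          · push Not at hX
            rw [hX u hu, map_zero]
        exact mem_fixSp.mp (hle hdec)
  intro x hx y hy v
  apply main ⊥ bot_le _ _ _ v _ x hx y hy
  · intro g _
    rw [mem_normalizer_iff]
    intro k
    simp [Subgroup.mem_bot]
  · rw [mem_normalizer_iff]
    intro k
    simp [Subgroup.mem_bot]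
  · rw [mem_normalizer_iff]
    intro k
    simp [Subgroup.mem_bot]
  · intro n hn
    rw [Subgroup.mem_bot.mp hn, map_one]; rfl

end Main

end Cfsg.Agent.Lib.Helper23.S3
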