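import Mathlib
import Cfsg.Agent.Lib.Helper23.PQ2
import Cfsg.Agent.Lib.Helper23.S3E

/-!
# helper23: `FAct`, part 3: weights of an invariant abelian subgroup and their stabilisers
-/

set_option autoImplicit false
set_option linter.unusedSectionVars false
set_option linter.style.haveILetI false

namespace Cfsg.Agent.Lib.Helper23.PQ

open Subgroup Module
open Cfsg.Agent.Lib.Helper23.Ward
open Cfsg.Agent.Lib.Helper23.S3 (conj_inv_mem_of_finite mem_normalizer_of_conj_mem lemmaM_single
  exists_of_not_mem_stab twist_mem_kerX rho_mul_apply)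
open scoped commutatorElement

universe u

variable {K : Type*} [Field K] {Γ : Type*} [Group Γ] {V : Type u} [AddCommGroup V] [Module K V]
variable {ρ : Representation K Γ V} {p l : ℕ} {Z : Subgroup Γ} {f h : Γ} {χ : Γ → K}

theorem rho_pow_apply_of_fixed {g : Γ} {v : V} (hg : ρ g v = v) (k : ℕ) : ρ (g ^ k) v = v := by
  induction k with
  | zero => simp
  | succ k ih => rw [pow_succ, rho_mul_apply, hg, ih]

theorem rho_inv_apply_of_fixed {g : Γ} {v : V} (hg : ρ g v = v) : ρ g⁻¹ v = v := by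
  have := rho_inv_apply ρ g v
  rwa [hg] at this

namespace FAct

variable [Finite Γ]

theorem f_mem_normalizer (s : FAct p l Z f h) : f ∈ normalizer (Z : Set Γ) :=
  mem_normalizer_of_conj_mem s.hfX

theorem h_mem_normalizer (s : FAct p l Z f h) : h ∈ normalizer (Z : Set Γ) :=
  mem_normalizer_of_conj_mem s.hhX

/-- the sum over `⟨h⟩` of an `f`-fixed vector is fixed by `f` and `h` -/
theorem sum_h_fixed (s : FAct p l Z f h) {v : V} (hv : ρ f v = v) :
    ρ f (∑ j ∈ Finset.range l, ρ (h ^ j) v) = ∑ j ∈ Finset.range l, ρ (h ^ j) v ∧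
    ρ h (∑ j ∈ Finset.range l, ρ (h ^ j) v) = ∑ j ∈ Finset.range l, ρ (h ^ j) v := by
  constructor
  · rw [map_sum]
    apply Finset.sum_congr rfl
    intro j _
    obtain ⟨k, hk⟩ := s.hnorm' j
    have e : f * h ^ j = h ^ j * ((h ^ j)⁻¹ * f * h ^ j) := by group
    rw [← rho_mul_apply, e, hk, rho_mul_apply, rho_pow_apply_of_fixed hv]
  · rw [map_sum]
    have h1 : ∀ j, ρ h (ρ (h ^ j) v) = ρ (h ^ (j + 1)) v := by
      intro j
      rw [← rho_mul_apply, ← pow_succ']
    simp_rw [h1]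
    exact sum_range_shift (fun j => ρ (h ^ j) v) l (by simp [s.hhl])

/-- the sum over `⟨f⟩` of an `h`-fixed vector is fixed by `f` and `h` -/
theorem sum_f_fixed (s : FAct p l Z f h) {v : V} (hv : ρ h v = v) :
    letI : Fintype ↥(zpowers f) := Fintype.ofFinite _
    ρ f (∑ g : ↥(zpowers f), ρ (g : Γ) v) = ∑ g : ↥(zpowers f), ρ (g : Γ) v ∧
    ρ h (∑ g : ↥(zpowers f), ρ (g : Γ) v) = ∑ g : ↥(zpowers f), ρ (g : Γ) v := by
  letI : Fintype ↥(zpowers f) := Fintype.ofFinite _
  constructor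
  · rw [map_sum]
    have h1 : ∀ g : ↥(zpowers f), ρ f (ρ (g : Γ) v) =
        ρ (((⟨f, mem_zpowers f⟩ : ↥(zpowers f)) * g : ↥(zpowers f)) : Γ) v := by
      intro g
      rw [← rho_mul_apply]
      rfl
    simp_rw [h1]
    exact Fintype.sum_equiv (Equiv.mulLeft (⟨f, mem_zpowers f⟩ : ↥(zpowers f))) _ _ (fun _ => rfl)
  · rw [map_sum]
    let e : ↥(zpowers f) ≃ ↥(zpowers f) :=
      { toFun := fun g => ⟨h * g * h⁻¹, by
          have := s.conj_h_mem_zpowers 1 g.2
          rwa [pow_one] at this⟩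
        invFun := fun g => ⟨h⁻¹ * g * h, by
          have := s.conj_hinv_mem_zpowers 1 g.2
          rwa [pow_one] at this⟩
        left_inv := fun g => Subtype.ext (by simp [mul_assoc])
        right_inv := fun g => Subtype.ext (by simp [mul_assoc]) }
    have h1 : ∀ g : ↥(zpowers f), ρ h (ρ (g : Γ) v) = ρ ((e g : ↥(zpowers f)) : Γ) v := by
      intro g
      have e1 : h * (g : Γ) = (h * g * h⁻¹) * h := by group
      rw [← rho_mul_apply, e1, rho_mul_apply, hv]
      rfl
    simp_rw [h1]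
    exact Fintype.sum_equiv e _ _ (fun _ => rfl)

end FAct

/-- hypotheses for the analysis of weights -/
structure HypW (ρ : Representation K Γ V) (p l : ℕ) (Z : Subgroup Γ) (f h : Γ) : Prop where
  act : FAct p l Z f h
  hfV : ∀ v : V, ρ f v = v → ρ h v = v → v = 0

namespace HypW

variable [Finite Γ]

theorem conj (H : HypW ρ p l Z f h) (u : ℕ) : HypW ρ p l Z f (eta f h u) where
  act := H.act.conj u
  hfV := by
    intro v h1 h2
    apply H.hfV v h1
    have h3 : ρ (f ^ u) v = v := rho_pow_apply_of_fixed h1 u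
    have h4 : ρ (f ^ u)⁻¹ v = v := rho_inv_apply_of_fixed h3
    have e : h = (f ^ u)⁻¹ * eta f h u * f ^ u := by unfold eta; group
    rw [e, rho_mul_apply, rho_mul_apply, h3, h2, h4]

/-- a nontrivial weight is not stabilised by both `f` and `h` -/
theorem not_both (H : HypW ρ p l Z f h) (w : NW ρ Z ⊤ χ) (hf : f ∈ stab Z χ)
    (hh : h ∈ stab Z χ) : False := by
  obtain ⟨z₀, hz₀, hz₀ne⟩ := w.hz
  have hfZ := H.act.f_mem_normalizer
  have hhZ := H.act.h_mem_normalizer
  have hfL : ∀ y ∈ kerX ρ Z (XX ρ Z ⊤ χ), f * y * f⁻¹ ∈ kerX ρ Z (XX ρ Z ⊤ χ) := by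
    intro y hy
    exact conj_mem_kerX hfZ
      (fun v hv => map_XX_of_mem_stab (fun _ _ => Submodule.mem_top) (Subgroup.inv_mem _ hf) hv) hy
  have hhL : ∀ y ∈ kerX ρ Z (XX ρ Z ⊤ χ), h * y * h⁻¹ ∈ kerX ρ Z (XX ρ Z ⊤ χ) := by
    intro y hy
    exact conj_mem_kerX hhZ
      (fun v hv => map_XX_of_mem_stab (fun _ _ => Submodule.mem_top) (Subgroup.inv_mem _ hh) hv) hy
  have h1 := H.act.fpf_mod kerX_le hfL hhL hz₀ (twist_mem_kerX hf hz₀) (twist_mem_kerX hh hz₀)
  exact hz₀ne (w.chi_eq_one hz₀ h1)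

/-- a nontrivial weight is not stabilised by both `f` and a conjugate of `h` -/
theorem not_both_eta (H : HypW ρ p l Z f h) (w : NW ρ Z ⊤ χ) (hf : f ∈ stab Z χ) {u : ℕ}
    (hh : eta f h u ∈ stab Z χ) : False :=
  (H.conj u).not_both w hf hh

/-- **the `F`-case**: if `f` stabilises a nontrivial weight, it has no fixed vectors on the weight
space -/
theorem fix_f (H : HypW ρ p l Z f h) (w : NW ρ Z ⊤ χ) (hf : f ∈ stab Z χ) :
    ∀ v ∈ wt ρ Z χ, ρ f v = v → v = 0 := by
  classical
  intro v hv hfv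
  obtain ⟨h1, h2⟩ := H.act.sum_h_fixed hfv
  have h3 := H.hfV _ h1 h2
  have hhZ := H.act.h_mem_normalizer
  have h4 := lemmaM_single ρ Z (Finset.range l) (fun j => h ^ j)
    (fun j _ => Subgroup.pow_mem _ hhZ j) χ v hv h3 0 (Finset.mem_range.mpr H.act.hl.pos)
    (by
      intro j hj hj0
      rw [pow_zero]
      apply exists_of_not_mem_stab (Subgroup.pow_mem _ hhZ j)
      intro hmem
      have hlj : ¬ l ∣ j := by
        intro hdvd
        have := Nat.le_of_dvd (Nat.pos_of_ne_zero hj0) hdvd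
        have := Finset.mem_range.mp hj
        omega
      exact H.not_both w hf (H.act.h_mem_of_pow_mem hlj hmem))
  simpa using h4

/-- **the `H`-case**: if `h` but not `f` stabilises a weight, `h` has no fixed vectors on the
weight space -/
theorem fix_h (H : HypW ρ p l Z f h) (hf : f ∉ stab Z χ) :
    ∀ v ∈ wt ρ Z χ, ρ h v = v → v = 0 := by
  classical
  intro v hv hhv
  letI : Fintype ↥(zpowers f) := Fintype.ofFinite _
  obtain ⟨h1, h2⟩ := H.act.sum_f_fixed hhv
  have h3 := H.hfV _ h1 h2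
  have hfZ := H.act.f_mem_normalizer
  have hzZ : ∀ g : ↥(zpowers f), (g : Γ) ∈ normalizer (Z : Set Γ) := by
    intro g
    have hle : zpowers f ≤ normalizer (Z : Set Γ) := by
      rw [zpowers_le]; exact hfZ
    exact hle g.2
  have h4 := lemmaM_single ρ Z (Finset.univ : Finset ↥(zpowers f)) (fun g => (g : Γ))
    (fun g _ => hzZ g) χ v hv h3 1 (Finset.mem_univ _)
    (by
      intro g _ hg1
      rw [Subgroup.coe_one]
      apply exists_of_not_mem_stab (hzZ g)
      intro hmem
      apply hf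
      obtain ⟨i, hi⟩ := Cfsg.Agent.Lib.Helper17.ESMod.exists_pow_of_mem_zpowers f H.act.hp.pos
        H.act.hfp g g.2
      have hpi : ¬ p ∣ i := by
        rintro ⟨n, rfl⟩
        apply hg1
        apply Subtype.ext
        rw [hi, pow_mul, H.act.hfp, one_pow]
        rfl
      rw [hi] at hmem
      exact mem_of_pow_mem H.act.hp H.act.hfp hpi hmem)
  simpa using h4

/-- **the regular case**: a weight stabilised neither by `f` nor by a conjugate of `h` has zero
weight space -/
theorem regular (H : HypW ρ p l Z f h) (hf : f ∉ stab Z χ) (hh : ∀ u : ℕ, eta f h u ∉ stab Z χ) :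
    ∀ v ∈ wt ρ Z χ, v = 0 := by
  classical
  intro v hv
  letI : Fintype ↥(zpowers f) := Fintype.ofFinite _
  have hfZ := H.act.f_mem_normalizer
  have hhZ := H.act.h_mem_normalizer
  -- first sum over `⟨h⟩`
  have hv' : ρ h (∑ j ∈ Finset.range l, ρ (h ^ j) v) = ∑ j ∈ Finset.range l, ρ (h ^ j) v := by
    rw [map_sum]
    have h1 : ∀ j, ρ h (ρ (h ^ j) v) = ρ (h ^ (j + 1)) v := by
      intro j
      rw [← rho_mul_apply, ← pow_succ']
    simp_rw [h1]
    exact sum_range_shift (fun j => ρ (h ^ j) v) l (by simp [H.act.hhl])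
  obtain ⟨h1, h2⟩ := H.act.sum_f_fixed hv'
  have h3 := H.hfV _ h1 h2
  have h5 : ∑ i ∈ (Finset.univ : Finset ↥(zpowers f)) ×ˢ Finset.range l,
      ρ ((i.1 : Γ) * h ^ i.2) v = 0 := by
    rw [Finset.sum_product]
    rw [← h3]
    apply Finset.sum_congr rfl
    intro g _
    rw [map_sum]
    apply Finset.sum_congr rfl
    intro j _
    rw [rho_mul_apply]
  have hzZ : ∀ g : ↥(zpowers f), (g : Γ) ∈ normalizer (Z : Set Γ) := by
    intro g
    have hle : zpowers f ≤ normalizer (Z : Set Γ) := by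
      rw [zpowers_le]; exact hfZ
    exact hle g.2
  have h4 := lemmaM_single ρ Z ((Finset.univ : Finset ↥(zpowers f)) ×ˢ Finset.range l)
    (fun i => (i.1 : Γ) * h ^ i.2)
    (fun i _ => Subgroup.mul_mem _ (hzZ i.1) (Subgroup.pow_mem _ hhZ i.2)) χ v hv h5 (1, 0)
    (by
      rw [Finset.mem_product]
      exact ⟨Finset.mem_univ _, Finset.mem_range.mpr H.act.hl.pos⟩)
    (by
      rintro ⟨g, j⟩ hi hne
      rw [Finset.mem_product] at hi
      have hj : j < l := Finset.mem_range.mp hi.2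
      have e0 : ((1 : ↥(zpowers f)) : Γ) * h ^ 0 = 1 := by simp
      show ∃ z ∈ Z, cj ((g : Γ) * h ^ j) χ z ≠ cj (((1 : ↥(zpowers f)) : Γ) * h ^ 0) χ z
      rw [e0]
      apply exists_of_not_mem_stab (Subgroup.mul_mem _ (hzZ g) (Subgroup.pow_mem _ hhZ j))
      intro hmem
      have e1 : (g : Γ) * h ^ j = h ^ j * ((h ^ j)⁻¹ * g * h ^ j) := by group
      rw [e1] at hmem
      have hg' := H.act.conj_hinv_mem_zpowers j g.2
      rcases H.act.mem_cases hg' hmem (by
        rintro ⟨hdvd, hg1⟩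
        apply hne
        have hj0 : j = 0 := by
          rcases Nat.eq_zero_or_pos j with h0 | h0
          · exact h0
          · have := Nat.le_of_dvd h0 hdvd
            omega
        have hg1' : (g : Γ) = 1 := by
          have : (g : Γ) = h ^ j * ((h ^ j)⁻¹ * g * h ^ j) * (h ^ j)⁻¹ := by group
          rw [this, hg1]
          group
        rw [hj0]
        exact Prod.ext (Subtype.ext hg1') rfl) with hc | ⟨u, hc⟩
      · exact hf hc
      · exact hh u hc)
  simpa using h4

end HypW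

end Cfsg.Agent.Lib.Helper23.PQ
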