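import Mathlib
import Cfsg.Agent.Lib.Helper23.S3D
import Cfsg.Agent.Lib.Helper23.WardE

set_option autoImplicit false
set_option linter.unusedSectionVars false

namespace Cfsg.Agent.Lib.Helper23.S3

open Subgroup
open scoped commutatorElement

variable {K : Type*} [Field K] {Q₀ : Type*} [Group Q₀]

/-- the action of automorphisms on functions -/
def ac (α : MulAut Q₀) (lam : Q₀ → K) : Q₀ → K := fun x => lam (α⁻¹ x)

theorem ac_apply (α : MulAut Q₀) (lam : Q₀ → K) (x : Q₀) : ac α lam x = lam (α⁻¹ x) := rfl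

theorem ac_one (lam : Q₀ → K) : ac (1 : MulAut Q₀) lam = lam := by
  funext x
  simp [ac]

theorem ac_mul (α β : MulAut Q₀) (lam : Q₀ → K) : ac (α * β) lam = ac α (ac β lam) := by
  funext x
  simp [ac, mul_inv_rev]

/-- the stabiliser of a function -/
def stL (lam : Q₀ → K) : Subgroup (MulAut Q₀) where
  carrier := {α | ac α lam = lam}
  mul_mem' := by
    intro a b ha hb
    show ac (a * b) lam = lam
    rw [ac_mul, hb, ha]
  one_mem' := ac_one lam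
  inv_mem' := by
    intro a ha
    show ac a⁻¹ lam = lam
    have h1 : ac a⁻¹ (ac a lam) = lam := by rw [← ac_mul, inv_mul_cancel, ac_one]
    rw [ha] at h1
    exact h1

theorem mem_stL {lam : Q₀ → K} {α : MulAut Q₀} : α ∈ stL lam ↔ ac α lam = lam := Iff.rfl

theorem mem_stL_ac {lam : Q₀ → K} {α σ : MulAut Q₀} :
    α ∈ stL (ac σ lam) ↔ σ⁻¹ * α * σ ∈ stL lam := by
  rw [mem_stL, mem_stL, ac_mul, ac_mul]
  constructor
  · intro h
    rw [h, ← ac_mul, inv_mul_cancel, ac_one]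
  · intro h
    have h1 : ac σ (ac σ⁻¹ (ac α (ac σ lam))) = ac σ lam := by rw [h]
    rw [← ac_mul, mul_inv_cancel, ac_one] at h1
    exact h1

/-- the hypotheses of Lemma B in action form -/
structure BH (Λ : Set (Q₀ → K)) (m : ℕ) (T : Subgroup (MulAut Q₀)) (φ η : MulAut Q₀) : Prop where
  act : Act T φ η
  hQc : ∀ a b : Q₀, a * b = b * a
  hinvQ : ∀ x : Q₀, φ x = x → η x = x⁻¹
  hmul : ∀ lam ∈ Λ, ∀ a b : Q₀, lam (a * b) = lam a * lam b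
  hpow : ∀ lam ∈ Λ, ∀ a : Q₀, lam a ^ m = 1
  hm : m.Coprime 6
  hcop : (Nat.card T).Coprime m
  hclosed : ∀ lam ∈ Λ, ∀ τ ∈ T, ac τ lam ∈ Λ
  H0 : ∀ lam ∈ Λ, ac φ lam = lam ∨ ac η lam = lam ∨ ac (φ * η * φ⁻¹) lam = lam ∨
    ac (φ⁻¹ * η * φ) lam = lam
  Hsep : ∀ τ ∈ T, (∀ lam ∈ Λ, ac τ lam = lam) → τ = 1

/-- no proper nontrivial invariant subgroups -/
def ASimple (T : Subgroup (MulAut Q₀)) (φ η : MulAut Q₀) : Prop :=
  T ≠ ⊥ ∧ ∀ T' : Subgroup (MulAut Q₀), T' ≤ T → (∀ τ ∈ T', φ * τ * φ⁻¹ ∈ T') →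
    (∀ τ ∈ T', η * τ * η⁻¹ ∈ T') → T' = ⊥ ∨ T' = T

variable {Λ : Set (Q₀ → K)} {m : ℕ} {T : Subgroup (MulAut Q₀)} {φ η : MulAut Q₀}

namespace BH

theorem m_pos (B : BH Λ m T φ η) : 0 < m := by
  rcases Nat.eq_zero_or_pos m with h0 | h0
  · exfalso
    have := B.hm
    rw [h0] at this
    norm_num at this
  · exact h0

theorem lam_ne_zero (B : BH Λ m T φ η) {lam : Q₀ → K} (hl : lam ∈ Λ) (a : Q₀) : lam a ≠ 0 := by
  intro h0
  have := B.hpow lam hl a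
  rw [h0, zero_pow B.m_pos.ne'] at this
  exact zero_ne_one this

theorem lam_one (B : BH Λ m T φ η) {lam : Q₀ → K} (hl : lam ∈ Λ) : lam 1 = 1 := by
  have h1 := B.hmul lam hl 1 1
  rw [mul_one] at h1
  have h2 := B.lam_ne_zero hl 1
  have h3 : lam 1 * (lam 1 - 1) = 0 := by rw [mul_sub, mul_one, ← h1, sub_self]
  rcases mul_eq_zero.mp h3 with h4 | h4
  · exact absurd h4 h2
  · exact sub_eq_zero.mp h4

theorem lam_inv (B : BH Λ m T φ η) {lam : Q₀ → K} (hl : lam ∈ Λ) (a : Q₀) :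
    lam a⁻¹ = (lam a)⁻¹ := by
  have h1 := B.hmul lam hl a a⁻¹
  rw [mul_inv_cancel, B.lam_one hl] at h1
  exact eq_inv_of_mul_eq_one_right h1.symm

/-- a root of unity of order dividing both `m` and a number prime to `m` is `1` -/
theorem eq_one_of_pow (_B : BH Λ m T φ η) {c : K} {n : ℕ} (hn : n.Coprime m) (h1 : c ^ n = 1)
    (h2 : c ^ m = 1) : c = 1 := by
  have h3 := orderOf_dvd_of_pow_eq_one h1
  have h4 := orderOf_dvd_of_pow_eq_one h2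
  have h5 : orderOf c = 1 := Nat.eq_one_of_dvd_coprimes hn h3 h4
  exact orderOf_eq_one_iff.mp h5

/-- two values with equal `n`-th powers, `n` prime to `m`, agree -/
theorem eq_of_pow_eq (B : BH Λ m T φ η) {lam : Q₀ → K} (hl : lam ∈ Λ) {a b : Q₀} {n : ℕ}
    (hn : n.Coprime m) (h : lam a ^ n = lam b ^ n) : lam a = lam b := by
  have hb := B.lam_ne_zero hl b
  have h1 : (lam a * (lam b)⁻¹) ^ n = 1 := by
    rw [mul_pow, inv_pow, h, mul_inv_cancel₀ (pow_ne_zero _ hb)]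
  have h2 : (lam a * (lam b)⁻¹) ^ m = 1 := by
    rw [mul_pow, inv_pow, B.hpow lam hl a, B.hpow lam hl b, inv_one, mul_one]
  have h3 := B.eq_one_of_pow hn h1 h2
  calc lam a = (lam a * (lam b)⁻¹) * lam b := by
        rw [mul_assoc, inv_mul_cancel₀ hb, mul_one]
    _ = lam b := by rw [h3, one_mul]

/-- restriction to an invariant subgroup -/
theorem sub [Finite Q₀] (B : BH Λ m T φ η) {T' : Subgroup (MulAut Q₀)} (hT' : T' ≤ T)
    (hφ : ∀ τ ∈ T', φ * τ * φ⁻¹ ∈ T') (hη : ∀ τ ∈ T', η * τ * η⁻¹ ∈ T') : BH Λ m T' φ η where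
  act := B.act.sub hT' hφ hη
  hQc := B.hQc
  hinvQ := B.hinvQ
  hmul := B.hmul
  hpow := B.hpow
  hm := B.hm
  hcop := Nat.Coprime.coprime_dvd_left (Subgroup.card_dvd_of_le hT') B.hcop
  hclosed := fun lam hl τ hτ => B.hclosed lam hl τ (hT' hτ)
  H0 := B.H0
  Hsep := fun τ hτ => B.Hsep τ (hT' hτ)

end BH


section Structure

variable [Finite Q₀]

open Cfsg.Agent.Lib.Helper23.Ward in
/-- an `A`-simple `s`-group is abelian -/
theorem ASimple.abelian {s : ℕ} (hs : s.Prime) (hT : IsPGroup s T) (a : Act T φ η)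
    (hS : ASimple T φ η) : ∀ x ∈ T, ∀ y ∈ T, x * y = y * x := by
  set Z : Subgroup (MulAut Q₀) := T ⊓ centralizer (T : Set (MulAut Q₀)) with hZ
  have hmemZ : ∀ x, x ∈ Z ↔ x ∈ T ∧ ∀ y ∈ T, y * x = x * y := by
    intro x
    rw [hZ, Subgroup.mem_inf, mem_centralizer_iff]
    rfl
  have hconj : ∀ (g x k : MulAut Q₀), (g⁻¹ * k * g) * x = x * (g⁻¹ * k * g) →
      k * (g * x * g⁻¹) = (g * x * g⁻¹) * k := by
    intro g x k hk
    calc k * (g * x * g⁻¹) = g * ((g⁻¹ * k * g) * x) * g⁻¹ := by group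
      _ = g * (x * (g⁻¹ * k * g)) * g⁻¹ := by rw [hk]
      _ = (g * x * g⁻¹) * k := by group
  have hφZ : ∀ τ ∈ Z, φ * τ * φ⁻¹ ∈ Z := by
    intro x hx
    rw [hmemZ] at hx ⊢
    refine ⟨a.hfX x hx.1, ?_⟩
    intro y hy
    apply hconj
    exact hx.2 _ (a.hfX' y hy)
  have hηZ : ∀ τ ∈ Z, η * τ * η⁻¹ ∈ Z := by
    intro x hx
    rw [hmemZ] at hx ⊢
    refine ⟨a.hhX x hx.1, ?_⟩
    intro y hy
    apply hconj
    exact hx.2 _ (a.hhX' y hy)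
  have hZne : Z ≠ ⊥ := by
    have hN : ∀ x ∈ T, ∀ n ∈ (⊥ : Subgroup (MulAut Q₀)), x * n * x⁻¹ ∈ (⊥ : Subgroup (MulAut Q₀)) := by
      intro x _ n hn
      rw [Subgroup.mem_bot] at hn ⊢
      rw [hn]; group
    obtain ⟨x, hx, hx1⟩ := exists_mem_upperZ_not_mem hs hT hN bot_le (Ne.symm hS.1)
    intro h0
    apply hx1
    rw [← h0, hmemZ]
    refine ⟨hx.1, ?_⟩
    intro y hy
    have h1 := hx.2 y hy
    rw [Subgroup.mem_bot] at h1
    exact (commutatorElement_eq_one_iff_mul_comm.mp h1).symm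
  rcases hS.2 Z inf_le_left hφZ hηZ with h0 | h0
  · exact absurd h0 hZne
  · intro x hx y hy
    have : x ∈ Z := by rw [h0]; exact hx
    exact (((hmemZ x).mp this).2 y hy).symm

/-- the centraliser of `φ` in an `A`-simple group is trivial or everything -/
theorem ASimple.cent (a : Act T φ η) (hS : ASimple T φ η) :
    (∀ τ ∈ T, φ * τ = τ * φ → τ = 1) ∨ (∀ τ ∈ T, φ * τ = τ * φ) := by
  set C : Subgroup (MulAut Q₀) := T ⊓ centralizer {φ} with hC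
  have hmemC : ∀ c, c ∈ C ↔ c ∈ T ∧ φ * c = c * φ := by
    intro c
    rw [hC, Subgroup.mem_inf, mem_centralizer_singleton_iff]
    constructor
    · rintro ⟨h1, h2⟩
      exact ⟨h1, h2.symm⟩
    · rintro ⟨h1, h2⟩
      exact ⟨h1, h2.symm⟩
  have hφC : ∀ τ ∈ C, φ * τ * φ⁻¹ ∈ C := by
    intro x hx
    rw [hmemC] at hx ⊢
    have e : φ * x * φ⁻¹ = x := by rw [hx.2]; group
    rw [e]
    exact hx
  have hηC : ∀ τ ∈ C, η * τ * η⁻¹ ∈ C := by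
    intro x hx
    rw [hmemC] at hx ⊢
    exact ⟨a.hhX x hx.1, a.conj_h_comm hx.2⟩
  rcases hS.2 C inf_le_left hφC hηC with h0 | h0
  · left
    intro τ hτ hc
    have : τ ∈ C := (hmemC τ).mpr ⟨hτ, hc⟩
    rw [h0, Subgroup.mem_bot] at this
    exact this
  · right
    intro τ hτ
    have : τ ∈ C := by rw [h0]; exact hτ
    exact ((hmemC τ).mp this).2

end Structure

/-- the pair lemma -/
theorem pair_lemma {lam : Q₀ → K} (hreg : ∀ τ ∈ T, ac τ lam = lam → τ = 1) {a : MulAut Q₀}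
    (haT : ∀ τ ∈ T, a * τ * a⁻¹ ∈ T) {σ σ' : MulAut Q₀} (hσ : σ ∈ T) (hσ' : σ' ∈ T)
    (h1 : ac a (ac σ lam) = ac σ lam) (h2 : ac a (ac σ' lam) = ac σ' lam) :
    a * (σ' * σ⁻¹) * a⁻¹ = σ' * σ⁻¹ := by
  have key : ∀ τ : MulAut Q₀, ac a (ac τ lam) = ac τ lam →
      ac a lam = ac ((a * τ * a⁻¹)⁻¹ * τ) lam := by
    intro τ h
    have e : a * τ = (a * τ * a⁻¹) * a := by group
    rw [← ac_mul, e, ac_mul] at h
    rw [ac_mul, ← h, ← ac_mul, inv_mul_cancel, ac_one]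
  have k1 := key σ h1
  have k2 := key σ' h2
  rw [k1] at k2
  have h3 : ac (((a * σ' * a⁻¹)⁻¹ * σ')⁻¹ * ((a * σ * a⁻¹)⁻¹ * σ)) lam = lam := by
    rw [ac_mul, k2, ← ac_mul, inv_mul_cancel, ac_one]
  have hmem : ((a * σ' * a⁻¹)⁻¹ * σ')⁻¹ * ((a * σ * a⁻¹)⁻¹ * σ) ∈ T :=
    T.mul_mem (T.inv_mem (T.mul_mem (T.inv_mem (haT _ hσ')) hσ'))
      (T.mul_mem (T.inv_mem (haT _ hσ)) hσ)
  have h4 := hreg _ hmem h3
  have h5 : (a * σ * a⁻¹)⁻¹ * σ = (a * σ' * a⁻¹)⁻¹ * σ' := by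
    have := inv_mul_eq_one.mp h4
    exact this.symm
  calc a * (σ' * σ⁻¹) * a⁻¹ = σ' * ((a * σ' * a⁻¹)⁻¹ * σ')⁻¹ * ((a * σ * a⁻¹)⁻¹ * σ) * σ⁻¹ := by
        group
    _ = σ' * σ⁻¹ := by rw [h5]; group


section Five

variable [Finite Q₀]

/-- an element of `T` whose 12th power is trivial is trivial -/
theorem BH.eq_one_of_pow_twelve (B : BH Λ m T φ η) {z : MulAut Q₀} (hz : z ∈ T)
    (h12 : z ^ 12 = 1) : z = 1 := by
  have h1 : (⟨z, hz⟩ : ↥T) ^ Nat.card T = 1 := pow_card_eq_one'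
  have h3 : z ^ Nat.card T = 1 := congrArg Subtype.val h1
  have hc : (Nat.card T).Coprime 12 := by
    have h6 := B.act.hcop
    have h2 : (Nat.card T).Coprime 2 := Nat.Coprime.coprime_dvd_right (by norm_num) h6
    have h3 : (Nat.card T).Coprime 3 := Nat.Coprime.coprime_dvd_right (by norm_num) h6
    have : (12 : ℕ) = 2 * 2 * 3 := by norm_num
    rw [this]
    exact (h2.mul_right h2).mul_right h3
  have h4 := orderOf_dvd_of_pow_eq_one h3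
  have h5 := orderOf_dvd_of_pow_eq_one h12
  have h6 : orderOf z = 1 := Nat.eq_one_of_dvd_coprimes hc h4 h5
  exact orderOf_eq_one_iff.mp h6

theorem BH.pow_ne (B : BH Λ m T φ η) {z : MulAut Q₀} (hz : z ∈ T) (hz1 : z ≠ 1) {j k : ℕ}
    (hj : j < 5) (hk : k < 5) (hjk : j ≠ k) : z ^ k * (z ^ j)⁻¹ ≠ 1 := by
  intro h
  apply hz1
  apply B.eq_one_of_pow_twelve hz
  have h1 : z ^ k = z ^ j := mul_inv_eq_one.mp h
  rcases Nat.lt_or_gt_of_ne hjk with hlt | hlt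
  · have h2 : z ^ (k - j) = 1 := by
      have : z ^ (k - j) * z ^ j = z ^ j := by rw [← pow_add, Nat.sub_add_cancel hlt.le, h1]
      exact mul_eq_right.mp this
    obtain ⟨d, hd⟩ : ∃ d, 12 = (k - j) * d := by
      have h3 : k - j = 1 ∨ k - j = 2 ∨ k - j = 3 ∨ k - j = 4 := by omega
      rcases h3 with h3 | h3 | h3 | h3 <;> rw [h3]
      · exact ⟨12, by norm_num⟩
      · exact ⟨6, by norm_num⟩
      · exact ⟨4, by norm_num⟩
      · exact ⟨3, by norm_num⟩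
    rw [hd, pow_mul, h2, one_pow]
  · have h2 : z ^ (j - k) = 1 := by
      have : z ^ (j - k) * z ^ k = z ^ k := by rw [← pow_add, Nat.sub_add_cancel hlt.le, h1]
      exact mul_eq_right.mp this
    obtain ⟨d, hd⟩ : ∃ d, 12 = (j - k) * d := by
      have h3 : j - k = 1 ∨ j - k = 2 ∨ j - k = 3 ∨ j - k = 4 := by omega
      rcases h3 with h3 | h3 | h3 | h3 <;> rw [h3]
      · exact ⟨12, by norm_num⟩
      · exact ⟨6, by norm_num⟩
      · exact ⟨4, by norm_num⟩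
      · exact ⟨3, by norm_num⟩
    rw [hd, pow_mul, h2, one_pow]

/-- the five-point pigeonhole -/
theorem BH.five_points (B : BH Λ m T φ η) {lam : Q₀ → K} (hl : lam ∈ Λ)
    (hreg : ∀ τ ∈ T, ac τ lam = lam → τ = 1) {z : MulAut Q₀} (hz : z ∈ T) (hz1 : z ≠ 1)
    (hzη : η * z * η⁻¹ = z⁻¹)
    (hφ : ∀ j k : ℕ, j < 5 → k < 5 → j ≠ k → ac φ (ac (z ^ j) lam) = ac (z ^ j) lam →
      ac φ (ac (z ^ k) lam) = ac (z ^ k) lam → False) : False := by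
  classical
  have a := B.act
  let g : Fin 4 → MulAut Q₀ := ![φ, η, φ * η * φ⁻¹, φ⁻¹ * η * φ]
  have hcol : ∀ j : Fin 5, ∃ i : Fin 4, ac (g i) (ac (z ^ (j : ℕ)) lam) = ac (z ^ (j : ℕ)) lam := by
    intro j
    rcases B.H0 _ (B.hclosed lam hl _ (T.pow_mem hz j)) with h | h | h | h
    · exact ⟨0, h⟩
    · exact ⟨1, h⟩
    · exact ⟨2, h⟩
    · exact ⟨3, h⟩
  choose col hcol' using hcol
  obtain ⟨j, k, hjk, hc⟩ := Fintype.exists_ne_map_eq_of_card_lt col (by simp)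
  have hjk' : (j : ℕ) ≠ (k : ℕ) := fun e => hjk (Fin.ext e)
  have h1 := hcol' j
  have h2 := hcol' k
  rw [← hc] at h2
  have hgT : ∀ i : Fin 4, ∀ τ ∈ T, g i * τ * (g i)⁻¹ ∈ T := by
    intro i τ hτ
    fin_cases i
    · exact a.hfX τ hτ
    · exact a.hhX τ hτ
    · exact a.conj.hhX τ hτ
    · have h3 := a.hfX' _ (a.hhX _ (a.hfX τ hτ))
      have e : φ⁻¹ * (η * (φ * τ * φ⁻¹) * η⁻¹) * φ = (φ⁻¹ * η * φ) * τ * (φ⁻¹ * η * φ)⁻¹ := by group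
      rw [e] at h3
      exact h3
  have hw := pair_lemma hreg (hgT (col j)) (T.pow_mem hz j) (T.pow_mem hz k) h1 h2
  have hwT : z ^ (k : ℕ) * (z ^ (j : ℕ))⁻¹ ∈ T := T.mul_mem (T.pow_mem hz k) (T.inv_mem (T.pow_mem hz j))
  have hw1 := B.pow_ne hz hz1 j.2 k.2 hjk'
  have hwη : η * (z ^ (k : ℕ) * (z ^ (j : ℕ))⁻¹) * η⁻¹ = (z ^ (k : ℕ) * (z ^ (j : ℕ))⁻¹)⁻¹ := by
    have e1 : ∀ n : ℕ, η * z ^ n * η⁻¹ = (z ^ n)⁻¹ := by
      intro n
      rw [← conj_pow, hzη, inv_pow]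
    have e2 : η * (z ^ (k : ℕ) * (z ^ (j : ℕ))⁻¹) * η⁻¹ =
        (η * z ^ (k : ℕ) * η⁻¹) * (η * z ^ (j : ℕ) * η⁻¹)⁻¹ := by group
    rw [e2, e1, e1, mul_inv_rev, inv_inv]
    have c : Commute (z ^ (j : ℕ)) (z ^ (k : ℕ)) := (Commute.refl z).pow_pow _ _
    exact (c.inv_right).symm.eq
  generalize hwdef : z ^ (k : ℕ) * (z ^ (j : ℕ))⁻¹ = w at hw hwT hw1 hwη
  have hsq : w = w⁻¹ → False := by
    intro e
    apply hw1
    apply a.eq_one_of_sq hwT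
    rw [pow_two]
    nth_rewrite 2 [e]
    exact mul_inv_cancel w
  have hfff : φ * φ * φ = 1 := by
    have := a.hf3
    rw [pow_succ, pow_two] at this
    exact this
  generalize hi : col j = i at hw h1 h2
  fin_cases i
  · exact hφ j k j.2 k.2 hjk' h1 h2
  · apply hsq
    have h3 : η * w * η⁻¹ = w := hw
    rw [← hwη, h3]
  · -- `φ⁻¹ w φ = w⁻¹`
    have h3 : (φ * η * φ⁻¹) * w * (φ * η * φ⁻¹)⁻¹ = w := hw
    have e1 : φ * η * φ⁻¹ * η = φ⁻¹ := by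
      rw [mul_assoc φ, a.hfinv_eq, mul_assoc φ, ← mul_assoc, ← mul_assoc, a.ff, mul_assoc, a.hh,
        mul_one]
    have c1 : φ⁻¹ * w * φ = w⁻¹ := by
      calc φ⁻¹ * w * φ = (φ * η * φ⁻¹ * η) * w * (φ * η * φ⁻¹ * η)⁻¹ := by rw [e1, inv_inv]
        _ = (φ * η * φ⁻¹) * (η * w * η⁻¹) * (φ * η * φ⁻¹)⁻¹ := by group
        _ = ((φ * η * φ⁻¹) * w * (φ * η * φ⁻¹)⁻¹)⁻¹ := by rw [hwη]; group
        _ = w⁻¹ := by rw [h3]
    have c2 : φ⁻¹ * (φ⁻¹ * w * φ) * φ = w := by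
      rw [c1]
      calc φ⁻¹ * w⁻¹ * φ = (φ⁻¹ * w * φ)⁻¹ := by group
        _ = w := by rw [c1, inv_inv]
    have c3 : φ⁻¹ * (φ⁻¹ * (φ⁻¹ * w * φ) * φ) * φ = w⁻¹ := by rw [c2]; exact c1
    apply hsq
    rw [← c3]
    calc w = (φ * φ * φ)⁻¹ * w * (φ * φ * φ) := by rw [hfff]; group
      _ = φ⁻¹ * (φ⁻¹ * (φ⁻¹ * w * φ) * φ) * φ := by group
  · have h3 : (φ⁻¹ * η * φ) * w * (φ⁻¹ * η * φ)⁻¹ = w := hw
    have e1 : φ⁻¹ * η * φ * η = φ := a.fhfh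
    have c1 : φ * w * φ⁻¹ = w⁻¹ := by
      calc φ * w * φ⁻¹ = (φ⁻¹ * η * φ * η) * w * (φ⁻¹ * η * φ * η)⁻¹ := by rw [e1]
        _ = (φ⁻¹ * η * φ) * (η * w * η⁻¹) * (φ⁻¹ * η * φ)⁻¹ := by group
        _ = ((φ⁻¹ * η * φ) * w * (φ⁻¹ * η * φ)⁻¹)⁻¹ := by rw [hwη]; group
        _ = w⁻¹ := by rw [h3]
    have c2 : φ * (φ * w * φ⁻¹) * φ⁻¹ = w := by
      rw [c1]
      calc φ * w⁻¹ * φ⁻¹ = (φ * w * φ⁻¹)⁻¹ := by group
        _ = w := by rw [c1, inv_inv]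
    have c3 : φ * (φ * (φ * w * φ⁻¹) * φ⁻¹) * φ⁻¹ = w⁻¹ := by rw [c2]; exact c1
    apply hsq
    rw [← c3]
    calc w = (φ * φ * φ) * w * (φ * φ * φ)⁻¹ := by rw [hfff]; group
      _ = φ * (φ * (φ * w * φ⁻¹) * φ⁻¹) * φ⁻¹ := by group

end Five


section Twist

variable {Γ : Type*} [Group Γ] [Finite Γ] {X : Subgroup Γ} {f h : Γ}

/-- if `f` has no fixed points on `X`, every element is of the form `y⁻¹ f(y)` -/
theorem Act.exists_twist (s : Act X f h) (hc : ∀ c ∈ X, f * c = c * f → c = 1) {x : Γ}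
    (hx : x ∈ X) : ∃ y ∈ X, y⁻¹ * (f * y * f⁻¹) = x := by
  classical
  let θ : ↥X → ↥X := fun y => ⟨y.1⁻¹ * (f * y.1 * f⁻¹), X.mul_mem (X.inv_mem y.2) (s.hfX _ y.2)⟩
  have hinj : Function.Injective θ := by
    intro a b hab
    have h1 : a.1⁻¹ * (f * a.1 * f⁻¹) = b.1⁻¹ * (f * b.1 * f⁻¹) := congrArg Subtype.val hab
    have h3 : f * (b.1 * a.1⁻¹) = (b.1 * a.1⁻¹) * f := by
      calc f * (b.1 * a.1⁻¹) = b.1 * (b.1⁻¹ * (f * b.1 * f⁻¹)) * (f * a.1⁻¹) := by group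
        _ = b.1 * (a.1⁻¹ * (f * a.1 * f⁻¹)) * (f * a.1⁻¹) := by rw [h1]
        _ = (b.1 * a.1⁻¹) * f := by group
    have h4 := hc _ (X.mul_mem b.2 (X.inv_mem a.2)) h3
    apply Subtype.ext
    exact (mul_inv_eq_one.mp h4).symm
  have hsurj : Function.Surjective θ := Finite.injective_iff_surjective.mp hinj
  obtain ⟨y, hy⟩ := hsurj ⟨x, hx⟩
  exact ⟨y.1, y.2, congrArg Subtype.val hy⟩

theorem Act.norm_of_cent (s : Act X f h) (hc : ∀ c ∈ X, f * c = c * f → c = 1) {x : Γ}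
    (hx : x ∈ X) : x * (f * x * f⁻¹) * (f⁻¹ * x * f) = 1 := by
  obtain ⟨y, -, h1⟩ := s.exists_twist hc hx
  have hfff : f * f * f = 1 := by
    have := s.hf3
    rw [pow_succ, pow_two] at this
    exact this
  rw [← h1]
  calc y⁻¹ * (f * y * f⁻¹) * (f * (y⁻¹ * (f * y * f⁻¹)) * f⁻¹) *
        (f⁻¹ * (y⁻¹ * (f * y * f⁻¹)) * f)
      = y⁻¹ * (f * f) * y * (f * f * f)⁻¹ * y⁻¹ * f * y := by group
    _ = 1 := by rw [hfff, s.ff]; group

end Twist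

section PQ

variable [Finite Q₀]

/-- the norm of an element of `Q₀` -/
def nrm (φ : MulAut Q₀) (x : Q₀) : Q₀ := x * φ x * φ⁻¹ x

theorem BH.phi_phi (B : BH Λ m T φ η) (x : Q₀) : φ (φ x) = φ⁻¹ x := by
  have := B.act.ff
  rw [← MulAut.mul_apply, this]

theorem BH.phi_nrm (B : BH Λ m T φ η) (x : Q₀) : φ (nrm φ x) = nrm φ x := by
  unfold nrm
  rw [map_mul, map_mul, B.phi_phi, MulAut.apply_inv_self, B.hQc (φ x * φ⁻¹ x) x, mul_assoc]

theorem BH.lam_nrm (B : BH Λ m T φ η) {lam : Q₀ → K} (hl : lam ∈ Λ) (x : Q₀) :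
    lam (nrm φ x) = lam x * lam (φ x) * lam (φ⁻¹ x) := by
  unfold nrm
  rw [B.hmul lam hl, B.hmul lam hl]

/-- **(P1)** a weight fixed by `φ` is fixed by the centraliser of `φ` -/
theorem BH.P1 (B : BH Λ m T φ η) (hcent : ∀ τ ∈ T, φ * τ = τ * φ) {lam : Q₀ → K}
    (hl : lam ∈ Λ) (hφl : ac φ lam = lam) : ∀ τ ∈ T, ac τ lam = lam := by
  have h3m : (3 : ℕ).Coprime m := (Nat.Coprime.coprime_dvd_right (by norm_num) B.hm).symm
  have hφ1 : ∀ y, lam (φ⁻¹ y) = lam y := fun y => congrFun hφl y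
  have hφ2 : ∀ y, lam (φ y) = lam y := by
    intro y
    have := hφ1 (φ y)
    rw [MulAut.inv_apply_self] at this
    exact this.symm
  have hcube : ∀ x, lam (nrm φ x) = lam x ^ 3 := by
    intro x
    rw [B.lam_nrm hl, hφ1, hφ2]
    ring
  -- elements of `T` fix the norms
  have hfix : ∀ τ ∈ T, ∀ x, τ (nrm φ x) = nrm φ x := by
    intro τ hτ x
    set c := nrm φ x with hc
    have hφc : φ c = c := B.phi_nrm x
    have hτc : φ (τ c) = τ c := by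
      rw [← MulAut.mul_apply, hcent τ hτ, MulAut.mul_apply, hφc]
    have h1 := B.hinvQ c hφc
    have h2 := B.hinvQ (τ c) hτc
    have h3 := B.act.inv hτ (hcent τ hτ)
    have h4 : η (τ c) = τ⁻¹ (η c) := by
      have : η * τ = τ⁻¹ * η := by
        calc η * τ = (η * τ * η⁻¹) * η := by group
          _ = τ⁻¹ * η := by rw [h3]
      rw [← MulAut.mul_apply, this, MulAut.mul_apply]
    rw [h1, h2, map_inv] at h4
    have h5 : τ c = τ⁻¹ c := inv_injective h4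
    have h6 : (τ ^ 2) c = c := by
      rw [pow_two, MulAut.mul_apply, h5, MulAut.apply_inv_self]
    have h7 : τ ^ 2 ∈ MulAction.stabilizer (MulAut Q₀) c := by
      rw [MulAction.mem_stabilizer_iff, MulAut.smul_def]
      exact h6
    have h8 := B.act.mem_of_sq_mem hτ h7
    rw [MulAction.mem_stabilizer_iff, MulAut.smul_def] at h8
    exact h8
  intro τ hτ
  funext x
  rw [ac_apply]
  apply B.eq_of_pow_eq hl h3m
  rw [← hcube, ← hcube]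
  have hτ' : τ⁻¹ ∈ T := T.inv_mem hτ
  have hcomm : ∀ y, φ (τ⁻¹ y) = τ⁻¹ (φ y) := by
    intro y
    rw [← MulAut.mul_apply, hcent _ hτ', MulAut.mul_apply]
  have hcomm' : ∀ y, φ⁻¹ (τ⁻¹ y) = τ⁻¹ (φ⁻¹ y) := by
    intro y
    have := hcomm (φ⁻¹ y)
    rw [MulAut.apply_inv_self] at this
    rw [← this, MulAut.inv_apply_self]
  have e : nrm φ (τ⁻¹ x) = τ⁻¹ (nrm φ x) := by
    unfold nrm
    rw [map_mul, map_mul, hcomm, hcomm']
  rw [e, hfix _ hτ']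

/-- **(P3)** a weight fixed by `η` kills the norms -/
theorem BH.R (B : BH Λ m T φ η) {lam : Q₀ → K} (hl : lam ∈ Λ) (hηl : ac η lam = lam) :
    ∀ x, lam x * lam (φ x) * lam (φ⁻¹ x) = 1 := by
  intro x
  rw [← B.lam_nrm hl]
  set c := nrm φ x with hc
  have h1 := B.hinvQ c (B.phi_nrm x)
  have h2 : lam (η⁻¹ c) = lam c := congrFun hηl c
  rw [B.act.h_inv, h1, B.lam_inv hl] at h2
  have h2m : (2 : ℕ).Coprime m := (Nat.Coprime.coprime_dvd_right (by norm_num) B.hm).symm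
  apply B.eq_one_of_pow h2m _ (B.hpow lam hl c)
  rw [pow_two]
  nth_rewrite 1 [← h2]
  exact inv_mul_cancel₀ (B.lam_ne_zero hl c)


theorem orderOf_dvd_card_of_mem {G : Type*} [Group G] {H : Subgroup G} {x : G} (hx : x ∈ H) :
    orderOf x ∣ Nat.card H := by
  have h1 := orderOf_dvd_natCard (⟨x, hx⟩ : ↥H)
  rwa [Subgroup.orderOf_mk] at h1

/-- **(Q1)** if `η` fixes a weight, `φ` normalises its stabiliser in `T` -/
theorem BH.Q1 (B : BH Λ m T φ η) (hab : ∀ x ∈ T, ∀ y ∈ T, x * y = y * x)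
    (hN : ∀ σ ∈ T, σ * (φ * σ * φ⁻¹) * (φ⁻¹ * σ * φ) = 1)
    {lam : Q₀ → K} (hl : lam ∈ Λ) (hηl : ac η lam = lam) {σ : MulAut Q₀} (hσ : σ ∈ T)
    (hσl : ac σ lam = lam) : ac (φ * σ * φ⁻¹) lam = lam := by
  have a := B.act
  have hσ₁ : φ * σ * φ⁻¹ ∈ T := a.hfX σ hσ
  have hσ₂ : φ⁻¹ * σ * φ ∈ T := a.hfX' σ hσ
  have R := B.R hl hηl
  have hne := B.lam_ne_zero hl
  have F1 : ∀ x, lam (σ⁻¹ x) = lam x := fun x => congrFun hσl x
  -- abbreviations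
  generalize hσ₁def : φ * σ * φ⁻¹ = σ₁ at hσ₁ ⊢
  generalize hσ₂def : φ⁻¹ * σ * φ = σ₂ at hσ₂
  have hNσ : σ * σ₁ * σ₂ = 1 := by rw [← hσ₁def, ← hσ₂def]; exact hN σ hσ
  let ξ : Q₀ → K := fun x => lam (σ₁⁻¹ x) * (lam x)⁻¹
  let ζ : Q₀ → K := fun x => lam (σ₂⁻¹ x) * (lam x)⁻¹
  have hξ : ∀ x, ξ x = lam (σ₁⁻¹ x) * (lam x)⁻¹ := fun x => rfl
  have hζ : ∀ x, ζ x = lam (σ₂⁻¹ x) * (lam x)⁻¹ := fun x => rfl
  have ea : ∀ x, φ⁻¹ (σ₁⁻¹ x) = σ⁻¹ (φ⁻¹ x) := by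
    intro x
    have : φ⁻¹ * σ₁⁻¹ = σ⁻¹ * φ⁻¹ := by rw [← hσ₁def]; group
    rw [← MulAut.mul_apply, this, MulAut.mul_apply]
  have eb : ∀ x, φ (σ₁⁻¹ x) = σ₂⁻¹ (φ x) := by
    intro x
    have : φ * σ₁⁻¹ = σ₂⁻¹ * φ := by
      rw [← hσ₁def, ← hσ₂def]
      calc φ * (φ * σ * φ⁻¹)⁻¹ = (φ * φ) * σ⁻¹ * φ⁻¹ := by group
        _ = φ⁻¹ * σ⁻¹ * (φ * φ) := by rw [a.ff]
        _ = (φ⁻¹ * σ * φ)⁻¹ * φ := by group
    rw [← MulAut.mul_apply, this, MulAut.mul_apply]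
  have ec : ∀ x, φ (σ₂⁻¹ x) = σ⁻¹ (φ x) := by
    intro x
    have : φ * σ₂⁻¹ = σ⁻¹ * φ := by rw [← hσ₂def]; group
    rw [← MulAut.mul_apply, this, MulAut.mul_apply]
  have F2 : ∀ x, ξ x * ζ (φ x) = 1 := by
    intro x
    have h1 := R x
    have h2 := R (σ₁⁻¹ x)
    rw [ea, eb, F1] at h2
    have h3 : lam (σ₁⁻¹ x) * lam (σ₂⁻¹ (φ x)) = lam x * lam (φ x) :=
      mul_right_cancel₀ (hne (φ⁻¹ x)) (by rw [h1, h2])
    rw [hξ, hζ]
    calc lam (σ₁⁻¹ x) * (lam x)⁻¹ * (lam (σ₂⁻¹ (φ x)) * (lam (φ x))⁻¹)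
        = (lam (σ₁⁻¹ x) * lam (σ₂⁻¹ (φ x))) * (lam x * lam (φ x))⁻¹ := by rw [mul_inv]; ring
      _ = 1 := by rw [h3]; exact mul_inv_cancel₀ (mul_ne_zero (hne x) (hne (φ x)))
  have hcomm1 : ∀ x, σ₁⁻¹ (σ⁻¹ x) = σ⁻¹ (σ₁⁻¹ x) := by
    intro x
    have : σ₁⁻¹ * σ⁻¹ = σ⁻¹ * σ₁⁻¹ := hab _ (T.inv_mem hσ₁) _ (T.inv_mem hσ)
    rw [← MulAut.mul_apply, this, MulAut.mul_apply]
  have hcomm2 : ∀ x, σ₂⁻¹ (σ⁻¹ x) = σ⁻¹ (σ₂⁻¹ x) := by
    intro x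
    have : σ₂⁻¹ * σ⁻¹ = σ⁻¹ * σ₂⁻¹ := hab _ (T.inv_mem hσ₂) _ (T.inv_mem hσ)
    rw [← MulAut.mul_apply, this, MulAut.mul_apply]
  have F3 : ∀ x, ξ (σ⁻¹ x) = ξ x := by
    intro x
    rw [hξ, hξ, hcomm1, F1, F1]
  have F3ζ : ∀ x, ζ (σ⁻¹ x) = ζ x := by
    intro x
    rw [hζ, hζ, hcomm2, F1, F1]
  have hξζ : ∀ x, ξ x = (ζ (φ x))⁻¹ := fun x => eq_inv_of_mul_eq_one_left (F2 x)
  have F4 : ∀ x, ξ (σ₂⁻¹ x) = ξ x := by
    intro x
    rw [hξζ, hξζ, ec, F3ζ]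
  have F3' : ∀ x, ξ (σ x) = ξ x := by
    intro x
    have := F3 (σ x)
    rw [MulAut.inv_apply_self] at this
    exact this.symm
  have F4' : ∀ x, ξ (σ₂ x) = ξ x := by
    intro x
    have := F4 (σ₂ x)
    rw [MulAut.inv_apply_self] at this
    exact this.symm
  have F5 : ∀ x, ξ (σ₁⁻¹ x) = ξ x := by
    intro x
    have : σ₁⁻¹ = σ₂ * σ := by
      have h1 : σ₁ * (σ₂ * σ) = 1 := by
        have h2 : σ * (σ₁ * σ₂) = 1 := by rw [← mul_assoc]; exact hNσ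
        have h3 : (σ₁ * σ₂) * σ = 1 := by
          have := mul_eq_one_iff_eq_inv.mp h2
          rw [this, mul_inv_cancel]
        rw [← mul_assoc]; exact h3
      exact (eq_inv_of_mul_eq_one_right h1).symm
    rw [this, MulAut.mul_apply, F4', F3']
  have F6 : ∀ k : ℕ, ∀ x, lam ((σ₁⁻¹ ^ k) x) = ξ x ^ k * lam x ∧ ξ ((σ₁⁻¹ ^ k) x) = ξ x := by
    intro k
    induction k with
    | zero => intro x; simp
    | succ k ih =>
      intro x
      obtain ⟨h1, h2⟩ := ih x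
      rw [pow_succ', MulAut.mul_apply]
      constructor
      · have h3 : lam (σ₁⁻¹ ((σ₁⁻¹ ^ k) x)) = ξ ((σ₁⁻¹ ^ k) x) * lam ((σ₁⁻¹ ^ k) x) := by
          rw [hξ, mul_assoc, inv_mul_cancel₀ (hne _), mul_one]
        rw [h3, h2, h1, pow_succ]
        ring
      · rw [F5, h2]
  funext x
  rw [ac_apply]
  have h1 := (F6 (orderOf σ₁⁻¹) x).1
  rw [pow_orderOf_eq_one, MulAut.one_apply] at h1
  have h2 : ξ x ^ orderOf σ₁⁻¹ = 1 := by
    have h3 : ξ x ^ orderOf σ₁⁻¹ * lam x = 1 * lam x := by rw [one_mul]; exact h1.symm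
    exact mul_right_cancel₀ (hne x) h3
  have h3 : ξ x ^ m = 1 := by
    rw [hξ, mul_pow, inv_pow, B.hpow lam hl, B.hpow lam hl, inv_one, mul_one]
  have hcop : (orderOf σ₁⁻¹).Coprime m :=
    Nat.Coprime.coprime_dvd_left (orderOf_dvd_card_of_mem (T.inv_mem hσ₁)) B.hcop
  have h4 := B.eq_one_of_pow hcop h2 h3
  rw [hξ] at h4
  calc lam (σ₁⁻¹ x) = (lam (σ₁⁻¹ x) * (lam x)⁻¹) * lam x := by
        rw [mul_assoc, inv_mul_cancel₀ (hne x), mul_one]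
    _ = lam x := by rw [h4, one_mul]


/-- the hypotheses with the involution `φ η φ⁻¹` -/
theorem BH.conj (B : BH Λ m T φ η) : BH Λ m T φ (φ * η * φ⁻¹) where
  act := B.act.conj
  hQc := B.hQc
  hinvQ := by
    intro x hx
    have h1 : φ⁻¹ x = x := by
      have := MulAut.inv_apply_self _ φ x
      rw [hx] at this
      exact this
    rw [MulAut.mul_apply, MulAut.mul_apply, h1, B.hinvQ x hx, map_inv, hx]
  hmul := B.hmul
  hpow := B.hpow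
  hm := B.hm
  hcop := B.hcop
  hclosed := B.hclosed
  H0 := by
    intro lam hl
    have e1 : φ * (φ * η * φ⁻¹) * φ⁻¹ = φ⁻¹ * η * φ := by
      have : φ * (φ * η * φ⁻¹) * φ⁻¹ = (φ * φ) * η * (φ * φ)⁻¹ := by
        simp only [mul_assoc, mul_inv_rev]
      rw [this, B.act.ff, inv_inv]
    have e2 : φ⁻¹ * (φ * η * φ⁻¹) * φ = η := by group
    rw [e1, e2]
    rcases B.H0 lam hl with h | h | h | h
    · exact Or.inl h
    · exact Or.inr (Or.inr (Or.inr h))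
    · exact Or.inr (Or.inl h)
    · exact Or.inr (Or.inr (Or.inl h))
  Hsep := B.Hsep

theorem ASimple.conj (_a : Act T φ η) (hS : ASimple T φ η) : ASimple T φ (φ * η * φ⁻¹) := by
  refine ⟨hS.1, ?_⟩
  intro T' hT' hφ hη
  apply hS.2 T' hT' hφ
  intro τ hτ
  have hφ' := conj_inv_mem_of_finite hφ
  have h1 := hφ' _ (hη _ (hφ τ hτ))
  have e : φ⁻¹ * ((φ * η * φ⁻¹) * (φ * τ * φ⁻¹) * (φ * η * φ⁻¹)⁻¹) * φ = η * τ * η⁻¹ := by group
  rwa [e] at h1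

/-- in the fixed-point-free case, a weight fixed by `η` has stabiliser `⊥` or `T` in `T` -/
theorem BH.stab_of_eta (B : BH Λ m T φ η) (hS : ASimple T φ η)
    (hab : ∀ x ∈ T, ∀ y ∈ T, x * y = y * x) (hc : ∀ τ ∈ T, φ * τ = τ * φ → τ = 1)
    {lam : Q₀ → K} (hl : lam ∈ Λ) (hηl : ac η lam = lam) :
    T ⊓ stL lam = ⊥ ∨ T ⊓ stL lam = T := by
  have hN : ∀ σ ∈ T, σ * (φ * σ * φ⁻¹) * (φ⁻¹ * σ * φ) = 1 :=
    fun σ hσ => B.act.norm_of_cent hc hσ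
  apply hS.2 _ inf_le_left
  · rintro τ ⟨hτ, hτl⟩
    exact ⟨B.act.hfX τ hτ, B.Q1 hab hN hl hηl hτ hτl⟩
  · rintro τ ⟨hτ, hτl⟩
    refine ⟨B.act.hhX τ hτ, ?_⟩
    have hτl' : ac τ lam = lam := hτl
    show ac (η * τ * η⁻¹) lam = lam
    rw [ac_mul, ac_mul]
    have h1 : ac η⁻¹ lam = lam := (Subgroup.inv_mem (stL lam) hηl)
    rw [h1, hτl', hηl]

/-- **Lemma B for `A`-simple groups** -/
theorem BH.false_of_simple (B : BH Λ m T φ η) {s : ℕ} (hs : s.Prime) (hT : IsPGroup s T)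
    (hS : ASimple T φ η) : False := by
  classical
  have a := B.act
  have hab := hS.abelian hs hT a
  obtain ⟨τ₀, hτ₀, hτ₀1⟩ : ∃ τ ∈ T, τ ≠ 1 := by
    by_contra hcon
    push Not at hcon
    exact hS.1 ((Subgroup.eq_bot_iff_forall T).mpr hcon)
  obtain ⟨lam, hl, hlam⟩ : ∃ lam ∈ Λ, ac τ₀ lam ≠ lam := by
    by_contra hcon
    push Not at hcon
    exact hτ₀1 (B.Hsep τ₀ hτ₀ hcon)
  have hStne : T ⊓ stL lam ≠ T := by
    intro e
    have : τ₀ ∈ T ⊓ stL lam := by rw [e]; exact hτ₀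
    exact hlam this.2
  have hstab_conj : ∀ lam' : Q₀ → K, ∀ σ ∈ T, T ⊓ stL (ac σ lam') = T ⊓ stL lam' := by
    intro lam' σ hσ
    ext τ
    rw [Subgroup.mem_inf, Subgroup.mem_inf, mem_stL_ac]
    constructor
    · rintro ⟨h1, h2⟩
      refine ⟨h1, ?_⟩
      have e : σ⁻¹ * τ * σ = τ := by
        rw [mul_assoc, hab τ h1 σ hσ, ← mul_assoc, inv_mul_cancel, one_mul]
      rwa [e] at h2
    · rintro ⟨h1, h2⟩
      refine ⟨h1, ?_⟩
      have e : σ⁻¹ * τ * σ = τ := by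
        rw [mul_assoc, hab τ h1 σ hσ, ← mul_assoc, inv_mul_cancel, one_mul]
      rwa [e]
  rcases hS.cent a with hc | hc
  · -- `φ` acts fixed-point-freely on `T`
    have hreg : ∀ τ ∈ T, ac τ lam = lam → τ = 1 := by
      by_contra hcon
      push Not at hcon
      obtain ⟨τ₁, hτ₁, hτ₁l, hτ₁1⟩ := hcon
      have hStne' : T ⊓ stL lam ≠ ⊥ := by
        intro e
        have : τ₁ ∈ T ⊓ stL lam := ⟨hτ₁, hτ₁l⟩
        rw [e, Subgroup.mem_bot] at this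
        exact hτ₁1 this
      -- every translate of `lam` is fixed by `φ`
      have hφfix : ∀ σ ∈ T, ac φ (ac σ lam) = ac σ lam := by
        intro σ hσ
        have hl' : ac σ lam ∈ Λ := B.hclosed lam hl σ hσ
        have hst := hstab_conj lam σ hσ
        have hno : ∀ η' : MulAut Q₀, BH Λ m T φ η' → ASimple T φ η' →
            ac η' (ac σ lam) ≠ ac σ lam := by
          intro η' B' hS' hfix
          rcases B'.stab_of_eta hS' hab hc hl' hfix with h0 | h0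
          · rw [hst] at h0; exact hStne' h0
          · rw [hst] at h0; exact hStne h0
        have e1 : φ * (φ * η * φ⁻¹) * φ⁻¹ = φ⁻¹ * η * φ := by
          have : φ * (φ * η * φ⁻¹) * φ⁻¹ = (φ * φ) * η * (φ * φ)⁻¹ := by
            simp only [mul_assoc, mul_inv_rev]
          rw [this, a.ff, inv_inv]
        rcases B.H0 _ hl' with h | h | h | h
        · exact h
        · exact absurd h (hno η B hS)
        · exact absurd h (hno _ B.conj (hS.conj a))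
        · have B2 := B.conj.conj
          have S2 := (hS.conj a).conj a.conj
          rw [e1] at B2 S2
          exact absurd h (hno _ B2 S2)
      have hφl : ac φ lam = lam := by
        have := hφfix 1 T.one_mem
        rwa [ac_one] at this
      -- every element of `T` lies in the stabiliser
      apply hStne
      apply le_antisymm inf_le_left
      intro τ hτ
      obtain ⟨y, hy, hyτ⟩ := a.exists_twist hc hτ
      refine ⟨hτ, ?_⟩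
      show ac τ lam = lam
      rw [← hyτ]
      have h1 := hφfix y hy
      have e : φ * y = (φ * y * φ⁻¹) * φ := by group
      rw [← ac_mul, e, ac_mul, hφl] at h1
      rw [ac_mul, h1, ← ac_mul, inv_mul_cancel, ac_one]
    -- an element inverted by `η`
    obtain ⟨y, hy, hyη⟩ : ∃ y ∈ T, η * y * η⁻¹ ≠ y := by
      by_contra hcon
      push Not at hcon
      apply hτ₀1
      apply hc τ₀ hτ₀
      have h1 : (φ * η * φ⁻¹) * τ₀ * (φ * η * φ⁻¹)⁻¹ = τ₀ := by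
        have h2 := hcon _ (a.hfX' τ₀ hτ₀)
        calc (φ * η * φ⁻¹) * τ₀ * (φ * η * φ⁻¹)⁻¹ = φ * (η * (φ⁻¹ * τ₀ * φ) * η⁻¹) * φ⁻¹ := by group
          _ = τ₀ := by rw [h2]; group
      have h3 := hcon τ₀ hτ₀
      have e1 : φ * η * φ⁻¹ * η = φ⁻¹ := by
        rw [mul_assoc φ, a.hfinv_eq, mul_assoc φ, ← mul_assoc, ← mul_assoc, a.ff, mul_assoc, a.hh,
          mul_one]
      have h4 : φ⁻¹ * τ₀ * φ = τ₀ := by
        calc φ⁻¹ * τ₀ * φ = (φ * η * φ⁻¹ * η) * τ₀ * (φ * η * φ⁻¹ * η)⁻¹ := by rw [e1, inv_inv]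
          _ = (φ * η * φ⁻¹) * (η * τ₀ * η⁻¹) * (φ * η * φ⁻¹)⁻¹ := by group
          _ = τ₀ := by rw [h3, h1]
      calc φ * τ₀ = φ * (φ⁻¹ * τ₀ * φ) := by rw [h4]
        _ = τ₀ * φ := by group
    have hz : y⁻¹ * (η * y * η⁻¹) ∈ T := T.mul_mem (T.inv_mem hy) (a.hhX y hy)
    have hz1 : y⁻¹ * (η * y * η⁻¹) ≠ 1 := by
      intro e
      apply hyη
      exact (inv_mul_eq_one.mp e).symm
    have hzη : η * (y⁻¹ * (η * y * η⁻¹)) * η⁻¹ = (y⁻¹ * (η * y * η⁻¹))⁻¹ := by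
      calc η * (y⁻¹ * (η * y * η⁻¹)) * η⁻¹ = (η * y * η⁻¹)⁻¹ * ((η * η) * y * (η * η)⁻¹) := by group
        _ = (y⁻¹ * (η * y * η⁻¹))⁻¹ := by rw [a.hh]; group
    apply B.five_points hl hreg hz hz1 hzη
    intro j k hj hk hjk h1 h2
    have hw := pair_lemma hreg a.hfX (T.pow_mem hz j) (T.pow_mem hz k) h1 h2
    have hwT := T.mul_mem (T.pow_mem hz k) (T.inv_mem (T.pow_mem hz j))
    apply B.pow_ne hz hz1 hj hk hjk
    apply hc _ hwT
    have key : ∀ w : MulAut Q₀, φ * w * φ⁻¹ = w → φ * w = w * φ := by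
      intro w hw
      calc φ * w = (φ * w * φ⁻¹) * φ := by group
        _ = w * φ := by rw [hw]
    exact key _ hw
  · -- `φ` centralises `T`, `η` inverts it
    have hinv : ∀ τ ∈ T, η * τ * η⁻¹ = τ⁻¹ := fun τ hτ => a.inv hτ (hc τ hτ)
    have hreg : ∀ τ ∈ T, ac τ lam = lam → τ = 1 := by
      have h1 : T ⊓ stL lam = ⊥ ∨ T ⊓ stL lam = T := by
        apply hS.2 _ inf_le_left
        · rintro τ ⟨hτ, hτl⟩
          have e : φ * τ * φ⁻¹ = τ := by rw [hc τ hτ]; group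
          rw [e]
          exact ⟨hτ, hτl⟩
        · rintro τ ⟨hτ, hτl⟩
          rw [hinv τ hτ]
          exact Subgroup.inv_mem _ ⟨hτ, hτl⟩
      rcases h1 with h1 | h1
      · intro τ hτ hτl
        have : τ ∈ T ⊓ stL lam := ⟨hτ, hτl⟩
        rw [h1, Subgroup.mem_bot] at this
        exact this
      · exact absurd h1 hStne
    apply B.five_points hl hreg hτ₀ hτ₀1 (hinv τ₀ hτ₀)
    intro j k hj hk hjk h1 _
    have hl' : ac (τ₀ ^ j) lam ∈ Λ := B.hclosed lam hl _ (T.pow_mem hτ₀ j)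
    have h3 := B.P1 hc hl' h1 τ₀ hτ₀
    have h4 : τ₀ ∈ T ⊓ stL (ac (τ₀ ^ j) lam) := ⟨hτ₀, h3⟩
    rw [hstab_conj lam _ (T.pow_mem hτ₀ j)] at h4
    exact hτ₀1 (hreg τ₀ hτ₀ h4.2)

/-- **Lemma B in action form** -/
theorem BH.eq_bot (B : BH Λ m T φ η) {s : ℕ} (hs : s.Prime) (hT : IsPGroup s T) : T = ⊥ := by
  classical
  by_contra hne
  let 𝓢 : Set (Subgroup (MulAut Q₀)) :=
    {T' | T' ≤ T ∧ T' ≠ ⊥ ∧ (∀ τ ∈ T', φ * τ * φ⁻¹ ∈ T') ∧ (∀ τ ∈ T', η * τ * η⁻¹ ∈ T')}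
  have hne' : 𝓢.Nonempty := ⟨T, le_rfl, hne, B.act.hfX, B.act.hhX⟩
  obtain ⟨T₁, ⟨hT₁T, hT₁ne, hφ₁, hη₁⟩, hmin⟩ :=
    (wellFounded_lt (α := Subgroup (MulAut Q₀))).has_min 𝓢 hne'
  have B₁ := B.sub hT₁T hφ₁ hη₁
  have hS : ASimple T₁ φ η := by
    refine ⟨hT₁ne, ?_⟩
    intro T' hT' hφ' hη'
    by_cases h0 : T' = ⊥
    · exact Or.inl h0
    · right
      by_contra hne2
      exact hmin T' ⟨hT'.trans hT₁T, h0, hφ', hη'⟩ (lt_of_le_of_ne hT' hne2)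
  exact B₁.false_of_simple hs (hT.to_le hT₁T) hS

end PQ

end Cfsg.Agent.Lib.Helper23.S3
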