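import Mathlib
import Cfsg.Agent.Lib.Helper23.PQ3
import Cfsg.Agent.Lib.Helper23.S3F

/-!
# helper23: the abelian case (Lemma B) in action form for a Frobenius group of order `p l`, part 1
-/

set_option autoImplicit false
set_option linter.unusedSectionVars false
set_option linter.style.haveILetI false

namespace Cfsg.Agent.Lib.Helper23.PQ

open Subgroup
open Cfsg.Agent.Lib.Helper23.S3 (ac ac_apply ac_one ac_mul stL mem_stL mem_stL_ac
  conj_inv_mem_of_finite lift_of_pow orderOf_dvd_card_of_mem)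
open scoped commutatorElement

variable {K : Type*} [Field K] {Q₀ : Type*} [Group Q₀]

/-- the partial norm `x · α x ⋯ αⁿ⁻¹ x` -/
def nrm (α : MulAut Q₀) (x : Q₀) : ℕ → Q₀
  | 0 => 1
  | n + 1 => nrm α x n * (α ^ n) x

theorem nrm_zero (α : MulAut Q₀) (x : Q₀) : nrm α x 0 = 1 := rfl

theorem nrm_succ (α : MulAut Q₀) (x : Q₀) (n : ℕ) : nrm α x (n + 1) = nrm α x n * (α ^ n) x := rfl

/-- `α (N_n x) · x = N_n x · αⁿ x` in an abelian group -/
theorem nrm_shift (hQc : ∀ a b : Q₀, a * b = b * a) (α : MulAut Q₀) (x : Q₀) (n : ℕ) :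
    α (nrm α x n) * x = nrm α x n * (α ^ n) x := by
  induction n with
  | zero => simp [nrm]
  | succ n ih =>
    have e : (α ^ (n + 1)) x = α ((α ^ n) x) := by rw [pow_succ', MulAut.mul_apply]
    rw [nrm_succ, map_mul, mul_assoc, hQc (α ((α ^ n) x)) x, ← mul_assoc, ih, e]

/-- the full norm is fixed -/
theorem nrm_fixed (hQc : ∀ a b : Q₀, a * b = b * a) (α : MulAut Q₀) (x : Q₀) {n : ℕ}
    (hα : α ^ n = 1) : α (nrm α x n) = nrm α x n := by
  have h1 := nrm_shift hQc α x n
  rw [hα, MulAut.one_apply] at h1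
  exact mul_right_cancel h1

/-- an automorphism fixing all the factors fixes the norm -/
theorem nrm_fixed_of (α β : MulAut Q₀) (x : Q₀) (hβ : ∀ i : ℕ, β ((α ^ i) x) = (α ^ i) x) (n : ℕ) :
    β (nrm α x n) = nrm α x n := by
  induction n with
  | zero => simp [nrm]
  | succ n ih => rw [nrm_succ, map_mul, ih, hβ]

/-- multiplicative functions with values in the `m`-th roots of unity -/
structure IsCh (m : ℕ) (μ : Q₀ → K) : Prop where
  hmul : ∀ a b : Q₀, μ (a * b) = μ a * μ b
  hpow : ∀ a : Q₀, μ a ^ m = 1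

namespace IsCh

variable {m : ℕ} {μ : Q₀ → K}

theorem ne_zero (c : IsCh m μ) (hm : 0 < m) (a : Q₀) : μ a ≠ 0 := by
  intro h0
  have := c.hpow a
  rw [h0, zero_pow hm.ne'] at this
  exact zero_ne_one this

theorem one (c : IsCh m μ) (hm : 0 < m) : μ 1 = 1 := by
  have h1 := c.hmul 1 1
  rw [mul_one] at h1
  have h2 := c.ne_zero hm 1
  have h3 : μ 1 * (μ 1 - 1) = 0 := by rw [mul_sub, mul_one, ← h1, sub_self]
  rcases mul_eq_zero.mp h3 with h4 | h4
  · exact absurd h4 h2
  · exact sub_eq_zero.mp h4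

theorem ac (c : IsCh m μ) (α : MulAut Q₀) : IsCh m (ac α μ) where
  hmul := fun a b => by rw [ac_apply, ac_apply, ac_apply, map_mul, c.hmul]
  hpow := fun a => by rw [ac_apply, c.hpow]

theorem nrm (c : IsCh m μ) (hm : 0 < m) (α : MulAut Q₀) (x : Q₀) (n : ℕ) :
    μ (nrm α x n) = ∏ i ∈ Finset.range n, μ ((α ^ i) x) := by
  induction n with
  | zero => simp [PQ.nrm, c.one hm]
  | succ n ih => rw [nrm_succ, c.hmul, ih, Finset.prod_range_succ]

/-- a root of unity of order dividing both `m` and a number prime to `m` is `1` -/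
theorem eq_one_of_pow {c : K} {n m : ℕ} (hn : n.Coprime m) (h1 : c ^ n = 1)
    (h2 : c ^ m = 1) : c = 1 := by
  have h3 := orderOf_dvd_of_pow_eq_one h1
  have h4 := orderOf_dvd_of_pow_eq_one h2
  have h5 : orderOf c = 1 := Nat.eq_one_of_dvd_coprimes hn h3 h4
  exact orderOf_eq_one_iff.mp h5

/-- two values with equal `n`-th powers, `n` prime to `m`, agree -/
theorem eq_of_pow_eq {a b : K} {n m : ℕ} (hm : 0 < m) (hn : n.Coprime m) (ha : a ^ m = 1)
    (hb : b ^ m = 1) (h : a ^ n = b ^ n) : a = b := by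
  have hb0 : b ≠ 0 := by
    intro h0
    rw [h0, zero_pow hm.ne'] at hb
    exact zero_ne_one hb
  have h1 : (a * b⁻¹) ^ n = 1 := by
    rw [mul_pow, inv_pow, h, mul_inv_cancel₀ (pow_ne_zero _ hb0)]
  have h2 : (a * b⁻¹) ^ m = 1 := by
    rw [mul_pow, inv_pow, ha, hb, inv_one, mul_one]
  have h3 := eq_one_of_pow hn h1 h2
  calc a = (a * b⁻¹) * b := by rw [mul_assoc, inv_mul_cancel₀ hb0, mul_one]
    _ = b := by rw [h3, one_mul]

/-- a finite product of characters is a character -/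
theorem prod {ι : Type*} (s : Finset ι) (F : ι → Q₀ → K) (hF : ∀ i ∈ s, IsCh m (F i)) :
    IsCh m (fun x => ∏ i ∈ s, F i x) where
  hmul := fun a b => by
    rw [← Finset.prod_mul_distrib]
    exact Finset.prod_congr rfl (fun i hi => (hF i hi).hmul a b)
  hpow := fun a => by
    rw [← Finset.prod_pow]
    exact Finset.prod_eq_one (fun i hi => (hF i hi).hpow a)

end IsCh

theorem ac_prod {ι : Type*} (s : Finset ι) (F : ι → Q₀ → K) (α : MulAut Q₀) :
    ac α (fun x => ∏ i ∈ s, F i x) = fun x => ∏ i ∈ s, ac α (F i) x := rfl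

/-- `ac (α ^ i)` of a fixed function -/
theorem ac_pow_of_fixed {α : MulAut Q₀} {μ : Q₀ → K} (h : ac α μ = μ) (i : ℕ) :
    ac (α ^ i) μ = μ := by
  have : α ^ i ∈ stL μ := Subgroup.pow_mem _ (mem_stL.mpr h) i
  exact this

theorem apply_of_ac_fixed {α : MulAut Q₀} {μ : Q₀ → K} (h : ac α μ = μ) (y : Q₀) :
    μ (α y) = μ y := by
  have h1 := congrFun h (α y)
  rw [ac_apply, MulAut.inv_apply_self] at h1
  exact h1.symm

theorem apply_pow_of_ac_fixed {α : MulAut Q₀} {μ : Q₀ → K} (h : ac α μ = μ) (i : ℕ) (y : Q₀) :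
    μ ((α ^ i) y) = μ y := apply_of_ac_fixed (ac_pow_of_fixed h i) y

/-- the action hypotheses on the abelian group `Q₀` -/
structure QH (p l : ℕ) (φ η : MulAut Q₀) : Prop where
  hp : p.Prime
  hl : l.Prime
  hφp : φ ^ p = 1
  hηl : η ^ l = 1
  hnorm' : ∀ j : ℕ, ∃ k : ℕ, (η ^ j)⁻¹ * φ * η ^ j = φ ^ k
  hQc : ∀ a b : Q₀, a * b = b * a
  hfpfQ : ∀ x : Q₀, φ x = x → η x = x → x = 1

namespace QH

variable {p l : ℕ} {φ η : MulAut Q₀}

/-- the double norm is trivial -/
theorem double_nrm (q : QH p l φ η) (x : Q₀) : nrm η (nrm φ x p) l = 1 := by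
  set c := nrm φ x p with hc
  have hφc : φ c = c := nrm_fixed q.hQc φ x q.hφp
  apply q.hfpfQ
  · apply nrm_fixed_of
    intro i
    obtain ⟨k, hk⟩ := q.hnorm' i
    have e : φ * η ^ i = η ^ i * ((η ^ i)⁻¹ * φ * η ^ i) := by group
    rw [← MulAut.mul_apply, e, hk, MulAut.mul_apply]
    congr 1
    have : φ ^ k ∈ MulAction.stabilizer (MulAut Q₀) c := by
      apply Subgroup.pow_mem
      rw [MulAction.mem_stabilizer_iff, MulAut.smul_def]
      exact hφc
    rw [MulAction.mem_stabilizer_iff, MulAut.smul_def] at this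
    exact this
  · exact nrm_fixed q.hQc η c q.hηl

/-- a character fixed by `φ` and `η` is trivial -/
theorem fixA (q : QH p l φ η) {m : ℕ} (hm : m.Coprime (p * l)) {μ : Q₀ → K} (c : IsCh m μ)
    (hφ : ac φ μ = μ) (hη : ac η μ = μ) : ∀ x, μ x = 1 := by
  intro x
  have hm0 : 0 < m := by
    rcases Nat.eq_zero_or_pos m with h0 | h0
    · exfalso
      rw [h0, Nat.coprime_zero_left] at hm
      have := q.hp.one_lt
      have := q.hl.pos
      nlinarith
    · exact h0
  have h1 := q.double_nrm x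
  have h2 : μ (nrm η (nrm φ x p) l) = μ x ^ (p * l) := by
    rw [c.nrm hm0]
    have : ∀ i ∈ Finset.range l, μ ((η ^ i) (nrm φ x p)) = μ x ^ p := by
      intro i _
      rw [apply_pow_of_ac_fixed hη, c.nrm hm0]
      have : ∀ j ∈ Finset.range p, μ ((φ ^ j) x) = μ x := by
        intro j _
        exact apply_pow_of_ac_fixed hφ j x
      rw [Finset.prod_congr rfl this, Finset.prod_const, Finset.card_range]
    rw [Finset.prod_congr rfl this, Finset.prod_const, Finset.card_range, ← pow_mul]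
  rw [h1, c.one hm0] at h2
  exact IsCh.eq_one_of_pow hm.symm h2.symm (c.hpow x)

/-- **the relation (R)**: a character fixed by `η` kills the `φ`-norms -/
theorem R (q : QH p l φ η) {m : ℕ} (hm : m.Coprime (p * l)) {μ : Q₀ → K} (c : IsCh m μ)
    (hη : ac η μ = μ) : ∀ x, ∏ i ∈ Finset.range p, μ ((φ ^ i) x) = 1 := by
  intro x
  have hm0 : 0 < m := by
    rcases Nat.eq_zero_or_pos m with h0 | h0
    · exfalso
      rw [h0, Nat.coprime_zero_left] at hm
      have := q.hp.one_lt
      have := q.hl.pos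
      nlinarith
    · exact h0
  rw [← c.nrm hm0]
  have h1 := q.double_nrm x
  have h2 : μ (nrm η (nrm φ x p) l) = μ (nrm φ x p) ^ l := by
    rw [c.nrm hm0]
    have : ∀ i ∈ Finset.range l, μ ((η ^ i) (nrm φ x p)) = μ (nrm φ x p) := by
      intro i _
      exact apply_pow_of_ac_fixed hη i _
    rw [Finset.prod_congr rfl this, Finset.prod_const, Finset.card_range]
  rw [h1, c.one hm0] at h2
  have hl : l.Coprime m := (Nat.Coprime.coprime_dvd_right (dvd_mul_left l p) hm).symm
  exact IsCh.eq_one_of_pow hl h2.symm (c.hpow _)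

end QH

end Cfsg.Agent.Lib.Helper23.PQ
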