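import Mathlib
import Cfsg.Agent.Lib.Helper23.PQ4

/-!
# helper23: the abelian case (Lemma B) in action form for a Frobenius group of order `p l`, part 2:
the structure `BHF`, and the case where `φ` centralises `T`
-/

set_option autoImplicit false
set_option linter.unusedSectionVars false
set_option linter.style.haveILetI false

namespace Cfsg.Agent.Lib.Helper23.PQ

open Subgroup
open Cfsg.Agent.Lib.Helper23.S3 (ac ac_apply ac_one ac_mul stL mem_stL mem_stL_ac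
  conj_inv_mem_of_finite lift_of_pow orderOf_dvd_card_of_mem ASimple)
open scoped commutatorElement

variable {K : Type*} [Field K] {Q₀ : Type*} [Group Q₀]

theorem comm_of_comm_pow' {Γ : Type*} [Group Γ] {b c : Γ} {p w : ℕ} (hp : p.Prime)
    (hbp : b ^ p = 1) (hw : ¬ p ∣ w) (h : c * b ^ w = b ^ w * c) : c * b = b * c := by
  obtain ⟨m, hm⟩ := exists_pow_pow_eq hp hbp hw
  have h1 : Commute c (b ^ w) := h
  have h2 : Commute c ((b ^ w) ^ m) := h1.pow_right m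
  rw [hm] at h2
  exact h2

/-- the hypotheses of Lemma B in action form -/
structure BHF (Λ : Set (Q₀ → K)) (m p l : ℕ) (T : Subgroup (MulAut Q₀)) (φ η : MulAut Q₀) :
    Prop where
  act : FAct p l T φ η
  hQc : ∀ a b : Q₀, a * b = b * a
  hfpfQ : ∀ x : Q₀, φ x = x → η x = x → x = 1
  hch : ∀ lam ∈ Λ, IsCh m lam
  hm : m.Coprime (p * l)
  hcop : (Nat.card T).Coprime m
  hclosed : ∀ lam ∈ Λ, ∀ τ ∈ T, ac τ lam ∈ Λ
  hclosedφ : ∀ lam ∈ Λ, ac φ lam ∈ Λ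
  H0 : ∀ lam ∈ Λ, ac φ lam = lam ∨ ∃ u : ℕ, ac (eta φ η u) lam = lam
  Hsep : ∀ τ ∈ T, (∀ lam ∈ Λ, ac τ lam = lam) → τ = 1

variable {Λ : Set (Q₀ → K)} {m p l : ℕ} {T : Subgroup (MulAut Q₀)} {φ η : MulAut Q₀}

namespace BHF

theorem qh (B : BHF Λ m p l T φ η) : QH p l φ η where
  hp := B.act.hp
  hl := B.act.hl
  hφp := B.act.hfp
  hηl := B.act.hhl
  hnorm' := B.act.hnorm'
  hQc := B.hQc
  hfpfQ := B.hfpfQ

theorem m_pos (B : BHF Λ m p l T φ η) : 0 < m := by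
  rcases Nat.eq_zero_or_pos m with h0 | h0
  · exfalso
    have := B.hm
    rw [h0, Nat.coprime_zero_left] at this
    have := B.act.hp.one_lt
    have := B.act.hl.pos
    nlinarith
  · exact h0

/-- restriction to an invariant subgroup -/
theorem sub [Finite Q₀] (B : BHF Λ m p l T φ η) {T' : Subgroup (MulAut Q₀)} (hT' : T' ≤ T)
    (hφ : ∀ τ ∈ T', φ * τ * φ⁻¹ ∈ T') (hη : ∀ τ ∈ T', η * τ * η⁻¹ ∈ T') :
    BHF Λ m p l T' φ η where
  act := B.act.sub hT' hφ hη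
  hQc := B.hQc
  hfpfQ := B.hfpfQ
  hch := B.hch
  hm := B.hm
  hcop := Nat.Coprime.coprime_dvd_left (Subgroup.card_dvd_of_le hT') B.hcop
  hclosed := fun lam hl τ hτ => B.hclosed lam hl τ (hT' hτ)
  hclosedφ := B.hclosedφ
  H0 := B.H0
  Hsep := fun τ hτ => B.Hsep τ (hT' hτ)

theorem eta_eta (φ η : MulAut Q₀) (u u' : ℕ) : eta φ (eta φ η u) u' = eta φ η (u' + u) := by
  unfold eta
  rw [pow_add]
  group

/-- the hypotheses with a conjugate of `η` -/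
theorem conj (B : BHF Λ m p l T φ η) (u : ℕ) : BHF Λ m p l T φ (eta φ η u) where
  act := B.act.conj u
  hQc := B.hQc
  hfpfQ := by
    intro x h1 h2
    apply B.hfpfQ x h1
    have hs : φ ∈ MulAction.stabilizer (MulAut Q₀) x := by
      rw [MulAction.mem_stabilizer_iff, MulAut.smul_def]; exact h1
    have hs2 : eta φ η u ∈ MulAction.stabilizer (MulAut Q₀) x := by
      rw [MulAction.mem_stabilizer_iff, MulAut.smul_def]; exact h2
    have := FAct.h_mem_of_eta_mem hs hs2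
    rw [MulAction.mem_stabilizer_iff, MulAut.smul_def] at this
    exact this
  hch := B.hch
  hm := B.hm
  hcop := B.hcop
  hclosed := B.hclosed
  hclosedφ := B.hclosedφ
  H0 := by
    intro lam hl
    rcases B.H0 lam hl with h | ⟨v, hv⟩
    · exact Or.inl h
    · right
      refine ⟨v + (p - 1) * u, ?_⟩
      rw [eta_eta]
      have e : v + (p - 1) * u + u = v + p * u := by
        have := B.act.hp.pos
        have h1 : (p - 1) * u + u = p * u := by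
          obtain ⟨q, rfl⟩ : ∃ q, p = q + 1 := ⟨p - 1, by omega⟩
          simp only [Nat.add_sub_cancel]
          ring
        omega
      rw [e, B.act.eta_add_mul]
      exact hv
  Hsep := B.Hsep

end BHF

section Simple

variable [Finite Q₀]

open Cfsg.Agent.Lib.Helper23.Ward in
/-- an `A`-simple `s`-group is abelian -/
theorem ASimple.abelian' {s : ℕ} (hs : s.Prime) (hT : IsPGroup s T) (a : FAct p l T φ η)
    (hS : ASimple T φ η) : ∀ x ∈ T, ∀ y ∈ T, x * y = y * x := by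
  set Z : Subgroup (MulAut Q₀) := T ⊓ centralizer (T : Set (MulAut Q₀)) with hZ
  have hmemZ : ∀ x, x ∈ Z ↔ x ∈ T ∧ ∀ y ∈ T, y * x = x * y := by
    intro x
    rw [hZ, Subgroup.mem_inf, mem_centralizer_iff]
    rfl
  have hconj : ∀ (g x k : MulAut Q₀), (g⁻¹ * k * g) * x = x * (g⁻¹ * k * g) →
      k * (g * x * g⁻¹) = (g * x * g⁻¹) * k := by
    intro g x k hk
    calc k * (g * x * g⁻¹) = g * ((g⁻¹ * k * g) * x) * g⁻¹ := by group
      _ = g * (x * (g⁻¹ * k * g)) * g⁻¹ := by rw [hk]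
      _ = (g * x * g⁻¹) * k := by group
  have hφZ : ∀ τ ∈ Z, φ * τ * φ⁻¹ ∈ Z := by
    intro x hx
    rw [hmemZ] at hx ⊢
    refine ⟨a.hfX x hx.1, ?_⟩
    intro y hy
    apply hconj
    exact hx.2 _ (a.hfX' y hy)
  have hηZ : ∀ τ ∈ Z, η * τ * η⁻¹ ∈ Z := by
    intro x hx
    rw [hmemZ] at hx ⊢
    refine ⟨a.hhX x hx.1, ?_⟩
    intro y hy
    apply hconj
    exact hx.2 _ (a.hhX' y hy)
  have hZne : Z ≠ ⊥ := by
    have hN : ∀ x ∈ T, ∀ n ∈ (⊥ : Subgroup (MulAut Q₀)), x * n * x⁻¹ ∈ (⊥ : Subgroup (MulAut Q₀)) := by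
      intro x _ n hn
      rw [Subgroup.mem_bot] at hn ⊢
      rw [hn]; group
    obtain ⟨x, hx, hx1⟩ := exists_mem_upperZ_not_mem hs hT hN bot_le (Ne.symm hS.1)
    intro h0
    apply hx1
    rw [← h0, hmemZ]
    refine ⟨hx.1, ?_⟩
    intro y hy
    have h1 := hx.2 y hy
    rw [Subgroup.mem_bot] at h1
    exact (commutatorElement_eq_one_iff_mul_comm.mp h1).symm
  rcases hS.2 Z inf_le_left hφZ hηZ with h0 | h0
  · exact absurd h0 hZne
  · intro x hx y hy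
    have : x ∈ Z := by rw [h0]; exact hx
    exact (((hmemZ x).mp this).2 y hy).symm

/-- the centraliser of `φ` in an `A`-simple group is trivial or everything -/
theorem ASimple.cent' (a : FAct p l T φ η) (hS : ASimple T φ η) :
    (∀ τ ∈ T, φ * τ = τ * φ → τ = 1) ∨ (∀ τ ∈ T, φ * τ = τ * φ) := by
  set C : Subgroup (MulAut Q₀) := T ⊓ centralizer {φ} with hC
  have hmemC : ∀ c, c ∈ C ↔ c ∈ T ∧ φ * c = c * φ := by
    intro c
    rw [hC, Subgroup.mem_inf, mem_centralizer_singleton_iff]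
    constructor
    · rintro ⟨h1, h2⟩
      exact ⟨h1, h2.symm⟩
    · rintro ⟨h1, h2⟩
      exact ⟨h1, h2.symm⟩
  have hφC : ∀ τ ∈ C, φ * τ * φ⁻¹ ∈ C := by
    intro x hx
    rw [hmemC] at hx ⊢
    have e : φ * x * φ⁻¹ = x := by rw [hx.2]; group
    rw [e]
    exact hx
  have hηC : ∀ τ ∈ C, η * τ * η⁻¹ ∈ C := by
    intro x hx
    rw [hmemC] at hx ⊢
    exact ⟨a.hhX x hx.1, a.conj_h_comm hx.2⟩
  rcases hS.2 C inf_le_left hφC hηC with h0 | h0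
  · left
    intro τ hτ hc
    have : τ ∈ C := (hmemC τ).mpr ⟨hτ, hc⟩
    rw [h0, Subgroup.mem_bot] at this
    exact this
  · right
    intro τ hτ
    have : τ ∈ C := by rw [h0]; exact hτ
    exact ((hmemC τ).mp this).2

end Simple


section Generic

variable {Γ : Type*} [Group Γ] {X : Subgroup Γ} {f h : Γ}

/-- a subgroup containing `η_{u+d} η_u⁻¹` with `p ∤ d` contains `f` -/
theorem FAct.f_mem_of_eta_mul_inv_mem (s : FAct p l X f h) {B : Subgroup Γ} {u d : ℕ}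
    (hd : ¬ p ∣ d) (h1 : eta f h (u + d) * (eta f h u)⁻¹ ∈ B) : f ∈ B := by
  have h3 : ((h * f * h⁻¹ * f⁻¹)⁻¹) ^ d ∈ B := by
    rw [← s.eta_mul_inv u d]
    exact h1
  obtain ⟨k, hk⟩ := s.hnorm 1
  rw [pow_one] at hk
  have hgp : ((h * f * h⁻¹ * f⁻¹)⁻¹) ^ p = 1 := by
    rw [inv_pow, hk]
    have c0 : Commute (f ^ k) (f⁻¹) := ((Commute.refl f).pow_left k).inv_right
    rw [c0.mul_pow, ← pow_mul, mul_comm k p, pow_mul, s.hfp, one_pow, inv_pow, s.hfp]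
    simp
  have h4 := mem_of_pow_mem s.hp hgp hd h3
  have h5 : h * f * h⁻¹ * f⁻¹ ∈ B := by simpa using B.inv_mem h4
  have hl1 : ¬ l ∣ 1 := fun hdvd => s.hl.one_lt.ne' (Nat.dvd_one.mp hdvd)
  obtain ⟨c, hc⟩ := s.hfrob 1 hl1
  rw [pow_one] at hc
  rw [← hc]
  exact B.pow_mem h5 c

/-- `h η_u⁻¹` is a power of `f` -/
theorem FAct.h_mul_eta_inv (s : FAct p l X f h) (u : ℕ) : ∃ w : ℕ, h * (eta f h u)⁻¹ = f ^ w := by
  obtain ⟨k, hk⟩ := s.conj_h_fpow 1 u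
  rw [pow_one] at hk
  refine ⟨k + (p - 1) * u, ?_⟩
  have e1 : (f ^ u)⁻¹ = f ^ ((p - 1) * u) := by
    rw [← inv_pow, s.finv, ← pow_mul]
  rw [pow_add, ← e1, ← hk]
  unfold eta
  group

/-- `h⁻¹ η_u` is a power of `f` -/
theorem FAct.hinv_mul_eta (s : FAct p l X f h) (u : ℕ) : ∃ w : ℕ, h⁻¹ * eta f h u = f ^ w := by
  obtain ⟨k, hk⟩ := s.conj_hinv_fpow 1 u
  rw [pow_one] at hk
  refine ⟨k + (p - 1) * u, ?_⟩
  have e1 : (f ^ u)⁻¹ = f ^ ((p - 1) * u) := by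
    rw [← inv_pow, s.finv, ← pow_mul]
  rw [pow_add, ← e1, ← hk]
  unfold eta
  group

/-- `h f^k h⁻¹ = f` for some `k` -/
theorem FAct.exists_conj_pow_eq (s : FAct p l X f h) : ∃ k : ℕ, h * f ^ k * h⁻¹ = f := by
  obtain ⟨k, hk⟩ := s.hnorm' 1
  rw [pow_one] at hk
  refine ⟨k, ?_⟩
  rw [← hk]
  group

end Generic


section CaseOne

variable [Finite Q₀]

/-- cyclic shift of a product over `range l` -/
theorem prod_range_shift {M : Type*} [CommMonoid M] (g : ℕ → M) {l : ℕ} (hl : 0 < l)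
    (h : g l = g 0) : ∏ j ∈ Finset.range l, g (j + 1) = ∏ j ∈ Finset.range l, g j := by
  obtain ⟨l', rfl⟩ : ∃ l', l = l' + 1 := ⟨l - 1, by omega⟩
  rw [Finset.prod_range_succ, Finset.prod_range_succ' g l', h]

/-- the `η`-norm of a `φ`-fixed character is trivial -/
theorem QH.norm_eta (q : QH p l φ η) (hm : m.Coprime (p * l)) {μ : Q₀ → K} (c : IsCh m μ)
    (hφ : ac φ μ = μ) : ∀ x, ∏ j ∈ Finset.range l, ac (η ^ j) μ x = 1 := by
  set ν : Q₀ → K := fun x => ∏ j ∈ Finset.range l, ac (η ^ j) μ x with hν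
  have cν : IsCh m ν := IsCh.prod _ _ (fun j _ => c.ac (η ^ j))
  have h1 : ac φ ν = ν := by
    rw [hν, ac_prod]
    funext x
    apply Finset.prod_congr rfl
    intro j _
    obtain ⟨k, hk⟩ := q.hnorm' j
    have e : φ * η ^ j = η ^ j * φ ^ k := by rw [← hk]; group
    rw [← ac_mul, e, ac_mul, ac_pow_of_fixed hφ]
  have h2 : ac η ν = ν := by
    rw [hν, ac_prod]
    funext x
    have e : ∀ j, ac η (ac (η ^ j) μ) x = ac (η ^ (j + 1)) μ x := by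
      intro j
      rw [← ac_mul, ← pow_succ']
    rw [Finset.prod_congr rfl (fun j _ => e j)]
    apply prod_range_shift (fun j => ac (η ^ j) μ x) q.hl.pos
    show ac (η ^ l) μ x = ac (η ^ 0) μ x
    rw [q.hηl, pow_zero]
  exact q.fixA hm cν h1 h2

/-- the inverse of `φ` satisfies the same hypotheses -/
theorem QH.inv (q : QH p l φ η) : QH p l φ⁻¹ η where
  hp := q.hp
  hl := q.hl
  hφp := by rw [inv_pow, q.hφp, inv_one]
  hηl := q.hηl
  hnorm' := by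
    intro j
    obtain ⟨k, hk⟩ := q.hnorm' j
    refine ⟨k, ?_⟩
    rw [inv_pow, ← hk]
    group
  hQc := q.hQc
  hfpfQ := by
    intro x h1 h2
    apply q.hfpfQ x _ h2
    have := congrArg φ h1
    rw [MulAut.apply_inv_self] at this
    exact this.symm

/-- **the relation (R')** -/
theorem QH.R' (q : QH p l φ η) (hm : m.Coprime (p * l)) {μ : Q₀ → K} (c : IsCh m μ)
    (hη : ac η μ = μ) : ∀ x, ∏ i ∈ Finset.range p, ac (φ ^ i) μ x = 1 := by
  intro x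
  have h1 := q.inv.R hm c hη x
  rw [← h1]
  apply Finset.prod_congr rfl
  intro i _
  rw [ac_apply, inv_pow]

/-- `T`-invariance of the `T`-norm of a function -/
theorem prod_ac_inv [Fintype ↥T] (ν : Q₀ → K) {ρ : MulAut Q₀} (hρ : ρ ∈ T) (x : Q₀) :
    ∏ τ : ↥T, ac (τ : MulAut Q₀) ν (ρ⁻¹ x) = ∏ τ : ↥T, ac (τ : MulAut Q₀) ν x := by
  have e : ∀ τ : ↥T, ac (τ : MulAut Q₀) ν (ρ⁻¹ x) = ac ((⟨ρ, hρ⟩ * τ : ↥T) : MulAut Q₀) ν x := by
    intro τ
    rw [ac_apply, ac_apply, Subgroup.coe_mul, mul_inv_rev, MulAut.mul_apply]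
  rw [Finset.prod_congr rfl (fun τ _ => e τ)]
  exact Fintype.prod_equiv (Equiv.mulLeft (⟨ρ, hρ⟩ : ↥T)) _ _ (fun τ => rfl)


theorem ac_inj {σ : MulAut Q₀} {μ ν : Q₀ → K} (h : ac σ μ = ac σ ν) : μ = ν := by
  have h1 : ac σ⁻¹ (ac σ μ) = ac σ⁻¹ (ac σ ν) := by rw [h]
  rwa [← ac_mul, ← ac_mul, inv_mul_cancel, ac_one, ac_one] at h1

theorem ac_comm {σ τ : MulAut Q₀} (h : σ * τ = τ * σ) (μ : Q₀ → K) :
    ac σ (ac τ μ) = ac τ (ac σ μ) := by
  rw [← ac_mul, h, ac_mul]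

/-- the twist bijection in a product -/
theorem prod_twist [Fintype ↥T] {a : MulAut Q₀} (haT : ∀ τ ∈ T, a * τ * a⁻¹ ∈ T)
    (hfpf : ∀ c ∈ T, a * c = c * a → c = 1) (g : MulAut Q₀ → K) :
    ∏ σ : ↥T, g ((σ : MulAut Q₀) * a * (σ : MulAut Q₀)⁻¹) = ∏ τ : ↥T, g ((τ : MulAut Q₀) * a) := by
  classical
  let θ : ↥T → ↥T := fun σ => ⟨(σ : MulAut Q₀) * a * (σ : MulAut Q₀)⁻¹ * a⁻¹, by
    have e : (σ : MulAut Q₀) * a * (σ : MulAut Q₀)⁻¹ * a⁻¹ =
        (σ : MulAut Q₀) * (a * (σ : MulAut Q₀)⁻¹ * a⁻¹) := by group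
    rw [e]
    exact T.mul_mem σ.2 (haT _ (T.inv_mem σ.2))⟩
  have hinj : Function.Injective θ := by
    intro u v huv
    have h1 : (u : MulAut Q₀) * a * (u : MulAut Q₀)⁻¹ * a⁻¹ =
        (v : MulAut Q₀) * a * (v : MulAut Q₀)⁻¹ * a⁻¹ := congrArg Subtype.val huv
    have h2 : (u : MulAut Q₀) * a * (u : MulAut Q₀)⁻¹ = (v : MulAut Q₀) * a * (v : MulAut Q₀)⁻¹ :=
      mul_right_cancel h1
    have h3 : a * ((v : MulAut Q₀)⁻¹ * u) = ((v : MulAut Q₀)⁻¹ * u) * a := by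
      calc a * ((v : MulAut Q₀)⁻¹ * u)
          = (v : MulAut Q₀)⁻¹ * ((v : MulAut Q₀) * a * (v : MulAut Q₀)⁻¹) * u := by group
        _ = (v : MulAut Q₀)⁻¹ * ((u : MulAut Q₀) * a * (u : MulAut Q₀)⁻¹) * u := by rw [h2]
        _ = ((v : MulAut Q₀)⁻¹ * u) * a := by group
    have h4 := hfpf _ (T.mul_mem (T.inv_mem v.2) u.2) h3
    apply Subtype.ext
    exact (inv_mul_eq_one.mp h4).symm
  have hbij : Function.Bijective θ := ⟨hinj, Finite.injective_iff_surjective.mp hinj⟩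
  rw [← Function.Bijective.prod_comp hbij (fun τ : ↥T => g ((τ : MulAut Q₀) * a))]
  apply Finset.prod_congr rfl
  intro σ _
  show g _ = g (((σ : MulAut Q₀) * a * (σ : MulAut Q₀)⁻¹ * a⁻¹) * a)
  rw [inv_mul_cancel_right]

/-- **case (i), fixed weights**: if `φ` centralises `T`, a `φ`-fixed weight is `T`-fixed -/
theorem BHF.one_fixed (B : BHF Λ m p l T φ η) (hcent : ∀ τ ∈ T, φ * τ = τ * φ) {lam : Q₀ → K}
    (hl : lam ∈ Λ) (hφl : ac φ lam = lam) : ∀ τ ∈ T, ac τ lam = lam := by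
  classical
  haveI : Fintype ↥T := Fintype.ofFinite _
  have q := B.qh
  have c := B.hch lam hl
  have hm0 := B.m_pos
  have ηfpf : ∀ c ∈ T, η * c = c * η → c = 1 := fun c hc h => B.act.hfpf c hc (hcent c hc) h
  -- Step 1
  have s1 : ∀ σ ∈ T, ∀ x, ∏ j ∈ Finset.range l, ac (σ * η ^ j * σ⁻¹) lam x = 1 := by
    intro σ hσ x
    have hφ' : ac φ (ac σ⁻¹ lam) = ac σ⁻¹ lam := by
      rw [ac_comm (hcent _ (T.inv_mem hσ)), hφl]
    have h1 := q.norm_eta B.hm (c.ac σ⁻¹) hφ' (σ⁻¹ x)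
    rw [← h1]
    apply Finset.prod_congr rfl
    intro j _
    rw [ac_mul, ac_mul, ac_apply]
  -- Step 2
  set F : Q₀ → K := fun x => ∏ j ∈ Finset.range (l - 1),
    ∏ τ : ↥T, ac ((τ : MulAut Q₀) * η ^ (j + 1)) lam x with hF
  have s2 : ∀ x, lam x ^ Nat.card T * F x = 1 := by
    intro x
    have h1 : ∏ σ : ↥T, ∏ j ∈ Finset.range l,
        ac ((σ : MulAut Q₀) * η ^ j * (σ : MulAut Q₀)⁻¹) lam x = 1 :=
      Finset.prod_eq_one (fun σ _ => s1 σ σ.2 x)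
    rw [Finset.prod_comm] at h1
    obtain ⟨l', hl'⟩ : ∃ l', l = l' + 1 := ⟨l - 1, by have := q.hl.pos; omega⟩
    rw [hl', Finset.prod_range_succ'] at h1
    have e0 : ∏ σ : ↥T, ac ((σ : MulAut Q₀) * η ^ 0 * (σ : MulAut Q₀)⁻¹) lam x =
        lam x ^ Nat.card T := by
      have : ∀ σ : ↥T, ac ((σ : MulAut Q₀) * η ^ 0 * (σ : MulAut Q₀)⁻¹) lam x = lam x := by
        intro σ
        rw [pow_zero, mul_one, mul_inv_cancel, ac_one]
      rw [Finset.prod_congr rfl (fun σ _ => this σ), Finset.prod_const, Finset.card_univ,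
        Nat.card_eq_fintype_card]
    rw [e0, mul_comm] at h1
    rw [← h1, hF]
    congr 1
    have hl1 : l - 1 = l' := by omega
    rw [hl1]
    apply Finset.prod_congr rfl
    intro j hj
    have hjl : ¬ l ∣ j + 1 := by
      intro hdvd
      have := Nat.le_of_dvd (Nat.succ_pos j) hdvd
      have := Finset.mem_range.mp hj
      omega
    have haT : ∀ τ ∈ T, η ^ (j + 1) * τ * (η ^ (j + 1))⁻¹ ∈ T := conj_pow_mem B.act.hhX (j + 1)
    have hfpf : ∀ c ∈ T, η ^ (j + 1) * c = c * η ^ (j + 1) → c = 1 := by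
      intro c hc h
      apply ηfpf c hc
      exact (comm_of_comm_pow' q.hl q.hηl hjl h.symm).symm
    exact (prod_twist haT hfpf (fun α => ac α lam x)).symm
  -- Step 3
  have s3 : ∀ ρ ∈ T, ∀ x, F (ρ⁻¹ x) = F x := by
    intro ρ hρ x
    rw [hF]
    apply Finset.prod_congr rfl
    intro j _
    have e : ∀ y, ∏ τ : ↥T, ac ((τ : MulAut Q₀) * η ^ (j + 1)) lam y =
        ∏ τ : ↥T, ac (τ : MulAut Q₀) (ac (η ^ (j + 1)) lam) y := by
      intro y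
      apply Finset.prod_congr rfl
      intro τ _
      rw [ac_mul]
    rw [e, e]
    exact prod_ac_inv _ hρ x
  -- Step 4
  intro τ hτ
  funext x
  rw [ac_apply]
  have h1 := s2 (τ⁻¹ x)
  rw [s3 τ hτ] at h1
  have h2 := s2 x
  have hF0 : F x ≠ 0 := by
    intro h0
    rw [h0, mul_zero] at h2
    exact zero_ne_one h2
  have h3 : lam (τ⁻¹ x) ^ Nat.card T = lam x ^ Nat.card T := by
    apply mul_right_cancel₀ hF0
    rw [h1, h2]
  exact IsCh.eq_of_pow_eq hm0 B.hcop (c.hpow _) (c.hpow _) h3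

/-- **case (i), moved weights**: if `φ` centralises `T`, a weight not fixed by `φ` is `T`-fixed -/
theorem BHF.one_moved (B : BHF Λ m p l T φ η) (hcent : ∀ τ ∈ T, φ * τ = τ * φ) {lam : Q₀ → K}
    (hl : lam ∈ Λ) (hφl : ac φ lam ≠ lam) : ∀ τ ∈ T, ac τ lam = lam := by
  have ηfpf : ∀ c ∈ T, η * c = c * η → c = 1 := fun c hc h => B.act.hfpf c hc (hcent c hc) h
  have E1 : ∀ μ ∈ Λ, ac φ μ ≠ μ → ∃ w : ℕ, ac η μ = ac (φ ^ w) μ := by
    intro μ hμ hμφ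
    rcases B.H0 μ hμ with h | ⟨u, hu⟩
    · exact absurd h hμφ
    · obtain ⟨w, hw⟩ := B.act.h_mul_eta_inv u
      refine ⟨w, ?_⟩
      have e : η = φ ^ w * eta φ η u := by rw [← hw]; group
      calc ac η μ = ac (φ ^ w * eta φ η u) μ := by rw [← e]
        _ = ac (φ ^ w) μ := by rw [ac_mul, hu]
  have E2 : ∀ μ ∈ Λ, ac φ μ ≠ μ → ∃ a : ℕ, ac η⁻¹ μ = ac (φ ^ a) μ := by
    intro μ hμ hμφ
    rcases B.H0 μ hμ with h | ⟨u, hu⟩
    · exact absurd h hμφ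
    · obtain ⟨a, ha⟩ := B.act.hinv_mul_eta u
      refine ⟨a, ?_⟩
      have e : η⁻¹ = φ ^ a * (eta φ η u)⁻¹ := by rw [← ha]; group
      have hu' : ac (eta φ η u)⁻¹ μ = μ := (stL μ).inv_mem (mem_stL.mpr hu)
      calc ac η⁻¹ μ = ac (φ ^ a * (eta φ η u)⁻¹) μ := by rw [← e]
        _ = ac (φ ^ a) μ := by rw [ac_mul, hu']
  have hpowc : ∀ τ ∈ T, ∀ n : ℕ, τ * φ ^ n = φ ^ n * τ := by
    intro τ hτ n
    have c1 : Commute τ φ := (hcent τ hτ).symm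
    exact (c1.pow_right n).eq
  have main : ∀ τ ∈ T, ∃ b : ℕ, ac (τ⁻¹ * (η * τ * η⁻¹)) lam = ac (φ ^ b) lam := by
    intro τ hτ
    obtain ⟨a, ha⟩ := E2 lam hl hφl
    have hμ : ac τ lam ∈ Λ := B.hclosed lam hl τ hτ
    have hμφ : ac φ (ac τ lam) ≠ ac τ lam := by
      intro h
      apply hφl
      rw [ac_comm (hcent τ hτ)] at h
      exact ac_inj h
    obtain ⟨w, hw⟩ := E1 _ hμ hμφ
    obtain ⟨a', ha'⟩ := B.act.conj_h_fpow 1 a
    rw [pow_one] at ha'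
    have e1 : η * φ ^ a = φ ^ a' * η := by rw [← ha']; group
    refine ⟨a' + w, ?_⟩
    calc ac (τ⁻¹ * (η * τ * η⁻¹)) lam = ac τ⁻¹ (ac η (ac τ (ac η⁻¹ lam))) := by
          rw [ac_mul, ac_mul, ac_mul]
      _ = ac τ⁻¹ (ac η (ac τ (ac (φ ^ a) lam))) := by rw [ha]
      _ = ac τ⁻¹ (ac η (ac (φ ^ a) (ac τ lam))) := by rw [ac_comm (hpowc τ hτ a)]
      _ = ac τ⁻¹ (ac (φ ^ a') (ac η (ac τ lam))) := by
          rw [← ac_mul η, e1, ac_mul]
      _ = ac τ⁻¹ (ac (φ ^ a') (ac (φ ^ w) (ac τ lam))) := by rw [hw]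
      _ = ac τ⁻¹ (ac (φ ^ (a' + w)) (ac τ lam)) := by rw [← ac_mul (φ ^ a'), ← pow_add]
      _ = ac τ⁻¹ (ac τ (ac (φ ^ (a' + w)) lam)) := by rw [ac_comm (hpowc τ hτ (a' + w))]
      _ = ac (φ ^ (a' + w)) lam := by rw [← ac_mul, inv_mul_cancel, ac_one]
  intro τ hτ
  obtain ⟨y, hy, hyτ⟩ := exists_twist B.act.hhX ηfpf hτ
  obtain ⟨b, hb⟩ := main y hy
  rw [hyτ] at hb
  have hpow : ∀ n : ℕ, ac (τ ^ n) lam = ac (φ ^ (b * n)) lam := by
    intro n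
    induction n with
    | zero => simp
    | succ n ih =>
      rw [pow_succ', ac_mul, ih, ac_comm (hpowc τ hτ (b * n)), hb, ← ac_mul, ← pow_add]
      congr 2
  have hcard : τ ^ Nat.card T = 1 := by
    have h1 : (⟨τ, hτ⟩ : ↥T) ^ Nat.card T = 1 := pow_card_eq_one'
    exact congrArg Subtype.val h1
  have h1 := hpow (Nat.card T)
  rw [hcard, ac_one] at h1
  have hdvd : p ∣ b * Nat.card T := by
    by_contra hnd
    apply hφl
    have : φ ^ (b * Nat.card T) ∈ stL lam := mem_stL.mpr h1.symm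
    exact mem_stL.mp (mem_of_pow_mem B.act.hp B.act.hfp hnd this)
  have hpb : p ∣ b := by
    rcases (Nat.Prime.dvd_mul B.act.hp).mp hdvd with h2 | h2
    · exact h2
    · exfalso
      have h3 := B.act.cop_p
      have h4 : p ∣ Nat.gcd (Nat.card T) p := Nat.dvd_gcd h2 dvd_rfl
      rw [h3] at h4
      exact B.act.hp.one_lt.ne' (Nat.dvd_one.mp h4)
  obtain ⟨n, rfl⟩ := hpb
  rw [hb, pow_mul, B.act.hfp, one_pow, ac_one]

end CaseOne


section CaseTwo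

variable [Finite Q₀]

/-- **case (ii), fixed weights**: if `φ` has no fixed points on the abelian group `T`, a `φ`-fixed
weight is `T`-fixed -/
theorem BHF.two_fixed (B : BHF Λ m p l T φ η) (hab : ∀ x ∈ T, ∀ y ∈ T, x * y = y * x)
    (hfpfT : ∀ τ ∈ T, φ * τ = τ * φ → τ = 1) {lam : Q₀ → K} (hl : lam ∈ Λ)
    (hφl : ac φ lam = lam) : ∀ τ ∈ T, ac τ lam = lam := by
  set L : Subgroup (MulAut Q₀) := T ⊓ stL lam with hL
  have hφst : φ ∈ stL lam := mem_stL.mpr hφl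
  have hfL : ∀ x ∈ L, φ * x * φ⁻¹ ∈ L := by
    rintro x ⟨h1, h2⟩
    exact ⟨B.act.hfX x h1,
      (stL lam).mul_mem ((stL lam).mul_mem hφst h2) ((stL lam).inv_mem hφst)⟩
  have key : ∀ τ ∈ T, τ⁻¹ * (φ * τ * φ⁻¹) ∈ L → τ ∈ L := by
    intro τ hτ h
    obtain ⟨n, hn, hc⟩ := B.act.lift_f inf_le_left hfL h
    have h1 := hfpfT _ (T.mul_mem hτ hn.1) hc
    have e : τ = n⁻¹ := eq_inv_of_mul_eq_one_left h1
    rw [e]
    exact L.inv_mem hn
  intro τ hτ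
  rcases B.H0 _ (B.hclosed lam hl τ hτ) with h | ⟨u, hu⟩
  · have h1 : τ⁻¹ * φ * τ ∈ stL lam := mem_stL_ac.mp (mem_stL.mpr h)
    have h2 : τ⁻¹ * (φ * τ * φ⁻¹) ∈ L := by
      refine ⟨T.mul_mem (T.inv_mem hτ) (B.act.hfX τ hτ), ?_⟩
      have e : τ⁻¹ * (φ * τ * φ⁻¹) = (τ⁻¹ * φ * τ) * φ⁻¹ := by group
      rw [e]
      exact (stL lam).mul_mem h1 ((stL lam).inv_mem hφst)
    exact (key τ hτ h2).2
  · have a' := B.act.conj u
    have hg : τ⁻¹ * eta φ η u * τ ∈ stL lam := mem_stL_ac.mp (mem_stL.mpr hu)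
    generalize hη' : eta φ η u = η' at a' hg hu
    set τ' := τ⁻¹ * (η' * τ * η'⁻¹) with hτ'
    have hτ'T : τ' ∈ T := T.mul_mem (T.inv_mem hτ) (a'.hhX τ hτ)
    have hg' : τ⁻¹ * η' * τ = τ' * η' := by rw [hτ']; group
    obtain ⟨k, hk⟩ := a'.exists_conj_pow_eq
    have hc : (τ' * η') * φ ^ k * (τ' * η')⁻¹ * φ⁻¹ ∈ stL lam := by
      rw [← hg']
      exact (stL lam).mul_mem ((stL lam).mul_mem ((stL lam).mul_mem hg
        ((stL lam).pow_mem hφst k)) ((stL lam).inv_mem hg)) ((stL lam).inv_mem hφst)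
    have e : (τ' * η') * φ ^ k * (τ' * η')⁻¹ * φ⁻¹ = τ' * (φ * τ'⁻¹ * φ⁻¹) := by
      calc (τ' * η') * φ ^ k * (τ' * η')⁻¹ * φ⁻¹
          = τ' * (η' * φ ^ k * η'⁻¹) * τ'⁻¹ * φ⁻¹ := by group
        _ = τ' * (φ * τ'⁻¹ * φ⁻¹) := by rw [hk]; group
    rw [e] at hc
    have h2 : τ'⁻¹ * (φ * τ' * φ⁻¹) ∈ L := by
      have h3 : τ' * (φ * τ'⁻¹ * φ⁻¹) ∈ L :=
        ⟨T.mul_mem hτ'T (B.act.hfX _ (T.inv_mem hτ'T)), hc⟩
      have e2 : τ'⁻¹ * (φ * τ' * φ⁻¹) = (τ' * (φ * τ'⁻¹ * φ⁻¹))⁻¹ := by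
        rw [hab _ (T.inv_mem hτ'T) _ (B.act.hfX _ hτ'T)]
        group
      rw [e2]
      exact L.inv_mem h3
    have h4 := key τ' hτ'T h2
    have hη'st : η' ∈ stL lam := by
      have : η' = τ'⁻¹ * (τ⁻¹ * η' * τ) := by rw [hg']; group
      rw [this]
      exact (stL lam).mul_mem ((stL lam).inv_mem h4.2) hg
    have q' := (B.conj u).qh
    rw [hη'] at q'
    have htriv := q'.fixA B.hm (B.hch lam hl) hφl (mem_stL.mp hη'st)
    funext x
    rw [ac_apply, htriv, htriv]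

/-- **case (ii)**: the translates of an `η`-fixed weight not fixed by `φ` are `η`-fixed -/
theorem BHF.two_eta (B : BHF Λ m p l T φ η) (hab : ∀ x ∈ T, ∀ y ∈ T, x * y = y * x)
    (hfpfT : ∀ τ ∈ T, φ * τ = τ * φ → τ = 1) {lam : Q₀ → K} (hl : lam ∈ Λ)
    (hηl : ac η lam = lam) (hφl : ac φ lam ≠ lam) : ∀ τ ∈ T, ac η (ac τ lam) = ac τ lam := by
  intro τ hτ
  have hτl := B.hclosed lam hl τ hτ
  rcases B.H0 _ hτl with h | ⟨u, hu⟩
  · exfalso
    apply hφl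
    have h1 := B.two_fixed hab hfpfT hτl h τ⁻¹ (T.inv_mem hτ)
    rw [← ac_mul, inv_mul_cancel, ac_one] at h1
    rw [h1]
    exact h
  · by_cases hpu : p ∣ u
    · obtain ⟨n, rfl⟩ := hpu
      have e : eta φ η (p * n) = η := by
        have := B.act.eta_add_mul 0 n
        rwa [zero_add, eta_zero] at this
      rw [e] at hu
      exact hu
    · exfalso
      have a' := B.act.conj u
      have hψφ : ∀ B' : Subgroup (MulAut Q₀), eta φ η u * η⁻¹ ∈ B' → φ ∈ B' := by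
        intro B' h
        apply B.act.f_mem_of_eta_mul_inv_mem (u := 0) (d := u) hpu
        rwa [zero_add, eta_zero]
      have hg : τ⁻¹ * eta φ η u * τ ∈ stL lam := mem_stL_ac.mp (mem_stL.mpr hu)
      generalize hη' : eta φ η u = η' at a' hg hu hψφ
      set ψ := η' * η⁻¹ with hψ
      have hψT : ∀ x ∈ T, ψ * x * ψ⁻¹ ∈ T := by
        intro x hx
        have e : ψ * x * ψ⁻¹ = η' * (η⁻¹ * x * η) * η'⁻¹ := by rw [hψ]; group
        rw [e]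
        exact a'.hhX _ (B.act.hhX' x hx)
      have hψfpf : ∀ c ∈ T, ψ * c = c * ψ → c = 1 := by
        intro c hc h
        apply hfpfT c hc
        have h1 : φ ∈ centralizer {c} := hψφ _ (mem_centralizer_singleton_iff.mpr h)
        exact mem_centralizer_singleton_iff.mp h1
      set τ₂ := τ⁻¹ * (η' * τ * η'⁻¹) with hτ₂
      have hτ₂T : τ₂ ∈ T := T.mul_mem (T.inv_mem hτ) (a'.hhX τ hτ)
      have h1 : τ₂ * ψ ∈ stL lam := by
        have e : τ₂ * ψ = (τ⁻¹ * η' * τ) * η⁻¹ := by rw [hτ₂, hψ]; group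
        rw [e]
        exact (stL lam).mul_mem hg ((stL lam).inv_mem (mem_stL.mpr hηl))
      obtain ⟨y, hy, hyτ⟩ := exists_twist hψT hψfpf hτ₂T
      have e2 : τ₂ * ψ = y⁻¹ * ψ * y := by rw [← hyτ]; group
      rw [e2] at h1
      have h2 : ψ ∈ stL (ac y lam) := mem_stL_ac.mpr h1
      have h3 : φ ∈ stL (ac y lam) := hψφ _ h2
      have hyl := B.hclosed lam hl y hy
      have h4 := B.two_fixed hab hfpfT hyl (mem_stL.mp h3) y⁻¹ (T.inv_mem hy)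
      rw [← ac_mul, inv_mul_cancel, ac_one] at h4
      apply hφl
      rw [h4]
      exact mem_stL.mp h3

theorem BHF.two_comm_mem (B : BHF Λ m p l T φ η) (hab : ∀ x ∈ T, ∀ y ∈ T, x * y = y * x)
    (hfpfT : ∀ τ ∈ T, φ * τ = τ * φ → τ = 1) {lam : Q₀ → K} (hl : lam ∈ Λ)
    (hηl : ac η lam = lam) (hφl : ac φ lam ≠ lam) :
    ∀ σ ∈ T, σ⁻¹ * (η * σ * η⁻¹) ∈ T ⊓ stL lam := by
  intro σ hσ
  refine ⟨T.mul_mem (T.inv_mem hσ) (B.act.hhX σ hσ), ?_⟩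
  have h1 := B.two_eta hab hfpfT hl hηl hφl σ hσ
  have h2 : σ⁻¹ * η * σ ∈ stL lam := mem_stL_ac.mp (mem_stL.mpr h1)
  have e : σ⁻¹ * (η * σ * η⁻¹) = (σ⁻¹ * η * σ) * η⁻¹ := by group
  rw [e]
  exact (stL lam).mul_mem h2 ((stL lam).inv_mem (mem_stL.mpr hηl))

theorem BHF.two_comm_mem' (B : BHF Λ m p l T φ η) (hab : ∀ x ∈ T, ∀ y ∈ T, x * y = y * x)
    (hfpfT : ∀ τ ∈ T, φ * τ = τ * φ → τ = 1) {lam : Q₀ → K} (hl : lam ∈ Λ)
    (hηl : ac η lam = lam) (hφl : ac φ lam ≠ lam) :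
    ∀ σ ∈ T, σ⁻¹ * (η⁻¹ * σ * η) ∈ T ⊓ stL lam := by
  intro σ hσ
  have h1 := B.two_comm_mem hab hfpfT hl hηl hφl _ (B.act.hhX' σ hσ)
  have e : σ⁻¹ * (η⁻¹ * σ * η) = ((η⁻¹ * σ * η)⁻¹ * (η * (η⁻¹ * σ * η) * η⁻¹))⁻¹ := by group
  rw [e]
  exact Subgroup.inv_mem _ h1

theorem BHF.closed_pow (B : BHF Λ m p l T φ η) (i : ℕ) : ∀ lam ∈ Λ, ac (φ ^ i) lam ∈ Λ := by
  induction i with
  | zero => intro lam hl; rwa [pow_zero, ac_one]
  | succ i ih =>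
    intro lam hl
    rw [pow_succ', ac_mul]
    exact B.hclosedφ _ (ih lam hl)

/-- **case (ii)**: the decomposition `T = T_λ T_{φⁱ λ}` -/
theorem BHF.two_decomp (B : BHF Λ m p l T φ η) (hab : ∀ x ∈ T, ∀ y ∈ T, x * y = y * x)
    (hfpfT : ∀ τ ∈ T, φ * τ = τ * φ → τ = 1) {lam : Q₀ → K} (hl : lam ∈ Λ)
    (hηl : ac η lam = lam) (hφl : ac φ lam ≠ lam) {i : ℕ} (hi : ¬ p ∣ i) :
    ∀ ρ ∈ T, ∃ a ∈ T ⊓ stL lam, ∃ b ∈ T ⊓ stL (ac (φ ^ i) lam), ρ = a * b := by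
  have B' := B.conj i
  have a' := B.act.conj i
  have hl_i : ac (φ ^ i) lam ∈ Λ := B.closed_pow i lam hl
  have hη_i : ac (eta φ η i) (ac (φ ^ i) lam) = ac (φ ^ i) lam := by
    have e : eta φ η i * φ ^ i = φ ^ i * η := by unfold eta; group
    rw [← ac_mul, e, ac_mul, hηl]
  have hφ_i : ac φ (ac (φ ^ i) lam) ≠ ac (φ ^ i) lam := by
    intro h
    apply hφl
    have e : φ * φ ^ i = φ ^ i * φ := by rw [← pow_succ, ← pow_succ']
    rw [ac_comm e] at h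
    exact ac_inj h
  have c1 := B.two_comm_mem' hab hfpfT hl hηl hφl
  have c1_i := B'.two_comm_mem hab hfpfT hl_i hη_i hφ_i
  have hψφ : ∀ B' : Subgroup (MulAut Q₀), eta φ η i * η⁻¹ ∈ B' → φ ∈ B' := by
    intro B' h
    apply B.act.f_mem_of_eta_mul_inv_mem (u := 0) (d := i) hi
    rwa [zero_add, eta_zero]
  generalize hη' : eta φ η i = η' at a' c1_i hψφ
  set ψ := η' * η⁻¹ with hψ
  have hψT : ∀ x ∈ T, ψ * x * ψ⁻¹ ∈ T := by
    intro x hx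
    have e : ψ * x * ψ⁻¹ = η' * (η⁻¹ * x * η) * η'⁻¹ := by rw [hψ]; group
    rw [e]
    exact a'.hhX _ (B.act.hhX' x hx)
  have hψfpf : ∀ c ∈ T, ψ * c = c * ψ → c = 1 := by
    intro c hc h
    apply hfpfT c hc
    have h1 : φ ∈ centralizer {c} := hψφ _ (mem_centralizer_singleton_iff.mpr h)
    exact mem_centralizer_singleton_iff.mp h1
  intro ρ hρ
  obtain ⟨y, hy, hyρ⟩ := exists_twist hψT hψfpf hρ
  have hy₁ : η⁻¹ * y * η ∈ T := B.act.hhX' y hy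
  refine ⟨y⁻¹ * (η⁻¹ * y * η), c1 y hy,
    (η⁻¹ * y * η)⁻¹ * (η' * (η⁻¹ * y * η) * η'⁻¹), c1_i _ hy₁, ?_⟩
  rw [← hyρ, hψ]
  group

end CaseTwo

end Cfsg.Agent.Lib.Helper23.PQ
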