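import Mathlib
import Cfsg.Agent.Lib.Helper23.PQ5

/-!
# helper23: the abelian case (Lemma B) in action form for a Frobenius group of order `p l`, part 3:
the norm computation and the final statement
-/

set_option autoImplicit false
set_option linter.unusedSectionVars false
set_option linter.style.haveILetI false

namespace Cfsg.Agent.Lib.Helper23.PQ

open Subgroup
open Cfsg.Agent.Lib.Helper23.S3 (ac ac_apply ac_one ac_mul stL mem_stL mem_stL_ac
  conj_inv_mem_of_finite lift_of_pow orderOf_dvd_card_of_mem ASimple)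
open scoped commutatorElement

variable {K : Type*} [Field K] {Q₀ : Type*} [Group Q₀] [Finite Q₀]
variable {Λ : Set (Q₀ → K)} {m p l : ℕ} {T : Subgroup (MulAut Q₀)} {φ η : MulAut Q₀}

/-- **case (ii)**: an `η`-fixed weight not fixed by `φ` is `T`-fixed -/
theorem BHF.two_moved (B : BHF Λ m p l T φ η) (hab : ∀ x ∈ T, ∀ y ∈ T, x * y = y * x)
    (hfpfT : ∀ τ ∈ T, φ * τ = τ * φ → τ = 1) {lam : Q₀ → K} (hl : lam ∈ Λ)
    (hηl : ac η lam = lam) (hφl : ac φ lam ≠ lam) : ∀ τ ∈ T, ac τ lam = lam := by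
  classical
  set TL : Subgroup (MulAut Q₀) := T ⊓ stL lam with hTL
  haveI : Fintype ↥TL := Fintype.ofFinite _
  have q := B.qh
  have c := B.hch lam hl
  have hm0 := B.m_pos
  -- (1)
  have s1 : ∀ x, ∏ i ∈ Finset.range p, ∏ σ : ↥TL, ac (φ ^ i) lam ((σ : MulAut Q₀) x) = 1 := by
    intro x
    rw [Finset.prod_comm]
    apply Finset.prod_eq_one
    intro σ _
    exact q.R' B.hm c hηl _
  -- (2)
  have s2 : ∀ x, ∏ σ : ↥TL, ac (φ ^ 0) lam ((σ : MulAut Q₀) x) = lam x ^ Nat.card TL := by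
    intro x
    have : ∀ σ : ↥TL, ac (φ ^ 0) lam ((σ : MulAut Q₀) x) = lam x := by
      intro σ
      rw [pow_zero, ac_one]
      exact apply_of_ac_fixed (mem_stL.mp σ.2.2) x
    rw [Finset.prod_congr rfl (fun σ _ => this σ), Finset.prod_const, Finset.card_univ,
      Nat.card_eq_fintype_card]
  -- (3)
  have s3 : ∀ j : ℕ, j + 1 < p → ∀ ρ ∈ T, ∀ x,
      ∏ σ : ↥TL, ac (φ ^ (j + 1)) lam ((σ : MulAut Q₀) (ρ x)) =
      ∏ σ : ↥TL, ac (φ ^ (j + 1)) lam ((σ : MulAut Q₀) x) := by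
    intro j hj ρ hρ x
    have hi : ¬ p ∣ j + 1 := by
      intro hdvd
      have := Nat.le_of_dvd (Nat.succ_pos j) hdvd
      omega
    obtain ⟨a, ha, b, hb, hρab⟩ := B.two_decomp hab hfpfT hl hηl hφl hi ρ hρ
    have e : ∀ σ : ↥TL, ac (φ ^ (j + 1)) lam ((σ : MulAut Q₀) (ρ x)) =
        ac (φ ^ (j + 1)) lam (((σ * ⟨a, ha⟩ : ↥TL) : MulAut Q₀) x) := by
      intro σ
      have e1 : (σ : MulAut Q₀) (ρ x) = b ((((σ * ⟨a, ha⟩ : ↥TL) : MulAut Q₀)) x) := by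
        rw [hρab, ← MulAut.mul_apply, ← MulAut.mul_apply, Subgroup.coe_mul]
        congr 1
        show (σ : MulAut Q₀) * (a * b) = b * ((σ : MulAut Q₀) * a)
        rw [← mul_assoc]
        exact hab _ (T.mul_mem σ.2.1 ha.1) _ hb.1
      rw [e1]
      exact apply_of_ac_fixed (mem_stL.mp hb.2) _
    rw [Finset.prod_congr rfl (fun σ _ => e σ)]
    exact Fintype.prod_equiv (Equiv.mulRight (⟨a, ha⟩ : ↥TL)) _ _ (fun σ => rfl)
  -- (4)
  obtain ⟨p', hp'⟩ : ∃ p', p = p' + 1 := ⟨p - 1, by have := q.hp.pos; omega⟩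
  set F : Q₀ → K := fun x => ∏ j ∈ Finset.range p',
    ∏ σ : ↥TL, ac (φ ^ (j + 1)) lam ((σ : MulAut Q₀) x) with hF
  have s4 : ∀ x, F x * lam x ^ Nat.card TL = 1 := by
    intro x
    have h1 := s1 x
    rw [hp', Finset.prod_range_succ', s2] at h1
    exact h1
  have s5 : ∀ ρ ∈ T, ∀ x, F (ρ x) = F x := by
    intro ρ hρ x
    rw [hF]
    apply Finset.prod_congr rfl
    intro j hj
    have := Finset.mem_range.mp hj
    exact s3 j (by omega) ρ hρ x
  -- (5)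
  intro τ hτ
  funext x
  rw [ac_apply]
  have h1 := s4 (τ⁻¹ x)
  rw [s5 _ (T.inv_mem hτ)] at h1
  have h2 := s4 x
  have hF0 : F x ≠ 0 := by
    intro h0
    rw [h0, zero_mul] at h2
    exact zero_ne_one h2
  have h3 : lam (τ⁻¹ x) ^ Nat.card TL = lam x ^ Nat.card TL := by
    apply mul_left_cancel₀ hF0
    rw [h1, h2]
  have hcop : (Nat.card TL).Coprime m :=
    Nat.Coprime.coprime_dvd_left (Subgroup.card_dvd_of_le inf_le_left) B.hcop
  exact IsCh.eq_of_pow_eq hm0 hcop (c.hpow _) (c.hpow _) h3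

/-- **case (ii)**: every weight is `T`-fixed -/
theorem BHF.two_all (B : BHF Λ m p l T φ η) (hab : ∀ x ∈ T, ∀ y ∈ T, x * y = y * x)
    (hfpfT : ∀ τ ∈ T, φ * τ = τ * φ → τ = 1) {lam : Q₀ → K} (hl : lam ∈ Λ) :
    ∀ τ ∈ T, ac τ lam = lam := by
  by_cases hφl : ac φ lam = lam
  · exact B.two_fixed hab hfpfT hl hφl
  · rcases B.H0 lam hl with h | ⟨u, hu⟩
    · exact absurd h hφl
    · exact (B.conj u).two_moved hab hfpfT hl hu hφl

/-- the minimal case of Lemma B -/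
theorem BHF.false_of_simple (B : BHF Λ m p l T φ η) {s : ℕ} (hs : s.Prime) (hT : IsPGroup s T)
    (hS : ASimple T φ η) : False := by
  have hab := ASimple.abelian' hs hT B.act hS
  apply hS.1
  rw [Subgroup.eq_bot_iff_forall]
  intro τ hτ
  apply B.Hsep τ hτ
  intro lam hl
  rcases ASimple.cent' B.act hS with hc | hc
  · exact B.two_all hab hc hl τ hτ
  · by_cases hφl : ac φ lam = lam
    · exact B.one_fixed hc hl hφl τ hτ
    · exact B.one_moved hc hl hφl τ hτ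

/-- **Lemma B in action form** -/
theorem BHF.eq_bot (B : BHF Λ m p l T φ η) {s : ℕ} (hs : s.Prime) (hT : IsPGroup s T) : T = ⊥ := by
  classical
  by_contra hne
  let 𝓢 : Set (Subgroup (MulAut Q₀)) :=
    {T' | T' ≤ T ∧ T' ≠ ⊥ ∧ (∀ τ ∈ T', φ * τ * φ⁻¹ ∈ T') ∧ (∀ τ ∈ T', η * τ * η⁻¹ ∈ T')}
  have hne' : 𝓢.Nonempty := ⟨T, le_rfl, hne, B.act.hfX, B.act.hhX⟩
  obtain ⟨T₁, ⟨hT₁T, hT₁ne, hφ₁, hη₁⟩, hmin⟩ :=
    (wellFounded_lt (α := Subgroup (MulAut Q₀))).has_min 𝓢 hne'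
  have B₁ := B.sub hT₁T hφ₁ hη₁
  have hS : ASimple T₁ φ η := by
    refine ⟨hT₁ne, ?_⟩
    intro T' hT' hφ' hη'
    by_cases h0 : T' = ⊥
    · exact Or.inl h0
    · right
      by_contra hne2
      exact hmin T' ⟨hT'.trans hT₁T, h0, hφ', hη'⟩ (lt_of_le_of_ne hT' hne2)
  exact B₁.false_of_simple hs (hT.to_le hT₁T) hS

end Cfsg.Agent.Lib.Helper23.PQ
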