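import Mathlib
import Cfsg.Agent.Lib.Helper23.PQ6
import Cfsg.Agent.Lib.Helper23.S3G

/-!
# helper23: Lemma B (the abelian case) for a Frobenius group of order `p l` acting without fixed
points
-/

set_option autoImplicit false
set_option linter.unusedSectionVars false
set_option linter.style.haveILetI false

namespace Cfsg.Agent.Lib.Helper23.PQ

open Module Subgroup
open Cfsg.Agent.Lib.Helper23.Ward
open Cfsg.Agent.Lib.Helper23.S3 (ac ac_apply ac_one ac_mul stL mem_stL mem_stL_ac wtSet ext0
  ext0_apply smul_eq_smul_iff rho_mul_apply mem_normalizer_of_conj_mem)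
open scoped commutatorElement

universe u

variable {K : Type*} [Field K] {Γ : Type*} [Group Γ] {V : Type u} [AddCommGroup V] [Module K V]

section LemmaB

variable [Finite Γ] [IsAlgClosed K] [FiniteDimensional K V]

/-- **Lemma B**: an `s`-group normalising an abelian `t`-group `Q` acting faithfully on a module
without `A`-fixed vectors centralises `Q` -/
theorem lemmaB' (ρ : Representation K Γ V) {t s p l : ℕ} (ht : t.Prime) (hs : s.Prime)
    (hts : t ≠ s) (htK : (t : K) ≠ 0)
    {Q S : Subgroup Γ} {f h : Γ} (hQ : IsPGroup t Q) (hS : IsPGroup s S)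
    (aQ : FAct p l Q f h) (aS : FAct p l S f h) (hSQ : S ≤ normalizer (Q : Set Γ))
    (hQab : ∀ x ∈ Q, ∀ y ∈ Q, x * y = y * x)
    (hfaith : ∀ x ∈ Q, ρ x = 1 → x = 1)
    (hfV : ∀ v : V, ρ f v = v → ρ h v = v → v = 0) :
    ∀ x ∈ Q, ∀ y ∈ S, x * y = y * x := by
  classical
  have : Fact t.Prime := ⟨ht⟩
  have : Fact s.Prime := ⟨hs⟩
  have H : HypW ρ p l Q f h := ⟨aQ, hfV⟩
  have hfN : f ∈ normalizer (Q : Set Γ) := mem_normalizer_of_conj_mem aQ.hfX
  have hhN : h ∈ normalizer (Q : Set Γ) := mem_normalizer_of_conj_mem aQ.hhX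
  set N : Subgroup Γ := normalizer (Q : Set Γ) with hN
  set ψ : ↥N →* MulAut ↥Q := Q.normalizerMonoidHom with hψ
  have hψapp : ∀ (g : ↥N) (x : ↥Q), ((ψ g x : ↥Q) : Γ) = g * x * (g : Γ)⁻¹ :=
    fun g x => Q.normalizerMonoidHom_apply_apply_coe g x
  have hψinv : ∀ (g : ↥N) (x : ↥Q), (((ψ g)⁻¹ x : ↥Q) : Γ) = (g : Γ)⁻¹ * x * g := by
    intro g x
    rw [← map_inv, hψapp]
    simp
  set T : Subgroup (MulAut ↥Q) := (S.subgroupOf N).map ψ with hT
  have actT : FAct p l T (ψ ⟨f, hfN⟩) (ψ ⟨h, hhN⟩) := (aS.subtype N hfN hhN).map ψ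
  have hTp : IsPGroup s T := (hS.comap_subtype).map ψ
  have hcardQ : (Nat.card Q : K) ≠ 0 := by
    obtain ⟨b, hb⟩ := IsPGroup.iff_card.mp hQ
    rw [hb, Nat.cast_pow]
    exact pow_ne_zero _ htK
  -- weights
  have hpowv : ∀ (lam : ↥Q → K) (v : V), (∀ x : ↥Q, ρ (x : Γ) v = lam x • v) →
      ∀ (a : ↥Q) (k : ℕ), ρ ((a : Γ) ^ k) v = lam a ^ k • v := by
    intro lam v hv a k
    induction k with
    | zero => simp
    | succ k ih => rw [pow_succ, rho_mul_apply, hv a, map_smul, ih, smul_smul, pow_succ, mul_comm]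
  -- translates of weights
  have htrans : ∀ (lam : ↥Q → K) (v : V), (∀ x : ↥Q, ρ (x : Γ) v = lam x • v) → ∀ g : ↥N,
      ∀ x : ↥Q, ρ (x : Γ) (ρ (g : Γ) v) = ac (ψ g) lam x • ρ (g : Γ) v := by
    intro lam v hv g x
    rw [ac_apply]
    have h1 := hv ((ψ g)⁻¹ x)
    rw [hψinv] at h1
    have e : (x : Γ) * g = g * ((g : Γ)⁻¹ * x * g) := by group
    rw [← rho_mul_apply, e, rho_mul_apply, h1, map_smul]
  have hclosedN : ∀ lam ∈ wtSet ρ Q, ∀ g : ↥N, ac (ψ g) lam ∈ wtSet ρ Q := by
    rintro lam ⟨v, hv0, hv⟩ g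
    refine ⟨ρ (g : Γ) v, ?_, htrans lam v hv g⟩
    intro h0
    apply hv0
    have := rho_inv_apply ρ (g : Γ) v
    rw [h0, map_zero] at this
    exact this.symm
  have hB : BHF (wtSet ρ Q) (Nat.card Q) p l T (ψ ⟨f, hfN⟩) (ψ ⟨h, hhN⟩) :=
    { act := actT
      hQc := fun a b => Subtype.ext (hQab a a.2 b b.2)
      hfpfQ := by
        intro x hx1 hx2
        have h1 := congrArg Subtype.val hx1
        rw [hψapp] at h1
        have h2 := congrArg Subtype.val hx2
        rw [hψapp] at h2
        have h3 : f * (x : Γ) = x * f := by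
          calc f * (x : Γ) = (f * x * f⁻¹) * f := by group
            _ = x * f := by rw [h1]
        have h4 : h * (x : Γ) = x * h := by
          calc h * (x : Γ) = (h * x * h⁻¹) * h := by group
            _ = x * h := by rw [h2]
        exact Subtype.ext (aQ.hfpf x x.2 h3 h4)
      hch := by
        rintro lam ⟨v, hv0, hv⟩
        constructor
        · intro a b
          have h1 := hv (a * b)
          rw [Subgroup.coe_mul, rho_mul_apply, hv b, map_smul, hv a, smul_smul, mul_comm] at h1
          exact ((smul_eq_smul_iff hv0).mp h1).symm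
        · intro a
          have h1 := hpowv lam v hv a (Nat.card Q)
          have h2 : (a : Γ) ^ Nat.card Q = 1 := by
            have : a ^ Nat.card Q = 1 := pow_card_eq_one'
            exact_mod_cast congrArg Subtype.val this
          rw [h2, map_one, Module.End.one_apply] at h1
          have h3 : (1 : K) • v = lam a ^ Nat.card ↥Q • v := by rw [one_smul]; exact h1
          exact ((smul_eq_smul_iff hv0).mp h3).symm
      hm := aQ.hcop
      hcop := by
        have h1 : Nat.card T ∣ Nat.card (S.subgroupOf N) := Subgroup.card_map_dvd _ _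
        have h2 : Nat.card (S.subgroupOf N) = Nat.card S := by
          exact Nat.card_congr (Subgroup.subgroupOfEquivOfLe hSQ).toEquiv
        obtain ⟨a, ha⟩ := IsPGroup.iff_card.mp hS
        obtain ⟨b, hb⟩ := IsPGroup.iff_card.mp hQ
        rw [h2, ha] at h1
        rw [hb]
        apply Nat.Coprime.coprime_dvd_left h1
        apply Nat.Coprime.pow
        exact (Nat.coprime_primes hs ht).mpr (Ne.symm hts)
      hclosed := by
        rintro lam hl _ ⟨g, -, rfl⟩
        exact hclosedN lam hl g
      hclosedφ := fun lam hl => hclosedN lam hl _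
      H0 := by
        rintro lam ⟨v, hv0, hv⟩
        by_contra hcon
        push Not at hcon
        obtain ⟨n1, n2⟩ := hcon
        apply hv0
        have hvwt : v ∈ wt ρ Q (ext0 Q lam) := by
          intro z hz
          rw [ext0_apply Q lam hz]
          exact hv ⟨z, hz⟩
        have hstab : ∀ g : ↥N, (g : Γ) ∈ stab Q (ext0 Q lam) → ac (ψ g) lam = lam := by
          rintro g ⟨-, hg⟩
          funext x
          rw [ac_apply]
          have h1 := hg x x.2
          rw [ext0_apply Q lam x.2] at h1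
          rw [← h1]
          have h2 : (g : Γ)⁻¹ * x * g ∈ Q := by
            rw [← hψinv]; exact Subtype.mem _
          rw [ext0_apply Q lam h2]
          congr 1
          apply Subtype.ext
          rw [hψinv]
        refine H.regular ?_ ?_ v hvwt
        · intro hf
          exact n1 (hstab ⟨f, hfN⟩ hf)
        · intro u hh
          apply n2 u
          have h1 : ((eta (⟨f, hfN⟩ : ↥N) ⟨h, hhN⟩ u : ↥N) : Γ) = eta f h u := by
            simp [eta]
          have h2 := hstab (eta (⟨f, hfN⟩ : ↥N) ⟨h, hhN⟩ u) (by rw [h1]; exact hh)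
          have h3 : ψ (eta (⟨f, hfN⟩ : ↥N) ⟨h, hhN⟩ u) = eta (ψ ⟨f, hfN⟩) (ψ ⟨h, hhN⟩) u := by
            unfold eta
            rw [map_mul, map_mul, map_inv, map_pow]
          rw [h3] at h2
          exact h2
      Hsep := by
        rintro _ ⟨g, -, rfl⟩ hfix
        have hinv : ∀ x : ↥Q, (ψ g)⁻¹ x = x := by
          intro x
          have hop : ρ (((ψ g)⁻¹ x : ↥Q) : Γ) = ρ (x : Γ) := by
            apply LinearMap.ext
            intro v
            have hdec := mem_iSup_wt ρ Q ⊤ (fun _ _ _ _ => Submodule.mem_top)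
              (fun z hz z' hz' u _ => by
                rw [← rho_mul_apply, ← rho_mul_apply, hQab z hz z' hz']) hcardQ v Submodule.mem_top
            have hle : (⨆ χ : Γ → K, (⊤ : Submodule K V) ⊓ wt ρ Q χ) ≤
                LinearMap.ker (ρ (((ψ g)⁻¹ x : ↥Q) : Γ) - ρ (x : Γ)) := by
              apply iSup_le
              rintro χ u ⟨-, hu⟩
              rw [LinearMap.mem_ker, LinearMap.sub_apply, sub_eq_zero]
              by_cases hu0 : u = 0
              · rw [hu0, map_zero, map_zero]
              · have hl : (fun y : ↥Q => χ (y : Γ)) ∈ wtSet ρ Q :=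
                  ⟨u, hu0, fun y => hu y y.2⟩
                have h1 := congrFun (hfix _ hl) x
                rw [ac_apply] at h1
                rw [hu _ (Subtype.mem _), hu _ x.2, h1]
            have := hle hdec
            rw [LinearMap.mem_ker, LinearMap.sub_apply, sub_eq_zero] at this
            exact this
          have h1 : ρ ((x : Γ)⁻¹ * (((ψ g)⁻¹ x : ↥Q) : Γ)) = 1 := by
            rw [map_mul, hop, ← map_mul, inv_mul_cancel, map_one]
          have h2 := hfaith _ (Q.mul_mem (Q.inv_mem x.2) (Subtype.mem _)) h1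
          apply Subtype.ext
          exact (inv_mul_eq_one.mp h2).symm
        have h3 : (ψ g)⁻¹ = 1 := by
          ext x
          rw [hinv, MulAut.one_apply]
        exact inv_eq_one.mp h3 }
  have hbot := hB.eq_bot hs hTp
  intro x hx y hy
  have h1 : ψ ⟨y, hSQ hy⟩ ∈ T := ⟨⟨y, hSQ hy⟩, mem_subgroupOf.mpr hy, rfl⟩
  rw [hbot, Subgroup.mem_bot] at h1
  have h2 := congrArg (fun α : MulAut ↥Q => ((α ⟨x, hx⟩ : ↥Q) : Γ)) h1
  simp only [MulAut.one_apply] at h2
  rw [hψapp] at h2
  have h3 : y * x * y⁻¹ = x := h2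
  calc x * y = (y * x * y⁻¹) * y := by rw [h3]
    _ = y * x := by group

end LemmaB

end Cfsg.Agent.Lib.Helper23.PQ
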