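import Mathlib
import Cfsg.Agent.Lib.Helper23.PQ7
import Cfsg.Agent.Lib.Helper23.Class2
import Cfsg.Agent.Lib.Helper16.BGPrimA

/-!
# helper23: the key theorem for a Frobenius group of order `p l`, part 1: infrastructure and the
structure of a minimal counterexample
-/

set_option autoImplicit false
set_option linter.unusedSectionVars false
set_option linter.style.haveILetI false

namespace Cfsg.Agent.Lib.Helper23.PQ

open Module Subgroup
open Cfsg.Agent.Lib.Helper23.Ward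
open Cfsg.Agent.Lib.Helper23.S3 (rho_mul_apply mem_normalizer_of_conj_mem conj_inv_mem_of_finite)
open scoped commutatorElement

universe u v

section Infra

variable {K : Type*} [Field K] {Γ : Type*} [Group Γ] {V : Type*} [AddCommGroup V] [Module K V]

/-- the stabiliser of a subspace -/
def stabSub (ρ : Representation K Γ V) (W : Submodule K V) : Subgroup Γ where
  carrier := {g | ∀ v, v ∈ W ↔ ρ g v ∈ W}
  mul_mem' := by
    intro a b ha hb v
    rw [map_mul, Module.End.mul_apply, ← ha, ← hb]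
  one_mem' := by
    intro v
    rw [map_one, Module.End.one_apply]
  inv_mem' := by
    intro a ha v
    have h1 := ha (ρ a⁻¹ v)
    have e : ρ a (ρ a⁻¹ v) = v := by
      rw [← Module.End.mul_apply, ← map_mul, mul_inv_cancel, map_one, Module.End.one_apply]
    rw [e] at h1
    exact h1.symm

theorem mem_stabSub {ρ : Representation K Γ V} {W : Submodule K V} {g : Γ} :
    g ∈ stabSub ρ W ↔ ∀ v, v ∈ W ↔ ρ g v ∈ W := Iff.rfl

theorem mem_stabSub_of_le [Finite Γ] {ρ : Representation K Γ V} {W : Submodule K V} {g : Γ}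
    (h : ∀ v ∈ W, ρ g v ∈ W) : g ∈ stabSub ρ W := by
  intro v
  refine ⟨h v, ?_⟩
  intro hv
  have hpow : ∀ k : ℕ, ∀ w ∈ W, ρ (g ^ k) w ∈ W := by
    intro k
    induction k with
    | zero => intro w hw; simpa using hw
    | succ k ih =>
      intro w hw
      rw [pow_succ, map_mul, Module.End.mul_apply]
      exact ih _ (h w hw)
  have hfin : g ^ orderOf g = 1 := pow_orderOf_eq_one g
  have hpos : 0 < orderOf g := orderOf_pos g
  have e : g⁻¹ = g ^ (orderOf g - 1) := inv_eq_pow_pred hpos hfin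
  have h2 := hpow (orderOf g - 1) _ hv
  rw [← e, ← Module.End.mul_apply, ← map_mul, inv_mul_cancel, map_one, Module.End.one_apply] at h2
  exact h2

/-- the representation of the stabiliser on the subspace -/
noncomputable def repOn (ρ : Representation K Γ V) (W : Submodule K V) :
    Representation K ↥(stabSub ρ W) ↥W where
  toFun g := (ρ (g : Γ)).restrict (fun v hv => (g.2 v).mp hv)
  map_one' := by
    ext w
    simp
  map_mul' := by
    intro a b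
    ext w
    simp

@[simp] theorem repOn_coe (ρ : Representation K Γ V) (W : Submodule K V) (g : ↥(stabSub ρ W))
    (w : ↥W) : ((repOn ρ W g w : ↥W) : V) = ρ (g : Γ) (w : V) := rfl

/-- the kernel of a representation -/
def kerQ (ρ : Representation K Γ V) : Subgroup Γ := (ρ : Γ →* Module.End K V).ker

instance (ρ : Representation K Γ V) : (kerQ ρ).Normal := by
  unfold kerQ
  infer_instance

theorem mem_kerQ {ρ : Representation K Γ V} {g : Γ} : g ∈ kerQ ρ ↔ ρ g = 1 := MonoidHom.mem_ker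

/-- the faithful representation of the quotient by the kernel -/
noncomputable def faithRep (ρ : Representation K Γ V) : Representation K (Γ ⧸ kerQ ρ) V :=
  QuotientGroup.lift (kerQ ρ) ρ le_rfl

@[simp] theorem faithRep_mk (ρ : Representation K Γ V) (g : Γ) :
    faithRep ρ (QuotientGroup.mk' (kerQ ρ) g) = ρ g := rfl

theorem faithRep_inj (ρ : Representation K Γ V) (x : Γ ⧸ kerQ ρ) (hx : faithRep ρ x = 1) :
    x = 1 := by
  obtain ⟨g, rfl⟩ := QuotientGroup.mk'_surjective (kerQ ρ) x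
  rw [faithRep_mk] at hx
  exact (QuotientGroup.eq_one_iff g).mpr (mem_kerQ.mpr hx)

/-- conjugation preserves commutator subgroups of invariant subgroups -/
theorem conj_mem_commutator {A B : Subgroup Γ} {g : Γ} (hA : ∀ x ∈ A, g * x * g⁻¹ ∈ A)
    (hB : ∀ x ∈ B, g * x * g⁻¹ ∈ B) : ∀ x ∈ ⁅A, B⁆, g * x * g⁻¹ ∈ ⁅A, B⁆ := by
  intro x hx
  have h1 : (MulAut.conj g).toMonoidHom x ∈ ⁅A, B⁆.map (MulAut.conj g).toMonoidHom :=
    Subgroup.mem_map_of_mem _ hx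
  rw [Subgroup.map_commutator] at h1
  have hA' : A.map (MulAut.conj g).toMonoidHom ≤ A := by
    rintro _ ⟨a, ha, rfl⟩
    exact hA a ha
  have hB' : B.map (MulAut.conj g).toMonoidHom ≤ B := by
    rintro _ ⟨b, hb, rfl⟩
    exact hB b hb
  exact Subgroup.commutator_mono hA' hB' h1

end Infra

section KeyDef

variable (K : Type*) [Field K]

/-- the statement of the key theorem for configurations of a given size -/
def KeyAt (t s p l n : ℕ) : Prop :=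
  ∀ (Γ : Type u) [Group Γ] [Finite Γ] (V : Type v) [AddCommGroup V] [Module K V]
    [FiniteDimensional K V] (ρ : Representation K Γ V) (Q S : Subgroup Γ) (f h : Γ),
    Nat.card Q + finrank K V = n → IsPGroup t Q → IsPGroup s S → FAct p l Q f h →
    FAct p l S f h → S ≤ normalizer (Q : Set Γ) → (∀ v : V, ρ f v = v → ρ h v = v → v = 0) →
    ∀ x ∈ Q, ∀ y ∈ S, ρ ⁅x, y⁆ = 1

end KeyDef

section MinCE

variable {K : Type*} [Field K] {Γ : Type*} [Group Γ] {V : Type*} [AddCommGroup V] [Module K V]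

/-- a minimal counterexample to the key theorem -/
structure MinCE (ρ : Representation K Γ V) (t s p l : ℕ) (Q S : Subgroup Γ) (f h : Γ) : Prop where
  ht : t.Prime
  hs : s.Prime
  hts : t ≠ s
  htK : (t : K) ≠ 0
  hpK : (p : K) ≠ 0
  hlK : (l : K) ≠ 0
  hQ : IsPGroup t Q
  hS : IsPGroup s S
  aQ : FAct p l Q f h
  aS : FAct p l S f h
  hSQ : S ≤ normalizer (Q : Set Γ)
  hfV : ∀ v : V, ρ f v = v → ρ h v = v → v = 0
  hfaith : ∀ x ∈ Q, ρ x = 1 → x = 1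
  hsub : ∀ Q' : Subgroup Γ, Q' ≤ Q → Q' ≠ Q → (∀ x ∈ Q', f * x * f⁻¹ ∈ Q') →
    (∀ x ∈ Q', h * x * h⁻¹ ∈ Q') → S ≤ normalizer (Q' : Set Γ) →
    ∀ x ∈ Q', ∀ y ∈ S, x * y = y * x
  hSmin : ∀ S' : Subgroup Γ, S' ≤ S → S' ≠ S → (∀ x ∈ S', f * x * f⁻¹ ∈ S') →
    (∀ x ∈ S', h * x * h⁻¹ ∈ S') → ∀ x ∈ Q, ∀ y ∈ S', x * y = y * x
  hY : ∀ Y : Submodule K V, Y ≠ ⊤ → (∀ x ∈ Q, ∀ v ∈ Y, ρ x v ∈ Y) →
    (∀ y ∈ S, ∀ v ∈ Y, ρ y v ∈ Y) → (∀ v ∈ Y, ρ f v ∈ Y) → (∀ v ∈ Y, ρ h v ∈ Y) →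
    ∀ x ∈ Q, ∀ y ∈ S, ∀ v ∈ Y, ρ ⁅x, y⁆ v = v
  hne : ∃ x ∈ Q, ∃ y ∈ S, x * y ≠ y * x

variable {ρ : Representation K Γ V} {t s p l : ℕ} {Q S : Subgroup Γ} {f h : Γ}

namespace MinCE

variable [Finite Γ]

theorem cop (c : MinCE ρ t s p l Q S f h) : (Nat.card S).Coprime (Nat.card Q) := by
  have : Fact t.Prime := ⟨c.ht⟩
  have : Fact s.Prime := ⟨c.hs⟩
  obtain ⟨a, ha⟩ := IsPGroup.iff_card.mp c.hS
  obtain ⟨b, hb⟩ := IsPGroup.iff_card.mp c.hQ
  rw [ha, hb]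
  apply Nat.Coprime.pow
  exact (Nat.coprime_primes c.hs c.ht).mpr (Ne.symm c.hts)

theorem solvQ (c : MinCE ρ t s p l Q S f h) : Group.IsSolvable ↥Q := by
  have : Fact t.Prime := ⟨c.ht⟩
  have := c.hQ.isNilpotent
  infer_instance

/-- `Q` is not abelian -/
theorem nonab [IsAlgClosed K] [FiniteDimensional K V] (c : MinCE ρ t s p l Q S f h) :
    ¬ ∀ a ∈ Q, ∀ b ∈ Q, a * b = b * a := by
  intro hab
  obtain ⟨x, hx, y, hy, hxy⟩ := c.hne
  exact hxy (lemmaB' ρ c.ht c.hs c.hts c.htK c.hQ c.hS c.aQ c.aS c.hSQ hab c.hfaith c.hfV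
    x hx y hy)

/-- `[Q, S] = Q` -/
theorem comm_eq (c : MinCE ρ t s p l Q S f h) : ⁅Q, S⁆ = Q := by
  have hle : ⁅Q, S⁆ ≤ Q := Cfsg.Agent.Lib.Helper1.commutator_le_of_le_normalizer c.hSQ
  by_contra hne'
  have hfN : ∀ x ∈ ⁅Q, S⁆, f * x * f⁻¹ ∈ ⁅Q, S⁆ := conj_mem_commutator c.aQ.hfX c.aS.hfX
  have hhN : ∀ x ∈ ⁅Q, S⁆, h * x * h⁻¹ ∈ ⁅Q, S⁆ := conj_mem_commutator c.aQ.hhX c.aS.hhX
  have hSN : S ≤ normalizer ((⁅Q, S⁆ : Subgroup Γ) : Set Γ) :=
    Cfsg.Agent.Lib.Helper1.le_normalizer_commutator_right Q S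
  have h1 := c.hsub _ hle hne' hfN hhN hSN
  have h2 : ⁅⁅Q, S⁆, S⁆ = ⊥ := by
    rw [Subgroup.commutator_eq_bot_iff_le_centralizer]
    intro x hx
    rw [mem_centralizer_iff]
    intro y hy
    exact (h1 x hx y hy).symm
  have h3 := Cfsg.Agent.Lib.Helper16.BGPrim.comm_comm_eq_coprime Q S c.hSQ c.cop (Or.inr c.solvQ)
  rw [h2] at h3
  obtain ⟨x, hx, y, hy, hxy⟩ := c.hne
  apply hxy
  have h4 : ⁅x, y⁆ ∈ ⁅Q, S⁆ := Subgroup.commutator_mem_commutator hx hy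
  rw [← h3, Subgroup.mem_bot] at h4
  exact commutatorElement_eq_one_iff_mul_comm.mp h4

/-- a proper invariant normal subgroup of `Q` is central -/
theorem central_of_normal (c : MinCE ρ t s p l Q S f h) {Q' : Subgroup Γ} (hle : Q' ≤ Q)
    (hne' : Q' ≠ Q) (hQN : Q ≤ normalizer (Q' : Set Γ)) (hfN : ∀ x ∈ Q', f * x * f⁻¹ ∈ Q')
    (hhN : ∀ x ∈ Q', h * x * h⁻¹ ∈ Q') (hSN : S ≤ normalizer (Q' : Set Γ)) :
    ∀ x' ∈ Q', ∀ x ∈ Q, x' * x = x * x' := by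
  have h1 := c.hsub _ hle hne' hfN hhN hSN
  have h2 : ⁅Q', S⁆ = ⊥ := by
    rw [Subgroup.commutator_eq_bot_iff_le_centralizer]
    intro x hx
    rw [mem_centralizer_iff]
    intro y hy
    exact (h1 x hx y hy).symm
  have h3 : ⁅⁅Q, Q'⁆, S⁆ = ⊥ := by
    have h4 : ⁅Q, Q'⁆ ≤ Q' := by
      rw [Subgroup.commutator_comm]
      exact Cfsg.Agent.Lib.Helper1.commutator_le_of_le_normalizer hQN
    rw [eq_bot_iff, ← h2]
    exact Subgroup.commutator_mono h4 le_rfl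
  have h5 : ⁅⁅Q', S⁆, Q⁆ = ⊥ := by
    rw [h2, Subgroup.commutator_bot_left]
  have h6 := Subgroup.commutator_commutator_eq_bot_of_rotate h3 h5
  rw [Subgroup.commutator_comm S Q, c.comm_eq] at h6
  intro x' hx' x hx
  have h7 : ⁅x, x'⁆ ∈ ⁅Q, Q'⁆ := Subgroup.commutator_mem_commutator hx hx'
  rw [h6, Subgroup.mem_bot] at h7
  exact (commutatorElement_eq_one_iff_mul_comm.mp h7).symm


/-- the centre of `Q` -/
def Zc (Q : Subgroup Γ) : Subgroup Γ := Q ⊓ centralizer (Q : Set Γ)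

theorem mem_Zc {Q : Subgroup Γ} {z : Γ} : z ∈ Zc Q ↔ z ∈ Q ∧ ∀ x ∈ Q, x * z = z * x := by
  unfold Zc
  rw [Subgroup.mem_inf, mem_centralizer_iff]
  rfl

theorem Zc_le (Q : Subgroup Γ) : Zc Q ≤ Q := inf_le_left

/-- elements normalising `Q` normalise its centre -/
theorem conj_mem_Zc {g : Γ} (hg : ∀ x ∈ Q, g * x * g⁻¹ ∈ Q) : ∀ z ∈ Zc Q, g * z * g⁻¹ ∈ Zc Q := by
  intro z hz
  rw [mem_Zc] at hz ⊢
  refine ⟨hg z hz.1, ?_⟩
  intro x hx
  have h1 := hz.2 _ (conj_inv_mem_of_finite hg x hx)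
  calc x * (g * z * g⁻¹) = g * ((g⁻¹ * x * g) * z) * g⁻¹ := by group
    _ = g * (z * (g⁻¹ * x * g)) * g⁻¹ := by rw [h1]
    _ = (g * z * g⁻¹) * x := by group

theorem Zc_comm {a b : Γ} (ha : a ∈ Zc Q) (hb : b ∈ Zc Q) : a * b = b * a :=
  ((mem_Zc.mp hb).2 a (mem_Zc.mp ha).1)

theorem Zc_ne (c : MinCE ρ t s p l Q S f h) [IsAlgClosed K] [FiniteDimensional K V] :
    Zc Q ≠ Q := by
  intro e
  apply c.nonab
  intro a ha b hb
  have : b ∈ Zc Q := by rw [e]; exact hb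
  exact (mem_Zc.mp this).2 a ha

theorem Q_ne_bot (c : MinCE ρ t s p l Q S f h) : Q ≠ ⊥ := by
  intro e
  obtain ⟨x, hx, y, hy, hxy⟩ := c.hne
  rw [e, Subgroup.mem_bot] at hx
  apply hxy
  rw [hx, one_mul, mul_one]

theorem Zc_ne_bot (c : MinCE ρ t s p l Q S f h) : Zc Q ≠ ⊥ := by
  have : Fact t.Prime := ⟨c.ht⟩
  have hnt : Nontrivial ↥Q := (Subgroup.nontrivial_iff_ne_bot Q).mpr c.Q_ne_bot
  have hcn : Nontrivial (Subgroup.center ↥Q) := c.hQ.center_nontrivial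
  obtain ⟨z, hz⟩ := exists_ne (1 : Subgroup.center ↥Q)
  intro e
  apply hz
  have h1 : ((z : ↥Q) : Γ) ∈ Zc Q := by
    rw [mem_Zc]
    refine ⟨(z : ↥Q).2, ?_⟩
    intro x hx
    have h2 := Subgroup.mem_center_iff.mp z.2 ⟨x, hx⟩
    exact congrArg Subtype.val h2
  rw [e, Subgroup.mem_bot] at h1
  apply Subtype.ext
  apply Subtype.ext
  exact h1

theorem Zc_normalizer_S (c : MinCE ρ t s p l Q S f h) : S ≤ normalizer ((Zc Q : Subgroup Γ) : Set Γ) := by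
  intro y hy
  apply mem_normalizer_of_conj_mem
  apply conj_mem_Zc
  intro x hx
  exact (mem_normalizer_iff.mp (c.hSQ hy) x).mp hx

/-- `S` centralises the centre of `Q` -/
theorem S_cent_Zc (c : MinCE ρ t s p l Q S f h) [IsAlgClosed K] [FiniteDimensional K V] :
    ∀ z ∈ Zc Q, ∀ y ∈ S, z * y = y * z :=
  c.hsub _ (Zc_le Q) c.Zc_ne (conj_mem_Zc c.aQ.hfX) (conj_mem_Zc c.aQ.hhX) c.Zc_normalizer_S

theorem actZ (c : MinCE ρ t s p l Q S f h) : FAct p l (Zc Q) f h :=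
  c.aQ.sub (Zc_le Q) (conj_mem_Zc c.aQ.hfX) (conj_mem_Zc c.aQ.hhX)

/-- the derived subgroup of `Q` is proper -/
theorem comm_ne (c : MinCE ρ t s p l Q S f h) : ⁅Q, Q⁆ ≠ Q := by
  intro e
  have hsolv := c.solvQ
  have hnt : Nontrivial ↥Q := (Subgroup.nontrivial_iff_ne_bot Q).mpr c.Q_ne_bot
  have h1 := Group.IsSolvable.commutator_lt_top_of_nontrivial ↥Q
  apply h1.ne
  have h2 : (commutator ↥Q).map Q.subtype = ⁅Q, Q⁆ := by
    rw [commutator_def, Subgroup.map_commutator, ← MonoidHom.range_eq_map, Subgroup.range_subtype]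
  apply Subgroup.map_injective Q.subtype_injective
  rw [h2, e, ← MonoidHom.range_eq_map, Subgroup.range_subtype]

/-- `Q` has class two -/
theorem class2 (c : MinCE ρ t s p l Q S f h) : ∀ a ∈ Q, ∀ b ∈ Q, ⁅a, b⁆ ∈ Zc Q := by
  have hle : ⁅Q, Q⁆ ≤ Q := Cfsg.Agent.Lib.Helper1.commutator_le_of_le_normalizer le_normalizer
  have hQN : Q ≤ normalizer ((⁅Q, Q⁆ : Subgroup Γ) : Set Γ) :=
    Cfsg.Agent.Lib.Helper1.le_normalizer_commutator_left Q Q
  have hSN : S ≤ normalizer ((⁅Q, Q⁆ : Subgroup Γ) : Set Γ) := by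
    intro y hy
    apply mem_normalizer_of_conj_mem
    have hyQ : ∀ x ∈ Q, y * x * y⁻¹ ∈ Q := fun x hx => (mem_normalizer_iff.mp (c.hSQ hy) x).mp hx
    exact conj_mem_commutator hyQ hyQ
  have h1 := c.central_of_normal hle c.comm_ne hQN (conj_mem_commutator c.aQ.hfX c.aQ.hfX)
    (conj_mem_commutator c.aQ.hhX c.aQ.hhX) hSN
  intro a ha b hb
  have hab : ⁅a, b⁆ ∈ ⁅Q, Q⁆ := Subgroup.commutator_mem_commutator ha hb
  rw [mem_Zc]
  refine ⟨hle hab, ?_⟩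
  intro x hx
  exact (h1 _ hab x hx).symm


/-- commutators in `Q` are central in `↥Q` -/
theorem comm_mem_center (c : MinCE ρ t s p l Q S f h) (a b : ↥Q) :
    ⁅a, b⁆ ∈ Subgroup.center ↥Q := by
  rw [Subgroup.mem_center_iff]
  intro x
  have h1 := c.class2 a a.2 b b.2
  apply Subtype.ext
  have h2 := (mem_Zc.mp h1).2 x x.2
  simpa [commutatorElement_def] using h2

/-- `t`-th powers in `Q` are central -/
theorem pow_mem_Zc (c : MinCE ρ t s p l Q S f h) [IsAlgClosed K] [FiniteDimensional K V] :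
    ∀ x ∈ Q, x ^ t ∈ Zc Q := by
  classical
  have : Fact t.Prime := ⟨c.ht⟩
  -- the subgroup of elements with central `t`-th power
  have hmul : ∀ a ∈ Q, ∀ b ∈ Q, a ^ t ∈ Zc Q → b ^ t ∈ Zc Q → (a * b) ^ t ∈ Zc Q := by
    intro a ha b hb hat hbt
    have h1 := Cfsg.Agent.Lib.Helper23.mul_pow_of_central_commutator (⟨a, ha⟩ : ↥Q) ⟨b, hb⟩
      (c.comm_mem_center _ _) t
    have h2 := congrArg Subtype.val h1
    simp only [Subgroup.coe_mul, Subgroup.coe_pow] at h2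
    rw [h2]
    refine (Zc Q).mul_mem ((Zc Q).mul_mem hat hbt) ((Zc Q).pow_mem ?_ _)
    exact c.class2 b hb a ha
  let Q₁ : Subgroup Γ :=
    { carrier := {x | x ∈ Q ∧ x ^ t ∈ Zc Q}
      mul_mem' := by
        rintro a b ⟨ha, hat⟩ ⟨hb, hbt⟩
        exact ⟨Q.mul_mem ha hb, hmul a ha b hb hat hbt⟩
      one_mem' := ⟨Q.one_mem, by rw [one_pow]; exact (Zc Q).one_mem⟩
      inv_mem' := by
        rintro a ⟨ha, hat⟩
        exact ⟨Q.inv_mem ha, by rw [inv_pow]; exact (Zc Q).inv_mem hat⟩ }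
  have hQ₁mem : ∀ x, x ∈ Q₁ ↔ x ∈ Q ∧ x ^ t ∈ Zc Q := fun x => Iff.rfl
  have hQ₁le : Q₁ ≤ Q := fun x hx => hx.1
  have hconj : ∀ g : Γ, (∀ x ∈ Q, g * x * g⁻¹ ∈ Q) → ∀ x ∈ Q₁, g * x * g⁻¹ ∈ Q₁ := by
    intro g hg x hx
    refine ⟨hg x hx.1, ?_⟩
    rw [conj_pow]
    exact conj_mem_Zc hg _ hx.2
  by_contra hcon
  push Not at hcon
  obtain ⟨x₀, hx₀, hx₀t⟩ := hcon
  have hQ₁ne : Q₁ ≠ Q := by
    intro e
    have : x₀ ∈ Q₁ := by rw [e]; exact hx₀
    exact hx₀t this.2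
  have hQN : Q ≤ normalizer ((Q₁ : Subgroup Γ) : Set Γ) := by
    intro g hg
    apply mem_normalizer_of_conj_mem
    apply hconj
    intro x hx
    exact Q.mul_mem (Q.mul_mem hg hx) (Q.inv_mem hg)
  have hSN : S ≤ normalizer ((Q₁ : Subgroup Γ) : Set Γ) := by
    intro y hy
    apply mem_normalizer_of_conj_mem
    apply hconj
    intro x hx
    exact (mem_normalizer_iff.mp (c.hSQ hy) x).mp hx
  have hcent := c.central_of_normal hQ₁le hQ₁ne hQN (hconj f c.aQ.hfX) (hconj h c.aQ.hhX) hSN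
  have hQ₁Z : ∀ x ∈ Q₁, x ∈ Zc Q := by
    intro x hx
    rw [mem_Zc]
    exact ⟨hx.1, fun y hy => (hcent x hx y hy).symm⟩
  -- a power of `x₀` lies in `Q₁` but not in the centre
  have hx₀Z : x₀ ∉ Zc Q := fun hz => hx₀t ((Zc Q).pow_mem hz t)
  obtain ⟨k, hk⟩ := c.hQ ⟨x₀, hx₀⟩
  have hk' : x₀ ^ t ^ k = 1 := by
    have := congrArg Subtype.val hk
    simpa using this
  have hex : ∃ k : ℕ, x₀ ^ t ^ k ∈ Zc Q := ⟨k, by rw [hk']; exact (Zc Q).one_mem⟩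
  set k₀ := Nat.find hex with hk₀
  have hk₀spec : x₀ ^ t ^ k₀ ∈ Zc Q := Nat.find_spec hex
  have hk₀pos : k₀ ≠ 0 := by
    intro e
    rw [e, pow_zero, pow_one] at hk₀spec
    exact hx₀Z hk₀spec
  obtain ⟨k₁, hk₁⟩ := Nat.exists_eq_succ_of_ne_zero hk₀pos
  have hmin : x₀ ^ t ^ k₁ ∉ Zc Q := Nat.find_min hex (by rw [← hk₀, hk₁]; exact Nat.lt_succ_self k₁)
  apply hmin
  apply hQ₁Z
  refine ⟨Q.pow_mem hx₀ _, ?_⟩
  rw [← pow_mul, ← pow_succ, ← Nat.succ_eq_add_one, ← hk₁]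
  exact hk₀spec

/-- commutators in `Q` have order dividing `t` -/
theorem comm_pow (c : MinCE ρ t s p l Q S f h) [IsAlgClosed K] [FiniteDimensional K V] :
    ∀ a ∈ Q, ∀ b ∈ Q, ⁅a, b⁆ ^ t = 1 := by
  intro a ha b hb
  have h1 := Cfsg.Agent.Lib.Helper23.commutatorElement_pow_left_of_central (⟨a, ha⟩ : ↥Q)
    ⟨b, hb⟩ (c.comm_mem_center _ _) t
  have h2 := congrArg Subtype.val h1
  simp only [Subgroup.coe_pow] at h2
  have h3 : ⁅a ^ t, b⁆ = ⁅a, b⁆ ^ t := by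
    simpa [commutatorElement_def] using h2
  rw [← h3]
  have h4 := (mem_Zc.mp (c.pow_mem_Zc a ha)).2 b hb
  rw [commutatorElement_eq_one_iff_mul_comm]
  exact h4.symm

end MinCE

end MinCE

end Cfsg.Agent.Lib.Helper23.PQ
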