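import Mathlib
import Cfsg.Agent.Lib.Helper23.PQ8a
import Cfsg.Agent.Lib.Helper23.S3B
import Cfsg.Agent.Lib.Helper17.BG146A
import Cfsg.Agent.Lib.Helper17.CoprimeGen
import Cfsg.Agent.Lib.Helper29.PrimePowerElement

/-!
# helper23: the key theorem for a Frobenius group of order `p l`, part 2: the weights of the centre
and the case where `f` stabilises a weight
-/

set_option autoImplicit false
set_option linter.unusedSectionVars false
set_option linter.style.haveILetI false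

namespace Cfsg.Agent.Lib.Helper23.PQ

open Module Subgroup
open Cfsg.Agent.Lib.Helper23.Ward
open Cfsg.Agent.Lib.Helper23.S3 (rho_mul_apply mem_normalizer_of_conj_mem conj_inv_mem_of_finite
  hh1)
open Cfsg.Agent.Lib.Helper23.PQ.MinCE (Zc mem_Zc Zc_le conj_mem_Zc Zc_comm)
open scoped commutatorElement

universe u v

variable {K : Type*} [Field K] {Γ : Type*} [Group Γ] {V : Type u} [AddCommGroup V] [Module K V]
variable {ρ : Representation K Γ V} {t s p l : ℕ} {Q S : Subgroup Γ} {f h : Γ} {χ : Γ → K}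

theorem cj_cj (a b : Γ) (χ : Γ → K) : cj a (cj b χ) = cj (a * b) χ := by
  funext z
  rw [cj_apply, cj_apply, cj_apply]
  congr 1
  group

theorem cj_one (χ : Γ → K) : cj (1 : Γ) χ = χ := by
  funext z
  rw [cj_apply]
  congr 1
  group

/-- an element centralising `Z` stabilises every weight -/
theorem mem_stab_of_cent [Finite Γ] {Z : Subgroup Γ} {g : Γ} (hg : ∀ z ∈ Z, z * g = g * z)
    (χ : Γ → K) :
    g ∈ stab Z χ := by
  have e : ∀ z ∈ Z, g⁻¹ * z * g = z := by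
    intro z hz
    rw [mul_assoc, hg z hz, ← mul_assoc, inv_mul_cancel, one_mul]
  have e' : ∀ z ∈ Z, g * z * g⁻¹ = z := by
    intro z hz
    rw [← hg z hz, mul_assoc, mul_inv_cancel, mul_one]
  refine ⟨?_, ?_⟩
  · apply mem_normalizer_of_conj_mem
    intro z hz
    rw [e' z hz]
    exact hz
  · intro z hz
    rw [e z hz]

/-- the chosen weight: its conjugates under `⟨f, h⟩` span `V` -/
structure WD (ρ : Representation K Γ V) (Q : Subgroup Γ) (f h : Γ) (χ : Γ → K) : Prop where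
  nw : NW ρ (Zc Q) ⊤ χ
  top : (⨆ a : ↥(closure ({f, h} : Set Γ)), wt ρ (Zc Q) (cj (a : Γ) χ)) = ⊤

section

variable [Finite Γ]

theorem FAct.closure_le_normalizer {X : Subgroup Γ} (a : FAct p l X f h) :
    closure ({f, h} : Set Γ) ≤ normalizer (X : Set Γ) := by
  rw [closure_le]
  intro g hg
  rcases hg with hg | hg
  · rw [hg]; exact a.f_mem_normalizer
  · have : g = h := hg
    rw [this]; exact a.h_mem_normalizer

/-- the conjugates of `f` under `⟨f, h⟩` are powers of `f` -/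
theorem FAct.conj_f_mem_zpowers {X : Subgroup Γ} (a : FAct p l X f h) {g : Γ}
    (hg : g ∈ closure ({f, h} : Set Γ)) : g⁻¹ * f * g ∈ zpowers f := by
  have hle : closure ({f, h} : Set Γ) ≤ normalizer ((zpowers f : Subgroup Γ) : Set Γ) := by
    rw [closure_le]
    intro g hg
    rcases hg with hg | hg
    · rw [hg]
      exact le_normalizer (mem_zpowers f)
    · have : g = h := hg
      rw [this]
      apply mem_normalizer_of_conj_mem
      intro x hx
      have := a.conj_h_mem_zpowers 1 hx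
      rwa [pow_one] at this
  have h1 := hle (Subgroup.inv_mem _ hg)
  have h2 := (mem_normalizer_iff.mp h1 f).mp (mem_zpowers f)
  rwa [inv_inv] at h2

namespace WD

/-- a linear map that is the identity on all the conjugate weight spaces is the identity -/
theorem eq_one_of_forall (w : WD ρ Q f h χ) {g : Γ}
    (hg : ∀ a ∈ closure ({f, h} : Set Γ), ∀ v ∈ wt ρ (Zc Q) (cj a χ), ρ g v = v) : ρ g = 1 := by
  apply LinearMap.ext
  intro v
  have hv : v ∈ (⊤ : Submodule K V) := Submodule.mem_top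
  rw [← w.top] at hv
  have hle : (⨆ a : ↥(closure ({f, h} : Set Γ)), wt ρ (Zc Q) (cj (a : Γ) χ)) ≤
      LinearMap.ker (ρ g - 1) := by
    apply iSup_le
    intro a u hu
    rw [LinearMap.mem_ker, LinearMap.sub_apply, Module.End.one_apply, sub_eq_zero]
    exact hg a a.2 u hu
  have := hle hv
  rw [LinearMap.mem_ker, LinearMap.sub_apply, Module.End.one_apply, sub_eq_zero] at this
  rw [this, Module.End.one_apply]

/-- the translates of the chosen weight have the same properties -/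
theorem cj (w : WD ρ Q f h χ) (hN : closure ({f, h} : Set Γ) ≤ normalizer ((Zc Q : Subgroup Γ) : Set Γ))
    {b : Γ} (hb : b ∈ closure ({f, h} : Set Γ)) : WD ρ Q f h (Ward.cj b χ) where
  nw := by
    obtain ⟨v, hv, hv0⟩ := w.nw.hv
    obtain ⟨z, hz, hz1⟩ := w.nw.hz
    constructor
    · refine ⟨ρ b v, ⟨Submodule.mem_top, map_wt (hN hb) hv.2⟩, ?_⟩
      intro h0
      apply hv0
      have := rho_inv_apply ρ b v
      rw [h0, map_zero] at this
      exact this.symm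
    · refine ⟨b * z * b⁻¹, conj_mem_of_mem_normalizer (hN hb) hz, ?_⟩
      rw [cj_apply]
      have e : b⁻¹ * (b * z * b⁻¹) * b = z := by group
      rw [e]
      exact hz1
  top := by
    rw [eq_top_iff, ← w.top]
    apply iSup_le
    intro a
    have hab : (a : Γ) * b⁻¹ ∈ closure ({f, h} : Set Γ) :=
      Subgroup.mul_mem _ a.2 (Subgroup.inv_mem _ hb)
    have e : Ward.cj ((a : Γ) * b⁻¹) (Ward.cj b χ) = Ward.cj (a : Γ) χ := by
      rw [cj_cj, inv_mul_cancel_right]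
    rw [← e]
    exact le_iSup (fun a' : ↥(closure ({f, h} : Set Γ)) => wt ρ (Zc Q) (Ward.cj (a' : Γ) (Ward.cj b χ)))
      ⟨(a : Γ) * b⁻¹, hab⟩

end WD

namespace MinCE

variable [IsAlgClosed K] [FiniteDimensional K V]

theorem card_Zc_ne_zero (c : MinCE ρ t s p l Q S f h) : (Nat.card (Zc Q) : K) ≠ 0 := by
  have : Fact t.Prime := ⟨c.ht⟩
  obtain ⟨b, hb⟩ := IsPGroup.iff_card.mp (c.hQ.to_le (Zc_le Q))
  rw [hb, Nat.cast_pow]
  exact pow_ne_zero _ c.htK

/-- the choice of the weight -/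
theorem exists_WD (c : MinCE ρ t s p l Q S f h) : ∃ χ : Γ → K, WD ρ Q f h χ := by
  classical
  have hN := c.actZ.closure_le_normalizer
  have hdec := mem_iSup_wt ρ (Zc Q) ⊤ (fun _ _ _ _ => Submodule.mem_top)
    (fun z hz z' hz' u _ => by
      rw [← rho_mul_apply, ← rho_mul_apply, Zc_comm hz hz']) c.card_Zc_ne_zero
  obtain ⟨x₀, hx₀, y₀, hy₀, hxy⟩ := c.hne
  have hyQ : ∀ x ∈ Q, y₀ * x * y₀⁻¹ ∈ Q := fun x hx => (mem_normalizer_iff.mp (c.hSQ hy₀) x).mp hx
  have hg₀Q : ⁅x₀, y₀⁆ ∈ Q := by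
    rw [commutatorElement_def]
    have e : x₀ * y₀ * x₀⁻¹ * y₀⁻¹ = x₀ * (y₀ * x₀⁻¹ * y₀⁻¹) := by group
    rw [e]
    exact Q.mul_mem hx₀ (hyQ _ (Q.inv_mem hx₀))
  have hg₀1 : ρ ⁅x₀, y₀⁆ ≠ 1 := by
    intro h1
    apply hxy
    exact commutatorElement_eq_one_iff_mul_comm.mp (c.hfaith _ hg₀Q h1)
  -- a weight space moved by the commutator
  obtain ⟨χ, v, hv, hvne⟩ : ∃ χ : Γ → K, ∃ v ∈ wt ρ (Zc Q) χ, ρ ⁅x₀, y₀⁆ v ≠ v := by
    by_contra hcon
    push Not at hcon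
    apply hg₀1
    apply LinearMap.ext
    intro u
    have hle : (⨆ χ : Γ → K, (⊤ : Submodule K V) ⊓ wt ρ (Zc Q) χ) ≤
        LinearMap.ker (ρ ⁅x₀, y₀⁆ - 1) := by
      apply iSup_le
      rintro χ u ⟨-, hu⟩
      rw [LinearMap.mem_ker, LinearMap.sub_apply, Module.End.one_apply, sub_eq_zero]
      exact hcon χ u hu
    have := hle (hdec u Submodule.mem_top)
    rw [LinearMap.mem_ker, LinearMap.sub_apply, Module.End.one_apply, sub_eq_zero] at this
    rw [this, Module.End.one_apply]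
  have hv0 : v ≠ 0 := by
    intro h0
    apply hvne
    rw [h0, map_zero]
  -- the span of the conjugate weight spaces
  set Y : Submodule K V := ⨆ a : ↥(closure ({f, h} : Set Γ)), wt ρ (Zc Q) (cj (a : Γ) χ) with hY
  have hstabinv : ∀ g : Γ, (∀ z ∈ Zc Q, z * g = g * z) → ∀ u ∈ Y, ρ g u ∈ Y := by
    intro g hg
    have hle : Y ≤ Y.comap (ρ g) := by
      apply iSup_le
      intro a u hu
      rw [Submodule.mem_comap]
      have h1 : ρ g u ∈ wt ρ (Zc Q) (cj (a : Γ) χ) :=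
        map_wt_of_mem_stab (mem_stab_of_cent hg _) hu
      exact (le_iSup (fun a' : ↥(closure ({f, h} : Set Γ)) => wt ρ (Zc Q) (cj (a' : Γ) χ)) a) h1
    exact fun u hu => hle hu
  have hAinv : ∀ g ∈ closure ({f, h} : Set Γ), ∀ u ∈ Y, ρ g u ∈ Y := by
    intro g hg
    have hle : Y ≤ Y.comap (ρ g) := by
      apply iSup_le
      intro a u hu
      rw [Submodule.mem_comap]
      have h1 : ρ g u ∈ wt ρ (Zc Q) (cj g (cj (a : Γ) χ)) := map_wt (hN hg) hu
      rw [cj_cj] at h1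
      exact (le_iSup (fun a' : ↥(closure ({f, h} : Set Γ)) => wt ρ (Zc Q) (cj (a' : Γ) χ))
        ⟨g * a, Subgroup.mul_mem _ hg a.2⟩) h1
    exact fun u hu => hle hu
  have hf_mem : f ∈ closure ({f, h} : Set Γ) := subset_closure (Set.mem_insert _ _)
  have hh_mem : h ∈ closure ({f, h} : Set Γ) := subset_closure (Set.mem_insert_of_mem _ rfl)
  have hvY : v ∈ Y := by
    have h1 : v ∈ wt ρ (Zc Q) (cj ((1 : ↥(closure ({f, h} : Set Γ))) : Γ) χ) := by
      rw [Subgroup.coe_one, cj_one]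
      exact hv
    exact (le_iSup (fun a' : ↥(closure ({f, h} : Set Γ)) => wt ρ (Zc Q) (cj (a' : Γ) χ)) 1) h1
  have hYtop : Y = ⊤ := by
    by_contra hne'
    apply hvne
    exact c.hY Y hne'
      (fun x hx => hstabinv x (fun z hz => ((mem_Zc.mp hz).2 x hx).symm))
      (fun y hy => hstabinv y (fun z hz => c.S_cent_Zc z hz y hy))
      (hAinv f hf_mem) (hAinv h hh_mem) x₀ hx₀ y₀ hy₀ v hvY
  refine ⟨χ, ?_, hYtop⟩
  refine ⟨⟨v, ⟨Submodule.mem_top, hv⟩, hv0⟩, ?_⟩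
  -- nontriviality of the weight
  by_contra hcon
  push Not at hcon
  apply c.Zc_ne_bot
  rw [eq_bot_iff]
  intro z hz
  rw [Subgroup.mem_bot]
  apply c.hfaith z (Zc_le Q hz)
  apply LinearMap.ext
  intro u
  have hle : Y ≤ LinearMap.ker (ρ z - 1) := by
    apply iSup_le
    intro a u hu
    rw [LinearMap.mem_ker, LinearMap.sub_apply, Module.End.one_apply, sub_eq_zero]
    rw [hu z hz, cj_apply, hcon _ (inv_conj_mem_of_mem_normalizer (hN a.2) hz), one_smul]
  have hu : u ∈ Y := by rw [hYtop]; exact Submodule.mem_top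
  have := hle hu
  rw [LinearMap.mem_ker, LinearMap.sub_apply, Module.End.one_apply, sub_eq_zero] at this
  rw [this, Module.End.one_apply]


theorem disj (c : MinCE ρ t s p l Q S f h) : Q ⊓ S = ⊥ :=
  (Subgroup.disjoint_of_coprime_natCard c.cop.symm).eq_bot

/-- a fixed point of an element normalising `Q` and `S` in `Q S` has fixed factors -/
theorem fixed_factors (c : MinCE ρ t s p l Q S f h) {g x y : Γ} (hgQ : ∀ x ∈ Q, g * x * g⁻¹ ∈ Q)
    (hgS : ∀ y ∈ S, g * y * g⁻¹ ∈ S) (hx : x ∈ Q) (hy : y ∈ S)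
    (hg : g * (x * y) = (x * y) * g) : g * x = x * g ∧ g * y = y * g := by
  have h1 : (g * x * g⁻¹) * (g * y * g⁻¹) = x * y := by
    calc (g * x * g⁻¹) * (g * y * g⁻¹) = (g * (x * y)) * g⁻¹ := by group
      _ = x * y := by rw [hg]; group
  have h2 : x⁻¹ * (g * x * g⁻¹) = y * (g * y * g⁻¹)⁻¹ := by
    calc x⁻¹ * (g * x * g⁻¹) = x⁻¹ * ((g * x * g⁻¹) * (g * y * g⁻¹)) * (g * y * g⁻¹)⁻¹ := by group
      _ = y * (g * y * g⁻¹)⁻¹ := by rw [h1]; group
  have h3 : x⁻¹ * (g * x * g⁻¹) ∈ Q ⊓ S := by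
    refine ⟨Q.mul_mem (Q.inv_mem hx) (hgQ x hx), ?_⟩
    rw [h2]
    exact S.mul_mem hy (S.inv_mem (hgS y hy))
  rw [c.disj, Subgroup.mem_bot] at h3
  have h4 : g * x * g⁻¹ = x := by
    have := inv_mul_eq_one.mp h3
    exact this.symm
  have h5 : g * y * g⁻¹ = y := by
    rw [h3] at h2
    have := (mul_inv_eq_one.mp h2.symm)
    exact this.symm
  constructor
  · calc g * x = (g * x * g⁻¹) * g := by group
      _ = x * g := by rw [h4]
  · calc g * y = (g * y * g⁻¹) * g := by group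
      _ = y * g := by rw [h5]

/-- `⟨f, h⟩` has no fixed points on `Q S` -/
theorem fpf_mul (c : MinCE ρ t s p l Q S f h) {x y : Γ} (hx : x ∈ Q) (hy : y ∈ S)
    (hf : f * (x * y) = (x * y) * f) (hh : h * (x * y) = (x * y) * h) : x * y = 1 := by
  obtain ⟨h1, h2⟩ := c.fixed_factors c.aQ.hfX c.aS.hfX hx hy hf
  obtain ⟨h3, h4⟩ := c.fixed_factors c.aQ.hhX c.aS.hhX hx hy hh
  rw [c.aQ.hfpf x hx h1 h3, c.aS.hfpf y hy h2 h4, one_mul]

theorem t_dvd (c : MinCE ρ t s p l Q S f h) : t ∣ Nat.card Q := by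
  have : Fact t.Prime := ⟨c.ht⟩
  obtain ⟨n, hn⟩ := IsPGroup.iff_card.mp c.hQ
  rcases n with _ | n
  · exfalso
    rw [pow_zero] at hn
    exact c.Q_ne_bot (Subgroup.card_eq_one.mp hn)
  · rw [hn]; exact dvd_pow_self t (Nat.succ_ne_zero n)

theorem t_cop (c : MinCE ρ t s p l Q S f h) : t.Coprime (p * l) :=
  Nat.Coprime.coprime_dvd_left c.t_dvd c.aQ.hcop

theorem t_ne_p (c : MinCE ρ t s p l Q S f h) : t ≠ p := by
  rintro rfl
  have h1 : t ∣ Nat.gcd t (t * l) := Nat.dvd_gcd dvd_rfl (dvd_mul_right t l)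
  rw [c.t_cop] at h1
  exact c.ht.one_lt.ne' (Nat.dvd_one.mp h1)

theorem t_ne_l (c : MinCE ρ t s p l Q S f h) : t ≠ l := by
  rintro rfl
  have h1 : t ∣ Nat.gcd t (p * t) := Nat.dvd_gcd dvd_rfl (dvd_mul_left t p)
  rw [c.t_cop] at h1
  exact c.ht.one_lt.ne' (Nat.dvd_one.mp h1)

/-- **the `F`-case is impossible**: `f` does not stabilise the chosen weight -/
theorem not_F (c : MinCE ρ t s p l Q S f h) (w : WD ρ Q f h χ) : f ∉ stab (Zc Q) χ := by
  classical
  intro hfχ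
  have : Fact t.Prime := ⟨c.ht⟩
  have hN := c.actZ.closure_le_normalizer
  have H : HypW ρ p l (Zc Q) f h := ⟨c.actZ, c.hfV⟩
  -- `f` stabilises all the conjugate weights
  have hfa : ∀ a ∈ closure ({f, h} : Set Γ), f ∈ stab (Zc Q) (cj a χ) := by
    intro a ha
    rw [mem_stab_cj (hN ha)]
    have h1 := c.actZ.conj_f_mem_zpowers ha
    have hle : zpowers f ≤ stab (Zc Q) χ := by
      rw [zpowers_le]; exact hfχ
    exact hle h1
  have hfix : ∀ a ∈ closure ({f, h} : Set Γ), ∀ v ∈ wt ρ (Zc Q) (cj a χ), ρ f v = v → v = 0 :=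
    fun a ha => H.fix_f (w.cj hN ha).nw (hfa a ha)
  -- `f ≠ 1`
  have hf1 : f ≠ 1 := by
    intro e
    obtain ⟨v, hv, hv0⟩ := w.nw.hv
    apply hv0
    have h1 := hfix 1 (Subgroup.one_mem _) v (by rw [cj_one]; exact hv.2)
    apply h1
    rw [e, map_one, Module.End.one_apply]
  have hldvd := c.aQ.l_dvd_pred hf1
  -- `t ≠ p`, `t ≠ l`
  have htdvd : t ∣ Nat.card Q := c.t_dvd
  have htp : t ≠ p := c.t_ne_p
  have htl : t ≠ l := c.t_ne_l
  have hexc : ∀ b : ℕ, 0 < b → t ^ b ≠ p - 1 := by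
    intro b _ hb
    rw [← hb] at hldvd
    have h1 := (Nat.Prime.dvd_of_dvd_pow c.aQ.hl hldvd)
    have h2 := (Nat.prime_dvd_prime_iff_eq c.aQ.hl c.ht).mp h1
    exact htl h2.symm
  -- `f` centralises `Q`
  have hfQ : ∀ x ∈ Q, x * f = f * x := by
    intro x hx
    have h1 : ρ ⁅x, f⁆ = 1 := by
      apply w.eq_one_of_forall
      intro a ha v hv
      have hUQ : ∀ x ∈ Q, ∀ u ∈ wt ρ (Zc Q) (cj a χ), ρ x u ∈ wt ρ (Zc Q) (cj a χ) := by
        intro x hx u hu
        exact map_wt_of_mem_stab (mem_stab_of_cent (fun z hz => ((mem_Zc.mp hz).2 x hx).symm) _) hu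
      have hUf : ∀ u ∈ wt ρ (Zc Q) (cj a χ), ρ f u ∈ wt ρ (Zc Q) (cj a χ) :=
        fun u hu => map_wt_of_mem_stab (hfa a ha) hu
      exact hh1 ρ c.ht c.aQ.hp htp c.htK c.hpK Q c.hQ f c.aQ.hfp c.aQ.hfX _ hUQ hUf
        (hfix a ha) hexc x hx v hv
    have h2 : ⁅x, f⁆ ∈ Q := by
      rw [commutatorElement_def]
      have e : x * f * x⁻¹ * f⁻¹ = x * (f * x⁻¹ * f⁻¹) := by group
      rw [e]
      exact Q.mul_mem hx (c.aQ.hfX _ (Q.inv_mem hx))
    exact commutatorElement_eq_one_iff_mul_comm.mp (c.hfaith _ h2 h1)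
  -- `h ≠ 1`
  have hh1' : h ≠ 1 := by
    intro e
    have hl1 : ¬ l ∣ 1 := fun hdvd => c.aQ.hl.one_lt.ne' (Nat.dvd_one.mp hdvd)
    obtain ⟨k, hk⟩ := c.aQ.hfrob 1 hl1
    rw [e] at hk
    simp at hk
    exact hf1 hk.symm
  have hordh : orderOf h = l := by
    have : Fact l.Prime := ⟨c.aQ.hl⟩
    exact orderOf_eq_prime c.aQ.hhl hh1'
  -- the centraliser of `f` in `S`
  set Sf : Subgroup Γ := S ⊓ centralizer {f} with hSf
  have hSfmem : ∀ y, y ∈ Sf ↔ y ∈ S ∧ f * y = y * f := by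
    intro y
    rw [hSf, Subgroup.mem_inf, mem_centralizer_singleton_iff]
    constructor
    · rintro ⟨h1, h2⟩; exact ⟨h1, h2.symm⟩
    · rintro ⟨h1, h2⟩; exact ⟨h1, h2.symm⟩
  have hSfN : Sf ≤ normalizer (Q : Set Γ) := inf_le_left.trans c.hSQ
  -- Thompson
  have hnil : Group.IsNilpotent ↥(Q ⊔ Sf) := by
    apply Cfsg.Agent.Lib.Helper17.BG146.isNilpotent_of_fpf_mod_central (Q ⊔ Sf) ⊥ h bot_le
      (t := l) ?_ ?_ ?_ c.aQ.hl hordh ?_ ?_
    · intro k hk c' _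
      rw [Subgroup.mem_bot] at hk
      rw [hk, one_mul, mul_one]
    · intro g hg
      obtain ⟨x, hx, y, hy, rfl⟩ := exists_mul_of_mem_sup hSfN hg
      have e : h * (x * y) * h⁻¹ = (h * x * h⁻¹) * (h * y * h⁻¹) := by group
      rw [e]
      refine Subgroup.mul_mem _ (le_sup_left (a := Q) (c.aQ.hhX x hx)) (le_sup_right (a := Q) ?_)
      rw [hSfmem] at hy ⊢
      exact ⟨c.aS.hhX y hy.1, c.aS.conj_h_comm hy.2⟩
    · intro k hk
      rw [Subgroup.mem_bot] at hk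
      rw [hk, one_mul, mul_one]
    · rw [Subgroup.card_bot]
      exact Nat.coprime_one_left l
    · intro g hg hgh
      obtain ⟨x, hx, y, hy, rfl⟩ := exists_mul_of_mem_sup hSfN hg
      rw [Subgroup.mem_bot]
      have hy' := (hSfmem y).mp hy
      have hfc : f * (x * y) = (x * y) * f := by
        rw [← mul_assoc, ← hfQ x hx, mul_assoc, hy'.2, mul_assoc]
      exact c.fpf_mul hx hy'.1 hfc hgh
  -- `Q` and `C_S(f)` commute
  have hQSf : ∀ x ∈ Q, ∀ y ∈ Sf, x * y = y * x := by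
    intro x hx y hy
    have : Fact s.Prime := ⟨c.hs⟩
    obtain ⟨k, hk⟩ := c.hQ ⟨x, hx⟩
    have hxk : (⟨x, le_sup_left (a := Q) (b := Sf) hx⟩ : ↥(Q ⊔ Sf)) ^ t ^ k = 1 := by
      apply Subtype.ext
      have := congrArg Subtype.val hk
      simpa using this
    obtain ⟨k', hk'⟩ := c.hS ⟨y, ((hSfmem y).mp hy).1⟩
    have hyo : (orderOf (⟨y, le_sup_right (a := Q) (b := Sf) hy⟩ : ↥(Q ⊔ Sf))).Coprime t := by
      have hyk : (⟨y, le_sup_right (a := Q) (b := Sf) hy⟩ : ↥(Q ⊔ Sf)) ^ s ^ k' = 1 := by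
        apply Subtype.ext
        have := congrArg Subtype.val hk'
        simpa using this
      have h1 := orderOf_dvd_of_pow_eq_one hyk
      apply Nat.Coprime.coprime_dvd_left h1
      apply Nat.Coprime.pow_left
      exact (Nat.coprime_primes c.hs c.ht).mpr (Ne.symm c.hts)
    have h2 := Cfsg.Agent.Lib.Helper29.commute_of_isNilpotent_of_coprime hnil
      (⟨x, le_sup_left (a := Q) (b := Sf) hx⟩ : ↥(Q ⊔ Sf))
      ⟨y, le_sup_right (a := Q) (b := Sf) hy⟩ k hxk hyo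
    exact congrArg Subtype.val h2
  -- `[S, f]` centralises `Q`
  have hpowQ : ∀ (k : ℕ), ∀ x ∈ Q, x * f ^ k = f ^ k * x := by
    intro k x hx
    have c1 : Commute x f := hfQ x hx
    exact (c1.pow_right k).eq
  have hcommQ : ∀ y ∈ S, ∀ g ∈ zpowers f, ∀ x ∈ Q, x * ⁅y, g⁆ = ⁅y, g⁆ * x := by
    intro y hy g hg x hx
    obtain ⟨k, rfl⟩ :=
      Cfsg.Agent.Lib.Helper17.ESMod.exists_pow_of_mem_zpowers f c.aQ.hp.pos c.aQ.hfp g hg
    have hyQ : ∀ x ∈ Q, y * x * y⁻¹ ∈ Q := fun x hx => (mem_normalizer_iff.mp (c.hSQ hy) x).mp hx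
    have hyQ' : ∀ x ∈ Q, y⁻¹ * x * y ∈ Q := conj_inv_mem_of_finite hyQ
    have e1 : ∀ x ∈ Q, f ^ k * x * (f ^ k)⁻¹ = x := by
      intro x hx
      rw [← hpowQ k x hx, mul_inv_cancel_right]
    have e2 : ∀ x ∈ Q, (f ^ k)⁻¹ * x * f ^ k = x := by
      intro x hx
      rw [mul_assoc, hpowQ k x hx, ← mul_assoc, inv_mul_cancel, one_mul]
    -- `⁅y, g⁆ x ⁅y, g⁆⁻¹ = x`
    have h1 : ⁅y, f ^ k⁆ * x * ⁅y, f ^ k⁆⁻¹ = x := by
      rw [commutatorElement_def]
      calc y * f ^ k * y⁻¹ * (f ^ k)⁻¹ * x * (y * f ^ k * y⁻¹ * (f ^ k)⁻¹)⁻¹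
          = y * (f ^ k * (y⁻¹ * ((f ^ k)⁻¹ * x * f ^ k) * y) * (f ^ k)⁻¹) * y⁻¹ := by group
        _ = y * (f ^ k * (y⁻¹ * x * y) * (f ^ k)⁻¹) * y⁻¹ := by rw [e2 x hx]
        _ = y * (y⁻¹ * x * y) * y⁻¹ := by rw [e1 _ (hyQ' x hx)]
        _ = x := by group
    calc x * ⁅y, f ^ k⁆ = (⁅y, f ^ k⁆ * x * ⁅y, f ^ k⁆⁻¹) * ⁅y, f ^ k⁆ := by rw [h1]
      _ = ⁅y, f ^ k⁆ * x := by group
  -- conclusion
  have hfS : zpowers f ≤ normalizer (S : Set Γ) := by
    rw [zpowers_le]; exact c.aS.f_mem_normalizer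
  have hcopf : (Nat.card (zpowers f)).Coprime (Nat.card S) := by
    rw [Nat.card_zpowers]
    have h1 : orderOf f ∣ p := orderOf_dvd_of_pow_eq_one c.aQ.hfp
    exact (Nat.Coprime.coprime_dvd_right h1 c.aS.cop_p).symm
  have hsolvS : Group.IsSolvable ↥S := by
    have : Fact s.Prime := ⟨c.hs⟩
    have := c.hS.isNilpotent
    infer_instance
  have hSle := Cfsg.Agent.Lib.Helper17.le_centralizer_sup_commutator (zpowers f) S hfS hcopf
    (Or.inr hsolvS)
  have hScent : S ≤ centralizer (Q : Set Γ) := by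
    refine hSle.trans (sup_le ?_ ?_)
    · rintro y ⟨hy1, hy2⟩
      rw [mem_centralizer_iff]
      intro x hx
      have hy3 : y ∈ Sf := by
        rw [hSfmem]
        refine ⟨hy1, ?_⟩
        exact ((mem_centralizer_iff.mp hy2) f (mem_zpowers f))
      exact hQSf x hx y hy3
    · rw [Subgroup.commutator_le]
      intro y hy g hg
      rw [mem_centralizer_iff]
      intro x hx
      exact hcommQ y hy g hg x hx
  obtain ⟨x, hx, y, hy, hxy⟩ := c.hne
  exact hxy ((mem_centralizer_iff.mp (hScent hy)) x hx)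

end MinCE

end

end Cfsg.Agent.Lib.Helper23.PQ
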