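import Mathlib
import Cfsg.Agent.Lib.Helper23.PQ8b
import Cfsg.Agent.Lib.Helper17.ESMod9

/-!
# helper23: the key theorem for a Frobenius group of order `p l`, part 3: the case where a conjugate
of `h` stabilises the weight
-/

set_option autoImplicit false
set_option linter.unusedSectionVars false
set_option linter.style.haveILetI false

namespace Cfsg.Agent.Lib.Helper23.PQ

open Module Subgroup
open Cfsg.Agent.Lib.Helper23.Ward
open Cfsg.Agent.Lib.Helper23.S3 (rho_mul_apply mem_normalizer_of_conj_mem conj_inv_mem_of_finite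
  lemmaM_single exists_of_not_mem_stab)
open Cfsg.Agent.Lib.Helper23.PQ.MinCE (Zc mem_Zc Zc_le conj_mem_Zc Zc_comm)
open scoped commutatorElement

universe u v

variable {K : Type*} [Field K] {Γ : Type*} [Group Γ] {V : Type u} [AddCommGroup V] [Module K V]
variable {ρ : Representation K Γ V} {t s p l : ℕ} {Q S : Subgroup Γ} {f h : Γ} {χ : Γ → K}

section Thompson

variable {Δ : Type*} [Group Δ]

/-- a fixed point in a product of two disjoint invariant subgroups has fixed factors -/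
theorem fixed_factors' {A B : Subgroup Δ} (hAB : A ⊓ B = ⊥) {g x y : Δ}
    (hgA : ∀ x ∈ A, g * x * g⁻¹ ∈ A) (hgB : ∀ y ∈ B, g * y * g⁻¹ ∈ B) (hx : x ∈ A) (hy : y ∈ B)
    (hg : g * (x * y) = (x * y) * g) : g * x = x * g ∧ g * y = y * g := by
  have h1 : (g * x * g⁻¹) * (g * y * g⁻¹) = x * y := by
    calc (g * x * g⁻¹) * (g * y * g⁻¹) = (g * (x * y)) * g⁻¹ := by group
      _ = x * y := by rw [hg]; group
  have h2 : x⁻¹ * (g * x * g⁻¹) = y * (g * y * g⁻¹)⁻¹ := by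
    calc x⁻¹ * (g * x * g⁻¹) = x⁻¹ * ((g * x * g⁻¹) * (g * y * g⁻¹)) * (g * y * g⁻¹)⁻¹ := by group
      _ = y * (g * y * g⁻¹)⁻¹ := by rw [h1]; group
  have h3 : x⁻¹ * (g * x * g⁻¹) ∈ A ⊓ B := by
    refine ⟨A.mul_mem (A.inv_mem hx) (hgA x hx), ?_⟩
    rw [h2]
    exact B.mul_mem hy (B.inv_mem (hgB y hy))
  rw [hAB, Subgroup.mem_bot] at h3
  have h4 : g * x * g⁻¹ = x := by
    have := inv_mul_eq_one.mp h3
    exact this.symm
  have h5 : g * y * g⁻¹ = y := by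
    rw [h3] at h2
    have := (mul_inv_eq_one.mp h2.symm)
    exact this.symm
  constructor
  · calc g * x = (g * x * g⁻¹) * g := by group
      _ = x * g := by rw [h4]
  · calc g * y = (g * y * g⁻¹) * g := by group
      _ = y * g := by rw [h5]

/-- **Thompson's theorem modulo the kernel of the action**: if `f` of prime order has no fixed points
on `Q` and its fixed points on `S` centralise `Q`, then `S` centralises `Q` -/
theorem comm_of_fpf_mod [Finite Δ] {Q S : Subgroup Δ} {f : Δ} {t s p : ℕ} (ht : t.Prime)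
    (hs : s.Prime) (hts : t ≠ s) (hp : p.Prime) (hQ : IsPGroup t Q) (hS : IsPGroup s S)
    (hfp : f ^ p = 1) (hf1 : f ≠ 1)
    (hSQ : S ≤ normalizer (Q : Set Δ)) (hfQ : ∀ x ∈ Q, f * x * f⁻¹ ∈ Q)
    (hfS : ∀ y ∈ S, f * y * f⁻¹ ∈ S) (hcopS : (Nat.card S).Coprime p)
    (hQf : ∀ x ∈ Q, f * x = x * f → x = 1)
    (hSf : ∀ y ∈ S, f * y = y * f → ∀ x ∈ Q, x * y = y * x) :
    ∀ x ∈ Q, ∀ y ∈ S, x * y = y * x := by
  classical
  have : Fact t.Prime := ⟨ht⟩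
  have : Fact s.Prime := ⟨hs⟩
  have hcop : (Nat.card Q).Coprime (Nat.card S) := by
    obtain ⟨a, ha⟩ := IsPGroup.iff_card.mp hQ
    obtain ⟨b, hb⟩ := IsPGroup.iff_card.mp hS
    rw [ha, hb]
    apply Nat.Coprime.pow
    exact (Nat.coprime_primes ht hs).mpr hts
  have hdisj : Q ⊓ S = ⊥ := (Subgroup.disjoint_of_coprime_natCard hcop).eq_bot
  have hyQ : ∀ y ∈ S, ∀ x ∈ Q, y * x * y⁻¹ ∈ Q :=
    fun y hy x hx => (mem_normalizer_iff.mp (hSQ hy) x).mp hx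
  have hyQ' : ∀ y ∈ S, ∀ x ∈ Q, y⁻¹ * x * y ∈ Q := fun y hy => conj_inv_mem_of_finite (hyQ y hy)
  have hfQ' : ∀ x ∈ Q, f⁻¹ * x * f ∈ Q := conj_inv_mem_of_finite hfQ
  set S₀ : Subgroup Δ := S ⊓ centralizer (Q : Set Δ) with hS₀
  have hS₀mem : ∀ y, y ∈ S₀ ↔ y ∈ S ∧ ∀ x ∈ Q, x * y = y * x := by
    intro y
    rw [hS₀, Subgroup.mem_inf, mem_centralizer_iff]
    rfl
  -- invariance of `S₀`
  have hconjS₀ : ∀ g : Δ, (∀ x ∈ Q, g⁻¹ * x * g ∈ Q) → (∀ y ∈ S, g * y * g⁻¹ ∈ S) →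
      ∀ y ∈ S₀, g * y * g⁻¹ ∈ S₀ := by
    intro g hgQ hgS y hy
    rw [hS₀mem] at hy ⊢
    refine ⟨hgS y hy.1, ?_⟩
    intro x hx
    have h1 := hy.2 _ (hgQ x hx)
    calc x * (g * y * g⁻¹) = g * ((g⁻¹ * x * g) * y) * g⁻¹ := by group
      _ = g * (y * (g⁻¹ * x * g)) * g⁻¹ := by rw [h1]
      _ = (g * y * g⁻¹) * x := by group
  have hfS₀ : ∀ y ∈ S₀, f * y * f⁻¹ ∈ S₀ := hconjS₀ f hfQ' hfS
  set N : Subgroup Δ := normalizer (S₀ : Set Δ) with hN
  have hQN : Q ≤ N := by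
    intro x hx
    apply mem_normalizer_of_conj_mem
    intro y hy
    have h1 := ((hS₀mem y).mp hy).2 x hx
    have e : x * y * x⁻¹ = y := by rw [h1, mul_inv_cancel_right]
    rw [e]
    exact hy
  have hSN : S ≤ N := by
    intro y hy
    apply mem_normalizer_of_conj_mem
    exact hconjS₀ y (hyQ' y hy) (fun y' hy' => S.mul_mem (S.mul_mem hy hy') (S.inv_mem hy))
  have hfN : f ∈ N := mem_normalizer_of_conj_mem hfS₀
  have hnorm : (S₀.subgroupOf N).Normal := Subgroup.normal_in_normalizer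
  set π : ↥N →* ↥N ⧸ S₀.subgroupOf N := QuotientGroup.mk' (S₀.subgroupOf N) with hπ
  have hπ1 : ∀ g : ↥N, π g = 1 ↔ (g : Δ) ∈ S₀ := by
    intro g
    rw [hπ, QuotientGroup.mk'_apply, QuotientGroup.eq_one_iff, mem_subgroupOf]
  set Qb : Subgroup (↥N ⧸ S₀.subgroupOf N) := (Q.subgroupOf N).map π with hQb
  set Sb : Subgroup (↥N ⧸ S₀.subgroupOf N) := (S.subgroupOf N).map π with hSb
  set fb : ↥N ⧸ S₀.subgroupOf N := π ⟨f, hfN⟩ with hfb
  have hQbmem : ∀ c, c ∈ Qb ↔ ∃ x, ∃ hx : x ∈ Q, π ⟨x, hQN hx⟩ = c := by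
    intro c
    constructor
    · rintro ⟨g, hg, rfl⟩
      exact ⟨g, mem_subgroupOf.mp hg, rfl⟩
    · rintro ⟨x, hx, rfl⟩
      exact ⟨⟨x, hQN hx⟩, mem_subgroupOf.mpr hx, rfl⟩
  have hSbmem : ∀ c, c ∈ Sb ↔ ∃ y, ∃ hy : y ∈ S, π ⟨y, hSN hy⟩ = c := by
    intro c
    constructor
    · rintro ⟨g, hg, rfl⟩
      exact ⟨g, mem_subgroupOf.mp hg, rfl⟩
    · rintro ⟨y, hy, rfl⟩
      exact ⟨⟨y, hSN hy⟩, mem_subgroupOf.mpr hy, rfl⟩
  have hcardQb : Nat.card Qb ∣ Nat.card Q := by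
    have h1 : Nat.card Qb ∣ Nat.card (Q.subgroupOf N) := Subgroup.card_map_dvd _ _
    rwa [Nat.card_congr (Subgroup.subgroupOfEquivOfLe hQN).toEquiv] at h1
  have hcardSb : Nat.card Sb ∣ Nat.card S := by
    have h1 : Nat.card Sb ∣ Nat.card (S.subgroupOf N) := Subgroup.card_map_dvd _ _
    rwa [Nat.card_congr (Subgroup.subgroupOfEquivOfLe hSN).toEquiv] at h1
  have hdisjb : Qb ⊓ Sb = ⊥ :=
    (Subgroup.disjoint_of_coprime_natCard
      (Nat.Coprime.coprime_dvd_left hcardQb (Nat.Coprime.coprime_dvd_right hcardSb hcop))).eq_bot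
  have hSbQb : Sb ≤ normalizer (Qb : Set (↥N ⧸ S₀.subgroupOf N)) := by
    intro c hc
    obtain ⟨y, hy, rfl⟩ := (hSbmem c).mp hc
    apply mem_normalizer_of_conj_mem
    intro d hd
    obtain ⟨x, hx, rfl⟩ := (hQbmem d).mp hd
    rw [hQbmem]
    refine ⟨y * x * y⁻¹, hyQ y hy x hx, ?_⟩
    rw [← map_inv, ← map_mul, ← map_mul]
    rfl
  have hfbQb : ∀ d ∈ Qb, fb * d * fb⁻¹ ∈ Qb := by
    intro d hd
    obtain ⟨x, hx, rfl⟩ := (hQbmem d).mp hd
    rw [hQbmem]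
    refine ⟨f * x * f⁻¹, hfQ x hx, ?_⟩
    rw [hfb, ← map_inv, ← map_mul, ← map_mul]
    rfl
  have hfbSb : ∀ d ∈ Sb, fb * d * fb⁻¹ ∈ Sb := by
    intro d hd
    obtain ⟨y, hy, rfl⟩ := (hSbmem d).mp hd
    rw [hSbmem]
    refine ⟨f * y * f⁻¹, hfS y hy, ?_⟩
    rw [hfb, ← map_inv, ← map_mul, ← map_mul]
    rfl
  -- `f̄` has order `p`
  have hfbp : fb ^ p = 1 := by
    rw [hfb, ← map_pow]
    have : (⟨f, hfN⟩ : ↥N) ^ p = 1 := Subtype.ext (by simpa using hfp)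
    rw [this, map_one]
  have hfb1 : fb ≠ 1 := by
    intro e
    rw [hfb, hπ1] at e
    have hfS' : f ∈ S := ((hS₀mem f).mp e).1
    have h1 : (⟨f, hfS'⟩ : ↥S) ^ Nat.card S = 1 := pow_card_eq_one'
    have h2 : f ^ Nat.card S = 1 := congrArg Subtype.val h1
    have h3 := orderOf_dvd_of_pow_eq_one h2
    have h4 := orderOf_dvd_of_pow_eq_one hfp
    have h5 : orderOf f = 1 := Nat.eq_one_of_dvd_coprimes hcopS h3 h4
    exact hf1 (orderOf_eq_one_iff.mp h5)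
  have hordfb : orderOf fb = p := by
    have : Fact p.Prime := ⟨hp⟩
    exact orderOf_eq_prime hfbp hfb1
  -- fixed points
  have hfixQ : ∀ x, ∀ hx : x ∈ Q, fb * π ⟨x, hQN hx⟩ = π ⟨x, hQN hx⟩ * fb → x = 1 := by
    intro x hx hc
    have h1 : π (⟨x, hQN hx⟩⁻¹ * (⟨f, hfN⟩ * ⟨x, hQN hx⟩ * ⟨f, hfN⟩⁻¹)) = 1 := by
      rw [map_mul, map_mul, map_mul, map_inv, map_inv, ← hfb, hc]
      group
    rw [hπ1] at h1
    have h2 : x⁻¹ * (f * x * f⁻¹) ∈ Q ⊓ S :=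
      ⟨Q.mul_mem (Q.inv_mem hx) (hfQ x hx), ((hS₀mem _).mp h1).1⟩
    rw [hdisj, Subgroup.mem_bot] at h2
    apply hQf x hx
    have h3 : f * x * f⁻¹ = x := (inv_mul_eq_one.mp h2).symm
    calc f * x = (f * x * f⁻¹) * f := by group
      _ = x * f := by rw [h3]
  have hfixS : ∀ y, ∀ hy : y ∈ S, fb * π ⟨y, hSN hy⟩ = π ⟨y, hSN hy⟩ * fb → y ∈ S₀ := by
    intro y hy hc
    have h1 : π (⟨y, hSN hy⟩⁻¹ * (⟨f, hfN⟩ * ⟨y, hSN hy⟩ * ⟨f, hfN⟩⁻¹)) = 1 := by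
      rw [map_mul, map_mul, map_mul, map_inv, map_inv, ← hfb, hc]
      group
    rw [hπ1] at h1
    have h2 : y⁻¹ * (f * y * f⁻¹) ∈ S₀ := h1
    have hcop₀ : (Nat.card S₀).Coprime p :=
      Nat.Coprime.coprime_dvd_left (Subgroup.card_dvd_of_le inf_le_left) hcopS
    obtain ⟨n, hn, hc'⟩ := Cfsg.Agent.Lib.Helper23.S3.lift_of_pow hfp hfS₀ hcop₀ h2
    have hyn : y * n ∈ S := S.mul_mem hy ((hS₀mem n).mp hn).1
    have h3 : y * n ∈ S₀ := (hS₀mem _).mpr ⟨hyn, hSf _ hyn hc'⟩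
    have e : y = (y * n) * n⁻¹ := by group
    rw [e]
    exact S₀.mul_mem h3 (S₀.inv_mem hn)
  -- Thompson
  have hnil : Group.IsNilpotent ↥(Qb ⊔ Sb) := by
    apply Cfsg.Agent.Lib.Helper17.BG146.isNilpotent_of_fpf_mod_central (Qb ⊔ Sb) ⊥ fb bot_le
      (t := p) ?_ ?_ ?_ hp hordfb ?_ ?_
    · intro k hk c' _
      rw [Subgroup.mem_bot] at hk
      rw [hk, one_mul, mul_one]
    · intro g hg
      obtain ⟨x, hx, y, hy, rfl⟩ := exists_mul_of_mem_sup hSbQb hg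
      have e : fb * (x * y) * fb⁻¹ = (fb * x * fb⁻¹) * (fb * y * fb⁻¹) := by group
      rw [e]
      exact Subgroup.mul_mem _ (le_sup_left (a := Qb) (hfbQb x hx))
        (le_sup_right (a := Qb) (hfbSb y hy))
    · intro k hk
      rw [Subgroup.mem_bot] at hk
      rw [hk, one_mul, mul_one]
    · rw [Subgroup.card_bot]
      exact Nat.coprime_one_left p
    · intro g hg hgf
      obtain ⟨x, hx, y, hy, rfl⟩ := exists_mul_of_mem_sup hSbQb hg
      rw [Subgroup.mem_bot]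
      obtain ⟨h1, h2⟩ := fixed_factors' hdisjb hfbQb hfbSb hx hy hgf
      obtain ⟨x₀, hx₀, rfl⟩ := (hQbmem x).mp hx
      obtain ⟨y₀, hy₀, rfl⟩ := (hSbmem y).mp hy
      have h3 := hfixQ x₀ hx₀ h1
      have h4 := hfixS y₀ hy₀ h2
      have h5 : π ⟨y₀, hSN hy₀⟩ = 1 := (hπ1 _).mpr h4
      have h6 : (⟨x₀, hQN hx₀⟩ : ↥N) = 1 := Subtype.ext h3
      rw [h5, h6, map_one, one_mul]
  intro x hx y hy
  obtain ⟨k, hk⟩ := hQ ⟨x, hx⟩
  have hxb : π ⟨x, hQN hx⟩ ∈ Qb := (hQbmem _).mpr ⟨x, hx, rfl⟩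
  have hyb : π ⟨y, hSN hy⟩ ∈ Sb := (hSbmem _).mpr ⟨y, hy, rfl⟩
  have hxk : (⟨π ⟨x, hQN hx⟩, le_sup_left (a := Qb) (b := Sb) hxb⟩ : ↥(Qb ⊔ Sb)) ^ t ^ k = 1 := by
    apply Subtype.ext
    rw [Subgroup.coe_pow, Subgroup.coe_one, ← map_pow]
    have : (⟨x, hQN hx⟩ : ↥N) ^ t ^ k = 1 := by
      apply Subtype.ext
      have := congrArg Subtype.val hk
      simpa using this
    rw [this, map_one]
  obtain ⟨k', hk'⟩ := hS ⟨y, hy⟩
  have hyo : (orderOf (⟨π ⟨y, hSN hy⟩, le_sup_right (a := Qb) (b := Sb) hyb⟩ : ↥(Qb ⊔ Sb))).Coprime t := by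
    have hyk : (⟨π ⟨y, hSN hy⟩, le_sup_right (a := Qb) (b := Sb) hyb⟩ : ↥(Qb ⊔ Sb)) ^ s ^ k' = 1 := by
      apply Subtype.ext
      rw [Subgroup.coe_pow, Subgroup.coe_one, ← map_pow]
      have : (⟨y, hSN hy⟩ : ↥N) ^ s ^ k' = 1 := by
        apply Subtype.ext
        have := congrArg Subtype.val hk'
        simpa using this
      rw [this, map_one]
    have h1 := orderOf_dvd_of_pow_eq_one hyk
    apply Nat.Coprime.coprime_dvd_left h1
    apply Nat.Coprime.pow_left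
    exact (Nat.coprime_primes hs ht).mpr (Ne.symm hts)
  have h2 := Cfsg.Agent.Lib.Helper29.commute_of_isNilpotent_of_coprime hnil
    (⟨π ⟨x, hQN hx⟩, le_sup_left (a := Qb) (b := Sb) hxb⟩ : ↥(Qb ⊔ Sb))
    ⟨π ⟨y, hSN hy⟩, le_sup_right (a := Qb) (b := Sb) hyb⟩ k hxk hyo
  have h3 : π ⟨x, hQN hx⟩ * π ⟨y, hSN hy⟩ = π ⟨y, hSN hy⟩ * π ⟨x, hQN hx⟩ := congrArg Subtype.val h2
  have h4 : π (⁅(⟨x, hQN hx⟩ : ↥N), (⟨y, hSN hy⟩ : ↥N)⁆) = 1 := by
    rw [map_commutatorElement]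
    exact commutatorElement_eq_one_iff_mul_comm.mpr h3
  rw [hπ1] at h4
  have h5 : ⁅x, y⁆ ∈ Q ⊓ S := by
    constructor
    · rw [commutatorElement_def]
      have e : x * y * x⁻¹ * y⁻¹ = x * (y * x⁻¹ * y⁻¹) := by group
      rw [e]
      exact Q.mul_mem hx (hyQ y hy _ (Q.inv_mem hx))
    · exact ((hS₀mem _).mp h4).1
  rw [hdisj, Subgroup.mem_bot] at h5
  exact commutatorElement_eq_one_iff_mul_comm.mp h5

end Thompson

section

variable [Finite Γ] [IsAlgClosed K] [FiniteDimensional K V]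

namespace MinCE

/-- `f` does not stabilise the conjugates of a weight it does not stabilise -/
theorem f_not_mem_stab_cj (c : MinCE ρ t s p l Q S f h) (hf : f ∉ stab (Zc Q) χ) {a : Γ}
    (ha : a ∈ closure ({f, h} : Set Γ)) : f ∉ stab (Zc Q) (cj a χ) := by
  have hN := c.actZ.closure_le_normalizer
  intro h1
  rw [mem_stab_cj (hN ha)] at h1
  have h2 := c.actZ.conj_f_mem_zpowers ha
  obtain ⟨k, hk⟩ :=
    Cfsg.Agent.Lib.Helper17.ESMod.exists_pow_of_mem_zpowers f c.aQ.hp.pos c.aQ.hfp _ h2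
  rw [hk] at h1
  by_cases hpk : p ∣ k
  · obtain ⟨n, rfl⟩ := hpk
    rw [pow_mul, c.aQ.hfp, one_pow] at hk
    apply hf
    have e : f = 1 := by
      have : f = a * (a⁻¹ * f * a) * a⁻¹ := by group
      rw [this, hk]
      group
    rw [e]
    exact Subgroup.one_mem _
  · exact hf (mem_of_pow_mem c.aQ.hp c.aQ.hfp hpk h1)

/-- powers `fⁱ`, `0 < i < p`, do not stabilise a weight not stabilised by `f` -/
theorem fpow_not_mem_stab (c : MinCE ρ t s p l Q S f h) (hf : f ∉ stab (Zc Q) χ) {i : ℕ}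
    (hi0 : 0 < i) (hip : i < p) : f ^ i ∉ stab (Zc Q) χ := by
  intro h1
  have hpi : ¬ p ∣ i := by
    intro hdvd
    have := Nat.le_of_dvd hi0 hdvd
    omega
  exact hf (mem_of_pow_mem c.aQ.hp c.aQ.hfp hpi h1)

/-- **`f` has no fixed points on `Q`** when it does not stabilise the weight -/
theorem cent_f_trivial (c : MinCE ρ t s p l Q S f h) (w : WD ρ Q f h χ)
    (hf : f ∉ stab (Zc Q) χ) : ∀ d ∈ Q, f * d = d * f → d = 1 := by
  classical
  have hN := c.actZ.closure_le_normalizer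
  have : Fact t.Prime := ⟨c.ht⟩
  set D : Subgroup Γ := Q ⊓ centralizer {f} with hD
  have hDmem : ∀ y, y ∈ D ↔ y ∈ Q ∧ f * y = y * f := by
    intro y
    rw [hD, Subgroup.mem_inf, mem_centralizer_singleton_iff]
    constructor
    · rintro ⟨h1, h2⟩; exact ⟨h1, h2.symm⟩
    · rintro ⟨h1, h2⟩; exact ⟨h1, h2.symm⟩
  set W : Submodule K V := LinearMap.ker (ρ f - 1) with hW
  have hWmem : ∀ v, v ∈ W ↔ ρ f v = v := by
    intro v
    rw [hW, LinearMap.mem_ker, LinearMap.sub_apply, Module.End.one_apply, sub_eq_zero]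
  have hDK : (Nat.card D : K) ≠ 0 := by
    obtain ⟨b, hb⟩ := IsPGroup.iff_card.mp (c.hQ.to_le (inf_le_left : D ≤ Q))
    rw [hb, Nat.cast_pow]
    exact pow_ne_zero _ c.htK
  have htriv := frob_fix ρ D h c.aQ.hl c.aQ.hhl
    (by
      intro d hd
      rw [hDmem] at hd ⊢
      exact ⟨c.aQ.hhX d hd.1, c.aQ.conj_h_comm hd.2⟩)
    (by
      intro d hd hhd
      rw [hDmem] at hd
      exact c.aQ.hfpf d hd.1 hd.2 hhd)
    hDK W
    (by
      intro d hd v hv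
      rw [hDmem] at hd
      rw [hWmem] at hv ⊢
      rw [← rho_mul_apply, hd.2, rho_mul_apply, hv])
    (by
      intro v hv
      rw [hWmem] at hv ⊢
      obtain ⟨k, hk⟩ := c.aQ.hnorm' 1
      rw [pow_one] at hk
      have e : f * h = h * (h⁻¹ * f * h) := by group
      rw [← rho_mul_apply, e, hk, rho_mul_apply, rho_pow_apply_of_fixed hv])
    (by
      intro v hv hhv
      rw [hWmem] at hv
      exact c.hfV v hv hhv)
  intro d hdQ hdf
  have hdD : d ∈ D := (hDmem d).mpr ⟨hdQ, hdf⟩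
  apply c.hfaith d hdQ
  apply w.eq_one_of_forall
  intro a ha v hv
  -- the norm of `v` is fixed by `f`
  have hNW : ∀ u : V, ∑ i ∈ Finset.range p, ρ (f ^ i) u ∈ W := by
    intro u
    rw [hWmem, map_sum]
    have h1 : ∀ i, ρ f (ρ (f ^ i) u) = ρ (f ^ (i + 1)) u := by
      intro i
      rw [← rho_mul_apply, ← pow_succ']
    simp_rw [h1]
    exact sum_range_shift (fun i => ρ (f ^ i) u) p (by simp [c.aQ.hfp])
  have hdpow : ∀ i : ℕ, ∀ u : V, ρ d (ρ (f ^ i) u) = ρ (f ^ i) (ρ d u) := by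
    intro i u
    have c1 : Commute d f := hdf.symm
    rw [← rho_mul_apply, ← rho_mul_apply, (c1.pow_right i).eq]
  have hsum : ∑ i ∈ Finset.range p, ρ (f ^ i) (ρ d v - v) = 0 := by
    have h1 := htriv d hdD _ (hNW v)
    rw [map_sum] at h1
    simp_rw [hdpow] at h1
    simp_rw [map_sub]
    rw [Finset.sum_sub_distrib, h1, sub_self]
  have hdstab : d ∈ stab (Zc Q) (cj a χ) :=
    mem_stab_of_cent (fun z hz => ((mem_Zc.mp hz).2 d hdQ).symm) _
  have hu : ρ d v - v ∈ wt ρ (Zc Q) (cj a χ) :=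
    Submodule.sub_mem _ (map_wt_of_mem_stab hdstab hv) hv
  have hfa := c.f_not_mem_stab_cj hf ha
  have hfZ : ∀ i : ℕ, f ^ i ∈ normalizer ((Zc Q : Subgroup Γ) : Set Γ) :=
    fun i => Subgroup.pow_mem _ c.actZ.f_mem_normalizer i
  have h0 := lemmaM_single ρ (Zc Q) (Finset.range p) (fun i => f ^ i) (fun i _ => hfZ i)
    (cj a χ) (ρ d v - v) hu hsum 0 (Finset.mem_range.mpr c.aQ.hp.pos)
    (by
      intro i hi hi0
      have hip := Finset.mem_range.mp hi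
      show ∃ z ∈ Zc Q, cj (f ^ i) (cj a χ) z ≠ cj (f ^ 0) (cj a χ) z
      rw [pow_zero]
      exact exists_of_not_mem_stab (hfZ i)
        (c.fpow_not_mem_stab hfa (Nat.pos_of_ne_zero hi0) hip))
  simp only [pow_zero, map_one, Module.End.one_apply] at h0
  exact sub_eq_zero.mp h0

end MinCE

end

end Cfsg.Agent.Lib.Helper23.PQ
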