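import Mathlib
import Cfsg.Agent.Lib.Helper23.PQ8c
import Cfsg.Agent.Lib.Helper24.LinPGroup

/-!
# helper23: linear freeness for a Frobenius group with abelian kernel

If `T ⋊ ⟨η⟩` acts on `W` (in coprime characteristic, over an algebraically closed field), `T`
abelian, `η` of prime order `l` acting on `T` so that every element is a twisted commutator, and `T`
has no nonzero fixed vectors, then `W` is free over `⟨η⟩`: `l * dim C_W(η) = dim W`.
-/

set_option autoImplicit false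
set_option linter.unusedSectionVars false
set_option linter.style.haveILetI false

namespace Cfsg.Agent.Lib.Helper23.PQ

open Module Subgroup
open Cfsg.Agent.Lib.Helper23.Ward
open Cfsg.Agent.Lib.Helper23.S3 (rho_mul_apply mem_normalizer_of_conj_mem conj_inv_mem_of_finite)

section LF

variable {K : Type*} [Field K] {Γ : Type*} [Group Γ]
  {W : Type*} [AddCommGroup W] [Module K W]

/-- the hypotheses of linear freeness -/
structure LFH (ρ : Representation K Γ W) (T : Subgroup Γ) (η : Γ) (l : ℕ) : Prop where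
  hl : l.Prime
  hlK : (l : K) ≠ 0
  hΓK : (Nat.card Γ : K) ≠ 0
  hηl : η ^ l = 1
  hηT : ∀ y ∈ T, η * y * η⁻¹ ∈ T
  hTc : ∀ a ∈ T, ∀ b ∈ T, a * b = b * a
  hgen : ∀ g : Γ, ∃ τ ∈ T, ∃ j : ℕ, g = τ * η ^ j
  htw : ∀ y ∈ T, ∃ σ ∈ T, σ⁻¹ * (η * σ * η⁻¹) = y
  hfix : ∀ v : W, (∀ y ∈ T, ρ y v = v) → v = 0

variable {ρ : Representation K Γ W} {T : Subgroup Γ} {η : Γ} {l : ℕ} [Finite Γ]

namespace LFH

theorem eta_mem_normalizer (H : LFH ρ T η l) : η ∈ normalizer (T : Set Γ) :=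
  mem_normalizer_of_conj_mem H.hηT

/-- `η` does not stabilise a weight with nonzero weight space -/
theorem not_stab (H : LFH ρ T η l) {χ : Γ → K} {v : W} (hv : v ∈ wt ρ T χ) (hv0 : v ≠ 0) :
    η ∉ stab T χ := by
  intro hη
  apply hv0
  apply H.hfix
  intro y hy
  obtain ⟨σ, hσ, rfl⟩ := H.htw y hy
  have h1 : η * σ * η⁻¹ ∈ T := H.hηT σ hσ
  have h2 : χ (η * σ * η⁻¹) = χ σ := by
    have := (Subgroup.inv_mem _ hη).2 σ hσ
    rwa [inv_inv] at this
  rw [rho_mul_apply, hv _ h1, h2, ← hv σ hσ, rho_inv_apply]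

/-- the conjugates of a weight under the powers of `η` are pairwise distinct -/
theorem distinct (H : LFH ρ T η l) {χ : Γ → K} {v : W} (hv : v ∈ wt ρ T χ) (hv0 : v ≠ 0)
    {i j : ℕ} (hi : i < l) (hj : j < l) (hij : i ≠ j) :
    ∃ z ∈ T, cj (η ^ i) χ z ≠ cj (η ^ j) χ z := by
  by_contra hcon
  push Not at hcon
  have hηN := H.eta_mem_normalizer
  have hg : η ^ ((l - 1) * j + i) ∈ stab T χ := by
    refine ⟨Subgroup.pow_mem _ hηN _, ?_⟩
    intro z hz
    have e1 : η ^ ((l - 1) * j + i) = (η ^ j)⁻¹ * η ^ i := by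
      rw [pow_add, pow_mul, ← inv_eq_pow_pred H.hl.pos H.hηl, inv_pow]
    rw [e1]
    have hz' : η ^ j * z * (η ^ j)⁻¹ ∈ T := conj_pow_mem H.hηT j z hz
    have h3 := hcon _ hz'
    rw [cj_apply, cj_apply] at h3
    have e2 : ((η ^ j)⁻¹ * η ^ i)⁻¹ * z * ((η ^ j)⁻¹ * η ^ i) =
        (η ^ i)⁻¹ * (η ^ j * z * (η ^ j)⁻¹) * η ^ i := by group
    have e3 : (η ^ j)⁻¹ * (η ^ j * z * (η ^ j)⁻¹) * η ^ j = z := by group
    rw [e2, h3, e3]
  have hnd : ¬ l ∣ (l - 1) * j + i := by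
    intro hd
    apply hij
    have h1 : (l - 1) * j + i + j = l * j + i := by
      have : (l - 1) * j + j = l * j := by
        rw [← Nat.succ_mul, Nat.succ_eq_add_one, Nat.sub_add_cancel H.hl.pos]
      omega
    have h2 : ((l - 1) * j + i + j) % l = j % l := by
      obtain ⟨c, hc⟩ := hd
      rw [hc, Nat.mul_add_mod]
    rw [h1, Nat.mul_add_mod, Nat.mod_eq_of_lt hi, Nat.mod_eq_of_lt hj] at h2
    exact h2
  exact H.not_stab hv hv0 (mem_of_pow_mem H.hl H.hηl hnd hg)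


/-- conjugating an element of `T` by a power of `η` -/
theorem conj_pow_mem' (H : LFH ρ T η l) (i : ℕ) {τ : Γ} (hτ : τ ∈ T) :
    (η ^ i)⁻¹ * τ * η ^ i ∈ T :=
  conj_inv_mem_of_finite (conj_pow_mem H.hηT i) τ hτ

/-- `T` acts by scalars on the translates of a weight space -/
theorem rho_T_pow (H : LFH ρ T η l) {χ : Γ → K} {u : W} (hu : u ∈ wt ρ T χ) (i : ℕ) {τ : Γ}
    (hτ : τ ∈ T) : ρ τ (ρ (η ^ i) u) = χ ((η ^ i)⁻¹ * τ * η ^ i) • ρ (η ^ i) u := by
  have h1 := hu _ (H.conj_pow_mem' i hτ)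
  have e : τ * η ^ i = η ^ i * ((η ^ i)⁻¹ * τ * η ^ i) := by group
  rw [← rho_mul_apply, e, rho_mul_apply, h1, map_smul]

variable [IsAlgClosed K] [FiniteDimensional K W]

/-- **linear freeness**, for invariant subspaces -/
theorem main (H : LFH ρ T η l) : ∀ n : ℕ, ∀ U : Submodule K W, finrank K U = n →
    (∀ g : Γ, ∀ u ∈ U, ρ g u ∈ U) →
    l * finrank K ↥(U ⊓ LinearMap.ker (ρ η - 1)) = finrank K U := by
  classical
  intro n
  induction n using Nat.strong_induction_on with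
  | _ n ih =>
  intro U hUn hUinv
  set F : Submodule K W := LinearMap.ker (ρ η - 1) with hF
  have hFmem : ∀ v, v ∈ F ↔ ρ η v = v := by
    intro v
    rw [hF, LinearMap.mem_ker, LinearMap.sub_apply, Module.End.one_apply, sub_eq_zero]
  by_cases hU0 : U = ⊥
  · subst hU0
    simp
  have hl0 : 0 < l := H.hl.pos
  -- pick a weight
  obtain ⟨u, huU, hu0⟩ := Submodule.exists_mem_ne_zero_of_ne_bot hU0
  have hTK : (Nat.card T : K) ≠ 0 := by
    obtain ⟨c, hc⟩ := Subgroup.card_subgroup_dvd_card T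
    intro h0
    apply H.hΓK
    rw [hc, Nat.cast_mul, h0, zero_mul]
  have hdec := mem_iSup_wt ρ T U (fun z _ u hu => hUinv z u hu)
    (fun z hz z' hz' u _ => by rw [← rho_mul_apply, ← rho_mul_apply, H.hTc z hz z' hz']) hTK u huU
  have hex : ∃ χ : Γ → K, U ⊓ wt ρ T χ ≠ ⊥ := by
    by_contra hcon
    push Not at hcon
    have h1 : (⨆ χ : Γ → K, U ⊓ wt ρ T χ) = ⊥ := by
      rw [iSup_eq_bot]
      exact hcon
    rw [h1, Submodule.mem_bot] at hdec
    exact hu0 hdec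
  obtain ⟨χ, hχ⟩ := hex
  set U₀ : Submodule K W := U ⊓ wt ρ T χ with hU₀
  obtain ⟨v₀, hv₀, hv₀0⟩ := Submodule.exists_mem_ne_zero_of_ne_bot hχ
  have hηN := H.eta_mem_normalizer
  have hηpowN : ∀ i : ℕ, η ^ i ∈ normalizer (T : Set Γ) := fun i => Subgroup.pow_mem _ hηN i
  -- the map `Φ`
  let Φ : (Fin l → ↥U₀) →ₗ[K] W :=
    ∑ i : Fin l, (ρ (η ^ (i : ℕ))) ∘ₗ U₀.subtype ∘ₗ (LinearMap.proj i : (Fin l → ↥U₀) →ₗ[K] ↥U₀)
  have hΦ : ∀ x : Fin l → ↥U₀, Φ x = ∑ i : Fin l, ρ (η ^ (i : ℕ)) (x i : W) := by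
    intro x
    simp [Φ, LinearMap.sum_apply]
  have hΦinj : Function.Injective Φ := by
    rw [← LinearMap.ker_eq_bot, eq_bot_iff]
    intro x hx
    rw [LinearMap.mem_ker, hΦ] at hx
    have h1 := wt_indep ρ T (Finset.univ : Finset (Fin l)) (fun i => cj (η ^ (i : ℕ)) χ)
      (fun i _ j _ hij => H.distinct hv₀.2 hv₀0 i.2 j.2 (fun e => hij (Fin.ext e)))
      (fun i => ρ (η ^ (i : ℕ)) (x i : W)) (fun i _ => map_wt (hηpowN i) (x i).2.2) hx
    rw [Submodule.mem_bot]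
    funext i
    have h2 := h1 i (Finset.mem_univ i)
    have h3 : ((x i : ↥U₀) : W) = 0 := by
      have := rho_inv_apply ρ (η ^ (i : ℕ)) (x i : W)
      rw [h2, map_zero] at this
      exact this.symm
    exact Subtype.ext h3
  set U' : Submodule K W := LinearMap.range Φ with hU'
  have hU'rank : finrank K U' = l * finrank K U₀ := by
    rw [hU', LinearMap.finrank_range_of_inj hΦinj, Module.finrank_pi_fintype]
    simp
  -- generators of `U'`
  have hgenU' : ∀ i : ℕ, ∀ u ∈ U₀, ρ (η ^ i) u ∈ U' := by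
    intro i u hu
    have e1 : η ^ i = η ^ (i % l) := pow_eq_pow_mod i H.hηl
    rw [e1]
    refine ⟨Pi.single (⟨i % l, Nat.mod_lt i hl0⟩ : Fin l) ⟨u, hu⟩, ?_⟩
    rw [hΦ, Finset.sum_eq_single (⟨i % l, Nat.mod_lt i hl0⟩ : Fin l)]
    · simp
    · intro b _ hb
      rw [Pi.single_eq_of_ne hb]
      simp
    · intro hb
      exact absurd (Finset.mem_univ _) hb
  have hU'U : U' ≤ U := by
    rintro _ ⟨x, rfl⟩
    rw [hΦ]
    apply Submodule.sum_mem
    intro i _
    exact hUinv _ _ (x i).2.1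
  have hU'inv : ∀ g : Γ, ∀ w ∈ U', ρ g w ∈ U' := by
    intro g w hw
    obtain ⟨x, rfl⟩ := hw
    rw [hΦ, map_sum]
    apply Submodule.sum_mem
    intro i _
    obtain ⟨τ, hτ, j, rfl⟩ := H.hgen g
    rw [rho_mul_apply, ← rho_mul_apply ρ (η ^ j), ← pow_add, H.rho_T_pow (x i).2.2 _ hτ]
    exact Submodule.smul_mem _ _ (hgenU' _ _ (x i).2)
  -- the norm map
  let N : ↥U₀ →ₗ[K] W := Φ ∘ₗ LinearMap.pi (fun _ : Fin l => (LinearMap.id : ↥U₀ →ₗ[K] ↥U₀))
  have hN : ∀ u : ↥U₀, N u = ∑ i ∈ Finset.range l, ρ (η ^ i) (u : W) := by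
    intro u
    show Φ (fun _ => u) = _
    rw [hΦ, Fin.sum_univ_eq_sum_range (fun i => ρ (η ^ i) (u : W)) l]
  have hNinj : Function.Injective N := by
    intro a b hab
    have h1 := hΦinj hab
    have h2 := congrFun h1 (⟨0, hl0⟩ : Fin l)
    simpa using h2
  have hNfix : ∀ u : ↥U₀, ρ η (N u) = N u := by
    intro u
    rw [hN, map_sum]
    have h1 : ∀ i, ρ η (ρ (η ^ i) (u : W)) = ρ (η ^ (i + 1)) (u : W) := by
      intro i
      rw [← rho_mul_apply, ← pow_succ']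
    simp_rw [h1]
    exact sum_range_shift (fun i => ρ (η ^ i) (u : W)) l (by simp [H.hηl])
  have hNpow : ∀ (u : ↥U₀) (i : ℕ), ρ (η ^ i) (N u) = N u :=
    fun u i => rho_pow_apply_of_fixed (hNfix u) i
  have hrange : U' ⊓ F = LinearMap.range N := by
    apply le_antisymm
    · rintro w ⟨hw1, hw2⟩
      obtain ⟨x, rfl⟩ := hw1
      have hw2' : ρ η (Φ x) = Φ x := (hFmem _).mp hw2
      have h1 : (l : K) • Φ x = N (∑ i : Fin l, x i) := by
        have h2 : ∀ j : ℕ, ρ (η ^ j) (Φ x) = Φ x := fun j => rho_pow_apply_of_fixed hw2' j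
        have h3 : (l : K) • Φ x = ∑ j ∈ Finset.range l, ρ (η ^ j) (Φ x) := by
          rw [Finset.sum_congr rfl (fun j _ => h2 j), Finset.sum_const, Finset.card_range,
            Nat.cast_smul_eq_nsmul]
        rw [h3, map_sum]
        have h4 : ∀ j : ℕ, ρ (η ^ j) (Φ x) = ∑ i : Fin l, ρ (η ^ (i : ℕ)) (ρ (η ^ j) (x i : W)) := by
          intro j
          rw [hΦ, map_sum]
          apply Finset.sum_congr rfl
          intro i _
          rw [← rho_mul_apply, ← rho_mul_apply, ← pow_add, ← pow_add, add_comm]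
        rw [Finset.sum_congr rfl (fun j _ => h4 j), Finset.sum_comm]
        apply Finset.sum_congr rfl
        intro i _
        rw [← map_sum, ← hN, hNpow]
      refine ⟨(l : K)⁻¹ • ∑ i : Fin l, x i, ?_⟩
      rw [map_smul, ← h1, smul_smul, inv_mul_cancel₀ H.hlK, one_smul]
    · rintro _ ⟨u, rfl⟩
      refine ⟨⟨_, rfl⟩, (hFmem _).mpr (hNfix u)⟩
  have hU'F : finrank K ↥(U' ⊓ F) = finrank K U₀ := by
    rw [hrange, LinearMap.finrank_range_of_inj hNinj]
  -- Maschke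
  obtain ⟨U'', hU''inv, hcompl⟩ :=
    Cfsg.Agent.Lib.Helper24.LinPGroup.exists_inv_compl H.hΓK ρ U' hU'inv
  set U₂ : Submodule K W := U ⊓ U'' with hU₂
  have hU₂inv : ∀ g : Γ, ∀ w ∈ U₂, ρ g w ∈ U₂ :=
    fun g w hw => ⟨hUinv g w hw.1, hU''inv g w hw.2⟩
  have hdisj : U' ⊓ U₂ = ⊥ := by
    rw [eq_bot_iff, ← hcompl.inf_eq_bot]
    exact inf_le_inf le_rfl inf_le_right
  have hsup : U' ⊔ U₂ = U := by
    rw [hU₂, inf_comm U U'', ← sup_inf_assoc_of_le U'' hU'U, hcompl.sup_eq_top, top_inf_eq]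
  have hrankU : finrank K U = finrank K U' + finrank K U₂ := by
    have h1 := Submodule.finrank_sup_add_finrank_inf_eq U' U₂
    rw [hdisj, finrank_bot, add_zero, hsup] at h1
    exact h1
  have hU₀pos : 0 < finrank K U₀ := by
    rw [Module.finrank_pos_iff]
    exact Submodule.nontrivial_iff_ne_bot.mpr hχ
  have hlt : finrank K U₂ < n := by
    rw [← hUn, hrankU, hU'rank]
    have : 0 < l * finrank K U₀ := Nat.mul_pos hl0 hU₀pos
    omega
  have hIH := ih _ hlt U₂ rfl hU₂inv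
  -- the fixed points split
  have hsplit : U ⊓ F = (U' ⊓ F) ⊔ (U₂ ⊓ F) := by
    apply le_antisymm
    · rintro w ⟨hw1, hw2⟩
      rw [← hsup] at hw1
      obtain ⟨a, ha, b, hb, rfl⟩ := Submodule.mem_sup.mp hw1
      have hw2' := (hFmem _).mp hw2
      rw [map_add] at hw2'
      have h1 : ρ η a - a = b - ρ η b := by
        have : ρ η a + ρ η b - (a + ρ η b) = a + b - (a + ρ η b) := by rw [hw2']
        calc ρ η a - a = ρ η a + ρ η b - (a + ρ η b) := by abel
          _ = a + b - (a + ρ η b) := this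
          _ = b - ρ η b := by abel
      have h2 : ρ η a - a ∈ U' ⊓ U₂ := by
        refine ⟨Submodule.sub_mem _ (hU'inv η a ha) ha, ?_⟩
        rw [h1]
        exact Submodule.sub_mem _ hb (hU₂inv η b hb)
      rw [hdisj, Submodule.mem_bot] at h2
      have h3 : ρ η a = a := sub_eq_zero.mp h2
      have h4 : ρ η b = b := by
        rw [h2] at h1
        exact (sub_eq_zero.mp h1.symm).symm
      exact Submodule.add_mem_sup ⟨ha, (hFmem _).mpr h3⟩ ⟨hb, (hFmem _).mpr h4⟩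
    · apply sup_le
      · exact inf_le_inf hU'U le_rfl
      · exact inf_le_inf inf_le_left le_rfl
  have hdisjF : (U' ⊓ F) ⊓ (U₂ ⊓ F) = ⊥ := by
    rw [eq_bot_iff, ← hdisj]
    exact inf_le_inf inf_le_left inf_le_left
  have hrankF : finrank K ↥(U ⊓ F) = finrank K ↥(U' ⊓ F) + finrank K ↥(U₂ ⊓ F) := by
    have h1 := Submodule.finrank_sup_add_finrank_inf_eq (U' ⊓ F) (U₂ ⊓ F)
    rw [hdisjF, finrank_bot, add_zero, ← hsplit] at h1
    exact h1
  rw [hrankF, mul_add, hIH, hU'F, ← hU'rank, ← hrankU]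

/-- **linear freeness** -/
theorem free (H : LFH ρ T η l) : l * finrank K ↥(LinearMap.ker (ρ η - 1)) = finrank K W := by
  have h1 := H.main _ ⊤ rfl (fun _ _ _ => Submodule.mem_top)
  rw [top_inf_eq, finrank_top] at h1
  exact h1

end LFH

end LF

end Cfsg.Agent.Lib.Helper23.PQ
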