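import Mathlib
import Cfsg.Agent.Lib.Helper23.WardE
import Cfsg.Agent.Lib.Helper1.Fitting
import Cfsg.Agent.Lib.Helper1.MinNormal
import Cfsg.Agent.Lib.Helper12.Cores
import Cfsg.Agent.Lib.Helper8.SylIn
import Cfsg.Prelude.Def_Amalgam

set_option autoImplicit false
set_option linter.unusedSectionVars false

namespace Cfsg.Agent.Lib.Helper23.Ward

open Subgroup Module
open scoped commutatorElement

variable {Γ : Type*} [Group Γ]

theorem lcs_mono {X Y : Subgroup Γ} (h : X ≤ Y) (k : ℕ) :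
    X.lowerCentralSeries k ≤ Y.lowerCentralSeries k := by
  induction k with
  | zero => exact h
  | succ k ih =>
    rw [Subgroup.lowerCentralSeries_succ, Subgroup.lowerCentralSeries_succ]
    exact Subgroup.commutator_mono ih h

theorem isNilpotent_of_le {X F : Subgroup Γ} (h : X ≤ F) (hF : Group.IsNilpotent F) :
    Group.IsNilpotent X := by
  rw [isNilpotent_iff_lowerCentralSeries] at hF ⊢
  obtain ⟨k, hk⟩ := hF
  exact ⟨k, le_bot_iff.mp (hk ▸ lcs_mono h k)⟩

theorem isNilpotent_sup_of_commute {X Y : Subgroup Γ} (hX : Group.IsNilpotent X)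
    (hY : Group.IsNilpotent Y) (hc : ∀ x ∈ X, ∀ y ∈ Y, x * y = y * x) :
    Group.IsNilpotent ↥(X ⊔ Y) := by
  have comm : ∀ (m : ↥X) (n : ↥Y), Commute (X.subtype m) (Y.subtype n) :=
    fun m n => hc m.1 m.2 n.1 n.2
  have hr := MonoidHom.noncommCoprod_range X.subtype Y.subtype comm
  rw [Subgroup.range_subtype, Subgroup.range_subtype] at hr
  rw [← hr]
  exact Group.nilpotent_of_surjective (MonoidHom.noncommCoprod X.subtype Y.subtype comm).rangeRestrict
    (MonoidHom.noncommCoprod X.subtype Y.subtype comm).rangeRestrict_surjective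

/-- a nilpotent normal subgroup is the join of its `q`-cores -/
theorem eq_iSup_pCoreOf [Finite Γ] (F : Subgroup Γ) (hF : Group.IsNilpotent F) :
    F = ⨆ q : Nat.Primes, Cfsg.pCoreOf (q : ℕ) F := by
  have h1 : (⊤ : Subgroup ↥F) ≤ ⨆ q : Nat.Primes, Cfsg.pCore (q : ℕ) ↥F :=
    Cfsg.Agent.Lib.Helper1.le_iSup_pCore_of_normal_of_isNilpotent ⊤ inferInstance
      (Group.isNilpotent_top.mpr hF)
  have h2 : (⨆ q : Nat.Primes, Cfsg.pCore (q : ℕ) ↥F) = ⊤ := top_le_iff.mp h1
  have h3 := congrArg (Subgroup.map F.subtype) h2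
  rw [Subgroup.map_iSup, ← MonoidHom.range_eq_map, Subgroup.range_subtype] at h3
  exact h3.symm

theorem pCoreOf_le (q : ℕ) (F : Subgroup Γ) : Cfsg.pCoreOf q F ≤ F := by
  unfold Cfsg.pCoreOf
  exact Subgroup.map_subtype_le _

theorem pCoreOf_normal (q : ℕ) (F : Subgroup Γ) [F.Normal] : (Cfsg.pCoreOf q F).Normal := by
  unfold Cfsg.pCoreOf
  have := Cfsg.Agent.Lib.Helper12.pCore_characteristic' (G := ↥F) q
  infer_instance

theorem pCoreOf_isPGroup [Finite Γ] (q : ℕ) [Fact q.Prime] (F : Subgroup Γ) :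
    IsPGroup q (Cfsg.pCoreOf q F) := by
  unfold Cfsg.pCoreOf
  exact (Cfsg.Agent.Lib.Helper1.pCore_isPGroup q ↥F).map F.subtype

end Cfsg.Agent.Lib.Helper23.Ward
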