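import Mathlib
import Cfsg.Agent.Lib.Helper23.WardF

set_option autoImplicit false
set_option linter.unusedSectionVars false

namespace Cfsg.Agent.Lib.Helper23.Ward

open Subgroup Module
open scoped commutatorElement

variable {Γ : Type*} [Group Γ]

theorem eq_bot_of_isPGroup_of_coprime [Finite Γ] {p : ℕ} (hp : p.Prime) {R : Subgroup Γ}
    (hR : IsPGroup p R) {m : ℕ} (hm : m ≠ 0) (hcop : (p ^ m).Coprime (Nat.card R)) : R = ⊥ := by
  have : Fact p.Prime := ⟨hp⟩
  obtain ⟨n, hn⟩ := IsPGroup.iff_card.mp hR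
  rcases n with _ | n
  · rw [pow_zero] at hn
    exact Subgroup.card_eq_one.mp hn
  · exfalso
    rw [hn] at hcop
    have h1 : p ∣ Nat.gcd (p ^ m) (p ^ (n + 1)) :=
      Nat.dvd_gcd (dvd_pow_self p hm) (dvd_pow_self p (Nat.succ_ne_zero n))
    rw [Nat.Coprime.gcd_eq_one hcop] at h1
    exact hp.one_lt.ne' (Nat.dvd_one.mp h1)

theorem le_normalizer_of_normal {N H : Subgroup Γ} (hN : N.Normal) :
    H ≤ normalizer (N : Set Γ) := by
  rw [Subgroup.normalizer_eq_top]
  exact le_top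

variable {K : Type*} [Field K] {V : Type*} [AddCommGroup V] [Module K V]

/-- a solvable normal subgroup `H` on which `A` acts fixed-point-freely and which acts faithfully on
a module `V` with `C_V(A) = 0` and `O_r(H) = 1` (`r` the characteristic) is nilpotent. -/
theorem nilp_faithful [Finite Γ] [Group.IsSolvable Γ] [IsAlgClosed K] [FiniteDimensional K V]
    {p : ℕ} (hp : p.Prime) {H A : Subgroup Γ} (hHn : H.Normal)
    (hA : Cfsg.IsElementaryAbelian p A) (hAcard : Nat.card A = p ^ 2)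
    (hcop : (Nat.card A).Coprime (Nat.card H))
    (hfH : ∀ x ∈ H, (∀ a ∈ A, a * x = x * a) → x = 1)
    (ρ : Representation K Γ V) (hfaith : ∀ x ∈ H, ρ x = 1 → x = 1)
    (hfV : ∀ v : V, (∀ a ∈ A, ρ a v = v) → v = 0)
    (hOr : ∀ q : ℕ, q.Prime → (q : K) = 0 → ∀ R : Subgroup Γ, R ≤ H → R.Normal →
      IsPGroup q R → R = ⊥) :
    Group.IsNilpotent H := by
  classical
  let 𝓢 : Set (Subgroup Γ) := {N | N ≤ H ∧ N.Normal ∧ Group.IsNilpotent N}
  have hne : 𝓢.Nonempty := ⟨⊥, bot_le, inferInstance, inferInstance⟩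
  obtain ⟨F, ⟨hFH, hFn, hFnil⟩, hFmax⟩ := (wellFounded_gt (α := Subgroup Γ)).has_min 𝓢 hne
  by_contra hHnil
  have hFne : F ≠ H := fun e => hHnil (e ▸ hFnil)
  have hπs : Function.Surjective (QuotientGroup.mk' F) := QuotientGroup.mk'_surjective F
  have hHbar : (H.map (QuotientGroup.mk' F)).Normal := hHn.map (QuotientGroup.mk' F) hπs
  have hHbar1 : H.map (QuotientGroup.mk' F) ≠ ⊥ := by
    intro h0
    apply hFne
    apply le_antisymm hFH
    intro x hx
    have : QuotientGroup.mk' F x ∈ H.map (QuotientGroup.mk' F) := Subgroup.mem_map_of_mem _ hx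
    rw [h0, Subgroup.mem_bot] at this
    exact (QuotientGroup.eq_one_iff x).mp this
  obtain ⟨Mb, hMb, hMbH⟩ :=
    Cfsg.Agent.Lib.Helper1.exists_isMinNormal_le (H.map (QuotientGroup.mk' F)) hHbar hHbar1
  obtain ⟨s, hs, hMbs⟩ := hMb.exists_prime_isPGroup
  have : Fact s.Prime := ⟨hs⟩
  set H₁ : Subgroup Γ := Mb.comap (QuotientGroup.mk' F) with hH₁
  have hH₁n : H₁.Normal := hMb.1.comap (QuotientGroup.mk' F)
  have hFH₁ : F ≤ H₁ := by
    intro x hx
    show QuotientGroup.mk' F x ∈ Mb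
    have : QuotientGroup.mk' F x = 1 := (QuotientGroup.eq_one_iff x).mpr hx
    rw [this]
    exact Mb.one_mem
  have hH₁H : H₁ ≤ H := by
    intro x hx
    obtain ⟨h, hh, hhx⟩ := hMbH hx
    have h2 : h⁻¹ * x ∈ F := by
      rw [← QuotientGroup.eq_one_iff]
      show QuotientGroup.mk' F (h⁻¹ * x) = 1
      rw [map_mul, map_inv, hhx, inv_mul_cancel]
    have e : x = h * (h⁻¹ * x) := by group
    rw [e]
    exact H.mul_mem hh (hFH h2)
  have hmapH₁ : H₁.map (QuotientGroup.mk' F) = Mb := Subgroup.map_comap_eq_self_of_surjective hπs Mb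
  have hH₁F : H₁ ≠ F := by
    intro e
    apply hMb.2.1
    rw [← hmapH₁, e]
    exact QuotientGroup.map_mk'_self F
  have hcopH₁ : (Nat.card A).Coprime (Nat.card H₁) :=
    Nat.Coprime.coprime_dvd_right (Subgroup.card_dvd_of_le hH₁H) hcop
  have hAcomm : ∀ a ∈ A, ∀ b ∈ A, a * b = b * a := by
    intro a ha b hb
    have := hA.1
    exact setLike_mul_comm ha hb
  have hAsolv : Group.IsSolvable A :=
    Group.isSolvable_of_comm (fun a b => Subtype.ext (hAcomm a a.2 b b.2))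
  obtain ⟨S₁, hS₁, hFsS₁, hAS₁⟩ := Cfsg.Agent.Lib.Helper8.exists_invariant_isSylIn_ge (A := A)
    (L := H₁) (le_normalizer_of_normal hH₁n) hcopH₁ (Or.inl hAsolv) s (Cfsg.pCoreOf s F)
    ((pCoreOf_le s F).trans hFH₁) (pCoreOf_isPGroup s F)
    (le_normalizer_of_normal (pCoreOf_normal s F))
  have hS₁H : S₁ ≤ H := hS₁.1.trans hH₁H
  have hcomm : ∀ q : ℕ, q.Prime → q ≠ s → ∀ x ∈ Cfsg.pCoreOf q F, ∀ y ∈ S₁, x * y = y * x := by
    intro q hq hqs x hx y hy
    have : Fact q.Prime := ⟨hq⟩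
    have hQn : (Cfsg.pCoreOf q F).Normal := pCoreOf_normal q F
    have hQH : Cfsg.pCoreOf q F ≤ H := (pCoreOf_le q F).trans hFH
    by_cases hqK : (q : K) = 0
    · have h0 := hOr q hq hqK _ hQH hQn (pCoreOf_isPGroup q F)
      rw [h0, Subgroup.mem_bot] at hx
      rw [hx, one_mul, mul_one]
    by_cases hqp : p = q
    · have h1 : (p ^ 2).Coprime (Nat.card (Cfsg.pCoreOf q F)) :=
        hAcard ▸ Nat.Coprime.coprime_dvd_right (Subgroup.card_dvd_of_le hQH) hcop
      have h0 := eq_bot_of_isPGroup_of_coprime hp (hqp ▸ pCoreOf_isPGroup q F) two_ne_zero h1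
      rw [h0, Subgroup.mem_bot] at hx
      rw [hx, one_mul, mul_one]
    by_cases hsp : p = s
    · have h1 : (p ^ 2).Coprime (Nat.card S₁) :=
        hAcard ▸ Nat.Coprime.coprime_dvd_right (Subgroup.card_dvd_of_le hS₁H) hcop
      have h0 := eq_bot_of_isPGroup_of_coprime hp (hsp ▸ hS₁.isPGroup) two_ne_zero h1
      rw [h0, Subgroup.mem_bot] at hy
      rw [hy, one_mul, mul_one]
    have hyp : Hyp ρ p q s A (Cfsg.pCoreOf q F) S₁ :=
      { hp := hp, hq := hq, hs := hs, hpq := hqp, hps := hsp, hqs := hqs, hqK := hqK, hA := hA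
        hAcard := hAcard, hQ := pCoreOf_isPGroup q F, hS := hS₁.isPGroup
        hAQ := le_normalizer_of_normal hQn, hAS := hAS₁, hSQ := le_normalizer_of_normal hQn
        hfQ := fun x hx => hfH x (hQH hx), hfS := fun y hy => hfH y (hS₁H hy), hfV := hfV }
    have h1 := key_prop hyp x hx y hy
    have h2 : ρ ⁅x, y⁆ = 1 := LinearMap.ext h1
    have h3 : ⁅x, y⁆ ∈ H := by
      rw [commutatorElement_def]
      exact H.mul_mem (H.mul_mem (H.mul_mem (hQH hx) (hS₁H hy)) (H.inv_mem (hQH hx)))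
        (H.inv_mem (hS₁H hy))
    exact commutatorElement_eq_one_iff_mul_comm.mp (hfaith _ h3 h2)
  have hH₁le : H₁ ≤ F ⊔ S₁ := by
    rw [← Subgroup.relIndex_eq_one]
    have h1 : (F ⊔ S₁).relIndex H₁ ∣ F.relIndex H₁ :=
      Subgroup.relIndex_dvd_of_le_left H₁ le_sup_left
    have h2 : (F ⊔ S₁).relIndex H₁ ∣ S₁.relIndex H₁ :=
      Subgroup.relIndex_dvd_of_le_left H₁ le_sup_right
    have h3 : F.relIndex H₁ = Nat.card Mb := by
      have e : F = (⊥ : Subgroup (Γ ⧸ F)).comap (QuotientGroup.mk' F) := by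
        rw [MonoidHom.comap_bot, QuotientGroup.ker_mk']
      conv_lhs => rw [e]
      rw [Subgroup.relIndex_comap, hmapH₁, Subgroup.relIndex_bot_left]
    have h4 : ¬ s ∣ S₁.relIndex H₁ := by
      have := (hS₁.toSylow).not_dvd_index
      exact this
    obtain ⟨n, hn⟩ := IsPGroup.iff_card.mp hMbs
    rw [h3, hn] at h1
    obtain ⟨j, -, hj⟩ := (Nat.dvd_prime_pow hs).mp h1
    rcases j with _ | j
    · rw [hj, pow_zero]
    · exfalso
      apply h4
      exact dvd_trans (hj ▸ dvd_pow_self s (Nat.succ_ne_zero j)) h2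
  set X : Subgroup Γ := ⨆ q : {q : Nat.Primes // (q : ℕ) ≠ s}, Cfsg.pCoreOf (q.1 : ℕ) F with hX
  have hXF : X ≤ F := iSup_le (fun q => pCoreOf_le _ F)
  have hXnil : Group.IsNilpotent X := isNilpotent_of_le hXF hFnil
  have hS₁nil : Group.IsNilpotent S₁ := hS₁.isPGroup.isNilpotent
  have hXc : X ≤ centralizer (S₁ : Set Γ) := by
    apply iSup_le
    intro q x hx
    rw [mem_centralizer_iff]
    intro y hy
    exact (hcomm q.1 q.1.2 q.2 x hx y hy).symm
  have hXY : ∀ x ∈ X, ∀ y ∈ S₁, x * y = y * x := by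
    intro x hx y hy
    exact ((mem_centralizer_iff.mp (hXc hx)) y hy).symm
  have hF_le : F ≤ X ⊔ S₁ := by
    have e := eq_iSup_pCoreOf F hFnil
    calc F = ⨆ q : Nat.Primes, Cfsg.pCoreOf (q : ℕ) F := e
      _ ≤ X ⊔ S₁ := by
        apply iSup_le
        intro q
        by_cases hq : (q : ℕ) = s
        · rw [hq]
          exact hFsS₁.trans le_sup_right
        · exact (le_iSup (fun q' : {q : Nat.Primes // (q : ℕ) ≠ s} =>
            Cfsg.pCoreOf (q'.1 : ℕ) F) ⟨q, hq⟩).trans le_sup_left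
  have hH₁eq : H₁ = X ⊔ S₁ :=
    le_antisymm (hH₁le.trans (sup_le hF_le le_sup_right)) (sup_le (hXF.trans hFH₁) hS₁.1)
  have hH₁nil : Group.IsNilpotent H₁ := by
    rw [hH₁eq]
    exact isNilpotent_sup_of_commute hXnil hS₁nil hXY
  exact hFmax H₁ ⟨hH₁H, hH₁n, hH₁nil⟩ (lt_of_le_of_ne hFH₁ (Ne.symm hH₁F))

end Cfsg.Agent.Lib.Helper23.Ward
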