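import Mathlib
import Cfsg.Agent.Lib.Helper23.WardG

set_option autoImplicit false
set_option linter.unusedSectionVars false

namespace Cfsg.Agent.Lib.Helper23.Ward

open Subgroup Module
open scoped commutatorElement

/-- the hypotheses of Ward's theorem, internally -/
structure WH (Γ : Type*) [Group Γ] (p : ℕ) (G A : Subgroup Γ) : Prop where
  hp : p.Prime
  hGn : G.Normal
  hΓs : Group.IsSolvable Γ
  hA : Cfsg.IsElementaryAbelian p A
  hAcard : Nat.card A = p ^ 2
  hcop : (Nat.card A).Coprime (Nat.card G)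
  hf : ∀ g ∈ G, (∀ a ∈ A, a * g = g * a) → g = 1

variable {Γ : Type*} [Group Γ] {p : ℕ} {G A : Subgroup Γ}

theorem WH.comm (h : WH Γ p G A) {a b : Γ} (ha : a ∈ A) (hb : b ∈ A) : a * b = b * a := by
  have := h.hA.1
  exact setLike_mul_comm ha hb

theorem WH.solvA (h : WH Γ p G A) : Group.IsSolvable A :=
  Group.isSolvable_of_comm (fun a b => Subtype.ext (h.comm a.2 b.2))

/-- the hypotheses pass to quotients by normal subgroups inside `G` -/
theorem WH.quot [Finite Γ] (h : WH Γ p G A) (X : Subgroup Γ) [hXn : X.Normal] (hXG : X ≤ G) :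
    WH (Γ ⧸ X) p (G.map (QuotientGroup.mk' X)) (A.map (QuotientGroup.mk' X)) := by
  have hπs : Function.Surjective (QuotientGroup.mk' X) := QuotientGroup.mk'_surjective X
  have hcopX : (Nat.card A).Coprime (Nat.card X) :=
    Nat.Coprime.coprime_dvd_right (Subgroup.card_dvd_of_le hXG) h.hcop
  have hAX : ∀ a ∈ A, a ∈ X → a = 1 := by
    intro a ha haX
    have hd : Disjoint A X := Subgroup.disjoint_of_coprime_natCard hcopX
    exact Subgroup.disjoint_def.mp hd ha haX
  refine
    { hp := h.hp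
      hGn := h.hGn.map _ hπs
      hΓs := ?_
      hA := ?_
      hAcard := ?_
      hcop := ?_
      hf := ?_ }
  · have := h.hΓs
    infer_instance
  · have := h.hA.1
    refine ⟨inferInstance, ?_⟩
    rintro _ ⟨a, ha, rfl⟩
    rw [← map_pow, h.hA.2 a ha, map_one]
  · rw [← h.hAcard]
    symm
    apply Nat.card_congr
    refine Equiv.ofBijective (fun a : ↥A => (⟨QuotientGroup.mk' X a.1,
      Subgroup.mem_map_of_mem _ a.2⟩ : ↥(A.map (QuotientGroup.mk' X)))) ⟨?_, ?_⟩
    · intro a b hab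
      have h1 : QuotientGroup.mk' X a.1 = QuotientGroup.mk' X b.1 := congrArg Subtype.val hab
      have h2 : a.1⁻¹ * b.1 ∈ X := by
        rw [← QuotientGroup.eq_one_iff]
        show QuotientGroup.mk' X (a.1⁻¹ * b.1) = 1
        rw [map_mul, map_inv, h1, inv_mul_cancel]
      have h3 := hAX _ (A.mul_mem (A.inv_mem a.2) b.2) h2
      apply Subtype.ext
      exact inv_mul_eq_one.mp h3
    · rintro ⟨_, ⟨a, ha, rfl⟩⟩
      exact ⟨⟨a, ha⟩, rfl⟩
  · have h1 : Nat.card (A.map (QuotientGroup.mk' X)) ∣ Nat.card A := Subgroup.card_map_dvd _ _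
    have h2 : Nat.card (G.map (QuotientGroup.mk' X)) ∣ Nat.card G := Subgroup.card_map_dvd _ _
    exact Nat.Coprime.coprime_dvd_left h1 (Nat.Coprime.coprime_dvd_right h2 h.hcop)
  · rintro _ ⟨g, hg, rfl⟩ hcent
    have hx : ∀ a ∈ A, g⁻¹ * a * g * a⁻¹ ∈ X := by
      intro a ha
      rw [← QuotientGroup.eq_one_iff]
      show QuotientGroup.mk' X (g⁻¹ * a * g * a⁻¹) = 1
      have h1 := hcent _ (Subgroup.mem_map_of_mem (QuotientGroup.mk' X) ha)
      rw [map_mul, map_mul, map_mul, map_inv, map_inv, mul_assoc _ (QuotientGroup.mk' X a), h1]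
      group
    obtain ⟨n, hn, hc⟩ := Cfsg.Agent.Lib.Helper1.exists_mul_mem_centralizer
      (le_normalizer_of_normal hXn) hcopX (Or.inl h.solvA) g hx
    have h1 : g * n = 1 := h.hf _ (G.mul_mem hg (hXG hn)) (fun a ha => hc a ha)
    have h2 : g = n⁻¹ := eq_inv_of_mul_eq_one_left h1
    rw [h2]
    exact (QuotientGroup.eq_one_iff _).mpr (X.inv_mem hn)

end Cfsg.Agent.Lib.Helper23.Ward
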