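import Mathlib
import Cfsg.Agent.Lib.Helper23.WardH
import Cfsg.Agent.Lib.Helper17.ESMod5

set_option autoImplicit false
set_option linter.unusedSectionVars false

namespace Cfsg.Agent.Lib.Helper23.Ward

open Subgroup Module
open scoped commutatorElement TensorProduct

universe u

/-- the linear representation over `ZMod r` attached to an action by automorphisms on an elementary
abelian `r`-group -/
theorem exists_rep_of_aut {T : Type u} [Group T] {r : ℕ} [Fact r.Prime] {E : Type u} [Group E]
    [Finite E] (hc : ∀ a b : E, a * b = b * a) (he : ∀ a : E, a ^ r = 1) (ψ : T →* MulAut E) :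
    ∃ (W : Type u) (_ : AddCommGroup W) (_ : Module (ZMod r) W) (_ : Finite W)
      (ρ : Representation (ZMod r) T W) (e : E ≃ W),
      (∀ t x, ρ t (e x) = e (ψ t x)) ∧ e 1 = 0 := by
  let _ : CommGroup E :=
    { (inferInstance : Group E) with
      mul_comm := hc }
  obtain ⟨iM⟩ : Nonempty (Module (ZMod r) (Additive E)) :=
    ⟨AddCommGroup.zmodModule (n := r) (by
      intro x
      have h2 : r • x = Additive.ofMul ((Additive.toMul x) ^ r) := rfl
      rw [h2, he]; rfl)⟩
  let ρ₀ : T →* Module.End (ZMod r) (Additive E) :=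
    { toFun := fun g => (MonoidHom.toAdditive (ψ g).toMonoidHom).toZModLinearMap r
      map_one' := by
        apply LinearMap.ext
        intro x
        change Additive.ofMul ((ψ 1) (Additive.toMul x)) = x
        rw [map_one]
        rfl
      map_mul' := fun g h => by
        apply LinearMap.ext
        intro x
        change Additive.ofMul ((ψ (g * h)) (Additive.toMul x)) =
          Additive.ofMul ((ψ g) (Additive.toMul (Additive.ofMul ((ψ h) (Additive.toMul x)))))
        rw [map_mul]
        rfl }
  refine ⟨Additive E, inferInstance, iM, inferInstance, ρ₀, Additive.ofMul, ?_, rfl⟩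
  intro t x
  rfl

section BC

variable {k : Type*} [Field k] (K : Type*) [Field K] [Algebra k K] {Γ : Type*} [Group Γ]
  {M : Type*} [AddCommGroup M] [Module k M]

open Cfsg.Agent.Lib.Helper17.ESMod

theorem bcRep_eq_one_iff (ρ : Representation k Γ M) (g : Γ) : bcRep K ρ g = 1 ↔ ρ g = 1 := by
  constructor
  · exact bcRep_eq_one K ρ g
  · intro h
    rw [bcRep_apply, h, map_one]

/-- fixed-point-freeness of a finite subgroup of invertible order passes to the base change -/
theorem bcRep_fix_subgroup (ρ : Representation k Γ M) (A : Subgroup Γ) [Finite A]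
    (hAK : (Nat.card A : K) ≠ 0) (hfix : ∀ w : M, (∀ a ∈ A, ρ a w = w) → w = 0) :
    ∀ v : K ⊗[k] M, (∀ a ∈ A, bcRep K ρ a v = v) → v = 0 := by
  classical
  let _ : Fintype ↥A := Fintype.ofFinite _
  have hT : ∑ a : ↥A, ρ (a : Γ) = 0 := by
    apply LinearMap.ext
    intro w
    rw [LinearMap.zero_apply]
    apply hfix
    intro b hb
    rw [LinearMap.sum_apply, map_sum]
    have e : ∀ a : ↥A, ρ b (ρ (a : Γ) w) = ρ (((⟨b, hb⟩ : ↥A) * a : ↥A) : Γ) w := by
      intro a
      rw [Subgroup.coe_mul, map_mul]; rfl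
    rw [Finset.sum_congr rfl (fun a _ => e a)]
    exact Fintype.sum_equiv (Equiv.mulLeft (⟨b, hb⟩ : ↥A)) _ _ (fun _ => rfl)
  intro v hv
  have h1 : ∑ a : ↥A, bcRep K ρ (a : Γ) = 0 := by
    have : ∑ a : ↥A, bcRep K ρ (a : Γ) = Module.End.baseChangeHom k K M (∑ a : ↥A, ρ (a : Γ)) := by
      rw [map_sum]
      rfl
    rw [this, hT, map_zero]
  have h2 : (∑ a : ↥A, bcRep K ρ (a : Γ)) v = (Nat.card A : K) • v := by
    rw [LinearMap.sum_apply, Finset.sum_congr rfl (fun a _ => hv a.1 a.2), Finset.sum_const,
      Finset.card_univ, Nat.card_eq_fintype_card, Nat.cast_smul_eq_nsmul]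
  rw [h1, LinearMap.zero_apply] at h2
  rcases smul_eq_zero.mp h2.symm with h3 | h3
  · exact absurd h3 hAK
  · exact h3

end BC

/-- characteristic of the algebraic closure of `ZMod r` -/
theorem natCast_algClosure_eq_zero {r : ℕ} [Fact r.Prime] {q : ℕ} (hq : q.Prime)
    (h : (q : AlgebraicClosure (ZMod r)) = 0) : q = r := by
  have h1 : algebraMap (ZMod r) (AlgebraicClosure (ZMod r)) (q : ZMod r) = 0 := by
    rw [map_natCast]; exact h
  have h2 : (q : ZMod r) = 0 := by
    have hinj := (algebraMap (ZMod r) (AlgebraicClosure (ZMod r))).injective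
    exact hinj (by rw [h1, map_zero])
  have h3 : r ∣ q := (ZMod.natCast_eq_zero_iff q r).mp h2
  exact ((Nat.prime_dvd_prime_iff_eq Fact.out hq).mp h3).symm

end Cfsg.Agent.Lib.Helper23.Ward
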