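import Mathlib
import Cfsg.Agent.Lib.Helper23.PQ10a
import Cfsg.Agent.Lib.Helper23.WardI
import Cfsg.Agent.Lib.Helper17.ESMod7
import Cfsg.Agent.Lib.Helper4.Basic

/-!
# helper23: freeness for a Frobenius group with abelian kernel acting on an elementary abelian group
-/

set_option autoImplicit false
set_option linter.unusedSectionVars false
set_option linter.style.haveILetI false

namespace Cfsg.Agent.Lib.Helper23.PQ

open Module Subgroup TensorProduct
open Cfsg.Agent.Lib.Helper23.Ward
open Cfsg.Agent.Lib.Helper23.S3 (rho_mul_apply mem_normalizer_of_conj_mem conj_inv_mem_of_finite)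
open Cfsg.Agent.Lib.Helper17.ESMod (bcRep bcRep_apply sup_zpowers_gen)

universe u

/-- the kernel of a base-changed endomorphism -/
theorem finrank_ker_baseChange {k : Type*} [Field k] (K : Type*) [Field K] [Algebra k K]
    {M : Type*} [AddCommGroup M] [Module k M] [FiniteDimensional k M] (φ : Module.End k M) :
    finrank K ↥(LinearMap.ker (φ.baseChange K)) = finrank k ↥(LinearMap.ker φ) := by
  have h1 : LinearMap.ker (φ.baseChange K) =
      LinearMap.range (AlgebraTensorModule.lTensor K K (LinearMap.ker φ).subtype) :=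
    Module.Flat.ker_lTensor_eq K K φ
  rw [h1]
  have hinj : Function.Injective (AlgebraTensorModule.lTensor K K (LinearMap.ker φ).subtype) := by
    have := Module.Flat.lTensor_preserves_injective_linearMap (M := K) (LinearMap.ker φ).subtype
      (LinearMap.ker φ).injective_subtype
    exact this
  rw [LinearMap.finrank_range_of_inj hinj, Module.finrank_baseChange]

/-- natural numbers prime to `r` are invertible in the algebraic closure of `ZMod r` -/
theorem natCast_algClosure_ne_zero {r : ℕ} [Fact r.Prime] {n : ℕ} (hn : n.Coprime r) :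
    (n : AlgebraicClosure (ZMod r)) ≠ 0 := by
  intro h
  have h1 : algebraMap (ZMod r) (AlgebraicClosure (ZMod r)) (n : ZMod r) = 0 := by
    rw [map_natCast]; exact h
  have h2 : (n : ZMod r) = 0 := by
    have hinj := (algebraMap (ZMod r) (AlgebraicClosure (ZMod r))).injective
    exact hinj (by rw [h1, map_zero])
  have h3 : r ∣ n := (ZMod.natCast_eq_zero_iff n r).mp h2
  have h4 : r ∣ Nat.gcd n r := Nat.dvd_gcd h3 dvd_rfl
  rw [hn] at h4
  exact (Fact.out : r.Prime).one_lt.ne' (Nat.dvd_one.mp h4)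

/-- **freeness**: a Frobenius group `T ⋊ ⟨η⟩` with abelian kernel acting on an elementary abelian
`r`-group `X` without nontrivial `T`-fixed points: `|X| = |C_X(η)| ^ l` -/
theorem frobFree {Δ : Type u} [Group Δ] [Finite Δ] {X T : Subgroup Δ} {η : Δ} {r l : ℕ}
    (hr : r.Prime) (hl : l.Prime) (hrl : r ≠ l)
    (hXc : ∀ a ∈ X, ∀ b ∈ X, a * b = b * a) (hXr : ∀ a ∈ X, a ^ r = 1)
    (hTX : T ≤ normalizer (X : Set Δ)) (hηX : ∀ x ∈ X, η * x * η⁻¹ ∈ X)
    (hηT : ∀ y ∈ T, η * y * η⁻¹ ∈ T) (hηl : η ^ l = 1)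
    (hTc : ∀ a ∈ T, ∀ b ∈ T, a * b = b * a) (hTr : (Nat.card T).Coprime r)
    (hfpf : ∀ y ∈ T, η * y = y * η → y = 1)
    (hfix : ∀ x ∈ X, (∀ y ∈ T, y * x = x * y) → x = 1) :
    Nat.card X = Nat.card ↥(X ⊓ centralizer {η}) ^ l := by
  classical
  have : Fact r.Prime := ⟨hr⟩
  set P : Subgroup Δ := T ⊔ zpowers η with hP
  have hηN : η ∈ normalizer (X : Set Δ) := mem_normalizer_of_conj_mem hηX
  have hPN : P ≤ normalizer (X : Set Δ) := by
    rw [hP]
    apply sup_le hTX
    rw [zpowers_le]
    exact hηN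
  have hTP : T ≤ P := le_sup_left
  have hηP : η ∈ P := (le_sup_right : zpowers η ≤ P) (mem_zpowers η)
  let ψ : ↥P →* MulAut ↥X := X.normalizerMonoidHom.comp (Subgroup.inclusion hPN)
  have hψ : ∀ (g : ↥P) (x : ↥X), ((ψ g x : ↥X) : Δ) = g * x * (g : Δ)⁻¹ := by
    intro g x
    rfl
  obtain ⟨W, iA, iM, iF, ρ₀, e, he, he1⟩ := exists_rep_of_aut (T := ↥P) (r := r) (E := ↥X)
    (fun a b => Subtype.ext (hXc a a.2 b b.2))
    (fun a => Subtype.ext (by simpa using hXr a a.2)) ψ
  let K' := AlgebraicClosure (ZMod r)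
  let ρ' : Representation K' ↥P (K' ⊗[ZMod r] W) := bcRep K' ρ₀
  set η' : ↥P := ⟨η, hηP⟩ with hη'
  -- cardinalities
  have hcop_lr : l.Coprime r := (Nat.coprime_primes hl hr).mpr (Ne.symm hrl)
  have hcardP : (Nat.card ↥P).Coprime r := by
    have h1 := Cfsg.Agent.Lib.Helper4.card_sup_mul_card_inf (zpowers η) T (by
      rw [zpowers_le]
      exact mem_normalizer_of_conj_mem hηT)
    rw [sup_comm, ← hP] at h1
    have h2 : Nat.card ↥P ∣ Nat.card ↥(zpowers η) * Nat.card ↥T := Dvd.intro _ h1
    apply Nat.Coprime.coprime_dvd_left h2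
    apply Nat.Coprime.mul_left _ hTr
    rw [Nat.card_zpowers]
    exact Nat.Coprime.coprime_dvd_left (orderOf_dvd_of_pow_eq_one hηl) hcop_lr
  have hTK' : (Nat.card ↥(T.subgroupOf P) : K') ≠ 0 := by
    apply natCast_algClosure_ne_zero
    rw [Nat.card_congr (Subgroup.subgroupOfEquivOfLe hTP).toEquiv]
    exact hTr
  have hLF : LFH ρ' (T.subgroupOf P) η' l :=
    { hl := hl
      hlK := natCast_algClosure_ne_zero hcop_lr
      hΓK := natCast_algClosure_ne_zero hcardP
      hηl := Subtype.ext (by simpa using hηl)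
      hηT := by
        intro y hy
        rw [mem_subgroupOf] at hy ⊢
        simpa using hηT _ hy
      hTc := by
        intro a ha b hb
        rw [mem_subgroupOf] at ha hb
        exact Subtype.ext (hTc _ ha _ hb)
      hgen := by
        intro g
        obtain ⟨s, hs, j, hg⟩ := sup_zpowers_gen T η hl.pos hηl hηT g.1 g.2
        refine ⟨⟨s, hTP hs⟩, mem_subgroupOf.mpr hs, j, Subtype.ext ?_⟩
        simpa using hg
      htw := by
        intro y hy
        rw [mem_subgroupOf] at hy
        obtain ⟨σ, hσ, hσy⟩ := exists_twist hηT hfpf hy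
        refine ⟨⟨σ, hTP hσ⟩, mem_subgroupOf.mpr hσ, Subtype.ext ?_⟩
        simpa using hσy
      hfix := by
        apply bcRep_fix_subgroup K' ρ₀ (T.subgroupOf P) hTK'
        intro w hw
        obtain ⟨x, rfl⟩ := e.surjective w
        have hx1 : (x : Δ) = 1 := by
          apply hfix _ x.2
          intro y hy
          have h2 := hw ⟨y, hTP hy⟩ (mem_subgroupOf.mpr hy)
          rw [he] at h2
          have h3 := congrArg Subtype.val (e.injective h2)
          rw [hψ] at h3
          calc y * (x : Δ) = (y * x * y⁻¹) * y := by group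
            _ = x * y := by rw [h3]
        have : x = 1 := Subtype.ext hx1
        rw [this, he1] }
  have hfree := hLF.free
  have h1 : ρ' η' - 1 = (ρ₀ η' - 1).baseChange K' := by
    rw [LinearMap.baseChange_sub, LinearMap.baseChange_one]
    rfl
  rw [h1, finrank_ker_baseChange, Module.finrank_baseChange] at hfree
  -- counting
  have hcW : Nat.card W = r ^ finrank (ZMod r) W := by
    rw [Module.natCard_eq_pow_finrank (K := ZMod r), Nat.card_zmod]
  have hcF : Nat.card ↥(LinearMap.ker (ρ₀ η' - 1)) =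
      r ^ finrank (ZMod r) ↥(LinearMap.ker (ρ₀ η' - 1)) := by
    rw [Module.natCard_eq_pow_finrank (K := ZMod r), Nat.card_zmod]
  have hcX : Nat.card ↥X = Nat.card W := Nat.card_congr e
  have hcC : Nat.card ↥(X ⊓ centralizer {η}) = Nat.card ↥(LinearMap.ker (ρ₀ η' - 1)) := by
    rw [← Nat.card_congr (Subgroup.subgroupOfEquivOfLe (inf_le_left : X ⊓ centralizer {η} ≤ X)).toEquiv]
    apply Nat.card_congr
    apply Equiv.subtypeEquiv e
    intro x
    rw [mem_subgroupOf, Subgroup.mem_inf, mem_centralizer_singleton_iff, LinearMap.mem_ker,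
      LinearMap.sub_apply, Module.End.one_apply, sub_eq_zero, he]
    constructor
    · rintro ⟨_, h2⟩
      congr 1
      apply Subtype.ext
      rw [hψ]
      show η * (x : Δ) * η⁻¹ = x
      rw [← h2, mul_inv_cancel_right]
    · intro h2
      refine ⟨x.2, ?_⟩
      have h3 := congrArg Subtype.val (e.injective h2)
      rw [hψ] at h3
      have h4 : η * (x : Δ) * η⁻¹ = x := h3
      calc (x : Δ) * η = (η * x * η⁻¹) * η := by rw [h4]
        _ = η * x := by group
  rw [hcX, hcC, hcW, hcF, ← pow_mul, mul_comm, hfree]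

end Cfsg.Agent.Lib.Helper23.PQ
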