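import Mathlib
import Cfsg.Agent.Lib.Helper23.PQ10b

/-!
# helper23: freeness for the inner automorphism group of a class two group
-/

set_option autoImplicit false
set_option linter.unusedSectionVars false
set_option linter.style.haveILetI false

namespace Cfsg.Agent.Lib.Helper23.PQ

open Module Subgroup
open Cfsg.Agent.Lib.Helper23.S3 (mem_normalizer_of_conj_mem conj_inv_mem_of_finite lift_of_pow)
open Cfsg.Agent.Lib.Helper23.PQ.MinCE (Zc mem_Zc Zc_le conj_mem_Zc Zc_comm)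
open scoped commutatorElement

universe u

/-- the order of a finite group is the product of the orders of the range and the kernel of a
homomorphism -/
theorem card_eq_range_mul_ker {G H : Type*} [Group G] [Group H] [Finite G] (f : G →* H) :
    Nat.card G = Nat.card f.range * Nat.card f.ker := by
  rw [Subgroup.card_eq_card_quotient_mul_card_subgroup f.ker,
    Nat.card_congr (QuotientGroup.quotientKerEquivRange f).toEquiv]

/-- **freeness for `E / Z(E)`** -/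
theorem frobFreeInn {Δ : Type u} [Group Δ] [Finite Δ] {E T : Subgroup Δ} {η : Δ} {r l : ℕ}
    (hr : r.Prime) (hl : l.Prime) (hrl : r ≠ l)
    (hcl : ∀ a ∈ E, ∀ b ∈ E, ⁅a, b⁆ ∈ Zc E) (hpow : ∀ a ∈ E, a ^ r ∈ Zc E)
    (hTE : T ≤ normalizer (E : Set Δ)) (hηE : ∀ x ∈ E, η * x * η⁻¹ ∈ E)
    (hηT : ∀ y ∈ T, η * y * η⁻¹ ∈ T) (hηl : η ^ l = 1)
    (hTr : (Nat.card T).Coprime r) (hEl : (Nat.card E).Coprime l)
    (hc1 : ∀ y₁ ∈ T, ∀ y₂ ∈ T, ∀ x ∈ E, ⁅y₁, y₂⁆ * x = x * ⁅y₁, y₂⁆)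
    (hc2 : ∀ y ∈ T, (∀ x ∈ E, ⁅η, y⁆ * x = x * ⁅η, y⁆) → ∀ x ∈ E, y * x = x * y)
    (hfix : ∀ a ∈ E, (∀ y ∈ T, ⁅a, y⁆ ∈ Zc E) → a ∈ Zc E) :
    Nat.card E * Nat.card ↥(E ⊓ centralizer {η} ⊓ Zc E) ^ l =
      Nat.card ↥(Zc E) * Nat.card ↥(E ⊓ centralizer {η}) ^ l := by
  classical
  set N : Subgroup Δ := normalizer (E : Set Δ) with hN
  have hηN : η ∈ N := mem_normalizer_of_conj_mem hηE
  let α : ↥N →* MulAut ↥E := E.normalizerMonoidHom
  have hα : ∀ (g : ↥N) (a : ↥E), ((α g a : ↥E) : Δ) = g * a * (g : Δ)⁻¹ := fun g a => rfl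
  let ι : ↥E →* MulAut ↥E := MulAut.conj
  have hι : ∀ a b : ↥E, ι a b = a * b * a⁻¹ := fun a b => rfl
  have hα1 : ∀ g : ↥N, α g = 1 ↔ ∀ x ∈ E, (g : Δ) * x = x * g := by
    intro g
    constructor
    · intro h1 x hx
      have h2 := congrArg Subtype.val (DFunLike.congr_fun h1 (⟨x, hx⟩ : ↥E))
      rw [hα] at h2
      have h3 : (g : Δ) * x * (g : Δ)⁻¹ = x := h2
      calc (g : Δ) * x = ((g : Δ) * x * (g : Δ)⁻¹) * g := by group
        _ = x * g := by rw [h3]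
    · intro h1
      ext a
      rw [hα, MulAut.one_apply, h1 _ a.2, mul_inv_cancel_right]
  have hι1 : ∀ c : ↥E, ι c = 1 ↔ (c : Δ) ∈ Zc E := by
    intro c
    rw [mem_Zc]
    constructor
    · intro h1
      refine ⟨c.2, ?_⟩
      intro x hx
      have h2 := congrArg Subtype.val (DFunLike.congr_fun h1 (⟨x, hx⟩ : ↥E))
      rw [hι] at h2
      have h3 : (c : Δ) * x * (c : Δ)⁻¹ = x := by simpa using h2
      calc x * (c : Δ) = ((c : Δ) * x * (c : Δ)⁻¹) * c := by rw [h3]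
        _ = c * x := by group
    · rintro ⟨_, h1⟩
      ext a
      rw [hι, MulAut.one_apply]
      have h2 := h1 a a.2
      simp only [Subgroup.coe_mul, Subgroup.coe_inv]
      rw [← h2, mul_inv_cancel_right]
  have hconj : ∀ (φ : MulAut ↥E) (a : ↥E), φ * ι a * φ⁻¹ = ι (φ a) := by
    intro φ a
    ext x
    simp [ι]
  set X : Subgroup (MulAut ↥E) := ι.range with hX
  set T' : Subgroup (MulAut ↥E) := (T.subgroupOf N).map α with hT'
  set η' : MulAut ↥E := α ⟨η, hηN⟩ with hη'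
  have hT'mem : ∀ φ, φ ∈ T' ↔ ∃ y, ∃ hy : y ∈ T, α ⟨y, hTE hy⟩ = φ := by
    intro φ
    constructor
    · rintro ⟨g, hg, rfl⟩
      exact ⟨g, mem_subgroupOf.mp hg, rfl⟩
    · rintro ⟨y, hy, rfl⟩
      exact ⟨⟨y, hTE hy⟩, mem_subgroupOf.mpr hy, rfl⟩
  have hXmem : ∀ φ, φ ∈ X ↔ ∃ a : ↥E, ι a = φ := fun φ => MonoidHom.mem_range
  have hfree := frobFree (Δ := MulAut ↥E) (X := X) (T := T') (η := η') hr hl hrl
    (by
      rintro _ ⟨a, rfl⟩ _ ⟨b, rfl⟩
      rw [← map_mul, ← map_mul]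
      have e : a * b = ⁅a, b⁆ * (b * a) := by
        rw [commutatorElement_def]; group
      rw [e, map_mul]
      have h1 : ι ⁅a, b⁆ = 1 := by
        rw [hι1]
        exact hcl a a.2 b b.2
      rw [h1, one_mul])
    (by
      rintro _ ⟨a, rfl⟩
      rw [← map_pow, hι1]
      exact hpow a a.2)
    (by
      intro φ hφ
      apply mem_normalizer_of_conj_mem
      rintro _ ⟨a, rfl⟩
      rw [hconj]
      exact ⟨_, rfl⟩)
    (by
      rintro _ ⟨a, rfl⟩
      rw [hconj]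
      exact ⟨_, rfl⟩)
    (by
      intro φ hφ
      obtain ⟨y, hy, rfl⟩ := (hT'mem φ).mp hφ
      rw [hT'mem]
      refine ⟨η * y * η⁻¹, hηT y hy, ?_⟩
      rw [hη', ← map_inv, ← map_mul, ← map_mul]
      rfl)
    (by
      rw [hη', ← map_pow]
      have : (⟨η, hηN⟩ : ↥N) ^ l = 1 := Subtype.ext (by simpa using hηl)
      rw [this, map_one])
    (by
      intro φ₁ h₁ φ₂ h₂
      obtain ⟨y₁, hy₁, rfl⟩ := (hT'mem φ₁).mp h₁
      obtain ⟨y₂, hy₂, rfl⟩ := (hT'mem φ₂).mp h₂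
      have h1 : α ⁅(⟨y₁, hTE hy₁⟩ : ↥N), ⟨y₂, hTE hy₂⟩⁆ = 1 := by
        rw [hα1]
        intro x hx
        exact hc1 y₁ hy₁ y₂ hy₂ x hx
      rw [map_commutatorElement] at h1
      exact commutatorElement_eq_one_iff_mul_comm.mp h1)
    (by
      have h1 : Nat.card ↥T' ∣ Nat.card ↥(T.subgroupOf N) := Subgroup.card_map_dvd _ _
      rw [Nat.card_congr (Subgroup.subgroupOfEquivOfLe hTE).toEquiv] at h1
      exact Nat.Coprime.coprime_dvd_left h1 hTr)
    (by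
      intro φ hφ hc
      obtain ⟨y, hy, rfl⟩ := (hT'mem φ).mp hφ
      have h1 : α ⁅(⟨η, hηN⟩ : ↥N), ⟨y, hTE hy⟩⁆ = 1 := by
        rw [map_commutatorElement]
        exact commutatorElement_eq_one_iff_mul_comm.mpr hc
      rw [hα1] at h1
      rw [hα1]
      exact hc2 y hy h1)
    (by
      rintro _ ⟨a, rfl⟩ hc
      rw [hι1]
      have h1 : (a : Δ)⁻¹ ∈ Zc E := by
        apply hfix _ (E.inv_mem a.2)
        intro y hy
        have h2 := hc _ ((hT'mem _).mpr ⟨y, hy, rfl⟩)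
        have h3 : α ⟨y, hTE hy⟩ * ι a * (α ⟨y, hTE hy⟩)⁻¹ = ι a := by
          rw [h2, mul_inv_cancel_right]
        rw [hconj] at h3
        have h4 : ι (a⁻¹ * α ⟨y, hTE hy⟩ a) = 1 := by
          rw [map_mul, h3, ← map_mul, inv_mul_cancel, map_one]
        rw [hι1] at h4
        have e : ⁅(a : Δ)⁻¹, y⁆ = ((a⁻¹ * α ⟨y, hTE hy⟩ a : ↥E) : Δ) := by
          rw [Subgroup.coe_mul, hα, commutatorElement_def]
          simp only [Subgroup.coe_inv, inv_inv]
          group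
        rw [e]
        exact h4
      have := (Zc E).inv_mem h1
      rwa [inv_inv] at this)
  -- counting
  set D : Subgroup Δ := E ⊓ centralizer {η} with hD
  have hDmem : ∀ d, d ∈ D ↔ d ∈ E ∧ η * d = d * η := by
    intro d
    rw [hD, Subgroup.mem_inf, mem_centralizer_singleton_iff]
    constructor
    · rintro ⟨h1, h2⟩; exact ⟨h1, h2.symm⟩
    · rintro ⟨h1, h2⟩; exact ⟨h1, h2.symm⟩
  have hcardE : Nat.card ↥E = Nat.card ↥X * Nat.card ↥(Zc E) := by
    rw [card_eq_range_mul_ker ι]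
    congr 1
    have h1 : ι.ker = (Zc E).subgroupOf E := by
      ext c
      rw [MonoidHom.mem_ker, hι1, mem_subgroupOf]
    rw [h1, Nat.card_congr (Subgroup.subgroupOfEquivOfLe (Zc_le E)).toEquiv]
  let ιD : ↥D →* MulAut ↥E := ι.comp (Subgroup.inclusion (inf_le_left : D ≤ E))
  have hιD : ∀ d : ↥D, ιD d = ι ⟨d, ((hDmem d).mp d.2).1⟩ := fun d => rfl
  have hη'a : ∀ a : ↥E, ((η' a : ↥E) : Δ) = η * a * η⁻¹ := fun a => rfl
  have hιDrange : ιD.range = X ⊓ centralizer {η'} := by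
    ext φ
    rw [Subgroup.mem_inf, mem_centralizer_singleton_iff, MonoidHom.mem_range]
    constructor
    · rintro ⟨d, rfl⟩
      refine ⟨⟨_, rfl⟩, ?_⟩
      rw [hιD]
      have h1 := hconj η' ⟨d, ((hDmem d).mp d.2).1⟩
      have h2 : η' ⟨d, ((hDmem d).mp d.2).1⟩ = ⟨d, ((hDmem d).mp d.2).1⟩ := by
        apply Subtype.ext
        rw [hη'a]
        show η * (d : Δ) * η⁻¹ = d
        rw [((hDmem d).mp d.2).2, mul_inv_cancel_right]
      rw [h2] at h1
      calc ι ⟨d, _⟩ * η' = (η' * ι ⟨d, ((hDmem d).mp d.2).1⟩ * η'⁻¹) * η' := by rw [h1]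
        _ = η' * ι ⟨d, _⟩ := by group
    · rintro ⟨⟨a, rfl⟩, h2⟩
      have h3 : η' * ι a * η'⁻¹ = ι a := by
        rw [← h2, mul_inv_cancel_right]
      rw [hconj] at h3
      have h4 : ι (a⁻¹ * η' a) = 1 := by
        rw [map_mul, h3, ← map_mul, inv_mul_cancel, map_one]
      rw [hι1] at h4
      have h5 : (a : Δ)⁻¹ * (η * a * η⁻¹) ∈ Zc E := by
        have e : ((a⁻¹ * η' a : ↥E) : Δ) = (a : Δ)⁻¹ * (η * a * η⁻¹) := by
          rw [Subgroup.coe_mul, hη'a, Subgroup.coe_inv]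
        rw [← e]
        exact h4
      have hcopZ : (Nat.card ↥(Zc E)).Coprime l :=
        Nat.Coprime.coprime_dvd_left (Subgroup.card_dvd_of_le (Zc_le E)) hEl
      obtain ⟨n, hn, hc⟩ := lift_of_pow hηl (conj_mem_Zc hηE) hcopZ h5
      have hanE : (a : Δ) * n ∈ E := E.mul_mem a.2 (Zc_le E hn)
      have hanD : (a : Δ) * n ∈ D := (hDmem _).mpr ⟨hanE, hc⟩
      refine ⟨⟨(a : Δ) * n, hanD⟩, ?_⟩
      rw [hιD]
      have e : (⟨(a : Δ) * n, hanE⟩ : ↥E) = a * ⟨n, Zc_le E hn⟩ := rfl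
      rw [e, map_mul]
      have h6 : ι ⟨n, Zc_le E hn⟩ = 1 := by
        rw [hι1]
        exact hn
      rw [h6, mul_one]
  have hιDker : ιD.ker = (D ⊓ Zc E).subgroupOf D := by
    ext d
    rw [MonoidHom.mem_ker, hιD, hι1, mem_subgroupOf]
    show (d : Δ) ∈ Zc E ↔ (d : Δ) ∈ D ⊓ Zc E
    constructor
    · intro h1
      exact ⟨d.2, h1⟩
    · intro h1
      exact h1.2
  have hcardD : Nat.card ↥D = Nat.card ↥(X ⊓ centralizer {η'}) * Nat.card ↥(D ⊓ Zc E) := by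
    rw [card_eq_range_mul_ker ιD, hιDrange, hιDker,
      Nat.card_congr (Subgroup.subgroupOfEquivOfLe (inf_le_left : D ⊓ Zc E ≤ D)).toEquiv]
  rw [hcardE, hcardD, hfree, mul_pow]
  ring

end Cfsg.Agent.Lib.Helper23.PQ
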