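import Mathlib
import Cfsg.Agent.Lib.Helper23.PQ10c
import Cfsg.Agent.Lib.Helper17.ESMod9
import Cfsg.Agent.Lib.Helper17.CoprimeGen

/-!
# helper23: the exceptional case of the Hall–Higman argument (`t = 2`, `l` a Fermat prime), part 1
-/

set_option autoImplicit false
set_option linter.unusedSectionVars false
set_option linter.style.haveILetI false

namespace Cfsg.Agent.Lib.Helper23.PQ

open Module Subgroup
open Cfsg.Agent.Lib.Helper23.S3 (rho_mul_apply mem_normalizer_of_conj_mem conj_inv_mem_of_finite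
  lift_of_pow)
open Cfsg.Agent.Lib.Helper23.PQ.MinCE (Zc mem_Zc Zc_le conj_mem_Zc Zc_comm)
open scoped commutatorElement

universe u

variable {k : Type*} [Field k] {Δ : Type u} [Group Δ] {M : Type*} [AddCommGroup M] [Module k M]

/-- the exceptional configuration: a faithful representation of a group containing a nonabelian
`2`-group `E` whose commutators act as `± 1`, with `z` the commutator acting as `-1` -/
structure EXH (ρ : Representation k Δ M) (E T : Subgroup Δ) (η z : Δ) (s l m : ℕ) : Prop where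
  hfaith : ∀ g : Δ, ρ g = 1 → g = 1
  hl : l.Prime
  hlm : l = 2 ^ m + 1
  hm : 1 ≤ m
  h2k : (2 : k) ≠ 0
  hlk : (l : k) ≠ 0
  hE : IsPGroup 2 E
  hs : s.Prime
  hs2 : s ≠ 2
  hsl : s ≠ l
  hT : IsPGroup s T
  hTE : T ≤ normalizer (E : Set Δ)
  hηE : ∀ x ∈ E, η * x * η⁻¹ ∈ E
  hηT : ∀ y ∈ T, η * y * η⁻¹ ∈ T
  hηl : η ^ l = 1
  ha : ∀ y ∈ T, ∀ v : M, ρ (y⁻¹ * η * y) v = v → v = 0
  hb : ∀ a ∈ E, ∀ b ∈ E, ρ ⁅a, b⁆ = 1 ∨ ρ ⁅a, b⁆ = -1
  hc1 : ∀ y₁ ∈ T, ∀ y₂ ∈ T, ∀ x ∈ E, ⁅y₁, y₂⁆ * x = x * ⁅y₁, y₂⁆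
  hc2 : ∀ y ∈ T, (∀ x ∈ E, ⁅η, y⁆ * x = x * ⁅η, y⁆) → ∀ x ∈ E, y * x = x * y
  hd : ⁅E, T⁆ = E
  hz : ∃ a ∈ E, ∃ b ∈ E, ⁅a, b⁆ = z
  hz1 : z ≠ 1

variable {ρ : Representation k Δ M} {E T : Subgroup Δ} {η z : Δ} {s l m : ℕ}

namespace EXH

theorem inj (X : EXH ρ E T η z s l m) {a b : Δ} (h : ρ a = ρ b) : a = b := by
  have h1 : ρ (a * b⁻¹) = 1 := by
    rw [map_mul, h, ← map_mul, mul_inv_cancel, map_one]
  exact mul_inv_eq_one.mp (X.hfaith _ h1)

theorem rho_z (X : EXH ρ E T η z s l m) : ρ z = -1 := by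
  obtain ⟨a, ha, b, hb, hab⟩ := X.hz
  rcases X.hb a ha b hb with h | h
  · rw [hab] at h
    exact absurd (X.hfaith z h) X.hz1
  · rw [hab] at h
    exact h

theorem z_mem (X : EXH ρ E T η z s l m) : z ∈ E := by
  obtain ⟨a, ha, b, hb, hab⟩ := X.hz
  rw [← hab, commutatorElement_def]
  exact E.mul_mem (E.mul_mem (E.mul_mem ha hb) (E.inv_mem ha)) (E.inv_mem hb)

theorem z_sq (X : EXH ρ E T η z s l m) : z * z = 1 := by
  apply X.hfaith
  rw [map_mul, X.rho_z]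
  simp

theorem z_central (X : EXH ρ E T η z s l m) (g : Δ) : g * z = z * g := by
  apply X.inj
  rw [map_mul, map_mul, X.rho_z]
  simp

theorem comm_cases (X : EXH ρ E T η z s l m) {a b : Δ} (ha : a ∈ E) (hb : b ∈ E) :
    ⁅a, b⁆ = 1 ∨ ⁅a, b⁆ = z := by
  rcases X.hb a ha b hb with h | h
  · left
    exact X.hfaith _ h
  · right
    apply X.inj
    rw [h, X.rho_z]

theorem z_mem_center (X : EXH ρ E T η z s l m) : z ∈ Subgroup.center Δ := by
  rw [Subgroup.mem_center_iff]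
  intro g
  exact X.z_central g

variable [Finite Δ]

theorem z_mem_Zc (X : EXH ρ E T η z s l m) : z ∈ Zc E := by
  rw [mem_Zc]
  exact ⟨X.z_mem, fun x _ => X.z_central x⟩

theorem class2 (X : EXH ρ E T η z s l m) : ∀ a ∈ E, ∀ b ∈ E, ⁅a, b⁆ ∈ Zc E := by
  intro a ha b hb
  rcases X.comm_cases ha hb with h | h
  · rw [h]; exact (Zc E).one_mem
  · rw [h]; exact X.z_mem_Zc

theorem comm_mem_center (X : EXH ρ E T η z s l m) {a b : Δ} (ha : a ∈ E) (hb : b ∈ E) :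
    ⁅a, b⁆ ∈ Subgroup.center Δ := by
  rcases X.comm_cases ha hb with h | h
  · rw [h]; exact Subgroup.one_mem _
  · rw [h]; exact X.z_mem_center

theorem sq_mem_Zc (X : EXH ρ E T η z s l m) : ∀ a ∈ E, a ^ 2 ∈ Zc E := by
  intro a ha
  rw [mem_Zc]
  refine ⟨E.pow_mem ha 2, ?_⟩
  intro x hx
  have h1 := Cfsg.Agent.Lib.Helper23.commutatorElement_pow_left_of_central a x
    (X.comm_mem_center ha hx) 2
  have h2 : ⁅a, x⁆ ^ 2 = 1 := by
    rcases X.comm_cases ha hx with h | h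
    · rw [h, one_pow]
    · rw [h, pow_two, X.z_sq]
  rw [h2] at h1
  exact (commutatorElement_eq_one_iff_mul_comm.mp h1).symm

theorem l_odd (X : EXH ρ E T η z s l m) : ¬ 2 ∣ l := by
  rw [X.hlm]
  obtain ⟨m', hm'⟩ := Nat.exists_eq_add_of_le X.hm
  rw [hm', pow_add, pow_one]
  omega

theorem cop_El (X : EXH ρ E T η z s l m) : (Nat.card E).Coprime l := by
  have : Fact (Nat.Prime 2) := ⟨Nat.prime_two⟩
  obtain ⟨j, hj⟩ := IsPGroup.iff_card.mp X.hE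
  rw [hj]
  apply Nat.Coprime.pow_left
  rw [Nat.coprime_primes Nat.prime_two X.hl]
  intro h2
  apply X.l_odd
  rw [← h2]

theorem cop_ET (X : EXH ρ E T η z s l m) : (Nat.card T).Coprime (Nat.card E) := by
  have : Fact (Nat.Prime 2) := ⟨Nat.prime_two⟩
  have : Fact s.Prime := ⟨X.hs⟩
  obtain ⟨j, hj⟩ := IsPGroup.iff_card.mp X.hE
  obtain ⟨i, hi⟩ := IsPGroup.iff_card.mp X.hT
  rw [hj, hi]
  apply Nat.Coprime.pow
  exact (Nat.coprime_primes X.hs Nat.prime_two).mpr X.hs2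

theorem eta_fix (X : EXH ρ E T η z s l m) : ∀ v : M, ρ η v = v → v = 0 := by
  intro v hv
  apply X.ha 1 T.one_mem v
  simpa using hv

variable [FiniteDimensional k M]

/-- an `η`-invariant abelian subgroup of `E` is centralised by `η` -/
theorem eta_cent_of_abelian (X : EXH ρ E T η z s l m) {B : Subgroup Δ} (hBE : B ≤ E)
    (hηB : ∀ x ∈ B, η * x * η⁻¹ ∈ B) (hab : ∀ a ∈ B, ∀ b ∈ B, a * b = b * a) :
    ∀ c ∈ B, η * c = c * η := by
  have hl2 : (2 : ℕ) ≠ l := by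
    intro h
    apply X.l_odd
    rw [← h]
  have h2k' : ((2 : ℕ) : k) ≠ 0 := by exact_mod_cast X.h2k
  have h1 := Cfsg.Agent.Lib.Helper17.ESMod.comm_of_fixed_zero Nat.prime_two X.hl hl2 h2k' X.hlk ρ B η
    (X.hE.to_le hBE) X.hηl hηB
    (by
      intro _ _ a ha b hb
      rw [hab a ha b hb])
    X.eta_fix
  intro c hc
  exact X.inj (h1 c hc)

theorem eta_cent_Zc (X : EXH ρ E T η z s l m) : ∀ c ∈ Zc E, η * c = c * η :=
  X.eta_cent_of_abelian (Zc_le E) (conj_mem_Zc X.hηE) (fun _ ha _ hb => Zc_comm ha hb)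

end EXH

end Cfsg.Agent.Lib.Helper23.PQ
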