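import Mathlib
import Cfsg.Agent.Lib.Helper23.PQ11a

/-!
# helper23: the exceptional case of the Hall–Higman argument, part 2: `[E, η]` and `C_E(η)`
-/

set_option autoImplicit false
set_option linter.unusedSectionVars false
set_option linter.style.haveILetI false

namespace Cfsg.Agent.Lib.Helper23.PQ

open Module Subgroup
open Cfsg.Agent.Lib.Helper23.S3 (rho_mul_apply mem_normalizer_of_conj_mem conj_inv_mem_of_finite
  lift_of_pow)
open Cfsg.Agent.Lib.Helper23.PQ.MinCE (Zc mem_Zc Zc_le conj_mem_Zc Zc_comm)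
open scoped commutatorElement

universe u

section

variable {Δ : Type u} [Group Δ]

/-- the centraliser of a cyclic subgroup -/
theorem centralizer_zpowers_eq (η : Δ) :
    centralizer ((zpowers η : Subgroup Δ) : Set Δ) = centralizer {η} := by
  ext c
  rw [mem_centralizer_iff, mem_centralizer_singleton_iff]
  constructor
  · intro h
    exact (h η (mem_zpowers η)).symm
  · intro h g hg
    obtain ⟨n, rfl⟩ := mem_zpowers_iff.mp hg
    have c1 : Commute c η := h
    exact (c1.zpow_right n).eq.symm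

theorem mem_inf_centralizer_singleton {E : Subgroup Δ} {η c : Δ} :
    c ∈ E ⊓ centralizer {η} ↔ c ∈ E ∧ η * c = c * η := by
  rw [Subgroup.mem_inf, mem_centralizer_singleton_iff]
  constructor
  · rintro ⟨h1, h2⟩; exact ⟨h1, h2.symm⟩
  · rintro ⟨h1, h2⟩; exact ⟨h1, h2.symm⟩

end

variable {k : Type*} [Field k] {Δ : Type u} [Group Δ] {M : Type*} [AddCommGroup M] [Module k M]
variable {ρ : Representation k Δ M} {E T : Subgroup Δ} {η z : Δ} {s l m : ℕ}

namespace EXH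

variable [Finite Δ]

theorem H_le_normalizer (X : EXH ρ E T η z s l m) : zpowers η ≤ normalizer (E : Set Δ) := by
  rw [zpowers_le]
  exact mem_normalizer_of_conj_mem X.hηE

theorem E1_le (X : EXH ρ E T η z s l m) : ⁅E, zpowers η⁆ ≤ E :=
  Cfsg.Agent.Lib.Helper1.commutator_le_of_le_normalizer X.H_le_normalizer

theorem eta_E1 (X : EXH ρ E T η z s l m) : ∀ x ∈ ⁅E, zpowers η⁆, η * x * η⁻¹ ∈ ⁅E, zpowers η⁆ := by
  apply conj_mem_commutator X.hηE
  intro x hx
  exact (zpowers η).mul_mem ((zpowers η).mul_mem (mem_zpowers η) hx) ((zpowers η).inv_mem (mem_zpowers η))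

theorem cop_HE (X : EXH ρ E T η z s l m) : (Nat.card (zpowers η)).Coprime (Nat.card E) := by
  rw [Nat.card_zpowers]
  exact (Nat.Coprime.coprime_dvd_right (orderOf_dvd_of_pow_eq_one X.hηl) X.cop_El).symm

/-- `[E, η]` centralises `C_E(η)` -/
theorem comm_E1_C (X : EXH ρ E T η z s l m) : ⁅⁅E, zpowers η⁆, E ⊓ centralizer {η}⁆ = ⊥ := by
  apply Subgroup.commutator_commutator_eq_bot_of_rotate
  · -- `[[H, C], E] = 1`
    have h1 : ⁅zpowers η, E ⊓ centralizer {η}⁆ = ⊥ := by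
      rw [Subgroup.commutator_comm, Subgroup.commutator_eq_bot_iff_le_centralizer,
        centralizer_zpowers_eq]
      exact inf_le_right
    rw [h1, Subgroup.commutator_bot_left]
  · -- `[[C, E], H] = 1`
    rw [Subgroup.commutator_eq_bot_iff_le_centralizer]
    refine le_trans ?_ (Subgroup.center_le_centralizer _)
    rw [Subgroup.commutator_le]
    intro c hc e he
    exact X.comm_mem_center hc.1 he

theorem comm_E1_C' (X : EXH ρ E T η z s l m) {a c : Δ} (ha : a ∈ ⁅E, zpowers η⁆)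
    (hc : c ∈ E ⊓ centralizer {η}) : a * c = c * a := by
  have h1 : ⁅a, c⁆ ∈ ⁅⁅E, zpowers η⁆, E ⊓ centralizer {η}⁆ :=
    Subgroup.commutator_mem_commutator ha hc
  rw [X.comm_E1_C, Subgroup.mem_bot] at h1
  exact commutatorElement_eq_one_iff_mul_comm.mp h1

/-- `E = C_E(η) [E, η]` -/
theorem E_le_sup (X : EXH ρ E T η z s l m) :
    E ≤ (E ⊓ centralizer {η}) ⊔ ⁅E, zpowers η⁆ := by
  have h1 := Cfsg.Agent.Lib.Helper17.le_centralizer_sup_commutator (zpowers η) E X.H_le_normalizer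
    X.cop_HE (Or.inl inferInstance)
  rw [centralizer_zpowers_eq] at h1
  exact h1

theorem sup_eq (X : EXH ρ E T η z s l m) :
    (E ⊓ centralizer {η}) ⊔ ⁅E, zpowers η⁆ = E :=
  le_antisymm (sup_le inf_le_left X.E1_le) X.E_le_sup

/-- an element commuting with `C_E(η)` and `[E, η]` is central in `E` -/
theorem mem_Zc_of_comm (X : EXH ρ E T η z s l m) {c : Δ} (hcE : c ∈ E)
    (h1 : ∀ a ∈ E ⊓ centralizer {η}, a * c = c * a) (h2 : ∀ a ∈ ⁅E, zpowers η⁆, a * c = c * a) :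
    c ∈ Zc E := by
  rw [mem_Zc]
  refine ⟨hcE, ?_⟩
  have hle : E ≤ centralizer {c} := by
    rw [← X.sup_eq]
    apply sup_le
    · intro a ha
      rw [mem_centralizer_singleton_iff]
      exact h1 a ha
    · intro a ha
      rw [mem_centralizer_singleton_iff]
      exact h2 a ha
  intro x hx
  exact mem_centralizer_singleton_iff.mp (hle hx)

variable [FiniteDimensional k M]

/-- `Z([E, η]) = C_E(η) ∩ [E, η]` -/
theorem Zc_E1 (X : EXH ρ E T η z s l m) :
    Zc ⁅E, zpowers η⁆ = (E ⊓ centralizer {η}) ⊓ ⁅E, zpowers η⁆ := by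
  ext c
  rw [mem_Zc, Subgroup.mem_inf]
  constructor
  · rintro ⟨h1, h2⟩
    refine ⟨?_, h1⟩
    have h3 : c ∈ Zc E := X.mem_Zc_of_comm (X.E1_le h1)
      (fun a ha => (X.comm_E1_C' h1 ha).symm) h2
    exact mem_inf_centralizer_singleton.mpr ⟨X.E1_le h1, X.eta_cent_Zc c h3⟩
  · rintro ⟨h1, h2⟩
    exact ⟨h2, fun x hx => X.comm_E1_C' hx h1⟩

/-- `η` acts without fixed points on `[E, η] / Z([E, η])` -/
theorem fpf_E1 (X : EXH ρ E T η z s l m) {f : Δ} (hf : f ∈ ⁅E, zpowers η⁆)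
    (h : ⁅η, f⁆ ∈ Zc ⁅E, zpowers η⁆) : f ∈ Zc ⁅E, zpowers η⁆ := by
  have h1 : f⁻¹ * (η * f * η⁻¹) ∈ Zc ⁅E, zpowers η⁆ := by
    have h2 := (mem_Zc.mp h).2 f hf
    have e : f⁻¹ * (η * f * η⁻¹) = f⁻¹ * (⁅η, f⁆ * f) := by
      rw [commutatorElement_def]; group
    rw [e, ← h2, inv_mul_cancel_left]
    exact h
  have hcop : (Nat.card ↥(Zc ⁅E, zpowers η⁆)).Coprime l :=
    Nat.Coprime.coprime_dvd_left (Subgroup.card_dvd_of_le ((Zc_le _).trans X.E1_le)) X.cop_El
  obtain ⟨n, hn, hc⟩ := lift_of_pow X.hηl (conj_mem_Zc X.eta_E1) hcop h1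
  have hfn : f * n ∈ ⁅E, zpowers η⁆ := Subgroup.mul_mem _ hf (Zc_le _ hn)
  have h3 : f * n ∈ Zc ⁅E, zpowers η⁆ := by
    rw [X.Zc_E1]
    exact ⟨mem_inf_centralizer_singleton.mpr ⟨X.E1_le hfn, hc⟩, hfn⟩
  have e : f = (f * n) * n⁻¹ := by group
  rw [e]
  exact Subgroup.mul_mem _ h3 (Subgroup.inv_mem _ hn)

/-- `[E, η]` is not abelian -/
theorem E1_nonab (X : EXH ρ E T η z s l m) :
    ¬ ∀ a ∈ ⁅E, zpowers η⁆, ∀ b ∈ ⁅E, zpowers η⁆, a * b = b * a := by
  intro hab
  have h1 := X.eta_cent_of_abelian X.E1_le X.eta_E1 hab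
  have h2 : ⁅⁅E, zpowers η⁆, zpowers η⁆ = ⊥ := by
    rw [Subgroup.commutator_eq_bot_iff_le_centralizer, centralizer_zpowers_eq]
    intro c hc
    rw [mem_centralizer_singleton_iff]
    exact (h1 c hc).symm
  have h3 := Cfsg.Agent.Lib.Helper16.BGPrim.comm_comm_eq_coprime E (zpowers η) X.H_le_normalizer
    X.cop_HE (Or.inl inferInstance)
  rw [h2] at h3
  have h4 : ∀ x ∈ E, η * x = x * η := by
    intro x hx
    have h5 : E ≤ centralizer ((zpowers η : Subgroup Δ) : Set Δ) := by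
      rw [← Subgroup.commutator_eq_bot_iff_le_centralizer]
      exact h3.symm
    rw [centralizer_zpowers_eq] at h5
    exact (mem_centralizer_singleton_iff.mp (h5 hx)).symm
  have h6 : ∀ y ∈ T, ∀ x ∈ E, y * x = x * y := by
    intro y hy
    apply X.hc2 y hy
    intro x hx
    have hyx : y⁻¹ * x * y ∈ E := by
      have := (mem_normalizer_iff.mp (Subgroup.inv_mem _ (X.hTE hy)) x).mp hx
      rwa [inv_inv] at this
    have c1 : Commute η (y⁻¹ * x * y) := h4 _ hyx
    have c2 : Commute η x := h4 x hx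
    have c3 : η⁻¹ * (y⁻¹ * x * y) = (y⁻¹ * x * y) * η⁻¹ := c1.inv_left.eq
    calc ⁅η, y⁆ * x = η * y * (η⁻¹ * (y⁻¹ * x * y)) * y⁻¹ := by
          rw [commutatorElement_def]; group
      _ = η * y * ((y⁻¹ * x * y) * η⁻¹) * y⁻¹ := by rw [c3]
      _ = (η * x) * y * η⁻¹ * y⁻¹ := by group
      _ = (x * η) * y * η⁻¹ * y⁻¹ := by rw [c2.eq]
      _ = x * ⁅η, y⁆ := by rw [commutatorElement_def]; group
  have h7 : ⁅E, T⁆ = ⊥ := by
    rw [Subgroup.commutator_eq_bot_iff_le_centralizer]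
    intro x hx
    rw [mem_centralizer_iff]
    intro y hy
    exact h6 y hy x hx
  rw [X.hd] at h7
  have := X.z_mem
  rw [h7, Subgroup.mem_bot] at this
  exact X.hz1 this

end EXH

end Cfsg.Agent.Lib.Helper23.PQ
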