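import Mathlib
import Cfsg.Agent.Lib.Helper23.PQ11b

/-!
# helper23: the exceptional case of the Hall–Higman argument, part 3: the order of `[E, η]`
-/

set_option autoImplicit false
set_option linter.unusedSectionVars false
set_option linter.style.haveILetI false

namespace Cfsg.Agent.Lib.Helper23.PQ

open Module Subgroup
open Cfsg.Agent.Lib.Helper23.S3 (rho_mul_apply mem_normalizer_of_conj_mem conj_inv_mem_of_finite
  lift_of_pow)
open Cfsg.Agent.Lib.Helper23.PQ.MinCE (Zc mem_Zc Zc_le conj_mem_Zc Zc_comm)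
open scoped commutatorElement

universe u

variable {k : Type*} [Field k] {Δ : Type u} [Group Δ] {M : Type*} [AddCommGroup M] [Module k M]
variable {ρ : Representation k Δ M} {E T : Subgroup Δ} {η z : Δ} {s l m : ℕ}

namespace EXH

variable [Finite Δ]

theorem eta_ne_one (X : EXH ρ E T η z s l m) : η ≠ 1 := by
  intro h1
  apply X.hz1
  apply X.hfaith
  apply LinearMap.ext
  intro v
  have h2 : ∀ w : M, w = 0 := by
    intro w
    apply X.eta_fix
    rw [h1, map_one, Module.End.one_apply]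
  rw [h2 v, map_zero, map_zero]

theorem eta_not_mem (X : EXH ρ E T η z s l m) : η ∉ E := by
  intro h1
  apply X.eta_ne_one
  have h2 : orderOf η ∣ Nat.card E := by
    have := orderOf_dvd_natCard (⟨η, h1⟩ : ↥E)
    rwa [Subgroup.orderOf_mk] at this
  have h3 : orderOf η ∣ l := orderOf_dvd_of_pow_eq_one X.hηl
  have h4 : orderOf η = 1 := Nat.eq_one_of_dvd_coprimes X.cop_El h2 h3
  exact orderOf_eq_one_iff.mp h4

theorem card_ne_zero_of_le (X : EXH ρ E T η z s l m) {B : Subgroup Δ} (hB : B ≤ E) :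
    (Nat.card B : k) ≠ 0 := by
  have : Fact (Nat.Prime 2) := ⟨Nat.prime_two⟩
  obtain ⟨j, hj⟩ := IsPGroup.iff_card.mp (X.hE.to_le hB)
  rw [hj, Nat.cast_pow]
  apply pow_ne_zero
  exact_mod_cast X.h2k

variable [FiniteDimensional k M]

theorem exists_E1 (X : EXH ρ E T η z s l m) :
    ∃ a ∈ ⁅E, zpowers η⁆, ∃ b ∈ ⁅E, zpowers η⁆, ⁅a, b⁆ = z := by
  by_contra hcon
  push Not at hcon
  apply X.E1_nonab
  intro a ha b hb
  rcases X.comm_cases (X.E1_le ha) (X.E1_le hb) with h | h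
  · exact commutatorElement_eq_one_iff_mul_comm.mp h
  · exact absurd h (hcon a ha b hb)

/-- the order of `[E, η]` -/
theorem card_E1 (X : EXH ρ E T η z s l m) :
    Nat.card ↥⁅E, zpowers η⁆ = (l - 1) ^ 2 * Nat.card ↥(Zc ⁅E, zpowers η⁆) := by
  classical
  set E₁ : Subgroup Δ := ⁅E, zpowers η⁆ with hE₁
  set P₁ : Subgroup Δ := E₁ ⊔ zpowers η with hP₁
  have hE₁P : E₁ ≤ P₁ := le_sup_left
  have hηP : η ∈ P₁ := (le_sup_right : zpowers η ≤ P₁) (mem_zpowers η)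
  have hnorm : (E₁.subgroupOf P₁).Normal :=
    Cfsg.Agent.Lib.Helper17.ESMod.normal_subgroupOf_sup E₁ η X.hl.pos X.hηl X.eta_E1
  let ρ' : Representation k ↥P₁ M := ρ.comp P₁.subtype
  have hρ' : ∀ g : ↥P₁, ρ' g = ρ (g : Δ) := fun g => rfl
  set x' : ↥P₁ := ⟨η, hηP⟩ with hx'
  have hcoe : ∀ g t : ↥P₁, ((⁅g, t⁆ : ↥P₁) : Δ) = ⁅(g : Δ), (t : Δ)⁆ := fun g t => rfl
  obtain ⟨a₁, ha₁, b₁, hb₁, hab₁⟩ := X.exists_E1
  have hzE₁ : z ∈ E₁ := by
    rw [← hab₁, commutatorElement_def]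
    exact E₁.mul_mem (E₁.mul_mem (E₁.mul_mem ha₁ hb₁) (E₁.inv_mem ha₁)) (E₁.inv_mem hb₁)
  set z' : ↥P₁ := ⟨z, hE₁P hzE₁⟩ with hz'
  have hcases' : ∀ s ∈ E₁.subgroupOf P₁, ∀ t ∈ E₁.subgroupOf P₁, ⁅s, t⁆ = 1 ∨ ⁅s, t⁆ = z' := by
    intro s hs t ht
    rcases X.comm_cases (X.E1_le (mem_subgroupOf.mp hs)) (X.E1_le (mem_subgroupOf.mp ht)) with h | h
    · left
      apply Subtype.ext
      rw [hcoe, h]
      rfl
    · right
      apply Subtype.ext
      rw [hcoe, h]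
  have hcommQ : ∀ s ∈ E₁.subgroupOf P₁, ∀ t ∈ E₁.subgroupOf P₁, ⁅s, t⁆ ∈ E₁.subgroupOf P₁ := by
    intro s hs t ht
    rw [commutatorElement_def]
    exact Subgroup.mul_mem _ (Subgroup.mul_mem _ (Subgroup.mul_mem _ hs ht) (Subgroup.inv_mem _ hs))
      (Subgroup.inv_mem _ ht)
  have hx'Q : ∀ f ∈ E₁.subgroupOf P₁, ⁅x', f⁆ ∈ E₁.subgroupOf P₁ := by
    intro f hf
    rw [mem_subgroupOf] at hf ⊢
    rw [hcoe, commutatorElement_def]
    exact E₁.mul_mem (X.eta_E1 _ hf) (E₁.inv_mem hf)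
  have key := Cfsg.Agent.Lib.Helper17.ESMod.core_gen' ρ' (E₁.subgroupOf P₁) x' X.hl
    (Subtype.ext (by simpa using X.hηl))
    (by
      intro h1
      exact X.eta_not_mem (X.E1_le (mem_subgroupOf.mp h1)))
    X.hlk
    (by
      rw [Nat.card_congr (Subgroup.subgroupOfEquivOfLe hE₁P).toEquiv]
      exact X.card_ne_zero_of_le X.E1_le)
    (by
      intro g
      obtain ⟨s, hs, j, hg⟩ :=
        Cfsg.Agent.Lib.Helper17.ESMod.sup_zpowers_gen E₁ η X.hl.pos X.hηl X.eta_E1 g.1 g.2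
      refine ⟨⟨s, hE₁P hs⟩, mem_subgroupOf.mpr hs, j, Subtype.ext ?_⟩
      simpa using hg)
    X.eta_fix
    (by
      intro s hs t ht u _
      apply Subtype.ext
      have h1 := X.comm_mem_center (X.E1_le (mem_subgroupOf.mp hs)) (X.E1_le (mem_subgroupOf.mp ht))
      rw [Subgroup.coe_mul, Subgroup.coe_mul, hcoe]
      exact (Subgroup.mem_center_iff.mp h1 (u : Δ)).symm)
    (by
      refine ⟨⟨a₁, hE₁P ha₁⟩, mem_subgroupOf.mpr ha₁, ⟨b₁, hE₁P hb₁⟩, mem_subgroupOf.mpr hb₁, ?_⟩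
      rw [hρ', hcoe]
      show ρ ⁅a₁, b₁⁆ ≠ 1
      rw [hab₁]
      intro h1
      exact X.hz1 (X.hfaith z h1))
    (by
      rintro N hNn hNQ ⟨s₀, hs₀, t₀, ht₀, hst₀⟩ f hf hft t ht
      have hz'N : z' ∉ N := by
        rcases hcases' s₀ hs₀ t₀ ht₀ with h | h
        · rw [h] at hst₀
          exact absurd N.one_mem hst₀
        · rw [h] at hst₀
          exact hst₀
      have hfE₁ : (f : Δ) ∈ E₁ := mem_subgroupOf.mp hf
      have h1 : ⁅η, (f : Δ)⁆ ∈ Zc E₁ := by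
        rw [mem_Zc]
        refine ⟨mem_subgroupOf.mp (hx'Q f hf), ?_⟩
        intro u hu
        have h2 := hft ⟨u, hE₁P hu⟩ (mem_subgroupOf.mpr hu)
        rcases hcases' _ (hx'Q f hf) ⟨u, hE₁P hu⟩ (mem_subgroupOf.mpr hu) with h | h
        · have h3 := congrArg Subtype.val h
          rw [hcoe, hcoe] at h3
          exact (commutatorElement_eq_one_iff_mul_comm.mp h3).symm
        · rw [h] at h2
          exact absurd h2 hz'N
      have h4 := X.fpf_E1 hfE₁ h1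
      have h5 : ⁅f, t⁆ = 1 := by
        apply Subtype.ext
        rw [hcoe]
        show ⁅(f : Δ), (t : Δ)⁆ = 1
        rw [commutatorElement_eq_one_iff_mul_comm]
        exact ((mem_Zc.mp h4).2 _ (mem_subgroupOf.mp ht)).symm
      rw [h5]
      exact N.one_mem)
  obtain ⟨N, hNn, hNQ, ⟨s₀, hs₀, t₀, ht₀, hst₀⟩, Z, hZ, hcard⟩ := key
  have hz'N : z' ∉ N := by
    rcases hcases' s₀ hs₀ t₀ ht₀ with h | h
    · rw [h] at hst₀
      exact absurd N.one_mem hst₀
    · rw [h] at hst₀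
      exact hst₀
  have hZeq : Z = (Zc E₁).subgroupOf P₁ := by
    ext g
    rw [hZ]
    constructor
    · rintro ⟨h1, h2⟩
      rw [mem_subgroupOf, mem_Zc]
      refine ⟨mem_subgroupOf.mp h1, ?_⟩
      intro t ht
      have h3 := h2 ⟨t, hE₁P ht⟩ (mem_subgroupOf.mpr ht)
      rcases hcases' g h1 ⟨t, hE₁P ht⟩ (mem_subgroupOf.mpr ht) with h | h
      · have h4 := congrArg Subtype.val h
        rw [hcoe] at h4
        exact (commutatorElement_eq_one_iff_mul_comm.mp h4).symm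
      · rw [h] at h3
        exact absurd h3 hz'N
    · intro h0
      rw [mem_subgroupOf, mem_Zc] at h0
      obtain ⟨h1, h2⟩ := h0
      refine ⟨mem_subgroupOf.mpr h1, ?_⟩
      intro t ht
      have h3 : ⁅g, t⁆ = 1 := by
        apply Subtype.ext
        rw [hcoe]
        show ⁅(g : Δ), (t : Δ)⁆ = 1
        rw [commutatorElement_eq_one_iff_mul_comm]
        exact (h2 _ (mem_subgroupOf.mp ht)).symm
      rw [h3]
      exact N.one_mem
  rw [hZeq, Nat.card_congr (Subgroup.subgroupOfEquivOfLe hE₁P).toEquiv,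
    Nat.card_congr (Subgroup.subgroupOfEquivOfLe ((Zc_le E₁).trans hE₁P)).toEquiv] at hcard
  exact hcard

end EXH

end Cfsg.Agent.Lib.Helper23.PQ
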