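import Mathlib
import Cfsg.Agent.Lib.Helper23.PQ11c
import Cfsg.Agent.Lib.Helper17.Class2Sq

/-!
# helper23: the exceptional case of the Hall–Higman argument, part 4: counting
-/

set_option autoImplicit false
set_option linter.unusedSectionVars false
set_option linter.style.haveILetI false

namespace Cfsg.Agent.Lib.Helper23.PQ

open Module Subgroup
open Cfsg.Agent.Lib.Helper23.S3 (rho_mul_apply mem_normalizer_of_conj_mem conj_inv_mem_of_finite
  lift_of_pow)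
open Cfsg.Agent.Lib.Helper23.PQ.MinCE (Zc mem_Zc Zc_le conj_mem_Zc Zc_comm)
open scoped commutatorElement

universe u

variable {k : Type*} [Field k] {Δ : Type u} [Group Δ] {M : Type*} [AddCommGroup M] [Module k M]
variable {ρ : Representation k Δ M} {E T : Subgroup Δ} {η z : Δ} {s l m : ℕ}

namespace EXH

variable [Finite Δ]

/-- `|E| = |Z(E)| 2 ^ (2 k)` -/
theorem card_E_Z (X : EXH ρ E T η z s l m) :
    ∃ k' : ℕ, Nat.card E = Nat.card ↥(Zc E) * 2 ^ (2 * k') := by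
  set z' : ↥E := ⟨z, X.z_mem⟩ with hz'
  have hz'1 : z' ≠ 1 := fun h => X.hz1 (congrArg Subtype.val h)
  have hz'2 : z' ^ 2 = 1 := by
    apply Subtype.ext
    rw [Subgroup.coe_pow, pow_two]
    exact X.z_sq
  have hord : orderOf z' = 2 := by
    have : Fact (Nat.Prime 2) := ⟨Nat.prime_two⟩
    exact orderOf_eq_prime hz'2 hz'1
  obtain ⟨k', hk'⟩ := Cfsg.Agent.Lib.Helper17.Class2Sq.card_eq_center_mul (P := ↥E) Nat.prime_two
    (zpowers z')
    (by
      rw [zpowers_le, Subgroup.mem_center_iff]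
      intro g
      apply Subtype.ext
      exact X.z_central g)
    (by rw [Nat.card_zpowers, hord])
    (by
      intro x y
      rcases X.comm_cases x.2 y.2 with h | h
      · have : ⁅x, y⁆ = 1 := Subtype.ext h
        rw [this]
        exact Subgroup.one_mem _
      · have : ⁅x, y⁆ = z' := Subtype.ext h
        rw [this]
        exact mem_zpowers z')
  refine ⟨k', ?_⟩
  rw [hk']
  congr 1
  have h1 : Subgroup.center ↥E = (Zc E).subgroupOf E := by
    ext c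
    rw [Subgroup.mem_center_iff, mem_subgroupOf, mem_Zc]
    constructor
    · intro h
      refine ⟨c.2, ?_⟩
      intro x hx
      exact congrArg Subtype.val (h ⟨x, hx⟩)
    · rintro ⟨_, h⟩ g
      exact Subtype.ext (h g g.2)
  rw [h1, Nat.card_congr (Subgroup.subgroupOfEquivOfLe (Zc_le E)).toEquiv]

variable [FiniteDimensional k M]

/-- `|E| = |C_E(η)| (l - 1) ^ 2` -/
theorem card_E_C (X : EXH ρ E T η z s l m) :
    Nat.card E = Nat.card ↥(E ⊓ centralizer {η}) * (l - 1) ^ 2 := by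
  have hCN : E ⊓ centralizer {η} ≤ normalizer ((⁅E, zpowers η⁆ : Subgroup Δ) : Set Δ) := by
    intro c hc
    apply mem_normalizer_of_conj_mem
    intro x hx
    have h1 := X.comm_E1_C' hx hc
    have e : c * x * c⁻¹ = x := by
      rw [← h1, mul_inv_cancel_right]
    rw [e]
    exact hx
  have h1 := Cfsg.Agent.Lib.Helper4.card_sup_mul_card_inf (E ⊓ centralizer {η}) ⁅E, zpowers η⁆ hCN
  rw [X.sup_eq, ← X.Zc_E1, X.card_E1] at h1
  have hpos : 0 < Nat.card ↥(Zc ⁅E, zpowers η⁆) := Nat.card_pos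
  have h2 : Nat.card ↥E * Nat.card ↥(Zc ⁅E, zpowers η⁆) =
      (Nat.card ↥(E ⊓ centralizer {η}) * (l - 1) ^ 2) * Nat.card ↥(Zc ⁅E, zpowers η⁆) := by
    rw [h1]; ring
  exact Nat.eq_of_mul_eq_mul_right hpos h2

/-- no fixed points of `T` on `E / Z(E)` -/
theorem fix_T (X : EXH ρ E T η z s l m) :
    ∀ a ∈ E, (∀ y ∈ T, ⁅a, y⁆ ∈ Zc E) → a ∈ Zc E := by
  let B : Subgroup Δ :=
    { carrier := {a | a ∈ E ∧ ∀ y ∈ T, ⁅a, y⁆ ∈ Zc E}
      mul_mem' := by
        rintro a b ⟨ha, ha'⟩ ⟨hb, hb'⟩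
        refine ⟨E.mul_mem ha hb, ?_⟩
        intro y hy
        have e : ⁅a * b, y⁆ = a * ⁅b, y⁆ * a⁻¹ * ⁅a, y⁆ := by
          simp only [commutatorElement_def]; group
        rw [e]
        have h1 := (mem_Zc.mp (hb' y hy)).2 a ha
        have e2 : a * ⁅b, y⁆ * a⁻¹ = ⁅b, y⁆ := by
          rw [h1, mul_inv_cancel_right]
        rw [e2]
        exact (Zc E).mul_mem (hb' y hy) (ha' y hy)
      one_mem' := by
        refine ⟨E.one_mem, ?_⟩
        intro y _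
        rw [commutatorElement_one_left]
        exact (Zc E).one_mem
      inv_mem' := by
        rintro a ⟨ha, ha'⟩
        refine ⟨E.inv_mem ha, ?_⟩
        intro y hy
        have e : ⁅a⁻¹, y⁆ = a⁻¹ * ⁅a, y⁆⁻¹ * a := by
          simp only [commutatorElement_def]; group
        rw [e]
        have h1 := (mem_Zc.mp ((Zc E).inv_mem (ha' y hy))).2 a ha
        have e2 : a⁻¹ * ⁅a, y⁆⁻¹ * a = ⁅a, y⁆⁻¹ := by
          rw [mul_assoc, ← h1, inv_mul_cancel_left]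
        rw [e2]
        exact (Zc E).inv_mem (ha' y hy) }
  have hBmem : ∀ a, a ∈ B ↔ a ∈ E ∧ ∀ y ∈ T, ⁅a, y⁆ ∈ Zc E := fun a => Iff.rfl
  have hBE : B ≤ E := fun a ha => ha.1
  have h1 : ⁅⁅E, B⁆, T⁆ = ⊥ := by
    rw [Subgroup.commutator_eq_bot_iff_le_centralizer]
    refine le_trans ?_ (Subgroup.center_le_centralizer _)
    rw [Subgroup.commutator_le]
    intro a ha b hb
    exact X.comm_mem_center ha (hBE hb)
  have h2 : ⁅⁅B, T⁆, E⁆ = ⊥ := by
    rw [Subgroup.commutator_eq_bot_iff_le_centralizer, Subgroup.commutator_le]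
    intro b hb y hy
    rw [mem_centralizer_iff]
    intro x hx
    exact (mem_Zc.mp (hb.2 y hy)).2 x hx
  have h3 := Subgroup.commutator_commutator_eq_bot_of_rotate h1 h2
  rw [Subgroup.commutator_comm T E, X.hd] at h3
  intro a ha ha'
  have haB : a ∈ B := ⟨ha, ha'⟩
  rw [mem_Zc]
  refine ⟨ha, ?_⟩
  intro x hx
  have h4 : ⁅x, a⁆ ∈ ⁅E, B⁆ := Subgroup.commutator_mem_commutator hx haB
  rw [h3, Subgroup.mem_bot] at h4
  exact commutatorElement_eq_one_iff_mul_comm.mp h4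

/-- the exceptional configuration does not exist -/
theorem false (X : EXH ρ E T η z s l m) : False := by
  have : Fact (Nat.Prime 2) := ⟨Nat.prime_two⟩
  have hl2 : (2 : ℕ) ≠ l := by
    intro h
    apply X.l_odd
    rw [← h]
  have hTr : (Nat.card T).Coprime 2 := by
    have : Fact s.Prime := ⟨X.hs⟩
    obtain ⟨i, hi⟩ := IsPGroup.iff_card.mp X.hT
    rw [hi]
    apply Nat.Coprime.pow_left
    exact (Nat.coprime_primes X.hs Nat.prime_two).mpr X.hs2
  have hfree := frobFreeInn (E := E) (T := T) (η := η) Nat.prime_two X.hl hl2 X.class2 X.sq_mem_Zc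
    X.hTE X.hηE X.hηT X.hηl hTr X.cop_El X.hc1 X.hc2 X.fix_T
  have hZC : Zc E ≤ E ⊓ centralizer {η} := by
    intro c hc
    exact mem_inf_centralizer_singleton.mpr ⟨Zc_le E hc, X.eta_cent_Zc c hc⟩
  have hinf : E ⊓ centralizer {η} ⊓ Zc E = Zc E := inf_eq_right.mpr hZC
  rw [hinf] at hfree
  obtain ⟨k', hk'⟩ := X.card_E_Z
  have hEC := X.card_E_C
  obtain ⟨ε, hε⟩ := IsPGroup.iff_card.mp X.hE
  obtain ⟨γ, hγ⟩ := IsPGroup.iff_card.mp (X.hE.to_le (inf_le_left : E ⊓ centralizer {η} ≤ E))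
  obtain ⟨ζ, hζ⟩ := IsPGroup.iff_card.mp (X.hE.to_le (Zc_le E))
  have hl1 : l - 1 = 2 ^ m := by
    rw [X.hlm]; simp
  have hζγ : ζ ≤ γ := by
    have h1 : Nat.card ↥(Zc E) ≤ Nat.card ↥(E ⊓ centralizer {η}) :=
      Nat.le_of_dvd Nat.card_pos (Subgroup.card_dvd_of_le hZC)
    rw [hζ, hγ] at h1
    exact (Nat.pow_le_pow_iff_right (by norm_num)).mp h1
  rw [hε, hζ, ← pow_add] at hk'
  rw [hε, hγ, hl1, ← pow_mul, ← pow_add] at hEC
  rw [hε, hζ, hγ, ← pow_mul, ← pow_mul, ← pow_add, ← pow_add] at hfree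
  have e1 : ε = ζ + 2 * k' := Nat.pow_right_injective (le_refl 2) hk'
  have e2 : ε = γ + m * 2 := Nat.pow_right_injective (le_refl 2) hEC
  have e3 : ε + ζ * l = ζ + γ * l := Nat.pow_right_injective (le_refl 2) hfree
  obtain ⟨j, rfl⟩ := Nat.exists_eq_add_of_le hζγ
  have e4 : (ζ + j) * l = ζ * l + j * l := by ring
  rw [e4] at e3
  have e5 : ε = ζ + j * l := by omega
  have e6 : j * l = j * 2 ^ m + j := by
    rw [X.hlm]; ring
  have hm2 : m < 2 ^ m := Nat.lt_two_pow_self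
  have e7 : j * 2 ^ m = 2 * m := by omega
  have hj_even : j % 2 = 0 := by omega
  rcases Nat.eq_zero_or_pos j with hj0 | hjpos
  · rw [hj0] at e7
    have := X.hm
    omega
  · have hj2 : 2 ≤ j := by omega
    have : 2 * 2 ^ m ≤ j * 2 ^ m := Nat.mul_le_mul_right _ hj2
    omega

end EXH

/-- **the exceptional case**: under the hypotheses below, `E` is abelian -/
theorem abelian_of_fermat {k : Type*} [Field k] {Δ : Type u} [Group Δ] [Finite Δ] {M : Type*}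
    [AddCommGroup M] [Module k M] [FiniteDimensional k M] (ρ : Representation k Δ M)
    (E T : Subgroup Δ) (η : Δ) {s l m : ℕ}
    (hfaith : ∀ g : Δ, ρ g = 1 → g = 1) (hl : l.Prime) (hlm : l = 2 ^ m + 1) (hm : 1 ≤ m)
    (h2k : (2 : k) ≠ 0) (hlk : (l : k) ≠ 0) (hE : IsPGroup 2 E) (hs : s.Prime) (hs2 : s ≠ 2)
    (hsl : s ≠ l) (hT : IsPGroup s T) (hTE : T ≤ normalizer (E : Set Δ))
    (hηE : ∀ x ∈ E, η * x * η⁻¹ ∈ E) (hηT : ∀ y ∈ T, η * y * η⁻¹ ∈ T) (hηl : η ^ l = 1)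
    (ha : ∀ y ∈ T, ∀ v : M, ρ (y⁻¹ * η * y) v = v → v = 0)
    (hb : ∀ a ∈ E, ∀ b ∈ E, ρ ⁅a, b⁆ = 1 ∨ ρ ⁅a, b⁆ = -1)
    (hc1 : ∀ y₁ ∈ T, ∀ y₂ ∈ T, ∀ x ∈ E, ⁅y₁, y₂⁆ * x = x * ⁅y₁, y₂⁆)
    (hc2 : ∀ y ∈ T, (∀ x ∈ E, ⁅η, y⁆ * x = x * ⁅η, y⁆) → ∀ x ∈ E, y * x = x * y)
    (hd : ⁅E, T⁆ = E) : ∀ a ∈ E, ∀ b ∈ E, a * b = b * a := by
  intro a ha' b hb'
  by_contra hne
  have hz1 : ⁅a, b⁆ ≠ 1 := fun h => hne (commutatorElement_eq_one_iff_mul_comm.mp h)
  exact EXH.false (ρ := ρ) (E := E) (T := T) (η := η) (z := ⁅a, b⁆) (s := s) (l := l) (m := m)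
    { hfaith := hfaith, hl := hl, hlm := hlm, hm := hm, h2k := h2k, hlk := hlk, hE := hE, hs := hs,
      hs2 := hs2, hsl := hsl, hT := hT, hTE := hTE, hηE := hηE, hηT := hηT, hηl := hηl, ha := ha,
      hb := hb, hc1 := hc1, hc2 := hc2, hd := hd, hz := ⟨a, ha', b, hb', rfl⟩, hz1 := hz1 }

end Cfsg.Agent.Lib.Helper23.PQ
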