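import Mathlib
import Cfsg.Agent.Lib.Helper23.PQ11d

/-!
# helper23: the Hall–Higman step for a Frobenius group `T ⋊ ⟨η⟩` acting on a `t`-group `E`
-/

set_option autoImplicit false
set_option linter.unusedSectionVars false
set_option linter.style.haveILetI false

namespace Cfsg.Agent.Lib.Helper23.PQ

open Module Subgroup
open Cfsg.Agent.Lib.Helper23.S3 (rho_mul_apply mem_normalizer_of_conj_mem conj_inv_mem_of_finite
  lift_of_pow)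
open scoped commutatorElement

universe u

section

variable {K : Type*} [Field K] {Γ₀ : Type u} [Group Γ₀] {M : Type*} [AddCommGroup M] [Module K M]

/-- the subgroup of elements whose action commutes with the action of `E₀` -/
def commSub (ρ₀ : Representation K Γ₀ M) (E₀ : Subgroup Γ₀) : Subgroup Γ₀ where
  carrier := {g | ∀ x ∈ E₀, ρ₀ (g * x) = ρ₀ (x * g)}
  mul_mem' := by
    intro a b ha hb x hx
    calc ρ₀ (a * b * x) = ρ₀ a * ρ₀ (b * x) := by rw [mul_assoc, map_mul]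
      _ = ρ₀ a * ρ₀ (x * b) := by rw [hb x hx]
      _ = ρ₀ (a * x) * ρ₀ b := by rw [map_mul, ← mul_assoc, ← map_mul]
      _ = ρ₀ (x * a) * ρ₀ b := by rw [ha x hx]
      _ = ρ₀ (x * (a * b)) := by rw [← map_mul, mul_assoc]
  one_mem' := by
    intro x _
    rw [one_mul, mul_one]
  inv_mem' := by
    intro a ha x hx
    have h1 := ha x hx
    calc ρ₀ (a⁻¹ * x) = ρ₀ a⁻¹ * ρ₀ (x * a) * ρ₀ a⁻¹ := by
          rw [← map_mul, ← map_mul]; congr 1; group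
      _ = ρ₀ a⁻¹ * ρ₀ (a * x) * ρ₀ a⁻¹ := by rw [h1]
      _ = ρ₀ (x * a⁻¹) := by
          rw [← map_mul, ← map_mul]; congr 1; group

theorem mem_commSub {ρ₀ : Representation K Γ₀ M} {E₀ : Subgroup Γ₀} {g : Γ₀} :
    g ∈ commSub ρ₀ E₀ ↔ ∀ x ∈ E₀, ρ₀ (g * x) = ρ₀ (x * g) := Iff.rfl

/-- conjugation by elements normalising `E₀` preserves `commSub` -/
theorem conj_mem_commSub {ρ₀ : Representation K Γ₀ M} {E₀ : Subgroup Γ₀} {a g : Γ₀}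
    (ha : ∀ x ∈ E₀, a⁻¹ * x * a ∈ E₀) (hg : g ∈ commSub ρ₀ E₀) : a * g * a⁻¹ ∈ commSub ρ₀ E₀ := by
  intro x hx
  have h1 := hg _ (ha x hx)
  calc ρ₀ (a * g * a⁻¹ * x) = ρ₀ a * ρ₀ (g * (a⁻¹ * x * a)) * ρ₀ a⁻¹ := by
        rw [← map_mul, ← map_mul]; congr 1; group
    _ = ρ₀ a * ρ₀ ((a⁻¹ * x * a) * g) * ρ₀ a⁻¹ := by rw [h1]
    _ = ρ₀ (x * (a * g * a⁻¹)) := by
        rw [← map_mul, ← map_mul]; congr 1; group

end

section HH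

variable {K : Type*} [Field K] {Γ₀ : Type u} [Group Γ₀] [Finite Γ₀] {M : Type*} [AddCommGroup M]
  [Module K M] [FiniteDimensional K M]

theorem mk_eq_of_rho_eq (ρ₀ : Representation K Γ₀ M) {g g' : Γ₀} (h : ρ₀ g = ρ₀ g') :
    QuotientGroup.mk' (kerQ ρ₀) g = QuotientGroup.mk' (kerQ ρ₀) g' := by
  have h1 : QuotientGroup.mk' (kerQ ρ₀) (g * g'⁻¹) = 1 := by
    rw [QuotientGroup.mk'_apply, QuotientGroup.eq_one_iff, mem_kerQ, map_mul, h, ← map_mul,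
      mul_inv_cancel, map_one]
  rw [map_mul, map_inv] at h1
  exact mul_inv_eq_one.mp h1

theorem rho_eq_of_mk_eq (ρ₀ : Representation K Γ₀ M) {g g' : Γ₀}
    (h : QuotientGroup.mk' (kerQ ρ₀) g = QuotientGroup.mk' (kerQ ρ₀) g') : ρ₀ g = ρ₀ g' := by
  rw [← faithRep_mk ρ₀ g, ← faithRep_mk ρ₀ g', h]

/-- the exceptional case, non-faithful form -/
theorem abelian_of_fermat' (ρ₀ : Representation K Γ₀ M) (E₀ T₀ : Subgroup Γ₀) (η₀ : Γ₀)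
    {s l m : ℕ} (hs : s.Prime) (hl : l.Prime) (hs2 : s ≠ 2) (hl2 : l ≠ 2) (hsl : s ≠ l)
    (hlm : l = 2 ^ m + 1) (h2K : (2 : K) ≠ 0) (hlK : (l : K) ≠ 0)
    (hE : IsPGroup 2 E₀) (hT : IsPGroup s T₀) (hTE : T₀ ≤ normalizer (E₀ : Set Γ₀))
    (hηE : ∀ x ∈ E₀, η₀ * x * η₀⁻¹ ∈ E₀) (hηT : ∀ y ∈ T₀, η₀ * y * η₀⁻¹ ∈ T₀) (hηl : η₀ ^ l = 1)
    (ha : ∀ y ∈ T₀, ∀ v : M, ρ₀ (y⁻¹ * η₀ * y) v = v → v = 0)
    (hb : ∀ a ∈ E₀, ∀ b ∈ E₀, ρ₀ ⁅a, b⁆ = 1 ∨ ρ₀ ⁅a, b⁆ = -1)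
    (hc1 : ∀ y₁ ∈ T₀, ∀ y₂ ∈ T₀, ∀ x ∈ E₀, ⁅y₁, y₂⁆ * x = x * ⁅y₁, y₂⁆)
    (hc2 : ∀ y ∈ T₀, ⁅η₀, y⁆ ∈ commSub ρ₀ E₀ → y ∈ commSub ρ₀ E₀)
    (hd : ⁅E₀, T₀⁆ = E₀) : ∀ a ∈ E₀, ∀ b ∈ E₀, ρ₀ (a * b) = ρ₀ (b * a) := by
  set π : Γ₀ →* Γ₀ ⧸ kerQ ρ₀ := QuotientGroup.mk' (kerQ ρ₀) with hπ
  have hm : 1 ≤ m := by
    by_contra h0
    have : m = 0 := by omega
    rw [this] at hlm
    exact hl2 (by rw [hlm]; norm_num)
  have hconj : ∀ (A : Subgroup Γ₀) (g : Γ₀), (∀ x ∈ A, g * x * g⁻¹ ∈ A) →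
      ∀ x' ∈ A.map π, π g * x' * (π g)⁻¹ ∈ A.map π := by
    rintro A g hg _ ⟨x, hx, rfl⟩
    exact ⟨g * x * g⁻¹, hg x hx, by rw [map_mul, map_mul, map_inv]⟩
  have key := abelian_of_fermat (faithRep ρ₀) (E₀.map π) (T₀.map π) (π η₀) (s := s) (l := l) (m := m)
    (faithRep_inj ρ₀) hl hlm hm h2K hlK (hE.map π) hs hs2 hsl (hT.map π)
    (by
      rintro _ ⟨y, hy, rfl⟩
      apply mem_normalizer_of_conj_mem
      apply hconj E₀ y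
      intro x hx
      exact (mem_normalizer_iff.mp (hTE hy) x).mp hx)
    (hconj E₀ η₀ hηE) (hconj T₀ η₀ hηT)
    (by rw [← map_pow, hηl, map_one])
    (by
      rintro _ ⟨y, hy, rfl⟩ v hv
      rw [← map_inv, ← map_mul, ← map_mul, hπ, faithRep_mk] at hv
      exact ha y hy v hv)
    (by
      rintro _ ⟨a, ha', rfl⟩ _ ⟨b, hb', rfl⟩
      rw [← map_commutatorElement, hπ, faithRep_mk]
      exact hb a ha' b hb')
    (by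
      rintro _ ⟨y₁, hy₁, rfl⟩ _ ⟨y₂, hy₂, rfl⟩ _ ⟨x, hx, rfl⟩
      rw [← map_commutatorElement, ← map_mul, ← map_mul, hc1 y₁ hy₁ y₂ hy₂ x hx])
    (by
      rintro _ ⟨y, hy, rfl⟩ h1 _ ⟨x, hx, rfl⟩
      have h2 : ⁅η₀, y⁆ ∈ commSub ρ₀ E₀ := by
        intro x' hx'
        apply rho_eq_of_mk_eq
        have h3 := h1 _ (Subgroup.mem_map_of_mem π hx')
        rw [← map_commutatorElement, ← map_mul, ← map_mul] at h3
        exact h3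
      have h4 := hc2 y hy h2 x hx
      rw [← map_mul, ← map_mul]
      exact mk_eq_of_rho_eq ρ₀ h4)
    (by rw [← Subgroup.map_commutator, hd])
  intro a ha' b hb'
  apply rho_eq_of_mk_eq
  have := key _ (Subgroup.mem_map_of_mem π ha') _ (Subgroup.mem_map_of_mem π hb')
  rw [← map_mul, ← map_mul] at this
  exact this

/-- **the Hall–Higman step**: if all the conjugates of `η₀` under `T₀` act without fixed points,
then `T₀` commutes with `E₀` on `M` -/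
theorem hallHigman_frob (ρ₀ : Representation K Γ₀ M) (E₀ T₀ : Subgroup Γ₀) (η₀ : Γ₀) {t s l : ℕ}
    (ht : t.Prime) (hs : s.Prime) (hl : l.Prime) (hts : t ≠ s) (htl : t ≠ l) (hsl : s ≠ l)
    (htK : (t : K) ≠ 0) (hlK : (l : K) ≠ 0)
    (hE : IsPGroup t E₀) (hT : IsPGroup s T₀) (hTE : T₀ ≤ normalizer (E₀ : Set Γ₀))
    (hηE : ∀ x ∈ E₀, η₀ * x * η₀⁻¹ ∈ E₀) (hηT : ∀ y ∈ T₀, η₀ * y * η₀⁻¹ ∈ T₀) (hηl : η₀ ^ l = 1)
    (ha : ∀ y ∈ T₀, ∀ v : M, ρ₀ (y⁻¹ * η₀ * y) v = v → v = 0)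
    (hb : t = 2 → ∀ a ∈ E₀, ∀ b ∈ E₀, ρ₀ ⁅a, b⁆ = 1 ∨ ρ₀ ⁅a, b⁆ = -1)
    (hc1 : ∀ y₁ ∈ T₀, ∀ y₂ ∈ T₀, ∀ x ∈ E₀, ⁅y₁, y₂⁆ * x = x * ⁅y₁, y₂⁆)
    (hc3 : ∀ y ∈ T₀, η₀ * y = y * η₀ → y = 1)
    (hd : ⁅E₀, T₀⁆ = E₀) :
    ∀ y ∈ T₀, ∀ x ∈ E₀, ρ₀ (y * x) = ρ₀ (x * y) := by
  set G := commSub ρ₀ E₀ with hG
  have hTE1 : ∀ y ∈ T₀, ∀ x ∈ E₀, y * x * y⁻¹ ∈ E₀ :=
    fun y hy x hx => (mem_normalizer_iff.mp (hTE hy) x).mp hx
  have hηE' : ∀ x ∈ E₀, η₀⁻¹ * x * η₀ ∈ E₀ := conj_inv_mem_of_finite hηE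
  have hcopTl : ∀ S₁ : Subgroup Γ₀, S₁ ≤ T₀ → (Nat.card S₁).Coprime l := by
    intro S₁ hS₁
    have : Fact s.Prime := ⟨hs⟩
    obtain ⟨i, hi⟩ := IsPGroup.iff_card.mp (hT.to_le hS₁)
    rw [hi]
    apply Nat.Coprime.pow_left
    exact (Nat.coprime_primes hs hl).mpr hsl
  -- `η₀` acts without fixed points on `T₀` modulo `G`
  have hc2 : ∀ y ∈ T₀, ⁅η₀, y⁆ ∈ G → y ∈ G := by
    intro y hy h1
    set S₁ : Subgroup Γ₀ := T₀ ⊓ G with hS₁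
    have hηS₁ : ∀ n ∈ S₁, η₀ * n * η₀⁻¹ ∈ S₁ := by
      rintro n ⟨hn1, hn2⟩
      exact ⟨hηT n hn1, conj_mem_commSub hηE' hn2⟩
    have h2 : y⁻¹ * (η₀ * y * η₀⁻¹) ∈ S₁ := by
      constructor
      · exact T₀.mul_mem (T₀.inv_mem hy) (hηT y hy)
      · have e : y⁻¹ * (η₀ * y * η₀⁻¹) = y⁻¹ * ⁅η₀, y⁆ * (y⁻¹)⁻¹ := by
          rw [commutatorElement_def]; group
        rw [e]
        apply conj_mem_commSub _ h1
        intro x hx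
        rw [inv_inv]
        exact hTE1 y hy x hx
    obtain ⟨n, hn, hc⟩ := lift_of_pow hηl hηS₁ (hcopTl S₁ inf_le_left) h2
    have h3 := hc3 _ (T₀.mul_mem hy hn.1) hc
    have e : y = n⁻¹ := eq_inv_of_mul_eq_one_left h3
    rw [e]
    exact G.inv_mem hn.2
  have hexc : t = 2 → (∃ m : ℕ, l = 2 ^ m + 1) → ∀ a ∈ E₀, ∀ b ∈ E₀, ρ₀ (a * b) = ρ₀ (b * a) := by
    rintro rfl ⟨m, hlm⟩
    exact abelian_of_fermat' ρ₀ E₀ T₀ η₀ hs hl (Ne.symm hts) (Ne.symm htl) hsl hlm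
      (by exact_mod_cast htK) hlK hE hT hTE hηE hηT hηl ha (hb rfl) hc1 hc2 hd
  have hA : ∀ y ∈ T₀, y⁻¹ * η₀ * y ∈ G := by
    intro y hy
    have e : y⁻¹ * η₀ * y = y⁻¹ * η₀ * (y⁻¹)⁻¹ := by rw [inv_inv]
    have h1 := Cfsg.Agent.Lib.Helper17.ESMod.comm_of_fixed_zero ht hl htl htK hlK ρ₀ E₀
      (y⁻¹ * η₀ * y) hE
      (by rw [e, conj_pow, hηl]; group)
      (by
        intro x hx
        have h2 := hTE1 y hy x hx
        have h3 := hηE _ h2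
        have h4 := hTE1 y⁻¹ (T₀.inv_mem hy) _ h3
        have e2 : y⁻¹ * η₀ * y * x * (y⁻¹ * η₀ * y)⁻¹ = y⁻¹ * (η₀ * (y * x * y⁻¹) * η₀⁻¹) * y⁻¹⁻¹ := by
          group
        rw [e2]
        exact h4)
      hexc (ha y hy)
    intro x hx
    exact h1 x hx
  have hB : T₀ ≤ G := by
    have hHT : zpowers η₀ ≤ normalizer (T₀ : Set Γ₀) := by
      rw [zpowers_le]
      exact mem_normalizer_of_conj_mem hηT
    have hcop : (Nat.card (zpowers η₀)).Coprime (Nat.card T₀) := by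
      rw [Nat.card_zpowers]
      exact (Nat.Coprime.coprime_dvd_right (orderOf_dvd_of_pow_eq_one hηl) (hcopTl T₀ le_rfl)).symm
    have h1 := Cfsg.Agent.Lib.Helper17.le_centralizer_sup_commutator (zpowers η₀) T₀ hHT hcop
      (Or.inl inferInstance)
    refine h1.trans (sup_le ?_ ?_)
    · rintro y ⟨hy1, hy2⟩
      have h2 : η₀ * y = y * η₀ := (mem_centralizer_iff.mp hy2) η₀ (mem_zpowers η₀)
      rw [hc3 y hy1 h2]
      exact G.one_mem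
    · rw [Subgroup.commutator_le]
      intro y hy g hg
      obtain ⟨n, rfl⟩ := mem_zpowers_iff.mp hg
      have e : ⁅y, η₀ ^ n⁆ = (y * η₀ * y⁻¹) ^ n * (η₀ ^ n)⁻¹ := by
        rw [commutatorElement_def, conj_zpow]
      rw [e]
      have h3 : y * η₀ * y⁻¹ ∈ G := by
        have := hA y⁻¹ (T₀.inv_mem hy)
        rwa [inv_inv] at this
      have h4 : η₀ ∈ G := by
        have := hA 1 T₀.one_mem
        simpa using this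
      exact G.mul_mem (G.zpow_mem h3 n) (G.inv_mem (G.zpow_mem h4 n))
  intro y hy x hx
  exact hB hy x hx

end HH

end Cfsg.Agent.Lib.Helper23.PQ
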