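import Mathlib
import Cfsg.Agent.Lib.Helper23.PQ12a

/-!
# helper23: the key theorem for a Frobenius group of order `p l`, part 4: the `H`-case
-/

set_option autoImplicit false
set_option linter.unusedSectionVars false
set_option linter.style.haveILetI false

namespace Cfsg.Agent.Lib.Helper23.PQ

open Module Subgroup
open Cfsg.Agent.Lib.Helper23.Ward
open Cfsg.Agent.Lib.Helper23.S3 (rho_mul_apply mem_normalizer_of_conj_mem conj_inv_mem_of_finite
  lemmaM_single exists_of_not_mem_stab)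
open Cfsg.Agent.Lib.Helper23.PQ.MinCE (Zc mem_Zc Zc_le conj_mem_Zc Zc_comm)
open scoped commutatorElement

universe u v

variable {K : Type*} [Field K] {Γ : Type u} [Group Γ] {V : Type v} [AddCommGroup V] [Module K V]
variable {ρ : Representation K Γ V} {t s p l : ℕ} {Q S : Subgroup Γ} {f h : Γ} {χ : Γ → K}

namespace MinCE

variable [Finite Γ]

theorem S_ne_bot (c : MinCE ρ t s p l Q S f h) : S ≠ ⊥ := by
  intro e
  obtain ⟨x, hx, y, hy, hxy⟩ := c.hne
  rw [e, Subgroup.mem_bot] at hy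
  apply hxy
  rw [hy, one_mul, mul_one]

theorem s_dvd (c : MinCE ρ t s p l Q S f h) : s ∣ Nat.card S := by
  have : Fact s.Prime := ⟨c.hs⟩
  obtain ⟨n, hn⟩ := IsPGroup.iff_card.mp c.hS
  rcases n with _ | n
  · exfalso
    rw [pow_zero] at hn
    exact c.S_ne_bot (Subgroup.card_eq_one.mp hn)
  · rw [hn]; exact dvd_pow_self s (Nat.succ_ne_zero n)

theorem s_cop (c : MinCE ρ t s p l Q S f h) : s.Coprime (p * l) :=
  Nat.Coprime.coprime_dvd_left c.s_dvd c.aS.hcop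

theorem s_ne_l (c : MinCE ρ t s p l Q S f h) : s ≠ l := by
  rintro rfl
  have h1 : s ∣ Nat.gcd s (p * s) := Nat.dvd_gcd dvd_rfl (dvd_mul_left s p)
  rw [c.s_cop] at h1
  exact c.hs.one_lt.ne' (Nat.dvd_one.mp h1)

theorem s_ne_p (c : MinCE ρ t s p l Q S f h) : s ≠ p := by
  rintro rfl
  have h1 : s ∣ Nat.gcd s (s * l) := Nat.dvd_gcd dvd_rfl (dvd_mul_right s l)
  rw [c.s_cop] at h1
  exact c.hs.one_lt.ne' (Nat.dvd_one.mp h1)

/-- the derived subgroup of `S` is proper -/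
theorem commS_ne (c : MinCE ρ t s p l Q S f h) : ⁅S, S⁆ ≠ S := by
  intro e
  have : Fact s.Prime := ⟨c.hs⟩
  have hnil := c.hS.isNilpotent
  have hsolv : Group.IsSolvable ↥S := inferInstance
  have hnt : Nontrivial ↥S := (Subgroup.nontrivial_iff_ne_bot S).mpr c.S_ne_bot
  have h1 := Group.IsSolvable.commutator_lt_top_of_nontrivial ↥S
  apply h1.ne
  have h2 : (commutator ↥S).map S.subtype = ⁅S, S⁆ := by
    rw [commutator_def, Subgroup.map_commutator, ← MonoidHom.range_eq_map, Subgroup.range_subtype]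
  apply Subgroup.map_injective S.subtype_injective
  rw [h2, e, ← MonoidHom.range_eq_map, Subgroup.range_subtype]

/-- the derived subgroup of `S` centralises `Q` -/
theorem commS_cent (c : MinCE ρ t s p l Q S f h) : ∀ x ∈ Q, ∀ y ∈ ⁅S, S⁆, x * y = y * x :=
  c.hSmin _ (Cfsg.Agent.Lib.Helper1.commutator_le_of_le_normalizer le_normalizer) c.commS_ne
    (conj_mem_commutator c.aS.hfX c.aS.hfX) (conj_mem_commutator c.aS.hhX c.aS.hhX)

variable [IsAlgClosed K] [FiniteDimensional K V]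

/-- case (ii): the fixed points of `f` on `S` centralise `Q` -/
theorem false_of_cent (c : MinCE ρ t s p l Q S f h) (w : WD ρ Q f h χ)
    (hf : f ∉ stab (Zc Q) χ)
    (hSf : ∀ y ∈ S, f * y = y * f → ∀ x ∈ Q, x * y = y * x) : False := by
  obtain ⟨x, hx, y, hy, hxy⟩ := c.hne
  apply hxy
  have hf1 : f ≠ 1 := by
    intro e
    apply hf
    rw [e]
    exact Subgroup.one_mem _
  exact comm_of_fpf_mod c.ht c.hs c.hts c.aQ.hp c.hQ c.hS c.aQ.hfp hf1 c.hSQ c.aQ.hfX c.aS.hfX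
    c.aS.cop_p (c.cent_f_trivial w hf) hSf x hx y hy

/-- case (i): `f` centralises `S` -/
theorem false_of_comm (c : MinCE ρ t s p l Q S f h) (w : WD ρ Q f h χ)
    (hf : f ∉ stab (Zc Q) χ) (hh : h ∈ stab (Zc Q) χ) (hfS : ∀ y ∈ S, f * y = y * f) : False := by
  classical
  have hN := c.actZ.closure_le_normalizer
  have H : HypW ρ p l (Zc Q) f h := ⟨c.actZ, c.hfV⟩
  set V₀ : Submodule K V := wt ρ (Zc Q) χ with hV₀
  have hfix : ∀ v ∈ V₀, ρ h v = v → v = 0 := H.fix_h hf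
  have hQstab : ∀ x ∈ Q, x ∈ stab (Zc Q) χ :=
    fun x hx => mem_stab_of_cent (fun z hz => ((mem_Zc.mp hz).2 x hx).symm) χ
  have hSstab : ∀ y ∈ S, y ∈ stab (Zc Q) χ :=
    fun y hy => mem_stab_of_cent (fun z hz => c.S_cent_Zc z hz y hy) χ
  set Γ₀ : Subgroup Γ := stabSub ρ V₀ with hΓ₀
  have hstabΓ₀ : ∀ g ∈ stab (Zc Q) χ, g ∈ Γ₀ :=
    fun g hg => mem_stabSub_of_le (fun v hv => map_wt_of_mem_stab hg hv)
  have hQΓ₀ : Q ≤ Γ₀ := fun x hx => hstabΓ₀ x (hQstab x hx)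
  have hSΓ₀ : S ≤ Γ₀ := fun y hy => hstabΓ₀ y (hSstab y hy)
  have hhΓ₀ : h ∈ Γ₀ := hstabΓ₀ h hh
  let ρ₀ : Representation K ↥Γ₀ ↥V₀ := repOn ρ V₀
  have hρ₀ : ∀ (g : ↥Γ₀) (v : ↥V₀), ((ρ₀ g v : ↥V₀) : V) = ρ (g : Γ) (v : V) := fun g v => rfl
  have hcomm := hallHigman_frob ρ₀ (Q.subgroupOf Γ₀) (S.subgroupOf Γ₀) (⟨h, hhΓ₀⟩ : ↥Γ₀) c.ht c.hs
    c.aQ.hl c.hts c.t_ne_l c.s_ne_l c.htK c.hlK c.hQ.comap_subtype c.hS.comap_subtype
    (by
      intro y hy
      apply mem_normalizer_of_conj_mem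
      intro x hx
      rw [mem_subgroupOf] at hx hy ⊢
      simp only [Subgroup.coe_mul, Subgroup.coe_inv]
      exact (mem_normalizer_iff.mp (c.hSQ hy) x).mp hx)
    (by
      intro x hx
      rw [mem_subgroupOf] at hx ⊢
      exact c.aQ.hhX _ hx)
    (by
      intro y hy
      rw [mem_subgroupOf] at hy ⊢
      exact c.aS.hhX _ hy)
    (Subtype.ext (by simpa using c.aQ.hhl))
    (by
      intro y hy v hv
      have h1 : ρ h (ρ (y : Γ) (v : V)) = ρ (y : Γ) (v : V) := by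
        have h2 := congrArg Subtype.val hv
        rw [hρ₀] at h2
        have e : (((y⁻¹ * (⟨h, hhΓ₀⟩ : ↥Γ₀) * y : ↥Γ₀)) : Γ) = (y : Γ)⁻¹ * h * y := rfl
        rw [e, rho_mul_apply, rho_mul_apply] at h2
        have h3 := congrArg (ρ (y : Γ)) h2
        rw [rho_apply_inv] at h3
        exact h3
      have h4 : ρ (y : Γ) (v : V) ∈ V₀ := (y.2 _).mp v.2
      have h5 := hfix _ h4 h1
      apply Subtype.ext
      have h6 := rho_inv_apply ρ (y : Γ) (v : V)
      rw [h5, map_zero] at h6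
      exact h6.symm)
    (by
      intro ht2 a ha b hb
      rw [mem_subgroupOf] at ha hb
      have hzZ : ⁅(a : Γ), (b : Γ)⁆ ∈ Zc Q := c.class2 _ ha _ hb
      have hz2 : ⁅(a : Γ), (b : Γ)⁆ ^ 2 = 1 := by
        have := c.comm_pow _ ha _ hb
        rwa [ht2] at this
      obtain ⟨v₀, hv₀, hv₀0⟩ := w.nw.hv
      have hχ2 : χ ⁅(a : Γ), (b : Γ)⁆ * χ ⁅(a : Γ), (b : Γ)⁆ = 1 := by
        have h1 : ρ (⁅(a : Γ), (b : Γ)⁆ ^ 2) v₀ =
            (χ ⁅(a : Γ), (b : Γ)⁆ * χ ⁅(a : Γ), (b : Γ)⁆) • v₀ := by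
          rw [pow_two, rho_mul_apply, hv₀.2 _ hzZ, map_smul, hv₀.2 _ hzZ, smul_smul]
        rw [hz2, map_one, Module.End.one_apply] at h1
        by_contra hne
        apply hv₀0
        have h2 : (1 - χ ⁅(a : Γ), (b : Γ)⁆ * χ ⁅(a : Γ), (b : Γ)⁆) • v₀ = 0 := by
          rw [sub_smul, one_smul, ← h1, sub_self]
        rcases smul_eq_zero.mp h2 with h | h
        · exact absurd (sub_eq_zero.mp h).symm hne
        · exact h
      have hcases : χ ⁅(a : Γ), (b : Γ)⁆ = 1 ∨ χ ⁅(a : Γ), (b : Γ)⁆ = -1 :=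
        mul_self_eq_one_iff.mp hχ2
      have hact : ∀ v : ↥V₀, ρ₀ ⁅a, b⁆ v = χ ⁅(a : Γ), (b : Γ)⁆ • v := by
        intro v
        apply Subtype.ext
        rw [hρ₀]
        exact v.2 _ hzZ
      rcases hcases with h | h
      · left
        ext v
        rw [hact, h, one_smul]
        rfl
      · right
        ext v
        rw [hact, h]
        simp)
    (by
      intro y₁ hy₁ y₂ hy₂ x hx
      rw [mem_subgroupOf] at hy₁ hy₂ hx
      apply Subtype.ext
      exact (c.commS_cent x hx ⁅(y₁ : Γ), (y₂ : Γ)⁆ (Subgroup.commutator_mem_commutator hy₁ hy₂)).symm)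
    (by
      intro y hy hc
      rw [mem_subgroupOf] at hy
      apply Subtype.ext
      exact c.aS.hfpf y hy (hfS y hy) (congrArg Subtype.val hc))
    (by
      apply Subgroup.map_injective Γ₀.subtype_injective
      rw [Subgroup.map_commutator, Subgroup.map_subgroupOf_eq_of_le hQΓ₀,
        Subgroup.map_subgroupOf_eq_of_le hSΓ₀, c.comm_eq])
  -- `[Q, S]` acts trivially on `V₀`
  have htriv : ∀ x ∈ Q, ∀ y ∈ S, ∀ v ∈ V₀, ρ ⁅x, y⁆ v = v := by
    intro x hx y hy v hv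
    have h1 := hcomm ⟨y, hSΓ₀ hy⟩ (mem_subgroupOf.mpr hy) ⟨x, hQΓ₀ hx⟩ (mem_subgroupOf.mpr hx)
    have h2 : ρ₀ ⁅(⟨x, hQΓ₀ hx⟩ : ↥Γ₀), (⟨y, hSΓ₀ hy⟩ : ↥Γ₀)⁆ = 1 := by
      rw [Cfsg.Agent.Lib.Helper17.ESMod.rep_comm_iff, ← map_mul, ← map_mul]
      exact h1.symm
    have h3 := congrArg (fun φ => ((φ ⟨v, hv⟩ : ↥V₀) : V)) h2
    exact h3
  -- and on all the conjugate weight spaces
  have hNQ := c.aQ.closure_le_normalizer
  have hNS := c.aS.closure_le_normalizer
  have hall : ∀ x ∈ Q, ∀ y ∈ S, ρ ⁅x, y⁆ = 1 := by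
    intro x hx y hy
    apply w.eq_one_of_forall
    intro a ha u hu
    have haN := hN ha
    have hv : ρ a⁻¹ u ∈ V₀ := by
      have h1 := map_wt (Subgroup.inv_mem _ haN) hu
      rw [cj_cj, inv_mul_cancel, cj_one] at h1
      exact h1
    have hxa : a⁻¹ * x * a ∈ Q := inv_conj_mem_of_mem_normalizer (hNQ ha) hx
    have hya : a⁻¹ * y * a ∈ S := inv_conj_mem_of_mem_normalizer (hNS ha) hy
    have h2 := htriv _ hxa _ hya _ hv
    have e : ⁅a⁻¹ * x * a, a⁻¹ * y * a⁆ = a⁻¹ * ⁅x, y⁆ * a := by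
      simp only [commutatorElement_def]; group
    rw [e, rho_mul_apply, rho_mul_apply, rho_apply_inv] at h2
    have h3 := congrArg (ρ a) h2
    rw [rho_apply_inv, rho_apply_inv] at h3
    exact h3
  obtain ⟨x, hx, y, hy, hxy⟩ := c.hne
  apply hxy
  have hQ' : ⁅x, y⁆ ∈ Q := by
    rw [commutatorElement_def]
    have e : x * y * x⁻¹ * y⁻¹ = x * (y * x⁻¹ * y⁻¹) := by group
    rw [e]
    exact Q.mul_mem hx ((mem_normalizer_iff.mp (c.hSQ hy) _).mp (Q.inv_mem hx))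
  exact commutatorElement_eq_one_iff_mul_comm.mp (c.hfaith _ hQ' (hall x hx y hy))

/-- **a minimal counterexample does not exist** -/
theorem false (c : MinCE ρ t s p l Q S f h) : False := by
  obtain ⟨χ, w⟩ := c.exists_WD
  have hf := c.not_F w
  have hN := c.actZ.closure_le_normalizer
  have H : HypW ρ p l (Zc Q) f h := ⟨c.actZ, c.hfV⟩
  have hex : ∃ u : ℕ, eta f h u ∈ stab (Zc Q) χ := by
    by_contra hcon
    push Not at hcon
    obtain ⟨v, hv, hv0⟩ := w.nw.hv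
    exact hv0 (H.regular hf hcon v hv.2)
  obtain ⟨u, hu⟩ := hex
  have hfcl : f ∈ closure ({f, h} : Set Γ) := subset_closure (Set.mem_insert f {h})
  have ha : (f ^ u)⁻¹ ∈ closure ({f, h} : Set Γ) :=
    Subgroup.inv_mem _ (Subgroup.pow_mem _ hfcl u)
  have w' := w.cj hN ha
  have hf' := c.not_F w'
  have hh' : h ∈ stab (Zc Q) (cj (f ^ u)⁻¹ χ) := by
    rw [mem_stab_cj (hN ha), inv_inv]
    exact hu
  by_cases hSf : ∀ y ∈ S, f * y = y * f
  · exact c.false_of_comm w' hf' hh' hSf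
  · apply c.false_of_cent w' hf'
    have hne' : S ⊓ centralizer {f} ≠ S := by
      intro e
      apply hSf
      intro y hy
      rw [← e] at hy
      exact (mem_inf_centralizer_singleton.mp hy).2
    have h1 := c.hSmin (S ⊓ centralizer {f}) inf_le_left hne'
      (by
        intro y hy
        have h2 := (mem_inf_centralizer_singleton.mp hy).2
        have e : f * y * f⁻¹ = y := by rw [h2, mul_inv_cancel_right]
        rw [e]
        exact hy)
      (by
        intro y hy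
        obtain ⟨h2, h3⟩ := mem_inf_centralizer_singleton.mp hy
        exact mem_inf_centralizer_singleton.mpr ⟨c.aS.hhX y h2, c.aS.conj_h_comm h3⟩)
    intro y hy hfy x hx
    exact h1 x hx y (mem_inf_centralizer_singleton.mpr ⟨hy, hfy⟩)

end MinCE

end Cfsg.Agent.Lib.Helper23.PQ
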