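import Mathlib
import Cfsg.Agent.Lib.Helper23.PQ12b

/-!
# helper23: the key theorem for a Frobenius group of order `p l`: the induction
-/

set_option autoImplicit false
set_option linter.unusedSectionVars false
set_option linter.style.haveILetI false

namespace Cfsg.Agent.Lib.Helper23.PQ

open Module Subgroup
open Cfsg.Agent.Lib.Helper23.Ward
open Cfsg.Agent.Lib.Helper23.S3 (rho_mul_apply mem_normalizer_of_conj_mem conj_inv_mem_of_finite)
open scoped commutatorElement

universe u v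

theorem card_lt_of_lt' {G : Type*} [Group G] [Finite G] {A B : Subgroup G} (h : A < B) :
    Nat.card A < Nat.card B := by
  have hle := Subgroup.card_le_of_le h.le
  rcases hle.lt_or_eq with h1 | h1
  · exact h1
  · exfalso
    exact h.ne (Subgroup.eq_of_le_of_card_ge h.le (by rw [h1]))

section

variable {K : Type*} [Field K] [IsAlgClosed K]

/-- the induction step of the key theorem -/
theorem key_step {t s p l : ℕ} (ht : t.Prime) (hs : s.Prime) (hts : t ≠ s)
    (htK : (t : K) ≠ 0) (hpK : (p : K) ≠ 0) (hlK : (l : K) ≠ 0) (n : ℕ)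
    (ih : ∀ n' < n, KeyAt.{u, v} K t s p l n') : KeyAt.{u, v} K t s p l n := by
  classical
  intro Γ _ _ V _ _ _ ρ Q S f h hn hQ hS aQ aS hSQ hfV
  by_contra hcon
  push Not at hcon
  have hSQ' : ∀ y ∈ S, ∀ x ∈ Q, y * x * y⁻¹ ∈ Q :=
    fun y hy x hx => (mem_normalizer_iff.mp (hSQ hy) x).mp hx
  have hcommQ : ∀ x ∈ Q, ∀ y ∈ S, ⁅x, y⁆ ∈ Q := by
    intro x hx y hy
    rw [commutatorElement_def]
    have e : x * y * x⁻¹ * y⁻¹ = x * (y * x⁻¹ * y⁻¹) := by group
    rw [e]
    exact Q.mul_mem hx (hSQ' y hy _ (Q.inv_mem hx))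
  -- faithfulness
  have hfaith : ∀ x ∈ Q, ρ x = 1 → x = 1 := by
    by_contra hnf
    push Not at hnf
    obtain ⟨x₀, hx₀, hx₀1, hx₀ne⟩ := hnf
    set π : Γ →* Γ ⧸ kerQ ρ := QuotientGroup.mk' (kerQ ρ) with hπ
    have hlt : Nat.card ↥(Q.map π) < Nat.card ↥Q := by
      have h1 := card_eq_range_mul_ker (π.comp Q.subtype)
      have h2 : (π.comp Q.subtype).range = Q.map π := by
        rw [← MonoidHom.map_range, Subgroup.range_subtype]
      rw [h2] at h1
      have h3 : 1 < Nat.card ↥(π.comp Q.subtype).ker := by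
        rw [Subgroup.one_lt_card_iff_ne_bot]
        intro e
        have h4 : (⟨x₀, hx₀⟩ : ↥Q) ∈ (π.comp Q.subtype).ker := by
          rw [MonoidHom.mem_ker]
          show π x₀ = 1
          rw [hπ, QuotientGroup.mk'_apply, QuotientGroup.eq_one_iff, mem_kerQ]
          exact hx₀1
        rw [e, Subgroup.mem_bot] at h4
        exact hx₀ne (congrArg Subtype.val h4)
      have hpos : 0 < Nat.card ↥(Q.map π) := Nat.card_pos
      rw [h1]
      nlinarith
    have key := ih (Nat.card ↥(Q.map π) + finrank K V) (by omega) (Γ ⧸ kerQ ρ) V (faithRep ρ)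
      (Q.map π) (S.map π) (π f) (π h) rfl (hQ.map π) (hS.map π) (aQ.map π) (aS.map π)
      (by
        rintro _ ⟨y, hy, rfl⟩
        apply mem_normalizer_of_conj_mem
        rintro _ ⟨x, hx, rfl⟩
        exact ⟨y * x * y⁻¹, hSQ' y hy x hx, by rw [map_mul, map_mul, map_inv]⟩)
      (by
        intro v h1 h2
        rw [hπ, faithRep_mk] at h1 h2
        exact hfV v h1 h2)
    obtain ⟨x, hx, y, hy, hxy⟩ := hcon
    apply hxy
    have h5 := key (π x) (Subgroup.mem_map_of_mem π hx) (π y) (Subgroup.mem_map_of_mem π hy)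
    rw [← map_commutatorElement, hπ, faithRep_mk] at h5
    exact h5
  -- a minimal bad subgroup of `S`
  have hex : ∃ m : ℕ, ∃ S' : Subgroup Γ, S' ≤ S ∧ (∀ y ∈ S', f * y * f⁻¹ ∈ S') ∧
      (∀ y ∈ S', h * y * h⁻¹ ∈ S') ∧ (∃ x ∈ Q, ∃ y ∈ S', ρ ⁅x, y⁆ ≠ 1) ∧ Nat.card S' = m :=
    ⟨Nat.card S, S, le_rfl, aS.hfX, aS.hhX, hcon, rfl⟩
  obtain ⟨S', hS'S, hfS', hhS', hbad, hcard⟩ := Nat.find_spec hex
  have hmin : ∀ S'' : Subgroup Γ, S'' ≤ S' → S'' ≠ S' → (∀ y ∈ S'', f * y * f⁻¹ ∈ S'') →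
      (∀ y ∈ S'', h * y * h⁻¹ ∈ S'') → ∀ x ∈ Q, ∀ y ∈ S'', ρ ⁅x, y⁆ = 1 := by
    intro S'' hle hne hf'' hh'' x hx y hy
    by_contra hxy
    have hlt : Nat.card S'' < Nat.find hex := by
      rw [← hcard]
      have h1 : S'' < S' := lt_of_le_of_ne hle hne
      exact card_lt_of_lt' h1
    exact Nat.find_min hex hlt ⟨S'', hle.trans hS'S, hf'', hh'', ⟨x, hx, y, hy, hxy⟩, rfl⟩
  have aS' : FAct p l S' f h := aS.sub hS'S hfS' hhS'
  have hS'Q : S' ≤ normalizer (Q : Set Γ) := hS'S.trans hSQ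
  have hS'p : IsPGroup s S' := hS.to_le hS'S
  have hcomm_of : ∀ x ∈ Q, ∀ y ∈ S, ρ ⁅x, y⁆ = 1 → x * y = y * x := by
    intro x hx y hy h1
    exact commutatorElement_eq_one_iff_mul_comm.mp (hfaith _ (hcommQ x hx y hy) h1)
  have c : MinCE ρ t s p l Q S' f h :=
    { ht := ht
      hs := hs
      hts := hts
      htK := htK
      hpK := hpK
      hlK := hlK
      hQ := hQ
      hS := hS'p
      aQ := aQ
      aS := aS'
      hSQ := hS'Q
      hfV := hfV
      hfaith := hfaith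
      hsub := by
        intro Q' hQ'Q hQ'ne hfQ' hhQ' hS'Q' x hx y hy
        have hlt : Nat.card Q' < Nat.card Q := card_lt_of_lt' (lt_of_le_of_ne hQ'Q hQ'ne)
        have key := ih (Nat.card Q' + finrank K V) (by omega) Γ V ρ Q' S' f h rfl (hQ.to_le hQ'Q)
          hS'p (aQ.sub hQ'Q hfQ' hhQ') aS' hS'Q' hfV x hx y hy
        exact hcomm_of x (hQ'Q hx) y (hS'S hy) key
      hSmin := by
        intro S'' hle hne hf'' hh'' x hx y hy
        exact hcomm_of x hx y (hS'S (hle hy)) (hmin S'' hle hne hf'' hh'' x hx y hy)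
      hY := by
        intro Y hYtop hYQ hYS hYf hYh x hx y hy v hv
        have hQΓ : Q ≤ stabSub ρ Y := fun x hx => mem_stabSub_of_le (hYQ x hx)
        have hSΓ : S' ≤ stabSub ρ Y := fun y hy => mem_stabSub_of_le (hYS y hy)
        have hfΓ : f ∈ stabSub ρ Y := mem_stabSub_of_le hYf
        have hhΓ : h ∈ stabSub ρ Y := mem_stabSub_of_le hYh
        have hlt : finrank K ↥Y < finrank K V := Submodule.finrank_lt hYtop
        have hcardQ : Nat.card ↥(Q.subgroupOf (stabSub ρ Y)) = Nat.card Q :=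
          Nat.card_congr (Subgroup.subgroupOfEquivOfLe hQΓ).toEquiv
        have key := ih (Nat.card ↥(Q.subgroupOf (stabSub ρ Y)) + finrank K ↥Y) (by omega)
          ↥(stabSub ρ Y) ↥Y (repOn ρ Y) (Q.subgroupOf (stabSub ρ Y)) (S'.subgroupOf (stabSub ρ Y))
          ⟨f, hfΓ⟩ ⟨h, hhΓ⟩ rfl hQ.comap_subtype hS'p.comap_subtype
          (aQ.subtype _ hfΓ hhΓ) (aS'.subtype _ hfΓ hhΓ)
          (by
            intro y hy
            apply mem_normalizer_of_conj_mem
            intro x hx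
            rw [mem_subgroupOf] at hx hy ⊢
            simp only [Subgroup.coe_mul, Subgroup.coe_inv]
            exact hSQ' _ (hS'S hy) _ hx)
          (by
            intro v h1 h2
            apply Subtype.ext
            apply hfV
            · exact congrArg Subtype.val h1
            · exact congrArg Subtype.val h2)
        have h5 := key ⟨x, hQΓ hx⟩ (mem_subgroupOf.mpr hx) ⟨y, hSΓ hy⟩ (mem_subgroupOf.mpr hy)
        exact congrArg (fun φ => ((φ ⟨v, hv⟩ : ↥Y) : V)) h5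
      hne := by
        obtain ⟨x, hx, y, hy, hxy⟩ := hbad
        refine ⟨x, hx, y, hy, ?_⟩
        intro e
        apply hxy
        rw [commutatorElement_eq_one_iff_mul_comm.mpr e, map_one] }
  exact c.false

/-- the key theorem, for all sizes -/
theorem key_all {t s p l : ℕ} (ht : t.Prime) (hs : s.Prime) (hts : t ≠ s)
    (htK : (t : K) ≠ 0) (hpK : (p : K) ≠ 0) (hlK : (l : K) ≠ 0) (n : ℕ) :
    KeyAt.{u, v} K t s p l n := by
  induction n using Nat.strong_induction_on with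
  | _ n ih => exact key_step ht hs hts htK hpK hlK n ih

/-- **the key theorem**: if a Frobenius group `⟨f⟩ ⋊ ⟨h⟩` of order `p l` acts without fixed points
on a `t`-group `Q`, on an `s`-group `S` normalising `Q`, and on `V`, then `[Q, S]` acts trivially
on `V` -/
theorem key {t s p l : ℕ} (ht : t.Prime) (hs : s.Prime) (hts : t ≠ s)
    (htK : (t : K) ≠ 0) (hpK : (p : K) ≠ 0) (hlK : (l : K) ≠ 0)
    {Γ : Type u} [Group Γ] [Finite Γ] {V : Type v} [AddCommGroup V] [Module K V]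
    [FiniteDimensional K V] (ρ : Representation K Γ V) {Q S : Subgroup Γ} {f h : Γ}
    (hQ : IsPGroup t Q) (hS : IsPGroup s S) (aQ : FAct p l Q f h) (aS : FAct p l S f h)
    (hSQ : S ≤ normalizer (Q : Set Γ)) (hfV : ∀ v : V, ρ f v = v → ρ h v = v → v = 0) :
    ∀ x ∈ Q, ∀ y ∈ S, ρ ⁅x, y⁆ = 1 :=
  key_all ht hs hts htK hpK hlK _ Γ V ρ Q S f h rfl hQ hS aQ aS hSQ hfV

end

end Cfsg.Agent.Lib.Helper23.PQ
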