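import Mathlib
import Cfsg.Agent.Lib.Helper23.WardI

set_option autoImplicit false
set_option linter.unusedSectionVars false

namespace Cfsg.Agent.Lib.Helper23.Ward

open Subgroup Module
open scoped commutatorElement TensorProduct
open Cfsg.Agent.Lib.Helper17.ESMod

universe u

/-- an `r`-group of automorphisms of a finite group of order divisible by `r` has a nontrivial
fixed point -/
theorem exists_fixed_of_pgroup {T : Type*} [Group T] {E : Type*} [Group E] [Finite E] {r : ℕ}
    [Fact r.Prime] (ψ : T →* MulAut E) (R : Subgroup T) (hR : IsPGroup r R)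
    (hdvd : r ∣ Nat.card E) : ∃ m : E, m ≠ 1 ∧ ∀ g ∈ R, ψ g m = m := by
  let _ : MulAction ↥R E := MulAction.compHom E (ψ.comp R.subtype)
  have h1 : (1 : E) ∈ MulAction.fixedPoints ↥R E := by
    intro g
    show (ψ.comp R.subtype g) • (1 : E) = 1
    rw [MulAut.smul_def, map_one]
  obtain ⟨b, hb, hne⟩ := hR.exists_fixed_point_of_prime_dvd_card_of_fixed_point E hdvd h1
  refine ⟨b, hne.symm, ?_⟩
  intro g hg
  exact hb ⟨g, hg⟩

/-- **Proposition N**: `G / C_G(M)` is nilpotent for a minimal normal subgroup `M` of `Γ` in `G`. -/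
theorem propN {Γ : Type u} [Group Γ] [Finite Γ] {p : ℕ} {G A : Subgroup Γ} (h : WH Γ p G A)
    {M : Subgroup Γ} (hM : Cfsg.Agent.Lib.Helper1.IsMinNormal M) (hMG : M ≤ G) :
    ∃ j : ℕ, G.lowerCentralSeries j ≤ centralizer (M : Set Γ) := by
  have hΓs := h.hΓs
  have hMn : M.Normal := hM.1
  have hGn := h.hGn
  have hMc : IsMulCommutative M := hM.isMulCommutative
  obtain ⟨r, hr, hMr⟩ := hM.exists_prime_pow_eq_one
  have : Fact r.Prime := ⟨hr⟩
  obtain ⟨m₀, hm₀, hm₀1⟩ : ∃ m ∈ M, m ≠ 1 := by
    by_contra hcon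
    push Not at hcon
    exact hM.2.1 ((Subgroup.eq_bot_iff_forall _).mpr hcon)
  have hMpg : IsPGroup r ↥M := fun x => ⟨1, by
    rw [pow_one]; exact Subtype.ext (by simpa using hMr x x.2)⟩
  have hrM : r ∣ Nat.card ↥M := by
    obtain ⟨n, hn⟩ := IsPGroup.iff_card.mp hMpg
    rcases n with _ | n
    · exfalso
      rw [pow_zero] at hn
      have := Subgroup.card_eq_one.mp hn
      exact hM.2.1 this
    · rw [hn]
      exact dvd_pow_self r (Nat.succ_ne_zero n)
  have hrp : p ≠ r := by
    intro e
    have h1 : r ∣ Nat.card G := hrM.trans (Subgroup.card_dvd_of_le hMG)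
    have h2 : (p ^ 2).Coprime (Nat.card G) := h.hAcard ▸ h.hcop
    have h3 : r ∣ Nat.gcd (p ^ 2) (Nat.card G) :=
      Nat.dvd_gcd (e ▸ dvd_pow_self p two_ne_zero) h1
    rw [Nat.Coprime.gcd_eq_one h2] at h3
    exact hr.one_lt.ne' (Nat.dvd_one.mp h3)
  -- the conjugation action
  have hφ : ∀ (g : Γ) (m : ↥M), ((MulAut.conjNormal g m : ↥M) : Γ) = g * m * g⁻¹ :=
    fun g m => MulAut.conjNormal_apply g m
  have hcent : ∀ g : Γ, (∀ m : ↥M, MulAut.conjNormal g m = m) → g ∈ centralizer (M : Set Γ) := by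
    intro g hg
    rw [mem_centralizer_iff]
    intro m hm
    have h1 := congrArg Subtype.val (hg ⟨m, hm⟩)
    rw [hφ] at h1
    simp only at h1
    calc m * g = (g * m * g⁻¹) * g := by rw [h1]
      _ = g * m := by group
  set X : Subgroup Γ := G ⊓ centralizer (M : Set Γ) with hX
  have hXn : X.Normal := inferInstance
  have hXker : X ≤ (MulAut.conjNormal : Γ →* MulAut ↥M).ker := by
    intro x hx
    rw [MonoidHom.mem_ker]
    ext m
    rw [hφ, MulAut.one_apply]
    have h1 := (mem_centralizer_iff.mp hx.2) m m.2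
    rw [← h1]
    group
  set ψ : Γ ⧸ X →* MulAut ↥M := QuotientGroup.lift X MulAut.conjNormal hXker with hψdef
  have hψ : ∀ g : Γ, ψ (QuotientGroup.mk' X g) = MulAut.conjNormal g := fun g => rfl
  obtain ⟨W, iA, iM, iF, ρ₀, e, he, he1⟩ := exists_rep_of_aut (T := Γ ⧸ X) (r := r) (E := ↥M)
    (fun a b => Subtype.ext (setLike_mul_comm a.2 b.2)) (fun a => Subtype.ext (by simpa using hMr a a.2)) ψ
  have hWH := h.quot X inf_le_left
  have hΓs' := hWH.hΓs
  have hpK : (p : AlgebraicClosure (ZMod r)) ≠ 0 := fun h0 =>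
    hrp (natCast_algClosure_eq_zero h.hp h0)
  have hnil : Group.IsNilpotent ↥(G.map (QuotientGroup.mk' X)) := by
    apply nilp_faithful (K := AlgebraicClosure (ZMod r)) (V := AlgebraicClosure (ZMod r) ⊗[ZMod r] W)
      hWH.hp hWH.hGn hWH.hA hWH.hAcard hWH.hcop hWH.hf (bcRep (AlgebraicClosure (ZMod r)) ρ₀)
    · -- faithful
      rintro _ ⟨g, hg, rfl⟩ h1
      rw [bcRep_eq_one_iff] at h1
      have h2 : g ∈ centralizer (M : Set Γ) := by
        apply hcent
        intro m
        have h3 := he (QuotientGroup.mk' X g) m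
        rw [h1, Module.End.one_apply] at h3
        have h4 := e.injective h3
        rw [hψ] at h4
        exact h4.symm
      exact (QuotientGroup.eq_one_iff g).mpr ⟨hg, h2⟩
    · -- fixed points on V
      apply bcRep_fix_subgroup (AlgebraicClosure (ZMod r)) ρ₀ (A.map (QuotientGroup.mk' X))
      · rw [hWH.hAcard, Nat.cast_pow]
        exact pow_ne_zero _ hpK
      · intro w hw
        obtain ⟨m, rfl⟩ := e.surjective w
        have h1 : ∀ a ∈ A, a * (m : Γ) = (m : Γ) * a := by
          intro a ha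
          have h2 := hw _ (Subgroup.mem_map_of_mem (QuotientGroup.mk' X) ha)
          rw [he] at h2
          have h3 := e.injective h2
          rw [hψ] at h3
          have h4 := congrArg Subtype.val h3
          rw [hφ] at h4
          calc a * (m : Γ) = (a * m * a⁻¹) * a := by group
            _ = (m : Γ) * a := by rw [h4]
        have h5 : (m : Γ) = 1 := h.hf _ (hMG m.2) h1
        have h6 : m = 1 := Subtype.ext h5
        rw [h6, he1]
    · -- O_r = 1
      intro q hq hqK R' hR'G hR'n hR'q
      have hqr : q = r := natCast_algClosure_eq_zero hq hqK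
      subst hqr
      obtain ⟨m, hm1, hmfix⟩ := exists_fixed_of_pgroup ψ R' hR'q hrM
      have hRn : (R'.comap (QuotientGroup.mk' X)).Normal := hR'n.comap _
      set C : Subgroup Γ := M ⊓ centralizer ((R'.comap (QuotientGroup.mk' X) : Subgroup Γ) : Set Γ)
        with hC
      have hCn : C.Normal := inferInstance
      have hmC : (m : Γ) ∈ C := by
        refine ⟨m.2, ?_⟩
        show (m : Γ) ∈ centralizer ((R'.comap (QuotientGroup.mk' X) : Subgroup Γ) : Set Γ)
        rw [mem_centralizer_iff]
        intro g hg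
        have h1 := hmfix _ hg
        rw [hψ] at h1
        have h2 := congrArg Subtype.val h1
        rw [hφ] at h2
        calc g * (m : Γ) = (g * m * g⁻¹) * g := by group
          _ = (m : Γ) * g := by rw [h2]
      have hCM : C = M := by
        rcases hM.2.2 C hCn inf_le_left with h0 | h0
        · exfalso
          rw [h0, Subgroup.mem_bot] at hmC
          exact hm1 (Subtype.ext hmC)
        · exact h0
      have hMc' : M ≤ centralizer ((R'.comap (QuotientGroup.mk' X) : Subgroup Γ) : Set Γ) := by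
        rw [← hCM]
        exact inf_le_right
      have hRc : R'.comap (QuotientGroup.mk' X) ≤ centralizer (M : Set Γ) :=
        Subgroup.le_centralizer_iff.mp hMc'
      rw [eq_bot_iff]
      intro x' hx'
      obtain ⟨g, rfl⟩ := QuotientGroup.mk'_surjective X x'
      have hgR : g ∈ R'.comap (QuotientGroup.mk' X) := hx'
      obtain ⟨g₀, hg₀, hg₀g⟩ := hR'G hx'
      have h2 : g₀⁻¹ * g ∈ X := by
        rw [← QuotientGroup.eq_one_iff]
        show QuotientGroup.mk' X (g₀⁻¹ * g) = 1
        rw [map_mul, map_inv, hg₀g, inv_mul_cancel]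
      have hgG : g ∈ G := by
        have e' : g = g₀ * (g₀⁻¹ * g) := by group
        rw [e']
        exact G.mul_mem hg₀ h2.1
      rw [Subgroup.mem_bot]
      exact (QuotientGroup.eq_one_iff g).mpr ⟨hgG, hRc hgR⟩
  obtain ⟨j, hj⟩ := (isNilpotent_iff_lowerCentralSeries _).mp hnil
  refine ⟨j, ?_⟩
  rw [← map_lowerCentralSeries] at hj
  intro x hx
  have h1 : QuotientGroup.mk' X x ∈ (G.lowerCentralSeries j).map (QuotientGroup.mk' X) :=
    Subgroup.mem_map_of_mem _ hx
  rw [hj, Subgroup.mem_bot] at h1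
  exact ((QuotientGroup.eq_one_iff x).mp h1).2

end Cfsg.Agent.Lib.Helper23.Ward
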