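import Mathlib
import Cfsg.Agent.Lib.Helper23.S3G
import Cfsg.Agent.Lib.Helper23.WardJ

set_option autoImplicit false
set_option linter.unusedSectionVars false

namespace Cfsg.Agent.Lib.Helper23.S3

open Module Subgroup
open Cfsg.Agent.Lib.Helper23.Ward
open scoped commutatorElement

universe u

theorem five_le_of_prime_dvd_coprime_six {q n : ℕ} (hq : q.Prime) (hdvd : q ∣ n)
    (hn : n.Coprime 6) : 5 ≤ q := by
  have h6 : q.Coprime 6 := Nat.Coprime.coprime_dvd_left hdvd hn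
  have h2 : q ≠ 2 := by
    rintro rfl
    norm_num at h6
  have h3 : q ≠ 3 := by
    rintro rfl
    norm_num at h6
  have h4 : q ≠ 4 := by
    rintro rfl
    norm_num at hq
  have := hq.two_le
  omega

theorem dvd_card_of_isPGroup_ne_bot {Γ : Type*} [Group Γ] [Finite Γ] {q : ℕ} (hq : q.Prime)
    {Q : Subgroup Γ} (hQ : IsPGroup q Q) (hQ1 : Q ≠ ⊥) : q ∣ Nat.card Q := by
  have : Fact q.Prime := ⟨hq⟩
  obtain ⟨n, hn⟩ := IsPGroup.iff_card.mp hQ
  rcases n with _ | n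
  · exfalso
    rw [pow_zero] at hn
    exact hQ1 (Subgroup.card_eq_one.mp hn)
  · rw [hn]; exact dvd_pow_self q (Nat.succ_ne_zero n)

/-- the global hypotheses: `G` is a normal subgroup of the finite solvable group `Γ`, of order prime
to `6`, and `f`, `h` generate a quotient `A` of `S₃` acting fixed-point-freely on `G` -/
structure SH (Γ : Type*) [Group Γ] (G A : Subgroup Γ) (f h : Γ) : Prop where
  hGn : G.Normal
  hΓs : Group.IsSolvable Γ
  act : Act G f h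
  hfA : f ∈ A
  hhA : h ∈ A
  hAcl : A ≤ closure {f, h}
  hAcard : Nat.card A ∣ 6

variable {Γ : Type*} [Group Γ] {G A : Subgroup Γ} {f h : Γ}

namespace SH

theorem le_normalizer [Finite Γ] (s : SH Γ G A f h) {Y : Subgroup Γ} (hfY : ∀ x ∈ Y, f * x * f⁻¹ ∈ Y)
    (hhY : ∀ x ∈ Y, h * x * h⁻¹ ∈ Y) : A ≤ normalizer (Y : Set Γ) := by
  refine s.hAcl.trans ?_
  rw [closure_le]
  intro g hg
  rcases hg with hg | hg
  · rw [hg]; exact mem_normalizer_of_conj_mem hfY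
  · have : g = h := hg
    rw [this]; exact mem_normalizer_of_conj_mem hhY

theorem conj_f (s : SH Γ G A f h) {Y : Subgroup Γ} (hAY : A ≤ normalizer (Y : Set Γ)) :
    ∀ x ∈ Y, f * x * f⁻¹ ∈ Y := fun x hx => (mem_normalizer_iff.mp (hAY s.hfA) x).mp hx

theorem conj_h (s : SH Γ G A f h) {Y : Subgroup Γ} (hAY : A ≤ normalizer (Y : Set Γ)) :
    ∀ x ∈ Y, h * x * h⁻¹ ∈ Y := fun x hx => (mem_normalizer_iff.mp (hAY s.hhA) x).mp hx

theorem cop [Finite Γ] (s : SH Γ G A f h) {Y : Subgroup Γ} (hYG : Y ≤ G) :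
    (Nat.card A).Coprime (Nat.card Y) := by
  have h1 : (Nat.card Y).Coprime 6 :=
    Nat.Coprime.coprime_dvd_left (Subgroup.card_dvd_of_le hYG) s.act.hcop
  exact (Nat.Coprime.coprime_dvd_right s.hAcard h1).symm

theorem actSub [Finite Γ] (s : SH Γ G A f h) {Y : Subgroup Γ} (hYG : Y ≤ G)
    (hAY : A ≤ normalizer (Y : Set Γ)) : Act Y f h :=
  s.act.sub hYG (s.conj_f hAY) (s.conj_h hAY)

theorem map [Finite Γ] (s : SH Γ G A f h) {Γ' : Type*} [Group Γ'] (ψ : Γ →* Γ')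
    (hψ : Function.Surjective ψ) : SH Γ' (G.map ψ) (A.map ψ) (ψ f) (ψ h) where
  hGn := s.hGn.map ψ hψ
  hΓs := by
    have := s.hΓs
    exact Group.isSolvable_of_surjective hψ
  act := s.act.map ψ
  hfA := mem_map_of_mem ψ s.hfA
  hhA := mem_map_of_mem ψ s.hhA
  hAcl := by
    have := Subgroup.map_mono (f := ψ) s.hAcl
    rw [MonoidHom.map_closure, Set.image_pair] at this
    exact this
  hAcard := (Subgroup.card_map_dvd A ψ).trans s.hAcard

end SH

variable {K : Type*} [Field K] {V : Type u} [AddCommGroup V] [Module K V]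

/-- a normal `q`-subgroup of `G` is abelian -/
theorem core_abelian [Finite Γ] [IsAlgClosed K] [FiniteDimensional K V]
    (s : SH Γ G A f h) (ρ : Representation K Γ V) (hfaith : ∀ x ∈ G, ρ x = 1 → x = 1)
    (h2K : (2 : K) ≠ 0) (h3K : (3 : K) ≠ 0)
    (hfV : ∀ v : V, ρ f v = v → ρ h v = v → v = 0)
    (hOr : ∀ q : ℕ, q.Prime → (q : K) = 0 → ∀ R : Subgroup Γ, R ≤ G → R.Normal →
      IsPGroup q R → R = ⊥)
    {q : ℕ} (hq : q.Prime) {Q : Subgroup Γ} (hQG : Q ≤ G) (hQn : Q.Normal) (hQ : IsPGroup q Q) :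
    ∀ x ∈ Q, ∀ y ∈ Q, x * y = y * x := by
  have : Fact q.Prime := ⟨hq⟩
  by_cases hQ1 : Q = ⊥
  · intro x hx y _
    rw [hQ1, Subgroup.mem_bot] at hx
    rw [hx, one_mul, mul_one]
  by_cases hqK : (q : K) = 0
  · exact absurd (hOr q hq hqK Q hQG hQn hQ) hQ1
  have hdvd : q ∣ Nat.card Q := dvd_card_of_isPGroup_ne_bot hq hQ hQ1
  have hq5 : 5 ≤ q :=
    five_le_of_prime_dvd_coprime_six hq (hdvd.trans (card_dvd_of_le hQG)) s.act.hcop
  have aQ : Act Q f h := s.actSub hQG (le_normalizer_of_normal hQn)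
  have H : HypA ρ q Q f h :=
    { act := aQ, ht := hq, ht5 := hq5, hQ := hQ, htK := hqK, h2K := h2K, h3K := h3K, hfV := hfV }
  intro x hx y hy
  have h1 := lemmaA H x hx y hy
  have h2 : ρ ⁅x, y⁆ = 1 := LinearMap.ext h1
  have h3 : ⁅x, y⁆ ∈ G := by
    rw [commutatorElement_def]
    exact G.mul_mem (G.mul_mem (G.mul_mem (hQG hx) (hQG hy)) (G.inv_mem (hQG hx)))
      (G.inv_mem (hQG hy))
  exact commutatorElement_eq_one_iff_mul_comm.mp (hfaith _ h3 h2)

/-- `G` acting faithfully on a module without `S₃`-fixed vectors with `O_r(G) = 1` (`r` the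
characteristic) is nilpotent -/
theorem nilp_faithful3 [Finite Γ] [IsAlgClosed K] [FiniteDimensional K V]
    (s : SH Γ G A f h) (ρ : Representation K Γ V) (hfaith : ∀ x ∈ G, ρ x = 1 → x = 1)
    (h2K : (2 : K) ≠ 0) (h3K : (3 : K) ≠ 0)
    (hfV : ∀ v : V, ρ f v = v → ρ h v = v → v = 0)
    (hOr : ∀ q : ℕ, q.Prime → (q : K) = 0 → ∀ R : Subgroup Γ, R ≤ G → R.Normal →
      IsPGroup q R → R = ⊥) :
    Group.IsNilpotent G := by
  classical
  have hΓs := s.hΓs
  have hHn := s.hGn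
  let 𝓢 : Set (Subgroup Γ) := {N | N ≤ G ∧ N.Normal ∧ Group.IsNilpotent N}
  have hne : 𝓢.Nonempty := ⟨⊥, bot_le, inferInstance, inferInstance⟩
  obtain ⟨F, ⟨hFH, hFn, hFnil⟩, hFmax⟩ := (wellFounded_gt (α := Subgroup Γ)).has_min 𝓢 hne
  by_contra hHnil
  have hFne : F ≠ G := fun e => hHnil (e ▸ hFnil)
  have hπs : Function.Surjective (QuotientGroup.mk' F) := QuotientGroup.mk'_surjective F
  have hHbar : (G.map (QuotientGroup.mk' F)).Normal := hHn.map (QuotientGroup.mk' F) hπs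
  have hHbar1 : G.map (QuotientGroup.mk' F) ≠ ⊥ := by
    intro h0
    apply hFne
    apply le_antisymm hFH
    intro x hx
    have : QuotientGroup.mk' F x ∈ G.map (QuotientGroup.mk' F) := Subgroup.mem_map_of_mem _ hx
    rw [h0, Subgroup.mem_bot] at this
    exact (QuotientGroup.eq_one_iff x).mp this
  obtain ⟨Mb, hMb, hMbH⟩ :=
    Cfsg.Agent.Lib.Helper1.exists_isMinNormal_le (G.map (QuotientGroup.mk' F)) hHbar hHbar1
  obtain ⟨s', hs, hMbs⟩ := hMb.exists_prime_isPGroup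
  have : Fact s'.Prime := ⟨hs⟩
  set H₁ : Subgroup Γ := Mb.comap (QuotientGroup.mk' F) with hH₁
  have hH₁n : H₁.Normal := hMb.1.comap (QuotientGroup.mk' F)
  have hFH₁ : F ≤ H₁ := by
    intro x hx
    show QuotientGroup.mk' F x ∈ Mb
    have : QuotientGroup.mk' F x = 1 := (QuotientGroup.eq_one_iff x).mpr hx
    rw [this]
    exact Mb.one_mem
  have hH₁H : H₁ ≤ G := by
    intro x hx
    obtain ⟨g, hg, hgx⟩ := hMbH hx
    have h2 : g⁻¹ * x ∈ F := by
      rw [← QuotientGroup.eq_one_iff]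
      show QuotientGroup.mk' F (g⁻¹ * x) = 1
      rw [map_mul, map_inv, hgx, inv_mul_cancel]
    have e : x = g * (g⁻¹ * x) := by group
    rw [e]
    exact G.mul_mem hg (hFH h2)
  have hmapH₁ : H₁.map (QuotientGroup.mk' F) = Mb := Subgroup.map_comap_eq_self_of_surjective hπs Mb
  have hH₁F : H₁ ≠ F := by
    intro e
    apply hMb.2.1
    rw [← hmapH₁, e]
    exact QuotientGroup.map_mk'_self F
  have hcopH₁ : (Nat.card A).Coprime (Nat.card H₁) := s.cop hH₁H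
  have hAsolv : Group.IsSolvable A := inferInstance
  obtain ⟨S₁, hS₁, hFsS₁, hAS₁⟩ := Cfsg.Agent.Lib.Helper8.exists_invariant_isSylIn_ge (A := A)
    (L := H₁) (le_normalizer_of_normal hH₁n) hcopH₁ (Or.inl hAsolv) s' (Cfsg.pCoreOf s' F)
    ((pCoreOf_le s' F).trans hFH₁) (pCoreOf_isPGroup s' F)
    (le_normalizer_of_normal (pCoreOf_normal s' F))
  have hS₁H : S₁ ≤ G := hS₁.1.trans hH₁H
  have hcomm : ∀ q : ℕ, q.Prime → q ≠ s' → ∀ x ∈ Cfsg.pCoreOf q F, ∀ y ∈ S₁, x * y = y * x := by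
    intro q hq hqs x hx y hy
    have : Fact q.Prime := ⟨hq⟩
    have hQn : (Cfsg.pCoreOf q F).Normal := pCoreOf_normal q F
    have hQH : Cfsg.pCoreOf q F ≤ G := (pCoreOf_le q F).trans hFH
    by_cases hqK : (q : K) = 0
    · have h0 := hOr q hq hqK _ hQH hQn (pCoreOf_isPGroup q F)
      rw [h0, Subgroup.mem_bot] at hx
      rw [hx, one_mul, mul_one]
    have hQab := core_abelian s ρ hfaith h2K h3K hfV hOr hq hQH hQn (pCoreOf_isPGroup q F)
    have aQ : Act (Cfsg.pCoreOf q F) f h := s.actSub hQH (le_normalizer_of_normal hQn)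
    have aS : Act S₁ f h := s.actSub hS₁H hAS₁
    exact lemmaB ρ hq hs hqs hqK h2K h3K (pCoreOf_isPGroup q F) hS₁.isPGroup aQ aS
      (le_normalizer_of_normal hQn) hQab (fun x hx => hfaith x (hQH hx)) hfV x hx y hy
  have hH₁le : H₁ ≤ F ⊔ S₁ := by
    rw [← Subgroup.relIndex_eq_one]
    have h1 : (F ⊔ S₁).relIndex H₁ ∣ F.relIndex H₁ :=
      Subgroup.relIndex_dvd_of_le_left H₁ le_sup_left
    have h2 : (F ⊔ S₁).relIndex H₁ ∣ S₁.relIndex H₁ :=
      Subgroup.relIndex_dvd_of_le_left H₁ le_sup_right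
    have h3 : F.relIndex H₁ = Nat.card Mb := by
      have e : F = (⊥ : Subgroup (Γ ⧸ F)).comap (QuotientGroup.mk' F) := by
        rw [MonoidHom.comap_bot, QuotientGroup.ker_mk']
      conv_lhs => rw [e]
      rw [Subgroup.relIndex_comap, hmapH₁, Subgroup.relIndex_bot_left]
    have h4 : ¬ s' ∣ S₁.relIndex H₁ := by
      have := (hS₁.toSylow).not_dvd_index
      exact this
    obtain ⟨n, hn⟩ := IsPGroup.iff_card.mp hMbs
    rw [h3, hn] at h1
    obtain ⟨j, -, hj⟩ := (Nat.dvd_prime_pow hs).mp h1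
    rcases j with _ | j
    · rw [hj, pow_zero]
    · exfalso
      apply h4
      exact dvd_trans (hj ▸ dvd_pow_self s' (Nat.succ_ne_zero j)) h2
  set X : Subgroup Γ := ⨆ q : {q : Nat.Primes // (q : ℕ) ≠ s'}, Cfsg.pCoreOf (q.1 : ℕ) F with hX
  have hXF : X ≤ F := iSup_le (fun q => pCoreOf_le _ F)
  have hXnil : Group.IsNilpotent X := isNilpotent_of_le hXF hFnil
  have hS₁nil : Group.IsNilpotent S₁ := hS₁.isPGroup.isNilpotent
  have hXc : X ≤ centralizer (S₁ : Set Γ) := by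
    apply iSup_le
    intro q x hx
    rw [mem_centralizer_iff]
    intro y hy
    exact (hcomm q.1 q.1.2 q.2 x hx y hy).symm
  have hXY : ∀ x ∈ X, ∀ y ∈ S₁, x * y = y * x := by
    intro x hx y hy
    exact ((mem_centralizer_iff.mp (hXc hx)) y hy).symm
  have hF_le : F ≤ X ⊔ S₁ := by
    have e := eq_iSup_pCoreOf F hFnil
    calc F = ⨆ q : Nat.Primes, Cfsg.pCoreOf (q : ℕ) F := e
      _ ≤ X ⊔ S₁ := by
        apply iSup_le
        intro q
        by_cases hq : (q : ℕ) = s'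
        · rw [hq]
          exact hFsS₁.trans le_sup_right
        · exact (le_iSup (fun q' : {q : Nat.Primes // (q : ℕ) ≠ s'} =>
            Cfsg.pCoreOf (q'.1 : ℕ) F) ⟨q, hq⟩).trans le_sup_left
  have hH₁eq : H₁ = X ⊔ S₁ :=
    le_antisymm (hH₁le.trans (sup_le hF_le le_sup_right)) (sup_le (hXF.trans hFH₁) hS₁.1)
  have hH₁nil : Group.IsNilpotent H₁ := by
    rw [hH₁eq]
    exact isNilpotent_sup_of_commute hXnil hS₁nil hXY
  exact hFmax H₁ ⟨hH₁H, hH₁n, hH₁nil⟩ (lt_of_le_of_ne hFH₁ (Ne.symm hH₁F))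

/-- in the same situation `G` is abelian -/
theorem abelian_faithful [Finite Γ] [IsAlgClosed K] [FiniteDimensional K V]
    (s : SH Γ G A f h) (ρ : Representation K Γ V) (hfaith : ∀ x ∈ G, ρ x = 1 → x = 1)
    (h2K : (2 : K) ≠ 0) (h3K : (3 : K) ≠ 0)
    (hfV : ∀ v : V, ρ f v = v → ρ h v = v → v = 0)
    (hOr : ∀ q : ℕ, q.Prime → (q : K) = 0 → ∀ R : Subgroup Γ, R ≤ G → R.Normal →
      IsPGroup q R → R = ⊥) :
    ∀ x ∈ G, ∀ y ∈ G, x * y = y * x := by
  classical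
  have hGn := s.hGn
  have hnil := nilp_faithful3 s ρ hfaith h2K h3K hfV hOr
  have e := eq_iSup_pCoreOf G hnil
  have hpair : ∀ q q' : Nat.Primes, ∀ x ∈ Cfsg.pCoreOf (q : ℕ) G, ∀ y ∈ Cfsg.pCoreOf (q' : ℕ) G,
      x * y = y * x := by
    intro q q' x hx y hy
    have : Fact (q : ℕ).Prime := ⟨q.2⟩
    have : Fact (q' : ℕ).Prime := ⟨q'.2⟩
    by_cases hqq : (q : ℕ) = (q' : ℕ)
    · rw [← hqq] at hy
      exact core_abelian s ρ hfaith h2K h3K hfV hOr q.2 (pCoreOf_le _ G) (pCoreOf_normal _ G)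
        (pCoreOf_isPGroup _ G) x hx y hy
    · have hdis : Disjoint (Cfsg.pCoreOf (q : ℕ) G) (Cfsg.pCoreOf (q' : ℕ) G) :=
        IsPGroup.disjoint_of_ne (q : ℕ) (q' : ℕ) hqq _ _ (pCoreOf_isPGroup _ G)
          (pCoreOf_isPGroup _ G)
      exact Subgroup.commute_of_normal_of_disjoint _ _ (pCoreOf_normal _ G) (pCoreOf_normal _ G)
        hdis x y hx hy
  have hle : (⨆ q : Nat.Primes, Cfsg.pCoreOf (q : ℕ) G) ≤
      centralizer (((⨆ q : Nat.Primes, Cfsg.pCoreOf (q : ℕ) G : Subgroup Γ)) : Set Γ) := by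
    apply iSup_le
    intro q
    rw [Subgroup.le_centralizer_iff]
    apply iSup_le
    intro q' y hy
    rw [mem_centralizer_iff]
    intro x hx
    exact hpair q q' x hx y hy
  intro x hx y hy
  have hx' : x ∈ ⨆ q : Nat.Primes, Cfsg.pCoreOf (q : ℕ) G := by
    rw [← e]; exact hx
  have hy' : y ∈ ⨆ q : Nat.Primes, Cfsg.pCoreOf (q : ℕ) G := by
    rw [← e]; exact hy
  exact ((mem_centralizer_iff.mp (hle hx')) y hy').symm

end Cfsg.Agent.Lib.Helper23.S3
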