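import Mathlib
import Cfsg.Agent.Lib.Helper23.S3H

set_option autoImplicit false
set_option linter.unusedSectionVars false

namespace Cfsg.Agent.Lib.Helper23.S3

open Module Subgroup
open Cfsg.Agent.Lib.Helper23.Ward
open scoped commutatorElement TensorProduct
open Cfsg.Agent.Lib.Helper17.ESMod

universe u

/-- a vector fixed by `f` and `h` is fixed by the subgroup they generate -/
theorem fixed_of_mem_closure {K : Type*} [Field K] {Γ : Type*} [Group Γ] {V : Type*}
    [AddCommGroup V] [Module K V] (ρ : Representation K Γ V) {f h : Γ} {v : V}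
    (hf : ρ f v = v) (hh : ρ h v = v) : ∀ a ∈ closure ({f, h} : Set Γ), ρ a v = v := by
  let Sv : Subgroup Γ :=
    { carrier := {g | ρ g v = v}
      mul_mem' := by
        intro a b ha hb
        show ρ (a * b) v = v
        rw [rho_mul_apply, (show ρ b v = v from hb), (show ρ a v = v from ha)]
      one_mem' := by
        show ρ 1 v = v
        rw [map_one, Module.End.one_apply]
      inv_mem' := by
        intro a ha
        show ρ a⁻¹ v = v
        have h1 := rho_inv_apply ρ a v
        rw [(show ρ a v = v from ha)] at h1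
        exact h1 }
  have hle : closure ({f, h} : Set Γ) ≤ Sv := by
    rw [closure_le]
    intro g hg
    rcases hg with hg | hg
    · rw [hg]; exact hf
    · have : g = h := hg
      rw [this]; exact hh
  intro a ha
  exact hle ha

/-- **Proposition N** for `S₃`: `G / C_G(M)` is abelian for a minimal normal subgroup `M` of `Γ`
inside `G` -/
theorem propN3 {Γ : Type u} [Group Γ] [Finite Γ] {G A : Subgroup Γ} {f h : Γ} (s : SH Γ G A f h)
    {M : Subgroup Γ} (hM : Cfsg.Agent.Lib.Helper1.IsMinNormal M) (hMG : M ≤ G) :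
    ∀ x ∈ G, ∀ y ∈ G, ⁅x, y⁆ ∈ centralizer (M : Set Γ) := by
  have hΓs := s.hΓs
  have hMn : M.Normal := hM.1
  have hGn := s.hGn
  have hMc : IsMulCommutative M := hM.isMulCommutative
  obtain ⟨r, hr, hMr⟩ := hM.exists_prime_pow_eq_one
  have : Fact r.Prime := ⟨hr⟩
  have hMpg : IsPGroup r ↥M := fun x => ⟨1, by
    rw [pow_one]; exact Subtype.ext (by simpa using hMr x x.2)⟩
  have hrM : r ∣ Nat.card ↥M := dvd_card_of_isPGroup_ne_bot hr hMpg hM.2.1
  have hr5 : 5 ≤ r :=
    five_le_of_prime_dvd_coprime_six hr (hrM.trans (Subgroup.card_dvd_of_le hMG)) s.act.hcop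
  -- the conjugation action
  have hφ : ∀ (g : Γ) (m : ↥M), ((MulAut.conjNormal g m : ↥M) : Γ) = g * m * g⁻¹ :=
    fun g m => MulAut.conjNormal_apply g m
  have hcent : ∀ g : Γ, (∀ m : ↥M, MulAut.conjNormal g m = m) → g ∈ centralizer (M : Set Γ) := by
    intro g hg
    rw [mem_centralizer_iff]
    intro m hm
    have h1 := congrArg Subtype.val (hg ⟨m, hm⟩)
    rw [hφ] at h1
    simp only at h1
    calc m * g = (g * m * g⁻¹) * g := by rw [h1]
      _ = g * m := by group
  set X : Subgroup Γ := G ⊓ centralizer (M : Set Γ) with hX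
  have hXn : X.Normal := inferInstance
  have hXker : X ≤ (MulAut.conjNormal : Γ →* MulAut ↥M).ker := by
    intro x hx
    rw [MonoidHom.mem_ker]
    ext m
    rw [hφ, MulAut.one_apply]
    have h1 := (mem_centralizer_iff.mp hx.2) m m.2
    rw [← h1]
    group
  set ψ : Γ ⧸ X →* MulAut ↥M := QuotientGroup.lift X MulAut.conjNormal hXker with hψdef
  have hψ : ∀ g : Γ, ψ (QuotientGroup.mk' X g) = MulAut.conjNormal g := fun g => rfl
  obtain ⟨W, iA, iM, iF, ρ₀, e, he, he1⟩ := exists_rep_of_aut (T := Γ ⧸ X) (r := r) (E := ↥M)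
    (fun a b => Subtype.ext (setLike_mul_comm a.2 b.2))
    (fun a => Subtype.ext (by simpa using hMr a a.2)) ψ
  have hSH := s.map (QuotientGroup.mk' X) (QuotientGroup.mk'_surjective X)
  have hΓs' := hSH.hΓs
  have h2K : (2 : AlgebraicClosure (ZMod r)) ≠ 0 := by
    intro h0
    have h1 : ((2 : ℕ) : AlgebraicClosure (ZMod r)) = 0 := by exact_mod_cast h0
    have := natCast_algClosure_eq_zero Nat.prime_two h1
    omega
  have h3K : (3 : AlgebraicClosure (ZMod r)) ≠ 0 := by
    intro h0
    have h1 : ((3 : ℕ) : AlgebraicClosure (ZMod r)) = 0 := by exact_mod_cast h0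
    have := natCast_algClosure_eq_zero Nat.prime_three h1
    omega
  have hAK : (Nat.card (A.map (QuotientGroup.mk' X)) : AlgebraicClosure (ZMod r)) ≠ 0 := by
    obtain ⟨c, hc⟩ := hSH.hAcard
    have h6 : ((6 : ℕ) : AlgebraicClosure (ZMod r)) ≠ 0 := by
      have e6 : ((6 : ℕ) : AlgebraicClosure (ZMod r)) = 2 * 3 := by norm_num
      rw [e6]
      exact mul_ne_zero h2K h3K
    intro h0
    apply h6
    rw [hc, Nat.cast_mul, h0, zero_mul]
  have hab : ∀ x ∈ G.map (QuotientGroup.mk' X), ∀ y ∈ G.map (QuotientGroup.mk' X),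
      x * y = y * x := by
    apply abelian_faithful (K := AlgebraicClosure (ZMod r))
      (V := AlgebraicClosure (ZMod r) ⊗[ZMod r] W) hSH (bcRep (AlgebraicClosure (ZMod r)) ρ₀)
      ?_ h2K h3K ?_ ?_
    · -- faithful
      rintro _ ⟨g, hg, rfl⟩ h1
      rw [bcRep_eq_one_iff] at h1
      have h2 : g ∈ centralizer (M : Set Γ) := by
        apply hcent
        intro m
        have h3 := he (QuotientGroup.mk' X g) m
        rw [h1, Module.End.one_apply] at h3
        have h4 := e.injective h3
        rw [hψ] at h4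
        exact h4.symm
      exact (QuotientGroup.eq_one_iff g).mpr ⟨hg, h2⟩
    · -- fixed points on V
      intro v hvf hvh
      apply bcRep_fix_subgroup (AlgebraicClosure (ZMod r)) ρ₀ (A.map (QuotientGroup.mk' X)) hAK
        ?_ v
      · intro a ha
        exact fixed_of_mem_closure _ hvf hvh a (hSH.hAcl ha)
      · intro w hw
        obtain ⟨m, rfl⟩ := e.surjective w
        have h1 : ∀ a ∈ A, a * (m : Γ) = (m : Γ) * a := by
          intro a ha
          have h2 := hw _ (Subgroup.mem_map_of_mem (QuotientGroup.mk' X) ha)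
          rw [he] at h2
          have h3 := e.injective h2
          rw [hψ] at h3
          have h4 := congrArg Subtype.val h3
          rw [hφ] at h4
          calc a * (m : Γ) = (a * m * a⁻¹) * a := by group
            _ = (m : Γ) * a := by rw [h4]
        have h5 : (m : Γ) = 1 := s.act.hfpf _ (hMG m.2) (h1 f s.hfA) (h1 h s.hhA)
        have h6 : m = 1 := Subtype.ext h5
        rw [h6, he1]
    · -- O_r = 1
      intro q hq hqK R' hR'G hR'n hR'q
      have hqr : q = r := natCast_algClosure_eq_zero hq hqK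
      subst hqr
      obtain ⟨m, hm1, hmfix⟩ := exists_fixed_of_pgroup ψ R' hR'q hrM
      have hRn : (R'.comap (QuotientGroup.mk' X)).Normal := hR'n.comap _
      set C : Subgroup Γ := M ⊓ centralizer ((R'.comap (QuotientGroup.mk' X) : Subgroup Γ) : Set Γ)
        with hC
      have hCn : C.Normal := inferInstance
      have hmC : (m : Γ) ∈ C := by
        refine ⟨m.2, ?_⟩
        show (m : Γ) ∈ centralizer ((R'.comap (QuotientGroup.mk' X) : Subgroup Γ) : Set Γ)
        rw [mem_centralizer_iff]
        intro g hg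
        have h1 := hmfix _ hg
        rw [hψ] at h1
        have h2 := congrArg Subtype.val h1
        rw [hφ] at h2
        calc g * (m : Γ) = (g * m * g⁻¹) * g := by group
          _ = (m : Γ) * g := by rw [h2]
      have hCM : C = M := by
        rcases hM.2.2 C hCn inf_le_left with h0 | h0
        · exfalso
          rw [h0, Subgroup.mem_bot] at hmC
          exact hm1 (Subtype.ext hmC)
        · exact h0
      have hMc' : M ≤ centralizer ((R'.comap (QuotientGroup.mk' X) : Subgroup Γ) : Set Γ) := by
        rw [← hCM]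
        exact inf_le_right
      have hRc : R'.comap (QuotientGroup.mk' X) ≤ centralizer (M : Set Γ) :=
        Subgroup.le_centralizer_iff.mp hMc'
      rw [eq_bot_iff]
      intro x' hx'
      obtain ⟨g, rfl⟩ := QuotientGroup.mk'_surjective X x'
      have hgR : g ∈ R'.comap (QuotientGroup.mk' X) := hx'
      obtain ⟨g₀, hg₀, hg₀g⟩ := hR'G hx'
      have h2 : g₀⁻¹ * g ∈ X := by
        rw [← QuotientGroup.eq_one_iff]
        show QuotientGroup.mk' X (g₀⁻¹ * g) = 1
        rw [map_mul, map_inv, hg₀g, inv_mul_cancel]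
      have hgG : g ∈ G := by
        have e' : g = g₀ * (g₀⁻¹ * g) := by group
        rw [e']
        exact G.mul_mem hg₀ h2.1
      rw [Subgroup.mem_bot]
      exact (QuotientGroup.eq_one_iff g).mpr ⟨hgG, hRc hgR⟩
  intro x hx y hy
  have h1 := hab _ (Subgroup.mem_map_of_mem (QuotientGroup.mk' X) hx) _
    (Subgroup.mem_map_of_mem (QuotientGroup.mk' X) hy)
  have h2 : QuotientGroup.mk' X ⁅x, y⁆ = 1 := by
    rw [map_commutatorElement]
    exact commutatorElement_eq_one_iff_mul_comm.mpr h1
  exact ((QuotientGroup.eq_one_iff _).mp h2).2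

/-- **the theorem on fixed-point-free actions of `S₃`**, internal form -/
theorem s3_internal : ∀ (n : ℕ) (Γ : Type u) [Group Γ] [Finite Γ] (G A : Subgroup Γ) (f h : Γ),
    SH Γ G A f h → Nat.card G = n → Group.IsNilpotent ↥⁅G, G⁆ := by
  intro n
  induction n using Nat.strong_induction_on with
  | _ n ih =>
    intro Γ _ _ G A f h s hn
    by_cases hG1 : G = ⊥
    · have h0 : ⁅G, G⁆ ≤ (⊥ : Subgroup Γ) := by
        rw [hG1, Subgroup.commutator_bot_left]
      exact isNilpotent_of_le h0 inferInstance
    have hGn := s.hGn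
    obtain ⟨M, hM, hMG⟩ := Cfsg.Agent.Lib.Helper1.exists_isMinNormal_le G hGn hG1
    have hMn := hM.1
    have hSH := s.map (QuotientGroup.mk' M) (QuotientGroup.mk'_surjective M)
    have hcard : Nat.card M * Nat.card (G.map (QuotientGroup.mk' M)) = Nat.card G := by
      have h1 := Subgroup.relIndex_mul_relIndex (⊥ : Subgroup Γ) M G bot_le hMG
      rw [Subgroup.relIndex_bot_left, Subgroup.relIndex_bot_left] at h1
      have e : M = (⊥ : Subgroup (Γ ⧸ M)).comap (QuotientGroup.mk' M) := by
        rw [MonoidHom.comap_bot, QuotientGroup.ker_mk']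
      have h2 : M.relIndex G = Nat.card (G.map (QuotientGroup.mk' M)) := by
        conv_lhs => rw [e]
        rw [Subgroup.relIndex_comap, Subgroup.relIndex_bot_left]
      rw [← h2]
      exact h1
    have hM1 : 1 < Nat.card M := by
      rw [Subgroup.one_lt_card_iff_ne_bot]
      exact hM.2.1
    have hlt : Nat.card (G.map (QuotientGroup.mk' M)) < n := by
      rw [← hn, ← hcard]
      have hpos : 0 < Nat.card (G.map (QuotientGroup.mk' M)) := Nat.card_pos
      nlinarith
    have hnil := ih _ hlt (Γ ⧸ M) (G.map (QuotientGroup.mk' M)) (A.map (QuotientGroup.mk' M))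
      _ _ hSH rfl
    rw [← Subgroup.map_commutator] at hnil
    have hcent : ⁅G, G⁆ ≤ centralizer (M : Set Γ) := by
      rw [Subgroup.commutator_le]
      exact propN3 s hM hMG
    apply Subgroup.isNilpotent_of_ker_le_center ((QuotientGroup.mk' M).subgroupMap ⁅G, G⁆)
    intro x hx
    rw [MonoidHom.mem_ker] at hx
    have h1 : QuotientGroup.mk' M (x : Γ) = 1 := congrArg Subtype.val hx
    have h2 : (x : Γ) ∈ M := (QuotientGroup.eq_one_iff _).mp h1
    rw [Subgroup.mem_center_iff]
    intro g
    apply Subtype.ext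
    rw [Subgroup.coe_mul, Subgroup.coe_mul]
    exact (mem_centralizer_iff.mp (hcent g.2)) _ h2 |>.symm

end Cfsg.Agent.Lib.Helper23.S3
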