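import Mathlib
import Cfsg.Agent.Lib.Helper23.PQ14

/-!
# helper23: fixed-point-free actions of a Frobenius group of order `p l`: Fitting height two
-/

set_option autoImplicit false
set_option linter.unusedSectionVars false
set_option linter.style.haveILetI false

namespace Cfsg.Agent.Lib.Helper23.PQ

open Module
open Cfsg.Agent.Lib.Helper23.Ward
open Cfsg.Agent.Lib.Helper23.S3 (rho_mul_apply mem_normalizer_of_conj_mem conj_inv_mem_of_finite
  dvd_card_of_isPGroup_ne_bot fixed_of_mem_closure)
open scoped commutatorElement TensorProduct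
open Cfsg.Agent.Lib.Helper17.ESMod

universe u

variable {p l : ℕ}

/-- **Proposition N**: `G / C_G(M)` is nilpotent for a minimal normal subgroup `M` of `Γ` inside
`G`: some term of the lower central series of `G` centralises `M` -/
theorem propN {Γ : Type u} [Group Γ] [Finite Γ] {G A : Subgroup Γ} {f h : Γ}
    (s : SHpq Γ p l G A f h) {M : Subgroup Γ} (hM : Cfsg.Agent.Lib.Helper1.IsMinNormal M)
    (hMG : M ≤ G) : ∃ c : ℕ, G.lowerCentralSeries c ≤ Subgroup.centralizer (M : Set Γ) := by
  have hΓs := s.hΓs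
  have hMn : M.Normal := hM.1
  have hGn := s.hGn
  have hMc : IsMulCommutative M := hM.isMulCommutative
  obtain ⟨r, hr, hMr⟩ := hM.exists_prime_pow_eq_one
  have : Fact r.Prime := ⟨hr⟩
  have hMpg : IsPGroup r ↥M := fun x => ⟨1, by
    rw [pow_one]; exact Subtype.ext (by simpa using hMr x x.2)⟩
  have hrM : r ∣ Nat.card ↥M := dvd_card_of_isPGroup_ne_bot hr hMpg hM.2.1
  have hrG : r ∣ Nat.card ↥G := hrM.trans (Subgroup.card_dvd_of_le hMG)
  have hrcop : r.Coprime (p * l) := Nat.Coprime.coprime_dvd_left hrG s.act.hcop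
  have hrp : r.Coprime p := Nat.Coprime.coprime_dvd_right (dvd_mul_right p l) hrcop
  have hrl : r.Coprime l := Nat.Coprime.coprime_dvd_right (dvd_mul_left l p) hrcop
  -- the conjugation action
  have hφ : ∀ (g : Γ) (m : ↥M), ((MulAut.conjNormal g m : ↥M) : Γ) = g * m * g⁻¹ :=
    fun g m => MulAut.conjNormal_apply g m
  have hcent : ∀ g : Γ, (∀ m : ↥M, MulAut.conjNormal g m = m) →
      g ∈ Subgroup.centralizer (M : Set Γ) := by
    intro g hg
    rw [Subgroup.mem_centralizer_iff]
    intro m hm
    have h1 := congrArg Subtype.val (hg ⟨m, hm⟩)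
    rw [hφ] at h1
    simp only at h1
    calc m * g = (g * m * g⁻¹) * g := by rw [h1]
      _ = g * m := by group
  set X : Subgroup Γ := G ⊓ Subgroup.centralizer (M : Set Γ) with hX
  have hXn : X.Normal := inferInstance
  have hXker : X ≤ (MulAut.conjNormal : Γ →* MulAut ↥M).ker := by
    intro x hx
    rw [MonoidHom.mem_ker]
    ext m
    rw [hφ, MulAut.one_apply]
    have h1 := (Subgroup.mem_centralizer_iff.mp hx.2) m m.2
    rw [← h1]
    group
  set ψ : Γ ⧸ X →* MulAut ↥M := QuotientGroup.lift X MulAut.conjNormal hXker with hψdef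
  have hψ : ∀ g : Γ, ψ (QuotientGroup.mk' X g) = MulAut.conjNormal g := fun g => rfl
  obtain ⟨W, iA, iM, iF, ρ₀, e, he, he1⟩ := exists_rep_of_aut (T := Γ ⧸ X) (r := r) (E := ↥M)
    (fun a b => Subtype.ext (setLike_mul_comm a.2 b.2))
    (fun a => Subtype.ext (by simpa using hMr a a.2)) ψ
  have hSH := s.map (QuotientGroup.mk' X) (QuotientGroup.mk'_surjective X)
  have hΓs' := hSH.hΓs
  have hpK : (p : AlgebraicClosure (ZMod r)) ≠ 0 := natCast_algClosure_ne_zero hrp.symm
  have hlK : (l : AlgebraicClosure (ZMod r)) ≠ 0 := natCast_algClosure_ne_zero hrl.symm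
  have hAK : (Nat.card (A.map (QuotientGroup.mk' X)) : AlgebraicClosure (ZMod r)) ≠ 0 := by
    apply natCast_algClosure_ne_zero
    exact (Nat.Coprime.coprime_dvd_right hSH.hAcard hrcop).symm
  have hnil : Group.IsNilpotent ↥(G.map (QuotientGroup.mk' X)) := by
    apply nilp_faithful (K := AlgebraicClosure (ZMod r))
      (V := AlgebraicClosure (ZMod r) ⊗[ZMod r] W) hSH (bcRep (AlgebraicClosure (ZMod r)) ρ₀)
      ?_ hpK hlK ?_ ?_
    · -- faithful
      rintro _ ⟨g, hg, rfl⟩ h1
      rw [bcRep_eq_one_iff] at h1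
      have h2 : g ∈ Subgroup.centralizer (M : Set Γ) := by
        apply hcent
        intro m
        have h3 := he (QuotientGroup.mk' X g) m
        rw [h1, Module.End.one_apply] at h3
        have h4 := e.injective h3
        rw [hψ] at h4
        exact h4.symm
      exact (QuotientGroup.eq_one_iff g).mpr ⟨hg, h2⟩
    · -- fixed points on V
      intro v hvf hvh
      apply bcRep_fix_subgroup (AlgebraicClosure (ZMod r)) ρ₀ (A.map (QuotientGroup.mk' X)) hAK
        ?_ v
      · intro a ha
        exact fixed_of_mem_closure _ hvf hvh a (hSH.hAcl ha)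
      · intro w hw
        obtain ⟨m, rfl⟩ := e.surjective w
        have h1 : ∀ a ∈ A, a * (m : Γ) = (m : Γ) * a := by
          intro a ha
          have h2 := hw _ (Subgroup.mem_map_of_mem (QuotientGroup.mk' X) ha)
          rw [he] at h2
          have h3 := e.injective h2
          rw [hψ] at h3
          have h4 := congrArg Subtype.val h3
          rw [hφ] at h4
          calc a * (m : Γ) = (a * m * a⁻¹) * a := by group
            _ = (m : Γ) * a := by rw [h4]
        have h5 : (m : Γ) = 1 := s.act.hfpf _ (hMG m.2) (h1 f s.hfA) (h1 h s.hhA)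
        have h6 : m = 1 := Subtype.ext h5
        rw [h6, he1]
    · -- O_r = 1
      intro q hq hqK R' hR'G hR'n hR'q
      have hqr : q = r := natCast_algClosure_eq_zero hq hqK
      subst hqr
      obtain ⟨m, hm1, hmfix⟩ := exists_fixed_of_pgroup ψ R' hR'q hrM
      have hRn : (R'.comap (QuotientGroup.mk' X)).Normal := hR'n.comap _
      set C : Subgroup Γ :=
        M ⊓ Subgroup.centralizer ((R'.comap (QuotientGroup.mk' X) : Subgroup Γ) : Set Γ) with hC
      have hCn : C.Normal := inferInstance
      have hmC : (m : Γ) ∈ C := by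
        refine ⟨m.2, ?_⟩
        show (m : Γ) ∈ Subgroup.centralizer ((R'.comap (QuotientGroup.mk' X) : Subgroup Γ) : Set Γ)
        rw [Subgroup.mem_centralizer_iff]
        intro g hg
        have h1 := hmfix _ hg
        rw [hψ] at h1
        have h2 := congrArg Subtype.val h1
        rw [hφ] at h2
        calc g * (m : Γ) = (g * m * g⁻¹) * g := by group
          _ = (m : Γ) * g := by rw [h2]
      have hCM : C = M := by
        rcases hM.2.2 C hCn inf_le_left with h0 | h0
        · exfalso
          rw [h0, Subgroup.mem_bot] at hmC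
          exact hm1 (Subtype.ext hmC)
        · exact h0
      have hMc' : M ≤ Subgroup.centralizer ((R'.comap (QuotientGroup.mk' X) : Subgroup Γ) : Set Γ) := by
        rw [← hCM]
        exact inf_le_right
      have hRc : R'.comap (QuotientGroup.mk' X) ≤ Subgroup.centralizer (M : Set Γ) :=
        Subgroup.le_centralizer_iff.mp hMc'
      rw [eq_bot_iff]
      intro x' hx'
      obtain ⟨g, rfl⟩ := QuotientGroup.mk'_surjective X x'
      have hgR : g ∈ R'.comap (QuotientGroup.mk' X) := hx'
      obtain ⟨g₀, hg₀, hg₀g⟩ := hR'G hx'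
      have h2 : g₀⁻¹ * g ∈ X := by
        rw [← QuotientGroup.eq_one_iff]
        show QuotientGroup.mk' X (g₀⁻¹ * g) = 1
        rw [map_mul, map_inv, hg₀g, inv_mul_cancel]
      have hgG : g ∈ G := by
        have e' : g = g₀ * (g₀⁻¹ * g) := by group
        rw [e']
        exact G.mul_mem hg₀ h2.1
      rw [Subgroup.mem_bot]
      exact (QuotientGroup.eq_one_iff g).mpr ⟨hgG, hRc hgR⟩
  obtain ⟨c, hc⟩ := (Subgroup.isNilpotent_iff_lowerCentralSeries _).mp hnil
  refine ⟨c, ?_⟩
  rw [← Subgroup.map_lowerCentralSeries] at hc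
  intro x hx
  have h1 : QuotientGroup.mk' X x ∈ (G.lowerCentralSeries c).map (QuotientGroup.mk' X) :=
    Subgroup.mem_map_of_mem _ hx
  rw [hc, Subgroup.mem_bot] at h1
  exact ((QuotientGroup.eq_one_iff x).mp h1).2

/-- **the theorem on fixed-point-free actions of a Frobenius group of order `p l`**, internal
form: some term of the lower central series of `G` is nilpotent -/
theorem pq_internal : ∀ (n : ℕ) (Γ : Type u) [Group Γ] [Finite Γ] (G A : Subgroup Γ) (f h : Γ),
    SHpq Γ p l G A f h → Nat.card G = n →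
    ∃ c : ℕ, Group.IsNilpotent ↥(G.lowerCentralSeries c) := by
  intro n
  induction n using Nat.strong_induction_on with
  | _ n ih =>
    intro Γ _ _ G A f h s hn
    by_cases hG1 : G = ⊥
    · refine ⟨0, ?_⟩
      rw [Subgroup.lowerCentralSeries_zero, hG1]
      infer_instance
    have hGn := s.hGn
    obtain ⟨M, hM, hMG⟩ := Cfsg.Agent.Lib.Helper1.exists_isMinNormal_le G hGn hG1
    have hMn := hM.1
    have hSH := s.map (QuotientGroup.mk' M) (QuotientGroup.mk'_surjective M)
    have hcard : Nat.card M * Nat.card (G.map (QuotientGroup.mk' M)) = Nat.card G := by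
      have h1 := Subgroup.relIndex_mul_relIndex (⊥ : Subgroup Γ) M G bot_le hMG
      rw [Subgroup.relIndex_bot_left, Subgroup.relIndex_bot_left] at h1
      have e : M = (⊥ : Subgroup (Γ ⧸ M)).comap (QuotientGroup.mk' M) := by
        rw [MonoidHom.comap_bot, QuotientGroup.ker_mk']
      have h2 : M.relIndex G = Nat.card (G.map (QuotientGroup.mk' M)) := by
        conv_lhs => rw [e]
        rw [Subgroup.relIndex_comap, Subgroup.relIndex_bot_left]
      rw [← h2]
      exact h1
    have hM1 : 1 < Nat.card M := by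
      rw [Subgroup.one_lt_card_iff_ne_bot]
      exact hM.2.1
    have hlt : Nat.card (G.map (QuotientGroup.mk' M)) < n := by
      rw [← hn, ← hcard]
      have hpos : 0 < Nat.card (G.map (QuotientGroup.mk' M)) := Nat.card_pos
      nlinarith
    obtain ⟨c₁, hnil⟩ := ih _ hlt (Γ ⧸ M) (G.map (QuotientGroup.mk' M))
      (A.map (QuotientGroup.mk' M)) _ _ hSH rfl
    rw [← Subgroup.map_lowerCentralSeries] at hnil
    obtain ⟨c₂, hcent⟩ := propN s hM hMG
    have hL1 : G.lowerCentralSeries (max c₁ c₂) ≤ G.lowerCentralSeries c₁ :=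
      Subgroup.lowerCentralSeries_antitone _ (le_max_left c₁ c₂)
    have hL2 : G.lowerCentralSeries (max c₁ c₂) ≤ Subgroup.centralizer (M : Set Γ) :=
      (Subgroup.lowerCentralSeries_antitone _ (le_max_right c₁ c₂)).trans hcent
    refine ⟨max c₁ c₂, ?_⟩
    have hnilL : Group.IsNilpotent
        ↥((G.lowerCentralSeries (max c₁ c₂)).map (QuotientGroup.mk' M)) :=
      isNilpotent_of_le (Subgroup.map_mono hL1) hnil
    apply Subgroup.isNilpotent_of_ker_le_center
      ((QuotientGroup.mk' M).subgroupMap (G.lowerCentralSeries (max c₁ c₂)))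
    intro x hx
    rw [MonoidHom.mem_ker] at hx
    have h1 : QuotientGroup.mk' M (x : Γ) = 1 := congrArg Subtype.val hx
    have h2 : (x : Γ) ∈ M := (QuotientGroup.eq_one_iff _).mp h1
    rw [Subgroup.mem_center_iff]
    intro g
    apply Subtype.ext
    rw [Subgroup.coe_mul, Subgroup.coe_mul]
    exact (Subgroup.mem_centralizer_iff.mp (hL2 g.2)) _ h2 |>.symm

end Cfsg.Agent.Lib.Helper23.PQ
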