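import Mathlib
import Cfsg.Agent.Lib.Helper23.PQ15

/-!
# helper23: generators of a nonabelian group of order `p q`
-/

set_option autoImplicit false
set_option linter.unusedSectionVars false
set_option linter.style.haveILetI false

namespace Cfsg.Agent.Lib.Helper23.PQ

open Subgroup
open scoped commutatorElement

/-- a group of order `p q` is solvable -/
theorem isSolvable_of_card_pq {A : Type*} [Group A] [Finite A] {p q : ℕ} (hp : p.Prime)
    (hq : q.Prime) (hpq : p ≠ q) (hA : Nat.card A = p * q) : Group.IsSolvable A := by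
  have hz : IsZGroup A := by
    apply IsZGroup.of_squarefree
    rw [hA, Nat.squarefree_mul_iff]
    exact ⟨(Nat.coprime_primes hp hq).mpr hpq, hp.squarefree, hq.squarefree⟩
  infer_instance

/-- a group generated by two commuting elements is commutative -/
theorem comm_of_closure_pair {A : Type*} [Group A] {a b : A} (hab : a * b = b * a)
    (hcl : closure ({a, b} : Set A) = ⊤) : ∀ x y : A, x * y = y * x := by
  have h1 : closure ({a, b} : Set A) ≤ centralizer ({a, b} : Set A) := by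
    rw [closure_le]
    intro g hg
    rw [SetLike.mem_coe, mem_centralizer_iff]
    intro k hk
    rcases hg with rfl | hg <;> rcases hk with rfl | hk
    · rfl
    · rw [Set.mem_singleton_iff.mp hk]; exact hab.symm
    · rw [Set.mem_singleton_iff.mp hg]; exact hab
    · rw [Set.mem_singleton_iff.mp hg, Set.mem_singleton_iff.mp hk]
  rw [hcl] at h1
  have h2 : closure ({a, b} : Set A) ≤ center A := by
    rw [closure_le]
    intro g hg
    rw [SetLike.mem_coe, mem_center_iff]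
    intro x
    have h3 := mem_centralizer_iff.mp (h1 (mem_top x)) g hg
    exact h3.symm
  rw [hcl] at h2
  intro x y
  exact mem_center_iff.mp (h2 (mem_top y)) x

/-- generators of a group of order `P L` whose derived subgroup has order `P` -/
theorem exists_frob_gens_aux {A : Type*} [Group A] [Finite A] {P L : ℕ} (hP : P.Prime)
    (hL : L.Prime) (hPL : P ≠ L) (hA : Nat.card A = P * L)
    (hN : Nat.card (commutator A) = P) :
    ∃ f₀ h₀ : A, f₀ ^ P = 1 ∧ h₀ ^ L = 1 ∧ (∀ j : ℕ, ∃ k : ℕ, h₀ ^ j * f₀ * (h₀ ^ j)⁻¹ = f₀ ^ k) ∧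
      (∀ j : ℕ, ¬ L ∣ j → ∃ c : ℕ, (h₀ ^ j * f₀ * (h₀ ^ j)⁻¹ * f₀⁻¹) ^ c = f₀) ∧
      closure ({f₀, h₀} : Set A) = ⊤ := by
  classical
  have : Fact P.Prime := ⟨hP⟩
  have : Fact L.Prime := ⟨hL⟩
  set N : Subgroup A := commutator A with hNdef
  have hNn : N.Normal := inferInstance
  -- a generator of `N`
  have hNnt : Nontrivial ↥N := by
    rw [← Finite.one_lt_card_iff_nontrivial, hN]
    exact hP.one_lt
  obtain ⟨f₁, hf₁⟩ := exists_ne (1 : ↥N)
  set f₀ : A := (f₁ : A) with hf₀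
  have hf₀N : f₀ ∈ N := f₁.2
  have hf₀1 : f₀ ≠ 1 := fun e => hf₁ (Subtype.ext e)
  have hf₀P : f₀ ^ P = 1 := by
    have h1 : f₁ ^ Nat.card ↥N = 1 := pow_card_eq_one'
    rw [hN] at h1
    exact congrArg Subtype.val h1
  have hordf : orderOf f₀ = P := orderOf_eq_prime hf₀P hf₀1
  have hzN : zpowers f₀ = N := by
    apply Subgroup.eq_of_le_of_card_ge
    · rw [zpowers_le]; exact hf₀N
    · rw [Nat.card_zpowers, hordf, hN]
  -- an element of order `L`
  obtain ⟨h₀, hordh⟩ := exists_prime_orderOf_dvd_card' L (by rw [hA]; exact dvd_mul_left L P)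
  have hh₀L : h₀ ^ L = 1 := by rw [← hordh]; exact pow_orderOf_eq_one h₀
  -- generation
  have hcl : closure ({f₀, h₀} : Set A) = ⊤ := by
    apply Subgroup.eq_top_of_card_eq
    apply Nat.dvd_antisymm (Subgroup.card_subgroup_dvd_card _)
    rw [hA]
    apply Nat.Coprime.mul_dvd_of_dvd_of_dvd ((Nat.coprime_primes hP hL).mpr hPL)
    · rw [← hordf, ← Nat.card_zpowers]
      apply Subgroup.card_dvd_of_le
      rw [zpowers_le]
      exact subset_closure (Set.mem_insert _ _)
    · rw [← hordh, ← Nat.card_zpowers]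
      apply Subgroup.card_dvd_of_le
      rw [zpowers_le]
      exact subset_closure (Set.mem_insert_of_mem _ rfl)
  have hconjN : ∀ (g x : A), x ∈ N → g * x * g⁻¹ ∈ N := fun g x hx => hNn.conj_mem x hx g
  refine ⟨f₀, h₀, hf₀P, hh₀L, ?_, ?_, hcl⟩
  · intro j
    have h1 : h₀ ^ j * f₀ * (h₀ ^ j)⁻¹ ∈ zpowers f₀ := by
      rw [hzN]
      exact hconjN _ _ hf₀N
    obtain ⟨k, hk⟩ :=
      Cfsg.Agent.Lib.Helper17.ESMod.exists_pow_of_mem_zpowers f₀ hP.pos hf₀P _ h1
    exact ⟨k, hk⟩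
  · intro j hj
    set c₀ : A := h₀ ^ j * f₀ * (h₀ ^ j)⁻¹ * f₀⁻¹ with hc₀
    have hc₀N : c₀ ∈ N := N.mul_mem (hconjN _ _ hf₀N) (N.inv_mem hf₀N)
    have hc₀1 : c₀ ≠ 1 := by
      intro e
      -- `h₀ ^ j` commutes with `f₀`
      have h1 : h₀ ^ j * f₀ = f₀ * h₀ ^ j := by
        have h2 : h₀ ^ j * f₀ * (h₀ ^ j)⁻¹ = f₀ := by
          have := mul_inv_eq_one.mp e
          exact this
        calc h₀ ^ j * f₀ = (h₀ ^ j * f₀ * (h₀ ^ j)⁻¹) * h₀ ^ j := by group
          _ = f₀ * h₀ ^ j := by rw [h2]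
      obtain ⟨m, hm⟩ := exists_pow_pow_eq hL hh₀L hj
      have h3 : h₀ * f₀ = f₀ * h₀ := by
        have c1 : Commute (h₀ ^ j) f₀ := h1
        have c2 := c1.pow_left m
        rw [hm] at c2
        exact c2
      have hcomm := comm_of_closure_pair h3.symm hcl
      -- then the derived subgroup is trivial
      have h4 : N = ⊥ := by
        rw [hNdef, commutator_def, Subgroup.commutator_eq_bot_iff_le_centralizer]
        intro x _
        rw [mem_centralizer_iff]
        intro y _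
        exact hcomm y x
      rw [h4, Subgroup.mem_bot] at hf₀N
      exact hf₀1 hf₀N
    have hc₀P : c₀ ^ P = 1 := by
      have h1 : (⟨c₀, hc₀N⟩ : ↥N) ^ Nat.card ↥N = 1 := pow_card_eq_one'
      rw [hN] at h1
      exact congrArg Subtype.val h1
    have hordc : orderOf c₀ = P := orderOf_eq_prime hc₀P hc₀1
    have hzc : zpowers c₀ = N := by
      apply Subgroup.eq_of_le_of_card_ge
      · rw [zpowers_le]; exact hc₀N
      · rw [Nat.card_zpowers, hordc, hN]
    have h5 : f₀ ∈ zpowers c₀ := by rw [hzc]; exact hf₀N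
    obtain ⟨c, hc⟩ :=
      Cfsg.Agent.Lib.Helper17.ESMod.exists_pow_of_mem_zpowers c₀ hP.pos hc₀P _ h5
    exact ⟨c, hc.symm⟩

/-- **generators of a nonabelian group of order `p q`** -/
theorem exists_frob_gens {A : Type*} [Group A] [Finite A] {p q : ℕ} (hp : p.Prime) (hq : q.Prime)
    (hpq : p ≠ q) (hA : Nat.card A = p * q) (hna : ¬ IsMulCommutative A) :
    ∃ (P L : ℕ) (f₀ h₀ : A), P.Prime ∧ L.Prime ∧ P * L = p * q ∧ f₀ ^ P = 1 ∧ h₀ ^ L = 1 ∧
      (∀ j : ℕ, ∃ k : ℕ, h₀ ^ j * f₀ * (h₀ ^ j)⁻¹ = f₀ ^ k) ∧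
      (∀ j : ℕ, ¬ L ∣ j → ∃ c : ℕ, (h₀ ^ j * f₀ * (h₀ ^ j)⁻¹ * f₀⁻¹) ^ c = f₀) ∧
      closure ({f₀, h₀} : Set A) = ⊤ := by
  have hsolv := isSolvable_of_card_pq hp hq hpq hA
  have hnt : Nontrivial A := by
    rw [← Finite.one_lt_card_iff_nontrivial, hA]
    exact Nat.one_lt_mul_iff.mpr ⟨hp.pos, hq.pos, Or.inl hp.one_lt⟩
  have h1 : commutator A ≠ ⊤ := (Group.IsSolvable.commutator_lt_top_of_nontrivial A).ne
  have h2 : commutator A ≠ ⊥ := by
    intro e
    apply hna
    refine ⟨⟨?_⟩⟩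
    intro a b
    have h3 : ⁅a, b⁆ ∈ commutator A := by
      rw [commutator_def]
      exact Subgroup.commutator_mem_commutator (mem_top a) (mem_top b)
    rw [e, Subgroup.mem_bot] at h3
    exact commutatorElement_eq_one_iff_mul_comm.mp h3
  have hd : Nat.card (commutator A) ∣ p * q := by
    rw [← hA]
    exact Subgroup.card_subgroup_dvd_card _
  have hd1 : Nat.card (commutator A) ≠ 1 := fun e => h2 (Subgroup.card_eq_one.mp e)
  have hdpq : Nat.card (commutator A) ≠ p * q := by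
    intro e
    apply h1
    apply Subgroup.eq_top_of_card_eq
    rw [e, hA]
  have hcases : Nat.card (commutator A) = p ∨ Nat.card (commutator A) = q := by
    by_cases hpd : p ∣ Nat.card (commutator A)
    · left
      obtain ⟨e, he⟩ := hpd
      rw [he] at hd hdpq
      have h3 : e ∣ q := Nat.dvd_of_mul_dvd_mul_left hp.pos hd
      rcases (Nat.dvd_prime hq).mp h3 with h4 | h4
      · rw [he, h4, mul_one]
      · exact absurd (by rw [h4]) hdpq
    · right
      have h3 : (Nat.card (commutator A)).Coprime p := (Nat.Prime.coprime_iff_not_dvd hp).mpr hpd |>.symm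
      have h4 : Nat.card (commutator A) ∣ q := h3.dvd_of_dvd_mul_left hd
      rcases (Nat.dvd_prime hq).mp h4 with h5 | h5
      · exact absurd h5 hd1
      · exact h5
  rcases hcases with hc | hc
  · obtain ⟨f₀, h₀, h3, h4, h5, h6, h7⟩ := exists_frob_gens_aux hp hq hpq hA hc
    exact ⟨p, q, f₀, h₀, hp, hq, rfl, h3, h4, h5, h6, h7⟩
  · obtain ⟨f₀, h₀, h3, h4, h5, h6, h7⟩ :=
      exists_frob_gens_aux hq hp (Ne.symm hpq) (by rw [hA, mul_comm]) hc
    exact ⟨q, p, f₀, h₀, hq, hp, mul_comm q p, h3, h4, h5, h6, h7⟩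

end Cfsg.Agent.Lib.Helper23.PQ
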