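/-
helper23: S4892 core, part A.  *Good* extensions of a principal-block character `θ` of `N ⊴ X`:
`χ` is good when its relative central character is congruent to the augmentation on every
`N`-invariant integer-valued function.  In the covering situation `X = N C` (`C` a subgroup whose
elements have `N`-classes of size prime to `p`) this is equivalent to `χ(c)/χ(1) ≡ 1` on `C`; good
extensions lie in the principal block and exist as soon as `θ` extends.
-/
import Mathlib
import Cfsg.Agent.Lib.Helper23.RelCentD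
import Cfsg.Agent.Lib.Helper6.AbelianQuot
import Cfsg.Agent.Lib.Helper6.LinChar

set_option autoImplicit false

namespace Cfsg.Agent.Lib.Helper23.PRat

open Representation Module Cfsg Cfsg.Agent.Lib.Helper24 Cfsg.Agent.Lib.Helper6 Cfsg.Agent.CharLib
  Cfsg.Agent.Lib.Helper23.RelCent

universe u

variable {X : Type u} [Group X] [Fintype X]

/-- `χ` is *good* relative to `N`: `ω_χ(a) ≡ ∑ a` for the `N`-invariant integer-valued `a`. -/
def Good (M : Ideal AlgInt) (N : Subgroup X) (χ : X → ℂ) : Prop :=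
  ∀ a : X → ℂ, NInv N a → IntVal a → MemLocalIdeal M (omegaFun χ a - ∑ g : X, a g)

theorem omega_eq_omegaFun {n : ℕ} (ρ : Representation ℂ X (Fin n → ℂ)) (a : X → ℂ) :
    omega ρ a = omegaFun ρ.character a := by
  unfold omega omegaFun
  rw [Representation.char_one]

theorem rr_eq_div {n : ℕ} (ρ : Representation ℂ X (Fin n → ℂ)) (c : X) :
    rr ρ c = ρ.character c / ρ.character 1 := by
  unfold rr
  rw [Representation.char_one]

section cover

variable {p : ℕ} [Fact p.Prime] {M : Ideal AlgInt} (hM : IsPModular p M) (N : Subgroup X)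
  [N.Normal] (θ : IrrCharacter N) (hθ : θ ∈ principalBlock M N)

include hM hθ

/-- In the covering situation, `χ(c)/χ(1) ≡ 1` on `C` makes the extension `χ` good. -/
theorem good_of_div_sub_one (C : Subgroup X) (hCp : ∀ c ∈ C, ¬ p ∣ nCard N c)
    (hcov : ∀ g : X, ∃ c ∈ C, g * c⁻¹ ∈ N) {χ : X → ℂ} (hχ : IsIrrCharacter X χ)
    (hχN : ∀ x : N, χ x = (θ : N → ℂ) x)
    (h1 : ∀ c ∈ C, MemLocalIdeal M (χ c / χ 1 - 1)) : Good M N χ := by
  obtain ⟨n, ρ, hρirr, hρχ⟩ := hχ
  have hρN : ∀ x : N, ρ.character x = (θ : N → ℂ) x := by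
    intro x
    rw [hρχ]
    exact hχN x
  haveI hirrN : (resRep ρ N).IsIrreducible := isIrreducible_resRep ρ N θ hρN
  have h0 : AugOnN ρ N M := augOnN_of_principal ρ N hM θ hθ hρN
  have hkey : ∀ c ∈ C, MemLocalIdeal M (rr ρ c - 1) := by
    intro c hc
    rw [rr_eq_div, hρχ]
    exact h1 c hc
  intro a ha hi
  have := omega_sub_sum ρ N hM h0 C hCp hcov hkey ha hi
  rw [omega_eq_omegaFun, hρχ] at this
  exact this

omit hθ in
/-- A good character satisfies `χ(c)/χ(1) ≡ 1` at the elements with `N`-class of `p'`-size. -/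
theorem div_sub_one_of_good {χ : X → ℂ} (hχ : IsIrrCharacter X χ) (hg : Good M N χ) {c : X}
    (hc : ¬ p ∣ nCard N c) : MemLocalIdeal M (χ c / χ 1 - 1) := by
  obtain ⟨n, ρ, hρirr, hρχ⟩ := hχ
  have h1 := hg (nInd N c) (nInd_ninv N c) (nInd_intVal N c)
  rw [← hρχ, ← omega_eq_omegaFun, omega_nInd, sum_nInd, rr_eq_div, hρχ] at h1
  apply memLocalIdeal_of_natCast_mul hM hc
  have h2 : (nCard N c : ℂ) * (χ c / χ 1 - 1) = (nCard N c : ℂ) * (χ c / χ 1) - (nCard N c : ℂ) := by
    ring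
  rw [h2]
  exact h1

omit hM hθ in
/-- Good characters lie in the principal block. -/
theorem mem_principalBlock_of_good (χ : IrrCharacter X) (hg : Good M N (χ : X → ℂ)) :
    χ ∈ principalBlock M X := by
  obtain ⟨n, ρ, hρirr, hρχ⟩ := χ.2
  have hω : ∀ a : X → ℂ, NInv N a → IntVal a → MemLocalIdeal M (omega ρ a - ∑ g : X, a g) := by
    intro a ha hi
    rw [omega_eq_omegaFun, hρχ]
    exact hg a ha hi
  intro g
  have := sameBlock_one_of_omega ρ N hω g
  rw [hρχ] at this
  exact this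

/-- If `θ` extends to `X` it has a good extension. -/
theorem exists_good_extension (C : Subgroup X) (hCp : ∀ c ∈ C, ¬ p ∣ nCard N c)
    (hcov : ∀ g : X, ∃ c ∈ C, g * c⁻¹ ∈ N)
    (hext : ∃ ψ : X → ℂ, IsIrrCharacter X ψ ∧ ∀ x : N, ψ x = (θ : N → ℂ) x) :
    ∃ χ : X → ℂ, IsIrrCharacter X χ ∧ (∀ x : N, χ x = (θ : N → ℂ) x) ∧ Good M N χ := by
  classical
  have hprime : M.IsPrime := isPrime_of_isPModular hM
  obtain ⟨ψ, hψirr, hψ⟩ := hext
  obtain ⟨n, ρ, hρirr, hρχ⟩ := hψirr
  have hρN : ∀ x : N, ρ.character x = (θ : N → ℂ) x := by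
    intro x
    rw [hρχ]
    exact hψ x
  haveI hirrN : (resRep ρ N).IsIrreducible := isIrreducible_resRep ρ N θ hρN
  have h0 : AugOnN ρ N M := augOnN_of_principal ρ N hM θ hθ hρN
  obtain ⟨β, hβN, hβC⟩ := exists_linear_lift hM N C hcov (rr ρ)
    (fun c hc => memLocalRing_rr ρ N hM (hCp c hc))
    (fun c hc d hd => rr_mul ρ N hM h0 (hCp c hc) (hCp d hd) (hCp _ (C.mul_mem hc hd))
      (hCp _ (C.inv_mem (C.mul_mem hc hd))))
    (fun m hmC hmN => rr_sub_one_of_mem ρ N hM h0 hmN (hCp m hmC))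
  set lam : X → ℂ := fun g => ((β⁻¹ g : ℂˣ) : ℂ) with hlamdef
  have hlam : IsCharacter X lam := isCharacter_of_hom β⁻¹
  have hlam1 : lam 1 = 1 := by
    simp only [hlamdef, map_one, Units.val_one]
  have hlamβ : ∀ g : X, lam g * ((β g : ℂˣ) : ℂ) = 1 := by
    intro g
    simp only [hlamdef, MonoidHom.inv_apply]
    rw [← Units.val_mul, inv_mul_cancel, Units.val_one]
  have hlamloc : ∀ g : X, MemLocalRing M (lam g) := by
    intro g
    apply memLocalRing_of_isIntegral
    apply isIntegral_of_pow_eq_one (e := Nat.card X) Nat.card_pos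
    simp only [hlamdef]
    rw [← Units.val_pow_eq_pow_val, ← map_pow, pow_card_eq_one', map_one, Units.val_one]
  have hψirr' : IsIrrCharacter X ψ := ⟨n, ρ, hρirr, hρχ⟩
  have hχirr : IsIrrCharacter X (lam * ψ) := isIrrCharacter_linear_mul hlam hlam1 hψirr'
  have hlamN : ∀ x : N, lam x = 1 := by
    intro x
    simp only [hlamdef, MonoidHom.inv_apply]
    rw [hβN x x.2, inv_one, Units.val_one]
  have hχN : ∀ x : N, (lam * ψ) x = (θ : N → ℂ) x := by
    intro x
    rw [Pi.mul_apply, hlamN, one_mul]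
    exact hψ x
  refine ⟨lam * ψ, hχirr, hχN, ?_⟩
  apply good_of_div_sub_one hM N θ hθ C hCp hcov hχirr hχN
  intro c hc
  have hrr : (lam * ψ) c / (lam * ψ) 1 = lam c * rr ρ c := by
    rw [Pi.mul_apply, Pi.mul_apply, hlam1, one_mul, rr_eq_div, hρχ, mul_div_assoc]
  have h1 : (lam * ψ) c / (lam * ψ) 1 - 1 = lam c * (-(((β c : ℂˣ) : ℂ) - rr ρ c)) := by
    rw [hrr, ← hlamβ c]
    ring
  rw [h1]
  exact memLocalIdeal_mul_left (hlamloc c) (memLocalIdeal_neg (hβC c hc))

end cover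

end Cfsg.Agent.Lib.Helper23.PRat
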