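/-
helper23: S4892 core, part B.  Among the good extensions of `θ` (degree prime to `p`, determinantal
order prime to `p`) exactly one has determinantal order prime to `p`.
-/
import Mathlib
import Cfsg.Agent.Lib.Helper23.PRatCoreA
import Cfsg.Agent.Lib.Helper6.Gallagher
import Cfsg.Agent.Lib.Helper6.Gallagher2
import Cfsg.Agent.Lib.Helper6.DetChar

set_option autoImplicit false

namespace Cfsg.Agent.Lib.Helper23.PRat

open Representation Module Cfsg Cfsg.Agent.Lib.Helper24 Cfsg.Agent.Lib.Helper6 Cfsg.Agent.CharLib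
  Cfsg.Agent.Lib.Helper23.RelCent

universe u

/-! ### Arithmetic -/

theorem exists_mul_add_one_dvd {p d t : ℕ} (s : ℕ) (hp : p.Prime) (hd : ¬ p ∣ d) (ht : ¬ p ∣ t) :
    ∃ u : ℕ, p ^ s ∣ d * (t * u) + 1 := by
  have hcop : Nat.Coprime (d * t) (p ^ s) := by
    apply Nat.Coprime.pow_right
    apply Nat.Coprime.symm
    rw [Nat.Prime.coprime_iff_not_dvd hp]
    intro h
    rcases (Nat.Prime.dvd_mul hp).mp h with h | h
    · exact hd h
    · exact ht h
  haveI : NeZero (p ^ s) := ⟨pow_ne_zero _ hp.ne_zero⟩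
  have hu : IsUnit ((d * t : ℕ) : ZMod (p ^ s)) := (ZMod.isUnit_iff_coprime _ _).mpr hcop
  obtain ⟨b, hb⟩ := hu.exists_right_inv
  refine ⟨(-b).val, ?_⟩
  rw [← ZMod.natCast_eq_zero_iff]
  push_cast
  rw [ZMod.natCast_zmod_val]
  push_cast at hb
  have : (d : ZMod (p ^ s)) * ((t : ZMod (p ^ s)) * -b) + 1 = -((d : ZMod (p ^ s)) * t * b) + 1 := by
    ring
  rw [this, hb]
  ring

theorem memLocalIdeal_pow_sub_one {M : Ideal AlgInt} [hp : M.IsPrime] {z : ℂ}
    (hz : MemLocalRing M z) (h : MemLocalIdeal M (z - 1)) (k : ℕ) :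
    MemLocalIdeal M (z ^ k - 1) := by
  induction k with
  | zero =>
    rw [pow_zero, sub_self]
    exact memLocalIdeal_zero hp.one_notMem
  | succ k ih =>
    have h1 : z ^ (k + 1) - 1 = z ^ k * (z - 1) + (z ^ k - 1) := by ring
    rw [h1]
    exact memLocalIdeal_add (memLocalIdeal_mul_left (memLocalRing_pow hz k) h) ih

/-! ### Orders of functions -/

theorem apply_pow_orderOf {X : Type u} (f : X → ℂ) (x : X) : f x ^ orderOf f = 1 := by
  have := congrFun (pow_orderOf_eq_one f) x
  rwa [Pi.pow_apply, Pi.one_apply] at this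

theorem not_dvd_orderOf_of_pow {X : Type u} {p : ℕ} (f : X → ℂ) {t : ℕ} (ht : ¬ p ∣ t)
    (h : ∀ x, f x ^ t = 1) : ¬ p ∣ orderOf f := by
  have h1 : f ^ t = 1 := by
    funext x
    rw [Pi.pow_apply, Pi.one_apply, h x]
  exact fun hp => ht (hp.trans (orderOf_dvd_of_pow_eq_one h1))

variable {X : Type u} [Group X] [Fintype X]

theorem linear_pow_card {lam : X → ℂ} (hlam : IsCharacter X lam) (h1 : lam 1 = 1) (g : X) :
    lam g ^ Nat.card X = 1 := by
  have := map_pow (linCharHom hlam h1) g (Nat.card X)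
  rw [pow_card_eq_one', map_one] at this
  exact this.symm

theorem linear_memLocalRing {M : Ideal AlgInt} [hp : M.IsPrime] {lam : X → ℂ}
    (hlam : IsCharacter X lam) (h1 : lam 1 = 1) (g : X) : MemLocalRing M (lam g) :=
  memLocalRing_of_isIntegral (isIntegral_of_pow_eq_one Nat.card_pos (linear_pow_card hlam h1 g))

section cover

variable {p : ℕ} [Fact p.Prime] {M : Ideal AlgInt} (hM : IsPModular p M) (N : Subgroup X)
  [N.Normal] (θ : IrrCharacter N) (hθ : θ ∈ principalBlock M N)

include hM hθ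

omit hθ in
/-- **Uniqueness**: two good extensions of `θ` with determinantal orders prime to `p` coincide. -/
theorem good_extension_unique {d : ℕ} (hd : (θ : N → ℂ) 1 = d) (hpd : ¬ p ∣ d) (C : Subgroup X)
    (hCp : ∀ c ∈ C, ¬ p ∣ nCard N c) (hcov : ∀ g : X, ∃ c ∈ C, g * c⁻¹ ∈ N)
    {χ χ' : X → ℂ} (hχ : IsIrrCharacter X χ) (hχ' : IsIrrCharacter X χ')
    (hχN : ∀ x : N, χ x = (θ : N → ℂ) x) (hχ'N : ∀ x : N, χ' x = (θ : N → ℂ) x)
    (hg : Good M N χ) (hg' : Good M N χ')
    (hdet : ¬ p ∣ orderOf (detChar χ)) (hdet' : ¬ p ∣ orderOf (detChar χ')) : χ' = χ := by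
  classical
  have : Fintype N := Fintype.ofFinite N
  have hprime : M.IsPrime := isPrime_of_isPModular hM
  have hpp : p.Prime := hM.1
  have hχc : IsCharacter X χ := IsIrrCharacter.isCharacter hχ
  have hχcf : IsClassFunction X χ := IsCharacter.isClassFunction hχc
  have hχ'cf : IsClassFunction X χ' := IsCharacter.isClassFunction (IsIrrCharacter.isCharacter hχ')
  -- Gallagher
  have h1irr : IsIrrCharacter N (1 : N → ℂ) := isIrrCharacter_one N
  have h1inv : ∀ g : X, conjFun N g (1 : N → ℂ) = 1 := by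
    intro g; funext n; rw [conjFun_apply]; rfl
  have hres : resFun N χ = (θ : N → ℂ) := funext hχN
  have hres' : resFun N χ' = (θ : N → ℂ) := funext hχ'N
  have hirr : IsIrrCharacter N (resFun N χ) := by rw [hres]; exact θ.2
  have hprod : (1 : N → ℂ) * resFun N χ = resFun N χ := one_mul _
  have hθinv : ∀ g : X, conjFun N g (resFun N χ) = resFun N χ :=
    fun g => conjFun_resFun N hχcf g
  have hb := mul_bijOn N h1irr h1inv (by rw [hprod]; exact hirr) (by rw [hprod]; exact hθinv)
    hχ (rfl : resFun N χ = resFun N χ)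
  have htarget : χ' ∈ {ψ | IsIrrCharacter X ψ ∧
      classInner (indFun N ((1 : N → ℂ) * resFun N χ)) ψ ≠ 0} := by
    refine ⟨hχ', ?_⟩
    rw [hprod, frobenius_reciprocity N _ hχ'cf]
    have : (fun h : N => χ' h) = resFun N χ := by rw [hres, ← hres']; rfl
    rw [this, classInner_irr hirr hirr, if_pos rfl]
    exact one_ne_zero
  obtain ⟨β, ⟨hβirr, hβ1⟩, hβχ⟩ := hb.surjOn htarget
  have hβχ' : ∀ g : X, β g * χ g = χ' g := fun g => congrFun hβχ g
  -- degrees
  have hχ1 : χ 1 = d := by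
    have := hχN 1
    rw [hd] at this
    simpa using this
  have hχ'1 : χ' 1 = d := by
    have := hχ'N 1
    rw [hd] at this
    simpa using this
  have hd0 : (d : ℂ) ≠ 0 := by
    intro h
    have : d = 0 := by exact_mod_cast h
    exact hpd (this ▸ dvd_zero p)
  have hβone : β 1 = 1 := by
    have := hβχ' 1
    rw [hχ1, hχ'1] at this
    exact mul_right_cancel₀ hd0 (by rw [this, one_mul])
  have hβc : IsCharacter X β := IsIrrCharacter.isCharacter hβirr
  have hβN := (apply_mul_of_indFun_one_ne_zero N hβirr hβ1).2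
  -- β ≡ 1 on C
  have hβC : ∀ c ∈ C, MemLocalIdeal M (β c - 1) := by
    intro c hc
    have e1 := div_sub_one_of_good hM N hχ hg (hCp c hc)
    have e2 := div_sub_one_of_good hM N hχ' hg' (hCp c hc)
    have h3 : β c - 1 = (χ' c / χ' 1 - 1) - β c * (χ c / χ 1 - 1) := by
      rw [← hβχ' c, hχ1, hχ'1]
      field_simp
      ring
    rw [h3]
    exact memLocalIdeal_sub e2 (memLocalIdeal_mul_left (linear_memLocalRing hβc hβone c) e1)
  -- β has p-power order
  set P : ℕ := p ^ (Nat.card X).factorization p with hP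
  set e' : ℕ := Nat.card X / p ^ (Nat.card X).factorization p with he'def
  have he' : Nat.card X = P * e' := (Nat.ordProj_mul_ordCompl_eq_self (Nat.card X) p).symm
  have hpe' : ¬ p ∣ e' := Nat.not_dvd_ordCompl hpp (Nat.card_pos (α := X)).ne'
  have hβP : ∀ g : X, β g ^ P = 1 := by
    intro g
    obtain ⟨c, hcC, hgc⟩ := hcov g
    have hgc' : β g = β c := by
      have := hβN ⟨g * c⁻¹, hgc⟩ c
      simpa [mul_assoc] using this
    rw [hgc']
    apply Cfsg.Agent.Lib.Helper24.AlpDade.eq_one_of_memLocalIdeal_one_sub p M hM _ e' hpe'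
    · rw [← pow_mul, ← he']
      exact linear_pow_card hβc hβone c
    · have := memLocalIdeal_neg
        (memLocalIdeal_pow_sub_one (linear_memLocalRing hβc hβone c) (hβC c hcC) P)
      rwa [neg_sub] at this
  -- determinants
  have hdetmul := detChar_linear_mul hβc hβone hχc hχ1
  have hβχ2 : β * χ = χ' := hβχ
  rw [hβχ2] at hdetmul
  set t := orderOf (detChar χ) with ht
  set t' := orderOf (detChar χ') with ht'
  have hβdt : ∀ g : X, β g ^ (d * (t * t')) = 1 := by
    intro g
    have h1 := congrFun hdetmul g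
    rw [Pi.mul_apply, Pi.pow_apply] at h1
    have h2 : detChar χ g ^ t = 1 := apply_pow_orderOf _ g
    have h3 : detChar χ' g ^ t' = 1 := apply_pow_orderOf _ g
    have h4 : (β g ^ d * detChar χ g) ^ (t * t') = 1 := by
      rw [← h1, mul_comm t t', pow_mul, h3, one_pow]
    rw [mul_pow, pow_mul (detChar χ g), h2, one_pow, mul_one, ← pow_mul] at h4
    exact h4
  have hcop : Nat.Coprime (d * (t * t')) P := by
    rw [hP]
    apply Nat.Coprime.pow_right
    apply Nat.Coprime.symm
    rw [Nat.Prime.coprime_iff_not_dvd hpp]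
    intro h
    rcases (Nat.Prime.dvd_mul hpp).mp h with h | h
    · exact hpd h
    · rcases (Nat.Prime.dvd_mul hpp).mp h with h | h
      · exact hdet h
      · exact hdet' h
  have hβall : ∀ g : X, β g = 1 := by
    intro g
    have := (pow_gcd_eq_one (a := β g) (m := d * (t * t')) (n := P)).mpr ⟨hβdt g, hβP g⟩
    rwa [hcop, pow_one] at this
  funext g
  rw [← hβχ' g, hβall g, one_mul]

/-- **Existence**: a good extension can be normalised to determinantal order prime to `p`. -/
theorem exists_good_extension_pprime_det {d : ℕ} (hd : (θ : N → ℂ) 1 = d) (hpd : ¬ p ∣ d)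
    (hdetθ : ¬ p ∣ orderOf (detChar (θ : N → ℂ))) (C : Subgroup X)
    (hCp : ∀ c ∈ C, ¬ p ∣ nCard N c) (hcov : ∀ g : X, ∃ c ∈ C, g * c⁻¹ ∈ N)
    {χ : X → ℂ} (hχ : IsIrrCharacter X χ) (hχN : ∀ x : N, χ x = (θ : N → ℂ) x)
    (hg : Good M N χ) :
    ∃ χ₁ : X → ℂ, IsIrrCharacter X χ₁ ∧ (∀ x : N, χ₁ x = (θ : N → ℂ) x) ∧ Good M N χ₁ ∧
      ¬ p ∣ orderOf (detChar χ₁) := by
  classical
  have hprime : M.IsPrime := isPrime_of_isPModular hM
  have hpp : p.Prime := hM.1
  have hχc : IsCharacter X χ := IsIrrCharacter.isCharacter hχ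
  obtain ⟨hδ, hδ1⟩ := detChar_isCharacter hχc
  set δ := detChar χ with hδdef
  have hχ1 : χ 1 = d := by
    have := hχN 1
    rw [hd] at this
    simpa using this
  -- the exponent
  obtain ⟨s, t, hpt, hst⟩ := Nat.exists_eq_pow_mul_and_not_dvd (Nat.card_pos (α := X)).ne' p
    hpp.ne_one
  obtain ⟨u, hu⟩ := exists_mul_add_one_dvd s hpp hpd hpt
  set w := t * u with hw
  -- the twisting character
  set φ : X →* ℂˣ := (linCharUnitsHom hδ hδ1) ^ w with hφ
  set lam : X → ℂ := fun g => ((φ g : ℂˣ) : ℂ) with hlamdef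
  have hlamδ : ∀ g : X, lam g = δ g ^ w := by
    intro g
    simp only [hlamdef, hφ, MonoidHom.pow_apply, Units.val_pow_eq_pow_val, linCharUnitsHom_apply]
  have hlam : IsCharacter X lam := isCharacter_of_hom φ
  have hlam1 : lam 1 = 1 := by
    rw [hlamδ, hδ1, one_pow]
  have hδcard : ∀ g : X, δ g ^ (p ^ s * t) = 1 := by
    intro g
    rw [← hst]
    exact linear_pow_card hδ hδ1 g
  have hlamps : ∀ g : X, lam g ^ (p ^ s) = 1 := by
    intro g
    rw [hlamδ, ← pow_mul, hw]
    have : t * u * p ^ s = p ^ s * t * u := by ring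
    rw [this, pow_mul, hδcard, one_pow]
  have hlamloc : ∀ g : X, MemLocalRing M (lam g) := fun g => linear_memLocalRing hlam hlam1 g
  have hlamC : ∀ g : X, MemLocalIdeal M (lam g - 1) := by
    intro g
    apply memLocalIdeal_sub_one_of_pow_prime_pow hM s (hlamloc g)
    rw [hlamps, sub_self]
    exact memLocalIdeal_zero hprime.one_notMem
  -- trivial on N
  have hδN : ∀ x : N, δ x = detChar (θ : N → ℂ) x := by
    intro x
    have h1 := detChar_resFun N hχc
    have h2 : resFun N χ = (θ : N → ℂ) := funext hχN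
    rw [h2] at h1
    rw [h1]
    rfl
  have hlamN : ∀ x : N, lam x = 1 := by
    intro x
    set t₀ := orderOf (detChar (θ : N → ℂ)) with ht₀
    have h1 : δ x ^ t₀ = 1 := by
      rw [hδN]
      exact apply_pow_orderOf _ x
    have h2 := (pow_gcd_eq_one (a := δ (x : X)) (m := t₀) (n := p ^ s * t)).mpr ⟨h1, hδcard x⟩
    have hcop : Nat.Coprime (p ^ s) t₀ := by
      apply Nat.Coprime.pow_left
      rw [Nat.Prime.coprime_iff_not_dvd hpp]
      exact hdetθ
    rw [Nat.Coprime.gcd_mul_left_cancel_right t hcop] at h2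
    have h3 : δ (x : X) ^ t = 1 := by
      obtain ⟨k, hk⟩ := Nat.gcd_dvd_right t₀ t
      rw [hk, pow_mul, h2, one_pow]
    rw [hlamδ, hw, pow_mul, h3, one_pow]
  -- the new character
  have hχ₁irr : IsIrrCharacter X (lam * χ) := isIrrCharacter_linear_mul hlam hlam1 hχ
  have hχ₁N : ∀ x : N, (lam * χ) x = (θ : N → ℂ) x := by
    intro x
    rw [Pi.mul_apply, hlamN, one_mul]
    exact hχN x
  refine ⟨lam * χ, hχ₁irr, hχ₁N, ?_, ?_⟩
  · apply good_of_div_sub_one hM N θ hθ C hCp hcov hχ₁irr hχ₁N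
    intro c hc
    have e1 := div_sub_one_of_good hM N hχ hg (hCp c hc)
    have h1 : (lam * χ) c / (lam * χ) 1 - 1 = lam c * (χ c / χ 1 - 1) + (lam c - 1) := by
      rw [Pi.mul_apply, Pi.mul_apply, hlam1, one_mul]
      ring
    rw [h1]
    exact memLocalIdeal_add (memLocalIdeal_mul_left (hlamloc c) e1) (hlamC c)
  · have hdetmul := detChar_linear_mul hlam hlam1 hχc hχ1
    apply not_dvd_orderOf_of_pow _ hpt
    intro g
    rw [hdetmul, Pi.mul_apply, Pi.pow_apply, hlamδ, ← hδdef, ← pow_mul, ← pow_succ, ← pow_mul]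
    obtain ⟨k, hk⟩ := hu
    have : (w * d + 1) * t = p ^ s * t * k := by
      have h5 : w * d + 1 = p ^ s * k := by
        rw [← hk, hw]
        ring
      rw [h5]
      ring
    rw [this, pow_mul, hδcard, one_pow]

end cover

end Cfsg.Agent.Lib.Helper23.PRat
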