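/-
helper23: S4892 core, part C.  The canonical extension (good, determinantal order prime to `p`) is
fixed by the power maps `k ≡ 1` modulo the `p'`-part of the level, and by the automorphisms of `X`
fixing `N` and `θ`.  The congruence `χ(x^k) ≡ χ(x)` (leaf K) and the determinant of a Galois twist
(leaf D1) enter as hypotheses.
-/
import Mathlib
import Cfsg.Agent.Lib.Helper23.PRatCoreB
import Cfsg.Agent.Lib.Helper23.PRatDefs
import Cfsg.Agent.Lib.Helper23.GaloisChar
import Cfsg.Agent.Lib.Lead.CharMore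

set_option autoImplicit false

namespace Cfsg.Agent.Lib.Helper23.PRat

open Representation Module Cfsg Cfsg.Agent.Lib.Helper24 Cfsg.Agent.Lib.Helper6 Cfsg.Agent.CharLib
  Cfsg.Agent.Lib.Helper23.RelCent

universe u

variable {X : Type u} [Group X] [Fintype X]

section cover

variable {p : ℕ} [Fact p.Prime] {M : Ideal AlgInt} (hM : IsPModular p M) (N : Subgroup X)
  [N.Normal] (θ : IrrCharacter N) (hθ : θ ∈ principalBlock M N)

include hM hθ

/-- The canonical extension is fixed by the `p`-rational power maps. -/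
theorem good_pprime_det_prat {d : ℕ} (hd : (θ : N → ℂ) 1 = d) (hpd : ¬ p ∣ d) (C : Subgroup X)
    (hCp : ∀ c ∈ C, ¬ p ∣ nCard N c) (hcov : ∀ g : X, ∃ c ∈ C, g * c⁻¹ ∈ N)
    {χ : X → ℂ} (hχ : IsIrrCharacter X χ) (hχN : ∀ x : N, χ x = (θ : N → ℂ) x)
    (hg : Good M N χ) (hdet : ¬ p ∣ orderOf (detChar χ))
    (n : ℕ) (hn : Nat.card X ∣ n) (hratθ : PRat p n (θ : N → ℂ))
    (hK : ∀ k : ℕ, k.Coprime n → k ≡ 1 [MOD n / p ^ n.factorization p] → ∀ x : X,
      MemLocalIdeal M (χ (x ^ k) - χ x))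
    (hD1 : ∀ k : ℕ, k.Coprime (Nat.card X) →
      detChar (fun x => χ (x ^ k)) = fun x => (detChar χ x) ^ k) :
    PRat p n χ := by
  classical
  have hprime : M.IsPrime := isPrime_of_isPModular hM
  intro k hk hk1
  have hkX : k.Coprime (Nat.card X) := Nat.Coprime.coprime_dvd_right hn hk
  set χk : X → ℂ := fun x => χ (x ^ k) with hχk
  have hχkirr : IsIrrCharacter X χk := isIrrCharacter_comp_pow hχ k hkX
  have hχkN : ∀ x : N, χk x = (θ : N → ℂ) x := by
    intro x
    have h1 : ((x : X)) ^ k = ((x ^ k : N) : X) := by rw [Subgroup.coe_pow]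
    simp only [hχk]
    rw [h1, hχN, hratθ k hk hk1 x]
  have hχ1 : χ 1 = d := by
    have := hχN 1
    rw [hd] at this
    simpa using this
  have hd0 : (d : ℂ) ≠ 0 := natCast_ne_zero_of_not_dvd hpd
  have hgk : Good M N χk := by
    apply good_of_div_sub_one hM N θ hθ C hCp hcov hχkirr hχkN
    intro c hc
    have e1 := div_sub_one_of_good hM N hχ hg (hCp c hc)
    have h1 : χk c / χk 1 - 1 = (χ (c ^ k) - χ c) * (d : ℂ)⁻¹ + (χ c / χ 1 - 1) := by
      simp only [hχk]
      rw [one_pow, hχ1]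
      field_simp
      ring
    rw [h1]
    exact memLocalIdeal_add
      (memLocalIdeal_mul_right (hK k hk hk1 c) (memLocalRing_natCast_inv hM hpd)) e1
  have hdetk : ¬ p ∣ orderOf (detChar χk) := by
    apply not_dvd_orderOf_of_pow _ hdet
    intro x
    rw [hD1 k hkX]
    simp only
    rw [← pow_mul, mul_comm, pow_mul, apply_pow_orderOf, one_pow]
  have := good_extension_unique hM N θ hd hpd C hCp hcov hχ hχkirr hχN hχkN hg hgk hdet hdetk
  intro x
  exact congrFun this x

/-- The canonical extension is fixed by the automorphisms of `X` fixing `N` and `θ`. -/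
theorem good_pprime_det_invariant {d : ℕ} (hd : (θ : N → ℂ) 1 = d) (hpd : ¬ p ∣ d)
    (C : Subgroup X) (hCp : ∀ c ∈ C, ¬ p ∣ nCard N c) (hcov : ∀ g : X, ∃ c ∈ C, g * c⁻¹ ∈ N)
    {χ : X → ℂ} (hχ : IsIrrCharacter X χ) (hχN : ∀ x : N, χ x = (θ : N → ℂ) x)
    (hg : Good M N χ) (hdet : ¬ p ∣ orderOf (detChar χ)) (α : X ≃* X)
    (hαN : ∀ x : X, α x ∈ N ↔ x ∈ N)
    (hαθ : ∀ (x : N) (h : α (x : X) ∈ N), (θ : N → ℂ) ⟨α (x : X), h⟩ = (θ : N → ℂ) x) (x : X) :
    χ (α x) = χ x := by
  classical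
  have hχc : IsCharacter X χ := IsIrrCharacter.isCharacter hχ
  have hαirr : IsIrrCharacter X (χ ∘ α) := IsIrrCharacter.comp_mulEquiv hχ α
  have hαχN : ∀ x : N, (χ ∘ α) x = (θ : N → ℂ) x := by
    intro x
    have h : α (x : X) ∈ N := (hαN x).mpr x.2
    have := hχN ⟨α (x : X), h⟩
    rw [Function.comp_apply]
    rw [← hαθ x h]
    exact this
  have hαsymmN : ∀ x : X, α.symm x ∈ N ↔ x ∈ N := by
    intro x
    have := hαN (α.symm x)
    rw [MulEquiv.apply_symm_apply] at this
    exact this.symm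
  have hgα : Good M N (χ ∘ α) := by
    intro a ha hi
    have h1 := hg (a ∘ α.symm) (by
      intro m hm g
      simp only [Function.comp_apply]
      rw [map_mul, map_mul, map_inv]
      exact ha _ ((hαsymmN m).mpr hm) _) (fun g => hi _)
    have h2 : omegaFun (χ ∘ α) a = omegaFun χ (a ∘ α.symm) := by
      unfold omegaFun
      rw [Function.comp_apply, map_one]
      congr 1
      rw [← Equiv.sum_comp α.toEquiv (fun g => (a ∘ α.symm) g * χ g)]
      apply Finset.sum_congr rfl
      intro g _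
      simp
    have h3 : ∑ g : X, (a ∘ α.symm) g = ∑ g : X, a g := by
      rw [← Equiv.sum_comp α.toEquiv (fun g => (a ∘ α.symm) g)]
      apply Finset.sum_congr rfl
      intro g _
      simp
    rw [h2, ← h3]
    exact h1
  have hdetα : ¬ p ∣ orderOf (detChar (χ ∘ α)) := by
    apply not_dvd_orderOf_of_pow _ hdet
    intro x
    have := detChar_comp_hom α.toMonoidHom hχc
    have h2 : (χ ∘ (α.toMonoidHom : X → X)) = χ ∘ α := rfl
    rw [h2] at this
    rw [this, Function.comp_apply, apply_pow_orderOf]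
  have := good_extension_unique hM N θ hd hpd C hCp hcov hχ hαirr hχN hαχN hg hgα hdet hdetα
  exact congrFun this x

end cover

end Cfsg.Agent.Lib.Helper23.PRat
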