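/-
helper23: S4892 core, part D.  The canonical extension in the situation `X = N C_X(Q)`,
`Q ∈ Syl_p(N)`: a `p`-rational invariant `θ ∈ B₀(N)` of degree and determinantal order prime to `p`
which extends to `X` has an extension `χ ∈ B₀(X)` which is `p`-rational, of determinantal order
prime to `p`, and fixed by every automorphism of `X` fixing `N` and `θ`.
(`core_inner`: the leaves K, D1 enter as hypotheses.)
-/
import Mathlib
import Cfsg.Agent.Lib.Helper23.PRatCoreC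

set_option autoImplicit false

namespace Cfsg.Agent.Lib.Helper23.PRat

open Representation Module Cfsg Cfsg.Agent.Lib.Helper24 Cfsg.Agent.Lib.Helper6 Cfsg.Agent.CharLib
  Cfsg.Agent.Lib.Helper23.RelCent

universe u

theorem core_inner {X : Type u} [Group X] [Finite X] (p : ℕ) [Fact p.Prime] (M : Ideal AlgInt)
    (hM : IsPModular p M) (N : Subgroup X) [N.Normal] (Q : Sylow p N)
    (hcov : N ⊔ Subgroup.centralizer (((Q : Subgroup N).map N.subtype : Subgroup X) : Set X) = ⊤)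
    (θ : IrrCharacter N) (hθ : θ ∈ principalBlock M N) {d : ℕ} (hd : (θ : N → ℂ) 1 = d)
    (hpd : ¬ p ∣ d) (hdetθ : ¬ p ∣ orderOf (detChar (θ : N → ℂ))) (n : ℕ)
    (hn : Nat.card X ∣ n) (hrat : PRat p n (θ : N → ℂ))
    (hext : ∃ ψ : IrrCharacter X, ∀ x : N, (ψ : X → ℂ) x = (θ : N → ℂ) x)
    (hK : ∀ χ : X → ℂ, IsCharacter X χ → ∀ k : ℕ, k.Coprime n →
      k ≡ 1 [MOD n / p ^ n.factorization p] → ∀ x : X, MemLocalIdeal M (χ (x ^ k) - χ x))
    (hD1 : ∀ χ : X → ℂ, IsCharacter X χ → ∀ k : ℕ, k.Coprime (Nat.card X) →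
      detChar (fun x => χ (x ^ k)) = fun x => (detChar χ x) ^ k) :
    ∃ χ : IrrCharacter X, (∀ x : N, (χ : X → ℂ) x = (θ : N → ℂ) x) ∧ χ ∈ principalBlock M X ∧
      PRat p n (χ : X → ℂ) ∧ ¬ p ∣ orderOf (detChar (χ : X → ℂ)) ∧
      ∀ α : X ≃* X, (∀ x : X, α x ∈ N ↔ x ∈ N) →
        (∀ (x : N) (h : α (x : X) ∈ N), (θ : N → ℂ) ⟨α (x : X), h⟩ = (θ : N → ℂ) x) →
        ∀ x : X, (χ : X → ℂ) (α x) = (χ : X → ℂ) x := by
  classical
  let _ : Fintype X := Fintype.ofFinite X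
  set C : Subgroup X :=
    Subgroup.centralizer (((Q : Subgroup ↥N).map N.subtype : Subgroup X) : Set X) with hC
  have hCp : ∀ c ∈ C, ¬ p ∣ nCard N c := fun c hc => not_dvd_nCard p N Q c hc
  have hcov' : ∀ g : X, ∃ c ∈ C, g * c⁻¹ ∈ N := by
    intro g
    have hg : g ∈ ((N ⊔ C : Subgroup X) : Set X) := by
      rw [hcov]; exact Subgroup.mem_top g
    rw [Subgroup.normal_mul] at hg
    obtain ⟨m, hm, c, hc, rfl⟩ := Set.mem_mul.mp hg
    exact ⟨c, hc, by rw [mul_inv_cancel_right]; exact hm⟩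
  obtain ⟨ψ, hψ⟩ := hext
  obtain ⟨χ₀, hχ₀irr, hχ₀N, hχ₀g⟩ :=
    exists_good_extension hM N θ hθ C hCp hcov' ⟨(ψ : X → ℂ), ψ.2, hψ⟩
  obtain ⟨χ, hχirr, hχN, hχg, hχdet⟩ :=
    exists_good_extension_pprime_det hM N θ hθ hd hpd hdetθ C hCp hcov' hχ₀irr hχ₀N hχ₀g
  have hχc : IsCharacter X χ := IsIrrCharacter.isCharacter hχirr
  refine ⟨⟨χ, hχirr⟩, hχN, mem_principalBlock_of_good N ⟨χ, hχirr⟩ hχg, ?_, hχdet, ?_⟩
  · exact good_pprime_det_prat hM N θ hθ hd hpd C hCp hcov' hχirr hχN hχg hχdet n hn hrat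
      (hK χ hχc) (hD1 χ hχc)
  · intro α hαN hαθ x
    exact good_pprime_det_invariant hM N θ hθ hd hpd C hCp hcov' hχirr hχN hχg hχdet α hαN hαθ x

end Cfsg.Agent.Lib.Helper23.PRat
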