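/-
helper23: relative central characters, part C.
* `not_dvd_nCard` : the `N`-class of an element centralizing a Sylow `p`-subgroup of `N` has size
  prime to `p`;
* `omega_sub_sum` : if `χ(c)/χ(1) ≡ 1` on a subgroup `C` covering `G/N`, then `ω` is congruent to the
  augmentation on all `N`-invariant integer-valued functions;
* `exists_linear_lift` : a function multiplicative modulo the local ideal on `C`, trivial on
  `C ∩ N`, is congruent to a linear character of `G/N`.
-/
import Mathlib
import Cfsg.Agent.Lib.Helper23.RelCentB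
import Cfsg.Agent.Lib.Helper24.AlpDadeL2

set_option autoImplicit false

namespace Cfsg.Agent.Lib.Helper23.RelCent

open Representation Module Cfsg Cfsg.Agent.Lib.Helper24 Cfsg.Agent.Lib.Helper6

universe u v

variable {G : Type u} [Group G]

/-! ### Class sizes -/

theorem not_dvd_nCard [Fintype G] (p : ℕ) [Fact p.Prime] (N : Subgroup G) (P : Sylow p N) (c : G)
    (hc : c ∈ Subgroup.centralizer (((P : Subgroup N).map N.subtype : Subgroup G) : Set G)) :
    ¬ p ∣ nCard N c := by
  classical
  letI : MulAction N G := MulAction.compHom G ((MulAut.conj : G →* MulAut G).comp N.subtype)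
  have hsmul : ∀ (n : N) (g : G), n • g = (n : G) * g * (n : G)⁻¹ := fun n g => rfl
  have horb : nCard N c = (MulAction.orbit N c).ncard := by
    unfold nCard
    rw [← Set.ncard_coe_finset]
    congr 1
    ext x
    simp only [Finset.coe_filter, Finset.mem_univ, true_and, Set.mem_setOf_eq,
      MulAction.mem_orbit_iff]
    constructor
    · rintro ⟨n, hn, h⟩
      exact ⟨⟨n, hn⟩, by rw [hsmul]; exact h⟩
    · rintro ⟨n, h⟩
      exact ⟨(n : G), n.2, by rw [hsmul] at h; exact h⟩
  have hidx := MulAction.index_stabilizer N c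
  have hle : (P : Subgroup N) ≤ MulAction.stabilizer N c := by
    intro x hx
    rw [MulAction.mem_stabilizer_iff, hsmul]
    have hxP : (x : G) ∈ ((P : Subgroup N).map N.subtype : Subgroup G) :=
      Subgroup.mem_map.mpr ⟨x, hx, rfl⟩
    have := Subgroup.mem_centralizer_iff.mp hc (x : G) hxP
    rw [this, mul_inv_cancel_right]
  have hdvd : (MulAction.stabilizer N c).index ∣ (P : Subgroup N).index :=
    Subgroup.index_dvd_of_le hle
  rw [horb, ← hidx]
  intro h
  exact P.not_dvd_index (h.trans hdvd)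

/-! ### From `C` to all invariant functions -/

section general
variable [Fintype G] {V : Type v} [AddCommGroup V] [Module ℂ V] [FiniteDimensional ℂ V]
  (ρ : Representation ℂ G V) (N : Subgroup G) [hN : N.Normal]
  [hirr : (resRep ρ N).IsIrreducible] {M : Ideal AlgInt} {p : ℕ}

theorem omega_sub_sum (hM : IsPModular p M) (h0 : AugOnN ρ N M) (C : Subgroup G)
    (hCp : ∀ c ∈ C, ¬ p ∣ nCard N c) (hcov : ∀ g : G, ∃ c ∈ C, g * c⁻¹ ∈ N)
    (h1 : ∀ c ∈ C, MemLocalIdeal M (rr ρ c - 1)) {a : G → ℂ} (ha : NInv N a) (hi : IntVal a) :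
    MemLocalIdeal M (omega ρ a - ∑ g : G, a g) := by
  classical
  have hprime : M.IsPrime := isPrime_of_isPModular hM
  let _ : Fintype (G ⧸ N) := Fintype.ofFinite _
  -- the pieces
  let piece : G ⧸ N → G → ℂ := fun q g => if (QuotientGroup.mk g : G ⧸ N) = q then a g else 0
  have hdecomp : a = ∑ q : G ⧸ N, piece q := by
    funext g
    rw [Finset.sum_apply]
    simp only [piece]
    rw [Finset.sum_ite_eq]
    simp
  have hpinv : ∀ q, NInv N (piece q) := by
    intro q n hn g
    simp only [piece]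
    have : (QuotientGroup.mk (n * g * n⁻¹) : G ⧸ N) = QuotientGroup.mk g := by
      rw [QuotientGroup.eq]
      have h2 : (n * g * n⁻¹)⁻¹ * g = n * (g⁻¹ * n⁻¹ * g) := by group
      rw [h2]
      have h3 : g⁻¹ * n⁻¹ * g ∈ N := by
        have := hN.conj_mem n⁻¹ (N.inv_mem hn) g⁻¹
        simpa using this
      exact N.mul_mem hn h3
    rw [this, ha n hn g]
  have hpint : ∀ q, IntVal (piece q) := by
    intro q g
    simp only [piece]
    split_ifs
    · exact hi g
    · exact ⟨0, by simp⟩
  have hpiece : ∀ q, MemLocalIdeal M (omega ρ (piece q) - ∑ g : G, piece q g) := by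
    intro q
    obtain ⟨g₀, hg₀⟩ := QuotientGroup.mk_surjective q
    obtain ⟨c, hcC, hc⟩ := hcov g₀
    have hs : ∀ g, piece q g ≠ 0 → g * c⁻¹ ∈ N := by
      intro g hg
      simp only [piece] at hg
      split_ifs at hg with hq
      · rw [← hg₀, QuotientGroup.eq] at hq
        -- hq : g⁻¹ * g₀ ∈ N
        have h2 : g * c⁻¹ = g * (g⁻¹ * g₀)⁻¹ * g⁻¹ * (g₀ * c⁻¹) := by group
        rw [h2]
        exact N.mul_mem (hN.conj_mem _ (N.inv_mem hq) g) hc
      · exact absurd rfl hg
    have h2 := omega_sub_sum_mul_rr ρ N hM h0 (hCp c hcC) (hCp c⁻¹ (C.inv_mem hcC))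
      (hpinv q) (hpint q) hs
    obtain ⟨k, hk⟩ := (hpint q).sum_eq
    have h3 : MemLocalIdeal M ((∑ g : G, piece q g) * (rr ρ c - 1)) := by
      rw [hk]
      exact memLocalIdeal_mul_left (memLocalRing_intCast k) (h1 c hcC)
    have h4 : omega ρ (piece q) - ∑ g : G, piece q g =
        (omega ρ (piece q) - (∑ g : G, piece q g) * rr ρ c) +
          (∑ g : G, piece q g) * (rr ρ c - 1) := by ring
    rw [h4]
    exact memLocalIdeal_add h2 h3
  have hsum : omega ρ a - ∑ g : G, a g =
      ∑ q : G ⧸ N, (omega ρ (piece q) - ∑ g : G, piece q g) := by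
    rw [Finset.sum_sub_distrib, ← omega_sum, ← hdecomp, Finset.sum_comm]
    congr 1
    apply Finset.sum_congr rfl
    intro g _
    have := congrFun hdecomp g
    rw [Finset.sum_apply] at this
    exact this
  rw [hsum]
  exact sum_memLocalIdeal _ _ (fun q _ => hpiece q)

end general

/-! ### Lifting a homomorphism modulo the local ideal -/

section lift
variable {M : Ideal AlgInt} {p : ℕ}

theorem memLocalRing_pow [hp : M.IsPrime] {z : ℂ} (hz : MemLocalRing M z) (k : ℕ) :
    MemLocalRing M (z ^ k) := by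
  induction k with
  | zero => rw [pow_zero]; exact memLocalRing_one
  | succ k ih => rw [pow_succ]; exact memLocalRing_mul ih hz

theorem memLocalIdeal_of_pow [hp : M.IsPrime] {z : ℂ} (hz : MemLocalRing M z) (k : ℕ)
    (h : MemLocalIdeal M (z ^ k)) : MemLocalIdeal M z := by
  induction k with
  | zero => rw [pow_zero] at h; exact absurd h not_memLocalIdeal_one
  | succ k ih =>
    rw [pow_succ] at h
    rcases memLocalIdeal_or_of_mul (memLocalRing_pow hz k) hz h with h1 | h1
    · exact ih h1
    · exact h1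

theorem memLocalIdeal_natCast_prime (hM : IsPModular p M) : MemLocalIdeal M (p : ℂ) := by
  have hprime : M.IsPrime := isPrime_of_isPModular hM
  have h : MemLocalIdeal M (((p : AlgInt) : ℂ)) := (memLocalIdeal_coe_iff _).mpr hM.2.2
  simpa using h

/-- Frobenius: `z ^ p ≡ 1` forces `z ≡ 1`. -/
theorem memLocalIdeal_sub_one_of_pow_prime (hM : IsPModular p M) {z : ℂ} (hz : MemLocalRing M z)
    (h : MemLocalIdeal M (z ^ p - 1)) : MemLocalIdeal M (z - 1) := by
  have hprime : M.IsPrime := isPrime_of_isPModular hM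
  have hp : p.Prime := hM.1
  have hw : MemLocalRing M (z - 1) := memLocalRing_sub hz memLocalRing_one
  apply memLocalIdeal_of_pow hw p
  have h1 := add_pow_prime_eq hp (z - 1) 1
  rw [sub_add_cancel, one_pow] at h1
  set S : ℂ := ∑ k ∈ Finset.Ioo 0 p, (z - 1) ^ (k - 1) * 1 ^ (p - k - 1) * ((p.choose k / p : ℕ) : ℂ)
    with hS
  have hSloc : MemLocalRing M S := by
    apply sum_memLocalRing
    intro k _
    apply memLocalRing_mul (memLocalRing_mul (memLocalRing_pow hw _) _)
    · have := memLocalRing_intCast (M := M) ((p.choose k / p : ℕ) : ℤ)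
      rwa [Int.cast_natCast] at this
    · rw [one_pow]; exact memLocalRing_one
  have h2 : (z - 1) ^ p = (z ^ p - 1) - (p : ℂ) * ((z - 1) * 1 * S) := by
    rw [h1]; ring
  rw [h2]
  apply memLocalIdeal_sub h
  exact memLocalIdeal_mul_right (memLocalIdeal_natCast_prime hM)
    (memLocalRing_mul (memLocalRing_mul hw memLocalRing_one) hSloc)

theorem memLocalIdeal_sub_one_of_pow_prime_pow (hM : IsPModular p M) (a : ℕ) {z : ℂ}
    (hz : MemLocalRing M z) (h : MemLocalIdeal M (z ^ (p ^ a) - 1)) :
    MemLocalIdeal M (z - 1) := by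
  have hprime : M.IsPrime := isPrime_of_isPModular hM
  induction a with
  | zero => simpa using h
  | succ a ih =>
    apply ih
    apply memLocalIdeal_sub_one_of_pow_prime hM (memLocalRing_pow hz _)
    rw [← pow_mul, ← pow_succ]
    exact h

theorem exists_mem_of_prod_memLocalIdeal [hp : M.IsPrime] {ι : Type*} (s : Finset ι) (f : ι → ℂ)
    (hf : ∀ i ∈ s, MemLocalRing M (f i)) (h : MemLocalIdeal M (∏ i ∈ s, f i)) :
    ∃ i ∈ s, MemLocalIdeal M (f i) := by
  classical
  induction s using Finset.induction_on with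
  | empty => rw [Finset.prod_empty] at h; exact absurd h not_memLocalIdeal_one
  | insert i s hi ih =>
    rw [Finset.prod_insert hi] at h
    have hloc : MemLocalRing M (∏ j ∈ s, f j) := by
      clear ih h
      induction s using Finset.induction_on with
      | empty => rw [Finset.prod_empty]; exact memLocalRing_one
      | insert j t hj ih2 =>
        rw [Finset.prod_insert hj]
        apply memLocalRing_mul
        · exact hf j (by simp)
        · apply ih2
          · intro h; apply hi; simp only [Finset.mem_insert] at h ⊢; tauto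
          · intro k hk
            apply hf k
            simp only [Finset.mem_insert] at hk ⊢
            tauto
    rcases memLocalIdeal_or_of_mul (hf i (Finset.mem_insert_self i s)) hloc h with h1 | h1
    · exact ⟨i, Finset.mem_insert_self i s, h1⟩
    · obtain ⟨j, hj, hj'⟩ := ih (fun k hk => hf k (Finset.mem_insert_of_mem hk)) h1
      exact ⟨j, Finset.mem_insert_of_mem hj, hj'⟩

theorem isIntegral_of_pow_eq_one {ζ : ℂ} {e : ℕ} (he : 0 < e) (h : ζ ^ e = 1) : IsIntegral ℤ ζ := by
  apply IsIntegral.of_pow he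
  rw [h]
  exact isIntegral_one

/-- Existence of a root of unity lifting a local element of order dividing `e` modulo the ideal. -/
theorem exists_root_lift (hM : IsPModular p M) {e : ℕ} (he : 0 < e) {z : ℂ} (hz : MemLocalRing M z)
    (h : MemLocalIdeal M (z ^ e - 1)) : ∃ ζ : ℂ, ζ ^ e = 1 ∧ MemLocalIdeal M (ζ - z) := by
  have hprime : M.IsPrime := isPrime_of_isPModular hM
  have hprim : IsPrimitiveRoot (Complex.exp (2 * Real.pi * Complex.I / e)) e :=
    Complex.isPrimitiveRoot_exp e he.ne'
  have hfac := hprim.pow_sub_pow_eq_prod_sub_mul z 1 he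
  rw [one_pow] at hfac
  rw [hfac] at h
  obtain ⟨ζ, hζ, hmem⟩ := exists_mem_of_prod_memLocalIdeal _ _ (by
    intro ζ hζ
    rw [Polynomial.mem_nthRootsFinset he] at hζ
    rw [mul_one]
    exact memLocalRing_sub hz (memLocalRing_of_isIntegral (isIntegral_of_pow_eq_one he hζ))) h
  rw [Polynomial.mem_nthRootsFinset he] at hζ
  refine ⟨ζ, hζ, ?_⟩
  rw [mul_one] at hmem
  have := memLocalIdeal_neg hmem
  rwa [neg_sub] at this

theorem root_lift_unique [Fact p.Prime] (hM : IsPModular p M) {e : ℕ} (he : ¬ p ∣ e) {ζ ζ' : ℂ}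
    (h1 : ζ ^ e = 1) (h2 : ζ' ^ e = 1) (h : MemLocalIdeal M (ζ - ζ')) : ζ = ζ' := by
  have hprime : M.IsPrime := isPrime_of_isPModular hM
  have he0 : 0 < e := by
    rcases Nat.eq_zero_or_pos e with h0 | h0
    · exact absurd (h0 ▸ dvd_zero p) he
    · exact h0
  have hζ'0 : ζ' ≠ 0 := by
    intro h0
    rw [h0, zero_pow he0.ne'] at h2
    exact zero_ne_one h2
  have hinv : ζ'⁻¹ = ζ' ^ (e - 1) := by
    apply inv_eq_of_mul_eq_one_right
    rw [← pow_succ', Nat.sub_add_cancel he0, h2]
  have hη : (ζ * ζ'⁻¹) ^ e = 1 := by rw [mul_pow, inv_pow, h1, h2, inv_one, mul_one]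
  have hloc : MemLocalRing M ζ'⁻¹ := by
    rw [hinv]
    exact memLocalRing_pow (memLocalRing_of_isIntegral (isIntegral_of_pow_eq_one he0 h2)) _
  have h3 : MemLocalIdeal M (1 - ζ * ζ'⁻¹) := by
    have h4 : 1 - ζ * ζ'⁻¹ = -((ζ - ζ') * ζ'⁻¹) := by
      field_simp
      ring
    rw [h4]
    exact memLocalIdeal_neg (memLocalIdeal_mul_right h hloc)
  have h5 := Cfsg.Agent.Lib.Helper24.AlpDade.eq_one_of_memLocalIdeal_one_sub p M hM _ e he hη h3
  field_simp at h5
  exact h5

/-- A function on `G` which is multiplicative modulo the local ideal on a subgroup `C` covering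
`G/N` and congruent to `1` on `C ∩ N` is congruent on `C` to a linear character of `G/N`. -/
theorem exists_linear_lift [Finite G] [Fact p.Prime] (hM : IsPModular p M) (N : Subgroup G)
    [hN : N.Normal] (C : Subgroup G) (hcov : ∀ g : G, ∃ c ∈ C, g * c⁻¹ ∈ N) (r : G → ℂ)
    (hr : ∀ c ∈ C, MemLocalRing M (r c))
    (hmul : ∀ c ∈ C, ∀ d ∈ C, MemLocalIdeal M (r (c * d) - r c * r d))
    (hone : ∀ n ∈ C, n ∈ N → MemLocalIdeal M (r n - 1)) :
    ∃ β : G →* ℂˣ, (∀ n ∈ N, β n = 1) ∧
      ∀ c ∈ C, MemLocalIdeal M (((β c : ℂˣ) : ℂ) - r c) := by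
  classical
  have hprime : M.IsPrime := isPrime_of_isPModular hM
  have hp : p.Prime := hM.1
  -- the exponent
  have hidx : N.index ≠ 0 := Subgroup.index_ne_zero_of_finite
  obtain ⟨a, e, hpe, hm⟩ := Nat.exists_eq_pow_mul_and_not_dvd hidx p hp.ne_one
  have he0 : 0 < e := by
    rcases Nat.eq_zero_or_pos e with h0 | h0
    · exact absurd (h0 ▸ dvd_zero p) hpe
    · exact h0
  -- powers
  have hpow : ∀ c ∈ C, ∀ k : ℕ, MemLocalIdeal M (r (c ^ k) - r c ^ k) := by
    intro c hc k
    induction k with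
    | zero =>
      rw [pow_zero, pow_zero]
      exact hone 1 C.one_mem N.one_mem
    | succ k ih =>
      rw [pow_succ, pow_succ]
      have h1 := hmul (c ^ k) (C.pow_mem hc k) c hc
      have h2 : r (c ^ k * c) - r c ^ k * r c =
          (r (c ^ k * c) - r (c ^ k) * r c) + (r (c ^ k) - r c ^ k) * r c := by ring
      rw [h2]
      exact memLocalIdeal_add h1 (memLocalIdeal_mul_right ih (hr c hc))
  have hre : ∀ c ∈ C, MemLocalIdeal M (r c ^ e - 1) := by
    intro c hc
    apply memLocalIdeal_sub_one_of_pow_prime_pow hM a (memLocalRing_pow (hr c hc) e)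
    rw [← pow_mul, mul_comm, ← hm]
    have h1 := hpow c hc N.index
    have h2 : c ^ N.index ∈ N := Subgroup.pow_index_mem N c
    have h3 := hone (c ^ N.index) (C.pow_mem hc _) h2
    have h4 : r c ^ N.index - 1 = (r (c ^ N.index) - 1) - (r (c ^ N.index) - r c ^ N.index) := by
      ring
    rw [h4]
    exact memLocalIdeal_sub h3 h1
  -- representatives
  choose cg hcgC hcg using hcov
  have hex : ∀ g : G, ∃ ζ : ℂ, ζ ^ e = 1 ∧ MemLocalIdeal M (ζ - r (cg g)) :=
    fun g => exists_root_lift hM he0 (hr _ (hcgC g)) (hre _ (hcgC g))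
  choose f hfe hfr using hex
  -- independence of the representative
  have hrep : ∀ g : G, ∀ c ∈ C, g * c⁻¹ ∈ N → MemLocalIdeal M (f g - r c) := by
    intro g c hc hgc
    have hn : (cg g)⁻¹ * c ∈ N := by
      have h1 : cg g * c⁻¹ ∈ N := by
        have h2 : cg g * c⁻¹ = (g * (cg g)⁻¹)⁻¹ * (g * c⁻¹) := by group
        rw [h2]
        exact N.mul_mem (N.inv_mem (hcg g)) hgc
      have h3 : (cg g)⁻¹ * c = (cg g)⁻¹ * (cg g * c⁻¹)⁻¹ * (cg g)⁻¹⁻¹ := by group
      rw [h3]
      exact hN.conj_mem _ (N.inv_mem h1) _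
    have hnC : (cg g)⁻¹ * c ∈ C := C.mul_mem (C.inv_mem (hcgC g)) hc
    have h4 := hmul (cg g) (hcgC g) _ hnC
    rw [mul_inv_cancel_left] at h4
    have h5 := hone _ hnC hn
    have h6 : f g - r c = (f g - r (cg g)) - (r c - r (cg g) * r ((cg g)⁻¹ * c)) -
        r (cg g) * (r ((cg g)⁻¹ * c) - 1) := by ring
    rw [h6]
    exact memLocalIdeal_sub (memLocalIdeal_sub (hfr g) h4)
      (memLocalIdeal_mul_left (hr _ (hcgC g)) h5)
  have hfloc : ∀ g, MemLocalRing M (f g) :=
    fun g => memLocalRing_of_isIntegral (isIntegral_of_pow_eq_one he0 (hfe g))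
  -- multiplicativity
  have hfmul : ∀ g g' : G, f (g * g') = f g * f g' := by
    intro g g'
    apply root_lift_unique hM hpe (hfe _) (by rw [mul_pow, hfe, hfe, one_mul])
    have hcc : cg g * cg g' ∈ C := C.mul_mem (hcgC g) (hcgC g')
    have hmem : g * g' * (cg g * cg g')⁻¹ ∈ N := by
      have h1 : g * g' * (cg g * cg g')⁻¹ = g * (g' * (cg g')⁻¹) * g⁻¹ * (g * (cg g)⁻¹) := by group
      rw [h1]
      exact N.mul_mem (hN.conj_mem _ (hcg g') g) (hcg g)
    have h2 := hrep (g * g') _ hcc hmem
    have h3 := hmul _ (hcgC g) _ (hcgC g')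
    have h4 : f (g * g') - f g * f g' = (f (g * g') - r (cg g * cg g')) +
        (r (cg g * cg g') - r (cg g) * r (cg g')) - (f g - r (cg g)) * r (cg g') -
          f g * (f g' - r (cg g')) := by ring
    rw [h4]
    exact memLocalIdeal_sub (memLocalIdeal_sub (memLocalIdeal_add h2 h3)
      (memLocalIdeal_mul_right (hfr g) (hr _ (hcgC g'))))
      (memLocalIdeal_mul_left (hfloc g) (hfr g'))
  have hf0 : ∀ g, f g ≠ 0 := by
    intro g h0
    have := hfe g
    rw [h0, zero_pow he0.ne'] at this
    exact zero_ne_one this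
  have hfN : ∀ n ∈ N, f n = 1 := by
    intro n hn
    apply root_lift_unique hM hpe (hfe n) (one_pow e)
    have h1 := hrep n 1 C.one_mem (by rw [inv_one, mul_one]; exact hn)
    have h2 := hone 1 C.one_mem N.one_mem
    have h3 : f n - 1 = (f n - r 1) + (r 1 - 1) := by ring
    rw [h3]
    exact memLocalIdeal_add h1 h2
  refine ⟨MonoidHom.mk' (fun g => Units.mk0 (f g) (hf0 g)) ?_, ?_, ?_⟩
  · intro g g'
    apply Units.ext
    simp only [Units.val_mk0, Units.val_mul]
    exact hfmul g g'
  · intro n hn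
    apply Units.ext
    simp only [MonoidHom.mk'_apply, Units.val_mk0, Units.val_one]
    exact hfN n hn
  · intro c hc
    simp only [MonoidHom.mk'_apply, Units.val_mk0]
    exact hrep c c hc (by rw [mul_inv_cancel]; exact N.one_mem)

end lift

end Cfsg.Agent.Lib.Helper23.RelCent
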