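/-
helper23: S4892 core, final form: `core_inner` with the leaves K (helper9), D1, D2 (helper27) and
E3 (helper6, on E1 + helper4's E2) plugged in.
-/
import Mathlib
import Cfsg.Agent.Lib.Helper23.PRatCoreD
import Cfsg.Agent.Lib.Helper9.PRatK
import Cfsg.Agent.Lib.Helper27.PRatD1
import Cfsg.Agent.Lib.Helper27.PRatD2
import Cfsg.Agent.Lib.Helper6.PRatE3

set_option autoImplicit false

namespace Cfsg.Agent.Lib.Helper23.PRat

open Representation Module Cfsg Cfsg.Agent.Lib.Helper24 Cfsg.Agent.Lib.Helper6 Cfsg.Agent.CharLib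
  Cfsg.Agent.Lib.Helper23.RelCent

universe u

theorem charDegree_eq_of_apply_one {Y : Type u} [Group Y] {χ : Y → ℂ} {d : ℕ} (h : χ 1 = d) :
    charDegree χ = d := by
  unfold charDegree
  rw [h, Complex.natCast_re, Nat.floor_natCast]

theorem core {X : Type u} [Group X] [Finite X] (p : ℕ) [Fact p.Prime] (hp2 : p ≠ 2)
    (M : Ideal AlgInt) (hM : IsPModular p M) (N : Subgroup X) [N.Normal] (Q : Sylow p N)
    (hcov : N ⊔ Subgroup.centralizer (((Q : Subgroup N).map N.subtype : Subgroup X) : Set X) = ⊤)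
    (θ : IrrCharacter N) (hθ : θ ∈ principalBlock M N)
    (hinv : ∀ x : X, conjFun N x (θ : N → ℂ) = (θ : N → ℂ))
    (hdeg : ¬ p ∣ charDegree (θ : N → ℂ)) (n : ℕ) (hn : Nat.card X ∣ n) (hn0 : n ≠ 0)
    (hrat : PRat p n (θ : N → ℂ)) :
    ∃ χ : IrrCharacter X, (∀ x : N, (χ : X → ℂ) x = (θ : N → ℂ) x) ∧ χ ∈ principalBlock M X ∧
      PRat p n (χ : X → ℂ) ∧ ¬ p ∣ orderOf (detChar (χ : X → ℂ)) ∧
      ∀ α : X ≃* X, (∀ x : X, α x ∈ N ↔ x ∈ N) →
        (∀ (x : N) (h : α (x : X) ∈ N), (θ : N → ℂ) ⟨α (x : X), h⟩ = (θ : N → ℂ) x) →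
        ∀ x : X, (χ : X → ℂ) (α x) = (χ : X → ℂ) x := by
  obtain ⟨d, _, hd⟩ := IsIrrCharacter.apply_one_pos θ.2
  have hpd : ¬ p ∣ d := by
    rw [← charDegree_eq_of_apply_one hd]
    exact hdeg
  have hθc : IsCharacter N (θ : N → ℂ) := IsIrrCharacter.isCharacter θ.2
  have hnN : Nat.card N ∣ n := (Subgroup.card_subgroup_dvd_card N).trans hn
  have hdetθ : ¬ p ∣ orderOf (detChar (θ : N → ℂ)) :=
    Cfsg.Agent.Lib.Helper27.PRat.not_dvd_orderOf_detChar p hp2 hθc n hnN hn0 hrat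
  have hext := Cfsg.Agent.Lib.Helper6.PRat.exists_extension p M hM N Q hcov θ hθ hinv hdeg hdetθ
  exact core_inner p M hM N Q hcov θ hθ hd hpd hdetθ n hn hrat hext
    (fun χ hχ k hk hk1 x =>
      Cfsg.Agent.Lib.Helper9.PRat.memLocalIdeal_char_pow_sub p M hM hχ n hn hn0 k hk hk1 x)
    (fun χ hχ k hk => Cfsg.Agent.Lib.Helper27.PRat.detChar_comp_pow hχ k hk)

end Cfsg.Agent.Lib.Helper23.PRat
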