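import Mathlib
import Cfsg.Agent.Lib.Helper23.PairIndA
import Cfsg.Agent.Lib.Helper23.PairIndB
import Cfsg.Agent.S4657
import Cfsg.Agent.S4659
import Cfsg.Agent.S4661

/-!
helper23: a block `b` of `H` with defect group `D₀` and `C_G(D₀) ≤ H` induces a block of `G`
which has a defect group `D ≥ D₀` with `C_D(D₀) ≤ Z(D₀)`.
-/

set_option autoImplicit false

namespace Cfsg.Agent.Lib.Helper23.PairInd

open Cfsg Cfsg.Agent.CharLib Cfsg.Agent.Lib.Helper24 Cfsg.Agent.Lib.Helper6
open scoped ComplexConjugate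

universe u

section aux

variable {X : Type u} [Group X]

/-- `Z(Q)` is normal in `C_X(Q)`. -/
theorem normal_inf_centralizer_subgroupOf (Q : Subgroup X) :
    ((Q ⊓ Subgroup.centralizer (Q : Set X)).subgroupOf
      (Subgroup.centralizer (Q : Set X))).Normal := by
  constructor
  intro n hn g
  have hnQ : (n : X) ∈ Q := (Subgroup.mem_subgroupOf.mp hn).1
  have hg : ∀ q ∈ Q, q * (g : X) = (g : X) * q := fun q hq =>
    Subgroup.mem_centralizer_iff.mp g.2 q hq
  have h1 : g * n * g⁻¹ = n := by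
    apply Subtype.ext
    simp only [Subgroup.coe_mul, Subgroup.coe_inv]
    rw [← hg (n : X) hnQ, mul_assoc, mul_inv_cancel, mul_one]
  rw [h1]
  exact hn

end aux

section main

variable {G : Type u} [Group G] [Finite G] {M : Ideal AlgInt} {p : ℕ} [hpp : Fact p.Prime]

/-- If `b` is a block of `H` with defect group `D₀` and `C_G(D₀) ≤ H`, then `b` induces a block `B`
of `G`, and `B` has a defect group `D ≥ D₀` with `C_D(D₀) ≤ Z(D₀)`. -/
theorem exists_induced_of_centralizer_le (hM : IsPModular p M) (H : Subgroup G)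
    (b : Set (IrrCharacter H)) (hb : IsPBlock M b) (D₀ : Subgroup H)
    (hD₀ : IsDefectGroup p M b D₀)
    (hC : Subgroup.centralizer ((D₀.map H.subtype : Subgroup G) : Set G) ≤ H) :
    ∃ B : Set (IrrCharacter G), IsInducedBlock M H b B ∧
      ∃ D : Subgroup G, IsDefectGroup p M B D ∧ D₀.map H.subtype ≤ D ∧
        D ⊓ Subgroup.centralizer ((D₀.map H.subtype : Subgroup G) : Set G) ≤
          ((Subgroup.center D₀).map D₀.subtype).map H.subtype := by
  classical
  let _ : Fintype G := Fintype.ofFinite G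
  let _ : Fintype H := Fintype.ofFinite H
  have hprime : M.IsPrime := isPrime_of_isPModular hM
  -- the side of `H`
  obtain ⟨f₀, hf₀⟩ := exists_isBrauerPairOf_of_isDefectGroup hM b hb D₀ hD₀
  have hmax₀ := isMaximalBrauerPair_of_isDefectGroup hM b D₀ hD₀ f₀ hf₀
  have hδ₀ := isDefectGroup_of_isMaximalBrauerPair hM b D₀ f₀ hmax₀
  have hind₀ := isInducedBlock_of_isBrauerPairOf' hM b D₀ f₀ hf₀
  -- transport
  set P : Subgroup G := D₀.map H.subtype with hP
  set κ := centEquivT H P D₀ rfl hC with hκ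
  set f := BlockIso.pullBlock κ.symm f₀ with hf
  have hfblock : IsPBlock M f := BlockIso.isPBlock_pullBlock κ.symm hf₀.1.2
  have hPp : IsPGroup p P := hf₀.1.1.map _
  set δ₀ : Subgroup (Subgroup.centralizer (D₀ : Set H)) :=
    (D₀ ⊓ Subgroup.centralizer (D₀ : Set H)).subgroupOf (Subgroup.centralizer (D₀ : Set H))
    with hδ₀def
  have hδ : IsDefectGroup p M f (δ₀.comap κ.symm.toMonoidHom) :=
    BlockIso.isDefectGroup_pullBlock κ.symm hδ₀
  -- the side of `G`
  obtain ⟨B, hB, -⟩ := Cfsg.Agent.S4657.result p M hM P f ⟨hPp, hfblock⟩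
  have hind := isInducedBlock_of_isBrauerPairOf' hM B P f hB
  have htrans := isInducedBlock_trans_cent H D₀ hC f₀ b B hind₀ hind
  refine ⟨B, htrans, ?_⟩
  obtain ⟨E, fE, hmaxE, hle⟩ := exists_maximal_ge (M := M) p B _ P f hB rfl
  have hE : IsDefectGroup p M B E := Cfsg.Agent.S4659.result p M hM B E fE hmaxE
  have hPE : P ≤ E := Cfsg.Agent.S4681.le_of_subpairLE p M P f E fE hle
  obtain ⟨⟨δ, hδ', hle'⟩, -⟩ := Cfsg.Agent.S4661.result p M hM B E P fE f hmaxE hPE hfblock hle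
  -- the defect group of `f` is unique
  have hn₀ : δ₀.Normal := normal_inf_centralizer_subgroupOf D₀
  have hn : (δ₀.comap κ.symm.toMonoidHom).Normal := hn₀.comap _
  have hδp : IsPGroup p (δ₀.comap κ.symm.toMonoidHom) :=
    ExtFirstMain.isPGroup_of_isDefectGroup hδ
  have h1 : δ₀.comap κ.symm.toMonoidHom ≤ δ :=
    le_of_isDefectGroup_of_normal hM _ hδp hfblock hδ'
  have h2 : Nat.card δ ≤ Nat.card (δ₀.comap κ.symm.toMonoidHom) :=
    card_le_of_isDefectGroup hM hfblock hδ' hδ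
  have heq : δ₀.comap κ.symm.toMonoidHom = δ := Subgroup.eq_of_le_of_card_ge h1 h2
  refine ⟨E, hE, hPE, ?_⟩
  intro x hx
  have hxC : x ∈ Subgroup.centralizer (P : Set G) := hx.2
  have h3 : (⟨x, hxC⟩ : Subgroup.centralizer (P : Set G)) ∈ δ := by
    apply hle'
    rw [Subgroup.mem_subgroupOf]
    exact hx
  rw [← heq] at h3
  have h4 : κ.symm ⟨x, hxC⟩ ∈ δ₀ := h3
  rw [hδ₀def, Subgroup.mem_subgroupOf] at h4
  have h5 : (((κ.symm ⟨x, hxC⟩ : Subgroup.centralizer (D₀ : Set H)) : H) : G) = x := by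
    have := centEquivT_coe H P D₀ rfl hC (κ.symm ⟨x, hxC⟩)
    rw [← this, ← hκ, MulEquiv.apply_symm_apply]
  set y : H := ((κ.symm ⟨x, hxC⟩ : Subgroup.centralizer (D₀ : Set H)) : H) with hy
  have hyD : y ∈ D₀ := h4.1
  have hyC : y ∈ Subgroup.centralizer (D₀ : Set H) := h4.2
  refine ⟨y, ⟨⟨y, hyD⟩, ?_, rfl⟩, h5⟩
  rw [SetLike.mem_coe, Subgroup.mem_center_iff]
  intro d
  apply Subtype.ext
  exact Subgroup.mem_centralizer_iff.mp hyC d d.2

end main

end Cfsg.Agent.Lib.Helper23.PairInd
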