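/-
helper23: Frobenius-Schur sums of permutation characters (for S4784).
-/
import Mathlib
import Cfsg.Agent.Lib.Helper23.FSInd
import Cfsg.Agent.Lib.Helper6.Gallagher2
import Cfsg.Agent.Lib.Helper6.IndFun
import Cfsg.Agent.Lib.Helper6.CharExtra
import Cfsg.Agent.Lib.Helper2.MGroup
import Cfsg.Agent.Lib.Helper25.Inflate
import Cfsg.Agent.Lib.Lead.CharCenter

set_option autoImplicit false

namespace Cfsg.Agent.Lib.Helper23

open Cfsg Cfsg.Agent.CharLib Cfsg.Agent.Lib.Helper6
open scoped ComplexConjugate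

universe u

variable {G : Type u} [Group G] [Fintype G]

/-- the "Frobenius–Schur sum" of the permutation character on the cosets of `H` counts the elements
whose square lies in `H` -/
theorem sum_indFun_one_sq (H : Subgroup G) [DecidablePred (· ∈ H)] :
    ∑ y : G, indFun H (fun _ => (1 : ℂ)) (y * y) =
      (Nat.card H : ℂ)⁻¹ * ((Nat.card G : ℂ) *
        ((Finset.univ.filter (fun y : G => y * y ∈ H)).card : ℂ)) := by
  classical
  simp only [Cfsg.Agent.Lib.Helper6.indFun_apply]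
  rw [← Finset.mul_sum, Finset.sum_comm]
  congr 1
  have h1 : ∀ x : G, ∑ y : G, extendByZero H (fun _ => (1 : ℂ)) (x⁻¹ * (y * y) * x) =
      ((Finset.univ.filter (fun y : G => y * y ∈ H)).card : ℂ) := by
    intro x
    have h2 : ∀ y : G, x⁻¹ * (y * y) * x = (x⁻¹ * y * x) * (x⁻¹ * y * x) := by
      intro y; group
    simp only [h2]
    rw [Fintype.sum_equiv (MulAut.conj x⁻¹).toEquiv
      (fun y : G => extendByZero H (fun _ => (1 : ℂ)) ((x⁻¹ * y * x) * (x⁻¹ * y * x)))
      (fun z : G => extendByZero H (fun _ => (1 : ℂ)) (z * z))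
      (fun y => by simp)]
    simp only [extendByZero_one]
    rw [Finset.sum_boole]
  rw [Finset.sum_congr rfl (fun x _ => h1 x), Finset.sum_const, Finset.card_univ, nsmul_eq_mul,
    Nat.card_eq_fintype_card]

/-- elements of the normal core fix every coset -/
theorem indFun_one_apply_of_mem_normalCore (H : Subgroup G) {c : G} (hc : c ∈ H.normalCore) :
    indFun H (fun _ => (1 : ℂ)) c = indFun H (fun _ => (1 : ℂ)) 1 := by
  rw [indFun_one_eq_card_fixed, indFun_one_eq_card_fixed]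
  congr 1
  apply Nat.card_congr
  apply Equiv.subtypeEquivRight
  intro q
  induction q using QuotientGroup.induction_on with
  | H x =>
    constructor
    · intro _; exact one_smul _ _
    · intro _
      show ((c * x : G) : G ⧸ H) = (x : G ⧸ H)
      rw [QuotientGroup.eq]
      have h1 : x⁻¹ * c⁻¹ * x⁻¹⁻¹ ∈ H := (H.normalCore.inv_mem hc) x⁻¹
      have h2 : (c * x)⁻¹ * x = x⁻¹ * c⁻¹ * x⁻¹⁻¹ := by group
      rw [h2]; exact h1

/-- an irreducible character with a normal subgroup of odd index in its kernel and Frobenius–Schur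
indicator `1` is principal -/
theorem eq_one_of_fs_eq_one_of_odd_index (C : Subgroup G) [C.Normal] (hodd : Odd C.index)
    (χ : IrrCharacter G) (hker : ∀ c ∈ C, (χ : G → ℂ) c = (χ : G → ℂ) 1)
    (hν : (Nat.card G : ℂ)⁻¹ * ∑ g : G, (χ : G → ℂ) (g * g) = 1) :
    (χ : G → ℂ) = fun _ => 1 := by
  classical
  obtain ⟨θ, hθ⟩ := Cfsg.Agent.Lib.Helper25.exists_inflateIrr_eq C χ hker
  letI : Fintype (G ⧸ C) := Fintype.ofFinite _
  letI : Fintype C := Fintype.ofFinite _
  have hχ : ∀ g : G, (χ : G → ℂ) g = (θ : G ⧸ C → ℂ) (g : G ⧸ C) := by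
    intro g; rw [← hθ]; rfl
  -- sum over G of a function of the coset
  have hsum : ∀ F : G ⧸ C → ℂ, ∑ g : G, F (g : G ⧸ C) = (Nat.card C : ℂ) * ∑ q : G ⧸ C, F q := by
    intro F
    rw [sum_eq_sum_quotient_mul C, Finset.mul_sum]
    apply Finset.sum_congr rfl
    intro q _
    have h1 : ∀ z : C, F ((q.out * (z : G) : G) : G ⧸ C) = F q := by
      intro z
      congr 1
      rw [QuotientGroup.mk_mul, (QuotientGroup.eq_one_iff (z : G)).mpr z.2, mul_one,
        QuotientGroup.out_eq']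
    rw [Finset.sum_congr rfl (fun z _ => h1 z), Finset.sum_const, Finset.card_univ, nsmul_eq_mul,
      Nat.card_eq_fintype_card]
  have h2 : ∑ g : G, (χ : G → ℂ) (g * g) = (Nat.card C : ℂ) * ∑ q : G ⧸ C, (θ : G ⧸ C → ℂ) (q * q) := by
    rw [← hsum (fun q => (θ : G ⧸ C → ℂ) (q * q))]
    apply Finset.sum_congr rfl
    intro g _
    rw [hχ, QuotientGroup.mk_mul]
  have hcop : (Nat.card (G ⧸ C)).Coprime 2 := by
    rw [← Subgroup.index_eq_card]
    exact (Nat.coprime_two_right.mpr hodd)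
  have h3 : ∑ q : G ⧸ C, (θ : G ⧸ C → ℂ) (q * q) = ∑ q : G ⧸ C, (θ : G ⧸ C → ℂ) q := by
    rw [← Equiv.sum_comp (powCoprime hcop) (fun q => (θ : G ⧸ C → ℂ) q)]
    apply Finset.sum_congr rfl
    intro q _
    rw [powCoprime_apply, pow_two]
  have hcard : (Nat.card G : ℂ) = (Nat.card C : ℂ) * (Nat.card (G ⧸ C) : ℂ) := by
    rw [← Nat.cast_mul, mul_comm, ← Subgroup.card_eq_card_quotient_mul_card_subgroup]
  have hC0 : (Nat.card C : ℂ) ≠ 0 := by exact_mod_cast Nat.card_pos.ne'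
  have hQ0 : (Nat.card (G ⧸ C) : ℂ) ≠ 0 := by exact_mod_cast Nat.card_pos.ne'
  -- inner product of θ with the principal character
  let one' : IrrCharacter (G ⧸ C) := ⟨1, isIrrCharacter_one (G ⧸ C)⟩
  have h4 := classInner_irr' θ one'
  have h5 : classInner (θ : G ⧸ C → ℂ) (one' : G ⧸ C → ℂ) =
      (Nat.card (G ⧸ C) : ℂ)⁻¹ * ∑ q : G ⧸ C, (θ : G ⧸ C → ℂ) q := by
    unfold classInner
    congr 1
    apply Finset.sum_congr rfl
    intro q _
    show (θ : G ⧸ C → ℂ) q * conj ((1 : G ⧸ C → ℂ) q) = _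
    rw [Pi.one_apply, map_one, mul_one]
  rw [h2, h3, hcard] at hν
  have h6 : (Nat.card (G ⧸ C) : ℂ)⁻¹ * ∑ q : G ⧸ C, (θ : G ⧸ C → ℂ) q = 1 := by
    rw [← hν]
    field_simp
  rw [h5, h6] at h4
  have h7 : θ = one' := by
    by_contra hne
    rw [if_neg hne] at h4
    exact one_ne_zero h4
  funext g
  rw [hχ, h7]
  rfl

end Cfsg.Agent.Lib.Helper23
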