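import Mathlib
import Cfsg.Agent.S0016
import Cfsg.Agent.Lib.Helper23.GL23Data
import Cfsg.Agent.Lib.Helper23.RankOne

set_option autoImplicit false
open QuaternionGroup
open scoped Pointwise
open Cfsg.Agent.Lib.Helper23.Q8Aut
open Cfsg.Agent.Lib.Helper23.Q8Normal
open Cfsg.Agent.Lib.Helper23.RankOne

namespace Cfsg.Agent.Lib.Helper23.Q8Case

/-- The `Q8` case of the theorem on solvable groups with rank one Sylow 2-intersections. -/
theorem q8_case {X : Type*} [Group X] [Finite X] (R : Subgroup X) [R.Normal] (e : R ≃* Q)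
    (hC : Subgroup.centralizer (R : Set X) ≤ R) (hRS : ∀ P : Sylow 2 X, R ≤ (P : Subgroup X))
    (S T : Sylow 2 X) (hne : S ≠ T) :
    Nonempty (X ≃* GL (Fin 2) (ZMod 3)) ∨
    (Nat.card X = 48 ∧ Nat.card (Subgroup.center X) = 2 ∧
      Nonempty (X ⧸ Subgroup.center X ≃* Equiv.Perm (Fin 4)) ∧
      ∀ P : Sylow 2 X, Nonempty ((P : Subgroup X) ≃* QuaternionGroup 4)) := by
  have hdvd : Nat.card X ∣ 48 := card_dvd R e hC
  have hR8 : Nat.card R = 8 := card_R R e
  have hcardP : ∀ P : Sylow 2 X, Nat.card P = Nat.card S := by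
    intro P
    rw [Sylow.card_eq_multiplicity P, Sylow.card_eq_multiplicity S]
  obtain ⟨k, hk⟩ := IsPGroup.iff_card.mp S.isPGroup'
  have hS8 : 8 ∣ Nat.card S := by
    rw [← hR8]; exact Subgroup.card_dvd_of_le (hRS S)
  have hSX : Nat.card S ∣ Nat.card X := Subgroup.card_subgroup_dvd_card _
  have hSne8 : Nat.card S ≠ 8 := by
    intro h8
    have h1 : R = (S : Subgroup X) :=
      Subgroup.eq_of_le_of_card_ge (hRS S) (by rw [hR8, h8])
    have h2 : R = (T : Subgroup X) :=
      Subgroup.eq_of_le_of_card_ge (hRS T) (by rw [hR8, hcardP T, h8])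
    exact hne (Sylow.ext (h1.symm.trans h2))
  have hS16 : Nat.card S = 16 := by
    have h48 : 2 ^ k ∣ 48 := by rw [← hk]; exact hSX.trans hdvd
    have hk6 : k < 6 := by
      by_contra hcon
      have h1 : 2 ^ 6 ≤ 2 ^ k := Nat.pow_le_pow_right (by norm_num) (by omega)
      have h2 : 2 ^ k ≤ 48 := Nat.le_of_dvd (by norm_num) h48
      omega
    rw [hk] at hS8 hSne8 ⊢
    interval_cases k <;> omega
  have h48 : Nat.card X = 48 := by
    obtain ⟨n, hn⟩ : ∃ n, Nat.card X = n := ⟨_, rfl⟩
    have h16 : 16 ∣ n := by rw [← hn, ← hS16]; exact hSX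
    have hn48 : n ∣ 48 := by rw [← hn]; exact hdvd
    have hle : n ≤ 48 := Nat.le_of_dvd (by norm_num) hn48
    have hn16 : n ≠ 16 := by
      intro h
      have hSt : (S : Subgroup X) = ⊤ := Subgroup.eq_top_of_card_eq _ (by rw [hS16, hn, h])
      have hTt : (T : Subgroup X) = ⊤ :=
        Subgroup.eq_top_of_card_eq _ (by rw [hcardP T, hS16, hn, h])
      exact hne (Sylow.ext (hSt.trans hTt.symm))
    rw [hn]
    interval_cases n <;> omega
  -- the center
  have hcen : Subgroup.center X = (Θ R e).ker := by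
    apply le_antisymm
    · intro g hg
      rw [MonoidHom.mem_ker, Θ_eq_one_iff]
      intro r _
      exact (Subgroup.mem_center_iff.mp hg r).symm
    · intro g hg
      rw [MonoidHom.mem_ker] at hg
      rcases eq_one_or_z_of_Θ_eq_one R e hC g hg with rfl | rfl
      · exact one_mem _
      · rw [Subgroup.mem_center_iff]
        exact z_central R e hC
  have hcardcen : Nat.card (Subgroup.center X) = 2 := by
    rw [hcen]; exact card_ker R e hC
  have hquot : Nonempty (X ⧸ Subgroup.center X ≃* Equiv.Perm (Fin 4)) := by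
    obtain ⟨ψ⟩ := mulAut_equiv_perm
    exact ⟨(QuotientGroup.quotientMulEquivOfEq hcen).trans
      ((QuotientGroup.quotientKerEquivOfSurjective (Θ R e) (Θ_surjective R e hC h48)).trans ψ)⟩
  by_cases ht : ∃ t : X, t * t = 1 ∧ t ∉ R
  · obtain ⟨t, ht2, htR⟩ := ht
    exact Or.inl (Cfsg.Agent.Lib.Helper23.GL23Data.iso_GL23 R e hC h48 t ht2 htR)
  · right
    push Not at ht
    refine ⟨h48, hcardcen, hquot, fun P => ?_⟩
    have hP16 : Nat.card P = 16 := by rw [hcardP P, hS16]
    -- unique involution in P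
    set c : (P : Subgroup X) := ⟨z R e, hRS P (z_mem R e)⟩ with hc
    have hcuniq : ∀ h : (P : Subgroup X), h * h = 1 → h ≠ 1 → h = c := by
      intro h hh h1
      have h2 : (h : X) * h = 1 := congrArg Subtype.val hh
      have h3 : (h : X) ≠ 1 := fun h0 => h1 (Subtype.ext h0)
      have hr : (h : X) ∈ R := ht _ h2
      exact Subtype.ext (eq_z_of_involution R e _ hr h2 h3)
    rcases Cfsg.Agent.S0016.result 2 P.isPGroup'
      (subgroup_unique_of_involution_unique c hcuniq) with hcyc | ⟨-, n, ⟨ε⟩⟩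
    · exfalso
      -- P is commutative, but R is not
      set r1 : R := e.symm (a 1) with hr1
      set r2 : R := e.symm (xa 0) with hr2
      have hcomm := (IsCyclic.isMulCommutative (α := (P : Subgroup X))).is_comm.comm
        ⟨(r1 : X), hRS P r1.2⟩ ⟨(r2 : X), hRS P r2.2⟩
      have h1 : (r1 : X) * r2 = r2 * r1 := congrArg Subtype.val hcomm
      have h2 : r1 * r2 = r2 * r1 := Subtype.ext h1
      have h3 := congrArg e h2
      rw [map_mul, map_mul, hr1, hr2, MulEquiv.apply_symm_apply, MulEquiv.apply_symm_apply] at h3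
      exact not_comm_Q h3
    · have hcard : Nat.card (QuaternionGroup (2 ^ n)) = 16 := by
        rw [← Nat.card_congr ε.toEquiv, hP16]
      rw [Nat.card_eq_fintype_card, QuaternionGroup.card] at hcard
      have hn : 2 ^ n = 4 := by omega
      rw [hn] at ε
      exact ⟨ε⟩

end Cfsg.Agent.Lib.Helper23.Q8Case
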