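import Mathlib
import Cfsg.Prelude.Def_CaseTheorems
import Cfsg.Prelude.Def_OddOrderLocal
import Cfsg.Agent.Lib.Helper26.EssChain
import Cfsg.Agent.Lib.Helper26.R5Defs
import Cfsg.Agent.Lib.Helper1.ClassThreePow
import Cfsg.Agent.Lib.Helper1.OmegaRankTwo
import Cfsg.Agent.Lib.Helper24.R5A

/-!
# S5289 leaf R5I (for helper26): Case I, second half.  `E ≅ C_p × C_p`: the torus extends to
`𝕋 = N_S(E)`, which has order `p ^ 3` and exponent `p`.
-/

set_option autoImplicit false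
open scoped commutatorElement
open Cfsg.Agent.Lib.Helper26 Cfsg.Agent.Lib.Helper26.R5

namespace Cfsg.Agent.Lib.Helper23.R5Leaf

/-- an automorphism fixing `w`: all its integer powers fix `w` -/
theorem zpowers_fix {E : Type*} [Group E] {a g : MulAut E} {w : E} (ha : a w = w)
    (hg : g ∈ Subgroup.zpowers a) : g w = w := by
  have h : Subgroup.zpowers a ≤ MulAction.stabilizer (MulAut E) w := by
    rw [Subgroup.zpowers_le, MulAction.mem_stabilizer_iff, MulAut.smul_def]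
    exact ha
  have := h hg
  rwa [MulAction.mem_stabilizer_iff, MulAut.smul_def] at this

theorem sq_zpow_comm {E : Type*} [Group E] (w : E) (n : ℤ) : (w ^ 2) ^ n = (w ^ n) ^ 2 := by
  rw [← zpow_natCast, ← zpow_mul, ← zpow_natCast (w ^ n), ← zpow_mul, mul_comm]

/-- R5I -/
theorem caseI_torus {E 𝕋 : Type*} [Group E] [Group 𝕋] [Finite 𝕋] {p : ℕ} [Fact p.Prime] (hp : 3 < p)
    (h𝕋 : IsPGroup p 𝕋)
    (ι : E →* 𝕋) (hι : Function.Injective ι)
    (hcen : ∀ t : 𝕋, (∀ e : E, t * ι e = ι e * t) → t ∈ ι.range)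
    (hne : ∃ t : 𝕋, t ∉ ι.range)
    (hcomm : ∀ x y : E, x * y = y * x) (hexp : ∀ x : E, x ^ p = 1) (hcard : Nat.card E = p ^ 2)
    (X : Subgroup (MulAut E)) (hd : EssData p E X)
    (c : 𝕋 →* MulAut E) (hc : ∀ t e, ι (c t e) = t * ι e * t⁻¹) (hcX : ∀ t, c t ∈ X)
    (Y : Subgroup (MulAut 𝕋))
    (hext : ∀ τ ∈ X, (∀ t, ∃ t', τ * c t * τ⁻¹ = c t') → ∃ τ' ∈ Y, ∀ e, τ' (ι e) = ι (τ e)) :
    Nat.card 𝕋 = p ^ 3 ∧ (∀ t : 𝕋, t ^ p = 1) ∧
      ∃ τ' ∈ Y, ∃ w₁ w₂ : E, w₁ ≠ 1 ∧ (∀ e : E, ∃ i j : ℕ, e = w₁ ^ i * w₂ ^ j) ∧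
        (∀ t : 𝕋, t * ι w₁ = ι w₁ * t) ∧ (∃ t : 𝕋, t * ι w₂ ≠ ι w₂ * t) ∧
        τ' (ι w₁) = ι w₁ ^ 2 ∧ τ' (ι w₂) = ι w₂ ^ ((p + 1) / 2) := by
  classical
  have hpp : p.Prime := Fact.out
  have hfinE : Finite E := Finite.of_injective ι hι
  have hp2 : p ≠ 2 := by omega
  obtain ⟨x, hx⟩ := hne
  -- the kernel of `c`
  have hker_le : ∀ t : 𝕋, c t = 1 → t ∈ ι.range := by
    intro t ht
    apply hcen
    intro e
    have h1 := hc t e
    rw [ht, MulAut.one_apply] at h1
    calc t * ι e = (t * ι e * t⁻¹) * t := by group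
      _ = ι e * t := by rw [← h1]
  have hrange_ker : ∀ e : E, c (ι e) = 1 := by
    intro e
    ext e'
    apply hι
    rw [hc, MulAut.one_apply, ← map_inv, ← map_mul, ← map_mul, hcomm e e', mul_inv_cancel_right]
  have ha1 : c x ≠ 1 := fun h => hx (hker_le x h)
  have hcp : ∀ t : 𝕋, ∃ j : ℕ, (c t) ^ p ^ j = 1 := by
    intro t
    obtain ⟨j, hj⟩ := h𝕋 t
    exact ⟨j, by rw [← map_pow, hj, map_one]⟩
  have hrangeP : IsPGroup p c.range := h𝕋.of_surjective c.rangeRestrict c.rangeRestrict_surjective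
  have hrange : c.range = Subgroup.zpowers (c x) :=
    Cfsg.Agent.Lib.Helper24.R5Leaf.pgroup_eq_zpowers hcomm hcard hexp c.range hrangeP ⟨x, rfl⟩ ha1
  have hcz : ∀ t, c t ∈ Subgroup.zpowers (c x) := fun t => by rw [← hrange]; exact ⟨t, rfl⟩
  have hzP : IsPGroup p (Subgroup.zpowers (c x)) := by rw [← hrange]; exact hrangeP
  -- a second `p`-element
  obtain ⟨β, hβX, hβp, hβ⟩ :
      ∃ β ∈ X, (∃ j : ℕ, β ^ p ^ j = 1) ∧ β ∉ Subgroup.zpowers (c x) := by
    by_contra hcon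
    push Not at hcon
    let N : Subgroup X := (Subgroup.zpowers (c x)).subgroupOf X
    have hNn : N.Normal := by
      constructor
      intro n hn g
      rw [Subgroup.mem_subgroupOf] at hn ⊢
      apply hcon _ (g * n * g⁻¹).2
      obtain ⟨j, hj⟩ := hzP ⟨(n : MulAut E), hn⟩
      refine ⟨j, ?_⟩
      have hj' : (n : MulAut E) ^ p ^ j = 1 := congrArg Subtype.val hj
      show ((g : MulAut E) * n * (g : MulAut E)⁻¹) ^ p ^ j = 1
      rw [conj_pow, hj', mul_one, mul_inv_cancel]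
    have hNp : IsPGroup p N := hzP.comap_subtype
    have hmem : (⟨c x, hcX x⟩ : X) ∈ N := by
      rw [Subgroup.mem_subgroupOf]; exact Subgroup.mem_zpowers (c x)
    obtain ⟨g, hg⟩ := hd.core N hNn hNp _ hmem
    apply ha1
    have hg' : MulAut.conj g = c x := hg
    rw [← hg']
    ext e
    rw [MulAut.conj_apply, MulAut.one_apply, hcomm g e, mul_inv_cancel_right]
  -- the torus
  have hodd : p % 2 = 1 := by
    rcases hpp.eq_two_or_odd with h | h
    · omega
    · exact h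
  have huu : 2 * ((p + 1) / 2) ≡ 1 [MOD p] := by
    have h1 : 2 * ((p + 1) / 2) = p + 1 := by omega
    rw [h1]
    exact Nat.add_modEq_left
  obtain ⟨h, hh, w₁, w₂, hw₁, hgen, hfix, hh₁, hh₂, hconj, hap⟩ :=
    Cfsg.Agent.Lib.Helper24.R5Leaf.torus_lemma hp2 hcomm hcard hexp ha1 (hcp x) hβp hβ 2
      ((p + 1) / 2) huu
  have hhX : h ∈ X := by
    have : Subgroup.closure ({c x, β} : Set (MulAut E)) ≤ X := by
      rw [Subgroup.closure_le]
      intro y hy
      rcases hy with rfl | hy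
      · exact hcX x
      · rw [Set.mem_singleton_iff] at hy
        rw [hy]; exact hβX
    exact this hh
  have hnorm : ∀ t, ∃ t', h * c t * h⁻¹ = c t' := by
    intro t
    obtain ⟨n, hn⟩ := Subgroup.mem_zpowers_iff.mp (hcz t)
    refine ⟨(x ^ (2 * 2)) ^ n, ?_⟩
    rw [← hn, map_zpow, map_pow, ← hconj, conj_zpow]
  obtain ⟨τ', hτ'Y, hτ'⟩ := hext h hhX hnorm
  -- `w₁` central, `w₂` not
  have haw₁ : c x w₁ = w₁ := (hfix w₁).mpr (Subgroup.mem_zpowers w₁)
  have hw₁c : ∀ t : 𝕋, t * ι w₁ = ι w₁ * t := by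
    intro t
    have h1 := hc t w₁
    rw [zpowers_fix haw₁ (hcz t)] at h1
    calc t * ι w₁ = (t * ι w₁ * t⁻¹) * t := by group
      _ = ι w₁ * t := by rw [← h1]
  have hw₂c : ∃ t : 𝕋, t * ι w₂ ≠ ι w₂ * t := by
    refine ⟨x, fun hcomm2 => ha1 ?_⟩
    have haw₂ : c x w₂ = w₂ := by
      apply hι
      rw [hc, hcomm2, mul_inv_cancel_right]
    ext e
    obtain ⟨i, j, rfl⟩ := hgen e
    rw [map_mul, map_pow, map_pow, haw₁, haw₂, MulAut.one_apply]
  -- the order of `𝕋`
  have hkerc : c.ker = ι.range := by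
    apply le_antisymm
    · intro t ht; exact hker_le t (MonoidHom.mem_ker.mp ht)
    · rintro _ ⟨e, rfl⟩; exact MonoidHom.mem_ker.mpr (hrange_ker e)
  have hcardrange : Nat.card ι.range = p ^ 2 := by
    rw [← hcard]
    exact Nat.card_congr (MonoidHom.ofInjective hι).toEquiv.symm
  have horda : orderOf (c x) = p := orderOf_eq_prime hap ha1
  have hcard𝕋 : Nat.card 𝕋 = p ^ 3 := by
    rw [← Subgroup.card_mul_index c.ker, Subgroup.index_ker, hkerc, hcardrange, hrange,
      Nat.card_zpowers, horda]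
    ring
  -- the exponent of `𝕋`
  have hexp𝕋 : ∀ t : 𝕋, t ^ p = 1 := by
    by_contra hcon
    push Not at hcon
    obtain ⟨t₀, ht₀⟩ := hcon
    have hrexp : ∀ y ∈ ι.range, y ^ p = 1 := by
      rintro _ ⟨e, rfl⟩
      rw [← map_pow, hexp, map_one]
    have hcommr : commutator 𝕋 ≤ ι.range := by
      rw [commutator_def, Subgroup.commutator_le]
      intro s _ t _
      rw [← hkerc, MonoidHom.mem_ker, map_commutatorElement, commutatorElement_eq_one_iff_commute]
      obtain ⟨m, hm⟩ := Subgroup.mem_zpowers_iff.mp (hcz s)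
      obtain ⟨n, hn⟩ := Subgroup.mem_zpowers_iff.mp (hcz t)
      rw [← hm, ← hn]
      exact Commute.zpow_zpow (Commute.refl (c x)) m n
    have hpow : ∀ s t : 𝕋, (s * t) ^ p = s ^ p * t ^ p := by
      apply Cfsg.Agent.Lib.Helper1.mul_pow_prime_of_small_class
      · right
        refine ⟨hp, Cfsg.Agent.Lib.Helper1.class_three_of_card_le h𝕋 ?_⟩
        rw [hcard𝕋]
        exact Nat.pow_le_pow_right hpp.pos (by norm_num)
      · refine le_trans hcommr ?_
        intro y hy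
        exact Subgroup.subset_closure (hrexp y hy)
    let K : Subgroup 𝕋 :=
      { carrier := {y | y ^ p = 1}
        one_mem' := one_pow p
        mul_mem' := by
          intro s t hs ht
          have hs' : s ^ p = 1 := hs
          have ht' : t ^ p = 1 := ht
          show (s * t) ^ p = 1
          rw [hpow, hs', ht', one_mul]
        inv_mem' := by
          intro s hs
          have hs' : s ^ p = 1 := hs
          show (s⁻¹) ^ p = 1
          rw [inv_pow, hs', inv_one] }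
    have hrK : ι.range ≤ K := fun y hy => hrexp y hy
    have hKeq : ι.range = K := by
      apply Subgroup.eq_of_le_of_card_ge hrK
      have h1 : Nat.card K ∣ p ^ 3 := hcard𝕋 ▸ Subgroup.card_subgroup_dvd_card K
      obtain ⟨k, hk3, hk⟩ := (Nat.dvd_prime_pow hpp).mp h1
      rw [hcardrange, hk]
      apply Nat.pow_le_pow_right hpp.pos
      by_contra hk2
      have hk3' : k = 3 := by omega
      have hKtop : K = ⊤ := by
        apply Subgroup.eq_top_of_card_eq
        rw [hk, hk3', hcard𝕋]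
      have : t₀ ∈ K := hKtop ▸ Subgroup.mem_top t₀
      exact ht₀ this
    -- `p`-th powers are central
    have hpc : ∀ s t : 𝕋, s * t ^ p * s⁻¹ = t ^ p := by
      intro s t
      have h1 : s * t * s⁻¹ = t * (t⁻¹ * s * t * s⁻¹) := by group
      have h2 : t⁻¹ * s * t * s⁻¹ ∈ ι.range := by
        apply hcommr
        have : t⁻¹ * s * t * s⁻¹ = ⁅t⁻¹, s⁆ := by rw [commutatorElement_def, inv_inv]
        rw [this, commutator_def]
        exact Subgroup.commutator_mem_commutator (Subgroup.mem_top _) (Subgroup.mem_top _)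
      rw [← conj_pow, h1, hpow, hrexp _ h2, mul_one]
    have hpfix : ∀ t : 𝕋, τ' (t ^ p) = (t ^ p) ^ 2 := by
      intro t
      have h1 : t ^ p ∈ ι.range := by
        rw [← hkerc, MonoidHom.mem_ker, map_pow]
        obtain ⟨n, hn⟩ := Subgroup.mem_zpowers_iff.mp (hcz t)
        rw [← hn, ← zpow_natCast, ← zpow_mul, mul_comm, zpow_mul, zpow_natCast, hap, one_zpow]
      obtain ⟨e, he⟩ := h1
      have hae : c x e = e := by
        apply hι
        rw [hc, he, hpc]
      obtain ⟨n, hn⟩ := Subgroup.mem_zpowers_iff.mp ((hfix e).mp hae)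
      rw [← he, hτ', ← hn, map_zpow, hh₁, ← map_pow, sq_zpow_comm]
    have hz : (τ' x * (x ^ 2)⁻¹) ^ p = 1 := by
      rw [hpow, ← map_pow, hpfix, inv_pow, ← pow_mul, ← pow_mul, mul_comm 2 p, mul_inv_cancel]
    have hzK : τ' x * (x ^ 2)⁻¹ ∈ ι.range := by
      rw [hKeq]; exact hz
    obtain ⟨e₁, he₁⟩ := hzK
    have hτx : τ' x = ι e₁ * x ^ 2 := by
      rw [he₁]; group
    have hC : c (τ' x) = h * c x * h⁻¹ := by
      ext e
      apply hι
      rw [hc, MulAut.mul_apply, MulAut.mul_apply, ← hτ', hc, map_mul, map_mul, hτ',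
        MulAut.apply_inv_self, map_inv]
    have h42 : c x ^ (2 * 2) = c x ^ 2 := by
      rw [← hconj, ← hC, hτx, map_mul, hrange_ker, one_mul, map_pow]
    have ha2 : c x ^ 2 = 1 := by
      have h3 : c x ^ 2 * c x ^ 2 = c x ^ 2 := by rw [← pow_add]; exact h42
      exact mul_left_cancel (a := c x ^ 2) (by rw [h3, mul_one])
    have h4 : orderOf (c x) ∣ 2 := orderOf_dvd_of_pow_eq_one ha2
    rw [horda] at h4
    have := Nat.le_of_dvd (by norm_num) h4
    omega
  exact ⟨hcard𝕋, hexp𝕋, τ', hτ'Y, w₁, w₂, hw₁, hgen, hw₁c, hw₂c, by rw [hτ', hh₁, map_pow],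
    by rw [hτ', hh₂, map_pow]⟩

end Cfsg.Agent.Lib.Helper23.R5Leaf
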