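import Mathlib
import Cfsg.Agent.S4517
import Cfsg.Agent.Lib.Helper6.DefectOrder
import Cfsg.Agent.Lib.Helper24.IrrFacts
import Cfsg.Agent.Lib.Lead.CharFS

set_option autoImplicit false

namespace Cfsg.Agent.Lib.Helper23

open Cfsg Cfsg.Agent.CharLib Cfsg.Agent.Lib.Helper24 Cfsg.Agent.Lib.Helper6
open scoped ComplexConjugate

universe u

theorem full_defect_two_block_not_self_conjugate {G : Type u} [Group G] [Finite G]
    (M : Ideal AlgInt) (hM : IsPModular 2 M)
    (B : Set (IrrCharacter G)) (hB : IsPBlock M B) (P : Sylow 2 G)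
    (hfull : IsDefectGroup 2 M B (P : Subgroup G)) (hnp : B ≠ principalBlock M G) :
    {ψ : IrrCharacter G | ∃ χ ∈ B, (ψ : G → ℂ) = fun g => (starRingEnd ℂ) ((χ : G → ℂ) g)} ≠ B := by
  classical
  have : Fact (Nat.Prime 2) := ⟨Nat.prime_two⟩
  intro heq
  apply hnp
  have hpos : 0 < Nat.card G := Nat.card_pos
  have hk : Nat.Coprime (Nat.card G - 1) (Nat.card G) := by
    have h1 : Nat.card G - 1 + 1 = Nat.card G := by omega
    have := Nat.coprime_self_add_right (m := Nat.card G - 1) (n := 1)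
    rw [Nat.coprime_comm]
    conv_lhs => rw [← h1]
    simp
  have hpow : ∀ g : G, g ^ (Nat.card G - 1) = g⁻¹ := by
    intro g
    have h1 : g ^ (Nat.card G - 1) * g = 1 := by
      rw [← pow_succ]
      have : Nat.card G - 1 + 1 = Nat.card G := by omega
      rw [this]
      exact pow_card_eq_one'
    exact eq_inv_of_mul_eq_one_left h1
  refine Cfsg.Agent.S4517.result M hM (Nat.card G - 1) hk (fun g _ => hpow g) B hB ?_ ?_
  · have h1 := card_defectGroup_eq hM B hB (P : Subgroup G) hfull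
    have h2 : Nat.card (P : Subgroup G) = 2 ^ (Nat.card G).factorization 2 := P.card_eq_multiplicity
    rw [h2] at h1
    exact (Nat.pow_right_injective (le_refl 2) h1).symm
  · intro χ hχ
    let ψ : IrrCharacter G := ⟨fun g => conj ((χ : G → ℂ) g), IsIrrCharacter.conj' χ.2⟩
    have hψ : ψ ∈ B := by
      rw [← heq]
      exact ⟨χ, hχ, rfl⟩
    refine ⟨ψ, hψ, ?_⟩
    intro g
    rw [hpow g, irr_apply_inv]

end Cfsg.Agent.Lib.Helper23
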