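import Mathlib

/-!
# S2281 (Siegel skeleton, odd characteristic): the centraliser trick

`P = Q ⋊ L` the Siegel parabolic of `Sp_2n(F)`, `q(S) l(B) q(S') l(B') = q(S + B S' Bᵀ) l(B B')`.
For `u₁ = q(v vᵀ) l(A)`, `A = 1 + N` regular unipotent, and ANY element `z = q(S₀) l(B₀)` with
`B₀ = 1 + y N²` (which commutes with `A`), the commutator `z u₁ (u₁ z)⁻¹` is
`q (D - (A S₀ Aᵀ - S₀))` with `D = B₀ (v vᵀ) B₀ᵀ - v vᵀ`.  We show `D ≠ A S₀ Aᵀ - S₀` for every matrix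
`S₀` when `2 y ≠ 0`, `3 ≤ n`, and `ψ N^(n-1) v ≠ 0` (the regularity condition of `u₁`):
so the commutator is a non-trivial element of `Q`.
-/

set_option autoImplicit false

namespace Cfsg.Agent.Lib.Helper23.RegSpCent

open Matrix

variable {F : Type*} [Field F] {n : ℕ}

/-- the bilinear evaluation `φ E φ'ᵀ` -/
def bil (φ : Fin n → F) (E : Matrix (Fin n) (Fin n) F) (φ' : Fin n → F) : F :=
  φ ⬝ᵥ (E *ᵥ φ')

theorem bil_add (φ φ' : Fin n → F) (E E' : Matrix (Fin n) (Fin n) F) :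
    bil φ (E + E') φ' = bil φ E φ' + bil φ E' φ' := by
  unfold bil
  rw [Matrix.add_mulVec, dotProduct_add]

theorem bil_sub (φ φ' : Fin n → F) (E E' : Matrix (Fin n) (Fin n) F) :
    bil φ (E - E') φ' = bil φ E φ' - bil φ E' φ' := by
  unfold bil
  rw [Matrix.sub_mulVec, dotProduct_sub]

theorem bil_mul_left (φ φ' : Fin n → F) (N X : Matrix (Fin n) (Fin n) F) :
    bil φ (N * X) φ' = bil (φ ᵥ* N) X φ' := by
  unfold bil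
  rw [← Matrix.mulVec_mulVec, Matrix.dotProduct_mulVec]

theorem bil_mul_transpose (φ φ' : Fin n → F) (N X : Matrix (Fin n) (Fin n) F) :
    bil φ (X * Nᵀ) φ' = bil φ X (φ' ᵥ* N) := by
  unfold bil
  rw [← Matrix.mulVec_mulVec, Matrix.mulVec_transpose]

theorem bil_vecMulVec (φ φ' w w' : Fin n → F) :
    bil φ (vecMulVec w w') φ' = (φ ⬝ᵥ w) * (w' ⬝ᵥ φ') := by
  have e : vecMulVec w w' *ᵥ φ' = (w' ⬝ᵥ φ') • w := by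
    ext i
    simp only [mulVec, dotProduct, vecMulVec, Matrix.of_apply, Pi.smul_apply, smul_eq_mul,
      Finset.sum_mul]
    exact Finset.sum_congr rfl fun j _ => by ring
  unfold bil
  rw [e, dotProduct_smul, smul_eq_mul, mul_comm]

theorem bil_zero_left (φ' : Fin n → F) (E : Matrix (Fin n) (Fin n) F) : bil 0 E φ' = 0 := by
  unfold bil
  rw [zero_dotProduct]

theorem bil_zero_right (φ : Fin n → F) (E : Matrix (Fin n) (Fin n) F) : bil φ E 0 = 0 := by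
  unfold bil
  rw [Matrix.mulVec_zero, dotProduct_zero]

/-- the linear relation satisfied by every element of the image of `X ↦ A X Aᵀ - X`, `A = 1 + N`,
along a covector chain `φ₂ N = φ₁`, `φ₁ N = φ₀`, `φ₀ N = 0` -/
theorem range_relation (N X : Matrix (Fin n) (Fin n) F) (φ₀ φ₁ φ₂ : Fin n → F)
    (h0 : φ₀ ᵥ* N = 0) (h1 : φ₁ ᵥ* N = φ₀) (h2 : φ₂ ᵥ* N = φ₁) :
    bil φ₁ ((1 + N) * X * (1 + N)ᵀ - X) φ₁ =
      bil φ₀ ((1 + N) * X * (1 + N)ᵀ - X) φ₂ + bil φ₂ ((1 + N) * X * (1 + N)ᵀ - X) φ₀ +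
        bil φ₁ ((1 + N) * X * (1 + N)ᵀ - X) φ₀ := by
  have e : (1 + N) * X * (1 + N)ᵀ - X = N * X + X * Nᵀ + N * (X * Nᵀ) := by
    rw [Matrix.transpose_add, Matrix.transpose_one]
    noncomm_ring
  have key : ∀ φ φ' : Fin n → F, bil φ (N * X + X * Nᵀ + N * (X * Nᵀ)) φ' =
      bil (φ ᵥ* N) X φ' + bil φ X (φ' ᵥ* N) + bil (φ ᵥ* N) X (φ' ᵥ* N) := by
    intro φ φ'
    rw [bil_add, bil_add, bil_mul_left φ φ' N (X * Nᵀ), bil_mul_transpose, bil_mul_transpose,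
      bil_mul_left φ φ' N X]
  rw [e, key, key, key, key, h0, h1, h2]
  simp only [bil_zero_left, bil_zero_right]
  ring

/-- **the centraliser trick**: for `B₀ = 1 + y N²` the matrix `B₀ (v vᵀ) B₀ᵀ - v vᵀ` is not of the
form `A S₀ Aᵀ - S₀`, `A = 1 + N`. -/
theorem comm_ne (hn : 3 ≤ n) (h2 : (2 : F) ≠ 0) (N : Matrix (Fin n) (Fin n) F) (hN : N ^ n = 0)
    (v ψ : Fin n → F) (h : ψ ⬝ᵥ ((N ^ (n - 1)) *ᵥ v) ≠ 0) (y : F) (hy : y ≠ 0)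
    (S₀ : Matrix (Fin n) (Fin n) F) :
    (1 + y • N ^ 2) * vecMulVec v v * (1 + y • N ^ 2)ᵀ - vecMulVec v v ≠
      (1 + N) * S₀ * (1 + N)ᵀ - S₀ := by
  intro heq
  -- the covector chain
  obtain ⟨φ₂, hφ₂⟩ : ∃ φ₂ : Fin n → F, φ₂ = ψ ᵥ* N ^ (n - 3) := ⟨_, rfl⟩
  obtain ⟨φ₁, hφ₁⟩ : ∃ φ₁ : Fin n → F, φ₁ = ψ ᵥ* N ^ (n - 2) := ⟨_, rfl⟩
  obtain ⟨φ₀, hφ₀⟩ : ∃ φ₀ : Fin n → F, φ₀ = ψ ᵥ* N ^ (n - 1) := ⟨_, rfl⟩
  have h21 : φ₂ ᵥ* N = φ₁ := by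
    rw [hφ₂, hφ₁, Matrix.vecMul_vecMul, ← pow_succ]
    congr 2
    omega
  have h10 : φ₁ ᵥ* N = φ₀ := by
    rw [hφ₁, hφ₀, Matrix.vecMul_vecMul, ← pow_succ]
    congr 2
    omega
  have h00 : φ₀ ᵥ* N = 0 := by
    rw [hφ₀, Matrix.vecMul_vecMul, ← pow_succ]
    have : n - 1 + 1 = n := by omega
    rw [this, hN, Matrix.vecMul_zero]
  have hc0 : φ₀ ⬝ᵥ v ≠ 0 := by
    rw [hφ₀, ← Matrix.dotProduct_mulVec]
    exact h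
  have hrel := range_relation N S₀ φ₀ φ₁ φ₂ h00 h10 h21
  rw [← heq] at hrel
  -- evaluate the left-hand side
  have hB : (1 + y • N ^ 2) * vecMulVec v v * (1 + y • N ^ 2)ᵀ =
      vecMulVec ((1 + y • N ^ 2) *ᵥ v) ((1 + y • N ^ 2) *ᵥ v) := by
    rw [Matrix.mul_vecMulVec, Matrix.vecMulVec_mul, Matrix.vecMul_transpose]
  have hdot : ∀ φ : Fin n → F, φ ⬝ᵥ ((1 + y • N ^ 2) *ᵥ v) = φ ⬝ᵥ v + y * ((φ ᵥ* N) ᵥ* N) ⬝ᵥ v := by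
    intro φ
    rw [Matrix.add_mulVec, Matrix.one_mulVec, dotProduct_add, Matrix.smul_mulVec, dotProduct_smul,
      smul_eq_mul, Matrix.dotProduct_mulVec, pow_two, ← Matrix.vecMul_vecMul]
  have hdot' : ∀ φ : Fin n → F, ((1 + y • N ^ 2) *ᵥ v) ⬝ᵥ φ = φ ⬝ᵥ v + y * ((φ ᵥ* N) ᵥ* N) ⬝ᵥ v := by
    intro φ
    rw [dotProduct_comm, hdot]
  have e0 : φ₀ ⬝ᵥ ((1 + y • N ^ 2) *ᵥ v) = φ₀ ⬝ᵥ v := by
    rw [hdot, h00, Matrix.zero_vecMul, zero_dotProduct, mul_zero, add_zero]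
  have e1 : φ₁ ⬝ᵥ ((1 + y • N ^ 2) *ᵥ v) = φ₁ ⬝ᵥ v := by
    rw [hdot, h10, h00, zero_dotProduct, mul_zero, add_zero]
  have e2 : φ₂ ⬝ᵥ ((1 + y • N ^ 2) *ᵥ v) = φ₂ ⬝ᵥ v + y * φ₀ ⬝ᵥ v := by
    rw [hdot, h21, h10]
  have e0' : ((1 + y • N ^ 2) *ᵥ v) ⬝ᵥ φ₀ = φ₀ ⬝ᵥ v := by rw [dotProduct_comm, e0]
  have e1' : ((1 + y • N ^ 2) *ᵥ v) ⬝ᵥ φ₁ = φ₁ ⬝ᵥ v := by rw [dotProduct_comm, e1]
  have e2' : ((1 + y • N ^ 2) *ᵥ v) ⬝ᵥ φ₂ = φ₂ ⬝ᵥ v + y * φ₀ ⬝ᵥ v := by rw [dotProduct_comm, e2]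
  rw [hB] at hrel
  simp only [bil_sub, bil_vecMulVec, e0, e1, e2, e0', e1', e2', dotProduct_comm v] at hrel
  -- hrel : 0 = 2 y c₀²
  have : 2 * y * (φ₀ ⬝ᵥ v) ^ 2 = 0 := by
    linear_combination -hrel
  have h3 : (2 : F) * y * (φ₀ ⬝ᵥ v) ^ 2 ≠ 0 :=
    mul_ne_zero (mul_ne_zero h2 hy) (pow_ne_zero 2 hc0)
  exact h3 this

end Cfsg.Agent.Lib.Helper23.RegSpCent
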