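/-
helper23: relative central characters.  For a representation `ρ` of a finite group `G` whose
restriction to a subgroup `N` is irreducible, the operators `∑ g, a g • ρ g` attached to functions
`a` invariant under conjugation by `N` are scalars; the scalar `ω(a) = (∑ a g χ g) / χ 1` is
multiplicative for convolution and is an algebraic integer when `a` has algebraic integer values.
-/
import Mathlib
import Cfsg.Agent.Lib.Helper24.CentralChar
import Cfsg.Agent.Lib.Helper6.Osima

set_option autoImplicit false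

namespace Cfsg.Agent.Lib.Helper23.RelCent

open Representation Module Cfsg Cfsg.Agent.Lib.Helper24 Cfsg.Agent.Lib.Helper6

universe u v

variable {G : Type u} [Group G] {V : Type v} [AddCommGroup V] [Module ℂ V]

/-- The restriction of a representation to a subgroup. -/
abbrev resRep (ρ : Representation ℂ G V) (N : Subgroup G) : Representation ℂ N V :=
  MonoidHom.comp ρ N.subtype

/-- `a` is invariant under conjugation by the elements of `N`. -/
def NInv (N : Subgroup G) (a : G → ℂ) : Prop :=
  ∀ n : G, n ∈ N → ∀ g : G, a (n * g * n⁻¹) = a g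

theorem NInv.add {N : Subgroup G} {a b : G → ℂ} (ha : NInv N a) (hb : NInv N b) :
    NInv N (a + b) := by
  intro n hn g
  rw [Pi.add_apply, Pi.add_apply, ha n hn g, hb n hn g]

theorem NInv.zero (N : Subgroup G) : NInv N (0 : G → ℂ) := fun _ _ _ => rfl

theorem NInv.sum {N : Subgroup G} {ι : Type*} (s : Finset ι) (f : ι → G → ℂ)
    (h : ∀ i ∈ s, NInv N (f i)) : NInv N (∑ i ∈ s, f i) := by
  intro n hn g
  rw [Finset.sum_apply, Finset.sum_apply]
  exact Finset.sum_congr rfl (fun i hi => h i hi n hn g)

theorem NInv.conv [Fintype G] {N : Subgroup G} {a b : G → ℂ} (ha : NInv N a) (hb : NInv N b) :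
    NInv N (conv a b) := by
  intro n hn x
  unfold Cfsg.Agent.Lib.Helper6.conv
  rw [← Equiv.sum_comp (MulAut.conj n).toEquiv]
  apply Finset.sum_congr rfl
  intro g _
  have h1 : (MulAut.conj n).toEquiv g = n * g * n⁻¹ := by simp
  rw [h1, ha n hn g]
  congr 1
  have h2 : (n * g * n⁻¹)⁻¹ * (n * x * n⁻¹) = n * (g⁻¹ * x) * n⁻¹ := by group
  rw [h2, hb n hn]

theorem coeffSum_comm_of_ninv [Fintype G] (ρ : Representation ℂ G V) {N : Subgroup G} {a : G → ℂ}
    (ha : NInv N a) {h : G} (hh : h ∈ N) :
    coeffSum ρ a ∘ₗ ρ h = ρ h ∘ₗ coeffSum ρ a := by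
  unfold coeffSum
  rw [← Module.End.mul_eq_comp, ← Module.End.mul_eq_comp, Finset.sum_mul, Finset.mul_sum]
  rw [← Equiv.sum_comp (MulAut.conj h⁻¹).toEquiv (fun g => ρ h * (a g • ρ g))]
  apply Finset.sum_congr rfl
  intro g _
  have h1 : (MulAut.conj h⁻¹).toEquiv g = h⁻¹ * g * h := by simp
  rw [h1]
  have h2 : a (h⁻¹ * g * h) = a g := by
    have := ha h⁻¹ (N.inv_mem hh) g
    simpa using this
  rw [h2, smul_mul_assoc, mul_smul_comm]
  congr 1
  rw [← map_mul, ← map_mul]
  congr 1
  group

/-- The operator of a convolution is the product of the operators. -/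
theorem coeffSum_conv [Fintype G] (ρ : Representation ℂ G V) (a b : G → ℂ) :
    coeffSum ρ (conv a b) = coeffSum ρ a * coeffSum ρ b := by
  unfold coeffSum Cfsg.Agent.Lib.Helper6.conv
  rw [Finset.sum_mul_sum]
  simp_rw [Finset.sum_smul]
  rw [Finset.sum_comm]
  apply Finset.sum_congr rfl
  intro g _
  rw [← Equiv.sum_comp (Equiv.mulLeft g)]
  apply Finset.sum_congr rfl
  intro h _
  rw [Equiv.coe_mulLeft, inv_mul_cancel_left, smul_mul_smul_comm, map_mul]

variable [FiniteDimensional ℂ V]

/-- Relative Schur: the operator of an `N`-invariant function is the scalar `ω(a)`. -/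
theorem coeffSum_eq_omega_smul_of_ninv [Fintype G] (ρ : Representation ℂ G V) (N : Subgroup G)
    [hirr : (resRep ρ N).IsIrreducible] {a : G → ℂ} (ha : NInv N a) :
    coeffSum ρ a = omega ρ a • (1 : Module.End ℂ V) := by
  obtain ⟨c, hc⟩ := exists_eq_smul_one_of_comm (resRep ρ N) (coeffSum ρ a)
    (fun n => coeffSum_comm_of_ninv ρ ha n.2)
  have hpos := finrank_pos_of_isIrreducible (resRep ρ N)
  have h1 : LinearMap.trace ℂ V (coeffSum ρ a) = c * (finrank ℂ V : ℂ) := by
    rw [hc, map_smul, LinearMap.trace_one, smul_eq_mul]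
  rw [trace_coeffSum] at h1
  have h2 : omega ρ a = c := by
    unfold omega
    rw [h1]
    have : (finrank ℂ V : ℂ) ≠ 0 := by exact_mod_cast hpos.ne'
    field_simp
  rw [h2, hc]

/-- `ω` is multiplicative on `N`-invariant functions. -/
theorem omega_conv_of_ninv [Fintype G] (ρ : Representation ℂ G V) (N : Subgroup G)
    [hirr : (resRep ρ N).IsIrreducible] {a b : G → ℂ} (ha : NInv N a) (hb : NInv N b) :
    omega ρ (conv a b) = omega ρ a * omega ρ b := by
  have h1 := coeffSum_eq_omega_smul_of_ninv ρ N ha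
  have h2 := coeffSum_eq_omega_smul_of_ninv ρ N hb
  have h3 := coeffSum_eq_omega_smul_of_ninv ρ N (ha.conv hb)
  rw [coeffSum_conv, h1, h2, smul_mul_smul_comm, mul_one] at h3
  have := nontrivial_of_isIrreducible (resRep ρ N)
  have hinj : Function.Injective (fun c : ℂ => c • (1 : Module.End ℂ V)) := by
    intro x y hxy
    obtain ⟨v, hv⟩ := exists_ne (0 : V)
    have h4 := congrArg (fun T : Module.End ℂ V => T v) hxy
    simp only [LinearMap.smul_apply, Module.End.one_apply] at h4
    have h5 : (x - y) • v = 0 := by rw [sub_smul, h4, sub_self]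
    rcases smul_eq_zero.mp h5 with h6 | h6
    · exact sub_eq_zero.mp h6
    · exact absurd h6 hv
  exact (hinj h3).symm

/-- `ω(a)` is an algebraic integer when `a` is `N`-invariant with algebraic integer values. -/
theorem isIntegral_omega_of_ninv [Fintype G] (ρ : Representation ℂ G V) (N : Subgroup G)
    [hirr : (resRep ρ N).IsIrreducible] {a : G → ℂ} (ha : NInv N a)
    (hint : ∀ g, IsIntegral ℤ (a g)) : IsIntegral ℤ (omega ρ a) := by
  have := nontrivial_of_isIrreducible (resRep ρ N)
  apply isIntegral_of_isIntegral_smul_one (V := V)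
  rw [← coeffSum_eq_omega_smul_of_ninv ρ N ha]
  exact isIntegral_coeffSum ρ a hint

end Cfsg.Agent.Lib.Helper23.RelCent
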