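/-
helper23: relative central characters modulo a maximal ideal.  Setting: `ρ` a representation of the
finite group `G`, irreducible on the normal subgroup `N`, such that `ω_ρ` is congruent to the
augmentation on the `N`-invariant integer-valued functions supported on `N` (this is what membership
of `χ_N` in the principal block gives).  For elements `c` whose `N`-class has size prime to `p`
we get `ω(a) ≡ (∑ a) · χ(c)/χ(1)` for every invariant integer-valued `a` supported on the coset `N c`,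
and `c ↦ χ(c)/χ(1)` is multiplicative modulo the local ideal.
-/
import Mathlib
import Cfsg.Agent.Lib.Helper23.RelCentA
import Cfsg.Agent.Lib.Helper24.LocalRing

set_option autoImplicit false

namespace Cfsg.Agent.Lib.Helper23.RelCent

open Representation Module Cfsg Cfsg.Agent.Lib.Helper24 Cfsg.Agent.Lib.Helper6

universe u v

variable {G : Type u} [Group G]

/-! ### Integer-valued functions -/

/-- `a` takes integer values. -/
def IntVal (a : G → ℂ) : Prop := ∀ g : G, ∃ k : ℤ, a g = (k : ℂ)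

theorem isIntegral_intCast' (k : ℤ) : IsIntegral ℤ ((k : ℂ)) := by
  have h : IsIntegral ℤ (algebraMap ℤ ℂ k) := isIntegral_algebraMap
  simpa using h

theorem IntVal.isIntegral {a : G → ℂ} (ha : IntVal a) (g : G) : IsIntegral ℤ (a g) := by
  obtain ⟨k, hk⟩ := ha g
  rw [hk]
  exact isIntegral_intCast' k

theorem memLocalRing_intCast {M : Ideal AlgInt} [hp : M.IsPrime] (k : ℤ) :
    MemLocalRing M ((k : ℂ)) :=
  memLocalRing_of_algInt (M := M) ⟨(k : ℂ), isIntegral_intCast' k⟩ hp.one_notMem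

theorem memLocalRing_of_isIntegral {M : Ideal AlgInt} [hp : M.IsPrime] {z : ℂ}
    (hz : IsIntegral ℤ z) : MemLocalRing M z :=
  memLocalRing_of_algInt (M := M) ⟨z, hz⟩ hp.one_notMem

theorem IntVal.sum_eq [Fintype G] {a : G → ℂ} (ha : IntVal a) :
    ∃ k : ℤ, ∑ g : G, a g = (k : ℂ) := by
  choose f hf using ha
  refine ⟨∑ g : G, f g, ?_⟩
  rw [Int.cast_sum]
  exact Finset.sum_congr rfl (fun g _ => hf g)

theorem IntVal.conv [Fintype G] {a b : G → ℂ} (ha : IntVal a) (hb : IntVal b) :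
    IntVal (conv a b) := by
  choose f hf using ha
  choose f' hf' using hb
  intro x
  refine ⟨∑ g : G, f g * f' (g⁻¹ * x), ?_⟩
  unfold Cfsg.Agent.Lib.Helper6.conv
  rw [Int.cast_sum]
  apply Finset.sum_congr rfl
  intro g _
  rw [hf g, hf' (g⁻¹ * x), Int.cast_mul]

/-! ### General facts on sums -/

theorem sum_conv [Fintype G] (a b : G → ℂ) :
    ∑ x : G, conv a b x = (∑ g : G, a g) * (∑ h : G, b h) := by
  unfold Cfsg.Agent.Lib.Helper6.conv
  rw [Finset.sum_comm, Finset.sum_mul_sum]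
  apply Finset.sum_congr rfl
  intro g _
  rw [← Equiv.sum_comp (Equiv.mulLeft g)]
  apply Finset.sum_congr rfl
  intro h _
  rw [Equiv.coe_mulLeft, inv_mul_cancel_left]

section omegaLin
variable [Fintype G] {V : Type v} [AddCommGroup V] [Module ℂ V]

theorem omega_sum (ρ : Representation ℂ G V) {ι : Type*} (s : Finset ι) (f : ι → G → ℂ) :
    omega ρ (∑ i ∈ s, f i) = ∑ i ∈ s, omega ρ (f i) := by
  unfold omega
  rw [← Finset.sum_div]
  congr 1
  simp_rw [Finset.sum_apply, Finset.sum_mul]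
  rw [Finset.sum_comm]

end omegaLin

/-! ### Indicators of `N`-classes -/

open Classical in
/-- The indicator function of the `N`-conjugacy class of `g`. -/
noncomputable def nInd (N : Subgroup G) (g : G) : G → ℂ :=
  fun x => if ∃ n ∈ N, n * g * n⁻¹ = x then 1 else 0

open Classical in
/-- The size of the `N`-conjugacy class of `g`. -/
noncomputable def nCard [Fintype G] (N : Subgroup G) (g : G) : ℕ :=
  (Finset.univ.filter (fun x : G => ∃ n ∈ N, n * g * n⁻¹ = x)).card

theorem nInd_ninv (N : Subgroup G) (g : G) : NInv N (nInd N g) := by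
  classical
  intro m hm x
  unfold nInd
  have : (∃ n ∈ N, n * g * n⁻¹ = m * x * m⁻¹) ↔ (∃ n ∈ N, n * g * n⁻¹ = x) := by
    constructor
    · rintro ⟨n, hn, h⟩
      refine ⟨m⁻¹ * n, N.mul_mem (N.inv_mem hm) hn, ?_⟩
      have : m⁻¹ * n * g * (m⁻¹ * n)⁻¹ = m⁻¹ * (n * g * n⁻¹) * m := by group
      rw [this, h]
      group
    · rintro ⟨n, hn, h⟩
      refine ⟨m * n, N.mul_mem hm hn, ?_⟩
      have : m * n * g * (m * n)⁻¹ = m * (n * g * n⁻¹) * m⁻¹ := by group
      rw [this, h]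
  simp only [this]

theorem nInd_intVal (N : Subgroup G) (g : G) : IntVal (nInd N g) := by
  classical
  intro x
  unfold nInd
  split_ifs
  · exact ⟨1, by simp⟩
  · exact ⟨0, by simp⟩

theorem nInd_support (N : Subgroup G) [hN : N.Normal] (g x : G) (h : nInd N g x ≠ 0) :
    x * g⁻¹ ∈ N := by
  classical
  unfold nInd at h
  split_ifs at h with h1
  · obtain ⟨n, hn, rfl⟩ := h1
    have : n * g * n⁻¹ * g⁻¹ = n * (g * n⁻¹ * g⁻¹) := by group
    rw [this]
    exact N.mul_mem hn (hN.conj_mem _ (N.inv_mem hn) g)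
  · exact absurd rfl h

theorem sum_nInd [Fintype G] (N : Subgroup G) (g : G) :
    ∑ x : G, nInd N g x = (nCard N g : ℂ) := by
  classical
  unfold nInd nCard
  have := Finset.sum_boole (R := ℂ) (fun x : G => ∃ n ∈ N, n * g * n⁻¹ = x) Finset.univ
  convert this

section rep
variable [Fintype G] {V : Type v} [AddCommGroup V] [Module ℂ V] [FiniteDimensional ℂ V]

theorem sum_nInd_mul_char (ρ : Representation ℂ G V) (N : Subgroup G) (g : G) :
    ∑ x : G, nInd N g x * ρ.character x = (nCard N g : ℂ) * ρ.character g := by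
  classical
  have h1 : ∀ x : G, nInd N g x * ρ.character x =
      if ∃ n ∈ N, n * g * n⁻¹ = x then ρ.character g else 0 := by
    intro x
    unfold nInd
    split_ifs with h
    · obtain ⟨n, _, rfl⟩ := h
      rw [one_mul, Representation.char_conj]
    · rw [zero_mul]
  simp_rw [h1]
  rw [Finset.sum_ite, Finset.sum_const_zero, add_zero, Finset.sum_const, nsmul_eq_mul]
  rfl

/-- The normalised character value `χ(c)/χ(1)`. -/
noncomputable def rr (ρ : Representation ℂ G V) (c : G) : ℂ :=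
  ρ.character c / (finrank ℂ V : ℂ)

theorem omega_nInd (ρ : Representation ℂ G V) (N : Subgroup G) (g : G) :
    omega ρ (nInd N g) = (nCard N g : ℂ) * rr ρ g := by
  unfold omega rr
  rw [sum_nInd_mul_char, mul_div_assoc]

end rep

/-! ### Local arithmetic -/

section loc
variable {M : Ideal AlgInt} {p : ℕ}

theorem memLocalRing_natCast_inv (hM : IsPModular p M) {k : ℕ} (hk : ¬ p ∣ k) :
    MemLocalRing M ((k : ℂ)⁻¹) :=
  ⟨1, (k : AlgInt), natCast_not_mem_of_not_dvd hM hk, by simp⟩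

theorem natCast_ne_zero_of_not_dvd {k : ℕ} (hk : ¬ p ∣ k) : (k : ℂ) ≠ 0 := by
  intro h
  have : k = 0 := by exact_mod_cast h
  exact hk (this ▸ dvd_zero p)

theorem memLocalIdeal_of_natCast_mul (hM : IsPModular p M) {k : ℕ} (hk : ¬ p ∣ k) {z : ℂ}
    (h : MemLocalIdeal M ((k : ℂ) * z)) : MemLocalIdeal M z := by
  have : M.IsPrime := isPrime_of_isPModular hM
  have h1 := memLocalIdeal_mul_left (memLocalRing_natCast_inv hM hk) h
  rwa [← mul_assoc, inv_mul_cancel₀ (natCast_ne_zero_of_not_dvd hk), one_mul] at h1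

end loc

/-! ### The main congruences -/

section main
variable [Fintype G] {V : Type v} [AddCommGroup V] [Module ℂ V] [FiniteDimensional ℂ V]

/-- `ω_ρ` is congruent to the augmentation on the `N`-invariant integer-valued functions supported
on `N`. -/
def AugOnN (ρ : Representation ℂ G V) (N : Subgroup G) (M : Ideal AlgInt) : Prop :=
  ∀ a : G → ℂ, NInv N a → IntVal a → (∀ g, g ∉ N → a g = 0) →
    MemLocalIdeal M (omega ρ a - ∑ g : G, a g)

variable (ρ : Representation ℂ G V) (N : Subgroup G) [hN : N.Normal]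
  [hirr : (resRep ρ N).IsIrreducible] {M : Ideal AlgInt} {p : ℕ}

theorem memLocalRing_omega (hM : IsPModular p M) {a : G → ℂ} (ha : NInv N a) (hi : IntVal a) :
    MemLocalRing M (omega ρ a) := by
  have : M.IsPrime := isPrime_of_isPModular hM
  exact memLocalRing_of_isIntegral (isIntegral_omega_of_ninv ρ N ha hi.isIntegral)

theorem memLocalRing_rr (hM : IsPModular p M) {c : G} (hc : ¬ p ∣ nCard N c) :
    MemLocalRing M (rr ρ c) := by
  have : M.IsPrime := isPrime_of_isPModular hM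
  have h1 : rr ρ c = omega ρ (nInd N c) * ((nCard N c : ℂ))⁻¹ := by
    rw [omega_nInd, mul_comm, ← mul_assoc, inv_mul_cancel₀ (natCast_ne_zero_of_not_dvd hc), one_mul]
  rw [h1]
  exact memLocalRing_mul (memLocalRing_omega ρ N hM (nInd_ninv N c) (nInd_intVal N c))
    (memLocalRing_natCast_inv hM hc)

/-- Multiplying by the `N`-class sum of `c⁻¹` moves the coset `N c` into `N`. -/
theorem omega_mul_rr_inv (hM : IsPModular p M) (h0 : AugOnN ρ N M) {c : G}
    (hc' : ¬ p ∣ nCard N c⁻¹) {a : G → ℂ} (ha : NInv N a) (hi : IntVal a)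
    (hs : ∀ g, a g ≠ 0 → g * c⁻¹ ∈ N) :
    MemLocalIdeal M (omega ρ a * rr ρ c⁻¹ - ∑ g : G, a g) := by
  have : M.IsPrime := isPrime_of_isPModular hM
  set b := nInd N c⁻¹ with hb
  have hsupp : ∀ x, x ∉ N → conv a b x = 0 := by
    intro x hx
    unfold Cfsg.Agent.Lib.Helper6.conv
    apply Finset.sum_eq_zero
    intro g _
    by_contra hne
    have h1 : a g ≠ 0 := fun h => hne (by rw [h, zero_mul])
    have h2 : b (g⁻¹ * x) ≠ 0 := fun h => hne (by rw [h, mul_zero])
    have h3 := hs g h1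
    have h4 := nInd_support N c⁻¹ (g⁻¹ * x) h2
    rw [inv_inv] at h4
    apply hx
    have h5 : x = (g * c⁻¹) * (c * (g⁻¹ * x * c) * c⁻¹) := by group
    rw [h5]
    exact N.mul_mem h3 (hN.conj_mem _ h4 c)
  have h1 := h0 (conv a b) (ha.conv (nInd_ninv N c⁻¹)) (hi.conv (nInd_intVal N c⁻¹)) hsupp
  rw [omega_conv_of_ninv ρ N ha (nInd_ninv N c⁻¹), sum_conv, hb, omega_nInd, sum_nInd] at h1
  apply memLocalIdeal_of_natCast_mul hM hc'
  have h2 : (nCard N c⁻¹ : ℂ) * (omega ρ a * rr ρ c⁻¹ - ∑ g : G, a g) =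
      omega ρ a * ((nCard N c⁻¹ : ℂ) * rr ρ c⁻¹) - (∑ g : G, a g) * (nCard N c⁻¹ : ℂ) := by ring
  rw [h2]
  exact h1

theorem rr_mul_rr_inv (hM : IsPModular p M) (h0 : AugOnN ρ N M) {c : G}
    (hc : ¬ p ∣ nCard N c) (hc' : ¬ p ∣ nCard N c⁻¹) :
    MemLocalIdeal M (rr ρ c * rr ρ c⁻¹ - 1) := by
  have h1 := omega_mul_rr_inv ρ N hM h0 hc' (nInd_ninv N c) (nInd_intVal N c)
    (fun g hg => nInd_support N c g hg)
  rw [omega_nInd, sum_nInd] at h1
  apply memLocalIdeal_of_natCast_mul hM hc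
  have h2 : (nCard N c : ℂ) * (rr ρ c * rr ρ c⁻¹ - 1) =
      (nCard N c : ℂ) * rr ρ c * rr ρ c⁻¹ - (nCard N c : ℂ) := by ring
  rw [h2]
  exact h1

/-- **Main congruence**: on the coset `N c`, `ω` is the augmentation times `χ(c)/χ(1)`. -/
theorem omega_sub_sum_mul_rr (hM : IsPModular p M) (h0 : AugOnN ρ N M) {c : G}
    (hc : ¬ p ∣ nCard N c) (hc' : ¬ p ∣ nCard N c⁻¹) {a : G → ℂ} (ha : NInv N a) (hi : IntVal a)
    (hs : ∀ g, a g ≠ 0 → g * c⁻¹ ∈ N) :
    MemLocalIdeal M (omega ρ a - (∑ g : G, a g) * rr ρ c) := by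
  have : M.IsPrime := isPrime_of_isPModular hM
  have h1 := omega_mul_rr_inv ρ N hM h0 hc' ha hi hs
  have h2 := rr_mul_rr_inv ρ N hM h0 hc hc'
  have hω := memLocalRing_omega ρ N hM ha hi
  have hr := memLocalRing_rr ρ N hM hc
  have h3 : omega ρ a - (∑ g : G, a g) * rr ρ c =
      (omega ρ a * rr ρ c⁻¹ - ∑ g : G, a g) * rr ρ c - omega ρ a * (rr ρ c * rr ρ c⁻¹ - 1) := by
    ring
  rw [h3]
  exact memLocalIdeal_sub (memLocalIdeal_mul_right h1 hr) (memLocalIdeal_mul_left hω h2)

theorem rr_sub_one_of_mem (hM : IsPModular p M) (h0 : AugOnN ρ N M) {n : G} (hn : n ∈ N)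
    (hc : ¬ p ∣ nCard N n) : MemLocalIdeal M (rr ρ n - 1) := by
  have h1 := h0 (nInd N n) (nInd_ninv N n) (nInd_intVal N n) (by
    intro g hg
    by_contra hne
    apply hg
    have := nInd_support N n g hne
    have h2 : g = g * n⁻¹ * n := by group
    rw [h2]
    exact N.mul_mem this hn)
  rw [omega_nInd, sum_nInd] at h1
  apply memLocalIdeal_of_natCast_mul hM hc
  have h2 : (nCard N n : ℂ) * (rr ρ n - 1) = (nCard N n : ℂ) * rr ρ n - (nCard N n : ℂ) := by ring
  rw [h2]
  exact h1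

theorem rr_mul (hM : IsPModular p M) (h0 : AugOnN ρ N M) {c d : G}
    (hc : ¬ p ∣ nCard N c) (hd : ¬ p ∣ nCard N d) (hcd : ¬ p ∣ nCard N (c * d))
    (hcd' : ¬ p ∣ nCard N (c * d)⁻¹) :
    MemLocalIdeal M (rr ρ (c * d) - rr ρ c * rr ρ d) := by
  have : M.IsPrime := isPrime_of_isPModular hM
  set a := conv (nInd N c) (nInd N d) with ha
  have hainv : NInv N a := (nInd_ninv N c).conv (nInd_ninv N d)
  have haint : IntVal a := (nInd_intVal N c).conv (nInd_intVal N d)
  have hs : ∀ x, a x ≠ 0 → x * (c * d)⁻¹ ∈ N := by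
    intro x hx
    by_contra hxN
    apply hx
    rw [ha]
    unfold Cfsg.Agent.Lib.Helper6.conv
    apply Finset.sum_eq_zero
    intro g _
    by_contra hne
    have h1 : nInd N c g ≠ 0 := fun h => hne (by rw [h, zero_mul])
    have h2 : nInd N d (g⁻¹ * x) ≠ 0 := fun h => hne (by rw [h, mul_zero])
    have h3 := nInd_support N c g h1
    have h4 := nInd_support N d (g⁻¹ * x) h2
    apply hxN
    have h5 : x * (c * d)⁻¹ = (g * c⁻¹) * (c * (g⁻¹ * x * d⁻¹) * c⁻¹) := by group
    rw [h5]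
    exact N.mul_mem h3 (hN.conj_mem _ h4 c)
  have h1 := omega_sub_sum_mul_rr ρ N hM h0 hcd hcd' hainv haint hs
  rw [ha, omega_conv_of_ninv ρ N (nInd_ninv N c) (nInd_ninv N d), sum_conv, omega_nInd, omega_nInd,
    sum_nInd, sum_nInd] at h1
  apply memLocalIdeal_of_natCast_mul hM hc
  apply memLocalIdeal_of_natCast_mul hM hd
  have h2 : (nCard N d : ℂ) * ((nCard N c : ℂ) * (rr ρ (c * d) - rr ρ c * rr ρ d)) =
      -((nCard N c : ℂ) * rr ρ c * ((nCard N d : ℂ) * rr ρ d) -
        (nCard N c : ℂ) * (nCard N d : ℂ) * rr ρ (c * d)) := by ring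
  rw [h2]
  exact memLocalIdeal_neg h1

end main

end Cfsg.Agent.Lib.Helper23.RelCent
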