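/-
helper23: relative central characters, part D: the link with principal blocks.
* `augOnN_of_principal` : if the restriction of `ρ` to `N` affords a member of the principal block
  of `N`, then `ω_ρ` is congruent to the augmentation on invariant functions supported on `N`;
* `sameBlock_one_of_omega` : if `ω_ρ` is congruent to the augmentation on all `N`-invariant
  integer-valued functions, then the restriction of the character of `ρ` to every subgroup `J ≥ N`
  satisfies the principal block congruences of `J`; the same for `G` itself.
-/
import Mathlib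
import Cfsg.Agent.Lib.Helper23.RelCentC
import Cfsg.Agent.Lib.Lead.BlockBasic
import Cfsg.Agent.Lib.Lead.RealRep

set_option autoImplicit false

namespace Cfsg.Agent.Lib.Helper23.RelCent

open Representation Module Cfsg Cfsg.Agent.Lib.Helper24 Cfsg.Agent.Lib.Helper6 Cfsg.Agent.CharLib

universe u v

variable {G : Type u} [Group G]

/-- A sum over the group of a function vanishing off a subgroup is the sum over the subgroup. -/
theorem sum_eq_sum_subgroup [Fintype G] (J : Subgroup G) [Fintype J] (f : G → ℂ)
    (hf : ∀ g, g ∉ J → f g = 0) : ∑ g : G, f g = ∑ z : J, f z := by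
  classical
  rw [← Finset.sum_subtype (Finset.univ.filter (fun g : G => g ∈ J)) (by simp) f]
  rw [Finset.sum_filter]
  apply Finset.sum_congr rfl
  intro g _
  split_ifs with h
  · rfl
  · exact hf g h

theorem sum_classInd_eq [Fintype G] (g : G) :
    ∑ x : G, classInd g x = ((Subgroup.centralizer ({g} : Set G)).index : ℂ) := by
  classical
  have h4 : ∀ x : G, classInd g x = if IsConj g x then (1 : ℂ) else 0 := by
    intro x
    by_cases h : IsConj g x <;> simp [classInd, h]
  simp_rw [h4]
  have := Finset.sum_boole (R := ℂ) (fun x : G => IsConj g x) Finset.univ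
  rw [this]
  congr 1
  rw [← ncard_conj_eq_index, ← Set.ncard_coe_finset]
  congr 1
  ext x
  simp

section
variable [Fintype G] {V : Type v} [AddCommGroup V] [Module ℂ V] [FiniteDimensional ℂ V]

theorem resRep_character (ρ : Representation ℂ G V) (J : Subgroup G) (z : J) :
    (resRep ρ J).character z = ρ.character z := rfl

/-- Irreducibility of the restriction from the irreducibility of its character. -/
theorem isIrreducible_resRep (ρ : Representation ℂ G V) (N : Subgroup G) (θ : IrrCharacter N)
    (h : ∀ x : N, ρ.character x = (θ : N → ℂ) x) : (resRep ρ N).IsIrreducible := by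
  apply isIrreducible_of_isIrrCharacter
  have : (resRep ρ N).character = (θ : N → ℂ) := by
    funext x
    rw [resRep_character, h]
  rw [this]
  exact θ.2

theorem augOnN_of_principal (ρ : Representation ℂ G V) (N : Subgroup G) {M : Ideal AlgInt} {p : ℕ}
    (hM : IsPModular p M) (θ : IrrCharacter N) (hθ : θ ∈ principalBlock M N)
    (h : ∀ x : N, ρ.character x = (θ : N → ℂ) x) : AugOnN ρ N M := by
  classical
  have hprime : M.IsPrime := isPrime_of_isPModular hM
  let _ : Fintype N := Fintype.ofFinite N
  intro a ha hi hs
  set a' : N → ℂ := fun x => a x with ha'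
  have hcf : IsClassFunction N a' := by
    intro x y
    simp only [ha']
    have := ha (y : G) y.2 (x : G)
    simpa using this
  have hloc : ∀ x, MemLocalRing M (a' x) := by
    intro x
    obtain ⟨k, hk⟩ := hi (x : G)
    simp only [ha']
    rw [hk]
    exact memLocalRing_intCast k
  have h1 := memLocalIdeal_omegaFun_sub (M := M) (trivIrr N) θ hθ hcf hloc
  have h2 : omegaFun ((trivIrr N : IrrCharacter N) : N → ℂ) a' = ∑ g : G, a g := by
    unfold omegaFun
    rw [sum_eq_sum_subgroup N a hs]
    simp [trivIrr, ha']
  have h3 : omegaFun (θ : N → ℂ) a' = omega ρ a := by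
    unfold omegaFun omega
    have h4 : (finrank ℂ V : ℂ) = (θ : N → ℂ) 1 := by
      rw [← Representation.char_one ρ, ← h 1]
      rfl
    rw [h4]
    congr 1
    rw [sum_eq_sum_subgroup N (fun g => a g * ρ.character g) (by
      intro g hg
      show a g * ρ.character g = 0
      rw [hs g hg, zero_mul])]
    apply Finset.sum_congr rfl
    intro x _
    simp only [ha']
    rw [h x]
  rw [h2, h3] at h1
  have := memLocalIdeal_neg h1
  rwa [neg_sub] at this

/-- If `ω_ρ` is congruent to the augmentation on all `N`-invariant integer-valued functions, the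
character of `ρ` satisfies the principal block congruences of `G`. -/
theorem sameBlock_one_of_omega (ρ : Representation ℂ G V) (N : Subgroup G) {M : Ideal AlgInt}
    (hω : ∀ a : G → ℂ, NInv N a → IntVal a → MemLocalIdeal M (omega ρ a - ∑ g : G, a g)) (g : G) :
    MemLocalIdeal M (centralChar (fun _ : G => (1 : ℂ)) g - centralChar ρ.character g) := by
  classical
  have h1 := hω (classInd g) (fun n _ x => classInd_conj g x n) (by
    intro x
    unfold classInd
    split_ifs
    · exact ⟨1, by simp⟩
    · exact ⟨0, by simp⟩)
  have h2 : omega ρ (classInd g) = centralChar ρ.character g := by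
    unfold omega centralChar
    rw [sum_classInd_mul_char, Representation.char_one]
  have h3 : ∑ x : G, classInd g x = centralChar (fun _ : G => (1 : ℂ)) g := by
    unfold centralChar
    rw [mul_one, div_one, sum_classInd_eq]
  rw [h2, h3] at h1
  have := memLocalIdeal_neg h1
  rwa [neg_sub] at this

/-- The same for every subgroup `J` containing `N`. -/
theorem sameBlock_one_of_omega_subgroup (ρ : Representation ℂ G V) (N : Subgroup G)
    {M : Ideal AlgInt}
    (hω : ∀ a : G → ℂ, NInv N a → IntVal a → MemLocalIdeal M (omega ρ a - ∑ g : G, a g))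
    (J : Subgroup G) (hNJ : N ≤ J) (y : J) :
    MemLocalIdeal M (centralChar (fun _ : J => (1 : ℂ)) y -
      centralChar (fun z : J => ρ.character z) y) := by
  classical
  let _ : Fintype J := Fintype.ofFinite J
  set a : G → ℂ := fun x => if h : x ∈ J then classInd y ⟨x, h⟩ else 0 with ha
  have hainv : NInv N a := by
    intro n hn x
    have hnJ : n ∈ J := hNJ hn
    by_cases hx : x ∈ J
    · have hx' : n * x * n⁻¹ ∈ J := J.mul_mem (J.mul_mem hnJ hx) (J.inv_mem hnJ)
      simp only [ha, dif_pos hx, dif_pos hx']
      exact classInd_conj y ⟨x, hx⟩ ⟨n, hnJ⟩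
    · have hx' : n * x * n⁻¹ ∉ J := by
        intro h
        apply hx
        have h2 : x = n⁻¹ * (n * x * n⁻¹) * n := by group
        rw [h2]
        exact J.mul_mem (J.mul_mem (J.inv_mem hnJ) h) hnJ
      simp only [ha, dif_neg hx, dif_neg hx']
  have haint : IntVal a := by
    intro x
    simp only [ha]
    split_ifs with h
    · unfold classInd
      split_ifs
      · exact ⟨1, by simp⟩
      · exact ⟨0, by simp⟩
    · exact ⟨0, by simp⟩
  have hasupp : ∀ x, x ∉ J → a x = 0 := by
    intro x hx
    simp only [ha, dif_neg hx]
  have haJ : ∀ z : J, a z = classInd y z := by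
    intro z
    simp only [ha, dif_pos z.2]
  have h1 := hω a hainv haint
  have h2 : omega ρ a = centralChar (fun z : J => ρ.character z) y := by
    unfold omega centralChar
    rw [sum_eq_sum_subgroup J (fun g => a g * ρ.character g) (by
      intro g hg
      show a g * ρ.character g = 0
      rw [hasupp g hg, zero_mul])]
    have h5 : ∑ z : J, a z * ρ.character z =
        ∑ z : J, classInd y z * (resRep ρ J).character z := by
      apply Finset.sum_congr rfl
      intro z _
      rw [haJ z, resRep_character]
    have h6 : (fun z : J => ρ.character z) 1 = (finrank ℂ V : ℂ) := by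
      show ρ.character ((1 : J) : G) = _
      rw [OneMemClass.coe_one, Representation.char_one]
    rw [h5, sum_classInd_mul_char (resRep ρ J) y, resRep_character, h6]
  have h3 : ∑ x : G, a x = centralChar (fun _ : J => (1 : ℂ)) y := by
    unfold centralChar
    rw [mul_one, div_one, sum_eq_sum_subgroup J a hasupp, ← sum_classInd_eq y]
    exact Finset.sum_congr rfl (fun z _ => haJ z)
  rw [h2, h3] at h1
  have := memLocalIdeal_neg h1
  rwa [neg_sub] at this

end

end Cfsg.Agent.Lib.Helper23.RelCent
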