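/-
Helper23: SF market (S2752) leaf `comp_type`: the central quotient of a component of a composition `K`-group
has the required type (apply the hypothesis with the subnormal subgroup `K` and `N := Z(K)`).
-/
import Mathlib
import Cfsg.Statements.S2752
import Cfsg.Agent.Lib.Helper16.SFDefs
import Cfsg.Agent.Lib.Helper8.ThTwoA
import Cfsg.Agent.Lib.Helper8.ThTwoE

set_option autoImplicit false
universe u v
open Cfsg Cfsg.Agent.Lib.Helper16.SF Cfsg.Agent.Lib.Helper8.ThTwo

namespace Cfsg.Agent.Lib.Helper23.SFLeaf

section grp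
variable {H : Type u} [Group H] [Finite H]

open scoped commutatorElement in
/-- a perfect group with commutative central quotient is trivial -/
theorem SFct_subsingleton_of_perfect {Q : Type*} [Group Q] [hp : Group.IsPerfect Q]
    (hc : ∀ a b : Q ⧸ Subgroup.center Q, a * b = b * a) : Subsingleton Q := by
  -- commutator ≤ center
  have h1 : commutator Q ≤ Subgroup.center Q := by
    rw [commutator_eq_closure, Subgroup.closure_le]
    rintro x ⟨a, b, rfl⟩
    have := hc (QuotientGroup.mk a) (QuotientGroup.mk b)
    have h2 : (QuotientGroup.mk ⁅a, b⁆ : Q ⧸ Subgroup.center Q) = 1 := by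
      rw [commutatorElement_def, QuotientGroup.mk_mul, QuotientGroup.mk_mul, QuotientGroup.mk_mul,
        QuotientGroup.mk_inv, QuotientGroup.mk_inv, this]
      group
    exact (QuotientGroup.eq_one_iff _).mp h2
  have htop : commutator Q = ⊤ := Group.IsPerfect.commutator_eq_top
  have hcen : Subgroup.center Q = ⊤ := top_le_iff.mp (htop ▸ h1)
  -- so `Q` is commutative, the commutator is trivial
  have hbot : commutator Q = ⊥ := by
    rw [commutator_eq_closure, Subgroup.closure_eq_bot_iff]
    rintro x ⟨a, b, rfl⟩
    have ha : a ∈ Subgroup.center Q := hcen ▸ Subgroup.mem_top a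
    rw [Set.mem_singleton_iff, commutatorElement_def]
    have := (Subgroup.mem_center_iff.mp ha b)
    rw [← this]; group
  have htb : (⊤ : Subgroup Q) = ⊥ := htop ▸ hbot
  refine ⟨fun a b => ?_⟩
  have ha : a ∈ (⊥ : Subgroup Q) := htb ▸ Subgroup.mem_top a
  have hb : b ∈ (⊥ : Subgroup Q) := htb ▸ Subgroup.mem_top b
  rw [Subgroup.mem_bot.mp ha, Subgroup.mem_bot.mp hb]

/-- **comp_type**: `hc` with the subnormal subgroup `K` and `N := Z(K)`. -/
theorem comp_type (hc : Cfsg.IsCompositionKGroupWith Cfsg.IsSuzukiOrPSL2OddPowerThree H)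
    (K : Subgroup H) (hK : Cfsg.IsComponent K) :
    Cfsg.IsSuzukiOrPSL2OddPowerThree (↥K ⧸ Subgroup.center ↥K) := by
  obtain ⟨hsn, hperf, hsimple⟩ := hK
  refine hc K hsn (Subgroup.center ↥K) hsimple ?_
  intro hcomm
  have hsub : Subsingleton ↥K :=
    SFct_subsingleton_of_perfect (Q := ↥K) (hp := hperf) (fun a b => hcomm.is_comm.comm a b)
  have hss : Subsingleton (↥K ⧸ Subgroup.center ↥K) := by
    refine ⟨fun a b => ?_⟩
    induction a using QuotientGroup.induction_on with
    | H x =>
      induction b using QuotientGroup.induction_on with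
      | H y => rw [Subsingleton.elim x y]
  exact not_subsingleton _ hss

end grp

end Cfsg.Agent.Lib.Helper23.SFLeaf
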