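import Mathlib
import Cfsg.Agent.Lib.Helper23.WardJ

set_option autoImplicit false
set_option linter.unusedSectionVars false

namespace Cfsg.Agent.Lib.Helper23.Ward

open Subgroup Module
open scoped commutatorElement

universe u

/-- **Ward's theorem**, internal form -/
theorem ward_internal : ∀ (n : ℕ) (Γ : Type u) [Group Γ] [Finite Γ] (p : ℕ) (G A : Subgroup Γ),
    WH Γ p G A → Nat.card G = n →
    ∃ N : Subgroup Γ, N ≤ G ∧ N.Normal ∧ (∃ k, N.lowerCentralSeries k = ⊥) ∧
      ∃ k, G.lowerCentralSeries k ≤ N := by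
  intro n
  induction n using Nat.strong_induction_on with
  | _ n ih =>
    intro Γ _ _ p G A h hn
    by_cases hG1 : G = ⊥
    · exact ⟨⊥, bot_le, inferInstance, ⟨0, rfl⟩, ⟨0, by rw [hG1]; exact le_rfl⟩⟩
    have hGn := h.hGn
    obtain ⟨M, hM, hMG⟩ := Cfsg.Agent.Lib.Helper1.exists_isMinNormal_le G hGn hG1
    have hMn := hM.1
    have hWH := h.quot M hMG
    have hπs : Function.Surjective (QuotientGroup.mk' M) := QuotientGroup.mk'_surjective M
    have hcard : Nat.card M * Nat.card (G.map (QuotientGroup.mk' M)) = Nat.card G := by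
      have h1 := Subgroup.relIndex_mul_relIndex (⊥ : Subgroup Γ) M G bot_le hMG
      rw [Subgroup.relIndex_bot_left, Subgroup.relIndex_bot_left] at h1
      have e : M = (⊥ : Subgroup (Γ ⧸ M)).comap (QuotientGroup.mk' M) := by
        rw [MonoidHom.comap_bot, QuotientGroup.ker_mk']
      have h2 : M.relIndex G = Nat.card (G.map (QuotientGroup.mk' M)) := by
        conv_lhs => rw [e]
        rw [Subgroup.relIndex_comap, Subgroup.relIndex_bot_left]
      rw [← h2]
      exact h1
    have hM1 : 1 < Nat.card M := by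
      rw [Subgroup.one_lt_card_iff_ne_bot]
      exact hM.2.1
    have hlt : Nat.card (G.map (QuotientGroup.mk' M)) < n := by
      rw [← hn, ← hcard]
      have hpos : 0 < Nat.card (G.map (QuotientGroup.mk' M)) := Nat.card_pos
      nlinarith
    obtain ⟨Nb, hNbG, hNbn, ⟨k₁, hk₁⟩, ⟨k₂, hk₂⟩⟩ :=
      ih _ hlt (Γ ⧸ M) p (G.map (QuotientGroup.mk' M)) (A.map (QuotientGroup.mk' M)) hWH rfl
    obtain ⟨j, hj⟩ := propN h hM hMG
    have hN₁n : (Nb.comap (QuotientGroup.mk' M)).Normal := hNbn.comap _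
    have hN₁G : Nb.comap (QuotientGroup.mk' M) ≤ G := by
      intro x hx
      obtain ⟨g, hg, hgx⟩ := hNbG hx
      have h2 : g⁻¹ * x ∈ M := by
        rw [← QuotientGroup.eq_one_iff]
        show QuotientGroup.mk' M (g⁻¹ * x) = 1
        rw [map_mul, map_inv, hgx, inv_mul_cancel]
      have e' : x = g * (g⁻¹ * x) := by group
      rw [e']
      exact G.mul_mem hg (hMG h2)
    -- `γ_{k₁}(N₁) ≤ M`
    have hlcs₁ : (Nb.comap (QuotientGroup.mk' M)).lowerCentralSeries k₁ ≤ M := by
      intro x hx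
      have h1 : QuotientGroup.mk' M x ∈
          ((Nb.comap (QuotientGroup.mk' M)).lowerCentralSeries k₁).map (QuotientGroup.mk' M) :=
        Subgroup.mem_map_of_mem _ hx
      rw [map_lowerCentralSeries, Subgroup.map_comap_eq_self_of_surjective hπs, hk₁,
        Subgroup.mem_bot] at h1
      exact (QuotientGroup.eq_one_iff x).mp h1
    -- `γ_{k₂}(G) ≤ N₁`
    have hlcs₂ : G.lowerCentralSeries k₂ ≤ Nb.comap (QuotientGroup.mk' M) := by
      intro x hx
      have h1 : QuotientGroup.mk' M x ∈ (G.lowerCentralSeries k₂).map (QuotientGroup.mk' M) :=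
        Subgroup.mem_map_of_mem _ hx
      rw [map_lowerCentralSeries] at h1
      exact hk₂ h1
    refine ⟨Nb.comap (QuotientGroup.mk' M) ⊓ centralizer (M : Set Γ), inf_le_left.trans hN₁G,
      inferInstance, ⟨k₁ + 1, ?_⟩, ⟨max k₂ j, ?_⟩⟩
    · rw [Subgroup.lowerCentralSeries_succ, eq_bot_iff]
      have h1 : (Nb.comap (QuotientGroup.mk' M) ⊓ centralizer (M : Set Γ)).lowerCentralSeries k₁ ≤ M :=
        (lcs_mono inf_le_left k₁).trans hlcs₁
      have h2 : ⁅M, centralizer (M : Set Γ)⁆ = ⊥ := by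
        rw [Subgroup.commutator_eq_bot_iff_le_centralizer]
        exact Subgroup.le_centralizer_iff.mp le_rfl
      rw [← h2]
      exact Subgroup.commutator_mono h1 inf_le_right
    · apply le_inf
      · exact (G.lowerCentralSeries_antitone (le_max_left k₂ j)).trans hlcs₂
      · exact (G.lowerCentralSeries_antitone (le_max_right k₂ j)).trans hj

end Cfsg.Agent.Lib.Helper23.Ward
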