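import Mathlib
import Cfsg.Agent.Lib.Helper23.WardK

/-!
# helper23: Shult–Gross, part 1: powers in cyclic `p`-groups and the regular-orbit lemma for
commuting operators
-/

set_option autoImplicit false
set_option linter.unusedSectionVars false
set_option linter.style.haveILetI false

namespace Cfsg.Agent.Lib.Helper23.SG

open Module Subgroup
open Cfsg.Agent.Lib.Helper23.Ward
open scoped commutatorElement

variable {K : Type*} [Field K] {Γ : Type*} [Group Γ] {V : Type*} [AddCommGroup V] [Module K V]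

/-- in a cyclic `p`-group, `a ^ (p ^ t)` is a power of `a ^ (p ^ t * e')` for `p ∤ e'` -/
theorem exists_pow_eq_pp {a : Γ} {p M t e' : ℕ} (hp : p.Prime) (ha : a ^ (p ^ M) = 1)
    (he' : ¬ p ∣ e') : ∃ k : ℕ, (a ^ (p ^ t * e')) ^ k = a ^ (p ^ t) := by
  rcases Nat.eq_zero_or_pos M with hM | hM
  · subst hM
    rw [pow_zero, pow_one] at ha
    exact ⟨1, by rw [ha, one_pow, one_pow, one_pow]⟩
  have hcop : Nat.Coprime e' (p ^ M) :=
    Nat.Coprime.pow_right M ((Nat.Prime.coprime_iff_not_dvd hp).mpr he').symm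
  have h1 : 1 < p ^ M := Nat.one_lt_pow hM.ne' hp.one_lt
  obtain ⟨m, -, hm⟩ := Nat.exists_mul_mod_eq_one_of_coprime hcop h1
  refine ⟨m, ?_⟩
  rw [← pow_mul, mul_assoc, pow_mul a (p ^ t) (e' * m)]
  have h2 : (a ^ (p ^ t)) ^ (p ^ M) = 1 := by
    rw [← pow_mul, mul_comm, pow_mul, ha, one_pow]
  rw [pow_eq_pow_mod (e' * m) h2, hm, pow_one]

/-- in a cyclic `p`-group of order dividing `p ^ s`, the element `a ^ (p ^ (s - 1))` is a power of
every `a ^ e` with `p ^ s ∤ e` -/
theorem exists_pow_eq_omega {a : Γ} {p s e : ℕ} (hp : p.Prime) (ha : a ^ (p ^ s) = 1)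
    (he : ¬ p ^ s ∣ e) : ∃ k : ℕ, (a ^ e) ^ k = a ^ (p ^ (s - 1)) := by
  have he0 : e ≠ 0 := by
    rintro rfl
    exact he (dvd_zero _)
  obtain ⟨t, e', he', rfl⟩ := Nat.exists_eq_pow_mul_and_not_dvd he0 p hp.ne_one
  have hts : t < s := by
    by_contra hcon
    push Not at hcon
    exact he (Dvd.dvd.mul_right (pow_dvd_pow p hcon) e')
  obtain ⟨k, hk⟩ := exists_pow_eq_pp (t := t) hp ha he'
  refine ⟨k * p ^ (s - 1 - t), ?_⟩
  rw [pow_mul, hk, ← pow_mul, ← pow_add]
  congr 2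
  omega

/-- **the regular-orbit lemma**: let `x` of order dividing `p ^ s` normalise the finite group `Y`,
which acts on the `x`-invariant subspace `U` through commuting operators of order invertible in
`K`. If `x` has no nonzero fixed vector in `U`, then `[Y, x ^ (p ^ (s - 1))]` acts trivially on
`U`. -/
theorem sab [IsAlgClosed K] [FiniteDimensional K V] (ρ : Representation K Γ V)
    (U : Submodule K V) (x : Γ) {p s : ℕ} (hp : p.Prime) (hx : x ^ (p ^ s) = 1)
    (hxU : ∀ u ∈ U, ρ x u ∈ U) (Y : Subgroup Γ) [Finite Y]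
    (hxY : x ∈ normalizer (Y : Set Γ)) (hYU : ∀ y ∈ Y, ∀ u ∈ U, ρ y u ∈ U)
    (hcomm : ∀ y ∈ Y, ∀ y' ∈ Y, ∀ u ∈ U, ρ y (ρ y' u) = ρ y' (ρ y u))
    (hYK : (Nat.card Y : K) ≠ 0) (hfix : ∀ u ∈ U, ρ x u = u → u = 0) :
    ∀ y ∈ Y, ∀ u ∈ U, ρ ⁅y, x ^ (p ^ (s - 1))⁆ u = u := by
  classical
  set b := x ^ (p ^ (s - 1)) with hb
  intro y hy u hu
  have hdec := mem_iSup_wt ρ Y U hYU hcomm hYK u hu
  have hxpow : ∀ i : ℕ, x ^ i ∈ normalizer (Y : Set Γ) := fun i => Subgroup.pow_mem _ hxY i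
  have hxpowU : ∀ i : ℕ, ∀ u ∈ U, ρ (x ^ i) u ∈ U := by
    intro i
    induction i with
    | zero => intro u hu; simpa using hu
    | succ i ih =>
      intro u hu
      rw [pow_succ', map_mul]
      exact hxU _ (ih u hu)
  have hle : (⨆ χ : Γ → K, U ⊓ wt ρ Y χ) ≤ fixSp ρ ⁅y, b⁆ := by
    apply iSup_le
    rintro χ w ⟨hwU, hwχ⟩
    rw [mem_fixSp]
    by_cases hw0 : w = 0
    · rw [hw0, map_zero]
    have hmul : ∀ y₁ ∈ Y, ∀ y₂ ∈ Y, χ (y₁ * y₂) = χ y₁ * χ y₂ := by
      intro y₁ hy₁ y₂ hy₂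
      have h1 : ρ (y₁ * y₂) w = (χ y₁ * χ y₂) • w := by
        rw [map_mul, Module.End.mul_apply, hwχ y₂ hy₂, map_smul, hwχ y₁ hy₁, smul_smul, mul_comm]
      rw [hwχ _ (Y.mul_mem hy₁ hy₂)] at h1
      exact smul_left_injective K hw0 h1
    have hone : χ 1 = 1 := by
      have h1 : ρ 1 w = (1 : K) • w := by rw [map_one, one_smul]; rfl
      rw [hwχ 1 Y.one_mem] at h1
      exact smul_left_injective K hw0 h1
    have hbstab : b ∈ stab Y χ := by
      by_contra hbn
      have hdist : ∀ i ∈ Finset.range (p ^ s), ∀ j ∈ Finset.range (p ^ s), i ≠ j →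
          ∃ z ∈ Y, cj (x ^ i) χ z ≠ cj (x ^ j) χ z := by
        have key : ∀ i j : ℕ, i < j → j < p ^ s →
            ∃ z ∈ Y, cj (x ^ i) χ z ≠ cj (x ^ j) χ z := by
          intro i j hij hj
          by_contra hcon
          push Not at hcon
          obtain ⟨k, rfl⟩ := Nat.exists_eq_add_of_lt hij
          have h1 : x ^ (k + 1) ∈ stab Y χ :=
            pow_mem_stab_of_cj_eq hxpow (j := i) (k := k + 1)
              (fun z hz => by rw [← add_assoc]; exact (hcon z hz).symm)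
          have h2 : ¬ p ^ s ∣ k + 1 := by
            intro hd
            have := Nat.le_of_dvd (Nat.succ_pos k) hd
            omega
          obtain ⟨m, hm⟩ := exists_pow_eq_omega hp hx h2
          apply hbn
          rw [hb, ← hm]
          exact Subgroup.pow_mem _ h1 m
        intro i hi j hj hij
        rw [Finset.mem_range] at hi hj
        rcases lt_or_gt_of_ne hij with h | h
        · exact key i j h hj
        · obtain ⟨z, hz, hne⟩ := key j i h hi
          exact ⟨z, hz, hne.symm⟩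
      have hsum : ρ x (∑ j ∈ Finset.range (p ^ s), ρ (x ^ j) w) =
          ∑ j ∈ Finset.range (p ^ s), ρ (x ^ j) w := by
        rw [map_sum]
        have h1 : ∀ j ∈ Finset.range (p ^ s), ρ x (ρ (x ^ j) w) = ρ (x ^ (j + 1)) w := by
          intro j _
          rw [pow_succ', map_mul]; rfl
        rw [Finset.sum_congr rfl h1]
        exact sum_range_shift (fun j => ρ (x ^ j) w) (p ^ s) (by simp only [hx, pow_zero])
      have hmemU : ∑ j ∈ Finset.range (p ^ s), ρ (x ^ j) w ∈ U :=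
        Submodule.sum_mem _ (fun j _ => hxpowU j w hwU)
      have h0 := hfix _ hmemU hsum
      have h3 := wt_indep ρ Y (Finset.range (p ^ s)) (fun j => cj (x ^ j) χ) hdist
        (fun j => ρ (x ^ j) w) (fun j _ => map_wt (hxpow j) hwχ) h0 0
        (Finset.mem_range.mpr (pow_pos hp.pos s))
      simp only [pow_zero, map_one, Module.End.one_apply] at h3
      exact hw0 h3
    have hbN : b ∈ normalizer (Y : Set Γ) := hbstab.1
    have hy' : b * y⁻¹ * b⁻¹ ∈ Y := conj_mem_of_mem_normalizer hbN (Y.inv_mem hy)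
    have e : ⁅y, b⁆ = y * (b * y⁻¹ * b⁻¹) := by
      rw [commutatorElement_def]; group
    have h4 : χ (b * y⁻¹ * b⁻¹) = χ y⁻¹ := by
      have := hbstab.2 _ hy'
      rw [← this]
      congr 1
      group
    rw [e, map_mul, Module.End.mul_apply, hwχ _ hy', map_smul, hwχ y hy, smul_smul, h4,
      ← hmul _ (Y.inv_mem hy) _ hy, inv_mul_cancel, hone, one_smul]
  exact mem_fixSp.mp (hle hdec)

end Cfsg.Agent.Lib.Helper23.SG
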