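import Mathlib
import Cfsg.Agent.Lib.Helper23.WardK

set_option autoImplicit false
set_option linter.unusedSectionVars false
set_option linter.style.haveILetI false

namespace Cfsg.Agent.Lib.Helper23.SG

open Module Subgroup
open scoped commutatorElement

variable {Γ : Type*} [Group Γ]

/-- a finite group acting freely on a finite set: the order divides the cardinality -/
theorem card_dvd_of_free {G X : Type*} [Group G] [Finite G] [MulAction G X] [Finite X]
    (hfree : ∀ (g : G) (x : X), g • x = x → g = 1) : Nat.card G ∣ Nat.card X := by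
  classical
  have e := MulAction.selfEquivSigmaOrbitsQuotientStabilizer G X
  have hfin : Finite (Quotient (MulAction.orbitRel G X)) := Quotient.finite _
  letI : Fintype (Quotient (MulAction.orbitRel G X)) := Fintype.ofFinite _
  rw [Nat.card_congr e, Nat.card_sigma]
  apply Finset.dvd_sum
  intro ω _
  have hst : MulAction.stabilizer G (Quotient.out ω) = ⊥ := by
    rw [eq_bot_iff]
    intro g hg
    rw [Subgroup.mem_bot]
    exact hfree g _ (MulAction.mem_stabilizer_iff.mp hg)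
  rw [hst]
  have : Nat.card (G ⧸ (⊥ : Subgroup G)) = Nat.card G :=
    Nat.card_congr (QuotientGroup.quotientBot (G := G)).toEquiv
  rw [this]

/-- a cyclic group `⟨a⟩` of order `m` normalising `Z ≤ Q` such that the fixed points in `Q` of all
its nonidentity elements lie in `Z`: then `m ∣ |Q| - |Z|` -/
theorem dvd_card_sub_of_semiregular [Finite Γ] (Q Z : Subgroup Γ) (hZQ : Z ≤ Q) (a : Γ) {m : ℕ}
    (hm : 0 < m) (ham : a ^ m = 1)
    (haQ : a ∈ normalizer (Q : Set Γ)) (haZ : a ∈ normalizer (Z : Set Γ))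
    (hfree : ∀ e : ℕ, ¬ m ∣ e → ∀ x ∈ Q, a ^ e * x = x * a ^ e → x ∈ Z) :
    m ∣ Nat.card Q - Nat.card Z := by
  classical
  by_cases hQZ : Q ≤ Z
  · have : Q = Z := le_antisymm hQZ hZQ
    rw [this, Nat.sub_self]
    exact dvd_zero _
  obtain ⟨x₀, hx₀Q, hx₀Z⟩ := SetLike.not_le_iff_exists.mp hQZ
  have hord : orderOf a = m := by
    apply Nat.dvd_antisymm (orderOf_dvd_of_pow_eq_one ham)
    by_contra hnd
    apply hx₀Z
    apply hfree (orderOf a) hnd x₀ hx₀Q
    rw [pow_orderOf_eq_one, one_mul, mul_one]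
  set A : Subgroup Γ := zpowers a with hA
  have hAQ : A ≤ normalizer (Q : Set Γ) := by rw [hA, zpowers_le]; exact haQ
  have hAZ : A ≤ normalizer (Z : Set Γ) := by rw [hA, zpowers_le]; exact haZ
  let S : Type _ := {x : Γ // x ∈ Q ∧ x ∉ Z}
  have hsm : ∀ (g : ↥A) (x : S), (g : Γ) * x.1 * (g : Γ)⁻¹ ∈ Q ∧ (g : Γ) * x.1 * (g : Γ)⁻¹ ∉ Z := by
    intro g x
    refine ⟨(mem_normalizer_iff.mp (hAQ g.2) x.1).mp x.2.1, ?_⟩
    intro h
    exact x.2.2 ((mem_normalizer_iff.mp (hAZ g.2) x.1).mpr h)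
  letI : MulAction ↥A S :=
    { smul := fun g x => ⟨(g : Γ) * x.1 * (g : Γ)⁻¹, hsm g x⟩
      one_smul := by
        intro x
        apply Subtype.ext
        show ((1 : ↥A) : Γ) * x.1 * ((1 : ↥A) : Γ)⁻¹ = x.1
        simp
      mul_smul := by
        intro g h x
        apply Subtype.ext
        show ((g * h : ↥A) : Γ) * x.1 * ((g * h : ↥A) : Γ)⁻¹ =
          (g : Γ) * ((h : Γ) * x.1 * (h : Γ)⁻¹) * (g : Γ)⁻¹
        rw [Subgroup.coe_mul]
        group }
  have hsmul : ∀ (g : ↥A) (x : S), ((g • x : S) : Γ) = (g : Γ) * x.1 * (g : Γ)⁻¹ := fun g x => rfl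
  have hfreeA : ∀ (g : ↥A) (x : S), g • x = x → g = 1 := by
    intro g x hgx
    have h1 : (g : Γ) * x.1 * (g : Γ)⁻¹ = x.1 := by
      rw [← hsmul, hgx]
    obtain ⟨k, hk⟩ := mem_zpowers_iff.mp g.2
    have h2 : (g : Γ) = a ^ (k % (m : ℤ)).toNat := by
      rw [← hk, ← zpow_natCast, Int.toNat_of_nonneg (Int.emod_nonneg _ (by exact_mod_cast hm.ne')),
        ← zpow_eq_zpow_emod' k ham]
    by_contra hg1
    have h3 : ¬ m ∣ (k % (m : ℤ)).toNat := by
      intro hd
      apply hg1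
      apply Subtype.ext
      rw [h2]
      obtain ⟨c, hc⟩ := hd
      rw [hc, pow_mul, ham, one_pow]
      rfl
    apply x.2.2
    apply hfree _ h3 x.1 x.2.1
    rw [← h2]
    calc (g : Γ) * x.1 = ((g : Γ) * x.1 * (g : Γ)⁻¹) * g := by group
      _ = x.1 * g := by rw [h1]
  have hdvd := card_dvd_of_free hfreeA
  rw [hA, Nat.card_zpowers, hord] at hdvd
  have hS : Nat.card S = Nat.card Q - Nat.card Z := by
    have h1 : Nat.card S = ((Q : Set Γ) \ (Z : Set Γ)).ncard := by
      rw [← Nat.card_coe_set_eq]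
      rfl
    rw [h1, Set.ncard_sdiff (by exact_mod_cast hZQ) (Set.toFinite _), ← Nat.card_coe_set_eq,
      ← Nat.card_coe_set_eq]
    rfl
  rw [← hS]
  exact hdvd

end Cfsg.Agent.Lib.Helper23.SG
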