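import Mathlib
import Cfsg.Agent.Lib.Helper23.SG1
import Cfsg.Agent.Lib.Helper23.SG2a
import Cfsg.Agent.Lib.Helper23.PQ16

/-!
# helper23: Shult–Gross, part 2: the structure of a minimal configuration
-/

set_option autoImplicit false
set_option linter.unusedSectionVars false
set_option linter.style.haveILetI false

namespace Cfsg.Agent.Lib.Helper23.SG

open Module Subgroup
open Cfsg.Agent.Lib.Helper23.Ward
open Cfsg.Agent.Lib.Helper23.PQ (conj_mem_commutator)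
open Cfsg.Agent.Lib.Helper23.PQ.MinCE (Zc mem_Zc Zc_le conj_mem_Zc Zc_comm)
open Cfsg.Agent.Lib.Helper23.S3 (rho_mul_apply mem_normalizer_of_conj_mem conj_inv_mem_of_finite
  lift_of_pow)
open scoped commutatorElement

variable {K : Type*} [Field K] {Γ : Type*} [Group Γ] {V : Type*} [AddCommGroup V] [Module K V]

/-- the hypotheses of Lemma S: `a` of order dividing `p ^ (n + 1)` normalises the `q`-group `Q`,
without fixed points on `Q` and on the faithful `Q`-module `V`. -/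
structure SH (ρ : Representation K Γ V) (p n q : ℕ) (a : Γ) (Q : Subgroup Γ) : Prop where
  hp : p.Prime
  hq : q.Prime
  hpq : p ≠ q
  hqK : (q : K) ≠ 0
  hpK : (p : K) ≠ 0
  han : a ^ (p ^ (n + 1)) = 1
  hQ : IsPGroup q Q
  haQ : ∀ x ∈ Q, a * x * a⁻¹ ∈ Q
  hfQ : ∀ x ∈ Q, a * x = x * a → x = 1
  hfV : ∀ v : V, ρ a v = v → v = 0
  hfaith : ∀ x ∈ Q, ρ x = 1 → x = 1

/-- a minimal configuration in which `a ^ (p ^ n)` does not centralise `Q` -/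
structure MC (ρ : Representation K Γ V) (p n q : ℕ) (a : Γ) (Q : Subgroup Γ) : Prop where
  sh : SH ρ p n q a Q
  hmin : ∀ Q' : Subgroup Γ, Q' ≤ Q → Q' ≠ Q → (∀ x ∈ Q', a * x * a⁻¹ ∈ Q') →
    ∀ x ∈ Q', a ^ (p ^ n) * x = x * a ^ (p ^ n)
  hne : ∃ x ∈ Q, a ^ (p ^ n) * x ≠ x * a ^ (p ^ n)

namespace SH

variable {ρ : Representation K Γ V} {p n q : ℕ} {a : Γ} {Q : Subgroup Γ}

theorem bp (h : SH ρ p n q a Q) : (a ^ (p ^ n)) ^ p = 1 := by
  rw [← pow_mul, ← pow_succ]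
  exact h.han

theorem ab (_h : SH ρ p n q a Q) : a * a ^ (p ^ n) = a ^ (p ^ n) * a :=
  (Commute.self_pow a _).eq

theorem apow_Q (h : SH ρ p n q a Q) (i : ℕ) : ∀ x ∈ Q, a ^ i * x * (a ^ i)⁻¹ ∈ Q :=
  Cfsg.Agent.Lib.Helper17.ESMod.conj_pow_mem Q a h.haQ i

theorem bQ (h : SH ρ p n q a Q) : ∀ x ∈ Q, a ^ (p ^ n) * x * (a ^ (p ^ n))⁻¹ ∈ Q :=
  h.apow_Q (p ^ n)

theorem cop [Finite Γ] (h : SH ρ p n q a Q) {L : Subgroup Γ} (hL : L ≤ Q) (m : ℕ) :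
    (Nat.card L).Coprime (p ^ m) := by
  have : Fact q.Prime := ⟨h.hq⟩
  obtain ⟨k, hk⟩ := IsPGroup.iff_card.mp (h.hQ.to_le hL)
  rw [hk]
  exact Nat.Coprime.pow _ _ ((Nat.coprime_primes h.hq h.hp).mpr (Ne.symm h.hpq))

theorem card_ne_zero [Finite Γ] (h : SH ρ p n q a Q) {L : Subgroup Γ} (hL : L ≤ Q) :
    (Nat.card L : K) ≠ 0 := by
  have : Fact q.Prime := ⟨h.hq⟩
  obtain ⟨k, hk⟩ := IsPGroup.iff_card.mp (h.hQ.to_le hL)
  rw [hk, Nat.cast_pow]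
  exact pow_ne_zero _ h.hqK

/-- restriction to an invariant subgroup -/
theorem sub (h : SH ρ p n q a Q) {Q' : Subgroup Γ} (hle : Q' ≤ Q)
    (hinv : ∀ x ∈ Q', a * x * a⁻¹ ∈ Q') : SH ρ p n q a Q' where
  hp := h.hp
  hq := h.hq
  hpq := h.hpq
  hqK := h.hqK
  hpK := h.hpK
  han := h.han
  hQ := h.hQ.to_le hle
  haQ := hinv
  hfQ := fun x hx => h.hfQ x (hle hx)
  hfV := h.hfV
  hfaith := fun x hx => h.hfaith x (hle hx)

end SH

namespace MC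

variable {ρ : Representation K Γ V} {p n q : ℕ} {a : Γ} {Q : Subgroup Γ}

/-- `Q` is generated by the commutators `[b, t]` -/
theorem gen (c : MC ρ p n q a Q) :
    closure {g | ∃ t ∈ Q, g = ⁅a ^ (p ^ n), t⁆} = Q := by
  set b := a ^ (p ^ n) with hb
  have hcommQ : ∀ t ∈ Q, ⁅b, t⁆ ∈ Q := by
    intro t ht
    rw [commutatorElement_def]
    exact Q.mul_mem (c.sh.bQ t ht) (Q.inv_mem ht)
  set Q₁ : Subgroup Γ := closure {g | ∃ t ∈ Q, g = ⁅b, t⁆} with hQ₁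
  have hQ₁Q : Q₁ ≤ Q := by
    rw [hQ₁, closure_le]
    rintro _ ⟨t, ht, rfl⟩
    exact hcommQ t ht
  have hQ₁inv : ∀ s ∈ Q₁, a * s * a⁻¹ ∈ Q₁ := by
    intro s hs
    induction hs using Subgroup.closure_induction with
    | mem g hg =>
      obtain ⟨t, ht, rfl⟩ := hg
      apply Subgroup.subset_closure
      refine ⟨a * t * a⁻¹, c.sh.haQ t ht, ?_⟩
      have e : a * ⁅b, t⁆ * a⁻¹ = ⁅a * b * a⁻¹, a * t * a⁻¹⁆ := by
        simp only [commutatorElement_def]; group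
      rw [e, c.sh.ab, mul_inv_cancel_right]
    | one =>
      have : a * 1 * a⁻¹ = 1 := by group
      rw [this]; exact Q₁.one_mem
    | mul x y _ _ ihx ihy =>
      have : a * (x * y) * a⁻¹ = (a * x * a⁻¹) * (a * y * a⁻¹) := by group
      rw [this]; exact Q₁.mul_mem ihx ihy
    | inv x _ ihx =>
      have : a * x⁻¹ * a⁻¹ = (a * x * a⁻¹)⁻¹ := by group
      rw [this]; exact Q₁.inv_mem ihx
  by_contra hne
  have h1 := c.hmin Q₁ hQ₁Q hne hQ₁inv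
  obtain ⟨x, hx, hxb⟩ := c.hne
  apply hxb
  have h2 : ⁅b, x⁆ = 1 :=
    Cfsg.Agent.Lib.Helper17.ESMod.comm_eq_one_of_comm c.sh.hq c.sh.hp (Ne.symm c.sh.hpq) Q c.sh.hQ b
      c.sh.bp x (hcommQ x hx) (h1 _ (Subgroup.subset_closure ⟨x, hx, rfl⟩))
  exact commutatorElement_eq_one_iff_mul_comm.mp h2

theorem Q_ne_bot (c : MC ρ p n q a Q) : Q ≠ ⊥ := by
  intro e
  obtain ⟨x, hx, hxb⟩ := c.hne
  rw [e, Subgroup.mem_bot] at hx
  apply hxb
  rw [hx, one_mul, mul_one]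

theorem comm_ne [Finite Γ] (c : MC ρ p n q a Q) : ⁅Q, Q⁆ ≠ Q := by
  intro e
  have : Fact q.Prime := ⟨c.sh.hq⟩
  have hnil := c.sh.hQ.isNilpotent
  have hsolv : Group.IsSolvable ↥Q := inferInstance
  have hnt : Nontrivial ↥Q := (Subgroup.nontrivial_iff_ne_bot Q).mpr c.Q_ne_bot
  have h1 := Group.IsSolvable.commutator_lt_top_of_nontrivial ↥Q
  apply h1.ne
  have h2 : (commutator ↥Q).map Q.subtype = ⁅Q, Q⁆ := by
    rw [commutator_def, Subgroup.map_commutator, ← MonoidHom.range_eq_map, Subgroup.range_subtype]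
  apply Subgroup.map_injective Q.subtype_injective
  rw [h2, e, ← MonoidHom.range_eq_map, Subgroup.range_subtype]

/-- `Q` has class at most two -/
theorem class2 [Finite Γ] (c : MC ρ p n q a Q) : ∀ s ∈ Q, ∀ t ∈ Q, ⁅s, t⁆ ∈ Zc Q := by
  set b := a ^ (p ^ n) with hb
  have hle : ⁅Q, Q⁆ ≤ Q := Cfsg.Agent.Lib.Helper1.commutator_le_of_le_normalizer le_normalizer
  have hQN : Q ≤ normalizer ((⁅Q, Q⁆ : Subgroup Γ) : Set Γ) :=
    Cfsg.Agent.Lib.Helper1.le_normalizer_commutator_left Q Q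
  have h1 : ∀ x ∈ ⁅Q, Q⁆, b * x = x * b :=
    c.hmin ⁅Q, Q⁆ hle c.comm_ne (conj_mem_commutator c.sh.haQ c.sh.haQ)
  intro s hs t ht
  have hd : ⁅s, t⁆ ∈ ⁅Q, Q⁆ := Subgroup.commutator_mem_commutator hs ht
  rw [mem_Zc]
  refine ⟨hle hd, ?_⟩
  have hcl : closure {g | ∃ t' ∈ Q, g = ⁅b, t'⁆} ≤ centralizer {⁅s, t⁆} := by
    rw [closure_le]
    rintro _ ⟨t', ht', rfl⟩
    rw [SetLike.mem_coe, mem_centralizer_singleton_iff]
    set f := ⁅s, t⁆ with hf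
    have hf₁ : t'⁻¹ * f * t' ∈ ⁅Q, Q⁆ := by
      have := (mem_normalizer_iff.mp (hQN (Q.inv_mem ht')) f).mp hd
      rwa [inv_inv] at this
    have hbf₁ : b⁻¹ * (t'⁻¹ * f * t') * b = t'⁻¹ * f * t' := by
      have := h1 _ hf₁
      calc b⁻¹ * (t'⁻¹ * f * t') * b = b⁻¹ * (b * (t'⁻¹ * f * t')) := by rw [this]; group
        _ = t'⁻¹ * f * t' := by group
    have hbf : b * f * b⁻¹ = f := by
      have := h1 _ hd
      rw [this]; group
    have e : ⁅b, t'⁆ * f * ⁅b, t'⁆⁻¹ = b * (t' * (b⁻¹ * (t'⁻¹ * f * t') * b) * t'⁻¹) * b⁻¹ := by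
      simp only [commutatorElement_def]; group
    have h2 : ⁅b, t'⁆ * f * ⁅b, t'⁆⁻¹ = f := by
      rw [e, hbf₁]
      have : t' * (t'⁻¹ * f * t') * t'⁻¹ = f := by group
      rw [this, hbf]
    calc ⁅b, t'⁆ * f = (⁅b, t'⁆ * f * ⁅b, t'⁆⁻¹) * ⁅b, t'⁆ := by group
      _ = f * ⁅b, t'⁆ := by rw [h2]
  rw [c.gen] at hcl
  intro x hx
  exact mem_centralizer_singleton_iff.mp (hcl hx)

/-- `Q` is not abelian -/
theorem nonab [Finite Γ] [IsAlgClosed K] [FiniteDimensional K V] (c : MC ρ p n q a Q) :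
    Zc Q ≠ Q := by
  intro e
  have hab : ∀ x ∈ Q, ∀ y ∈ Q, x * y = y * x := by
    intro x hx y hy
    have : y ∈ Zc Q := by rw [e]; exact hy
    exact (mem_Zc.mp this).2 x hx
  have h1 := sab ρ ⊤ a (s := n + 1) c.sh.hp c.sh.han (fun u _ => Submodule.mem_top) Q
    (mem_normalizer_of_conj_mem c.sh.haQ) (fun y _ u _ => Submodule.mem_top)
    (fun y hy y' hy' u _ => by
      rw [← rho_mul_apply, ← rho_mul_apply, hab y hy y' hy'])
    (c.sh.card_ne_zero le_rfl) (fun u _ hu => c.sh.hfV u hu)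
  obtain ⟨x, hx, hxb⟩ := c.hne
  apply hxb
  have h2 : ρ ⁅x, a ^ (p ^ n)⁆ = 1 := by
    apply LinearMap.ext
    intro u
    have := h1 x hx u Submodule.mem_top
    rw [Nat.add_sub_cancel] at this
    exact this
  have h3 : ⁅x, a ^ (p ^ n)⁆ ∈ Q := by
    have e' : ⁅x, a ^ (p ^ n)⁆ = x * (a ^ (p ^ n) * x⁻¹ * (a ^ (p ^ n))⁻¹) := by
      rw [commutatorElement_def]; group
    rw [e']
    exact Q.mul_mem hx (c.sh.bQ _ (Q.inv_mem hx))
  have h4 := c.sh.hfaith _ h3 h2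
  exact (commutatorElement_eq_one_iff_mul_comm.mp h4).symm

/-- `b` centralises the centre of `Q` -/
theorem b_cent_Z [Finite Γ] [IsAlgClosed K] [FiniteDimensional K V] (c : MC ρ p n q a Q) :
    ∀ z ∈ Zc Q, a ^ (p ^ n) * z = z * a ^ (p ^ n) :=
  c.hmin (Zc Q) (Zc_le Q) c.nonab (conj_mem_Zc c.sh.haQ)

/-- the fixed points of `b` on `Q` are central -/
theorem cent_le_Z [Finite Γ] [IsAlgClosed K] [FiniteDimensional K V] (c : MC ρ p n q a Q) :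
    ∀ x ∈ Q, a ^ (p ^ n) * x = x * a ^ (p ^ n) → x ∈ Zc Q := by
  set b := a ^ (p ^ n) with hb
  intro x hx hbx
  rw [mem_Zc]
  refine ⟨hx, ?_⟩
  have hcl : closure {g | ∃ t ∈ Q, g = ⁅b, t⁆} ≤ centralizer {x} := by
    rw [closure_le]
    rintro _ ⟨t, ht, rfl⟩
    rw [SetLike.mem_coe, mem_centralizer_singleton_iff]
    -- `x t x⁻¹ = d t` with `d` central and fixed by `b`
    set d := ⁅x, t⁆ with hd
    have hdZ : d ∈ Zc Q := c.class2 x hx t ht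
    have hbd : b * d = d * b := c.b_cent_Z d hdZ
    have hdc : ∀ y ∈ Q, y * d = d * y := (mem_Zc.mp hdZ).2
    have h1 : x * t * x⁻¹ = d * t := by
      rw [hd, commutatorElement_def]; group
    have h2 : x * (b * t * b⁻¹) * x⁻¹ = d * (b * t * b⁻¹) := by
      have e : x * (b * t * b⁻¹) * x⁻¹ = b * ((b⁻¹ * x * b) * t * (b⁻¹ * x * b)⁻¹) * b⁻¹ := by group
      have e2 : b⁻¹ * x * b = x := by
        rw [mul_assoc, ← hbx]; group
      rw [e, e2, h1]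
      calc b * (d * t) * b⁻¹ = (b * d) * t * b⁻¹ := by group
        _ = d * (b * t * b⁻¹) := by rw [hbd]; group
    have h3 : x * ⁅b, t⁆ * x⁻¹ = ⁅b, t⁆ := by
      have e : x * ⁅b, t⁆ * x⁻¹ = (x * (b * t * b⁻¹) * x⁻¹) * (x * t * x⁻¹)⁻¹ := by
        rw [commutatorElement_def]; group
      rw [e, h2, h1]
      have hbt : b * t * b⁻¹ ∈ Q := c.sh.bQ t ht
      calc d * (b * t * b⁻¹) * (d * t)⁻¹ = d * ((b * t * b⁻¹) * t⁻¹) * d⁻¹ := by group
        _ = ((b * t * b⁻¹) * t⁻¹) * d * d⁻¹ := by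
          rw [← hdc _ (Q.mul_mem hbt (Q.inv_mem ht))]
        _ = ⁅b, t⁆ := by rw [commutatorElement_def]; group
    calc ⁅b, t⁆ * x = (x * ⁅b, t⁆ * x⁻¹) * x := by rw [h3]
      _ = x * ⁅b, t⁆ := by group
  rw [c.gen] at hcl
  intro y hy
  exact mem_centralizer_singleton_iff.mp (hcl hy)

/-- **semiregularity**: for an `a ^ e`-invariant subgroup `L` between `Z(Q)` and `Q`, the fixed
points of `a ^ e ≠ 1` on `Q / L` are trivial -/
theorem semireg [Finite Γ] [IsAlgClosed K] [FiniteDimensional K V] (c : MC ρ p n q a Q)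
    {L : Subgroup Γ} (hZL : Zc Q ≤ L) (hLQ : L ≤ Q) {e : ℕ} (he : ¬ p ^ (n + 1) ∣ e)
    (hL : ∀ l ∈ L, a ^ e * l * (a ^ e)⁻¹ ∈ L) :
    ∀ g ∈ Q, g⁻¹ * (a ^ e * g * (a ^ e)⁻¹) ∈ L → g ∈ L := by
  intro g hg hgL
  have hae : (a ^ e) ^ (p ^ (n + 1)) = 1 := by
    rw [← pow_mul, mul_comm, pow_mul, c.sh.han, one_pow]
  obtain ⟨l, hl, hcl⟩ := lift_of_pow hae hL (c.sh.cop hLQ (n + 1)) hgL
  obtain ⟨k, hk⟩ := exists_pow_eq_omega c.sh.hp c.sh.han he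
  rw [Nat.add_sub_cancel] at hk
  have h1 : a ^ (p ^ n) * (g * l) = (g * l) * a ^ (p ^ n) := by
    rw [← hk]
    have : Commute (a ^ e) (g * l) := hcl
    exact (this.pow_left k).eq
  have h2 := c.cent_le_Z _ (Q.mul_mem hg (hLQ hl)) h1
  have h3 : g = (g * l) * l⁻¹ := by group
  rw [h3]
  exact L.mul_mem (hZL h2) (L.inv_mem hl)

/-- the order of `a` is `p ^ (n + 1)` and `|Q| ≡ |Z(Q)|` modulo it -/
theorem dvd_card_sub [Finite Γ] [IsAlgClosed K] [FiniteDimensional K V] (c : MC ρ p n q a Q) :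
    p ^ (n + 1) ∣ Nat.card Q - Nat.card (Zc Q) := by
  apply dvd_card_sub_of_semiregular Q (Zc Q) (Zc_le Q) a (pow_pos c.sh.hp.pos _) c.sh.han
    (mem_normalizer_of_conj_mem c.sh.haQ) (mem_normalizer_of_conj_mem (conj_mem_Zc c.sh.haQ))
  intro e he x hx hxe
  apply c.semireg le_rfl (Zc_le Q) he (conj_mem_Zc (c.sh.apow_Q e)) x hx
  have e1 : a ^ e * x * (a ^ e)⁻¹ = x := by
    rw [hxe]; group
  rw [e1, inv_mul_cancel]
  exact (Zc Q).one_mem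

end MC

end Cfsg.Agent.Lib.Helper23.SG
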