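import Mathlib
import Cfsg.Agent.Lib.Helper23.SG2

/-!
# helper23: Shult–Gross, part 3: a weight of `Z(Q)` on which `Q` acts nonabelianly
-/

set_option autoImplicit false
set_option linter.unusedSectionVars false
set_option linter.style.haveILetI false

namespace Cfsg.Agent.Lib.Helper23.SG

open Module Subgroup
open Cfsg.Agent.Lib.Helper23.Ward
open Cfsg.Agent.Lib.Helper23.PQ (conj_mem_commutator mem_stab_of_cent)
open Cfsg.Agent.Lib.Helper23.PQ.MinCE (Zc mem_Zc Zc_le conj_mem_Zc Zc_comm)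
open Cfsg.Agent.Lib.Helper23.S3 (rho_mul_apply mem_normalizer_of_conj_mem conj_inv_mem_of_finite
  lift_of_pow)
open scoped commutatorElement

variable {K : Type*} [Field K] {Γ : Type*} [Group Γ] [Finite Γ] {V : Type*} [AddCommGroup V]
  [Module K V]

/-- `Q` preserves the weight spaces of its centre -/
theorem wt_Zc_map {ρ : Representation K Γ V} {Q : Subgroup Γ} {χ : Γ → K} {s : Γ} (hs : s ∈ Q)
    {v : V} (hv : v ∈ wt ρ (Zc Q) χ) : ρ s v ∈ wt ρ (Zc Q) χ := by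
  intro z hz
  have h1 : s * z = z * s := (mem_Zc.mp hz).2 s hs
  rw [← rho_mul_apply, ← h1, rho_mul_apply, hv z hz, map_smul]

/-- the kernel of `Q` on the weight space -/
def Kl (ρ : Representation K Γ V) (Q : Subgroup Γ) (χ : Γ → K) : Subgroup Γ :=
  kerX ρ Q (wt ρ (Zc Q) χ)

theorem mem_Kl {ρ : Representation K Γ V} {Q : Subgroup Γ} {χ : Γ → K} {x : Γ} :
    x ∈ Kl ρ Q χ ↔ x ∈ Q ∧ ∀ v ∈ wt ρ (Zc Q) χ, ρ x v = v := Iff.rfl

theorem Kl_le (ρ : Representation K Γ V) (Q : Subgroup Γ) (χ : Γ → K) : Kl ρ Q χ ≤ Q :=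
  fun _ hx => hx.1

theorem Kl_conj (ρ : Representation K Γ V) (Q : Subgroup Γ) (χ : Γ → K) :
    ∀ x ∈ Q, ∀ k ∈ Kl ρ Q χ, x * k * x⁻¹ ∈ Kl ρ Q χ := by
  intro x hx k hk
  exact conj_mem_kerX (le_normalizer hx) (fun v hv => wt_Zc_map (Q.inv_mem hx) hv) hk

/-- the preimage of the centre of `Q / Kl` -/
def Yr (ρ : Representation K Γ V) (Q : Subgroup Γ) (χ : Γ → K) : Subgroup Γ :=
  upperZ Q (Kl ρ Q χ) (Kl_conj ρ Q χ)

theorem mem_Yr {ρ : Representation K Γ V} {Q : Subgroup Γ} {χ : Γ → K} {x : Γ} :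
    x ∈ Yr ρ Q χ ↔ x ∈ Q ∧ ∀ t ∈ Q, ⁅x, t⁆ ∈ Kl ρ Q χ := Iff.rfl

theorem Yr_le (ρ : Representation K Γ V) (Q : Subgroup Γ) (χ : Γ → K) : Yr ρ Q χ ≤ Q :=
  fun _ hx => hx.1

theorem Zc_le_Yr (ρ : Representation K Γ V) (Q : Subgroup Γ) (χ : Γ → K) : Zc Q ≤ Yr ρ Q χ := by
  intro z hz
  refine ⟨Zc_le Q hz, ?_⟩
  intro t ht
  have h1 : ⁅z, t⁆ = 1 := by
    rw [commutatorElement_eq_one_iff_mul_comm]
    exact ((mem_Zc.mp hz).2 t ht).symm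
  rw [h1]
  exact (Kl ρ Q χ).one_mem

/-- the operators of `Yr` commute on the weight space -/
theorem Yr_comm {ρ : Representation K Γ V} {Q : Subgroup Γ} {χ : Γ → K} :
    ∀ y ∈ Yr ρ Q χ, ∀ y' ∈ Yr ρ Q χ, ∀ v ∈ wt ρ (Zc Q) χ, ρ y (ρ y' v) = ρ y' (ρ y v) := by
  intro y hy y' hy' v hv
  have h1 : y * y' = ⁅y, y'⁆ * (y' * y) := by
    rw [commutatorElement_def]; group
  have h2 : ρ (y' * y) v ∈ wt ρ (Zc Q) χ := wt_Zc_map (Q.mul_mem hy'.1 hy.1) hv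
  rw [← rho_mul_apply, h1, rho_mul_apply, (hy.2 y' hy'.1).2 _ h2, rho_mul_apply]

/-- a weight `χ` of `Z(Q)` on which `Q` acts nonabelianly, with stabiliser `⟨a ^ (p ^ m)⟩` -/
structure WT (ρ : Representation K Γ V) (p n : ℕ) (a : Γ) (Q : Subgroup Γ) (χ : Γ → K) (m : ℕ) :
    Prop where
  hv : ∃ v ∈ wt ρ (Zc Q) χ, v ≠ 0
  hs : ∃ s ∈ Q, ∃ t ∈ Q, χ ⁅s, t⁆ ≠ 1
  hm : m ≤ n
  hstab : a ^ (p ^ m) ∈ stab (Zc Q) χ
  hmin : ∀ e : ℕ, a ^ e ∈ stab (Zc Q) χ → p ^ m ∣ e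

namespace WT

variable {ρ : Representation K Γ V} {p n q : ℕ} {a : Γ} {Q : Subgroup Γ} {χ : Γ → K} {m : ℕ}

theorem mul (w : WT ρ p n a Q χ m) : ∀ z ∈ Zc Q, ∀ z' ∈ Zc Q, χ (z * z') = χ z * χ z' := by
  obtain ⟨v, hv, hv0⟩ := w.hv
  intro y₁ hy₁ y₂ hy₂
  have h1 : ρ (y₁ * y₂) v = (χ y₁ * χ y₂) • v := by
    rw [map_mul, Module.End.mul_apply, hv y₂ hy₂, map_smul, hv y₁ hy₁, smul_smul, mul_comm]
  rw [hv _ ((Zc Q).mul_mem hy₁ hy₂)] at h1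
  exact smul_left_injective K hv0 h1

theorem one (w : WT ρ p n a Q χ m) : χ 1 = 1 := by
  obtain ⟨v, hv, hv0⟩ := w.hv
  have h1 : ρ 1 v = (1 : K) • v := by rw [map_one, one_smul]; rfl
  rw [hv 1 (Zc Q).one_mem] at h1
  exact smul_left_injective K hv0 h1

theorem inv (w : WT ρ p n a Q χ m) : ∀ z ∈ Zc Q, χ z⁻¹ = (χ z)⁻¹ := by
  intro z hz
  have h1 := w.mul z hz z⁻¹ ((Zc Q).inv_mem hz)
  rw [mul_inv_cancel, w.one] at h1
  exact eq_inv_of_mul_eq_one_right h1.symm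

/-- an element of `Z(Q)` lies in `Kl` iff the weight is trivial on it -/
theorem mem_Kl_iff (w : WT ρ p n a Q χ m) {z : Γ} (hz : z ∈ Zc Q) : z ∈ Kl ρ Q χ ↔ χ z = 1 := by
  obtain ⟨v, hv, hv0⟩ := w.hv
  constructor
  · intro h
    have h1 := h.2 v hv
    rw [hv z hz] at h1
    have h2 : χ z • v = (1 : K) • v := by rw [h1, one_smul]
    exact smul_left_injective K hv0 h2
  · intro h
    refine ⟨Zc_le Q hz, ?_⟩
    intro u hu
    rw [hu z hz, h, one_smul]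

theorem Yr_ne (c : MC ρ p n q a Q) (w : WT ρ p n a Q χ m) : Yr ρ Q χ ≠ Q := by
  intro e
  obtain ⟨s, hs, t, ht, hst⟩ := w.hs
  have h1 : s ∈ Yr ρ Q χ := by rw [e]; exact hs
  have h2 := h1.2 t ht
  exact hst ((w.mem_Kl_iff (c.class2 s hs t ht)).mp h2)

theorem mem_Yr_iff (c : MC ρ p n q a Q) (w : WT ρ p n a Q χ m) {g : Γ} (hg : g ∈ Q) :
    g ∈ Yr ρ Q χ ↔ ∀ t ∈ Q, χ ⁅g, t⁆ = 1 := by
  constructor
  · intro h t ht
    exact (w.mem_Kl_iff (c.class2 g hg t ht)).mp (h.2 t ht)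
  · intro h
    refine ⟨hg, ?_⟩
    intro t ht
    exact (w.mem_Kl_iff (c.class2 g hg t ht)).mpr (h t ht)

end WT

namespace MC

variable {ρ : Representation K Γ V} {p n q : ℕ} {a : Γ} {Q : Subgroup Γ}

/-- existence of a weight on which `Q` acts nonabelianly -/
theorem exists_weight [IsAlgClosed K] [FiniteDimensional K V] (c : MC ρ p n q a Q) :
    ∃ χ : Γ → K, (∃ v ∈ wt ρ (Zc Q) χ, v ≠ 0) ∧ ∃ s ∈ Q, ∃ t ∈ Q, χ ⁅s, t⁆ ≠ 1 := by
  -- a nontrivial commutator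
  obtain ⟨s, hs, t, ht, hst⟩ : ∃ s ∈ Q, ∃ t ∈ Q, ⁅s, t⁆ ≠ 1 := by
    by_contra hcon
    push Not at hcon
    apply c.nonab
    apply le_antisymm (Zc_le Q)
    intro t ht
    rw [mem_Zc]
    refine ⟨ht, ?_⟩
    intro s hs
    exact commutatorElement_eq_one_iff_mul_comm.mp (hcon s hs t ht)
  have hcZ : ⁅s, t⁆ ∈ Zc Q := c.class2 s hs t ht
  by_contra hcon
  push Not at hcon
  apply hst
  apply c.sh.hfaith _ (Zc_le Q hcZ)
  apply LinearMap.ext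
  intro u
  have hdec := mem_iSup_wt ρ (Zc Q) ⊤ (fun z _ u _ => Submodule.mem_top)
    (fun z hz z' hz' u _ => by
      rw [← rho_mul_apply, ← rho_mul_apply, Zc_comm hz hz'])
    (c.sh.card_ne_zero (Zc_le Q)) u Submodule.mem_top
  have hle : (⨆ χ : Γ → K, (⊤ : Submodule K V) ⊓ wt ρ (Zc Q) χ) ≤ fixSp ρ ⁅s, t⁆ := by
    apply iSup_le
    rintro χ v ⟨-, hv⟩
    rw [mem_fixSp]
    by_cases hv0 : v = 0
    · rw [hv0, map_zero]
    have h1 := hcon χ ⟨v, hv, hv0⟩ s hs t ht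
    rw [hv _ hcZ, h1, one_smul]
  exact mem_fixSp.mp (hle hdec)

/-- existence of a weight package -/
theorem exists_WT [IsAlgClosed K] [FiniteDimensional K V] (c : MC ρ p n q a Q) :
    ∃ (χ : Γ → K) (m : ℕ), WT ρ p n a Q χ m := by
  classical
  obtain ⟨χ, hv, hs⟩ := c.exists_weight
  have hb : a ^ (p ^ n) ∈ stab (Zc Q) χ :=
    mem_stab_of_cent (fun z hz => (c.b_cent_Z z hz).symm) χ
  have hex : ∃ m : ℕ, a ^ (p ^ m) ∈ stab (Zc Q) χ := ⟨n, hb⟩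
  refine ⟨χ, Nat.find hex, hv, hs, Nat.find_min' hex hb, Nat.find_spec hex, ?_⟩
  intro e he
  rcases Nat.eq_zero_or_pos e with rfl | he0
  · exact dvd_zero _
  obtain ⟨t, e', he', rfl⟩ := Nat.exists_eq_pow_mul_and_not_dvd he0.ne' p c.sh.hp.ne_one
  obtain ⟨k, hk⟩ := exists_pow_eq_pp (t := t) c.sh.hp c.sh.han he'
  have h1 : a ^ (p ^ t) ∈ stab (Zc Q) χ := by
    rw [← hk]
    exact Subgroup.pow_mem _ he k
  have h2 : Nat.find hex ≤ t := Nat.find_min' hex h1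
  exact Dvd.dvd.mul_right (pow_dvd_pow p h2) e'

end MC

namespace WT

variable {ρ : Representation K Γ V} {p n q : ℕ} {a : Γ} {Q : Subgroup Γ} {χ : Γ → K} {m : ℕ}

theorem xpow (c : MC ρ p n q a Q) (w : WT ρ p n a Q χ m) :
    (a ^ (p ^ m)) ^ (p ^ (n + 1 - m)) = 1 := by
  rw [← pow_mul, ← pow_add]
  have : m + (n + 1 - m) = n + 1 := by have := w.hm; omega
  rw [this]
  exact c.sh.han

theorem xpow_pred (w : WT ρ p n a Q χ m) :
    (a ^ (p ^ m)) ^ (p ^ (n + 1 - m - 1)) = a ^ (p ^ n) := by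
  rw [← pow_mul, ← pow_add]
  have : m + (n + 1 - m - 1) = n := by have := w.hm; omega
  rw [this]

theorem apow_Z (c : MC ρ p n q a Q) (i : ℕ) : a ^ i ∈ normalizer ((Zc Q : Subgroup Γ) : Set Γ) :=
  mem_normalizer_of_conj_mem (conj_mem_Zc (c.sh.apow_Q i))

/-- the conjugates of the weight under `a ^ i`, `i < p ^ m`, are pairwise distinct -/
theorem distinct (c : MC ρ p n q a Q) (w : WT ρ p n a Q χ m) :
    ∀ i ∈ Finset.range (p ^ m), ∀ j ∈ Finset.range (p ^ m), i ≠ j →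
      ∃ z ∈ Zc Q, cj (a ^ i) χ z ≠ cj (a ^ j) χ z := by
  have key : ∀ i j : ℕ, i < j → j < p ^ m → ∃ z ∈ Zc Q, cj (a ^ i) χ z ≠ cj (a ^ j) χ z := by
    intro i j hij hj
    by_contra hcon
    push Not at hcon
    obtain ⟨k, rfl⟩ := Nat.exists_eq_add_of_lt hij
    have h1 : a ^ (k + 1) ∈ stab (Zc Q) χ :=
      pow_mem_stab_of_cj_eq (apow_Z c) (j := i) (k := k + 1)
        (fun z hz => by rw [← add_assoc]; exact (hcon z hz).symm)
    have h2 := Nat.le_of_dvd (Nat.succ_pos k) (w.hmin _ h1)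
    omega
  intro i hi j hj hij
  rw [Finset.mem_range] at hi hj
  rcases lt_or_gt_of_ne hij with h | h
  · exact key i j h hj
  · obtain ⟨z, hz, hne⟩ := key j i h hi
    exact ⟨z, hz, hne.symm⟩

/-- `a ^ (p ^ m)` has no fixed vector on the weight space -/
theorem fix (c : MC ρ p n q a Q) (w : WT ρ p n a Q χ m) :
    ∀ v ∈ wt ρ (Zc Q) χ, ρ (a ^ (p ^ m)) v = v → v = 0 := by
  classical
  intro v hv hxv
  have hsum : ρ a (∑ j ∈ Finset.range (p ^ m), ρ (a ^ j) v) =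
      ∑ j ∈ Finset.range (p ^ m), ρ (a ^ j) v := by
    rw [map_sum]
    have h1 : ∀ j ∈ Finset.range (p ^ m), ρ a (ρ (a ^ j) v) = ρ (a ^ (j + 1)) v := by
      intro j _
      rw [pow_succ', map_mul]; rfl
    rw [Finset.sum_congr rfl h1]
    exact sum_range_shift (fun j => ρ (a ^ j) v) (p ^ m)
      (by simp only [hxv, pow_zero, map_one, Module.End.one_apply])
  have h0 := c.sh.hfV _ hsum
  have h3 := wt_indep ρ (Zc Q) (Finset.range (p ^ m)) (fun j => cj (a ^ j) χ) (w.distinct c)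
    (fun j => ρ (a ^ j) v) (fun j _ => map_wt (apow_Z c j) hv) h0 0
    (Finset.mem_range.mpr (pow_pos c.sh.hp.pos m))
  simpa only [pow_zero, map_one, Module.End.one_apply] using h3

/-- elements of the stabiliser normalising `Q` normalise `Kl` and `Yr` -/
theorem conj_Kl (_w : WT ρ p n a Q χ m) {g : Γ} (hgQ : g ∈ normalizer (Q : Set Γ))
    (hg : g ∈ stab (Zc Q) χ) : g ∈ normalizer ((Kl ρ Q χ : Subgroup Γ) : Set Γ) :=
  mem_normalizer_kerX hgQ (fun _ hv => map_wt_of_mem_stab hg hv)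
    (fun _ hv => map_wt_of_mem_stab (Subgroup.inv_mem _ hg) hv)

theorem conj_Yr (w : WT ρ p n a Q χ m) {g : Γ} (hgQ : g ∈ normalizer (Q : Set Γ))
    (hg : g ∈ stab (Zc Q) χ) : g ∈ normalizer ((Yr ρ Q χ : Subgroup Γ) : Set Γ) :=
  mem_normalizer_upperZ _ hgQ (w.conj_Kl hgQ hg)

/-- `[Yr, b]` acts trivially on the weight space -/
theorem Yr_b [IsAlgClosed K] [FiniteDimensional K V] (c : MC ρ p n q a Q)
    (w : WT ρ p n a Q χ m) : ∀ y ∈ Yr ρ Q χ, ⁅y, a ^ (p ^ n)⁆ ∈ Kl ρ Q χ := by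
  intro y hy
  have hxQ : a ^ (p ^ m) ∈ normalizer (Q : Set Γ) := mem_normalizer_of_conj_mem (c.sh.apow_Q _)
  have h1 := sab ρ (wt ρ (Zc Q) χ) (a ^ (p ^ m)) (s := n + 1 - m) c.sh.hp (w.xpow c)
    (fun u hu => map_wt_of_mem_stab w.hstab hu) (Yr ρ Q χ) (w.conj_Yr hxQ w.hstab)
    (fun y hy u hu => wt_Zc_map hy.1 hu) Yr_comm (c.sh.card_ne_zero (Yr_le ρ Q χ)) (w.fix c)
    y hy
  rw [w.xpow_pred] at h1
  refine ⟨?_, h1⟩
  have e' : ⁅y, a ^ (p ^ n)⁆ = y * (a ^ (p ^ n) * y⁻¹ * (a ^ (p ^ n))⁻¹) := by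
    rw [commutatorElement_def]; group
  rw [e']
  exact Q.mul_mem hy.1 (c.sh.bQ _ (Q.inv_mem hy.1))

/-- `Yr = Z(Q) Kl` -/
theorem Yr_decomp [IsAlgClosed K] [FiniteDimensional K V] (c : MC ρ p n q a Q)
    (w : WT ρ p n a Q χ m) : ∀ y ∈ Yr ρ Q χ, ∃ z ∈ Zc Q, ∃ k ∈ Kl ρ Q χ, y = z * k := by
  intro y hy
  have hbQ : a ^ (p ^ n) ∈ normalizer (Q : Set Γ) := mem_normalizer_of_conj_mem c.sh.bQ
  have hbst : a ^ (p ^ n) ∈ stab (Zc Q) χ :=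
    mem_stab_of_cent (fun z hz => (c.b_cent_Z z hz).symm) χ
  have hbK := w.conj_Kl hbQ hbst
  have h1 : y⁻¹ * (a ^ (p ^ n) * y * (a ^ (p ^ n))⁻¹) ∈ Kl ρ Q χ := by
    have := w.Yr_b c y⁻¹ ((Yr ρ Q χ).inv_mem hy)
    have e : y⁻¹ * (a ^ (p ^ n) * y * (a ^ (p ^ n))⁻¹) = ⁅y⁻¹, a ^ (p ^ n)⁆ := by
      rw [commutatorElement_def]; group
    rw [e]; exact this
  have hbp : (a ^ (p ^ n)) ^ (p ^ 1) = 1 := by rw [pow_one]; exact c.sh.bp
  obtain ⟨k, hk, hck⟩ := lift_of_pow hbp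
    (fun l hl => conj_mem_of_mem_normalizer hbK hl) (c.sh.cop (Kl_le ρ Q χ) 1) h1
  have h2 := c.cent_le_Z _ (Q.mul_mem hy.1 (Kl_le ρ Q χ hk)) hck
  exact ⟨y * k, h2, k⁻¹, (Kl ρ Q χ).inv_mem hk, by group⟩

/-- `Yr` acts by scalars on the weight space -/
theorem Yr_scalar [IsAlgClosed K] [FiniteDimensional K V] (c : MC ρ p n q a Q)
    (w : WT ρ p n a Q χ m) : ∀ y ∈ Yr ρ Q χ, ∃ d : K, ∀ v ∈ wt ρ (Zc Q) χ, ρ y v = d • v := by
  intro y hy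
  obtain ⟨z, hz, k, hk, rfl⟩ := w.Yr_decomp c y hy
  refine ⟨χ z, ?_⟩
  intro v hv
  rw [rho_mul_apply, hk.2 v hv, hv z hz]

end WT

end Cfsg.Agent.Lib.Helper23.SG
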