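import Mathlib

/-!
# helper23: Shult–Gross, part 4a: homogeneity of modules of Heisenberg type

Let `Q` be a finite group of class at most two acting on `V` such that the preimage `Z` of the
centre of the image acts by scalars.  Then any two nonzero `Q`-invariant subspaces of `V` are
linked by a nonzero `Q`-endomorphism of `V`.
-/

set_option autoImplicit false
set_option linter.unusedSectionVars false
set_option linter.style.haveILetI false

namespace Cfsg.Agent.Lib.Helper23.SG

open Module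
open scoped commutatorElement

section Heis

variable {K : Type*} [Field K] {Q : Type*} [Group Q] [Finite Q]
  {V : Type*} [AddCommGroup V] [Module K V] [Nontrivial V]

theorem heis_link (R : Representation K Q V)
    (hcl : ∀ s t u : Q, ⁅s, t⁆ * u = u * ⁅s, t⁆)
    (hQK : (Nat.card Q : K) ≠ 0)
    (Z : Subgroup Q) (hZ : ∀ s, s ∈ Z ↔ ∀ t : Q, R s * R t = R t * R s)
    (hZsc : ∀ z ∈ Z, ∃ c : K, R z = c • 1)
    (W₁ W₂ : Submodule K V) (hW₁ : W₁ ≠ ⊥) (hW₂ : W₂ ≠ ⊥)
    (hW₁inv : ∀ s : Q, ∀ w ∈ W₁, R s w ∈ W₁) (hW₂inv : ∀ s : Q, ∀ w ∈ W₂, R s w ∈ W₂) :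
    ∃ T : Module.End K V, (∀ s : Q, T * R s = R s * T) ∧ (∀ v, T v ∈ W₂) ∧
      ∃ w ∈ W₁, T w ≠ 0 := by
  classical
  have : Fintype Q := Fintype.ofFinite Q
  have hinj : ∀ a b : K, a • (1 : Module.End K V) = b • 1 → a = b := by
    intro a b h
    exact smul_left_injective K (one_ne_zero (α := Module.End K V)) h
  have hRinv : ∀ g : Q, R g * R g⁻¹ = 1 := fun g => by rw [← map_mul, mul_inv_cancel, map_one]
  have hRinv' : ∀ g : Q, R g⁻¹ * R g = 1 := fun g => by rw [← map_mul, inv_mul_cancel, map_one]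
  have hRne : ∀ g : Q, R g ≠ 0 := by
    intro g h
    have := hRinv g
    rw [h, zero_mul] at this
    exact zero_ne_one this
  -- the commutator pairing
  have hcZ : ∀ s t : Q, ⁅s, t⁆ ∈ Z := by
    intro s t
    rw [hZ]
    intro u
    rw [← map_mul, ← map_mul, hcl]
  have hsc : ∀ s t : Q, ∃ c : K, R ⁅s, t⁆ = c • 1 := fun s t => hZsc _ (hcZ s t)
  choose χ hχ using hsc
  have hcomm : ∀ s t : Q, R s * R t = χ s t • (R t * R s) := by
    intro s t
    have h1 : s * t = ⁅s, t⁆ * (t * s) := by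
      rw [commutatorElement_def]; group
    rw [← map_mul, h1, map_mul, hχ, smul_mul_assoc, one_mul, map_mul]
  have hmulL : ∀ s u t : Q, χ (s * u) t = χ s t * χ u t := by
    intro s u t
    apply hinj
    have h1 : ⁅s * u, t⁆ = ⁅u, t⁆ * ⁅s, t⁆ := by
      have h2 : ⁅s * u, t⁆ = s * ⁅u, t⁆ * s⁻¹ * ⁅s, t⁆ := by
        simp only [commutatorElement_def]; group
      rw [h2, ← hcl u t s, mul_inv_cancel_right]
    rw [← hχ, h1, map_mul, hχ, hχ, smul_mul_smul_comm, one_mul, mul_comm]
  have hZχ : ∀ z ∈ Z, ∀ y : Q, χ y z = 1 := by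
    intro z hz y
    have h1 : R y * R z = χ y z • (R y * R z) := by
      calc R y * R z = χ y z • (R z * R y) := hcomm y z
        _ = χ y z • (R y * R z) := by rw [(hZ z).mp hz y]
    have h2 : (χ y z - 1) • (R y * R z) = 0 := by
      rw [sub_smul, one_smul, ← h1, sub_self]
    rcases smul_eq_zero.mp h2 with h3 | h3
    · exact sub_eq_zero.mp h3
    · rw [← map_mul] at h3
      exact absurd h3 (hRne _)
  have hnZχ : ∀ w : Q, w ∉ Z → ∃ y : Q, χ y w ≠ 1 := by
    intro w hw
    rw [hZ] at hw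
    push Not at hw
    obtain ⟨t, ht⟩ := hw
    refine ⟨t, fun h => ht ?_⟩
    rw [hcomm t w, h, one_smul]
  have hsum0 : ∀ w : Q, w ∉ Z → ∑ y : Q, χ y w = 0 := by
    intro w hw
    obtain ⟨y₀, hy₀⟩ := hnZχ w hw
    have h1 : ∑ y : Q, χ y w = ∑ y : Q, χ (y₀ * y) w :=
      (Equiv.sum_comp (Equiv.mulLeft y₀) (fun y => χ y w)).symm
    have h2 : ∑ y : Q, χ (y₀ * y) w = χ y₀ w * ∑ y : Q, χ y w := by
      rw [Finset.mul_sum]
      apply Finset.sum_congr rfl
      intro y _
      rw [hmulL]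
    rw [h2] at h1
    have h3 : (1 - χ y₀ w) * ∑ y : Q, χ y w = 0 := by
      rw [sub_mul, one_mul, ← h1, sub_self]
    rcases mul_eq_zero.mp h3 with h4 | h4
    · exact absurd (sub_eq_zero.mp h4).symm hy₀
    · exact h4
  -- the averaging operators
  let T : Q → Module.End K V → Module.End K V := fun y X => ∑ t : Q, R t * X * R y * R t⁻¹
  have hTcomm : ∀ (y : Q) (X : Module.End K V) (s : Q), T y X * R s = R s * T y X := by
    intro y X s
    have h1 : R s * T y X * R s⁻¹ = T y X := by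
      show R s * (∑ t : Q, R t * X * R y * R t⁻¹) * R s⁻¹ = ∑ t : Q, R t * X * R y * R t⁻¹
      rw [Finset.mul_sum, Finset.sum_mul]
      have h2 : ∀ t : Q, R s * (R t * X * R y * R t⁻¹) * R s⁻¹ =
          R (s * t) * X * R y * R (s * t)⁻¹ := by
        intro t
        rw [mul_inv_rev, map_mul, map_mul]
        simp only [mul_assoc]
      rw [Finset.sum_congr rfl (fun t _ => h2 t)]
      exact Equiv.sum_comp (Equiv.mulLeft s) (fun t => R t * X * R y * R t⁻¹)
    calc T y X * R s = (R s * T y X * R s⁻¹) * R s := by rw [h1]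
      _ = R s * T y X := by rw [mul_assoc, hRinv', mul_one]
  have hkey : ∀ (y t : Q), R y * R t⁻¹ * R y⁻¹ = χ y t⁻¹ • R t⁻¹ := by
    intro y t
    rw [hcomm y t⁻¹, smul_mul_assoc, mul_assoc, hRinv, mul_one]
  have hTsum : ∀ X : Module.End K V, ∑ y : Q, T y X * R y⁻¹ =
      ((Nat.card Q : K) * (Nat.card Z : K)) • X := by
    intro X
    have h1 : ∑ y : Q, T y X * R y⁻¹ = ∑ t : Q, (∑ y : Q, χ y t⁻¹) • (R t * X * R t⁻¹) := by
      have h2 : ∀ y : Q, T y X * R y⁻¹ = ∑ t : Q, χ y t⁻¹ • (R t * X * R t⁻¹) := by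
        intro y
        show (∑ t : Q, R t * X * R y * R t⁻¹) * R y⁻¹ = _
        rw [Finset.sum_mul]
        apply Finset.sum_congr rfl
        intro t _
        calc R t * X * R y * R t⁻¹ * R y⁻¹ = R t * X * (R y * R t⁻¹ * R y⁻¹) := by
              simp only [mul_assoc]
          _ = χ y t⁻¹ • (R t * X * R t⁻¹) := by rw [hkey, mul_smul_comm]
      rw [Finset.sum_congr rfl (fun y _ => h2 y), Finset.sum_comm]
      apply Finset.sum_congr rfl
      intro t _
      rw [Finset.sum_smul]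
    rw [h1]
    have h2 : ∀ t : Q, (∑ y : Q, χ y t⁻¹) • (R t * X * R t⁻¹)
        = if t ∈ Z then (Nat.card Q : K) • X else 0 := by
      intro t
      by_cases ht : t ∈ Z
      · rw [if_pos ht]
        have h3 : ∑ y : Q, χ y t⁻¹ = (Nat.card Q : K) := by
          rw [Finset.sum_congr rfl (fun y _ => hZχ t⁻¹ (Z.inv_mem ht) y)]
          rw [Finset.sum_const, Finset.card_univ, Nat.card_eq_fintype_card, nsmul_eq_mul, mul_one]
        obtain ⟨c, hc⟩ := hZsc t ht
        have h4 : R t * X * R t⁻¹ = X := by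
          have : R t * X = X * R t := by
            rw [hc, smul_mul_assoc, one_mul, mul_smul_comm, mul_one]
          rw [this, mul_assoc, hRinv, mul_one]
        rw [h3, h4]
      · rw [if_neg ht]
        have ht' : t⁻¹ ∉ Z := fun h => ht (by simpa using Z.inv_mem h)
        rw [hsum0 _ ht', zero_smul]
    rw [Finset.sum_congr rfl (fun t _ => h2 t), ← Finset.sum_filter, Finset.sum_const, mul_comm,
      mul_smul]
    rw [Nat.card_eq_fintype_card (α := ↥Z), Fintype.card_subtype]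
    rw [← Nat.cast_smul_eq_nsmul K]
  have hZK : (Nat.card Z : K) ≠ 0 := by
    intro h
    apply hQK
    rw [Subgroup.card_eq_card_quotient_mul_card_subgroup Z, Nat.cast_mul, h, mul_zero]
  -- the rank one map
  obtain ⟨w₁, hw₁, hw₁0⟩ := (Submodule.ne_bot_iff W₁).mp hW₁
  obtain ⟨w₂, hw₂, hw₂0⟩ := (Submodule.ne_bot_iff W₂).mp hW₂
  obtain ⟨φ, hφ⟩ : ∃ φ : Module.Dual K V, φ w₁ ≠ 0 := by
    by_contra hcon
    push Not at hcon
    exact hw₁0 ((Module.forall_dual_apply_eq_zero_iff K w₁).mp hcon)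
  set X : Module.End K V := LinearMap.smulRight φ w₂ with hX
  have hXapp : ∀ v, X v = φ v • w₂ := fun v => LinearMap.smulRight_apply φ w₂ v
  have hTW₂ : ∀ (y : Q) (v : V), T y X v ∈ W₂ := by
    intro y v
    show (∑ t : Q, R t * X * R y * R t⁻¹) v ∈ W₂
    rw [LinearMap.sum_apply]
    apply Submodule.sum_mem
    intro t _
    simp only [Module.End.mul_apply]
    apply hW₂inv
    rw [hXapp]
    exact W₂.smul_mem _ hw₂
  by_contra hcon
  push Not at hcon
  have h5 : ∀ y : Q, T y X (R y⁻¹ w₁) = 0 := by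
    intro y
    exact hcon (T y X) (hTcomm y X) (hTW₂ y) _ (hW₁inv _ _ hw₁)
  have h6 := congrArg (fun f : Module.End K V => f w₁) (hTsum X)
  simp only [LinearMap.sum_apply, Module.End.mul_apply, LinearMap.smul_apply] at h6
  rw [Finset.sum_congr rfl (fun y _ => h5 y), Finset.sum_const_zero, hXapp] at h6
  rcases smul_eq_zero.mp h6.symm with h7 | h7
  · exact (mul_ne_zero hQK hZK) h7
  · rcases smul_eq_zero.mp h7 with h8 | h8
    · exact hφ h8
    · exact hw₂0 h8

end Heis

end Cfsg.Agent.Lib.Helper23.SG
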