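import Mathlib
import Cfsg.Agent.Lib.Helper23.SG4a
import Cfsg.Agent.Lib.Helper17.ESMod5

/-!
# helper23: Shult–Gross, part 4b: an irreducible module of `Q⟨x⟩` of Heisenberg type is irreducible
for `Q`
-/

set_option autoImplicit false
set_option linter.unusedSectionVars false
set_option linter.style.haveILetI false

namespace Cfsg.Agent.Lib.Helper23.SG

open Module
open Cfsg.Agent.Lib.Helper17.ESMod (inv_of_gen schur exists_min_invariant)
open scoped commutatorElement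

section Irr

variable {K : Type*} [Field K] [IsAlgClosed K] {Γ : Type*} [Group Γ] [Finite Γ]
  {V : Type*} [AddCommGroup V] [Module K V] [FiniteDimensional K V] [Nontrivial V]

/-- `V` is irreducible for `Q` -/
theorem irr_Q (ρ : Representation K Γ V) (Q : Subgroup Γ) [hQn : Q.Normal] (x : Γ)
    (hgen : ∀ g : Γ, ∃ s ∈ Q, ∃ j : ℕ, g = s * x ^ j)
    (hirr : ∀ U : Submodule K V, (∀ g : Γ, ∀ u ∈ U, ρ g u ∈ U) → U = ⊥ ∨ U = ⊤)
    (hcl : ∀ s ∈ Q, ∀ t ∈ Q, ∀ u ∈ Q, ⁅s, t⁆ * u = u * ⁅s, t⁆)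
    (hQK : (Nat.card Q : K) ≠ 0)
    (Z : Subgroup Γ) (hZ : ∀ g, g ∈ Z ↔ g ∈ Q ∧ ∀ t ∈ Q, ρ g * ρ t = ρ t * ρ g)
    (hZsc : ∀ z ∈ Z, ∃ c : K, ρ z = c • 1) :
    ∀ U : Submodule K V, (∀ s ∈ Q, ∀ u ∈ U, ρ s u ∈ U) → U = ⊥ ∨ U = ⊤ := by
  classical
  let R : Representation K ↥Q V := ρ.comp Q.subtype
  have hR : ∀ s : ↥Q, R s = ρ (s : Γ) := fun s => rfl
  have hlink := heis_link R
    (fun s t u => by
      apply Subtype.ext
      have := hcl s s.2 t t.2 u u.2
      simpa [commutatorElement_def] using this)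
    hQK (Z.subgroupOf Q)
    (fun s => by
      rw [Subgroup.mem_subgroupOf, hZ]
      constructor
      · intro h t
        exact h.2 t t.2
      · intro h
        exact ⟨s.2, fun t ht => h ⟨t, ht⟩⟩)
    (fun z hz => hZsc z (Subgroup.mem_subgroupOf.mp hz))
  have hinvr : ∀ g : Γ, ρ g * ρ g⁻¹ = 1 := fun g => by rw [← map_mul, mul_inv_cancel, map_one]
  have hinvl : ∀ g : Γ, ρ g⁻¹ * ρ g = 1 := fun g => by rw [← map_mul, inv_mul_cancel, map_one]
  obtain ⟨W, -, hW0, hWinv, hWmin⟩ := exists_min_invariant R ⊤ top_ne_bot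
    (fun _ _ _ => Submodule.mem_top)
  -- the translate of `W`
  set xW : Submodule K V := W.map (ρ x) with hxW
  have hxW0 : xW ≠ ⊥ := by
    obtain ⟨w, hw, hw0⟩ := (Submodule.ne_bot_iff W).mp hW0
    rw [Submodule.ne_bot_iff]
    refine ⟨ρ x w, Submodule.mem_map_of_mem hw, ?_⟩
    intro h
    apply hw0
    have := congrArg (ρ x⁻¹) h
    rw [← Module.End.mul_apply, hinvl, map_zero] at this
    exact this
  have hxWinv : ∀ s : ↥Q, ∀ w ∈ xW, R s w ∈ xW := by
    rintro s _ ⟨w, hw, rfl⟩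
    have hs' : x⁻¹ * (s : Γ) * x ∈ Q := by
      have := hQn.conj_mem s s.2 x⁻¹
      simpa using this
    have e : (s : Γ) * x = x * (x⁻¹ * (s : Γ) * x) := by group
    rw [hR, ← Module.End.mul_apply, ← map_mul, e, map_mul, Module.End.mul_apply]
    exact Submodule.mem_map_of_mem (hWinv ⟨_, hs'⟩ w hw)
  obtain ⟨T₁, hT₁c, hT₁W, w', hw', hT₁w'⟩ := hlink xW W hxW0 hW0 hxWinv hWinv
  obtain ⟨w₀, hw₀, rfl⟩ := hw'
  -- the twisted operator
  set S : Module.End K V := T₁ * ρ x with hS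
  have hSW : ∀ v, S v ∈ W := fun v => hT₁W _
  have hStw : ∀ s ∈ Q, S * ρ s = ρ (x * s * x⁻¹) * S := by
    intro s hs
    have hs' : x * s * x⁻¹ ∈ Q := hQn.conj_mem s hs x
    have e : ρ x * ρ s = ρ (x * s * x⁻¹) * ρ x := by
      rw [← map_mul, ← map_mul]
      congr 1
      group
    have h2 := hT₁c ⟨_, hs'⟩
    rw [hR] at h2
    rw [hS, mul_assoc, e, ← mul_assoc, h2, mul_assoc]
  have hSinj : ∀ w ∈ W, S w = 0 → w = 0 := by
    set N : Submodule K V := W ⊓ LinearMap.ker S with hN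
    have hNinv : ∀ s : ↥Q, ∀ w ∈ N, R s w ∈ N := by
      intro s w hw
      obtain ⟨hwW, hwS⟩ := Submodule.mem_inf.mp hw
      refine Submodule.mem_inf.mpr ⟨hWinv s w hwW, ?_⟩
      rw [LinearMap.mem_ker] at hwS ⊢
      rw [hR, ← Module.End.mul_apply, hStw _ s.2, Module.End.mul_apply, hwS, map_zero]
    rcases hWmin N inf_le_left hNinv with h | h
    · intro w hw hSw
      have : w ∈ N := Submodule.mem_inf.mpr ⟨hw, LinearMap.mem_ker.mpr hSw⟩
      rw [h, Submodule.mem_bot] at this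
      exact this
    · exfalso
      apply hT₁w'
      have : w₀ ∈ N := by rw [h]; exact hw₀
      exact LinearMap.mem_ker.mp (Submodule.mem_inf.mp this).2
  -- the space of `Q`-endomorphisms with image in `W`
  let U' : Submodule K (Module.End K V) :=
    { carrier := {T | (∀ s ∈ Q, T * ρ s = ρ s * T) ∧ ∀ v, T v ∈ W}
      add_mem' := by
        rintro A B ⟨hA1, hA2⟩ ⟨hB1, hB2⟩
        refine ⟨fun s hs => by rw [add_mul, mul_add, hA1 s hs, hB1 s hs], fun v => ?_⟩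
        rw [LinearMap.add_apply]
        exact W.add_mem (hA2 v) (hB2 v)
      zero_mem' := ⟨fun s _ => by simp, fun v => by simp⟩
      smul_mem' := by
        rintro c A ⟨hA1, hA2⟩
        refine ⟨fun s hs => by rw [smul_mul_assoc, mul_smul_comm, hA1 s hs], fun v => ?_⟩
        rw [LinearMap.smul_apply]
        exact W.smul_mem _ (hA2 v) }
  have hT₁U : T₁ ∈ U' := ⟨fun s hs => hT₁c ⟨s, hs⟩, hT₁W⟩
  have hT₁0 : T₁ ≠ 0 := by
    intro h
    apply hT₁w'
    rw [h, LinearMap.zero_apply]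
  let Φ : Module.End K V →ₗ[K] Module.End K V :=
    (LinearMap.mulLeft K S) ∘ₗ (LinearMap.mulRight K (ρ x⁻¹))
  have hΦ : ∀ T, Φ T = S * (T * ρ x⁻¹) := fun T => rfl
  have hΦU : ∀ T ∈ U', Φ T ∈ U' := by
    rintro T ⟨hT1, hT2⟩
    refine ⟨?_, fun v => ?_⟩
    · intro s hs
      have hs' : x⁻¹ * s * x ∈ Q := by
        have := hQn.conj_mem s hs x⁻¹
        simpa using this
      have e1 : ρ x⁻¹ * ρ s = ρ (x⁻¹ * s * x) * ρ x⁻¹ := by
        rw [← map_mul, ← map_mul]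
        congr 1
        group
      have e2 : x * (x⁻¹ * s * x) * x⁻¹ = s := by group
      rw [hΦ]
      calc S * (T * ρ x⁻¹) * ρ s = S * (T * (ρ x⁻¹ * ρ s)) := by simp only [mul_assoc]
        _ = S * (T * (ρ (x⁻¹ * s * x) * ρ x⁻¹)) := by rw [e1]
        _ = S * ((T * ρ (x⁻¹ * s * x)) * ρ x⁻¹) := by simp only [mul_assoc]
        _ = S * ((ρ (x⁻¹ * s * x) * T) * ρ x⁻¹) := by rw [hT1 _ hs']
        _ = (S * ρ (x⁻¹ * s * x)) * (T * ρ x⁻¹) := by simp only [mul_assoc]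
        _ = ρ s * (S * (T * ρ x⁻¹)) := by rw [hStw _ hs', e2, mul_assoc]
    · rw [hΦ, Module.End.mul_apply]
      exact hSW _
  have hnt : Nontrivial ↥U' := ⟨⟨⟨T₁, hT₁U⟩, 0, fun h => hT₁0 (congrArg Subtype.val h)⟩⟩
  obtain ⟨ω, hω⟩ := Module.End.exists_eigenvalue (Φ.restrict hΦU)
  obtain ⟨⟨T, hTU⟩, hTev⟩ := hω.exists_hasEigenvector
  have hT0 : T ≠ 0 := fun h => hTev.2 (Subtype.ext h)
  have hTeq : S * (T * ρ x⁻¹) = ω • T := by
    have := Module.End.mem_eigenspace_iff.mp hTev.1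
    have h2 := congrArg Subtype.val this
    rw [LinearMap.coe_restrict_apply] at h2
    exact h2
  have hω0 : ω ≠ 0 := by
    rintro rfl
    rw [zero_smul] at hTeq
    apply hT0
    apply LinearMap.ext
    intro v
    rw [LinearMap.zero_apply]
    apply hSinj _ (hTU.2 v)
    have h1 := congrArg (fun f : Module.End K V => f (ρ x v)) hTeq
    simp only [Module.End.mul_apply, LinearMap.zero_apply] at h1
    rw [← Module.End.mul_apply (ρ x⁻¹), hinvl, Module.End.one_apply] at h1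
    exact h1
  -- the kernel of `T` is invariant
  have hker : ∀ g : Γ, ∀ u ∈ LinearMap.ker T, ρ g u ∈ LinearMap.ker T := by
    apply inv_of_gen ρ Q x hgen
    · intro s hs u hu
      rw [LinearMap.mem_ker] at hu ⊢
      rw [← Module.End.mul_apply, hTU.1 s hs, Module.End.mul_apply, hu, map_zero]
    · intro u hu
      rw [LinearMap.mem_ker] at hu ⊢
      have h1 := congrArg (fun f : Module.End K V => f (ρ x u)) hTeq
      simp only [Module.End.mul_apply, LinearMap.smul_apply] at h1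
      rw [← Module.End.mul_apply (ρ x⁻¹), hinvl, Module.End.one_apply, hu, map_zero] at h1
      rcases smul_eq_zero.mp h1.symm with h2 | h2
      · exact absurd h2 hω0
      · exact h2
  have hkerbot : LinearMap.ker T = ⊥ := by
    rcases hirr _ hker with h | h
    · exact h
    · exact absurd (LinearMap.ker_eq_top.mp h) hT0
  have hWtop : W = ⊤ := by
    apply Submodule.eq_top_of_finrank_eq
    apply le_antisymm (Submodule.finrank_le W)
    let T' : V →ₗ[K] ↥W := T.codRestrict W hTU.2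
    have hT'inj : Function.Injective T' := by
      rw [← LinearMap.ker_eq_bot, LinearMap.ker_codRestrict]
      exact hkerbot
    exact LinearMap.finrank_le_finrank_of_injective hT'inj
  intro U hU
  rcases hWmin U (by rw [hWtop]; exact le_top) (fun s u hu => hU s s.2 u hu) with h | h
  · exact Or.inl h
  · exact Or.inr (h.trans hWtop)

/-- `End_Q(V) = K` -/
theorem endQ_scalar_pp (ρ : Representation K Γ V) (Q : Subgroup Γ) [hQn : Q.Normal] (x : Γ)
    (hgen : ∀ g : Γ, ∃ s ∈ Q, ∃ j : ℕ, g = s * x ^ j)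
    (hirr : ∀ U : Submodule K V, (∀ g : Γ, ∀ u ∈ U, ρ g u ∈ U) → U = ⊥ ∨ U = ⊤)
    (hcl : ∀ s ∈ Q, ∀ t ∈ Q, ∀ u ∈ Q, ⁅s, t⁆ * u = u * ⁅s, t⁆)
    (hQK : (Nat.card Q : K) ≠ 0)
    (Z : Subgroup Γ) (hZ : ∀ g, g ∈ Z ↔ g ∈ Q ∧ ∀ t ∈ Q, ρ g * ρ t = ρ t * ρ g)
    (hZsc : ∀ z ∈ Z, ∃ c : K, ρ z = c • 1) :
    ∀ b : Module.End K V, (∀ s ∈ Q, b * ρ s = ρ s * b) → ∃ c : K, b = c • 1 := by
  intro b hb
  have h1 := irr_Q ρ Q x hgen hirr hcl hQK Z hZ hZsc
  let R : Representation K ↥Q V := ρ.comp Q.subtype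
  exact schur R (fun U hU => h1 U (fun s hs u hu => hU ⟨s, hs⟩ u hu)) b (fun s => hb s s.2)

end Irr

end Cfsg.Agent.Lib.Helper23.SG
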