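import Mathlib
import Cfsg.Agent.Lib.Helper23.SG3
import Cfsg.Agent.Lib.Helper23.SG4c
import Cfsg.Agent.Lib.Helper17.ESMod7

/-!
# helper23: Shult–Gross, part 5: the index of `Yr` in `Q`
-/

set_option autoImplicit false
set_option linter.unusedSectionVars false
set_option linter.style.haveILetI false

namespace Cfsg.Agent.Lib.Helper23.SG

open Module Subgroup
open Cfsg.Agent.Lib.Helper23.Ward
open Cfsg.Agent.Lib.Helper23.PQ (conj_mem_commutator mem_stab_of_cent)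
open Cfsg.Agent.Lib.Helper23.PQ.MinCE (Zc mem_Zc Zc_le conj_mem_Zc Zc_comm)
open Cfsg.Agent.Lib.Helper23.S3 (rho_mul_apply mem_normalizer_of_conj_mem conj_inv_mem_of_finite
  lift_of_pow)
open Cfsg.Agent.Lib.Helper17.ESMod (subRep subRep_coe exists_min_invariant subRep_irr
  sup_zpowers_gen normal_subgroupOf_sup)
open scoped commutatorElement

universe u

variable {K : Type*} [Field K] {Γ : Type*} [Group Γ] [Finite Γ] {V : Type u} [AddCommGroup V]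
  [Module K V]

namespace WT

variable {ρ : Representation K Γ V} {p n q : ℕ} {a : Γ} {Q : Subgroup Γ} {χ : Γ → K} {m : ℕ}

/-- `Yr` is normal in `Q` -/
theorem Yr_conj (c : MC ρ p n q a Q) : ∀ f ∈ Q, ∀ y ∈ Yr ρ Q χ, f⁻¹ * y * f ∈ Yr ρ Q χ := by
  intro f hf y hy
  have e : f⁻¹ * y * f = y * ⁅y⁻¹, f⁻¹⁆ := by
    rw [commutatorElement_def]; group
  rw [e]
  exact (Yr ρ Q χ).mul_mem hy
    (Zc_le_Yr ρ Q χ (c.class2 _ (Q.inv_mem hy.1) _ (Q.inv_mem hf)))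

/-- **the index of `Yr`** -/
theorem card_eq [IsAlgClosed K] [FiniteDimensional K V] (c : MC ρ p n q a Q)
    (w : WT ρ p n a Q χ m) :
    Nat.card Q = (p ^ (n + 1 - m) - 1) ^ 2 * Nat.card (Yr ρ Q χ) := by
  classical
  set x := a ^ (p ^ m) with hxdef
  set s := n + 1 - m with hsdef
  have hR : 0 < p ^ s := pow_pos c.sh.hp.pos s
  have hx : x ^ (p ^ s) = 1 := w.xpow c
  have hxn : ∀ t ∈ Q, x * t * x⁻¹ ∈ Q := c.sh.apow_Q _
  have hxQ : x ∈ normalizer (Q : Set Γ) := mem_normalizer_of_conj_mem hxn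
  set Γ₂ : Subgroup Γ := Q ⊔ zpowers x with hΓ₂
  have hQΓ₂ : Q ≤ Γ₂ := le_sup_left
  have hxΓ₂ : x ∈ Γ₂ := (le_sup_right : zpowers x ≤ Γ₂) (mem_zpowers x)
  have hgenΓ := sup_zpowers_gen Q x hR hx hxn
  have hnorm : (Q.subgroupOf Γ₂).Normal := normal_subgroupOf_sup Q x hR hx hxn
  set Vl : Submodule K V := wt ρ (Zc Q) χ with hVl
  have hxVl : ∀ j : ℕ, ∀ v ∈ Vl, ρ (x ^ j) v ∈ Vl := by
    intro j v hv
    exact map_wt_of_mem_stab (Subgroup.pow_mem _ w.hstab j) hv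
  let ρΓ : Representation K ↥Γ₂ V := ρ.comp Γ₂.subtype
  have hρΓ : ∀ g : ↥Γ₂, ρΓ g = ρ (g : Γ) := fun g => rfl
  have hVlinv : ∀ g : ↥Γ₂, ∀ v ∈ Vl, ρΓ g v ∈ Vl := by
    intro g v hv
    obtain ⟨t, ht, j, hg⟩ := hgenΓ g.1 g.2
    rw [hρΓ, hg, rho_mul_apply]
    exact wt_Zc_map ht (hxVl j v hv)
  have hVl0 : Vl ≠ ⊥ := by
    obtain ⟨v, hv, hv0⟩ := w.hv
    exact (Submodule.ne_bot_iff Vl).mpr ⟨v, hv, hv0⟩
  obtain ⟨W, hWVl, hW0, hWinv, hWmin⟩ := exists_min_invariant ρΓ Vl hVl0 hVlinv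
  let ρ₂ : Representation K ↥Γ₂ ↥W := subRep ρΓ W hWinv
  have hρ₂ : ∀ (g : ↥Γ₂) (v : ↥W), ((ρ₂ g v : ↥W) : V) = ρ (g : Γ) (v : V) := fun g v => rfl
  have hnt : Nontrivial ↥W := (Submodule.nontrivial_iff_ne_bot).mpr hW0
  have hopext : ∀ A B : Module.End K ↥W, (∀ v : ↥W, ((A v : ↥W) : V) = ((B v : ↥W) : V)) → A = B := by
    intro A B h
    apply LinearMap.ext
    intro v
    exact Subtype.ext (h v)
  -- class two
  have hcl : ∀ s₁ ∈ Q.subgroupOf Γ₂, ∀ t ∈ Q.subgroupOf Γ₂, ∀ u ∈ Q.subgroupOf Γ₂,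
      ⁅s₁, t⁆ * u = u * ⁅s₁, t⁆ := by
    intro s₁ hs₁ t ht u hu
    apply Subtype.ext
    have h1 := c.class2 s₁.1 (mem_subgroupOf.mp hs₁) t.1 (mem_subgroupOf.mp ht)
    have h2 := (mem_Zc.mp h1).2 u.1 (mem_subgroupOf.mp hu)
    simpa [commutatorElement_def] using h2.symm
  -- the centre
  have hZ : ∀ g : ↥Γ₂, g ∈ (Yr ρ Q χ).subgroupOf Γ₂ ↔
      g ∈ Q.subgroupOf Γ₂ ∧ ∀ t ∈ Q.subgroupOf Γ₂, ρ₂ g * ρ₂ t = ρ₂ t * ρ₂ g := by
    intro g
    rw [mem_subgroupOf, mem_subgroupOf]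
    constructor
    · intro hg
      refine ⟨hg.1, ?_⟩
      intro t _
      obtain ⟨d, hd⟩ := w.Yr_scalar c g.1 hg
      apply hopext
      intro v
      have h1 : ρ (t : Γ) (v : V) ∈ Vl := hWVl (hWinv t v v.2)
      rw [Module.End.mul_apply, Module.End.mul_apply, hρ₂, hρ₂, hρ₂, hρ₂,
        hd _ h1, hd _ (hWVl v.2), map_smul]
    · rintro ⟨hgQ, hcomm⟩
      rw [w.mem_Yr_iff c hgQ]
      intro t ht
      obtain ⟨v, hv, hv0⟩ := (Submodule.ne_bot_iff W).mp hW0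
      set t' : ↥Γ₂ := ⟨t, hQΓ₂ ht⟩ with ht'
      have h1 := hcomm t' (mem_subgroupOf.mpr ht)
      have h2 := congrArg (fun A : Module.End K ↥W => ((A ⟨v, hv⟩ : ↥W) : V)) h1
      simp only [Module.End.mul_apply, hρ₂] at h2
      -- `u = ρ (t g) v`
      set u : V := ρ (t * (g : Γ)) v with hu
      have huW : u ∈ W := by
        have := hWinv (t' * g) v hv
        rwa [hρΓ] at this
      have hu0 : u ≠ 0 := by
        intro h0
        apply hv0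
        have := congrArg (ρ (t * (g : Γ))⁻¹) h0
        rw [hu, rho_inv_apply, map_zero] at this
        exact this
      have h3 : ρ ⁅(g : Γ), t⁆ u = u := by
        have e : ⁅(g : Γ), t⁆ * (t * (g : Γ)) = (g : Γ) * t := by
          rw [commutatorElement_def]; group
        rw [hu, ← rho_mul_apply, e, rho_mul_apply, h2, ← rho_mul_apply]
      have h4 := (hWVl huW) _ (c.class2 _ hgQ t ht)
      rw [h3] at h4
      have h5 : (1 : K) • u = χ ⁅(g : Γ), t⁆ • u := by rw [one_smul]; exact h4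
      exact (smul_left_injective K hu0 h5).symm
  have hZsc : ∀ z ∈ (Yr ρ Q χ).subgroupOf Γ₂, ∃ d : K, ρ₂ z = d • 1 := by
    intro z hz
    obtain ⟨d, hd⟩ := w.Yr_scalar c z.1 (mem_subgroupOf.mp hz)
    refine ⟨d, ?_⟩
    apply hopext
    intro v
    rw [hρ₂, hd _ (hWVl v.2)]
    rfl
  have hQZ : ∃ f ∈ Q.subgroupOf Γ₂, f ∉ (Yr ρ Q χ).subgroupOf Γ₂ := by
    have h1 : ¬ Q ≤ Yr ρ Q χ := fun h => w.Yr_ne c (le_antisymm (Yr_le ρ Q χ) h)
    obtain ⟨f, hf, hfY⟩ := SetLike.not_le_iff_exists.mp h1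
    exact ⟨⟨f, hQΓ₂ hf⟩, mem_subgroupOf.mpr hf, fun h => hfY (mem_subgroupOf.mp h)⟩
  have hxYr : x ∈ normalizer ((Yr ρ Q χ : Subgroup Γ) : Set Γ) := w.conj_Yr hxQ w.hstab
  have hfpf : ∀ j : ℕ, ¬ p ^ s ∣ j → ∀ f ∈ Q.subgroupOf Γ₂,
      ⁅(⟨x, hxΓ₂⟩ : ↥Γ₂) ^ j, f⁆ ∈ (Yr ρ Q χ).subgroupOf Γ₂ → f ∈ (Yr ρ Q χ).subgroupOf Γ₂ := by
    intro j hj f hf hcf
    rw [mem_subgroupOf] at hf hcf ⊢
    have hcf' : ⁅x ^ j, (f : Γ)⁆ ∈ Yr ρ Q χ := by
      simpa [commutatorElement_def] using hcf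
    have he : ¬ p ^ (n + 1) ∣ p ^ m * j := by
      intro hd
      apply hj
      have h1 : p ^ (n + 1) = p ^ m * p ^ s := by
        rw [← pow_add, hsdef]
        congr 1
        have := w.hm
        omega
      rw [h1] at hd
      exact (Nat.mul_dvd_mul_iff_left (pow_pos c.sh.hp.pos m)).mp hd
    have hae : a ^ (p ^ m * j) = x ^ j := by rw [hxdef, ← pow_mul]
    apply c.semireg (Zc_le_Yr ρ Q χ) (Yr_le ρ Q χ) he _ f.1 hf
    · rw [hae]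
      have e : (f : Γ)⁻¹ * (x ^ j * (f : Γ) * (x ^ j)⁻¹) = (f : Γ)⁻¹ * ⁅x ^ j, (f : Γ)⁆ * f := by
        rw [commutatorElement_def]; group
      rw [e]
      exact Yr_conj c f.1 hf _ hcf'
    · intro l hl
      rw [hae]
      exact conj_mem_of_mem_normalizer (Subgroup.pow_mem _ hxYr j) hl
  have hpsK : ((p ^ s : ℕ) : K) ≠ 0 := by
    rw [Nat.cast_pow]
    exact pow_ne_zero _ c.sh.hpK
  have hQK : (Nat.card ↥(Q.subgroupOf Γ₂) : K) ≠ 0 := by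
    rw [Nat.card_congr (Subgroup.subgroupOfEquivOfLe hQΓ₂).toEquiv]
    exact c.sh.card_ne_zero le_rfl
  have key := core_pp ρ₂ (Q.subgroupOf Γ₂) ⟨x, hxΓ₂⟩ hR
    (by apply Subtype.ext; simpa using hx) hpsK hQK
    (by
      intro g
      obtain ⟨t, ht, j, hg⟩ := hgenΓ g.1 g.2
      refine ⟨⟨t, hQΓ₂ ht⟩, mem_subgroupOf.mpr ht, j, ?_⟩
      apply Subtype.ext
      simpa using hg)
    (subRep_irr ρΓ W hWinv hWmin)
    (by
      intro v hv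
      have h1 := congrArg Subtype.val hv
      rw [hρ₂] at h1
      have h2 := w.fix c _ (hWVl v.2) h1
      exact Subtype.ext h2)
    hcl ((Yr ρ Q χ).subgroupOf Γ₂) hZ hZsc hQZ hfpf
  rw [Nat.card_congr (Subgroup.subgroupOfEquivOfLe hQΓ₂).toEquiv,
    Nat.card_congr (Subgroup.subgroupOfEquivOfLe ((Yr_le ρ Q χ).trans hQΓ₂)).toEquiv] at key
  exact key

end WT

end Cfsg.Agent.Lib.Helper23.SG
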