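import Mathlib

/-!
# helper23: Shult–Gross, part 6a: the arithmetic of the exceptional case
-/

set_option autoImplicit false
set_option linter.unusedSectionVars false
set_option linter.style.haveILetI false

namespace Cfsg.Agent.Lib.Helper23.SG

/-- if `p ^ s = 2 ^ μ + 1` and `p ^ (s + m)` divides `2 ^ d - 1` with `d > 0`, then
`d ≥ 2 μ p ^ m` -/
theorem arith_gross {p s m μ d : ℕ} (hp : p.Prime) (hp2 : p ≠ 2) (hμ : 0 < μ)
    (hR : p ^ s = 2 ^ μ + 1) (hd : 0 < d) (hdvd : p ^ (s + m) ∣ 2 ^ d - 1) :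
    2 * μ * p ^ m ≤ d := by
  have : Fact p.Prime := ⟨hp⟩
  have hs : 0 < s := by
    rcases Nat.eq_zero_or_pos s with rfl | h
    · rw [pow_zero] at hR
      have : 0 < 2 ^ μ := pow_pos (by norm_num) μ
      omega
    · exact h
  have hpodd : Odd p := hp.odd_of_ne_two hp2
  have hps : p ^ s ∣ 2 ^ d - 1 := (pow_dvd_pow p (Nat.le_add_right s m)).trans hdvd
  have h2pos : ∀ e : ℕ, 1 ≤ 2 ^ e := fun e => Nat.one_le_two_pow
  -- work in `ZMod (p ^ s)`
  set T : ZMod (p ^ s) := 2 with hT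
  have hTμ : T ^ μ = -1 := by
    have h1 : ((2 ^ μ + 1 : ℕ) : ZMod (p ^ s)) = 0 := by
      rw [← hR]
      exact ZMod.natCast_self (p ^ s)
    push_cast at h1
    exact eq_neg_of_add_eq_zero_left h1
  have hT2μ : T ^ (2 * μ) = 1 := by
    rw [mul_comm, pow_mul, hTμ]
    norm_num
  have hcast : ∀ e : ℕ, p ^ s ∣ 2 ^ e - 1 ↔ T ^ e = 1 := by
    intro e
    rw [← ZMod.natCast_eq_zero_iff, Nat.cast_sub (h2pos e)]
    push_cast
    rw [sub_eq_zero]
  have hcast' : ∀ e : ℕ, p ^ s ∣ 2 ^ e + 1 ↔ T ^ e = -1 := by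
    intro e
    rw [← ZMod.natCast_eq_zero_iff]
    push_cast
    rw [← eq_neg_iff_add_eq_zero]
  have hTd : T ^ d = 1 := (hcast d).mp hps
  -- `2 μ ∣ d`
  have hdiv : 2 * μ ∣ d := by
    rw [Nat.dvd_iff_mod_eq_zero]
    by_contra hr
    set r₀ := d % (2 * μ) with hr₀
    have hr₀lt : r₀ < 2 * μ := Nat.mod_lt _ (by omega)
    have hTr : T ^ r₀ = 1 := by
      have h1 : T ^ d = T ^ r₀ := by
        conv_lhs => rw [← Nat.div_add_mod d (2 * μ), pow_add, pow_mul, hT2μ, one_pow, one_mul]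
      rw [← h1]
      exact hTd
    by_cases hle : r₀ ≤ μ
    · have h1 := (hcast r₀).mpr hTr
      have h2 : 0 < 2 ^ r₀ - 1 := by
        have : 2 ^ 1 ≤ 2 ^ r₀ := Nat.pow_le_pow_right (by norm_num) (by omega)
        omega
      have h3 := Nat.le_of_dvd h2 h1
      have h4 : 2 ^ r₀ ≤ 2 ^ μ := Nat.pow_le_pow_right (by norm_num) hle
      omega
    · push Not at hle
      have h0 : T ^ (r₀ - μ) = -1 := by
        have h1 : T ^ r₀ = T ^ μ * T ^ (r₀ - μ) := by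
          rw [← pow_add]
          congr 1
          omega
        rw [hTr, hTμ] at h1
        have h2 : T ^ (r₀ - μ) = -(-1 * T ^ (r₀ - μ)) := by ring
        rw [h2, ← h1]
      have h1 := (hcast' (r₀ - μ)).mpr h0
      have h3 := Nat.le_of_dvd (by positivity) h1
      have h4 : 2 ^ (r₀ - μ) < 2 ^ μ := Nat.pow_lt_pow_right (by norm_num) (by omega)
      omega
  obtain ⟨k, rfl⟩ := hdiv
  have hk : k ≠ 0 := by
    rintro rfl
    omega
  -- lifting the exponent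
  have hx1 : 1 < 2 ^ (2 * μ) := Nat.one_lt_two_pow (by omega)
  have hfac : 2 ^ (2 * μ) - 1 = (2 ^ μ + 1) * (2 ^ μ - 1) := by
    have h1 : 1 ≤ 2 ^ μ := h2pos μ
    have h2 : (2 : ℕ) ^ (2 * μ) = 2 ^ μ * 2 ^ μ := by rw [two_mul, pow_add]
    rw [h2]
    zify [h1, Nat.one_le_iff_ne_zero.mpr (Nat.mul_ne_zero (by positivity) (by positivity) :
      2 ^ μ * 2 ^ μ ≠ 0)]
    ring
  have hpx : p ∣ 2 ^ (2 * μ) - 1 := by
    rw [hfac, ← hR]
    exact Dvd.dvd.mul_right (dvd_pow_self p hs.ne') _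
  have hpnx : ¬ p ∣ 2 ^ (2 * μ) := by
    intro h
    have := hp.dvd_of_dvd_pow h
    exact hp2 ((Nat.prime_dvd_prime_iff_eq hp Nat.prime_two).mp this)
  have hpn1 : ¬ p ∣ 2 ^ μ - 1 := by
    intro h
    have h1 : p ∣ 2 ^ μ + 1 := by
      rw [← hR]
      exact dvd_pow_self p hs.ne'
    have h2 : p ∣ (2 ^ μ + 1) - (2 ^ μ - 1) := Nat.dvd_sub h1 h
    have h3 : (2 ^ μ + 1) - (2 ^ μ - 1) = 2 := by
      have := h2pos μ
      omega
    rw [h3] at h2
    exact hp2 ((Nat.prime_dvd_prime_iff_eq hp Nat.prime_two).mp h2)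
  have hμ1 : 2 ^ μ - 1 ≠ 0 := by
    have : 2 ^ 1 ≤ 2 ^ μ := Nat.pow_le_pow_right (by norm_num) hμ
    omega
  have hv : padicValNat p (2 ^ (2 * μ) - 1) = s := by
    rw [hfac, padicValNat.mul (by positivity) hμ1, ← hR, padicValNat.prime_pow,
      padicValNat.eq_zero_of_not_dvd hpn1, add_zero]
  have hlte := padicValNat.pow_sub_pow (p := p) hpodd hx1 (by simpa using hpx) hpnx hk (y := 1)
  rw [one_pow, hv, ← pow_mul] at hlte
  have hne : 2 ^ (2 * μ * k) - 1 ≠ 0 := by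
    have : 2 ^ 1 ≤ 2 ^ (2 * μ * k) := Nat.pow_le_pow_right (by norm_num) hd
    omega
  have h5 := (padicValNat_dvd_iff_le hne).mp hdvd
  rw [hlte] at h5
  have h6 : m ≤ padicValNat p k := by omega
  have h7 : p ^ m ∣ k := (padicValNat_dvd_iff_le hk).mpr h6
  have h8 := Nat.le_of_dvd (Nat.pos_of_ne_zero hk) h7
  exact Nat.mul_le_mul_left _ h8

end Cfsg.Agent.Lib.Helper23.SG
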