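import Mathlib
import Cfsg.Agent.Lib.Helper23.SG5
import Cfsg.Agent.Lib.Helper23.SG6a

/-!
# helper23: Shult–Gross, part 6b: Gross' product trick and the proof of Lemma S
-/

set_option autoImplicit false
set_option linter.unusedSectionVars false
set_option linter.style.haveILetI false

namespace Cfsg.Agent.Lib.Helper23.SG

open Module Subgroup
open Cfsg.Agent.Lib.Helper23.Ward
open Cfsg.Agent.Lib.Helper23.PQ (conj_mem_commutator mem_stab_of_cent)
open Cfsg.Agent.Lib.Helper23.PQ.MinCE (Zc mem_Zc Zc_le conj_mem_Zc Zc_comm)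
open Cfsg.Agent.Lib.Helper23.S3 (rho_mul_apply mem_normalizer_of_conj_mem conj_inv_mem_of_finite
  lift_of_pow)
open scoped commutatorElement

universe u

/-- the partial norms `∏_{i < k} (a ^ i)⁻¹ z a ^ i` -/
def nrm {Γ : Type*} [Group Γ] (a z : Γ) : ℕ → Γ
  | 0 => 1
  | k + 1 => nrm a z k * ((a ^ k)⁻¹ * z * a ^ k)

theorem nrm_zero {Γ : Type*} [Group Γ] (a z : Γ) : nrm a z 0 = 1 := rfl

theorem nrm_succ {Γ : Type*} [Group Γ] (a z : Γ) (k : ℕ) :
    nrm a z (k + 1) = nrm a z k * ((a ^ k)⁻¹ * z * a ^ k) := rfl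

theorem nrm_succ' {Γ : Type*} [Group Γ] (a z : Γ) (k : ℕ) :
    nrm a z (k + 1) = z * (a⁻¹ * nrm a z k * a) := by
  induction k with
  | zero => simp [nrm_succ, nrm_zero]
  | succ k ih =>
    conv_rhs => rw [nrm_succ a z k]
    rw [nrm_succ a z (k + 1), ih]
    have e : (a ^ (k + 1))⁻¹ * z * a ^ (k + 1) = a⁻¹ * ((a ^ k)⁻¹ * z * a ^ k) * a := by
      rw [pow_succ]; group
    rw [e]; group

theorem nrm_mem {Γ : Type*} [Group Γ] {a z : Γ} {Z : Subgroup Γ}
    (ha : ∀ i : ℕ, a ^ i ∈ normalizer (Z : Set Γ)) (hz : z ∈ Z) (k : ℕ) : nrm a z k ∈ Z := by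
  induction k with
  | zero => exact Z.one_mem
  | succ k ih =>
    rw [nrm_succ]
    exact Z.mul_mem ih (inv_conj_mem_of_mem_normalizer (ha k) hz)

variable {K : Type*} [Field K] {Γ : Type*} [Group Γ] [Finite Γ] {V : Type u} [AddCommGroup V]
  [Module K V]

namespace WT

variable {ρ : Representation K Γ V} {p n q : ℕ} {a : Γ} {Q : Subgroup Γ} {χ : Γ → K} {m : ℕ}

theorem apow_comm (a : Γ) (e i : ℕ) : (a ^ i)⁻¹ * a ^ e * a ^ i = a ^ e := by
  rw [mul_assoc, (Commute.pow_pow_self a e i).eq, inv_mul_cancel_left]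

/-- the conjugate weights are again weight packages -/
theorem conj (c : MC ρ p n q a Q) (w : WT ρ p n a Q χ m) (i : ℕ) :
    WT ρ p n a Q (cj (a ^ i) χ) m := by
  have hai : a ^ i ∈ normalizer ((Zc Q : Subgroup Γ) : Set Γ) := apow_Z c i
  obtain ⟨v, hv, hv0⟩ := w.hv
  obtain ⟨s, hs, t, ht, hst⟩ := w.hs
  refine ⟨⟨ρ (a ^ i) v, map_wt hai hv, ?_⟩, ⟨a ^ i * s * (a ^ i)⁻¹, c.sh.apow_Q i s hs,
    a ^ i * t * (a ^ i)⁻¹, c.sh.apow_Q i t ht, ?_⟩, w.hm, ?_, ?_⟩
  · intro h0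
    apply hv0
    have := rho_inv_apply ρ (a ^ i) v
    rw [h0, map_zero] at this
    exact this.symm
  · rw [cj_apply]
    have e : (a ^ i)⁻¹ * ⁅a ^ i * s * (a ^ i)⁻¹, a ^ i * t * (a ^ i)⁻¹⁆ * a ^ i = ⁅s, t⁆ := by
      rw [commutatorElement_def, commutatorElement_def]; group
    rw [e]; exact hst
  · rw [mem_stab_cj hai, apow_comm]
    exact w.hstab
  · intro e he
    rw [mem_stab_cj hai, apow_comm] at he
    exact w.hmin e he

theorem pow (w : WT ρ p n a Q χ m) {z : Γ} (hz : z ∈ Zc Q) (k : ℕ) : χ (z ^ k) = χ z ^ k := by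
  induction k with
  | zero => rw [pow_zero, pow_zero]; exact w.one
  | succ k ih => rw [pow_succ, pow_succ, w.mul _ ((Zc Q).pow_mem hz k) _ hz, ih]

/-- the weight of a partial norm -/
theorem chi_nrm (c : MC ρ p n q a Q) (w : WT ρ p n a Q χ m) {z : Γ} (hz : z ∈ Zc Q) (k : ℕ) :
    χ (nrm a z k) = ∏ i ∈ Finset.range k, cj (a ^ i) χ z := by
  induction k with
  | zero => rw [nrm_zero, Finset.prod_range_zero]; exact w.one
  | succ k ih =>
    rw [nrm_succ, Finset.prod_range_succ, ← ih, cj_apply]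
    exact w.mul _ (nrm_mem (apow_Z c) hz k) _ (inv_conj_mem_of_mem_normalizer (apow_Z c k) hz)

/-- the full norm is trivial -/
theorem nrm_eq_one (c : MC ρ p n q a Q) {z : Γ} (hz : z ∈ Zc Q) :
    nrm a z (p ^ (n + 1)) = 1 := by
  set M := p ^ (n + 1) with hM
  have hT : nrm a z M ∈ Zc Q := nrm_mem (apow_Z c) hz M
  have h1 : nrm a z (M + 1) = nrm a z M * z := by
    rw [nrm_succ, hM, c.sh.han]; simp
  have h2 := nrm_succ' a z M
  rw [h1] at h2
  have h3 : nrm a z M * z = z * nrm a z M := ((mem_Zc.mp hT).2 z (Zc_le Q hz)).symm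
  rw [h3] at h2
  have h4 : nrm a z M = a⁻¹ * nrm a z M * a := mul_left_cancel h2
  apply c.sh.hfQ _ (Zc_le Q hT)
  calc a * nrm a z M = a * (a⁻¹ * nrm a z M * a) := by rw [← h4]
    _ = nrm a z M * a := by group

theorem prod_periodic {M : Type*} [CommMonoid M] (f : ℕ → M) (N : ℕ) (hf : ∀ i, f (N + i) = f i)
    (r : ℕ) : ∏ i ∈ Finset.range (N * r), f i = (∏ i ∈ Finset.range N, f i) ^ r := by
  induction r with
  | zero => simp
  | succ r ih =>
    have hf' : ∀ j i, f (N * j + i) = f i := by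
      intro j
      induction j with
      | zero => intro i; simp
      | succ j ihj =>
        intro i
        rw [Nat.mul_succ, add_assoc, ihj, hf]
    rw [Nat.mul_succ, Finset.prod_range_add, ih, pow_succ]
    congr 1
    exact Finset.prod_congr rfl (fun i _ => hf' r i)

/-- **Gross' product formula**: the product of the conjugate weights is trivial -/
theorem prod_cj (c : MC ρ p n q a Q) (w : WT ρ p n a Q χ m) {z : Γ} (hz : z ∈ Zc Q) :
    ∏ i ∈ Finset.range (p ^ m), cj (a ^ i) χ z = 1 := by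
  set P := ∏ i ∈ Finset.range (p ^ m), cj (a ^ i) χ z with hP
  -- periodicity
  have hper : ∀ i, cj (a ^ (p ^ m + i)) χ z = cj (a ^ i) χ z := by
    intro i
    rw [cj_apply, cj_apply]
    have h1 : (a ^ i)⁻¹ * z * a ^ i ∈ Zc Q := inv_conj_mem_of_mem_normalizer (apow_Z c i) hz
    have h2 := w.hstab.2 _ h1
    rw [← h2, pow_add]
    congr 1
    group
  have h1 : P ^ (p ^ (n + 1 - m)) = 1 := by
    rw [hP, ← prod_periodic _ _ hper, ← pow_add]
    have : m + (n + 1 - m) = n + 1 := by have := w.hm; omega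
    rw [this, ← w.chi_nrm c hz, nrm_eq_one c hz]
    exact w.one
  have : Fact q.Prime := ⟨c.sh.hq⟩
  obtain ⟨k, hk⟩ := (IsPGroup.iff_orderOf.mp c.sh.hQ) ⟨z, Zc_le Q hz⟩
  have hzk : z ^ (q ^ k) = 1 := by
    have h := pow_orderOf_eq_one (⟨z, Zc_le Q hz⟩ : Q)
    rw [hk] at h
    have := congrArg Subtype.val h
    simpa using this
  have h2 : P ^ (q ^ k) = 1 := by
    rw [hP, ← Finset.prod_pow]
    apply Finset.prod_eq_one
    intro i _
    rw [← (w.conj c i).pow hz, hzk]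
    exact (w.conj c i).one
  have h3 := pow_gcd_eq_one.mpr ⟨h1, h2⟩
  have h4 : (p ^ (n + 1 - m)).gcd (q ^ k) = 1 :=
    Nat.Coprime.pow _ _ ((Nat.coprime_primes c.sh.hp c.sh.hq).mpr c.sh.hpq)
  rw [h4, pow_one] at h3
  exact h3

end WT

namespace MC

variable {ρ : Representation K Γ V} {p n q : ℕ} {a : Γ} {Q : Subgroup Γ}

/-- **there is no minimal configuration for odd `p`** -/
theorem false_of_odd [IsAlgClosed K] [FiniteDimensional K V] (c : MC ρ p n q a Q) (hp2 : p ≠ 2) :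
    False := by
  classical
  obtain ⟨χ, m, w⟩ := c.exists_WT
  have hp := c.sh.hp
  have hq := c.sh.hq
  have : Fact q.Prime := ⟨hq⟩
  obtain ⟨s, hs⟩ : ∃ s, s = n + 1 - m := ⟨_, rfl⟩
  have hsm : s + m = n + 1 := by have := w.hm; omega
  have hs1 : 1 ≤ s := by have := w.hm; omega
  obtain ⟨N, hN⟩ : ∃ N, N = p ^ m := ⟨_, rfl⟩
  have hN0 : 0 < N := by rw [hN]; exact pow_pos hp.pos m
  -- the subgroups `Y i`
  obtain ⟨Y, hY⟩ : ∃ Y : ℕ → Subgroup Γ, Y = fun i => Yr ρ Q (cj (a ^ i) χ) := ⟨_, rfl⟩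
  have hYle : ∀ i, Y i ≤ Q := by intro i; rw [hY]; exact Yr_le _ _ _
  have hYiff : ∀ i, ∀ g ∈ Q, g ∈ Y i ↔ ∀ t ∈ Q, cj (a ^ i) χ ⁅g, t⁆ = 1 := by
    intro i g hg; rw [hY]; exact (w.conj c i).mem_Yr_iff c hg
  have hcard : ∀ i, Nat.card Q = (p ^ s - 1) ^ 2 * Nat.card (Y i) := by
    intro i; rw [hY, hs]; exact (w.conj c i).card_eq c
  have hYne : Y 0 ≠ Q := by rw [hY]; exact (w.conj c 0).Yr_ne c
  have hZY : ∀ i, Zc Q ≤ Y i := by intro i; rw [hY]; exact Zc_le_Yr ρ Q _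
  -- `q = 2` and `p ^ s = 2 ^ μ + 1`
  obtain ⟨k, hk⟩ := IsPGroup.iff_card.mp c.sh.hQ
  have hodd : Odd (p ^ s) := (hp.odd_of_ne_two hp2).pow
  have hR3 : 3 ≤ p ^ s := by
    have h1 : 3 ≤ p := by have := hp.two_le; omega
    calc 3 ≤ p := h1
      _ = p ^ 1 := (pow_one p).symm
      _ ≤ p ^ s := Nat.pow_le_pow_right hp.pos hs1
  have hdvd : (p ^ s - 1) ∣ q ^ k := by
    rw [← hk, hcard 0]
    exact Dvd.dvd.mul_right (dvd_pow_self _ two_ne_zero) _
  obtain ⟨μ, -, hμ⟩ := (Nat.dvd_prime_pow hq).mp hdvd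
  have h2dvd : 2 ∣ p ^ s - 1 := by
    obtain ⟨r, hr⟩ := hodd
    omega
  have hμ0 : 0 < μ := by
    rcases Nat.eq_zero_or_pos μ with h | h
    · rw [h, pow_zero] at hμ; omega
    · exact h
  have hq2 : q = 2 := by
    rw [hμ] at h2dvd
    exact ((Nat.prime_dvd_prime_iff_eq Nat.prime_two hq).mp
      (Nat.prime_two.dvd_of_dvd_pow h2dvd)).symm
  subst hq2
  have hR : p ^ s = 2 ^ μ + 1 := by omega
  have hrel : ∀ i, (Y i).relIndex Q = 2 ^ (2 * μ) := by
    intro i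
    have h1 := Cfsg.Agent.Lib.Helper9.card_eq_card_mul_relIndex (hYle i)
    have h2 := hcard i
    rw [h1, hμ] at h2
    have hpos : 0 < Nat.card (Y i) := Nat.card_pos
    have h3 : (Y i).relIndex Q * Nat.card (Y i) = (2 ^ μ) ^ 2 * Nat.card (Y i) := by
      rw [mul_comm]; exact h2
    have h4 := Nat.eq_of_mul_eq_mul_right hpos h3
    rw [h4, ← pow_mul, mul_comm]
  -- the intersection `D`
  obtain ⟨D, hD⟩ : ∃ D : Subgroup Γ, D = (⨅ i : Fin (N - 1), Y (i.val + 1)) ⊓ Q := ⟨_, rfl⟩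
  have hDmem : ∀ g, g ∈ D ↔ g ∈ Q ∧ ∀ i, 1 ≤ i → i < N → g ∈ Y i := by
    intro g
    rw [hD, Subgroup.mem_inf, Subgroup.mem_iInf]
    constructor
    · rintro ⟨h1, h2⟩
      refine ⟨h2, ?_⟩
      intro i hi1 hiN
      have := h1 ⟨i - 1, by omega⟩
      simp only at this
      rwa [Nat.sub_add_cancel hi1] at this
    · rintro ⟨h1, h2⟩
      exact ⟨fun i => h2 _ (by omega) (by have := i.isLt; omega), h1⟩
  -- Gross' trick
  have hD0 : ∀ g ∈ D, g ∈ Y 0 := by
    intro g hg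
    rw [hDmem] at hg
    rw [hYiff 0 g hg.1]
    intro t ht
    have hz := c.class2 g hg.1 t ht
    have hprod := w.prod_cj c hz
    obtain ⟨N', hN'⟩ := Nat.exists_eq_succ_of_ne_zero hN0.ne'
    rw [← hN, hN', Finset.prod_range_succ'] at hprod
    have h1 : ∏ i ∈ Finset.range N', cj (a ^ (i + 1)) χ ⁅g, t⁆ = 1 := by
      apply Finset.prod_eq_one
      intro i hi
      rw [Finset.mem_range] at hi
      have := hg.2 (i + 1) (by omega) (by omega)
      exact ((hYiff (i + 1) g hg.1).mp this) t ht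
    rw [h1, one_mul] at hprod
    exact hprod
  have hainv : ∀ t ∈ Q, a⁻¹ * t * a ∈ Q := conj_inv_mem_of_finite c.sh.haQ
  have hYshift : ∀ i, ∀ g ∈ Y i, a * g * a⁻¹ ∈ Y (i + 1) := by
    intro i g hg
    have hgQ : g ∈ Q := hYle i hg
    have hagQ : a * g * a⁻¹ ∈ Q := c.sh.haQ g hgQ
    rw [hYiff (i + 1) _ hagQ]
    intro t ht
    have h1 := ((hYiff i g hgQ).mp hg) (a⁻¹ * t * a) (hainv t ht)
    rw [cj_apply] at h1 ⊢
    have e : (a ^ (i + 1))⁻¹ * ⁅a * g * a⁻¹, t⁆ * a ^ (i + 1) =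
        (a ^ i)⁻¹ * ⁅g, a⁻¹ * t * a⁆ * a ^ i := by
      rw [pow_succ, commutatorElement_def, commutatorElement_def]; group
    rw [e]; exact h1
  have hDinv : ∀ g ∈ D, a * g * a⁻¹ ∈ D := by
    intro g hg
    have hg' := (hDmem g).mp hg
    rw [hDmem]
    refine ⟨c.sh.haQ g hg'.1, ?_⟩
    intro i hi1 hiN
    obtain ⟨j, rfl⟩ : ∃ j, i = j + 1 := ⟨i - 1, by omega⟩
    apply hYshift j g
    rcases Nat.eq_zero_or_pos j with rfl | hj
    · exact hD0 g hg
    · exact hg'.2 j hj (by omega)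
  have hDQ : D ≤ Q := by rw [hD]; exact inf_le_right
  have hDne : D ≠ Q := by
    intro e
    apply hYne
    apply le_antisymm (hYle 0)
    intro g hg
    exact hD0 g (by rw [e]; exact hg)
  have hDZ : D ≤ Zc Q := fun g hg => c.cent_le_Z g (hDQ hg) (c.hmin D hDQ hDne hDinv g hg)
  have hZD : Zc Q ≤ D := by
    intro z hz
    rw [hDmem]
    exact ⟨Zc_le Q hz, fun i _ _ => hZY i hz⟩
  have hDeq : D = Zc Q := le_antisymm hDZ hZD
  have hDrel : D.relIndex Q ≤ (2 ^ (2 * μ)) ^ (N - 1) := by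
    rw [hD, Subgroup.inf_relIndex_right]
    refine le_trans (Subgroup.relIndex_iInf_le _) ?_
    simp only [hrel, Finset.prod_const, Finset.card_univ, Fintype.card_fin, le_refl]
  have hZcard := Cfsg.Agent.Lib.Helper9.card_eq_card_mul_relIndex (Zc_le Q)
  obtain ⟨d, -, hd⟩ := (Nat.dvd_prime_pow Nat.prime_two).mp
    (show (Zc Q).relIndex Q ∣ 2 ^ k from by rw [← hk, hZcard]; exact dvd_mul_left _ _)
  have hd0 : 0 < d := by
    rcases Nat.eq_zero_or_pos d with h | h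
    · exfalso
      rw [h, pow_zero] at hd
      rw [hd, mul_one] at hZcard
      apply c.nonab
      exact Subgroup.eq_of_le_of_card_ge (Zc_le Q) hZcard.le
    · exact h
  have hdle : d ≤ 2 * μ * (N - 1) := by
    rw [hDeq, hd, ← pow_mul] at hDrel
    exact (Nat.pow_le_pow_iff_right (by norm_num)).mp hDrel
  have hdvd2 := c.dvd_card_sub
  rw [hZcard, hd] at hdvd2
  have e : Nat.card (Zc Q) * 2 ^ d - Nat.card (Zc Q) = Nat.card (Zc Q) * (2 ^ d - 1) := by
    rw [Nat.mul_sub, mul_one]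
  rw [e] at hdvd2
  have hcop : (p ^ (n + 1)).Coprime (Nat.card (Zc Q)) := (c.sh.cop (Zc_le Q) (n + 1)).symm
  have hdvd3 : p ^ (s + m) ∣ 2 ^ d - 1 := by rw [hsm]; exact hcop.dvd_of_dvd_mul_left hdvd2
  have hfin := arith_gross hp hp2 hμ0 hR hd0 hdvd3
  rw [← hN] at hfin
  have h5 : 2 * μ * (N - 1) < 2 * μ * N := by
    apply Nat.mul_lt_mul_of_pos_left (by omega) (by omega)
  omega

end MC

namespace SH

variable {ρ : Representation K Γ V} {p n q : ℕ} {a : Γ}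

/-- **Lemma S (Shult, Gross)**: for odd `p`, if `a` of order dividing `p ^ (n + 1)` acts without
fixed points on the `q`-group `Q` and on the faithful `Q`-module `V`, then `a ^ (p ^ n)`
centralises `Q`. -/
theorem cent_aux [IsAlgClosed K] [FiniteDimensional K V] (hp2 : p ≠ 2) :
    ∀ (k : ℕ) (Q : Subgroup Γ), Nat.card Q = k → SH ρ p n q a Q →
      ∀ x ∈ Q, a ^ (p ^ n) * x = x * a ^ (p ^ n) := by
  intro k
  induction k using Nat.strong_induction_on with
  | _ k ih =>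
    intro Q hk h
    by_contra hcon
    push Not at hcon
    refine MC.false_of_odd ⟨h, ?_, hcon⟩ hp2
    intro Q' hle hne hinv
    refine ih (Nat.card Q') ?_ Q' rfl (h.sub hle hinv)
    rw [← hk]
    exact lt_of_not_ge (fun h' => hne (Subgroup.eq_of_le_of_card_ge hle h'))

theorem cent [IsAlgClosed K] [FiniteDimensional K V] {Q : Subgroup Γ} (h : SH ρ p n q a Q)
    (hp2 : p ≠ 2) : ∀ x ∈ Q, a ^ (p ^ n) * x = x * a ^ (p ^ n) :=
  cent_aux hp2 _ Q rfl h

end SH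

end Cfsg.Agent.Lib.Helper23.SG
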