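import Mathlib
import Cfsg.Agent.Lib.Helper23.SG6b
import Cfsg.Agent.Lib.Helper23.WardG
import Cfsg.Agent.Lib.Helper9.Transport
import Cfsg.Agent.S0044

/-!
# helper23: Shult–Gross, part 7: the faithful step (`a ^ (p ^ n)` centralises `H`)
-/

set_option autoImplicit false
set_option linter.unusedSectionVars false
set_option linter.style.haveILetI false

namespace Cfsg.Agent.Lib.Helper23.SG

open Module Subgroup
open Cfsg.Agent.Lib.Helper23.Ward
open scoped commutatorElement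

universe u

/-- if `x ^ r = 1` and `x` commutes with `⁅x, f⁆`, then `⁅x, f⁆ ^ r = 1` -/
theorem comm_pow_eq_one {Γ : Type*} [Group Γ] {r : ℕ} (x : Γ) (hx : x ^ r = 1) (f : Γ)
    (hcx : x * ⁅x, f⁆ = ⁅x, f⁆ * x) : ⁅x, f⁆ ^ r = 1 := by
  set c := ⁅x, f⁆ with hcdef
  have hxf : x * f * x⁻¹ = c * f := by
    rw [hcdef, commutatorElement_def]; group
  have hcj : ∀ j : ℕ, x * c ^ j * x⁻¹ = c ^ j := by
    intro j
    have : Commute x (c ^ j) := (show Commute x c from hcx).pow_right j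
    rw [this.eq, mul_inv_cancel_right]
  have hconj : ∀ j : ℕ, x ^ j * f * (x ^ j)⁻¹ = c ^ j * f := by
    intro j
    induction j with
    | zero => simp
    | succ j ih =>
      have h1 : x ^ (j + 1) * f * (x ^ (j + 1))⁻¹ = x * (x ^ j * f * (x ^ j)⁻¹) * x⁻¹ := by
        rw [pow_succ']; group
      rw [h1, ih]
      have h2 : x * (c ^ j * f) * x⁻¹ = (x * c ^ j * x⁻¹) * (x * f * x⁻¹) := by group
      rw [h2, hcj, hxf, pow_succ, mul_assoc]
  have h1 := hconj r
  rw [hx, one_mul, inv_one, mul_one] at h1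
  have : c ^ r * f = 1 * f := by rw [← h1, one_mul]
  exact mul_right_cancel this

variable {K : Type*} [Field K] {Γ : Type*} [Group Γ] {V : Type u} [AddCommGroup V] [Module K V]

/-- **the faithful step**: if `H ⊴ Γ` is solvable of order prime to `p`, `a` of order dividing
`p ^ (n + 1)` has no fixed points on `H` and on the faithful `H`-module `V`, and `O_r(H) = 1` for
the characteristic `r`, then `a ^ (p ^ n)` centralises `H`. -/
theorem nf [Finite Γ] [Group.IsSolvable Γ] [IsAlgClosed K] [FiniteDimensional K V]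
    {p n : ℕ} (hp : p.Prime) (hp2 : p ≠ 2) {H : Subgroup Γ} (hHn : H.Normal) {a : Γ}
    (han : a ^ (p ^ (n + 1)) = 1) (hcop : p.Coprime (Nat.card H))
    (hfH : ∀ x ∈ H, a * x = x * a → x = 1)
    (ρ : Representation K Γ V) (hfaith : ∀ x ∈ H, ρ x = 1 → x = 1)
    (hfV : ∀ v : V, ρ a v = v → v = 0) (hpK : (p : K) ≠ 0)
    (hOr : ∀ q : ℕ, q.Prime → (q : K) = 0 → ∀ R : Subgroup Γ, R ≤ H → R.Normal →
      IsPGroup q R → R = ⊥) :
    ∀ x ∈ H, a ^ (p ^ n) * x = x * a ^ (p ^ n) := by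
  classical
  set b := a ^ (p ^ n) with hb
  have hbp : b ^ p = 1 := by rw [hb, ← pow_mul, ← pow_succ]; exact han
  haveI := hHn
  set FH : Subgroup ↥H := Cfsg.fittingSubgroup ↥H with hFH
  haveI : FH.Characteristic := Cfsg.Agent.Lib.Helper9.fittingSubgroup_characteristic
  set F : Subgroup Γ := FH.map H.subtype with hF
  haveI hFn : F.Normal := ConjAct.normal_of_characteristic_of_normal
  have hFH' : F ≤ H := by rintro _ ⟨x, _, rfl⟩; exact x.2
  have hFnil : Group.IsNilpotent ↥F := by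
    haveI h1 : Group.IsNilpotent ↥FH := Cfsg.Agent.Lib.Helper1.fittingSubgroup_isNilpotent ↥H
    exact Group.nilpotent_of_mulEquiv
      (Subgroup.equivMapOfInjective FH H.subtype H.subtype_injective)
  have hCF : ∀ x ∈ H, (∀ f ∈ F, x * f = f * x) → x ∈ F := by
    intro x hx hc
    have h1 : (⟨x, hx⟩ : ↥H) ∈ centralizer (FH : Set ↥H) := by
      rw [mem_centralizer_iff]
      intro y hy
      apply Subtype.ext
      exact (hc y.1 ⟨y, hy, rfl⟩).symm
    have h2 := Cfsg.Agent.S0044.result h1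
    exact ⟨⟨x, hx⟩, h2, rfl⟩
  -- `b` centralises each `O_q(F)`
  have hbQ : ∀ q : Nat.Primes, ∀ x ∈ Cfsg.pCoreOf (q : ℕ) F, b * x = x * b := by
    intro q
    have hq : (q : ℕ).Prime := q.2
    have : Fact (q : ℕ).Prime := ⟨hq⟩
    have hQn : (Cfsg.pCoreOf (q : ℕ) F).Normal := pCoreOf_normal q F
    have hQH : Cfsg.pCoreOf (q : ℕ) F ≤ H := (pCoreOf_le q F).trans hFH'
    by_cases hqK : ((q : ℕ) : K) = 0
    · have h0 := hOr q hq hqK _ hQH hQn (pCoreOf_isPGroup q F)
      intro x hx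
      rw [h0, Subgroup.mem_bot] at hx
      rw [hx, one_mul, mul_one]
    by_cases hqp : p = q
    · have h1 : (p ^ 1).Coprime (Nat.card (Cfsg.pCoreOf (q : ℕ) F)) := by
        rw [pow_one]
        exact Nat.Coprime.coprime_dvd_right (Subgroup.card_dvd_of_le hQH) hcop
      have h0 := eq_bot_of_isPGroup_of_coprime hp (hqp ▸ pCoreOf_isPGroup q F) one_ne_zero h1
      intro x hx
      rw [h0, Subgroup.mem_bot] at hx
      rw [hx, one_mul, mul_one]
    have hsh : SH ρ p n q a (Cfsg.pCoreOf (q : ℕ) F) :=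
      { hp := hp, hq := hq, hpq := hqp, hqK := hqK, hpK := hpK, han := han
        hQ := pCoreOf_isPGroup q F
        haQ := fun x hx => hQn.conj_mem x hx a
        hfQ := fun x hx => hfH x (hQH hx)
        hfV := hfV
        hfaith := fun x hx => hfaith x (hQH hx) }
    exact hsh.cent hp2
  -- `b` centralises `F`
  have hbF : F ≤ centralizer {b} := by
    rw [eq_iSup_pCoreOf F hFnil]
    apply iSup_le
    intro q x hx
    rw [mem_centralizer_singleton_iff]
    exact (hbQ q x hx).symm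
  have hbF' : ∀ f ∈ F, b * f * b⁻¹ = f := by
    intro f hf
    have := mem_centralizer_singleton_iff.mp (hbF hf)
    rw [← this, mul_inv_cancel_right]
  have hbF'' : ∀ f ∈ F, b⁻¹ * f * b = f := by
    intro f hf
    have := mem_centralizer_singleton_iff.mp (hbF hf)
    rw [mul_assoc, this, inv_mul_cancel_left]
  intro x hx
  have hcH : ⁅b, x⁆ ∈ H := by
    rw [commutatorElement_def]
    have h1 : b * x * b⁻¹ ∈ H := hHn.conj_mem x hx b
    exact H.mul_mem h1 (H.inv_mem hx)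
  have hcF : ⁅b, x⁆ ∈ F := by
    apply hCF _ hcH
    intro f hf
    have h1 : x⁻¹ * f * x ∈ F := by
      have := hFn.conj_mem f hf x⁻¹
      rwa [inv_inv] at this
    have h2 : ⁅b, x⁆ * f * ⁅b, x⁆⁻¹ = f := by
      calc ⁅b, x⁆ * f * ⁅b, x⁆⁻¹ = b * (x * (b⁻¹ * (x⁻¹ * f * x) * b) * x⁻¹) * b⁻¹ := by
            rw [commutatorElement_def]; group
        _ = b * (x * (x⁻¹ * f * x) * x⁻¹) * b⁻¹ := by rw [hbF'' _ h1]
        _ = b * f * b⁻¹ := by group
        _ = f := hbF' f hf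
    calc ⁅b, x⁆ * f = (⁅b, x⁆ * f * ⁅b, x⁆⁻¹) * ⁅b, x⁆ := by group
      _ = f * ⁅b, x⁆ := by rw [h2]
  have hcomm : b * ⁅b, x⁆ = ⁅b, x⁆ * b := (mem_centralizer_singleton_iff.mp (hbF hcF)).symm
  have hcp : ⁅b, x⁆ ^ p = 1 := comm_pow_eq_one b hbp x hcomm
  have hc1 : ⁅b, x⁆ = 1 := by
    have h1 : orderOf (⟨⁅b, x⁆, hcH⟩ : ↥H) ∣ p := by
      apply orderOf_dvd_of_pow_eq_one
      apply Subtype.ext
      simpa using hcp
    have h2 : orderOf (⟨⁅b, x⁆, hcH⟩ : ↥H) ∣ Nat.card H := orderOf_dvd_natCard _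
    have h3 : orderOf (⟨⁅b, x⁆, hcH⟩ : ↥H) = 1 := Nat.eq_one_of_dvd_coprimes hcop h1 h2
    have h4 := orderOf_eq_one_iff.mp h3
    exact congrArg Subtype.val h4
  exact commutatorElement_eq_one_iff_mul_comm.mp hc1

end Cfsg.Agent.Lib.Helper23.SG
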