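import Mathlib
import Cfsg.Agent.Lib.Helper23.SG7
import Cfsg.Agent.Lib.Helper23.WardK

/-!
# helper23: Shult–Gross, part 8: proposition N and the internal induction
-/

set_option autoImplicit false
set_option linter.unusedSectionVars false
set_option linter.style.haveILetI false

namespace Cfsg.Agent.Lib.Helper23.SG

open Module Subgroup
open Cfsg.Agent.Lib.Helper23.Ward
open Cfsg.Agent.Lib.Helper23.S3 (lift_of_pow)
open Cfsg.Agent.Lib.Helper17.ESMod (bcRep bcRep_apply bcRep_eq_one bcRep_fix)
open scoped commutatorElement TensorProduct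

universe u

/-- the hypotheses of the Shult–Gross theorem, internally: `a` of order dividing `p ^ (n + 1)`
acts without fixed points on the solvable normal `p'`-subgroup `G`. -/
structure GH (Γ : Type*) [Group Γ] (p n : ℕ) (G : Subgroup Γ) (a : Γ) : Prop where
  hp : p.Prime
  hp2 : p ≠ 2
  hGn : G.Normal
  hΓs : Group.IsSolvable Γ
  han : a ^ (p ^ (n + 1)) = 1
  hcop : p.Coprime (Nat.card G)
  hf : ∀ g ∈ G, a * g = g * a → g = 1

/-- the hypotheses pass to quotients by normal subgroups inside `G` -/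
theorem GH.quot {Γ : Type*} [Group Γ] [Finite Γ] {p n : ℕ} {G : Subgroup Γ} {a : Γ}
    (h : GH Γ p n G a) (X : Subgroup Γ) [hXn : X.Normal] (hXG : X ≤ G) :
    GH (Γ ⧸ X) p n (G.map (QuotientGroup.mk' X)) (QuotientGroup.mk' X a) := by
  have hπs : Function.Surjective (QuotientGroup.mk' X) := QuotientGroup.mk'_surjective X
  have hcopX : (Nat.card X).Coprime (p ^ (n + 1)) := by
    apply Nat.Coprime.pow_right
    exact (Nat.Coprime.coprime_dvd_right (Subgroup.card_dvd_of_le hXG) h.hcop).symm
  refine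
    { hp := h.hp
      hp2 := h.hp2
      hGn := h.hGn.map _ hπs
      hΓs := ?_
      han := ?_
      hcop := ?_
      hf := ?_ }
  · have := h.hΓs
    infer_instance
  · rw [← map_pow, h.han, map_one]
  · have h2 : Nat.card (G.map (QuotientGroup.mk' X)) ∣ Nat.card G := Subgroup.card_map_dvd _ _
    exact Nat.Coprime.coprime_dvd_right h2 h.hcop
  · rintro _ ⟨g, hg, rfl⟩ hcent
    have hx : g⁻¹ * (a * g * a⁻¹) ∈ X := by
      rw [← QuotientGroup.eq_one_iff]
      show QuotientGroup.mk' X (g⁻¹ * (a * g * a⁻¹)) = 1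
      rw [map_mul, map_mul, map_mul, map_inv, map_inv, hcent]
      group
    obtain ⟨n', hn', hc⟩ := lift_of_pow h.han (fun l hl => hXn.conj_mem l hl a) hcopX hx
    have h1 : g * n' = 1 := h.hf _ (G.mul_mem hg (hXG hn')) hc
    have h2 : g = n'⁻¹ := eq_inv_of_mul_eq_one_left h1
    rw [h2]
    exact (QuotientGroup.eq_one_iff _).mpr (X.inv_mem hn')

/-- **Proposition N**: `a ^ (p ^ n)` acts trivially on `G / C_G(M)` for a minimal normal subgroup
`M` of `Γ` in `G`. -/
theorem propN {Γ : Type u} [Group Γ] [Finite Γ] {p n : ℕ} {G : Subgroup Γ} {a : Γ}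
    (h : GH Γ p n G a) {M : Subgroup Γ} (hM : Cfsg.Agent.Lib.Helper1.IsMinNormal M)
    (hMG : M ≤ G) : ∀ g ∈ G, ⁅a ^ (p ^ n), g⁆ ∈ centralizer (M : Set Γ) := by
  have hΓs := h.hΓs
  have hMn : M.Normal := hM.1
  have hGn := h.hGn
  have hMc : IsMulCommutative M := hM.isMulCommutative
  obtain ⟨r, hr, hMr⟩ := hM.exists_prime_pow_eq_one
  have : Fact r.Prime := ⟨hr⟩
  have hMpg : IsPGroup r ↥M := fun x => ⟨1, by
    rw [pow_one]; exact Subtype.ext (by simpa using hMr x x.2)⟩
  have hrM : r ∣ Nat.card ↥M := by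
    obtain ⟨n, hn⟩ := IsPGroup.iff_card.mp hMpg
    rcases n with _ | n
    · exfalso
      rw [pow_zero] at hn
      have := Subgroup.card_eq_one.mp hn
      exact hM.2.1 this
    · rw [hn]
      exact dvd_pow_self r (Nat.succ_ne_zero n)
  have hrp : p ≠ r := by
    intro e
    have h1 : r ∣ Nat.card G := hrM.trans (Subgroup.card_dvd_of_le hMG)
    have h3 : r ∣ Nat.gcd p (Nat.card G) := Nat.dvd_gcd (e ▸ dvd_rfl) h1
    rw [Nat.Coprime.gcd_eq_one h.hcop] at h3
    exact hr.one_lt.ne' (Nat.dvd_one.mp h3)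
  -- the conjugation action
  have hφ : ∀ (g : Γ) (m : ↥M), ((MulAut.conjNormal g m : ↥M) : Γ) = g * m * g⁻¹ :=
    fun g m => MulAut.conjNormal_apply g m
  have hcent : ∀ g : Γ, (∀ m : ↥M, MulAut.conjNormal g m = m) → g ∈ centralizer (M : Set Γ) := by
    intro g hg
    rw [mem_centralizer_iff]
    intro m hm
    have h1 := congrArg Subtype.val (hg ⟨m, hm⟩)
    rw [hφ] at h1
    simp only at h1
    calc m * g = (g * m * g⁻¹) * g := by rw [h1]
      _ = g * m := by group
  set X : Subgroup Γ := G ⊓ centralizer (M : Set Γ) with hX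
  have hXn : X.Normal := inferInstance
  have hXker : X ≤ (MulAut.conjNormal : Γ →* MulAut ↥M).ker := by
    intro x hx
    rw [MonoidHom.mem_ker]
    ext m
    rw [hφ, MulAut.one_apply]
    have h1 := (mem_centralizer_iff.mp hx.2) m m.2
    rw [← h1]
    group
  set ψ : Γ ⧸ X →* MulAut ↥M := QuotientGroup.lift X MulAut.conjNormal hXker with hψdef
  have hψ : ∀ g : Γ, ψ (QuotientGroup.mk' X g) = MulAut.conjNormal g := fun g => rfl
  obtain ⟨W, iA, iM, iF, ρ₀, e, he, he1⟩ := exists_rep_of_aut (T := Γ ⧸ X) (r := r) (E := ↥M)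
    (fun a b => Subtype.ext (setLike_mul_comm a.2 b.2))
    (fun a => Subtype.ext (by simpa using hMr a a.2)) ψ
  have hGH := h.quot X inf_le_left
  have hΓs' := hGH.hΓs
  have hpK : (p : AlgebraicClosure (ZMod r)) ≠ 0 := fun h0 =>
    hrp (natCast_algClosure_eq_zero h.hp h0)
  have hcentb : ∀ x' ∈ G.map (QuotientGroup.mk' X),
      QuotientGroup.mk' X a ^ (p ^ n) * x' = x' * QuotientGroup.mk' X a ^ (p ^ n) := by
    apply nf (K := AlgebraicClosure (ZMod r)) (V := AlgebraicClosure (ZMod r) ⊗[ZMod r] W)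
      hGH.hp hGH.hp2 hGH.hGn hGH.han hGH.hcop hGH.hf (bcRep (AlgebraicClosure (ZMod r)) ρ₀)
    · -- faithful
      rintro _ ⟨g, hg, rfl⟩ h1
      rw [bcRep_eq_one_iff] at h1
      have h2 : g ∈ centralizer (M : Set Γ) := by
        apply hcent
        intro m
        have h3 := he (QuotientGroup.mk' X g) m
        rw [h1, Module.End.one_apply] at h3
        have h4 := e.injective h3
        rw [hψ] at h4
        exact h4.symm
      exact (QuotientGroup.eq_one_iff g).mpr ⟨hg, h2⟩
    · -- fixed points on V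
      apply bcRep_fix (AlgebraicClosure (ZMod r)) ρ₀ (QuotientGroup.mk' X a)
      intro w hw
      obtain ⟨m, rfl⟩ := e.surjective w
      rw [he] at hw
      have h3 := e.injective hw
      rw [hψ] at h3
      have h4 := congrArg Subtype.val h3
      rw [hφ] at h4
      have h1 : a * (m : Γ) = (m : Γ) * a := by
        calc a * (m : Γ) = (a * m * a⁻¹) * a := by group
          _ = (m : Γ) * a := by rw [h4]
      have h5 : (m : Γ) = 1 := h.hf _ (hMG m.2) h1
      have h6 : m = 1 := Subtype.ext h5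
      rw [h6, he1]
    · exact hpK
    · -- O_r = 1
      intro q hq hqK R' hR'G hR'n hR'q
      have hqr : q = r := natCast_algClosure_eq_zero hq hqK
      subst hqr
      obtain ⟨m, hm1, hmfix⟩ := exists_fixed_of_pgroup ψ R' hR'q hrM
      have hRn : (R'.comap (QuotientGroup.mk' X)).Normal := hR'n.comap _
      set C : Subgroup Γ := M ⊓ centralizer ((R'.comap (QuotientGroup.mk' X) : Subgroup Γ) : Set Γ)
        with hC
      have hCn : C.Normal := inferInstance
      have hmC : (m : Γ) ∈ C := by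
        refine ⟨m.2, ?_⟩
        show (m : Γ) ∈ centralizer ((R'.comap (QuotientGroup.mk' X) : Subgroup Γ) : Set Γ)
        rw [mem_centralizer_iff]
        intro g hg
        have h1 := hmfix _ hg
        rw [hψ] at h1
        have h2 := congrArg Subtype.val h1
        rw [hφ] at h2
        calc g * (m : Γ) = (g * m * g⁻¹) * g := by group
          _ = (m : Γ) * g := by rw [h2]
      have hCM : C = M := by
        rcases hM.2.2 C hCn inf_le_left with h0 | h0
        · exfalso
          rw [h0, Subgroup.mem_bot] at hmC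
          exact hm1 (Subtype.ext hmC)
        · exact h0
      have hMc' : M ≤ centralizer ((R'.comap (QuotientGroup.mk' X) : Subgroup Γ) : Set Γ) := by
        rw [← hCM]
        exact inf_le_right
      have hRc : R'.comap (QuotientGroup.mk' X) ≤ centralizer (M : Set Γ) :=
        Subgroup.le_centralizer_iff.mp hMc'
      rw [eq_bot_iff]
      intro x' hx'
      obtain ⟨g, rfl⟩ := QuotientGroup.mk'_surjective X x'
      have hgR : g ∈ R'.comap (QuotientGroup.mk' X) := hx'
      obtain ⟨g₀, hg₀, hg₀g⟩ := hR'G hx'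
      have h2 : g₀⁻¹ * g ∈ X := by
        rw [← QuotientGroup.eq_one_iff]
        show QuotientGroup.mk' X (g₀⁻¹ * g) = 1
        rw [map_mul, map_inv, hg₀g, inv_mul_cancel]
      have hgG : g ∈ G := by
        have e' : g = g₀ * (g₀⁻¹ * g) := by group
        rw [e']
        exact G.mul_mem hg₀ h2.1
      rw [Subgroup.mem_bot]
      exact (QuotientGroup.eq_one_iff g).mpr ⟨hgG, hRc hgR⟩
  intro g hg
  have h1 := hcentb _ (Subgroup.mem_map_of_mem (QuotientGroup.mk' X) hg)
  have h2 : QuotientGroup.mk' X ⁅a ^ (p ^ n), g⁆ = 1 := by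
    rw [map_commutatorElement, map_pow, commutatorElement_eq_one_iff_mul_comm]
    exact h1
  exact ((QuotientGroup.eq_one_iff _).mp h2).2

/-- **the Shult–Gross theorem**, internal form: there is a nilpotent normal subgroup `N ≤ G` of
`Γ` such that `a ^ (p ^ n)` acts trivially on `G / N`. -/
theorem gross_internal : ∀ (k : ℕ) (Γ : Type u) [Group Γ] [Finite Γ] (p n : ℕ) (G : Subgroup Γ)
    (a : Γ), GH Γ p n G a → Nat.card G = k →
    ∃ N : Subgroup Γ, N ≤ G ∧ N.Normal ∧ (∃ j, N.lowerCentralSeries j = ⊥) ∧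
      ∀ g ∈ G, ⁅a ^ (p ^ n), g⁆ ∈ N := by
  intro k
  induction k using Nat.strong_induction_on with
  | _ k ih =>
    intro Γ _ _ p n G a h hk
    by_cases hG1 : G = ⊥
    · refine ⟨⊥, bot_le, inferInstance, ⟨0, rfl⟩, ?_⟩
      intro g hg
      rw [hG1, Subgroup.mem_bot] at hg
      rw [hg, Subgroup.mem_bot, commutatorElement_def]
      group
    have hGn := h.hGn
    obtain ⟨M, hM, hMG⟩ := Cfsg.Agent.Lib.Helper1.exists_isMinNormal_le G hGn hG1
    have hMn := hM.1
    have hGH := h.quot M hMG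
    have hπs : Function.Surjective (QuotientGroup.mk' M) := QuotientGroup.mk'_surjective M
    have hcard : Nat.card M * Nat.card (G.map (QuotientGroup.mk' M)) = Nat.card G := by
      have h1 := Subgroup.relIndex_mul_relIndex (⊥ : Subgroup Γ) M G bot_le hMG
      rw [Subgroup.relIndex_bot_left, Subgroup.relIndex_bot_left] at h1
      have e : M = (⊥ : Subgroup (Γ ⧸ M)).comap (QuotientGroup.mk' M) := by
        rw [MonoidHom.comap_bot, QuotientGroup.ker_mk']
      have h2 : M.relIndex G = Nat.card (G.map (QuotientGroup.mk' M)) := by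
        conv_lhs => rw [e]
        rw [Subgroup.relIndex_comap, Subgroup.relIndex_bot_left]
      rw [← h2]
      exact h1
    have hM1 : 1 < Nat.card M := by
      rw [Subgroup.one_lt_card_iff_ne_bot]
      exact hM.2.1
    have hlt : Nat.card (G.map (QuotientGroup.mk' M)) < k := by
      rw [← hk, ← hcard]
      have hpos : 0 < Nat.card (G.map (QuotientGroup.mk' M)) := Nat.card_pos
      nlinarith
    obtain ⟨Nb, hNbG, hNbn, ⟨k₁, hk₁⟩, hNb⟩ :=
      ih _ hlt (Γ ⧸ M) p n (G.map (QuotientGroup.mk' M)) (QuotientGroup.mk' M a) hGH rfl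
    have hj := propN h hM hMG
    have hN₁n : (Nb.comap (QuotientGroup.mk' M)).Normal := hNbn.comap _
    have hN₁G : Nb.comap (QuotientGroup.mk' M) ≤ G := by
      intro x hx
      obtain ⟨g, hg, hgx⟩ := hNbG hx
      have h2 : g⁻¹ * x ∈ M := by
        rw [← QuotientGroup.eq_one_iff]
        show QuotientGroup.mk' M (g⁻¹ * x) = 1
        rw [map_mul, map_inv, hgx, inv_mul_cancel]
      have e' : x = g * (g⁻¹ * x) := by group
      rw [e']
      exact G.mul_mem hg (hMG h2)
    -- `γ_{k₁}(N₁) ≤ M`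
    have hlcs₁ : (Nb.comap (QuotientGroup.mk' M)).lowerCentralSeries k₁ ≤ M := by
      intro x hx
      have h1 : QuotientGroup.mk' M x ∈
          ((Nb.comap (QuotientGroup.mk' M)).lowerCentralSeries k₁).map (QuotientGroup.mk' M) :=
        Subgroup.mem_map_of_mem _ hx
      rw [map_lowerCentralSeries, Subgroup.map_comap_eq_self_of_surjective hπs, hk₁,
        Subgroup.mem_bot] at h1
      exact (QuotientGroup.eq_one_iff x).mp h1
    refine ⟨Nb.comap (QuotientGroup.mk' M) ⊓ centralizer (M : Set Γ), inf_le_left.trans hN₁G,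
      inferInstance, ⟨k₁ + 1, ?_⟩, ?_⟩
    · rw [Subgroup.lowerCentralSeries_succ, eq_bot_iff]
      have h1 : (Nb.comap (QuotientGroup.mk' M) ⊓ centralizer (M : Set Γ)).lowerCentralSeries k₁
          ≤ M := (lcs_mono inf_le_left k₁).trans hlcs₁
      have h2 : ⁅M, centralizer (M : Set Γ)⁆ = ⊥ := by
        rw [Subgroup.commutator_eq_bot_iff_le_centralizer]
        exact Subgroup.le_centralizer_iff.mp le_rfl
      rw [← h2]
      exact Subgroup.commutator_mono h1 inf_le_right
    · intro g hg
      refine ⟨?_, hj g hg⟩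
      show QuotientGroup.mk' M ⁅a ^ (p ^ n), g⁆ ∈ Nb
      rw [map_commutatorElement, map_pow]
      exact hNb _ (Subgroup.mem_map_of_mem (QuotientGroup.mk' M) hg)

end Cfsg.Agent.Lib.Helper23.SG
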