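import Mathlib
import Cfsg.Agent.Lib.Helper23.SG8
import Cfsg.Agent.Lib.Helper20.ActionBridge

/-!
# helper23: Shult–Gross, part 9: from automorphisms to the internal statement, outer induction
-/

set_option autoImplicit false
set_option linter.unusedSectionVars false
set_option linter.style.haveILetI false

namespace Cfsg.Agent.Lib.Helper23.SG

open Module Subgroup
open Cfsg.Agent.Lib.Helper23.Ward
open Cfsg.Agent.Lib.Helper23.S3 (lift_of_pow)
open Cfsg.Agent.Lib.Helper20
open scoped commutatorElement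

universe u

/-- **one step**: a fixed-point-free automorphism `σ` with `σ ^ (p ^ (n + 1)) = 1` of a finite
solvable group has an invariant nilpotent normal subgroup `N₀` such that `σ ^ (p ^ n)` is trivial
on `G / N₀` and `σ` is fixed-point-free on `G / N₀`. -/
theorem gross_step {p : ℕ} (hp : p.Prime) (hp2 : p ≠ 2) {G : Type u} [Group G] [Finite G]
    (hG : Group.IsSolvable G) (σ : MulAut G) (n : ℕ) (hσ : σ ^ (p ^ (n + 1)) = 1)
    (hfpf : ∀ g : G, σ g = g → g = 1) :
    ∃ N₀ : Subgroup G, N₀.Normal ∧ (∃ j, N₀.lowerCentralSeries j = ⊥) ∧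
      (∀ x ∈ N₀, σ x ∈ N₀) ∧ (∀ g : G, (σ ^ (p ^ n)) g * g⁻¹ ∈ N₀) ∧
      (∀ g : G, g⁻¹ * σ g ∈ N₀ → g ∈ N₀) := by
  classical
  have : Fact p.Prime := ⟨hp⟩
  set A : Subgroup (MulAut G) := zpowers σ with hA
  have hAcomm : ∀ x y : ↥A, x * y = y * x := by
    rintro ⟨_, ⟨i, rfl⟩⟩ ⟨_, ⟨j, rfl⟩⟩
    apply Subtype.ext
    exact zpow_mul_comm σ i j
  have hApow : ∀ x : ↥A, x ^ (p ^ (n + 1)) = 1 := by
    rintro ⟨_, ⟨i, rfl⟩⟩
    apply Subtype.ext
    show (σ ^ i) ^ (p ^ (n + 1)) = 1
    rw [← zpow_natCast, ← zpow_mul, mul_comm, zpow_mul, zpow_natCast, hσ, one_zpow]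
  have hApg : IsPGroup p ↥A := fun x => ⟨n + 1, hApow x⟩
  -- coprimality
  have hfix : MulAction.fixedPoints ↥A G = {1} := by
    ext g
    constructor
    · intro hg
      have : g = 1 := hfpf g (hg ⟨σ, mem_zpowers σ⟩)
      exact this
    · intro hg
      rw [Set.mem_singleton_iff] at hg
      intro a
      rw [hg]
      exact smul_one a
  have hmod := hApg.card_modEq_card_fixedPoints G
  have hcop : p.Coprime (Nat.card G) := by
    rw [Nat.Prime.coprime_iff_not_dvd hp]
    intro hdvd
    have hc1 : Nat.card (MulAction.fixedPoints ↥A G) = 1 := by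
      rw [hfix]
      simp
    rw [hc1] at hmod
    have h1 : Nat.card G % p = 0 := Nat.mod_eq_zero_of_dvd hdvd
    have h2 : Nat.card G % p = 1 % p := hmod
    rw [h1, Nat.mod_eq_of_lt hp.one_lt] at h2
    exact absurd h2 (by norm_num)
  -- the semidirect product
  have hsolv : Group.IsSolvable (Sd ↥A G) := by
    have : Group.IsSolvable ↥A := Group.isSolvable_of_comm hAcomm
    exact Group.isSolvable_of_ker_le_range (SemidirectProduct.inl : G →* Sd ↥A G)
      (SemidirectProduct.rightHom : Sd ↥A G →* ↥A)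
      (by rw [SemidirectProduct.range_inl_eq_ker_rightHom])
  set s : ↥A := ⟨σ, mem_zpowers σ⟩ with hs
  set a : Sd ↥A G := SemidirectProduct.inr s with ha
  have hconj : ∀ (k : ℕ) (g : G), a ^ k * SemidirectProduct.inl g * (a ^ k)⁻¹ =
      SemidirectProduct.inl ((σ ^ k) g) := by
    intro k g
    rw [ha, ← map_pow, ← sd_inl_smul]
    rfl
  have hconj1 : ∀ g : G, a * SemidirectProduct.inl g * a⁻¹ = SemidirectProduct.inl (σ g) := by
    intro g
    have := hconj 1 g
    rwa [pow_one, pow_one] at this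
  have hinj : Function.Injective (SemidirectProduct.inl : G →* Sd ↥A G) :=
    SemidirectProduct.inl_injective
  have hGH : GH (Sd ↥A G) p n (sdG ↥A G) a :=
    { hp := hp
      hp2 := hp2
      hGn := inferInstance
      hΓs := hsolv
      han := by rw [ha, ← map_pow, hApow, map_one]
      hcop := by rw [card_sdG]; exact hcop
      hf := by
        rintro _ ⟨g, rfl⟩ hc
        have h1 : a * SemidirectProduct.inl g * a⁻¹ = SemidirectProduct.inl g := by
          rw [hc, mul_inv_cancel_right]
        rw [hconj1] at h1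
        have h3 : g = 1 := hfpf g (hinj h1)
        rw [h3, map_one] }
  obtain ⟨N', hN'G, hN'n, ⟨k₁, hk₁⟩, hN'b⟩ :=
    gross_internal _ (Sd ↥A G) p n (sdG ↥A G) a hGH rfl
  set N : Subgroup G := N'.comap (SemidirectProduct.inl : G →* Sd ↥A G) with hN
  have hNn : N.Normal := hN'n.comap _
  have hmapN : N.map (SemidirectProduct.inl : G →* Sd ↥A G) ≤ N' := Subgroup.map_comap_le _ _
  have hlcsN : N.lowerCentralSeries k₁ = ⊥ := by
    rw [eq_bot_iff]
    intro x hx
    have h1 : (SemidirectProduct.inl x : Sd ↥A G) ∈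
        (N.lowerCentralSeries k₁).map (SemidirectProduct.inl : G →* Sd ↥A G) :=
      Subgroup.mem_map_of_mem _ hx
    rw [Subgroup.map_lowerCentralSeries] at h1
    have h2 := lcs_mono hmapN k₁ h1
    rw [hk₁, Subgroup.mem_bot] at h2
    rw [Subgroup.mem_bot]
    exact hinj (by rw [h2, map_one])
  refine ⟨N, hNn, ⟨k₁, hlcsN⟩, ?_, ?_, ?_⟩
  · intro x hx
    show SemidirectProduct.inl (σ x) ∈ N'
    rw [← hconj1]
    exact hN'n.conj_mem _ hx a
  · intro g
    show SemidirectProduct.inl ((σ ^ (p ^ n)) g * g⁻¹) ∈ N'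
    have h1 := hN'b (SemidirectProduct.inl g) ⟨g, rfl⟩
    rw [commutatorElement_def, hconj, ← map_inv, ← map_mul] at h1
    exact h1
  · intro g hg
    have hx : (SemidirectProduct.inl g : Sd ↥A G)⁻¹ *
        (a * SemidirectProduct.inl g * a⁻¹) ∈ N' := by
      rw [hconj1, ← map_inv, ← map_mul]
      exact hg
    have hcopN : (Nat.card N').Coprime (p ^ (n + 1)) := by
      apply Nat.Coprime.pow_right
      exact (Nat.Coprime.coprime_dvd_right (Subgroup.card_dvd_of_le hN'G) hGH.hcop).symm
    obtain ⟨n', hn', hc⟩ := lift_of_pow hGH.han (fun l hl => hN'n.conj_mem l hl a) hcopN hx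
    have h1 : SemidirectProduct.inl g * n' = 1 :=
      hGH.hf _ ((sdG ↥A G).mul_mem ⟨g, rfl⟩ (hN'G hn')) hc
    have h2 : (SemidirectProduct.inl g : Sd ↥A G) = n'⁻¹ := eq_inv_of_mul_eq_one_left h1
    show SemidirectProduct.inl g ∈ N'
    rw [h2]
    exact N'.inv_mem hn'

/-- **the Shult–Gross theorem**: a finite solvable group with a fixed-point-free automorphism of
odd prime power order dividing `p ^ n` has Fitting height at most `n`. -/
theorem gross_outer {p : ℕ} (hp : p.Prime) (hp2 : p ≠ 2) : ∀ (n : ℕ) (G : Type u) [Group G]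
    [Finite G], Group.IsSolvable G → ∀ σ : MulAut G, σ ^ (p ^ n) = 1 →
    (∀ g : G, σ g = g → g = 1) →
    ∃ F : Fin (n + 1) → Subgroup G, F 0 = ⊥ ∧ F (Fin.last n) = ⊤ ∧ Monotone F ∧
      (∀ i, (F i).Normal) ∧
      ∀ i : Fin n, ∃ k : ℕ, (F i.succ).lowerCentralSeries k ≤ F i.castSucc := by
  intro n
  induction n with
  | zero =>
    intro G _ _ hG σ hσ hfpf
    rw [pow_zero, pow_one] at hσ
    have hsub : ∀ g : G, g = 1 := fun g => hfpf g (by rw [hσ]; rfl)
    have hbt : (⊥ : Subgroup G) = ⊤ := by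
      rw [eq_top_iff]
      intro g _
      rw [hsub g]
      exact Subgroup.one_mem _
    refine ⟨fun _ => ⊥, rfl, hbt, fun _ _ _ => le_rfl, fun _ => inferInstance, ?_⟩
    intro i
    exact i.elim0
  | succ n ih =>
    intro G _ _ hG σ hσ hfpf
    obtain ⟨N₀, hN₀n, ⟨j₀, hj₀⟩, hinv, htriv, hfq⟩ := gross_step hp hp2 hG σ n hσ hfpf
    haveI := hN₀n
    -- the induced automorphism
    have hmap : N₀.map (σ : G ≃* G).toMonoidHom = N₀ := by
      apply Subgroup.eq_of_le_of_card_ge
      · rintro _ ⟨x, hx, rfl⟩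
        exact hinv x hx
      · apply le_of_eq
        exact (Nat.card_congr (N₀.equivMapOfInjective (σ : G ≃* G).toMonoidHom
          (σ : G ≃* G).injective).toEquiv)
    set τ : MulAut (G ⧸ N₀) := QuotientGroup.congr N₀ N₀ σ hmap with hτ
    have hτmk : ∀ g : G, τ (QuotientGroup.mk' N₀ g) = QuotientGroup.mk' N₀ (σ g) := by
      intro g
      rfl
    have hτpow : ∀ (k : ℕ) (g : G),
        (τ ^ k) (QuotientGroup.mk' N₀ g) = QuotientGroup.mk' N₀ ((σ ^ k) g) := by
      intro k
      induction k with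
      | zero => intro g; rfl
      | succ k ihk =>
        intro g
        rw [pow_succ', pow_succ', MulAut.mul_apply, MulAut.mul_apply, ihk, hτmk]
    have hτn : τ ^ (p ^ n) = 1 := by
      ext x
      obtain ⟨g, rfl⟩ := QuotientGroup.mk'_surjective N₀ x
      rw [hτpow, MulAut.one_apply]
      have h1 := (QuotientGroup.eq_one_iff (N := N₀) _).mpr (htriv g)
      have h2 : QuotientGroup.mk' N₀ ((σ ^ (p ^ n)) g) * (QuotientGroup.mk' N₀ g)⁻¹ = 1 := by
        rw [← map_inv, ← map_mul]
        exact h1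
      exact mul_inv_eq_one.mp h2
    have hτf : ∀ x : G ⧸ N₀, τ x = x → x = 1 := by
      intro x hx
      obtain ⟨g, rfl⟩ := QuotientGroup.mk'_surjective N₀ x
      rw [hτmk] at hx
      have h1 : g⁻¹ * σ g ∈ N₀ := by
        rw [← QuotientGroup.eq_one_iff]
        show QuotientGroup.mk' N₀ (g⁻¹ * σ g) = 1
        rw [map_mul, map_inv, hx, inv_mul_cancel]
      exact (QuotientGroup.eq_one_iff g).mpr (hfq g h1)
    have hGq : Group.IsSolvable (G ⧸ N₀) := inferInstance
    obtain ⟨Fb, hFb0, hFbl, hFbm, hFbn, hFbc⟩ := ih (G ⧸ N₀) hGq τ hτn hτf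
    have hπs : Function.Surjective (QuotientGroup.mk' N₀) := QuotientGroup.mk'_surjective N₀
    refine ⟨Fin.cons ⊥ (fun i => (Fb i).comap (QuotientGroup.mk' N₀)), ?_, ?_, ?_, ?_, ?_⟩
    · rfl
    · rw [← Fin.succ_last, Fin.cons_succ, hFbl, Subgroup.comap_top]
    · intro i j hij
      induction i using Fin.cases with
      | zero => rw [Fin.cons_zero]; exact bot_le
      | succ i =>
        induction j using Fin.cases with
        | zero => exact absurd hij (by simp)
        | succ j =>
          simp only [Fin.cons_succ]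
          exact Subgroup.comap_mono (hFbm (Fin.succ_le_succ_iff.mp hij))
    · intro i
      induction i using Fin.cases with
      | zero => rw [Fin.cons_zero]; infer_instance
      | succ i =>
        simp only [Fin.cons_succ]
        exact (hFbn i).comap _
    · intro i
      induction i using Fin.cases with
      | zero =>
        refine ⟨j₀, ?_⟩
        have e1 : (Fin.cons ⊥ (fun i => (Fb i).comap (QuotientGroup.mk' N₀)) :
            Fin (n + 1 + 1) → Subgroup G) (Fin.succ 0) = N₀ := by
          rw [Fin.cons_succ, hFb0, MonoidHom.comap_bot, QuotientGroup.ker_mk']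
        rw [e1, hj₀]
        exact bot_le
      | succ i =>
        obtain ⟨k, hk⟩ := hFbc i
        refine ⟨k, ?_⟩
        rw [← Fin.succ_castSucc, Fin.cons_succ, Fin.cons_succ]
        intro x hx
        have h1 : QuotientGroup.mk' N₀ x ∈
            (((Fb i.succ).comap (QuotientGroup.mk' N₀)).lowerCentralSeries k).map
              (QuotientGroup.mk' N₀) := Subgroup.mem_map_of_mem _ hx
        rw [map_lowerCentralSeries, Subgroup.map_comap_eq_self_of_surjective hπs] at h1
        exact hk h1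

end Cfsg.Agent.Lib.Helper23.SG
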