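import Mathlib
import Cfsg.Agent.Lib.Helper23.SG6b

/-!
# helper23: Gross' theorem for `p = 2`, part 1: Lemma S for abelian groups and for order four,
extraction of minimal configurations, the structure `HC`
-/

set_option autoImplicit false
set_option linter.unusedSectionVars false
set_option linter.style.haveILetI false

namespace Cfsg.Agent.Lib.Helper23.SG

open Module Subgroup
open Cfsg.Agent.Lib.Helper23.Ward
open Cfsg.Agent.Lib.Helper23.PQ (conj_mem_commutator mem_stab_of_cent)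
open Cfsg.Agent.Lib.Helper23.PQ.MinCE (Zc mem_Zc Zc_le conj_mem_Zc Zc_comm)
open Cfsg.Agent.Lib.Helper23.S3 (rho_mul_apply mem_normalizer_of_conj_mem conj_inv_mem_of_finite
  lift_of_pow)
open scoped commutatorElement

universe u

variable {K : Type*} [Field K] {Γ : Type*} [Group Γ] [Finite Γ] {V : Type u} [AddCommGroup V]
  [Module K V]

namespace SH

variable {ρ : Representation K Γ V} {p n q : ℕ} {a : Γ} {Q : Subgroup Γ}

/-- **Lemma S for abelian groups** (any `p`) -/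
theorem cent_of_comm [IsAlgClosed K] [FiniteDimensional K V] (h : SH ρ p n q a Q) (hab : ∀ x ∈ Q, ∀ y ∈ Q, x * y = y * x) :
    ∀ x ∈ Q, a ^ (p ^ n) * x = x * a ^ (p ^ n) := by
  have h1 := sab ρ ⊤ a (s := n + 1) h.hp h.han (fun u _ => Submodule.mem_top) Q
    (mem_normalizer_of_conj_mem h.haQ) (fun y _ u _ => Submodule.mem_top)
    (fun y hy y' hy' u _ => by
      rw [← rho_mul_apply, ← rho_mul_apply, hab y hy y' hy'])
    (h.card_ne_zero le_rfl) (fun u _ hu => h.hfV u hu)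
  intro x hx
  have h2 : ρ ⁅x, a ^ (p ^ n)⁆ = 1 := by
    apply LinearMap.ext
    intro u
    have := h1 x hx u Submodule.mem_top
    rw [Nat.add_sub_cancel] at this
    exact this
  have h3 : ⁅x, a ^ (p ^ n)⁆ ∈ Q := by
    have e' : ⁅x, a ^ (p ^ n)⁆ = x * (a ^ (p ^ n) * x⁻¹ * (a ^ (p ^ n))⁻¹) := by
      rw [commutatorElement_def]; group
    rw [e']
    exact Q.mul_mem hx (h.bQ _ (Q.inv_mem hx))
  have h4 := h.hfaith _ h3 h2
  exact (commutatorElement_eq_one_iff_mul_comm.mp h4).symm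

/-- a group not centralised by `b` contains a minimal configuration -/
theorem exists_MC_aux : ∀ (k : ℕ) (Q : Subgroup Γ), Nat.card Q = k → SH ρ p n q a Q →
    (∃ x ∈ Q, a ^ (p ^ n) * x ≠ x * a ^ (p ^ n)) →
    ∃ Q' : Subgroup Γ, Q' ≤ Q ∧ MC ρ p n q a Q' := by
  intro k
  induction k using Nat.strong_induction_on with
  | _ k ih =>
    intro Q hk h hne
    by_cases hmin : ∀ Q' : Subgroup Γ, Q' ≤ Q → Q' ≠ Q → (∀ x ∈ Q', a * x * a⁻¹ ∈ Q') →
        ∀ x ∈ Q', a ^ (p ^ n) * x = x * a ^ (p ^ n)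
    · exact ⟨Q, le_rfl, h, hmin, hne⟩
    · push Not at hmin
      obtain ⟨Q', hle, hneQ, hinv, hne'⟩ := hmin
      have hlt : Nat.card Q' < k := by
        rw [← hk]
        exact lt_of_not_ge (fun h' => hneQ (Subgroup.eq_of_le_of_card_ge hle h'))
      obtain ⟨Q'', hle'', hmc⟩ := ih _ hlt Q' rfl (h.sub hle hinv) hne'
      exact ⟨Q'', hle''.trans hle, hmc⟩

theorem exists_MC (h : SH ρ p n q a Q)
    (hne : ∃ x ∈ Q, a ^ (p ^ n) * x ≠ x * a ^ (p ^ n)) :
    ∃ Q' : Subgroup Γ, Q' ≤ Q ∧ MC ρ p n q a Q' :=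
  exists_MC_aux _ Q rfl h hne

end SH

namespace MC

variable {ρ : Representation K Γ V} {q : ℕ} {a : Γ} {Q : Subgroup Γ}

/-- **there is no minimal configuration for an element of order four** -/
theorem false_of_four [IsAlgClosed K] [FiniteDimensional K V] (c : MC ρ 2 1 q a Q) : False := by
  classical
  obtain ⟨χ, m, w⟩ := c.exists_WT
  have hm := w.hm
  have hcard := w.card_eq c
  rcases Nat.eq_zero_or_pos m with rfl | hm0
  · -- the weight is stable: the product formula kills it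
    obtain ⟨s, hs, t, ht, hst⟩ := w.hs
    have hz := c.class2 s hs t ht
    have h1 := w.prod_cj c hz
    rw [pow_zero, Finset.prod_range_one, pow_zero, cj_apply] at h1
    apply hst
    simpa using h1
  · have hm1 : m = 1 := by omega
    subst hm1
    have h2 : (2 ^ (1 + 1 - 1) - 1) ^ 2 = 1 := by norm_num
    rw [h2, one_mul] at hcard
    apply w.Yr_ne c
    exact Subgroup.eq_of_le_of_card_ge (Yr_le ρ Q χ) (le_of_eq hcard)

end MC

namespace SH

variable {ρ : Representation K Γ V} {q : ℕ} {a : Γ} {Q : Subgroup Γ}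

/-- **Lemma S for an element of order four** -/
theorem cent_four [IsAlgClosed K] [FiniteDimensional K V] (h : SH ρ 2 1 q a Q) :
    ∀ x ∈ Q, a ^ (2 ^ 1) * x = x * a ^ (2 ^ 1) := by
  by_contra hcon
  push Not at hcon
  obtain ⟨Q', -, hmc⟩ := h.exists_MC hcon
  exact hmc.false_of_four

end SH

/-- a configuration of Heisenberg type: class two, semiregular action modulo the centre, `b`
centralising the centre -/
structure HC (ρ : Representation K Γ V) (p n q : ℕ) (a : Γ) (Q : Subgroup Γ) : Prop where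
  sh : SH ρ p n q a Q
  class2 : ∀ s ∈ Q, ∀ t ∈ Q, ⁅s, t⁆ ∈ Zc Q
  semireg : ∀ L : Subgroup Γ, Zc Q ≤ L → L ≤ Q → ∀ e : ℕ, ¬ p ^ (n + 1) ∣ e →
    (∀ l ∈ L, a ^ e * l * (a ^ e)⁻¹ ∈ L) →
    ∀ g ∈ Q, g⁻¹ * (a ^ e * g * (a ^ e)⁻¹) ∈ L → g ∈ L
  b_cent_Z : ∀ z ∈ Zc Q, a ^ (p ^ n) * z = z * a ^ (p ^ n)

theorem MC.toHC {ρ : Representation K Γ V} {p n q : ℕ} {a : Γ} {Q : Subgroup Γ}
    [IsAlgClosed K] [FiniteDimensional K V] (c : MC ρ p n q a Q) : HC ρ p n q a Q where
  sh := c.sh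
  class2 := c.class2
  semireg := fun _ hZL hLQ _ he hL g hg hgL => c.semireg hZL hLQ he hL g hg hgL
  b_cent_Z := c.b_cent_Z

end Cfsg.Agent.Lib.Helper23.SG
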