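import Mathlib
import Cfsg.Agent.Lib.Helper23.SGT1

/-!
# helper23: Gross' theorem for `p = 2`, part 2: eigenvalues of a cyclic group acting on a group of
Heisenberg type
-/

set_option autoImplicit false
set_option linter.unusedSectionVars false
set_option linter.style.haveILetI false

namespace Cfsg.Agent.Lib.Helper23.SG

open Module
open Cfsg.Agent.Lib.Helper17
open Cfsg.Agent.Lib.Helper17.ESMod (commutant mem_commutant finrank_commutant finrank_sq_mul_card
  arith_two exists_pow_of_mem_zpowers)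
open scoped commutatorElement

/-- if `∑ v = ∑ v ^ 2 = r - 1` over `r` indices and `v i₁ = 0`, then all other `v l` are `1` -/
theorem arith_all_one {ι : Type*} [Fintype ι] [DecidableEq ι] (v : ι → ℕ) (i₁ : ι)
    (hv1 : v i₁ = 0) (r : ℕ) (hcard : Fintype.card ι = r) (hsum : ∑ l, v l = r - 1)
    (hsq : ∑ l, (v l) ^ 2 = r - 1) : ∀ l : ι, l ≠ i₁ → v l = 1 := by
  have hle : ∀ l ∈ (Finset.univ : Finset ι), v l ≤ (v l) ^ 2 :=
    fun l _ => Nat.le_self_pow two_ne_zero _
  have heq := (Finset.sum_eq_sum_iff_of_le hle).mp (by rw [hsum, hsq])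
  have h01 : ∀ l, v l ≤ 1 := by
    intro l
    have h := heq l (Finset.mem_univ l)
    by_contra hcon
    push Not at hcon
    nlinarith
  intro l₀ hl₀
  by_contra hcon
  have hv0 : v l₀ = 0 := by have := h01 l₀; omega
  have h2 : ∑ l, v l ≤ (Finset.univ \ {i₁, l₀} : Finset ι).card := by
    have h3 : ∑ l, v l = ∑ l ∈ (Finset.univ \ {i₁, l₀} : Finset ι), v l := by
      symm
      apply Finset.sum_subset (Finset.sdiff_subset)
      intro l _ hl
      rw [Finset.mem_sdiff, not_and_or, not_not] at hl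
      rcases hl with hl | hl
      · exact absurd (Finset.mem_univ l) hl
      · rw [Finset.mem_insert, Finset.mem_singleton] at hl
        rcases hl with rfl | rfl
        · exact hv1
        · exact hv0
    rw [h3]
    calc ∑ l ∈ (Finset.univ \ {i₁, l₀} : Finset ι), v l
        ≤ ∑ _l ∈ (Finset.univ \ {i₁, l₀} : Finset ι), 1 := Finset.sum_le_sum (fun l _ => h01 l)
      _ = (Finset.univ \ {i₁, l₀} : Finset ι).card := by simp
  have h4 : (Finset.univ \ {i₁, l₀} : Finset ι).card = r - 2 := by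
    rw [Finset.card_sdiff_of_subset (Finset.subset_univ _), Finset.card_univ, hcard,
      Finset.card_pair (Ne.symm hl₀)]
  have h5 : 2 ≤ r := by
    rw [← hcard]
    have : ({i₁, l₀} : Finset ι).card ≤ Fintype.card ι := Finset.card_le_univ _
    rwa [Finset.card_pair (Ne.symm hl₀)] at this
  omega

section Core

universe u

variable {K : Type*} [Field K] [IsAlgClosed K] {Γ : Type*} [Group Γ] [Finite Γ]
  {V : Type u} [AddCommGroup V] [Module K V] [FiniteDimensional K V] [Nontrivial V]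

theorem core_pp_eig (ρ : Representation K Γ V) (Q : Subgroup Γ) [hQn : Q.Normal] (x : Γ) {R : ℕ}
    (hR : 0 < R) (hx : x ^ R = 1)
    (hRK : (R : K) ≠ 0) (hQK : (Nat.card Q : K) ≠ 0)
    (hgen : ∀ g : Γ, ∃ s ∈ Q, ∃ j : ℕ, g = s * x ^ j)
    (hirr : ∀ U : Submodule K V, (∀ g : Γ, ∀ u ∈ U, ρ g u ∈ U) → U = ⊥ ∨ U = ⊤)
    (hfix : ∀ v, ρ x v = v → v = 0)
    (hcl : ∀ s ∈ Q, ∀ t ∈ Q, ∀ u ∈ Q, ⁅s, t⁆ * u = u * ⁅s, t⁆)
    (Z : Subgroup Γ) (hZ : ∀ g, g ∈ Z ↔ g ∈ Q ∧ ∀ t ∈ Q, ρ g * ρ t = ρ t * ρ g)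
    (hZsc : ∀ z ∈ Z, ∃ c : K, ρ z = c • 1)
    (hQZ : ∃ f ∈ Q, f ∉ Z)
    (hfpf : ∀ j : ℕ, ¬ R ∣ j → ∀ f ∈ Q, ⁅x ^ j, f⁆ ∈ Z → f ∈ Z) :
    Nat.card Q = (R - 1) ^ 2 * Nat.card Z ∧ finrank K V = R - 1 ∧
      ∀ l : ↥(Polynomial.nthRootsFinset R (1 : K)), (l : K) ≠ 1 →
        finrank K (Module.End.eigenspace (ρ x) (l : K)) = 1 := by
  classical
  have hB : ∀ b : Module.End K V, (∀ s ∈ Q, b * ρ s = ρ s * b) → ∃ c : K, b = c • 1 :=
    endQ_scalar_pp ρ Q x hgen hirr hcl hQK Z hZ hZsc
  have hZQ : Z ≤ Q := fun g hg => ((hZ g).mp hg).1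
  -- part 1
  have hcard : Nat.card Q = (finrank K V) ^ 2 * Nat.card Z := by
    let R' : Representation K ↥Q V := ρ.comp Q.subtype
    have h1 := finrank_sq_mul_card R' (fun b hb => hB b (fun s hs => hb ⟨s, hs⟩))
      (fun s t u => by
        apply Subtype.ext
        have := hcl s s.2 t t.2 u u.2
        simpa [commutatorElement_def] using this)
      hQK (Z.subgroupOf Q) (fun s => by
        rw [Subgroup.mem_subgroupOf, hZ]
        constructor
        · intro h t
          exact h.2 t t.2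
        · intro h
          exact ⟨s.2, fun t ht => h ⟨t, ht⟩⟩)
    rw [h1, Nat.card_congr (Subgroup.subgroupOfEquivOfLe hZQ).toEquiv]
  have hscomm : ∀ (c : K) (e : Module.End K V), (c • (1 : Module.End K V)) * e = e * (c • 1) := by
    intro c e
    rw [smul_mul_assoc, one_mul, mul_smul_comm, mul_one]
  have hinvr : ∀ g : Γ, ρ g * ρ g⁻¹ = 1 := fun g => by rw [← map_mul, mul_inv_cancel, map_one]
  have hinvl : ∀ g : Γ, ρ g⁻¹ * ρ g = 1 := fun g => by rw [← map_mul, inv_mul_cancel, map_one]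
  have hZn : Z.Normal := by
    constructor
    intro z hz g
    obtain ⟨c, hc⟩ := hZsc z hz
    have h1 : ρ (g * z * g⁻¹) = c • 1 := by
      rw [map_mul, map_mul, hc, ← hscomm, mul_assoc, hinvr, mul_one]
    rw [hZ]
    refine ⟨hQn.conj_mem z (hZQ hz) g, fun t _ => ?_⟩
    rw [h1, hscomm]
  have hcommZ : ∀ s ∈ Q, ∀ t ∈ Q, ⁅s, t⁆ ∈ Z := by
    intro s hs t ht
    rw [hZ]
    refine ⟨?_, fun u hu => ?_⟩
    · rw [commutatorElement_def]
      exact Q.mul_mem (Q.mul_mem (Q.mul_mem hs ht) (Q.inv_mem hs)) (Q.inv_mem ht)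
    · rw [← map_mul, ← map_mul, hcl s hs t ht u hu]
  -- no nontrivial power of `x` lies in `Z`
  have hxZ : ∀ j : ℕ, ¬ R ∣ j → x ^ j ∉ Z := by
    intro j hj hxj
    obtain ⟨f, hfQ, hfZ⟩ := hQZ
    apply hfZ
    apply hfpf j hj f hfQ
    rw [hZ]
    have hcQ : ⁅x ^ j, f⁆ ∈ Q := by
      rw [commutatorElement_def]
      exact Q.mul_mem (hQn.conj_mem f hfQ _) (Q.inv_mem hfQ)
    refine ⟨hcQ, ?_⟩
    have h1 : ρ ⁅x ^ j, f⁆ = 1 := by
      rw [commutatorElement_def, map_mul, map_mul, map_mul, ((hZ _).mp hxj).2 f hfQ, mul_assoc (ρ f),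
        hinvr, mul_one, hinvr]
    intro t _
    rw [h1, one_mul, mul_one]
  -- the adjoint representation
  let Ad : Representation K Γ (V →ₗ[K] V) := Representation.linHom ρ ρ
  have hAd : ∀ (g : Γ) (e : V →ₗ[K] V), Ad g e = ρ g * e * ρ g⁻¹ := by
    intro g e
    show ρ g ∘ₗ e ∘ₗ ρ g⁻¹ = ρ g * e * ρ g⁻¹
    rw [Module.End.mul_eq_comp, Module.End.mul_eq_comp, LinearMap.comp_assoc]
  have hAdZ : Z ≤ (Ad : Γ →* Module.End K (V →ₗ[K] V)).ker := by
    intro z hz
    rw [MonoidHom.mem_ker]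
    apply LinearMap.ext
    intro e
    rw [hAd]
    obtain ⟨c, hc⟩ := hZsc z hz
    rw [hc, hscomm, mul_assoc, ← hc, hinvr, mul_one]
    rfl
  let Ad' : Representation K (Γ ⧸ Z) (V →ₗ[K] V) := QuotientGroup.lift Z Ad hAdZ
  have hAd' : ∀ (g : Γ) (e : V →ₗ[K] V),
      Ad' (QuotientGroup.mk g) e = ρ g * e * ρ g⁻¹ := by
    intro g e
    rw [← hAd]
    rfl
  let π : Γ →* Γ ⧸ Z := QuotientGroup.mk' Z
  have hπ : ∀ g : Γ, π g = QuotientGroup.mk g := fun g => rfl
  let F : Subgroup (Γ ⧸ Z) := Q.map π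
  let H : Subgroup (Γ ⧸ Z) := (Subgroup.zpowers x).map π
  have hFn : F.Normal := Subgroup.Normal.map hQn π (QuotientGroup.mk'_surjective Z)
  have hFc : ∀ a b : ↥F, a * b = b * a := by
    rintro ⟨a, s, hs, rfl⟩ ⟨b, t, ht, rfl⟩
    apply Subtype.ext
    show π s * π t = π t * π s
    rw [← map_mul, ← map_mul, hπ, hπ, QuotientGroup.eq]
    have h1 : (s * t)⁻¹ * (t * s) = ⁅t⁻¹, s⁻¹⁆ := by
      rw [commutatorElement_def]; group
    rw [h1]
    exact hcommZ _ (Q.inv_mem ht) _ (Q.inv_mem hs)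
  have hnil : Group.IsNilpotent ↥F := by
    let _ : CommGroup ↥F := { (inferInstance : Group ↥F) with mul_comm := hFc }
    exact CommGroup.isNilpotent
  have hchar : (Nat.card ↥F : K) ≠ 0 := by
    obtain ⟨m, hm⟩ := Subgroup.card_map_dvd Q π
    intro h
    apply hQK
    rw [hm, Nat.cast_mul, h, zero_mul]
  have hπxr : (π x) ^ R = 1 := by rw [← map_pow, hx, map_one]
  have hordπ : orderOf (π x) = R := by
    apply Nat.dvd_antisymm (orderOf_dvd_of_pow_eq_one hπxr)
    by_contra hnd
    apply hxZ (orderOf (π x)) hnd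
    rw [← QuotientGroup.eq_one_iff, ← hπ, map_pow, pow_orderOf_eq_one]
  have hfpf' : ∀ h ∈ H, h ≠ 1 → ∀ f ∈ F, h * f * h⁻¹ = f → f = 1 := by
    rintro h ⟨y, hy, rfl⟩ h1 f ⟨s, hs, rfl⟩ hcomm
    obtain ⟨j, rfl⟩ := exists_pow_of_mem_zpowers x hR hx y hy
    have hj : ¬ R ∣ j := by
      rintro ⟨k, rfl⟩
      apply h1
      rw [pow_mul, hx, one_pow, map_one]
    have hc3 : ⁅x ^ j, s⁆ ∈ Z := by
      rw [← QuotientGroup.eq_one_iff, ← hπ, commutatorElement_def, map_mul, map_mul, map_mul,
        map_inv, map_inv, hcomm, mul_inv_cancel]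
    have := hfpf j hj s hs hc3
    rw [hπ, QuotientGroup.eq_one_iff]
    exact this
  -- fixed spaces
  let S : Submodule K (V →ₗ[K] V) := Submodule.span K {(1 : V →ₗ[K] V)}
  have hSfix : ∀ e ∈ S, ∀ a : Γ ⧸ Z, Ad' a e = e := by
    intro e he a
    obtain ⟨c, rfl⟩ := Submodule.mem_span_singleton.mp he
    obtain ⟨g, rfl⟩ := QuotientGroup.mk_surjective a
    rw [hAd', ← hscomm, mul_assoc, hinvr, mul_one]
  have hfixF : FreeMod.fixOn Ad' F = S := by
    apply le_antisymm
    · intro e he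
      rw [FreeMod.mem_fixOn] at he
      have h1 : ∀ s ∈ Q, e * ρ s = ρ s * e := by
        intro s hs
        have h2 := he (π s) ⟨s, hs, rfl⟩
        rw [hπ, hAd'] at h2
        calc e * ρ s = (ρ s * e * ρ s⁻¹) * ρ s := by rw [h2]
          _ = ρ s * e := by rw [mul_assoc, hinvl, mul_one]
      obtain ⟨c, hc⟩ := hB e h1
      rw [hc]
      exact Submodule.smul_mem _ _ (Submodule.subset_span rfl)
    · intro e he
      rw [FreeMod.mem_fixOn]
      intro a _
      exact hSfix e he a
  have hfixFH : FreeMod.fixOn Ad' (F ⊔ H) = S := by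
    rw [FreeMod.fixOn_sup, hfixF]
    apply inf_eq_left.mpr
    intro e he
    rw [FreeMod.mem_fixOn]
    intro a _
    exact hSfix e he a
  have hfixH : FreeMod.fixOn Ad' H = commutant (ρ x) := by
    ext e
    rw [FreeMod.mem_fixOn, mem_commutant]
    constructor
    · intro he
      have h2 := he (π x) ⟨x, Subgroup.mem_zpowers x, rfl⟩
      rw [hπ, hAd'] at h2
      calc e * ρ x = (ρ x * e * ρ x⁻¹) * ρ x := by rw [h2]
        _ = ρ x * e := by rw [mul_assoc, hinvl, mul_one]
    · rintro he h ⟨y, hy, rfl⟩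
      obtain ⟨j, rfl⟩ := exists_pow_of_mem_zpowers x hR hx y hy
      rw [hπ, hAd']
      have h1 : Commute e (ρ x) := he
      have h2 : e * ρ (x ^ j) = ρ (x ^ j) * e := by
        rw [map_pow]
        exact h1.pow_right j
      rw [← h2, mul_assoc, hinvr, mul_one]
  have hcardH : Nat.card ↥H = R := by
    have h1 : H = Subgroup.zpowers (π x) := MonoidHom.map_zpowers π x
    rw [h1, Nat.card_zpowers, hordπ]
  have hform := FreeMod.frobenius_dim_formula Ad' F H hnil hchar hfpf'
  rw [hfixF, hfixFH, hfixH, hcardH] at hform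
  have hS1 : finrank K ↥S = 1 := finrank_span_singleton one_ne_zero
  have hE : finrank K (V →ₗ[K] V) = finrank K V * finrank K V :=
    Module.finrank_linearMap K K V V
  rw [hS1, hE] at hform
  -- eigenvalue multiplicities
  have hgr : (ρ x) ^ R = 1 := by rw [← map_pow, hx, map_one]
  obtain ⟨hsumv, hcommv⟩ := finrank_commutant (ρ x) hR hgr hRK
  rw [hcommv] at hform
  have : NeZero (R : K) := ⟨hRK⟩
  obtain ⟨ζ, hζ⟩ := HasEnoughRootsOfUnity.exists_primitiveRoot K R
  have hcardι : Fintype.card ↥(Polynomial.nthRootsFinset R (1 : K)) = R := by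
    rw [Fintype.card_coe]
    exact hζ.card_nthRootsFinset
  let l₁ : ↥(Polynomial.nthRootsFinset R (1 : K)) :=
    ⟨1, (Polynomial.mem_nthRootsFinset hR (1 : K)).mpr (one_pow R)⟩
  have hv1 : finrank K (Module.End.eigenspace (ρ x)
      ((l₁ : ↥(Polynomial.nthRootsFinset R (1 : K))) : K)) = 0 := by
    have : Module.End.eigenspace (ρ x) (1 : K) = ⊥ := by
      rw [eq_bot_iff]
      intro v hv
      rw [Module.End.mem_eigenspace_iff, one_smul] at hv
      rw [Submodule.mem_bot]
      exact hfix v hv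
    show finrank K (Module.End.eigenspace (ρ x) (1 : K)) = 0
    rw [this, finrank_bot]
  have hd : 0 < finrank K V := Module.finrank_pos
  have hdd := arith_two (fun l : ↥(Polynomial.nthRootsFinset R (1 : K)) =>
      finrank K (Module.End.eigenspace (ρ x) (l : K))) l₁ hv1 R (finrank K V) hcardι hsumv hd
    (by rw [mul_one] at hform; exact hform)
  have hd1 : finrank K V = R - 1 := by
    rcases hdd with h1 | h1
    · exfalso
      rw [h1, one_pow, one_mul] at hcard
      obtain ⟨f, hfQ, hfZ⟩ := hQZ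
      apply hfZ
      have : Z = Q := Subgroup.eq_of_le_of_card_ge hZQ (le_of_eq hcard)
      rw [this]
      exact hfQ
    · exact h1
  refine ⟨by rw [hcard, hd1], hd1, ?_⟩
  have hR1 : 1 ≤ R := hR
  have hsq : ∑ l : ↥(Polynomial.nthRootsFinset R (1 : K)),
      (finrank K (Module.End.eigenspace (ρ x) (l : K))) ^ 2 = R - 1 := by
    rw [mul_one, hd1] at hform
    have h3 : R * ∑ l : ↥(Polynomial.nthRootsFinset R (1 : K)),
        (finrank K (Module.End.eigenspace (ρ x) (l : K))) ^ 2 = R * (R - 1) := by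
      obtain ⟨R', rfl⟩ : ∃ R', R = R' + 1 := ⟨R - 1, by omega⟩
      simp only [Nat.add_sub_cancel] at hform ⊢
      nlinarith
    exact Nat.eq_of_mul_eq_mul_left hR h3
  rw [hd1] at hsumv
  intro l hl
  exact arith_all_one (fun l : ↥(Polynomial.nthRootsFinset R (1 : K)) =>
      finrank K (Module.End.eigenspace (ρ x) (l : K))) l₁ hv1 R hcardι hsumv hsq l
    (fun e => hl (by rw [e]))

end Core

section NegDim

variable {K : Type*} [Field K] [IsAlgClosed K] {V : Type*} [AddCommGroup V] [Module K V]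
  [FiniteDimensional K V]

/-- an operator of order `2 ^ s` on a space of dimension `2 ^ s - 1` whose eigenvalues different
from one are simple and which has no fixed vector: its power of order two has a `-1`-eigenspace of
dimension at least `2 ^ (s - 1)` -/
theorem neg_finrank (f : Module.End K V) {s : ℕ} (hs : 1 ≤ s) (hf : f ^ (2 ^ s) = 1)
    (h2 : (2 : K) ≠ 0) (hdim : finrank K V = 2 ^ s - 1) (h1 : ∀ v, f v = v → v = 0)
    (heig : ∀ l : K, l ^ (2 ^ s) = 1 → l ≠ 1 → finrank K (Module.End.eigenspace f l) ≤ 1) :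
    2 ^ (s - 1) ≤ finrank K (LinearMap.ker (f ^ (2 ^ (s - 1)) + 1)) := by
  classical
  set h := 2 ^ (s - 1) with hh
  have hhpos : 0 < h := pow_pos (by norm_num) _
  have hR : 2 ^ s = h * 2 := by
    rw [hh, ← pow_succ]
    congr 1
    omega
  set g := f ^ h with hg
  have hg2 : g * g = 1 := by
    rw [hg, ← pow_add, ← two_mul, mul_comm, ← hR, hf]
  have hfg : f * g = g * f := by
    rw [hg, ← pow_succ', ← pow_succ]
  -- the fixed space of `g`
  set C : Submodule K V := LinearMap.ker (g - 1) with hC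
  have hCmem : ∀ v, v ∈ C ↔ g v = v := by
    intro v
    rw [hC, LinearMap.mem_ker, LinearMap.sub_apply, Module.End.one_apply, sub_eq_zero]
  have hfC : ∀ v ∈ C, f v ∈ C := by
    intro v hv
    rw [hCmem] at hv ⊢
    have : g (f v) = f (g v) := by
      rw [← Module.End.mul_apply, ← hfg, Module.End.mul_apply]
    rw [this, hv]
  set f' : Module.End K ↥C := f.restrict hfC with hf'
  have hf'h : f' ^ h = 1 := by
    rw [hf', Module.End.pow_restrict h hfC]
    apply LinearMap.ext
    intro v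
    apply Subtype.ext
    rw [LinearMap.coe_restrict_apply, Module.End.one_apply]
    exact (hCmem _).mp v.2
  have hhK : (h : K) ≠ 0 := by
    rw [hh, Nat.cast_pow]
    exact pow_ne_zero _ (by exact_mod_cast h2)
  obtain ⟨hsum, -⟩ := finrank_commutant f' hhpos hf'h hhK
  -- eigenspaces of the restriction embed
  have hemb : ∀ l : K, finrank K (Module.End.eigenspace f' l) ≤
      finrank K (Module.End.eigenspace f l) := by
    intro l
    let φ : ↥(Module.End.eigenspace f' l) →ₗ[K] ↥(Module.End.eigenspace f l) :=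
      { toFun := fun v => ⟨((v : ↥C) : V), by
          have := Module.End.mem_eigenspace_iff.mp v.2
          rw [Module.End.mem_eigenspace_iff]
          have h3 := congrArg Subtype.val this
          exact h3⟩
        map_add' := fun v w => rfl
        map_smul' := fun c v => rfl }
    apply LinearMap.finrank_le_finrank_of_injective (f := φ)
    intro v w hvw
    apply Subtype.ext
    apply Subtype.ext
    have h4 := congrArg Subtype.val hvw
    exact h4
  have hζ : ∃ ζ : K, IsPrimitiveRoot ζ h := by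
    have : NeZero (h : K) := ⟨hhK⟩
    exact HasEnoughRootsOfUnity.exists_primitiveRoot K h
  obtain ⟨ζ, hζ⟩ := hζ
  have hcardι : Fintype.card ↥(Polynomial.nthRootsFinset h (1 : K)) = h := by
    rw [Fintype.card_coe]
    exact hζ.card_nthRootsFinset
  let l₁ : ↥(Polynomial.nthRootsFinset h (1 : K)) :=
    ⟨1, (Polynomial.mem_nthRootsFinset hhpos (1 : K)).mpr (one_pow h)⟩
  have hCle : finrank K ↥C ≤ h - 1 := by
    rw [← hsum]
    have hb : ∀ l : ↥(Polynomial.nthRootsFinset h (1 : K)),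
        finrank K (Module.End.eigenspace f' (l : K)) ≤ if l = l₁ then 0 else 1 := by
      intro l
      by_cases hl : l = l₁
      · rw [if_pos hl, hl]
        refine (hemb _).trans ?_
        have : Module.End.eigenspace f (1 : K) = ⊥ := by
          rw [eq_bot_iff]
          intro v hv
          rw [Module.End.mem_eigenspace_iff, one_smul] at hv
          rw [Submodule.mem_bot]
          exact h1 v hv
        show finrank K (Module.End.eigenspace f (1 : K)) ≤ 0
        rw [this, finrank_bot]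
      · rw [if_neg hl]
        refine (hemb _).trans ?_
        apply heig
        · have := (Polynomial.mem_nthRootsFinset hhpos (1 : K)).mp l.2
          rw [hR, pow_mul, this, one_pow]
        · intro e
          apply hl
          exact Subtype.ext e
    calc ∑ l : ↥(Polynomial.nthRootsFinset h (1 : K)),
          finrank K (Module.End.eigenspace f' (l : K))
        ≤ ∑ l : ↥(Polynomial.nthRootsFinset h (1 : K)), (if l = l₁ then 0 else 1) :=
          Finset.sum_le_sum (fun l _ => hb l)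
      _ = h - 1 := by
        rw [Finset.sum_ite, Finset.sum_const_zero, zero_add, Finset.sum_const, smul_eq_mul, mul_one,
          Finset.filter_ne' Finset.univ l₁, Finset.card_erase_of_mem (Finset.mem_univ _),
          Finset.card_univ, hcardι]
  -- rank–nullity for `g - 1`
  have hrn := LinearMap.finrank_range_add_finrank_ker (g - 1)
  have hrange : LinearMap.range (g - 1) ≤ LinearMap.ker (g + 1) := by
    rintro _ ⟨v, rfl⟩
    rw [LinearMap.mem_ker, ← Module.End.mul_apply]
    have : (g + 1) * (g - 1) = 0 := by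
      rw [add_mul, mul_sub, mul_sub, hg2]
      simp
    rw [this, LinearMap.zero_apply]
  have hle := Submodule.finrank_mono hrange
  rw [hdim, ← hC] at hrn
  have h3 : 1 ≤ h := hhpos
  omega

end NegDim

end Cfsg.Agent.Lib.Helper23.SG
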