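import Mathlib
import Cfsg.Agent.Lib.Helper23.SGT2

/-!
# helper23: Gross' theorem for `p = 2`, part 3: the index of `Yr` and the dimension of the
`-1`-eigenspace of `b` for configurations of Heisenberg type
-/

set_option autoImplicit false
set_option linter.unusedSectionVars false
set_option linter.style.haveILetI false

namespace Cfsg.Agent.Lib.Helper23.SG

open Module Subgroup
open Cfsg.Agent.Lib.Helper23.Ward
open Cfsg.Agent.Lib.Helper23.PQ (conj_mem_commutator mem_stab_of_cent)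
open Cfsg.Agent.Lib.Helper23.PQ.MinCE (Zc mem_Zc Zc_le conj_mem_Zc Zc_comm)
open Cfsg.Agent.Lib.Helper23.S3 (rho_mul_apply mem_normalizer_of_conj_mem conj_inv_mem_of_finite
  lift_of_pow)
open Cfsg.Agent.Lib.Helper17.ESMod (subRep subRep_coe exists_min_invariant subRep_irr
  sup_zpowers_gen normal_subgroupOf_sup)
open scoped commutatorElement

universe u

/-- the dimensions of independent subspaces add up to at most the dimension of a subspace
containing them -/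
theorem finrank_sum_le_of_indep {K : Type*} [Field K] {V : Type*} [AddCommGroup V] [Module K V]
    [FiniteDimensional K V] {ι : Type*} [Fintype ι] (U : ι → Submodule K V) (X : Submodule K V)
    (hUX : ∀ i, U i ≤ X)
    (hind : ∀ t : ι → V, (∀ i, t i ∈ U i) → ∑ i, t i = 0 → ∀ i, t i = 0) :
    ∑ i, finrank K ↥(U i) ≤ finrank K ↥X := by
  classical
  let φ : (∀ i, ↥(U i)) →ₗ[K] ↥X :=
    { toFun := fun v => ⟨∑ i, ((v i : ↥(U i)) : V),
        Submodule.sum_mem _ (fun i _ => hUX i (v i).2)⟩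
      map_add' := fun v w => by
        apply Subtype.ext
        simp [Finset.sum_add_distrib]
      map_smul' := fun c v => by
        apply Subtype.ext
        simp [Finset.smul_sum] }
  have hinj : Function.Injective φ := by
    rw [← LinearMap.ker_eq_bot, eq_bot_iff]
    intro v hv
    rw [LinearMap.mem_ker] at hv
    have h1 : ∑ i, ((v i : ↥(U i)) : V) = 0 := congrArg Subtype.val hv
    have h2 := hind (fun i => ((v i : ↥(U i)) : V)) (fun i => (v i).2) h1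
    rw [Submodule.mem_bot]
    funext i
    exact Subtype.ext (h2 i)
  have h3 := LinearMap.finrank_le_finrank_of_injective hinj
  rwa [Module.finrank_pi_fintype] at h3

variable {K : Type*} [Field K] {Γ : Type*} [Group Γ] [Finite Γ] {V : Type u} [AddCommGroup V]
  [Module K V]

namespace HC

variable {ρ : Representation K Γ V} {p n q : ℕ} {a : Γ} {Q : Subgroup Γ} {χ : Γ → K} {m : ℕ}

/-- the fixed points of `b` on `Q` are central -/
theorem cent_le_Z (c : HC ρ p n q a Q) :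
    ∀ x ∈ Q, a ^ (p ^ n) * x = x * a ^ (p ^ n) → x ∈ Zc Q := by
  intro x hx hbx
  have he : ¬ p ^ (n + 1) ∣ p ^ n := by
    intro hd
    have := Nat.le_of_dvd (pow_pos c.sh.hp.pos n) hd
    have h2 : p ^ n < p ^ (n + 1) := Nat.pow_lt_pow_right c.sh.hp.one_lt (Nat.lt_succ_self n)
    omega
  apply c.semireg (Zc Q) le_rfl (Zc_le Q) (p ^ n) he (conj_mem_Zc (c.sh.apow_Q _)) x hx
  have e1 : a ^ (p ^ n) * x * (a ^ (p ^ n))⁻¹ = x := by
    rw [hbx]; group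
  rw [e1, inv_mul_cancel]
  exact (Zc Q).one_mem

theorem Yr_ne (c : HC ρ p n q a Q) (w : WT ρ p n a Q χ m) : Yr ρ Q χ ≠ Q := by
  intro e
  obtain ⟨s, hs, t, ht, hst⟩ := w.hs
  have h1 : s ∈ Yr ρ Q χ := by rw [e]; exact hs
  have h2 := h1.2 t ht
  exact hst ((w.mem_Kl_iff (c.class2 s hs t ht)).mp h2)

theorem mem_Yr_iff (c : HC ρ p n q a Q) (w : WT ρ p n a Q χ m) {g : Γ} (hg : g ∈ Q) :
    g ∈ Yr ρ Q χ ↔ ∀ t ∈ Q, χ ⁅g, t⁆ = 1 := by
  constructor
  · intro h t ht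
    exact (w.mem_Kl_iff (c.class2 g hg t ht)).mp (h.2 t ht)
  · intro h
    refine ⟨hg, ?_⟩
    intro t ht
    exact (w.mem_Kl_iff (c.class2 g hg t ht)).mpr (h t ht)

theorem xpow (c : HC ρ p n q a Q) (w : WT ρ p n a Q χ m) :
    (a ^ (p ^ m)) ^ (p ^ (n + 1 - m)) = 1 := by
  rw [← pow_mul, ← pow_add]
  have : m + (n + 1 - m) = n + 1 := by have := w.hm; omega
  rw [this]
  exact c.sh.han

theorem apow_Z (c : HC ρ p n q a Q) (i : ℕ) :
    a ^ i ∈ normalizer ((Zc Q : Subgroup Γ) : Set Γ) :=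
  mem_normalizer_of_conj_mem (conj_mem_Zc (c.sh.apow_Q i))

/-- the conjugates of the weight under `a ^ i`, `i < p ^ m`, are pairwise distinct -/
theorem distinct (c : HC ρ p n q a Q) (w : WT ρ p n a Q χ m) :
    ∀ i ∈ Finset.range (p ^ m), ∀ j ∈ Finset.range (p ^ m), i ≠ j →
      ∃ z ∈ Zc Q, cj (a ^ i) χ z ≠ cj (a ^ j) χ z := by
  have key : ∀ i j : ℕ, i < j → j < p ^ m → ∃ z ∈ Zc Q, cj (a ^ i) χ z ≠ cj (a ^ j) χ z := by
    intro i j hij hj
    by_contra hcon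
    push Not at hcon
    obtain ⟨k, rfl⟩ := Nat.exists_eq_add_of_lt hij
    have h1 : a ^ (k + 1) ∈ stab (Zc Q) χ :=
      pow_mem_stab_of_cj_eq (apow_Z c) (j := i) (k := k + 1)
        (fun z hz => by rw [← add_assoc]; exact (hcon z hz).symm)
    have h2 := Nat.le_of_dvd (Nat.succ_pos k) (w.hmin _ h1)
    omega
  intro i hi j hj hij
  rw [Finset.mem_range] at hi hj
  rcases lt_or_gt_of_ne hij with h | h
  · exact key i j h hj
  · obtain ⟨z, hz, hne⟩ := key j i h hi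
    exact ⟨z, hz, hne.symm⟩

/-- `a ^ (p ^ m)` has no fixed vector on the weight space -/
theorem fix (c : HC ρ p n q a Q) (w : WT ρ p n a Q χ m) :
    ∀ v ∈ wt ρ (Zc Q) χ, ρ (a ^ (p ^ m)) v = v → v = 0 := by
  classical
  intro v hv hxv
  have hsum : ρ a (∑ j ∈ Finset.range (p ^ m), ρ (a ^ j) v) =
      ∑ j ∈ Finset.range (p ^ m), ρ (a ^ j) v := by
    rw [map_sum]
    have h1 : ∀ j ∈ Finset.range (p ^ m), ρ a (ρ (a ^ j) v) = ρ (a ^ (j + 1)) v := by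
      intro j _
      rw [pow_succ', map_mul]; rfl
    rw [Finset.sum_congr rfl h1]
    exact sum_range_shift (fun j => ρ (a ^ j) v) (p ^ m)
      (by simp only [hxv, pow_zero, map_one, Module.End.one_apply])
  have h0 := c.sh.hfV _ hsum
  have h3 := wt_indep ρ (Zc Q) (Finset.range (p ^ m)) (fun j => cj (a ^ j) χ) (distinct c w)
    (fun j => ρ (a ^ j) v) (fun j _ => map_wt (apow_Z c j) hv) h0 0
    (Finset.mem_range.mpr (pow_pos c.sh.hp.pos m))
  simpa only [pow_zero, map_one, Module.End.one_apply] using h3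

/-- `[Yr, b]` acts trivially on the weight space -/
theorem Yr_b [IsAlgClosed K] [FiniteDimensional K V] (c : HC ρ p n q a Q)
    (w : WT ρ p n a Q χ m) : ∀ y ∈ Yr ρ Q χ, ⁅y, a ^ (p ^ n)⁆ ∈ Kl ρ Q χ := by
  intro y hy
  have hxQ : a ^ (p ^ m) ∈ normalizer (Q : Set Γ) := mem_normalizer_of_conj_mem (c.sh.apow_Q _)
  have h1 := sab ρ (wt ρ (Zc Q) χ) (a ^ (p ^ m)) (s := n + 1 - m) c.sh.hp (xpow c w)
    (fun u hu => map_wt_of_mem_stab w.hstab hu) (Yr ρ Q χ) (w.conj_Yr hxQ w.hstab)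
    (fun y hy u hu => wt_Zc_map hy.1 hu) Yr_comm (c.sh.card_ne_zero (Yr_le ρ Q χ)) (fix c w)
    y hy
  rw [w.xpow_pred] at h1
  refine ⟨?_, h1⟩
  have e' : ⁅y, a ^ (p ^ n)⁆ = y * (a ^ (p ^ n) * y⁻¹ * (a ^ (p ^ n))⁻¹) := by
    rw [commutatorElement_def]; group
  rw [e']
  exact Q.mul_mem hy.1 (c.sh.bQ _ (Q.inv_mem hy.1))

/-- `Yr = Z(Q) Kl` -/
theorem Yr_decomp [IsAlgClosed K] [FiniteDimensional K V] (c : HC ρ p n q a Q)
    (w : WT ρ p n a Q χ m) : ∀ y ∈ Yr ρ Q χ, ∃ z ∈ Zc Q, ∃ k ∈ Kl ρ Q χ, y = z * k := by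
  intro y hy
  have hbQ : a ^ (p ^ n) ∈ normalizer (Q : Set Γ) := mem_normalizer_of_conj_mem c.sh.bQ
  have hbst : a ^ (p ^ n) ∈ stab (Zc Q) χ :=
    mem_stab_of_cent (fun z hz => (c.b_cent_Z z hz).symm) χ
  have hbK := w.conj_Kl hbQ hbst
  have h1 : y⁻¹ * (a ^ (p ^ n) * y * (a ^ (p ^ n))⁻¹) ∈ Kl ρ Q χ := by
    have := Yr_b c w y⁻¹ ((Yr ρ Q χ).inv_mem hy)
    have e : y⁻¹ * (a ^ (p ^ n) * y * (a ^ (p ^ n))⁻¹) = ⁅y⁻¹, a ^ (p ^ n)⁆ := by
      rw [commutatorElement_def]; group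
    rw [e]; exact this
  have hbp : (a ^ (p ^ n)) ^ (p ^ 1) = 1 := by rw [pow_one]; exact c.sh.bp
  obtain ⟨k, hk, hck⟩ := lift_of_pow hbp
    (fun l hl => conj_mem_of_mem_normalizer hbK hl) (c.sh.cop (Kl_le ρ Q χ) 1) h1
  have h2 := cent_le_Z c _ (Q.mul_mem hy.1 (Kl_le ρ Q χ hk)) hck
  exact ⟨y * k, h2, k⁻¹, (Kl ρ Q χ).inv_mem hk, by group⟩

/-- `Yr` acts by scalars on the weight space -/
theorem Yr_scalar [IsAlgClosed K] [FiniteDimensional K V] (c : HC ρ p n q a Q)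
    (w : WT ρ p n a Q χ m) : ∀ y ∈ Yr ρ Q χ, ∃ d : K, ∀ v ∈ wt ρ (Zc Q) χ, ρ y v = d • v := by
  intro y hy
  obtain ⟨z, hz, k, hk, rfl⟩ := Yr_decomp c w y hy
  refine ⟨χ z, ?_⟩
  intro v hv
  rw [rho_mul_apply, hk.2 v hv, hv z hz]

/-- `Yr` is normal in `Q` -/
theorem Yr_conj (c : HC ρ p n q a Q) : ∀ f ∈ Q, ∀ y ∈ Yr ρ Q χ, f⁻¹ * y * f ∈ Yr ρ Q χ := by
  intro f hf y hy
  have e : f⁻¹ * y * f = y * ⁅y⁻¹, f⁻¹⁆ := by
    rw [commutatorElement_def]; group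
  rw [e]
  exact (Yr ρ Q χ).mul_mem hy
    (Zc_le_Yr ρ Q χ (c.class2 _ (Q.inv_mem hy.1) _ (Q.inv_mem hf)))

/-- **the index of `Yr`**, together with an irreducible constituent of the weight space on which
all nontrivial eigenvalues of `a ^ (p ^ m)` are simple -/
theorem card_eig [IsAlgClosed K] [FiniteDimensional K V] (c : HC ρ p n q a Q)
    (w : WT ρ p n a Q χ m) :
    Nat.card Q = (p ^ (n + 1 - m) - 1) ^ 2 * Nat.card (Yr ρ Q χ) ∧
    ∃ (W : Submodule K V) (f : Module.End K ↥W), W ≤ wt ρ (Zc Q) χ ∧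
      (∀ v : ↥W, ((f v : ↥W) : V) = ρ (a ^ (p ^ m)) (v : V)) ∧
      finrank K ↥W = p ^ (n + 1 - m) - 1 ∧
      ∀ l : K, l ^ (p ^ (n + 1 - m)) = 1 → l ≠ 1 →
        finrank K (Module.End.eigenspace f l) = 1 := by
  classical
  set x := a ^ (p ^ m) with hxdef
  set s := n + 1 - m with hsdef
  have hR : 0 < p ^ s := pow_pos c.sh.hp.pos s
  have hx : x ^ (p ^ s) = 1 := xpow c w
  have hxn : ∀ t ∈ Q, x * t * x⁻¹ ∈ Q := c.sh.apow_Q _
  have hxQ : x ∈ normalizer (Q : Set Γ) := mem_normalizer_of_conj_mem hxn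
  set Γ₂ : Subgroup Γ := Q ⊔ zpowers x with hΓ₂
  have hQΓ₂ : Q ≤ Γ₂ := le_sup_left
  have hxΓ₂ : x ∈ Γ₂ := (le_sup_right : zpowers x ≤ Γ₂) (mem_zpowers x)
  have hgenΓ := sup_zpowers_gen Q x hR hx hxn
  have hnorm : (Q.subgroupOf Γ₂).Normal := normal_subgroupOf_sup Q x hR hx hxn
  set Vl : Submodule K V := wt ρ (Zc Q) χ with hVl
  have hxVl : ∀ j : ℕ, ∀ v ∈ Vl, ρ (x ^ j) v ∈ Vl := by
    intro j v hv
    exact map_wt_of_mem_stab (Subgroup.pow_mem _ w.hstab j) hv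
  let ρΓ : Representation K ↥Γ₂ V := ρ.comp Γ₂.subtype
  have hρΓ : ∀ g : ↥Γ₂, ρΓ g = ρ (g : Γ) := fun g => rfl
  have hVlinv : ∀ g : ↥Γ₂, ∀ v ∈ Vl, ρΓ g v ∈ Vl := by
    intro g v hv
    obtain ⟨t, ht, j, hg⟩ := hgenΓ g.1 g.2
    rw [hρΓ, hg, rho_mul_apply]
    exact wt_Zc_map ht (hxVl j v hv)
  have hVl0 : Vl ≠ ⊥ := by
    obtain ⟨v, hv, hv0⟩ := w.hv
    exact (Submodule.ne_bot_iff Vl).mpr ⟨v, hv, hv0⟩
  obtain ⟨W, hWVl, hW0, hWinv, hWmin⟩ := exists_min_invariant ρΓ Vl hVl0 hVlinv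
  let ρ₂ : Representation K ↥Γ₂ ↥W := subRep ρΓ W hWinv
  have hρ₂ : ∀ (g : ↥Γ₂) (v : ↥W), ((ρ₂ g v : ↥W) : V) = ρ (g : Γ) (v : V) := fun g v => rfl
  have hnt : Nontrivial ↥W := (Submodule.nontrivial_iff_ne_bot).mpr hW0
  have hopext : ∀ A B : Module.End K ↥W, (∀ v : ↥W, ((A v : ↥W) : V) = ((B v : ↥W) : V)) → A = B := by
    intro A B h
    apply LinearMap.ext
    intro v
    exact Subtype.ext (h v)
  -- class two
  have hcl : ∀ s₁ ∈ Q.subgroupOf Γ₂, ∀ t ∈ Q.subgroupOf Γ₂, ∀ u ∈ Q.subgroupOf Γ₂,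
      ⁅s₁, t⁆ * u = u * ⁅s₁, t⁆ := by
    intro s₁ hs₁ t ht u hu
    apply Subtype.ext
    have h1 := c.class2 s₁.1 (mem_subgroupOf.mp hs₁) t.1 (mem_subgroupOf.mp ht)
    have h2 := (mem_Zc.mp h1).2 u.1 (mem_subgroupOf.mp hu)
    simpa [commutatorElement_def] using h2.symm
  -- the centre
  have hZ : ∀ g : ↥Γ₂, g ∈ (Yr ρ Q χ).subgroupOf Γ₂ ↔
      g ∈ Q.subgroupOf Γ₂ ∧ ∀ t ∈ Q.subgroupOf Γ₂, ρ₂ g * ρ₂ t = ρ₂ t * ρ₂ g := by
    intro g
    rw [mem_subgroupOf, mem_subgroupOf]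
    constructor
    · intro hg
      refine ⟨hg.1, ?_⟩
      intro t _
      obtain ⟨d, hd⟩ := Yr_scalar c w g.1 hg
      apply hopext
      intro v
      have h1 : ρ (t : Γ) (v : V) ∈ Vl := hWVl (hWinv t v v.2)
      rw [Module.End.mul_apply, Module.End.mul_apply, hρ₂, hρ₂, hρ₂, hρ₂,
        hd _ h1, hd _ (hWVl v.2), map_smul]
    · rintro ⟨hgQ, hcomm⟩
      rw [mem_Yr_iff c w hgQ]
      intro t ht
      obtain ⟨v, hv, hv0⟩ := (Submodule.ne_bot_iff W).mp hW0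
      set t' : ↥Γ₂ := ⟨t, hQΓ₂ ht⟩ with ht'
      have h1 := hcomm t' (mem_subgroupOf.mpr ht)
      have h2 := congrArg (fun A : Module.End K ↥W => ((A ⟨v, hv⟩ : ↥W) : V)) h1
      simp only [Module.End.mul_apply, hρ₂] at h2
      -- `u = ρ (t g) v`
      set u : V := ρ (t * (g : Γ)) v with hu
      have huW : u ∈ W := by
        have := hWinv (t' * g) v hv
        rwa [hρΓ] at this
      have hu0 : u ≠ 0 := by
        intro h0
        apply hv0
        have := congrArg (ρ (t * (g : Γ))⁻¹) h0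
        rw [hu, rho_inv_apply, map_zero] at this
        exact this
      have h3 : ρ ⁅(g : Γ), t⁆ u = u := by
        have e : ⁅(g : Γ), t⁆ * (t * (g : Γ)) = (g : Γ) * t := by
          rw [commutatorElement_def]; group
        rw [hu, ← rho_mul_apply, e, rho_mul_apply, h2, ← rho_mul_apply]
      have h4 := (hWVl huW) _ (c.class2 _ hgQ t ht)
      rw [h3] at h4
      have h5 : (1 : K) • u = χ ⁅(g : Γ), t⁆ • u := by rw [one_smul]; exact h4
      exact (smul_left_injective K hu0 h5).symm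
  have hZsc : ∀ z ∈ (Yr ρ Q χ).subgroupOf Γ₂, ∃ d : K, ρ₂ z = d • 1 := by
    intro z hz
    obtain ⟨d, hd⟩ := Yr_scalar c w z.1 (mem_subgroupOf.mp hz)
    refine ⟨d, ?_⟩
    apply hopext
    intro v
    rw [hρ₂, hd _ (hWVl v.2)]
    rfl
  have hQZ : ∃ f ∈ Q.subgroupOf Γ₂, f ∉ (Yr ρ Q χ).subgroupOf Γ₂ := by
    have h1 : ¬ Q ≤ Yr ρ Q χ := fun h => Yr_ne c w (le_antisymm (Yr_le ρ Q χ) h)
    obtain ⟨f, hf, hfY⟩ := SetLike.not_le_iff_exists.mp h1
    exact ⟨⟨f, hQΓ₂ hf⟩, mem_subgroupOf.mpr hf, fun h => hfY (mem_subgroupOf.mp h)⟩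
  have hxYr : x ∈ normalizer ((Yr ρ Q χ : Subgroup Γ) : Set Γ) := w.conj_Yr hxQ w.hstab
  have hfpf : ∀ j : ℕ, ¬ p ^ s ∣ j → ∀ f ∈ Q.subgroupOf Γ₂,
      ⁅(⟨x, hxΓ₂⟩ : ↥Γ₂) ^ j, f⁆ ∈ (Yr ρ Q χ).subgroupOf Γ₂ → f ∈ (Yr ρ Q χ).subgroupOf Γ₂ := by
    intro j hj f hf hcf
    rw [mem_subgroupOf] at hf hcf ⊢
    have hcf' : ⁅x ^ j, (f : Γ)⁆ ∈ Yr ρ Q χ := by
      simpa [commutatorElement_def] using hcf
    have he : ¬ p ^ (n + 1) ∣ p ^ m * j := by
      intro hd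
      apply hj
      have h1 : p ^ (n + 1) = p ^ m * p ^ s := by
        rw [← pow_add, hsdef]
        congr 1
        have := w.hm
        omega
      rw [h1] at hd
      exact (Nat.mul_dvd_mul_iff_left (pow_pos c.sh.hp.pos m)).mp hd
    have hae : a ^ (p ^ m * j) = x ^ j := by rw [hxdef, ← pow_mul]
    apply c.semireg (Yr ρ Q χ) (Zc_le_Yr ρ Q χ) (Yr_le ρ Q χ) (p ^ m * j) he _ f.1 hf
    · rw [hae]
      have e : (f : Γ)⁻¹ * (x ^ j * (f : Γ) * (x ^ j)⁻¹) = (f : Γ)⁻¹ * ⁅x ^ j, (f : Γ)⁆ * f := by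
        rw [commutatorElement_def]; group
      rw [e]
      exact Yr_conj c f.1 hf _ hcf'
    · intro l hl
      rw [hae]
      exact conj_mem_of_mem_normalizer (Subgroup.pow_mem _ hxYr j) hl
  have hpsK : ((p ^ s : ℕ) : K) ≠ 0 := by
    rw [Nat.cast_pow]
    exact pow_ne_zero _ c.sh.hpK
  have hQK : (Nat.card ↥(Q.subgroupOf Γ₂) : K) ≠ 0 := by
    rw [Nat.card_congr (Subgroup.subgroupOfEquivOfLe hQΓ₂).toEquiv]
    exact c.sh.card_ne_zero le_rfl
  have key := core_pp_eig ρ₂ (Q.subgroupOf Γ₂) ⟨x, hxΓ₂⟩ hR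
    (by apply Subtype.ext; simpa using hx) hpsK hQK
    (by
      intro g
      obtain ⟨t, ht, j, hg⟩ := hgenΓ g.1 g.2
      refine ⟨⟨t, hQΓ₂ ht⟩, mem_subgroupOf.mpr ht, j, ?_⟩
      apply Subtype.ext
      simpa using hg)
    (subRep_irr ρΓ W hWinv hWmin)
    (by
      intro v hv
      have h1 := congrArg Subtype.val hv
      rw [hρ₂] at h1
      have h2 := fix c w _ (hWVl v.2) h1
      exact Subtype.ext h2)
    hcl ((Yr ρ Q χ).subgroupOf Γ₂) hZ hZsc hQZ hfpf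
  obtain ⟨key1, key2, key3⟩ := key
  rw [Nat.card_congr (Subgroup.subgroupOfEquivOfLe hQΓ₂).toEquiv,
    Nat.card_congr (Subgroup.subgroupOfEquivOfLe ((Yr_le ρ Q χ).trans hQΓ₂)).toEquiv] at key1
  refine ⟨key1, W, ρ₂ ⟨x, hxΓ₂⟩, hWVl, fun v => hρ₂ _ v, key2, ?_⟩
  intro l hl hl1
  exact key3 ⟨l, (Polynomial.mem_nthRootsFinset hR (1 : K)).mpr hl⟩ hl1

/-- the `-1`-eigenspace of `b` on the weight space has dimension at least `2 ^ (n - m)` -/
theorem neg_dim [IsAlgClosed K] [FiniteDimensional K V] (c : HC ρ 2 n q a Q)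
    (w : WT ρ 2 n a Q χ m) :
    2 ^ (n - m) ≤ finrank K ↥(wt ρ (Zc Q) χ ⊓ LinearMap.ker (ρ (a ^ (2 ^ n)) + 1)) := by
  classical
  obtain ⟨-, W, f, hWle, hf, hdim, heig⟩ := card_eig c w
  have hm := w.hm
  have hfpow : ∀ (k : ℕ) (v : ↥W), (((f ^ k) v : ↥W) : V) = ρ ((a ^ (2 ^ m)) ^ k) (v : V) := by
    intro k
    induction k with
    | zero => intro v; simp
    | succ k ih =>
      intro v
      rw [pow_succ', Module.End.mul_apply, hf, ih, pow_succ', rho_mul_apply]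
  have hfR : f ^ (2 ^ (n + 1 - m)) = 1 := by
    apply LinearMap.ext
    intro v
    apply Subtype.ext
    rw [hfpow, xpow c w, map_one]
    rfl
  have h2K : (2 : K) ≠ 0 := by exact_mod_cast c.sh.hpK
  have hfix : ∀ v : ↥W, f v = v → v = 0 := by
    intro v hv
    have h1 := congrArg Subtype.val hv
    rw [hf] at h1
    exact Subtype.ext (fix c w _ (hWle v.2) h1)
  have key := neg_finrank f (s := n + 1 - m) (by omega) hfR h2K hdim hfix
    (fun l hl hl1 => le_of_eq (heig l hl hl1))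
  have hs1 : n + 1 - m - 1 = n - m := by omega
  rw [hs1] at key
  refine key.trans ?_
  have hb : (a ^ (2 ^ m)) ^ (2 ^ (n - m)) = a ^ (2 ^ n) := by
    rw [← pow_mul, ← pow_add]
    congr 2
    omega
  let φ : ↥(LinearMap.ker (f ^ (2 ^ (n - m)) + 1)) →ₗ[K]
      ↥(wt ρ (Zc Q) χ ⊓ LinearMap.ker (ρ (a ^ (2 ^ n)) + 1)) :=
    { toFun := fun v => ⟨((v : ↥W) : V), by
        refine ⟨hWle (v : ↥W).2, ?_⟩
        have h1 := LinearMap.mem_ker.mp v.2
        have h2 := congrArg Subtype.val h1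
        rw [LinearMap.add_apply, Module.End.one_apply, Submodule.coe_add, hfpow, hb] at h2
        rw [SetLike.mem_coe, LinearMap.mem_ker, LinearMap.add_apply, Module.End.one_apply]
        exact h2⟩
      map_add' := fun v w => rfl
      map_smul' := fun c v => rfl }
  apply LinearMap.finrank_le_finrank_of_injective (f := φ)
  intro v w hvw
  apply Subtype.ext
  apply Subtype.ext
  have h4 := congrArg Subtype.val hvw
  exact h4

/-- the `-1`-eigenspace of `b` has dimension at least `2 ^ n` -/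
theorem total_neg_dim [IsAlgClosed K] [FiniteDimensional K V] (c : HC ρ 2 n q a Q)
    (w : WT ρ 2 n a Q χ m) :
    2 ^ n ≤ finrank K ↥(LinearMap.ker (ρ (a ^ (2 ^ n)) + 1)) := by
  classical
  have hm := w.hm
  set b := a ^ (2 ^ n) with hb
  set X : Submodule K V := LinearMap.ker (ρ b + 1) with hX
  have hXmem : ∀ v, v ∈ X ↔ ρ b v = -v := by
    intro v
    rw [hX, LinearMap.mem_ker, LinearMap.add_apply, Module.End.one_apply, add_eq_zero_iff_eq_neg]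
  let U : Fin (2 ^ m) → Submodule K V := fun i => wt ρ (Zc Q) (cj (a ^ (i : ℕ)) χ) ⊓ X
  have hU0 : ∀ i : Fin (2 ^ m), 2 ^ (n - m) ≤ finrank K ↥(U i) := by
    intro i
    refine (neg_dim c w).trans ?_
    let φ : ↥(wt ρ (Zc Q) χ ⊓ X) →ₗ[K] ↥(U i) :=
      { toFun := fun v => ⟨ρ (a ^ (i : ℕ)) (v : V), by
          refine ⟨map_wt (apow_Z c _) v.2.1, ?_⟩
          rw [SetLike.mem_coe, hXmem]
          have h1 := (hXmem _).mp v.2.2
          have hcomm : b * a ^ (i : ℕ) = a ^ (i : ℕ) * b := by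
            rw [hb, ← pow_add, ← pow_add, add_comm]
          rw [← rho_mul_apply, hcomm, rho_mul_apply, h1, map_neg]⟩
        map_add' := fun v w => by
          apply Subtype.ext
          simp
        map_smul' := fun c v => by
          apply Subtype.ext
          simp }
    apply LinearMap.finrank_le_finrank_of_injective (f := φ)
    intro v w hvw
    apply Subtype.ext
    have h4 : ρ (a ^ (i : ℕ)) (v : V) = ρ (a ^ (i : ℕ)) (w : V) := congrArg Subtype.val hvw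
    have h5 := congrArg (ρ (a ^ (i : ℕ))⁻¹) h4
    rwa [rho_inv_apply, rho_inv_apply] at h5
  have hind : ∀ t : Fin (2 ^ m) → V, (∀ i, t i ∈ U i) → ∑ i, t i = 0 → ∀ i, t i = 0 := by
    intro t ht hsum i
    have hd : ∀ i ∈ (Finset.univ : Finset (Fin (2 ^ m))), ∀ j ∈ (Finset.univ : Finset (Fin (2 ^ m))),
        i ≠ j → ∃ z ∈ Zc Q, cj (a ^ (i : ℕ)) χ z ≠ cj (a ^ (j : ℕ)) χ z := by
      intro i _ j _ hij
      exact distinct c w i (Finset.mem_range.mpr i.2) j (Finset.mem_range.mpr j.2)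
        (fun e => hij (Fin.ext e))
    exact wt_indep ρ (Zc Q) Finset.univ (fun i : Fin (2 ^ m) => cj (a ^ (i : ℕ)) χ) hd t
      (fun i _ => (ht i).1) hsum i (Finset.mem_univ i)
  have h1 := finrank_sum_le_of_indep U X (fun i => inf_le_right) hind
  have h2 : ∑ _i : Fin (2 ^ m), 2 ^ (n - m) ≤ ∑ i, finrank K ↥(U i) :=
    Finset.sum_le_sum (fun i _ => hU0 i)
  rw [Finset.sum_const, Finset.card_univ, Fintype.card_fin, smul_eq_mul, ← pow_add] at h2
  have h3 : m + (n - m) = n := by omega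
  rw [h3] at h2
  exact h2.trans h1

end HC

end Cfsg.Agent.Lib.Helper23.SG
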