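import Mathlib
import Cfsg.Agent.Lib.Helper23.SGT3
import Cfsg.Agent.Lib.Helper23.WardK

/-!
# helper23: Gross' theorem for `p = 2`, part 4: an odd-order group acting nontrivially on an
elementary abelian section through commutators with the involution `b`
-/

set_option autoImplicit false
set_option linter.unusedSectionVars false
set_option linter.style.haveILetI false

namespace Cfsg.Agent.Lib.Helper23.SG

open Module Subgroup
open Cfsg.Agent.Lib.Helper23.Ward
open Cfsg.Agent.Lib.Helper23.PQ.MinCE (Zc mem_Zc Zc_le conj_mem_Zc Zc_comm)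
open Cfsg.Agent.Lib.Helper23.S3 (lift_of_pow)
open Cfsg.Agent.Lib.Helper17.ESMod (bcRep bcRep_apply bcRep_eq_one bcRep_fix)
open scoped commutatorElement TensorProduct

universe u

/-- the linear representation over `ZMod r` attached to an action by automorphisms on an elementary
abelian `r`-group, with an additive identification -/
theorem exists_rep_of_aut_add {T : Type u} [Group T] {r : ℕ} [Fact r.Prime] {E : Type u} [Group E]
    [Finite E] (hc : ∀ a b : E, a * b = b * a) (he : ∀ a : E, a ^ r = 1) (ψ : T →* MulAut E) :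
    ∃ (W : Type u) (_ : AddCommGroup W) (_ : Module (ZMod r) W) (_ : Finite W)
      (ρ : Representation (ZMod r) T W) (e : E ≃ W),
      (∀ t x, ρ t (e x) = e (ψ t x)) ∧ e 1 = 0 ∧ (∀ x y, e (x * y) = e x + e y) ∧
        ∀ x, e x⁻¹ = - e x := by
  let _ : CommGroup E :=
    { (inferInstance : Group E) with
      mul_comm := hc }
  obtain ⟨iM⟩ : Nonempty (Module (ZMod r) (Additive E)) :=
    ⟨AddCommGroup.zmodModule (n := r) (by
      intro x
      have h2 : r • x = Additive.ofMul ((Additive.toMul x) ^ r) := rfl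
      rw [h2, he]; rfl)⟩
  let ρ₀ : T →* Module.End (ZMod r) (Additive E) :=
    { toFun := fun g => (MonoidHom.toAdditive (ψ g).toMonoidHom).toZModLinearMap r
      map_one' := by
        apply LinearMap.ext
        intro x
        change Additive.ofMul ((ψ 1) (Additive.toMul x)) = x
        rw [map_one]
        rfl
      map_mul' := fun g h => by
        apply LinearMap.ext
        intro x
        change Additive.ofMul ((ψ (g * h)) (Additive.toMul x)) =
          Additive.ofMul ((ψ g) (Additive.toMul (Additive.ofMul ((ψ h) (Additive.toMul x)))))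
        rw [map_mul]
        rfl }
  refine ⟨Additive E, inferInstance, iM, inferInstance, ρ₀, Additive.ofMul, ?_, rfl, ?_, ?_⟩
  · intro t x
    rfl
  · intro x y
    rfl
  · intro x
    rfl

/-- **the third level**: let `a` of order dividing `2 ^ (n + 1)` act without fixed points on the
elementary abelian normal `q`-subgroup `E` and on the `s`-group `T`, which is generated by elements
inverted by `b = a ^ (2 ^ n)` and acts nontrivially on `E`. Then the part of `E` inverted by `b` has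
order at least `q ^ (2 ^ n)`, and some element of `C_T(b)` acts nontrivially on it. -/
theorem al3 {Δ : Type u} [Group Δ] [Finite Δ] {n q s : ℕ} (hq : q.Prime) (hs : s.Prime)
    (hq2 : q ≠ 2) (hs2 : s ≠ 2) (hqs : q ≠ s) (a : Δ) (han : a ^ (2 ^ (n + 1)) = 1)
    (E : Subgroup Δ) [hEn : E.Normal] (hEc : ∀ x ∈ E, ∀ y ∈ E, x * y = y * x)
    (hEq : ∀ x ∈ E, x ^ q = 1) (T : Subgroup Δ) (hT : IsPGroup s T)
    (haT : ∀ t ∈ T, a * t * a⁻¹ ∈ T) (hfE : ∀ x ∈ E, a * x = x * a → x = 1)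
    (hfT : ∀ t ∈ T, a * t = t * a → t = 1) (X : Set Δ) (hTX : T = closure X)
    (hXb : ∀ t ∈ X, a ^ (2 ^ n) * t * (a ^ (2 ^ n))⁻¹ = t⁻¹)
    (hne : ∃ t ∈ T, ∃ x ∈ E, t * x ≠ x * t) :
    (∀ A : Subgroup Δ, (∀ x ∈ E, x * (a ^ (2 ^ n) * x * (a ^ (2 ^ n))⁻¹)⁻¹ ∈ A) →
      q ^ (2 ^ n) ≤ Nat.card A) ∧
    ∃ z ∈ T, a ^ (2 ^ n) * z = z * a ^ (2 ^ n) ∧ ∃ x ∈ E,
      z * (x * (a ^ (2 ^ n) * x * (a ^ (2 ^ n))⁻¹)⁻¹) ≠
        (x * (a ^ (2 ^ n) * x * (a ^ (2 ^ n))⁻¹)⁻¹) * z := by
  classical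
  have : Fact q.Prime := ⟨hq⟩
  have : Fact s.Prime := ⟨hs⟩
  set b := a ^ (2 ^ n) with hb
  have hb2 : b ^ (2 ^ 1) = 1 := by
    rw [pow_one, hb, ← pow_mul, ← pow_succ]; exact han
  let ψ : Δ →* MulAut ↥E := MulAut.conjNormal
  have hφ : ∀ (g : Δ) (m : ↥E), ((ψ g m : ↥E) : Δ) = g * m * g⁻¹ :=
    fun g m => MulAut.conjNormal_apply g m
  have hfin : Finite (MulAut ↥E) :=
    Finite.of_injective (fun f : MulAut ↥E => (f : ↥E → ↥E)) DFunLike.coe_injective
  obtain ⟨W, iA, iM, iF, ρ₀, e, he, he1, hadd, hneg⟩ :=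
    exists_rep_of_aut_add (T := MulAut ↥E) (r := q) (E := ↥E)
      (fun x y => Subtype.ext (hEc x x.2 y y.2))
      (fun x => Subtype.ext (by simpa using hEq x x.2)) (MonoidHom.id _)
  have he' : ∀ (t : MulAut ↥E) (x : ↥E), ρ₀ t (e x) = e (t x) := he
  set ρ₃ : Representation (AlgebraicClosure (ZMod q)) (MulAut ↥E) ((AlgebraicClosure (ZMod q)) ⊗[ZMod q] W) := bcRep (AlgebraicClosure (ZMod q)) ρ₀ with hρ₃
  set a₃ : MulAut ↥E := ψ a with ha₃
  set T₃ : Subgroup (MulAut ↥E) := T.map ψ with hT₃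
  have hb₃ : a₃ ^ (2 ^ n) = ψ b := by rw [ha₃, hb, map_pow]
  have hsK : (s : (AlgebraicClosure (ZMod q))) ≠ 0 := fun h0 => hqs (natCast_algClosure_eq_zero hs h0).symm
  have h2K : ((2 : ℕ) : (AlgebraicClosure (ZMod q))) ≠ 0 := fun h0 =>
    hq2 (natCast_algClosure_eq_zero Nat.prime_two h0).symm
  have h2K' : (2 : (AlgebraicClosure (ZMod q))) ≠ 0 := by exact_mod_cast h2K
  -- `T ∩ ker ψ`
  set C : Subgroup Δ := T ⊓ ψ.ker with hC
  have hCT : C ≤ T := inf_le_left
  have hTodd : ∀ (L : Subgroup Δ), L ≤ T → ∀ k : ℕ, (Nat.card L).Coprime (2 ^ k) := by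
    intro L hL k
    obtain ⟨j, hj⟩ := IsPGroup.iff_card.mp (hT.to_le hL)
    rw [hj]
    exact Nat.Coprime.pow _ _ ((Nat.coprime_primes hs Nat.prime_two).mpr hs2)
  have hsh : SH ρ₃ 2 n s a₃ T₃ :=
    { hp := Nat.prime_two
      hq := hs
      hpq := hs2.symm
      hqK := hsK
      hpK := h2K
      han := by rw [ha₃, ← map_pow, han, map_one]
      hQ := hT.map ψ
      haQ := by
        rintro _ ⟨t, ht, rfl⟩
        refine ⟨a * t * a⁻¹, haT t ht, ?_⟩
        rw [map_mul, map_mul, map_inv]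
      hfQ := by
        rintro _ ⟨t, ht, rfl⟩ hc
        have hx : t⁻¹ * (a * t * a⁻¹) ∈ C := by
          refine Subgroup.mem_inf.mpr ⟨T.mul_mem (T.inv_mem ht) (haT t ht), ?_⟩
          rw [MonoidHom.mem_ker, map_mul, map_mul, map_mul, map_inv, map_inv, ← ha₃, hc]
          group
        obtain ⟨l, hl, hcl⟩ := lift_of_pow han
          (fun l hl => Subgroup.mem_inf.mpr
            ⟨haT l (Subgroup.mem_inf.mp hl).1, ψ.normal_ker.conj_mem l (Subgroup.mem_inf.mp hl).2 a⟩)
          (hTodd C hCT (n + 1)) hx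
        have h1 : t * l = 1 := hfT _ (T.mul_mem ht (Subgroup.mem_inf.mp hl).1) hcl
        have h2 : t = l⁻¹ := eq_inv_of_mul_eq_one_left h1
        rw [h2, map_inv, MonoidHom.mem_ker.mp (Subgroup.mem_inf.mp hl).2, inv_one]
      hfV := by
        apply bcRep_fix (AlgebraicClosure (ZMod q)) ρ₀ a₃
        intro w hw
        obtain ⟨m, rfl⟩ := e.surjective w
        rw [he'] at hw
        have h3 := e.injective hw
        have h4 := congrArg Subtype.val h3
        rw [ha₃, hφ] at h4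
        have h1 : a * (m : Δ) = (m : Δ) * a := by
          calc a * (m : Δ) = (a * m * a⁻¹) * a := by group
            _ = (m : Δ) * a := by rw [h4]
        have h5 : (m : Δ) = 1 := hfE _ m.2 h1
        have h6 : m = 1 := Subtype.ext h5
        rw [h6, he1]
      hfaith := by
        intro x _ h1
        rw [hρ₃, bcRep_eq_one_iff] at h1
        ext m
        have h3 := he' x m
        rw [h1, Module.End.one_apply] at h3
        have h4 := e.injective h3
        rw [← h4]
        rfl }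
  -- `b` does not centralise `T₃`
  have hne₃ : ∃ x ∈ T₃, a₃ ^ (2 ^ n) * x ≠ x * a₃ ^ (2 ^ n) := by
    by_contra hcon
    push Not at hcon
    have hX : ∀ t ∈ X, ψ t = 1 := by
      intro t ht
      have htT : t ∈ T := by rw [hTX]; exact subset_closure ht
      have h1 := hcon (ψ t) ⟨t, htT, rfl⟩
      rw [hb₃] at h1
      have h2 : ψ t = (ψ t)⁻¹ := by
        calc ψ t = ψ b * ψ t * (ψ b)⁻¹ := by rw [h1, mul_inv_cancel_right]
          _ = ψ (b * t * b⁻¹) := by rw [map_mul, map_mul, map_inv]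
          _ = (ψ t)⁻¹ := by rw [hXb t ht, map_inv]
      have h3 : (ψ t) ^ 2 = 1 := by
        rw [pow_two]
        nth_rw 1 [h2]
        exact inv_mul_cancel _
      obtain ⟨k, hk⟩ := (hT.map ψ) ⟨ψ t, ⟨t, htT, rfl⟩⟩
      have hk' : (ψ t) ^ (s ^ k) = 1 := by
        have := congrArg Subtype.val hk
        simpa using this
      have hcop : Nat.Coprime 2 (s ^ k) :=
        Nat.Coprime.pow_right _ ((Nat.coprime_primes Nat.prime_two hs).mpr hs2.symm)
      have h4 : (ψ t) ^ Nat.gcd 2 (s ^ k) = 1 := pow_gcd_eq_one.mpr ⟨h3, hk'⟩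
      rwa [Nat.Coprime.gcd_eq_one hcop, pow_one] at h4
    have hTker : T ≤ ψ.ker := by
      rw [hTX, closure_le]
      intro t ht
      exact MonoidHom.mem_ker.mpr (hX t ht)
    obtain ⟨t, ht, x, hx, htx⟩ := hne
    apply htx
    have h1 := MonoidHom.mem_ker.mp (hTker ht)
    have h2 := congrArg (fun f : MulAut ↥E => ((f ⟨x, hx⟩ : ↥E) : Δ)) h1
    simp only [hφ, MulAut.one_apply] at h2
    calc t * x = (t * x * t⁻¹) * t := by group
      _ = x * t := by rw [h2]
  obtain ⟨L₁, hL₁, hmc⟩ := hsh.exists_MC hne₃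
  obtain ⟨χ, m, w⟩ := hmc.exists_WT
  have c := hmc.toHC
  have hm := w.hm
  -- the operator `1 - b`
  set f : Module.End (ZMod q) W := 1 - ρ₀ (ψ b) with hf
  have hfe : ∀ x : ↥E, f (e x) = e (x * (ψ b x)⁻¹) := by
    intro x
    rw [hf, LinearMap.sub_apply, Module.End.one_apply, he', hadd, hneg, sub_eq_add_neg]
  set f₃ : Module.End (AlgebraicClosure (ZMod q)) ((AlgebraicClosure (ZMod q)) ⊗[ZMod q] W) := 1 - ρ₃ (ψ b) with hf₃
  have hff₃ : f₃ = Module.End.baseChangeHom (ZMod q) (AlgebraicClosure (ZMod q)) W f := by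
    rw [hf₃, hf, map_sub, map_one, hρ₃, bcRep_apply]
  have hkerle : LinearMap.ker (ρ₃ (a₃ ^ (2 ^ n)) + 1) ≤ LinearMap.range f₃ := by
    intro v hv
    rw [LinearMap.mem_ker, LinearMap.add_apply, Module.End.one_apply, hb₃] at hv
    refine ⟨(2 : (AlgebraicClosure (ZMod q)))⁻¹ • v, ?_⟩
    rw [map_smul, hf₃, LinearMap.sub_apply, Module.End.one_apply]
    have h1 : ρ₃ (ψ b) v = -v := eq_neg_of_add_eq_zero_left hv
    rw [h1, sub_neg_eq_add, ← two_smul (AlgebraicClosure (ZMod q)) v, smul_smul, inv_mul_cancel₀ h2K', one_smul]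
  have hdim : 2 ^ n ≤ finrank (ZMod q) ↥(LinearMap.range f) := by
    have h1 := HC.total_neg_dim c w
    have h2 := Submodule.finrank_mono hkerle
    have h3 : finrank (AlgebraicClosure (ZMod q)) ↥(LinearMap.range f₃) ≤ finrank (ZMod q) ↥(LinearMap.range f) := by
      have e1 : f = (LinearMap.range f).subtype ∘ₗ f.rangeRestrict := by
        apply LinearMap.ext
        intro v
        rfl
      have e2 : f₃ = ((LinearMap.range f).subtype.baseChange (AlgebraicClosure (ZMod q))) ∘ₗ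
          (f.rangeRestrict.baseChange (AlgebraicClosure (ZMod q))) := by
        rw [hff₃, ← LinearMap.baseChange_comp, ← e1]
        rfl
      have h4 : LinearMap.range f₃ ≤ LinearMap.range ((LinearMap.range f).subtype.baseChange (AlgebraicClosure (ZMod q))) := by
        rw [e2]
        exact LinearMap.range_comp_le_range _ _
      have h5 := Submodule.finrank_mono h4
      have h6 := LinearMap.finrank_range_le ((LinearMap.range f).subtype.baseChange (AlgebraicClosure (ZMod q)))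
      rw [Module.finrank_baseChange] at h6
      exact h5.trans h6
    exact h1.trans (h2.trans h3)
  refine ⟨?_, ?_⟩
  · intro A hA
    have hcardN : Nat.card ↥(LinearMap.range f) = q ^ finrank (ZMod q) ↥(LinearMap.range f) := by
      rw [Module.natCard_eq_pow_finrank (K := ZMod q), Nat.card_zmod]
    have h1 : q ^ (2 ^ n) ≤ Nat.card ↥(LinearMap.range f) := by
      rw [hcardN]
      exact Nat.pow_le_pow_right hq.pos hdim
    refine h1.trans ?_
    have hmem : ∀ v : ↥(LinearMap.range f), ((e.symm (v : W) : ↥E) : Δ) ∈ A := by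
      intro v
      obtain ⟨w', hw'⟩ := v.2
      obtain ⟨x, rfl⟩ := e.surjective w'
      rw [← hw', hfe, Equiv.symm_apply_apply, Subgroup.coe_mul, Subgroup.coe_inv, hφ]
      exact hA x x.2
    apply Nat.card_le_card_of_injective (fun v : ↥(LinearMap.range f) =>
      (⟨((e.symm (v : W) : ↥E) : Δ), hmem v⟩ : ↥A))
    intro v v' hvv'
    have h2 := congrArg Subtype.val hvv'
    simp only at h2
    exact Subtype.ext (e.symm.injective (Subtype.ext h2))
  · -- the element `z`
    obtain ⟨s₁, hs₁, t₁, ht₁, hst⟩ := w.hs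
    set z₃ : MulAut ↥E := ⁅s₁, t₁⁆ with hz₃
    have hz₃Z : z₃ ∈ Zc L₁ := c.class2 s₁ hs₁ t₁ ht₁
    have hz₃T : z₃ ∈ T₃ := hL₁ (Zc_le L₁ hz₃Z)
    have hz₃b : a₃ ^ (2 ^ n) * z₃ = z₃ * a₃ ^ (2 ^ n) := c.b_cent_Z z₃ hz₃Z
    obtain ⟨z₀, hz₀T, hz₀⟩ := hz₃T
    have hx : z₀⁻¹ * (b * z₀ * b⁻¹) ∈ C := by
      have hbT : b * z₀ * b⁻¹ ∈ T :=
        Cfsg.Agent.Lib.Helper17.ESMod.conj_pow_mem T a haT (2 ^ n) z₀ hz₀T
      refine Subgroup.mem_inf.mpr ⟨T.mul_mem (T.inv_mem hz₀T) hbT, ?_⟩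
      rw [MonoidHom.mem_ker, map_mul, map_mul, map_mul, map_inv, map_inv, hz₀, ← hb₃, hz₃b]
      group
    obtain ⟨l, hl, hcl⟩ := lift_of_pow hb2
      (fun l hl => Subgroup.mem_inf.mpr
        ⟨Cfsg.Agent.Lib.Helper17.ESMod.conj_pow_mem T a haT (2 ^ n) l (Subgroup.mem_inf.mp hl).1,
          ψ.normal_ker.conj_mem l (Subgroup.mem_inf.mp hl).2 b⟩) (hTodd C hCT 1) hx
    have hzψ : ψ (z₀ * l) = z₃ := by
      rw [map_mul, hz₀, MonoidHom.mem_ker.mp (Subgroup.mem_inf.mp hl).2, mul_one]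
    refine ⟨z₀ * l, T.mul_mem hz₀T (Subgroup.mem_inf.mp hl).1, hcl, ?_⟩
    by_contra hcon
    push Not at hcon
    -- `z₃` acts trivially on the range of `f`
    have h1 : (ρ₀ z₃ - 1) * f = 0 := by
      apply LinearMap.ext
      intro w'
      obtain ⟨x, rfl⟩ := e.surjective w'
      rw [Module.End.mul_apply, hfe, LinearMap.sub_apply, Module.End.one_apply, he',
        LinearMap.zero_apply, sub_eq_zero]
      congr 1
      apply Subtype.ext
      rw [← hzψ, hφ, Subgroup.coe_mul, Subgroup.coe_inv, hφ]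
      have := hcon x x.2
      rw [this, mul_inv_cancel_right]
    have h2 : (ρ₃ z₃ - 1) * f₃ = 0 := by
      have := congrArg (Module.End.baseChangeHom (ZMod q) (AlgebraicClosure (ZMod q)) W) h1
      rw [map_mul, map_sub, map_one, map_zero, ← hff₃] at this
      exact this
    -- a nonzero vector in the weight space inverted by `b`
    have h3 := HC.neg_dim c w
    have h4 : 0 < finrank (AlgebraicClosure (ZMod q)) ↥(wt ρ₃ (Zc L₁) χ ⊓ LinearMap.ker (ρ₃ (a₃ ^ (2 ^ n)) + 1)) :=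
      lt_of_lt_of_le (pow_pos (by norm_num) _) h3
    have h5 : Nontrivial ↥(wt ρ₃ (Zc L₁) χ ⊓ LinearMap.ker (ρ₃ (a₃ ^ (2 ^ n)) + 1)) :=
      Module.finrank_pos_iff.mp h4
    obtain ⟨⟨v, hvwt, hvker⟩, hv0⟩ := exists_ne (0 : ↥(wt ρ₃ (Zc L₁) χ ⊓
      LinearMap.ker (ρ₃ (a₃ ^ (2 ^ n)) + 1)))
    have hv0' : v ≠ 0 := fun h0 => hv0 (Subtype.ext h0)
    rw [SetLike.mem_coe, LinearMap.mem_ker, LinearMap.add_apply, Module.End.one_apply, hb₃]
      at hvker
    have h6 : f₃ v = (2 : (AlgebraicClosure (ZMod q))) • v := by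
      rw [hf₃, LinearMap.sub_apply, Module.End.one_apply, eq_neg_of_add_eq_zero_left hvker,
        sub_neg_eq_add, two_smul]
    have h8 : ρ₃ z₃ v = χ z₃ • v := hvwt z₃ hz₃Z
    have h7 : (ρ₃ z₃ - 1) (f₃ v) = 0 := by
      rw [← Module.End.mul_apply, h2, LinearMap.zero_apply]
    rw [h6, map_smul, LinearMap.sub_apply, Module.End.one_apply, h8] at h7
    rcases smul_eq_zero.mp h7 with h9 | h9
    · exact h2K' h9
    · have h10 : (χ z₃ - 1) • v = 0 := by
        have h12 := sub_smul (χ z₃) 1 v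
        rw [one_smul] at h12
        rw [h12]
        exact h9
      rcases smul_eq_zero.mp h10 with h11 | h11
      · exact hst (sub_eq_zero.mp h11)
      · exact hv0' h11

end Cfsg.Agent.Lib.Helper23.SG
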