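import Mathlib
import Cfsg.Agent.Lib.Helper23.SGT4

/-!
# helper23: Gross' theorem for `p = 2`, part 5: tools (fixed points on a section of order nine,
characteristic subgroups, class-two commutator calculus, the part inverted by `b`, conjugation of
`Yr`)
-/

set_option autoImplicit false
set_option linter.unusedSectionVars false
set_option linter.style.haveILetI false

namespace Cfsg.Agent.Lib.Helper23.SG

open Module Subgroup
open Cfsg.Agent.Lib.Helper23.Ward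
open Cfsg.Agent.Lib.Helper23.PQ.MinCE (Zc mem_Zc Zc_le conj_mem_Zc Zc_comm)
open Cfsg.Agent.Lib.Helper23.S3 (rho_mul_apply mem_normalizer_of_conj_mem conj_inv_mem_of_finite
  lift_of_pow)
open scoped commutatorElement

universe u

section Fix

variable {Γ : Type*} [Group Γ] [Finite Γ]

/-- `|L| = |K| * [L : K]` for `K ≤ L` -/
theorem card_eq_card_mul_relIndex' {K L : Subgroup Γ} (h : K ≤ L) :
    Nat.card L = Nat.card K * K.relIndex L := by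
  rw [← Subgroup.card_mul_index (K.subgroupOf L),
    Nat.card_congr (Subgroup.subgroupOfEquivOfLe h).toEquiv]
  rfl

/-- the fixed-point congruence for an element of prime power order normalising a subgroup -/
theorem card_modEq_cent {s k : ℕ} [Fact s.Prime] (A : Subgroup Γ) (z : Γ)
    (hz : z ^ (s ^ k) = 1) (hzA : ∀ x ∈ A, z * x * z⁻¹ ∈ A) :
    Nat.card A ≡ Nat.card ↥(A ⊓ centralizer {z}) [MOD s] := by
  classical
  let _ : Fintype ↥A := Fintype.ofFinite _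
  let f : Function.End ↥A := fun x => ⟨z * x * z⁻¹, hzA x x.2⟩
  have hfpow : ∀ (j : ℕ) (x : ↥A), (((f ^ j) x : ↥A) : Γ) = z ^ j * x * (z ^ j)⁻¹ := by
    intro j
    induction j with
    | zero =>
      intro x
      rw [pow_zero, pow_zero, one_mul, inv_one, mul_one]
      rfl
    | succ j ih =>
      intro x
      rw [pow_succ']
      show (((f ((f ^ j) x)) : ↥A) : Γ) = _
      show z * (((f ^ j) x : ↥A) : Γ) * z⁻¹ = _
      rw [ih, pow_succ']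
      group
  have hf : f ^ (s ^ k) = 1 := by
    funext x
    apply Subtype.ext
    rw [hfpow, hz, one_mul, inv_one, mul_one]
    rfl
  have h1 := Equiv.Perm.card_fixedPoints_modEq (f := f) hf
  have e : ↥(Function.fixedPoints f) ≃ ↥(A ⊓ centralizer {z}) :=
    { toFun := fun x => ⟨((x : ↥A) : Γ), by
        refine Subgroup.mem_inf.mpr ⟨(x : ↥A).2, ?_⟩
        rw [mem_centralizer_singleton_iff]
        have h2 : f (x : ↥A) = (x : ↥A) := x.2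
        have h3 : z * ((x : ↥A) : Γ) * z⁻¹ = ((x : ↥A) : Γ) := congrArg Subtype.val h2
        calc ((x : ↥A) : Γ) * z = (z * ((x : ↥A) : Γ) * z⁻¹) * z := by rw [h3]
          _ = z * ((x : ↥A) : Γ) := by group⟩
      invFun := fun y => ⟨⟨(y : Γ), (Subgroup.mem_inf.mp y.2).1⟩, by
        have h2 := mem_centralizer_singleton_iff.mp (Subgroup.mem_inf.mp y.2).2
        show f _ = _
        apply Subtype.ext
        show z * (y : Γ) * z⁻¹ = (y : Γ)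
        rw [← h2, mul_inv_cancel_right]⟩
      left_inv := fun x => rfl
      right_inv := fun y => rfl }
  rw [Nat.card_eq_fintype_card, ← Nat.card_congr e, Nat.card_eq_fintype_card]
  convert h1

/-- an element of `s`-power order, `s ≥ 5`, normalising the `3`-groups `B ⊴ A` of index nine acts
trivially on `A / B` -/
theorem al4 {s k : ℕ} (hs : s.Prime) (hs5 : 5 ≤ s) (A B : Subgroup Γ) (hBA : B ≤ A)
    (hBn : ∀ x ∈ A, ∀ y ∈ B, x * y * x⁻¹ ∈ B) (z : Γ) (hz : z ^ (s ^ k) = 1)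
    (hzA : ∀ x ∈ A, z * x * z⁻¹ ∈ A) (hzB : ∀ y ∈ B, z * y * z⁻¹ ∈ B)
    (hidx : Nat.card A = 9 * Nat.card B) (hA3 : IsPGroup 3 A) : ∀ x ∈ A, ⁅z, x⁆ ∈ B := by
  classical
  have : Fact s.Prime := ⟨hs⟩
  have : Fact (Nat.Prime 3) := ⟨Nat.prime_three⟩
  set CA : Subgroup Γ := A ⊓ centralizer {z} with hCA
  set CB : Subgroup Γ := B ⊓ centralizer {z} with hCB
  have hCAA : CA ≤ A := inf_le_left
  have hCBCA : CB ≤ CA := inf_le_inf_right _ hBA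
  have hCBeq : CB = B ⊓ CA := by
    rw [hCB, hCA, ← inf_assoc, inf_eq_left.mpr hBA]
  have h1 := card_modEq_cent A z hz hzA
  have h2 := card_modEq_cent B z hz hzB
  rw [← hCA] at h1
  rw [← hCB] at h2
  set j := CB.relIndex CA with hj
  have hjeq : j = B.relIndex CA := by
    rw [hj, hCBeq, Subgroup.inf_relIndex_right]
  have h3 : Nat.card CA = Nat.card CB * j := card_eq_card_mul_relIndex' hCBCA
  have h4 : Nat.card A = Nat.card B * B.relIndex A :=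
    card_eq_card_mul_relIndex' hBA
  have hBpos : 0 < Nat.card B := Nat.card_pos
  have h9 : B.relIndex A = 9 := by
    rw [hidx, mul_comm] at h4
    exact (Nat.eq_of_mul_eq_mul_left hBpos h4).symm
  have hjle : j ≤ 9 := by
    rw [hjeq, ← h9]
    exact Subgroup.relIndex_le_of_le_right hCAA (by rw [h9]; norm_num)
  -- `j` is a power of three
  obtain ⟨i, hi⟩ := IsPGroup.iff_card.mp hA3
  obtain ⟨u, hu⟩ := IsPGroup.iff_card.mp (hA3.to_le hBA)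
  have hjdvd : j ∣ 3 ^ i := by
    rw [← hi]
    exact (Dvd.intro_left _ h3.symm).trans (Subgroup.card_dvd_of_le hCAA)
  obtain ⟨t, -, ht⟩ := (Nat.dvd_prime_pow Nat.prime_three).mp hjdvd
  have hj9 : j = 9 := by
    -- the congruence
    have hc : 9 * Nat.card B ≡ j * Nat.card B [MOD s] := by
      calc 9 * Nat.card B = Nat.card A := hidx.symm
        _ ≡ Nat.card CA [MOD s] := h1
        _ = Nat.card CB * j := h3
        _ ≡ Nat.card B * j [MOD s] := Nat.ModEq.mul_right _ h2.symm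
        _ = j * Nat.card B := mul_comm _ _
    have hcop : Nat.Coprime (Nat.card B) s := by
      rw [hu]
      apply Nat.Coprime.pow_left
      rw [Nat.coprime_primes Nat.prime_three hs]
      omega
    have hc' : 9 ≡ j [MOD s] := Nat.ModEq.cancel_right_of_coprime (c := Nat.card B)
      (by rw [Nat.Coprime.gcd_eq_one hcop.symm]) hc
    have hdvd : s ∣ 9 - j := (Nat.modEq_iff_dvd' hjle).mp hc'.symm
    have ht2 : t ≤ 2 := by
      by_contra hcon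
      push Not at hcon
      have : 3 ^ 3 ≤ 3 ^ t := Nat.pow_le_pow_right (by norm_num) hcon
      omega
    interval_cases t
    · exfalso
      rw [ht] at hdvd
      have h8 : s ∣ 2 ^ 3 := by norm_num at hdvd ⊢; exact hdvd
      have := (Nat.prime_dvd_prime_iff_eq hs Nat.prime_two).mp (hs.dvd_of_dvd_pow h8)
      omega
    · exfalso
      rw [ht] at hdvd
      have h6 : s ∣ 2 * 3 := by norm_num at hdvd ⊢; exact hdvd
      rcases (Nat.Prime.dvd_mul hs).mp h6 with h | h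
      · have := (Nat.prime_dvd_prime_iff_eq hs Nat.prime_two).mp h
        omega
      · have := (Nat.prime_dvd_prime_iff_eq hs Nat.prime_three).mp h
        omega
    · rw [ht]; norm_num
  -- every coset of `B` in `A` meets `CA`
  have hsurj : Function.Surjective (quotientSubgroupOfEmbeddingOfLE B hCAA) := by
    have hfin : Finite (↥A ⧸ B.subgroupOf A) := inferInstance
    have hb := Function.Injective.bijective_of_nat_card_le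
      (quotientSubgroupOfEmbeddingOfLE B hCAA).injective (by
        show (B.subgroupOf A).index ≤ (B.subgroupOf CA).index
        show B.relIndex A ≤ B.relIndex CA
        rw [h9, ← hjeq, hj9])
    exact hb.2
  intro x hx
  obtain ⟨cq, hcq⟩ := hsurj (QuotientGroup.mk (⟨x, hx⟩ : ↥A))
  obtain ⟨c, rfl⟩ := QuotientGroup.mk_surjective cq
  have h5 : (QuotientGroup.mk (Subgroup.inclusion hCAA c) : ↥A ⧸ B.subgroupOf A) =
      QuotientGroup.mk (⟨x, hx⟩ : ↥A) := hcq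
  rw [QuotientGroup.eq, Subgroup.mem_subgroupOf] at h5
  have h6 : (c : Γ)⁻¹ * x ∈ B := by simpa using h5
  have hcz : z * (c : Γ) = (c : Γ) * z :=
    (mem_centralizer_singleton_iff.mp (Subgroup.mem_inf.mp c.2).2).symm
  set β := (c : Γ)⁻¹ * x with hβ
  have hxe : x = (c : Γ) * β := by rw [hβ]; group
  have e : ⁅z, x⁆ = (c : Γ) * ((z * β * z⁻¹) * β⁻¹) * (c : Γ)⁻¹ := by
    rw [commutatorElement_def, hxe]
    calc z * ((c : Γ) * β) * z⁻¹ * ((c : Γ) * β)⁻¹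
        = (z * (c : Γ)) * β * z⁻¹ * β⁻¹ * (c : Γ)⁻¹ := by group
      _ = ((c : Γ) * z) * β * z⁻¹ * β⁻¹ * (c : Γ)⁻¹ := by rw [hcz]
      _ = (c : Γ) * ((z * β * z⁻¹) * β⁻¹) * (c : Γ)⁻¹ := by group
  rw [e]
  exact hBn _ (hCAA c.2) _ (B.mul_mem (hzB β h6) (B.inv_mem h6))

end Fix

section CharSec

variable {Γ : Type*} [Group Γ]

/-- a characteristic subgroup of `Q` is normalised by the normaliser of `Q` -/
theorem conj_mem_map_char {Q : Subgroup Γ} (C : Subgroup ↥Q) [hC : C.Characteristic] {g : Γ}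
    (hg : g ∈ normalizer (Q : Set Γ)) :
    ∀ x ∈ C.map Q.subtype, g * x * g⁻¹ ∈ C.map Q.subtype := by
  have h1 : ∀ x ∈ Q, g * x * g⁻¹ ∈ Q := fun x hx => conj_mem_of_mem_normalizer hg hx
  have h2 : ∀ x ∈ Q, g⁻¹ * x * g ∈ Q := fun x hx => inv_conj_mem_of_mem_normalizer hg hx
  let φ : ↥Q ≃* ↥Q :=
    { toFun := fun x => ⟨g * x * g⁻¹, h1 x x.2⟩
      invFun := fun x => ⟨g⁻¹ * x * g, h2 x x.2⟩
      left_inv := fun x => by
        apply Subtype.ext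
        show g⁻¹ * (g * (x : Γ) * g⁻¹) * g = x
        group
      right_inv := fun x => by
        apply Subtype.ext
        show g * (g⁻¹ * (x : Γ) * g) * g⁻¹ = x
        group
      map_mul' := fun x y => by
        apply Subtype.ext
        show g * ((x : Γ) * (y : Γ)) * g⁻¹ = (g * x * g⁻¹) * (g * y * g⁻¹)
        group }
  rintro _ ⟨x, hx, rfl⟩
  have h3 : C ≤ C.comap φ.toMonoidHom := Subgroup.characteristic_iff_le_comap.mp hC φ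
  exact ⟨φ x, h3 hx, rfl⟩

end CharSec

section C2

variable {Γ : Type*} [Group Γ] [Finite Γ] {Q : Subgroup Γ}

theorem c2_comm_mem (hcl : ∀ x ∈ Q, ∀ y ∈ Q, ⁅x, y⁆ ∈ Zc Q) {x y : Γ} (hx : x ∈ Q) (hy : y ∈ Q) :
    ⁅x, y⁆ ∈ Q := Zc_le Q (hcl x hx y hy)

/-- bilinearity of the commutator in class two, left variable -/
theorem c2_mul_left (hcl : ∀ x ∈ Q, ∀ y ∈ Q, ⁅x, y⁆ ∈ Zc Q) {x x' y : Γ} (hx : x ∈ Q)
    (hx' : x' ∈ Q) (hy : y ∈ Q) : ⁅x * x', y⁆ = ⁅x, y⁆ * ⁅x', y⁆ := by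
  have e : ⁅x * x', y⁆ = x * ⁅x', y⁆ * x⁻¹ * ⁅x, y⁆ := by
    simp only [commutatorElement_def]; group
  have h1 : x * ⁅x', y⁆ = ⁅x', y⁆ * x := (mem_Zc.mp (hcl x' hx' y hy)).2 x hx
  have h2 : ⁅x, y⁆ * ⁅x', y⁆ = ⁅x', y⁆ * ⁅x, y⁆ :=
    (mem_Zc.mp (hcl x' hx' y hy)).2 _ (c2_comm_mem hcl hx hy)
  rw [e, h1, mul_inv_cancel_right, h2]

/-- bilinearity of the commutator in class two, right variable -/
theorem c2_mul_right (hcl : ∀ x ∈ Q, ∀ y ∈ Q, ⁅x, y⁆ ∈ Zc Q) {x y y' : Γ} (hx : x ∈ Q)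
    (hy : y ∈ Q) (hy' : y' ∈ Q) : ⁅x, y * y'⁆ = ⁅x, y⁆ * ⁅x, y'⁆ := by
  have e : ⁅x, y * y'⁆ = ⁅x, y⁆ * (y * ⁅x, y'⁆ * y⁻¹) := by
    simp only [commutatorElement_def]; group
  have h1 : y * ⁅x, y'⁆ = ⁅x, y'⁆ * y := (mem_Zc.mp (hcl x hx y' hy')).2 y hy
  rw [e, h1, mul_inv_cancel_right]

theorem c2_inv_left (hcl : ∀ x ∈ Q, ∀ y ∈ Q, ⁅x, y⁆ ∈ Zc Q) {x y : Γ} (hx : x ∈ Q)
    (hy : y ∈ Q) : ⁅x⁻¹, y⁆ = ⁅x, y⁆⁻¹ := by
  have h1 := c2_mul_left hcl hx (Q.inv_mem hx) hy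
  rw [mul_inv_cancel] at h1
  have h2 : ⁅(1 : Γ), y⁆ = 1 := by rw [commutatorElement_def]; group
  rw [h2] at h1
  exact (inv_eq_of_mul_eq_one_right h1.symm).symm

theorem c2_inv_right (hcl : ∀ x ∈ Q, ∀ y ∈ Q, ⁅x, y⁆ ∈ Zc Q) {x y : Γ} (hx : x ∈ Q)
    (hy : y ∈ Q) : ⁅x, y⁻¹⁆ = ⁅x, y⁆⁻¹ := by
  have h1 := c2_mul_right hcl hx hy (Q.inv_mem hy)
  rw [mul_inv_cancel] at h1
  have h2 : ⁅x, (1 : Γ)⁆ = 1 := by rw [commutatorElement_def]; group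
  rw [h2] at h1
  exact (inv_eq_of_mul_eq_one_right h1.symm).symm

theorem c2_mul_central (hcl : ∀ x ∈ Q, ∀ y ∈ Q, ⁅x, y⁆ ∈ Zc Q) {x y ζ : Γ} (hx : x ∈ Q)
    (hy : y ∈ Q) (hζ : ζ ∈ Zc Q) : ⁅x, y * ζ⁆ = ⁅x, y⁆ := by
  rw [c2_mul_right hcl hx hy (Zc_le Q hζ)]
  have h1 : ⁅x, ζ⁆ = 1 := by
    rw [commutatorElement_eq_one_iff_mul_comm]
    exact (mem_Zc.mp hζ).2 x hx
  rw [h1, mul_one]

/-- the key identity: for `y` inverted by `b` modulo the centre, `[x (b x b⁻¹)⁻¹, y] = [x, y] ^ 2` -/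
theorem c2_key (hcl : ∀ x ∈ Q, ∀ y ∈ Q, ⁅x, y⁆ ∈ Zc Q) {b : Γ}
    (hbQ : ∀ x ∈ Q, b * x * b⁻¹ ∈ Q) (hbZ : ∀ z ∈ Zc Q, b * z = z * b) {x y : Γ} (hx : x ∈ Q)
    (hy : y ∈ Q) (hyb : y * (b * y * b⁻¹) ∈ Zc Q) :
    ⁅x * (b * x * b⁻¹)⁻¹, y⁆ = ⁅x, y⁆ * ⁅x, y⁆ := by
  set u := b * x * b⁻¹ with hu
  set ζ := y * (b * y * b⁻¹) with hζ
  have huQ : u ∈ Q := hbQ x hx
  have hby : b * y * b⁻¹ = y⁻¹ * ζ := by rw [hζ]; group
  have h1 : b * ⁅x, y⁆ * b⁻¹ = ⁅u, y⁻¹ * ζ⁆ := by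
    rw [← hby, hu]
    simp only [commutatorElement_def]; group
  have h2 : b * ⁅x, y⁆ * b⁻¹ = ⁅x, y⁆ := by
    rw [hbZ _ (hcl x hx y hy), mul_inv_cancel_right]
  have h3 : ⁅u, y⁻¹ * ζ⁆ = ⁅u, y⁆⁻¹ := by
    rw [c2_mul_central hcl huQ (Q.inv_mem hy) hyb, c2_inv_right hcl huQ hy]
  have h4 : ⁅x, y⁆ = ⁅u, y⁆⁻¹ := by rw [← h2, h1, h3]
  rw [c2_mul_left hcl hx (Q.inv_mem huQ) hy, c2_inv_left hcl huQ hy, ← h4]

end C2

section DmSec

variable {Γ : Type*} [Group Γ] [Finite Γ]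

/-- the part of the class-two group `Q` inverted by `b` modulo the centre -/
def Dm (Q : Subgroup Γ) (b : Γ) (hcl : ∀ x ∈ Q, ∀ y ∈ Q, ⁅x, y⁆ ∈ Zc Q)
    (hbQ : ∀ x ∈ Q, b * x * b⁻¹ ∈ Q) : Subgroup Γ where
  carrier := {g | g ∈ Q ∧ g * (b * g * b⁻¹) ∈ Zc Q}
  one_mem' := by
    refine ⟨Q.one_mem, ?_⟩
    have : (1 : Γ) * (b * 1 * b⁻¹) = 1 := by group
    rw [this]
    exact (Zc Q).one_mem
  mul_mem' := by
    rintro g h ⟨hg, hg'⟩ ⟨hh, hh'⟩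
    refine ⟨Q.mul_mem hg hh, ?_⟩
    have e : g * h * (b * (g * h) * b⁻¹) =
        (g * (b * g * b⁻¹)) * ⁅(b * g * b⁻¹)⁻¹, h⁆ * (h * (b * h * b⁻¹)) := by
      rw [commutatorElement_def]; group
    rw [e]
    exact (Zc Q).mul_mem ((Zc Q).mul_mem hg' (hcl _ (Q.inv_mem (hbQ g hg)) _ hh)) hh'
  inv_mem' := by
    rintro g ⟨hg, hg'⟩
    refine ⟨Q.inv_mem hg, ?_⟩
    have h1 : g * (g * (b * g * b⁻¹)) = (g * (b * g * b⁻¹)) * g := (mem_Zc.mp hg').2 g hg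
    have e : g⁻¹ * (b * g⁻¹ * b⁻¹) = (g * (b * g * b⁻¹))⁻¹ := by
      have h2 : (b * g * b⁻¹) * g = g * (b * g * b⁻¹) := by
        calc (b * g * b⁻¹) * g = g⁻¹ * (g * (b * g * b⁻¹) * g) := by group
          _ = g⁻¹ * (g * (g * (b * g * b⁻¹))) := by rw [h1]
          _ = g * (b * g * b⁻¹) := by group
      calc g⁻¹ * (b * g⁻¹ * b⁻¹) = ((b * g * b⁻¹) * g)⁻¹ := by group
        _ = (g * (b * g * b⁻¹))⁻¹ := by rw [h2]
    rw [e]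
    exact (Zc Q).inv_mem hg'

variable {Q : Subgroup Γ} {b : Γ} {hcl : ∀ x ∈ Q, ∀ y ∈ Q, ⁅x, y⁆ ∈ Zc Q}
  {hbQ : ∀ x ∈ Q, b * x * b⁻¹ ∈ Q}

theorem mem_Dm {g : Γ} : g ∈ Dm Q b hcl hbQ ↔ g ∈ Q ∧ g * (b * g * b⁻¹) ∈ Zc Q := Iff.rfl

theorem Dm_le : Dm Q b hcl hbQ ≤ Q := fun _ hg => hg.1

theorem Zc_le_Dm (hbZ : ∀ z ∈ Zc Q, b * z = z * b) : Zc Q ≤ Dm Q b hcl hbQ := by
  intro z hz
  refine ⟨Zc_le Q hz, ?_⟩
  rw [hbZ z hz, mul_inv_cancel_right]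
  exact (Zc Q).mul_mem hz hz

/-- `x (b x b⁻¹)⁻¹` is inverted by `b` -/
theorem sub_mem_Dm (hb2 : b * b = 1) {x : Γ} (hx : x ∈ Q) :
    x * (b * x * b⁻¹)⁻¹ ∈ Dm Q b hcl hbQ := by
  refine ⟨Q.mul_mem hx (Q.inv_mem (hbQ x hx)), ?_⟩
  have e : x * (b * x * b⁻¹)⁻¹ * (b * (x * (b * x * b⁻¹)⁻¹) * b⁻¹) = 1 := by
    calc x * (b * x * b⁻¹)⁻¹ * (b * (x * (b * x * b⁻¹)⁻¹) * b⁻¹)
        = x * (b * b) * x⁻¹ * (b * b)⁻¹ := by group
      _ = 1 := by rw [hb2]; group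
  rw [e]
  exact (Zc Q).one_mem

/-- elements normalising `Q` and commuting with `b` normalise `Dm` -/
theorem conj_mem_Dm {g : Γ} (hgQ : ∀ x ∈ Q, g * x * g⁻¹ ∈ Q) (hgb : g * b = b * g) :
    ∀ x ∈ Dm Q b hcl hbQ, g * x * g⁻¹ ∈ Dm Q b hcl hbQ := by
  rintro x ⟨hx, hx'⟩
  refine ⟨hgQ x hx, ?_⟩
  have e : g * x * g⁻¹ * (b * (g * x * g⁻¹) * b⁻¹) = g * (x * (b * x * b⁻¹)) * g⁻¹ := by
    have h1 : b * g = g * b := hgb.symm
    have h2 : g⁻¹ * b⁻¹ = b⁻¹ * g⁻¹ := by rw [← mul_inv_rev, ← mul_inv_rev, h1]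
    calc g * x * g⁻¹ * (b * (g * x * g⁻¹) * b⁻¹)
        = g * x * g⁻¹ * ((b * g) * x * (g⁻¹ * b⁻¹)) := by group
      _ = g * x * g⁻¹ * ((g * b) * x * (b⁻¹ * g⁻¹)) := by rw [h1, h2]
      _ = g * (x * (b * x * b⁻¹)) * g⁻¹ := by group
  rw [e]
  exact conj_mem_Zc hgQ _ hx'

/-- the centre of `Dm` is the centre of `Q` -/
theorem Zc_Dm (hbZ : ∀ z ∈ Zc Q, b * z = z * b) (hb2 : b * b = 1)
    (hodd : ∀ z ∈ Zc Q, z * z = 1 → z = 1) : Zc (Dm Q b hcl hbQ) = Zc Q := by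
  apply le_antisymm
  · intro y hy
    rw [mem_Zc] at hy ⊢
    obtain ⟨hyD, hyc⟩ := hy
    refine ⟨hyD.1, ?_⟩
    intro x hx
    have h1 := hyc _ (sub_mem_Dm (hcl := hcl) (hbQ := hbQ) hb2 hx)
    have h2 : ⁅x * (b * x * b⁻¹)⁻¹, y⁆ = 1 := commutatorElement_eq_one_iff_mul_comm.mpr h1
    rw [c2_key hcl hbQ hbZ hx hyD.1 hyD.2] at h2
    have h3 := hodd _ (hcl x hx y hyD.1) h2
    exact commutatorElement_eq_one_iff_mul_comm.mp h3
  · intro z hz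
    rw [mem_Zc]
    refine ⟨Zc_le_Dm hbZ hz, ?_⟩
    intro x hx
    exact (mem_Zc.mp hz).2 x hx.1

end DmSec

section YrSec

variable {K : Type*} [Field K] {Γ : Type*} [Group Γ] [Finite Γ] {V : Type u} [AddCommGroup V]
  [Module K V]

theorem Kl_congr {ρ : Representation K Γ V} {Q : Subgroup Γ} {χ χ' : Γ → K}
    (h : ∀ z ∈ Zc Q, χ z = χ' z) : Kl ρ Q χ ≤ Kl ρ Q χ' := by
  rintro x ⟨hx, hx'⟩
  refine ⟨hx, ?_⟩
  intro v hv
  exact hx' v (wt_congr (fun z hz => (h z hz).symm) hv)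

theorem Yr_congr {ρ : Representation K Γ V} {Q : Subgroup Γ} {χ χ' : Γ → K}
    (h : ∀ z ∈ Zc Q, χ z = χ' z) : Yr ρ Q χ ≤ Yr ρ Q χ' := by
  rintro x ⟨hx, hx'⟩
  refine ⟨hx, ?_⟩
  intro t ht
  exact Kl_congr h (hx' t ht)

theorem cj_cj_inv (g : Γ) (χ : Γ → K) (z : Γ) : cj g⁻¹ (cj g χ) z = χ z := by
  rw [cj_apply, cj_apply]
  congr 1
  group

theorem cj_mul (g h : Γ) (χ : Γ → K) (z : Γ) : cj g (cj h χ) z = cj (g * h) χ z := by
  rw [cj_apply, cj_apply, cj_apply]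
  congr 1
  group

/-- conjugation by an element normalising `Q` carries `Kl χ` to `Kl (cj g χ)` -/
theorem conj_mem_Kl {ρ : Representation K Γ V} {Q : Subgroup Γ} {χ : Γ → K} {g : Γ}
    (hgQ : ∀ x ∈ Q, g * x * g⁻¹ ∈ Q) : ∀ x ∈ Kl ρ Q χ, g * x * g⁻¹ ∈ Kl ρ Q (cj g χ) := by
  rintro x ⟨hx, hx'⟩
  refine ⟨hgQ x hx, ?_⟩
  intro v hv
  have hgi : ∀ x ∈ Q, g⁻¹ * x * g⁻¹⁻¹ ∈ Q := by
    intro x hx
    rw [inv_inv]
    exact conj_inv_mem_of_finite hgQ x hx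
  have hgZ : g⁻¹ ∈ normalizer ((Zc Q : Subgroup Γ) : Set Γ) :=
    mem_normalizer_of_conj_mem (conj_mem_Zc hgi)
  have h1 : ρ g⁻¹ v ∈ wt ρ (Zc Q) χ :=
    wt_congr (fun z _ => cj_cj_inv g χ z) (map_wt hgZ hv)
  rw [rho_mul_apply, rho_mul_apply, hx' _ h1, rho_apply_inv]

/-- conjugation by an element normalising `Q` carries `Yr χ` to `Yr (cj g χ)` -/
theorem conj_mem_Yr {ρ : Representation K Γ V} {Q : Subgroup Γ} {χ : Γ → K} {g : Γ}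
    (hgQ : ∀ x ∈ Q, g * x * g⁻¹ ∈ Q) : ∀ x ∈ Yr ρ Q χ, g * x * g⁻¹ ∈ Yr ρ Q (cj g χ) := by
  rintro x ⟨hx, hx'⟩
  refine ⟨hgQ x hx, ?_⟩
  intro t ht
  have h1 : g⁻¹ * t * g ∈ Q := conj_inv_mem_of_finite hgQ t ht
  have e : ⁅g * x * g⁻¹, t⁆ = g * ⁅x, g⁻¹ * t * g⁆ * g⁻¹ := by
    simp only [commutatorElement_def]; group
  rw [e]
  exact conj_mem_Kl hgQ _ (hx' _ h1)

/-- a weight with a nonzero weight vector is multiplicative -/
theorem wt_chi_mul {ρ : Representation K Γ V} {Z : Subgroup Γ} {χ : Γ → K}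
    (hv : ∃ v ∈ wt ρ Z χ, v ≠ 0) : ∀ z ∈ Z, ∀ z' ∈ Z, χ (z * z') = χ z * χ z' := by
  obtain ⟨v, hv, hv0⟩ := hv
  intro y₁ hy₁ y₂ hy₂
  have h1 : ρ (y₁ * y₂) v = (χ y₁ * χ y₂) • v := by
    rw [map_mul, Module.End.mul_apply, hv y₂ hy₂, map_smul, hv y₁ hy₁, smul_smul, mul_comm]
  rw [hv _ (Z.mul_mem hy₁ hy₂)] at h1
  exact smul_left_injective K hv0 h1

theorem wt_chi_one {ρ : Representation K Γ V} {Z : Subgroup Γ} {χ : Γ → K}
    (hv : ∃ v ∈ wt ρ Z χ, v ≠ 0) : χ 1 = 1 := by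
  obtain ⟨v, hv, hv0⟩ := hv
  have h1 : ρ 1 v = (1 : K) • v := by rw [map_one, one_smul]; rfl
  rw [hv 1 Z.one_mem] at h1
  exact smul_left_injective K hv0 h1

theorem wt_chi_pow {ρ : Representation K Γ V} {Z : Subgroup Γ} {χ : Γ → K}
    (hv : ∃ v ∈ wt ρ Z χ, v ≠ 0) {z : Γ} (hz : z ∈ Z) (k : ℕ) : χ (z ^ k) = χ z ^ k := by
  induction k with
  | zero => rw [pow_zero, pow_zero]; exact wt_chi_one hv
  | succ k ih => rw [pow_succ, pow_succ, wt_chi_mul hv _ (Z.pow_mem hz k) _ hz, ih]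

/-- an element of the centre lies in `Kl` iff the weight is trivial on it -/
theorem mem_Kl_iff_of_wt {ρ : Representation K Γ V} {Q : Subgroup Γ} {χ : Γ → K}
    (hv : ∃ v ∈ wt ρ (Zc Q) χ, v ≠ 0) {z : Γ} (hz : z ∈ Zc Q) : z ∈ Kl ρ Q χ ↔ χ z = 1 := by
  obtain ⟨v, hv, hv0⟩ := hv
  constructor
  · intro h
    have h1 := h.2 v hv
    rw [hv z hz] at h1
    have h2 : χ z • v = (1 : K) • v := by rw [h1, one_smul]
    exact smul_left_injective K hv0 h2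
  · intro h
    refine ⟨Zc_le Q hz, ?_⟩
    intro u hu
    rw [hu z hz, h, one_smul]

/-- `Yr` of the inverted part is contained in `Yr` of `Q` -/
theorem Yr_Dm_le {ρ : Representation K Γ V} {Q : Subgroup Γ} {b : Γ}
    {hcl : ∀ x ∈ Q, ∀ y ∈ Q, ⁅x, y⁆ ∈ Zc Q} {hbQ : ∀ x ∈ Q, b * x * b⁻¹ ∈ Q}
    (hbZ : ∀ z ∈ Zc Q, b * z = z * b) (hb2 : b * b = 1) {q : ℕ} (hq : q.Prime) (hq2 : q ≠ 2)
    (hQ : IsPGroup q Q) {χ : Γ → K} (hv : ∃ v ∈ wt ρ (Zc Q) χ, v ≠ 0) :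
    Yr ρ (Dm Q b hcl hbQ) χ ≤ Yr ρ Q χ := by
  have hodd : ∀ z ∈ Zc Q, z * z = 1 → z = 1 := by
    intro z hz hzz
    obtain ⟨k, hk⟩ := hQ ⟨z, Zc_le Q hz⟩
    have hk' : z ^ (q ^ k) = 1 := by simpa using congrArg Subtype.val hk
    have hcop : Nat.Coprime 2 (q ^ k) :=
      Nat.Coprime.pow_right _ ((Nat.coprime_primes Nat.prime_two hq).mpr hq2.symm)
    have h4 : z ^ Nat.gcd 2 (q ^ k) = 1 := pow_gcd_eq_one.mpr ⟨by rw [pow_two]; exact hzz, hk'⟩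
    rwa [Nat.Coprime.gcd_eq_one hcop, pow_one] at h4
  have hZD : Zc (Dm Q b hcl hbQ) = Zc Q := Zc_Dm hbZ hb2 hodd
  rintro y ⟨hyD, hy'⟩
  refine ⟨hyD.1, ?_⟩
  intro t ht
  have hc : ⁅y, t⁆ ∈ Zc Q := hcl y hyD.1 t ht
  rw [mem_Kl_iff_of_wt hv hc]
  -- the commutator with `d = t (b t b⁻¹)⁻¹`
  have hd : t * (b * t * b⁻¹)⁻¹ ∈ Dm Q b hcl hbQ := sub_mem_Dm hb2 ht
  have h1 := hy' _ hd
  have h2 : ⁅y, t * (b * t * b⁻¹)⁻¹⁆ ∈ Kl ρ Q χ := by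
    obtain ⟨h3, h4⟩ := h1
    refine ⟨Dm_le h3, ?_⟩
    intro v hv'
    apply h4
    rw [hZD]
    exact hv'
  have hcd : ⁅y, t * (b * t * b⁻¹)⁻¹⁆ ∈ Zc Q :=
    hcl y hyD.1 _ (Q.mul_mem ht (Q.inv_mem (hbQ t ht)))
  rw [mem_Kl_iff_of_wt hv hcd] at h2
  have h5 : ⁅y, t * (b * t * b⁻¹)⁻¹⁆ = ⁅y, t⁆ * ⁅y, t⁆ := by
    have h6 := c2_key hcl hbQ hbZ ht hyD.1 hyD.2
    have h7 : ⁅y, t * (b * t * b⁻¹)⁻¹⁆ = ⁅t * (b * t * b⁻¹)⁻¹, y⁆⁻¹ := by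
      rw [commutatorElement_inv]
    have h8 : ⁅t, y⁆⁻¹ = ⁅y, t⁆ := commutatorElement_inv t y
    rw [h7, h6, mul_inv_rev, h8]
  rw [h5, wt_chi_mul hv _ hc _ hc] at h2
  -- odd order
  obtain ⟨k, hk⟩ := hQ ⟨⁅y, t⁆, Zc_le Q hc⟩
  have hk' : ⁅y, t⁆ ^ (q ^ k) = 1 := by simpa using congrArg Subtype.val hk
  have h9 : χ ⁅y, t⁆ ^ (q ^ k) = 1 := by
    rw [← wt_chi_pow hv hc, hk', wt_chi_one hv]
  have hcop : Nat.Coprime 2 (q ^ k) :=
    Nat.Coprime.pow_right _ ((Nat.coprime_primes Nat.prime_two hq).mpr hq2.symm)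
  have h10 : χ ⁅y, t⁆ ^ Nat.gcd 2 (q ^ k) = 1 :=
    pow_gcd_eq_one.mpr ⟨by rw [pow_two]; exact h2, h9⟩
  rwa [Nat.Coprime.gcd_eq_one hcop, pow_one] at h10

end YrSec

end Cfsg.Agent.Lib.Helper23.SG
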