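import Mathlib
import Cfsg.Agent.Lib.Helper23.SGT5

/-!
# helper23: Gross' theorem for `p = 2`, part 6: the third-level lemma for a section
-/

set_option autoImplicit false
set_option linter.unusedSectionVars false
set_option linter.style.haveILetI false

namespace Cfsg.Agent.Lib.Helper23.SG

open Module Subgroup
open Cfsg.Agent.Lib.Helper23.Ward
open Cfsg.Agent.Lib.Helper23.S3 (rho_mul_apply mem_normalizer_of_conj_mem conj_inv_mem_of_finite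
  lift_of_pow)
open scoped commutatorElement

universe u

/-- subgroups of coprime prime power orders meet trivially -/
theorem eq_one_of_mem_pgroups {Γ : Type*} [Group Γ] {q s : ℕ} (hq : q.Prime) (hs : s.Prime)
    (hqs : q ≠ s) {A B : Subgroup Γ} (hA : IsPGroup q A) (hB : IsPGroup s B) {x : Γ}
    (hxA : x ∈ A) (hxB : x ∈ B) : x = 1 := by
  have : Fact q.Prime := ⟨hq⟩
  have : Fact s.Prime := ⟨hs⟩
  have h1 := (IsPGroup.disjoint_of_ne q s hqs A B hA hB).le_bot (Subgroup.mem_inf.mpr ⟨hxA, hxB⟩)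
  exact Subgroup.mem_bot.mp h1

/-- **the third level, for a section `K₁ / Y`** -/
theorem al3s {Γ : Type u} [Group Γ] [Finite Γ] {n q s : ℕ} (hq : q.Prime) (hs : s.Prime)
    (hq2 : q ≠ 2) (hs2 : s ≠ 2) (hqs : q ≠ s) (a : Γ) (han : a ^ (2 ^ (n + 1)) = 1)
    (K₁ Y T : Subgroup Γ) (hK₁ : IsPGroup q K₁) (hT : IsPGroup s T) (hYK : Y ≤ K₁)
    (hYn : ∀ k ∈ K₁, ∀ y ∈ Y, k * y * k⁻¹ ∈ Y)
    (hcomm : ∀ x ∈ K₁, ∀ y ∈ K₁, ⁅x, y⁆ ∈ Y) (hexp : ∀ x ∈ K₁, x ^ q ∈ Y)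
    (haK : ∀ x ∈ K₁, a * x * a⁻¹ ∈ K₁) (haY : ∀ y ∈ Y, a * y * a⁻¹ ∈ Y)
    (haT : ∀ t ∈ T, a * t * a⁻¹ ∈ T)
    (hTK : ∀ t ∈ T, ∀ x ∈ K₁, t * x * t⁻¹ ∈ K₁) (hTY : ∀ t ∈ T, ∀ y ∈ Y, t * y * t⁻¹ ∈ Y)
    (hfK : ∀ x ∈ K₁, a * x = x * a → x = 1) (hfT : ∀ t ∈ T, a * t = t * a → t = 1)
    (X : Set Γ) (hTX : T = closure X)
    (hXb : ∀ t ∈ X, a ^ (2 ^ n) * t * (a ^ (2 ^ n))⁻¹ = t⁻¹)
    (hne : ∃ t ∈ T, ∃ x ∈ K₁, ⁅t, x⁆ ∉ Y) :
    (∀ D : Subgroup Γ, D ≤ K₁ →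
      (∀ x ∈ K₁, x * (a ^ (2 ^ n) * x * (a ^ (2 ^ n))⁻¹)⁻¹ ∈ D) → q ^ (2 ^ n) ≤ Y.relIndex D) ∧
    ∃ z ∈ T, a ^ (2 ^ n) * z = z * a ^ (2 ^ n) ∧
      ∃ x ∈ K₁, ⁅z, x * (a ^ (2 ^ n) * x * (a ^ (2 ^ n))⁻¹)⁻¹⁆ ∉ Y := by
  classical
  set b := a ^ (2 ^ n) with hb
  set N' : Subgroup Γ := normalizer (K₁ : Set Γ) ⊓ normalizer (Y : Set Γ) with hN'
  have hK₁N : K₁ ≤ N' := by
    intro k hk
    exact Subgroup.mem_inf.mpr ⟨le_normalizer hk, mem_normalizer_of_conj_mem (hYn k hk)⟩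
  have hTN : T ≤ N' := by
    intro t ht
    exact Subgroup.mem_inf.mpr ⟨mem_normalizer_of_conj_mem (hTK t ht),
      mem_normalizer_of_conj_mem (hTY t ht)⟩
  have haN : a ∈ N' :=
    Subgroup.mem_inf.mpr ⟨mem_normalizer_of_conj_mem haK, mem_normalizer_of_conj_mem haY⟩
  have hbN : b ∈ N' := Subgroup.pow_mem _ haN _
  have hYN : Y ≤ N' := hYK.trans hK₁N
  have hYnorm : (Y.subgroupOf N').Normal :=
    (normal_subgroupOf_iff_le_normalizer hYN).mpr inf_le_right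
  have hKnorm : (K₁.subgroupOf N').Normal :=
    (normal_subgroupOf_iff_le_normalizer hK₁N).mpr inf_le_left
  let π : ↥N' →* ↥N' ⧸ Y.subgroupOf N' := QuotientGroup.mk' (Y.subgroupOf N')
  have hπs : Function.Surjective π := QuotientGroup.mk'_surjective _
  have hπ1 : ∀ g : ↥N', π g = 1 ↔ (g : Γ) ∈ Y := by
    intro g
    show (QuotientGroup.mk g : ↥N' ⧸ Y.subgroupOf N') = 1 ↔ _
    rw [QuotientGroup.eq_one_iff, mem_subgroupOf]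
  set E : Subgroup (↥N' ⧸ Y.subgroupOf N') := (K₁.subgroupOf N').map π with hE
  have hEn : E.Normal := hKnorm.map π hπs
  set TΔ : Subgroup (↥N' ⧸ Y.subgroupOf N') := (T.subgroupOf N').map π with hTΔ
  have hTΔp : IsPGroup s TΔ := (hT.comap_subtype (K := N')).map π
  set aΔ : ↥N' ⧸ Y.subgroupOf N' := π ⟨a, haN⟩ with haΔ
  have hbΔ : aΔ ^ (2 ^ n) = π ⟨b, hbN⟩ := by
    rw [haΔ, ← map_pow]
    rfl
  -- coprimality of `Y`
  have hYcop : ∀ k : ℕ, (Nat.card Y).Coprime (2 ^ k) := by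
    intro k
    have : Fact q.Prime := ⟨hq⟩
    obtain ⟨j, hj⟩ := IsPGroup.iff_card.mp (hK₁.to_le hYK)
    rw [hj]
    exact Nat.Coprime.pow _ _ ((Nat.coprime_primes hq Nat.prime_two).mpr hq2)
  have hYT : ∀ x ∈ Y, x ∈ T → x = 1 := fun x hxY hxT =>
    eq_one_of_mem_pgroups hq hs hqs hK₁ hT (hYK hxY) hxT
  -- elements of `E` and `TΔ`
  have hEmem : ∀ x' ∈ E, ∃ x, ∃ hx : x ∈ K₁, x' = π ⟨x, hK₁N hx⟩ := by
    rintro _ ⟨g, hg, rfl⟩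
    exact ⟨g.1, mem_subgroupOf.mp hg, rfl⟩
  have hTmem : ∀ t' ∈ TΔ, ∃ t, ∃ ht : t ∈ T, t' = π ⟨t, hTN ht⟩ := by
    rintro _ ⟨g, hg, rfl⟩
    exact ⟨g.1, mem_subgroupOf.mp hg, rfl⟩
  have hmemE : ∀ x, ∀ hx : x ∈ K₁, π ⟨x, hK₁N hx⟩ ∈ E := fun x hx =>
    ⟨⟨x, hK₁N hx⟩, mem_subgroupOf.mpr hx, rfl⟩
  have hmemT : ∀ t, ∀ ht : t ∈ T, π ⟨t, hTN ht⟩ ∈ TΔ := fun t ht =>
    ⟨⟨t, hTN ht⟩, mem_subgroupOf.mpr ht, rfl⟩
  -- the image of the generators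
  set XΔ : Set (↥N' ⧸ Y.subgroupOf N') := {x' | ∃ t, ∃ ht : t ∈ X, ∃ hN : t ∈ N', x' = π ⟨t, hN⟩}
    with hXΔ
  have hXT : X ⊆ T := by rw [hTX]; exact subset_closure
  have hTΔX : TΔ = closure XΔ := by
    apply le_antisymm
    · intro t' ht'
      obtain ⟨t, ht, rfl⟩ := hTmem t' ht'
      have key : ∀ t ∈ closure X, ∃ hN : t ∈ N', π ⟨t, hN⟩ ∈ closure XΔ := by
        intro t ht
        induction ht using Subgroup.closure_induction with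
        | mem g hg =>
          exact ⟨hTN (hXT hg), subset_closure ⟨g, hg, hTN (hXT hg), rfl⟩⟩
        | one => exact ⟨N'.one_mem, (closure XΔ).one_mem⟩
        | mul x y _ _ ihx ihy =>
          obtain ⟨hx, hx'⟩ := ihx
          obtain ⟨hy, hy'⟩ := ihy
          exact ⟨N'.mul_mem hx hy, (closure XΔ).mul_mem hx' hy'⟩
        | inv x _ ihx =>
          obtain ⟨hx, hx'⟩ := ihx
          exact ⟨N'.inv_mem hx, (closure XΔ).inv_mem hx'⟩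
      obtain ⟨_, h2⟩ := key t (by rw [← hTX]; exact ht)
      exact h2
    · rw [closure_le]
      rintro _ ⟨t, ht, hN, rfl⟩
      exact hmemT t (hXT ht)
  -- the hypotheses of `al3`
  have hEc : ∀ x ∈ E, ∀ y ∈ E, x * y = y * x := by
    intro x' hx' y' hy'
    obtain ⟨x, hx, rfl⟩ := hEmem x' hx'
    obtain ⟨y, hy, rfl⟩ := hEmem y' hy'
    rw [← map_mul, ← map_mul]
    show (QuotientGroup.mk _ : ↥N' ⧸ Y.subgroupOf N') = QuotientGroup.mk _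
    rw [QuotientGroup.eq, mem_subgroupOf]
    have e : (((⟨x, hK₁N hx⟩ * ⟨y, hK₁N hy⟩ : ↥N')⁻¹ * (⟨y, hK₁N hy⟩ * ⟨x, hK₁N hx⟩) : ↥N') : Γ) =
        ⁅y⁻¹, x⁻¹⁆ := by
      rw [commutatorElement_def]
      simp only [Subgroup.coe_mul, Subgroup.coe_inv]
      group
    rw [e]
    exact hcomm _ (K₁.inv_mem hy) _ (K₁.inv_mem hx)
  have hEq : ∀ x ∈ E, x ^ q = 1 := by
    intro x' hx'
    obtain ⟨x, hx, rfl⟩ := hEmem x' hx'
    rw [← map_pow, hπ1]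
    exact hexp x hx
  have haTΔ : ∀ t ∈ TΔ, aΔ * t * aΔ⁻¹ ∈ TΔ := by
    intro t' ht'
    obtain ⟨t, ht, rfl⟩ := hTmem t' ht'
    rw [haΔ, ← map_inv, ← map_mul, ← map_mul]
    exact hmemT _ (haT t ht)
  have hfE : ∀ x ∈ E, aΔ * x = x * aΔ → x = 1 := by
    intro x' hx' hc
    obtain ⟨x, hx, rfl⟩ := hEmem x' hx'
    have h1 : x⁻¹ * (a * x * a⁻¹) ∈ Y := by
      have h2 : π (⟨x, hK₁N hx⟩⁻¹ * (⟨a, haN⟩ * ⟨x, hK₁N hx⟩ * ⟨a, haN⟩⁻¹)) = 1 := by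
        rw [map_mul, map_mul, map_mul, map_inv, map_inv, ← haΔ, hc]
        group
      exact (hπ1 _).mp h2
    obtain ⟨l, hl, hcl⟩ := lift_of_pow han haY (hYcop (n + 1)) h1
    have h3 : x * l = 1 := hfK _ (K₁.mul_mem hx (hYK hl)) hcl
    have h4 : x = l⁻¹ := eq_inv_of_mul_eq_one_left h3
    rw [hπ1]
    show x ∈ Y
    rw [h4]
    exact Y.inv_mem hl
  have hfTΔ : ∀ t ∈ TΔ, aΔ * t = t * aΔ → t = 1 := by
    intro t' ht' hc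
    obtain ⟨t, ht, rfl⟩ := hTmem t' ht'
    have h1 : t⁻¹ * (a * t * a⁻¹) ∈ Y := by
      have h2 : π (⟨t, hTN ht⟩⁻¹ * (⟨a, haN⟩ * ⟨t, hTN ht⟩ * ⟨a, haN⟩⁻¹)) = 1 := by
        rw [map_mul, map_mul, map_mul, map_inv, map_inv, ← haΔ, hc]
        group
      exact (hπ1 _).mp h2
    have h3 := hYT _ h1 (T.mul_mem (T.inv_mem ht) (haT t ht))
    have h4 : a * t = t * a := by
      calc a * t = t * (t⁻¹ * (a * t * a⁻¹)) * a := by group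
        _ = t * a := by rw [h3, mul_one]
    have h5 := hfT t ht h4
    rw [hπ1]
    show t ∈ Y
    rw [h5]
    exact Y.one_mem
  have hXbΔ : ∀ t ∈ XΔ, aΔ ^ (2 ^ n) * t * (aΔ ^ (2 ^ n))⁻¹ = t⁻¹ := by
    rintro _ ⟨t, ht, hN, rfl⟩
    rw [hbΔ, ← map_inv, ← map_mul, ← map_mul, ← map_inv]
    congr 1
    apply Subtype.ext
    exact hXb t ht
  have hneΔ : ∃ t ∈ TΔ, ∃ x ∈ E, t * x ≠ x * t := by
    obtain ⟨t, ht, x, hx, htx⟩ := hne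
    refine ⟨π ⟨t, hTN ht⟩, hmemT t ht, π ⟨x, hK₁N hx⟩, hmemE x hx, ?_⟩
    intro hc
    apply htx
    have h2 : π ⁅(⟨t, hTN ht⟩ : ↥N'), ⟨x, hK₁N hx⟩⁆ = 1 := by
      rw [map_commutatorElement, commutatorElement_eq_one_iff_mul_comm]
      exact hc
    have h3 := (hπ1 _).mp h2
    simpa [commutatorElement_def] using h3
  obtain ⟨hI, z', hz', hbz', x', hx', hzx'⟩ := al3 hq hs hq2 hs2 hqs aΔ
    (by rw [haΔ, ← map_pow]
        have : (⟨a, haN⟩ : ↥N') ^ (2 ^ (n + 1)) = 1 := Subtype.ext (by simpa using han)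
        rw [this, map_one])
    E hEc hEq TΔ hTΔp haTΔ hfE hfTΔ XΔ hTΔX hXbΔ hneΔ
  refine ⟨?_, ?_⟩
  · intro D hDK hD
    have hDN : D ≤ N' := hDK.trans hK₁N
    have h1 := hI ((D.subgroupOf N').map π) (by
      intro x' hx'
      obtain ⟨x, hx, rfl⟩ := hEmem x' hx'
      rw [hbΔ, ← map_inv, ← map_mul, ← map_mul, ← map_inv, ← map_mul]
      exact ⟨_, mem_subgroupOf.mpr (hD x hx), rfl⟩)
    rw [← Subgroup.relIndex_ker] at h1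
    have h2 : π.ker = Y.subgroupOf N' := QuotientGroup.ker_mk' _
    rw [h2, Subgroup.relIndex_subgroupOf hDN] at h1
    exact h1
  · obtain ⟨z, hz, rfl⟩ := hTmem z' hz'
    obtain ⟨x, hx, rfl⟩ := hEmem x' hx'
    refine ⟨z, hz, ?_, x, hx, ?_⟩
    · have h1 : z⁻¹ * (b * z * b⁻¹) ∈ Y := by
        have h2 : π (⟨z, hTN hz⟩⁻¹ * (⟨b, hbN⟩ * ⟨z, hTN hz⟩ * ⟨b, hbN⟩⁻¹)) = 1 := by
          rw [map_mul, map_mul, map_mul, map_inv, map_inv, ← hbΔ, hbz']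
          group
        exact (hπ1 _).mp h2
      have hbT : b * z * b⁻¹ ∈ T :=
        Cfsg.Agent.Lib.Helper17.ESMod.conj_pow_mem T a haT (2 ^ n) z hz
      have h3 := hYT _ h1 (T.mul_mem (T.inv_mem hz) hbT)
      calc b * z = z * (z⁻¹ * (b * z * b⁻¹)) * b := by group
        _ = z * b := by rw [h3, mul_one]
    · intro hcon
      apply hzx'
      rw [hbΔ]
      have h4 : π ⁅(⟨z, hTN hz⟩ : ↥N'),
          ⟨x, hK₁N hx⟩ * (⟨b, hbN⟩ * ⟨x, hK₁N hx⟩ * ⟨b, hbN⟩⁻¹)⁻¹⁆ = 1 := by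
        rw [hπ1]
        simpa [commutatorElement_def] using hcon
      rw [map_commutatorElement, commutatorElement_eq_one_iff_mul_comm] at h4
      rw [map_mul, map_inv, map_mul, map_mul, map_inv] at h4
      exact h4

end Cfsg.Agent.Lib.Helper23.SG
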