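import Mathlib
import Cfsg.Agent.Lib.Helper23.SGT6

/-!
# helper23: Gross' theorem for `p = 2`, part 7a: auxiliary lemmas for the three-level lemma
-/

set_option autoImplicit false
set_option linter.unusedSectionVars false
set_option linter.style.haveILetI false

namespace Cfsg.Agent.Lib.Helper23.SG

open Module Subgroup
open Cfsg.Agent.Lib.Helper23.Ward
open Cfsg.Agent.Lib.Helper23.PQ (conj_mem_commutator mem_stab_of_cent)
open Cfsg.Agent.Lib.Helper23.PQ.MinCE (Zc mem_Zc Zc_le conj_mem_Zc Zc_comm)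
open Cfsg.Agent.Lib.Helper23.S3 (rho_mul_apply mem_normalizer_of_conj_mem conj_inv_mem_of_finite
  lift_of_pow)
open scoped commutatorElement

universe u

section Aux

variable {Γ : Type*} [Group Γ]

/-- an element of odd prime power order whose square is trivial is trivial -/
theorem eq_one_of_sq_of_pow {q k : ℕ} (hq : q.Prime) (hq2 : q ≠ 2) {z : Γ} (hz : z ^ (q ^ k) = 1)
    (hzz : z * z = 1) : z = 1 := by
  have hcop : Nat.Coprime 2 (q ^ k) :=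
    Nat.Coprime.pow_right _ ((Nat.coprime_primes Nat.prime_two hq).mpr hq2.symm)
  have h4 : z ^ Nat.gcd 2 (q ^ k) = 1 := pow_gcd_eq_one.mpr ⟨by rw [pow_two]; exact hzz, hz⟩
  rwa [Nat.Coprime.gcd_eq_one hcop, pow_one] at h4

/-- an element of orders dividing powers of two different primes is trivial -/
theorem eq_one_of_pow_coprime {q s i j : ℕ} (hq : q.Prime) (hs : s.Prime) (hqs : q ≠ s) {x : Γ}
    (hxq : x ^ (q ^ i) = 1) (hxs : x ^ (s ^ j) = 1) : x = 1 := by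
  have hcop : Nat.Coprime (q ^ i) (s ^ j) :=
    Nat.Coprime.pow _ _ ((Nat.coprime_primes hq hs).mpr hqs)
  have h4 : x ^ Nat.gcd (q ^ i) (s ^ j) = 1 := pow_gcd_eq_one.mpr ⟨hxq, hxs⟩
  rwa [Nat.Coprime.gcd_eq_one hcop, pow_one] at h4

/-- in odd order, an element whose square lies in a subgroup lies in it -/
theorem mem_of_sq_mem {q k : ℕ} (hq : q.Prime) (hq2 : q ≠ 2) {L : Subgroup Γ} {g : Γ}
    (hg : g ^ (q ^ k) = 1) (h : g * g ∈ L) : g ∈ L := by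
  have hodd : Odd (q ^ k) := Odd.pow (hq.odd_of_ne_two hq2)
  obtain ⟨r, hr⟩ := hodd
  have h1 : g = (g * g) ^ (r + 1) := by
    rw [← pow_two, ← pow_mul]
    have : 2 * (r + 1) = q ^ k + 1 := by omega
    rw [this, pow_succ, hg, one_mul]
  rw [h1]
  exact L.pow_mem h _

/-- telescoping: if `g⁻¹ (x g x⁻¹)` lies in the `x`-invariant subgroup `L`, so does
`g⁻¹ (x ^ k g x ^ (-k))` -/
theorem comm_pow_mem {L : Subgroup Γ} {x g : Γ} (hL : ∀ l ∈ L, x * l * x⁻¹ ∈ L)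
    (h : g⁻¹ * (x * g * x⁻¹) ∈ L) (k : ℕ) : g⁻¹ * (x ^ k * g * (x ^ k)⁻¹) ∈ L := by
  induction k with
  | zero =>
    have : g⁻¹ * (x ^ 0 * g * (x ^ 0)⁻¹) = 1 := by simp
    rw [this]
    exact L.one_mem
  | succ k ih =>
    have e : g⁻¹ * (x ^ (k + 1) * g * (x ^ (k + 1))⁻¹) =
        (g⁻¹ * (x * g * x⁻¹)) * (x * (g⁻¹ * (x ^ k * g * (x ^ k)⁻¹)) * x⁻¹) := by
      rw [pow_succ']; group
    rw [e]
    exact L.mul_mem h (hL _ ih)

end Aux

/-- the arithmetic of the exceptional case: only `q = 3` with `2 ^ r = 4` survives -/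
theorem arith_mersenne {q μ n m : ℕ} (hq : q.Prime) (hq2 : q ≠ 2) (hm : m ≤ n)
    (hM : q ^ μ = 2 ^ (n + 1 - m) - 1)
    (hle : q ^ (2 ^ n) ≤ ((2 ^ (n + 1 - m) - 1) ^ 2) ^ (2 ^ m)) :
    q = 3 ∧ 2 ^ (n + 1 - m) - 1 = 3 := by
  have hq3 : 3 ≤ q := by
    have := hq.two_le
    omega
  rw [← hM, ← pow_mul, ← pow_mul] at hle
  have h1 : 2 ^ n ≤ μ * 2 * 2 ^ m := by
    have := (Nat.pow_le_pow_iff_right hq.one_lt).mp hle
    rwa [← mul_assoc] at this
  have h2 : 2 ^ n = 2 ^ m * 2 ^ (n - m) := by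
    rw [← pow_add]
    congr 1
    omega
  have h3 : 2 ^ (n - m) ≤ μ * 2 := by
    rw [h2, mul_comm (2 ^ m)] at h1
    exact Nat.le_of_mul_le_mul_right h1 (pow_pos (by norm_num) m)
  have h4 : 2 ^ (n + 1 - m) = 2 * 2 ^ (n - m) := by
    rw [← pow_succ']
    congr 1
    omega
  have h5 : q ^ μ + 1 = 2 * 2 ^ (n - m) := by
    rw [hM, ← h4]
    have : 1 ≤ 2 ^ (n + 1 - m) := Nat.one_le_two_pow
    omega
  have h6 : 3 ^ μ ≤ q ^ μ := Nat.pow_le_pow_left hq3 μ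
  have h7 : ∀ k : ℕ, 2 ≤ k → 4 * k < 3 ^ k + 1 := by
    intro k hk
    induction k with
    | zero => omega
    | succ k ih =>
      rcases Nat.lt_or_ge k 2 with hk2 | hk2
      · have : k = 1 := by omega
        subst this
        norm_num
      · have := ih hk2
        rw [pow_succ]
        omega
  have hμ1 : μ = 1 := by
    rcases Nat.lt_or_ge μ 2 with hμ | hμ
    · interval_cases μ
      · exfalso
        rw [pow_zero] at h5
        have : 1 ≤ 2 ^ (n - m) := Nat.one_le_two_pow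
        omega
      · rfl
    · exfalso
      have := h7 μ hμ
      omega
  subst hμ1
  rw [pow_one] at h5 hM
  have hq3' : q = 3 := by omega
  refine ⟨hq3', ?_⟩
  rw [← hM, hq3']

section HCx

variable {K : Type*} [Field K] {Γ : Type*} [Group Γ] [Finite Γ] {V : Type u} [AddCommGroup V]
  [Module K V]

namespace HC

variable {ρ : Representation K Γ V} {p n q : ℕ} {a : Γ} {Q : Subgroup Γ} {χ : Γ → K} {m : ℕ}

/-- the exponent of the stabiliser of a weight -/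
theorem exists_m (c : HC ρ p n q a Q) (χ : Γ → K) :
    ∃ m : ℕ, m ≤ n ∧ a ^ (p ^ m) ∈ stab (Zc Q) χ ∧
      ∀ e : ℕ, a ^ e ∈ stab (Zc Q) χ → p ^ m ∣ e := by
  classical
  have hb : a ^ (p ^ n) ∈ stab (Zc Q) χ :=
    mem_stab_of_cent (fun z hz => (c.b_cent_Z z hz).symm) χ
  have hex : ∃ m : ℕ, a ^ (p ^ m) ∈ stab (Zc Q) χ := ⟨n, hb⟩
  refine ⟨Nat.find hex, Nat.find_min' hex hb, Nat.find_spec hex, ?_⟩
  intro e he
  rcases Nat.eq_zero_or_pos e with rfl | he0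
  · exact dvd_zero _
  obtain ⟨t, e', he', rfl⟩ := Nat.exists_eq_pow_mul_and_not_dvd he0.ne' p c.sh.hp.ne_one
  obtain ⟨k, hk⟩ := exists_pow_eq_pp (t := t) c.sh.hp c.sh.han he'
  have h1 : a ^ (p ^ t) ∈ stab (Zc Q) χ := by
    rw [← hk]
    exact Subgroup.pow_mem _ he k
  have h2 : Nat.find hex ≤ t := Nat.find_min' hex h1
  exact Dvd.dvd.mul_right (pow_dvd_pow p h2) e'

/-- the conjugate weights are again weight packages -/
theorem conjWT (c : HC ρ p n q a Q) (w : WT ρ p n a Q χ m) (i : ℕ) :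
    WT ρ p n a Q (cj (a ^ i) χ) m := by
  have hai : a ^ i ∈ normalizer ((Zc Q : Subgroup Γ) : Set Γ) := apow_Z c i
  obtain ⟨v, hv, hv0⟩ := w.hv
  obtain ⟨s, hs, t, ht, hst⟩ := w.hs
  refine ⟨⟨ρ (a ^ i) v, map_wt hai hv, ?_⟩, ⟨a ^ i * s * (a ^ i)⁻¹, c.sh.apow_Q i s hs,
    a ^ i * t * (a ^ i)⁻¹, c.sh.apow_Q i t ht, ?_⟩, w.hm, ?_, ?_⟩
  · intro h0
    apply hv0
    have := rho_inv_apply ρ (a ^ i) v
    rw [h0, map_zero] at this
    exact this.symm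
  · rw [cj_apply]
    have e : (a ^ i)⁻¹ * ⁅a ^ i * s * (a ^ i)⁻¹, a ^ i * t * (a ^ i)⁻¹⁆ * a ^ i = ⁅s, t⁆ := by
      rw [commutatorElement_def, commutatorElement_def]; group
    rw [e]; exact hst
  · rw [mem_stab_cj hai, WT.apow_comm]
    exact w.hstab
  · intro e he
    rw [mem_stab_cj hai, WT.apow_comm] at he
    exact w.hmin e he

end HC

/-- the part of a class-two `q`-group inverted by `b` is of Heisenberg type -/
theorem Dm_HC {ρ : Representation K Γ V} {n q : ℕ} {a : Γ} {Q : Subgroup Γ}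
    [IsAlgClosed K] [FiniteDimensional K V] (h : SH ρ 2 n q a Q)
    (hcl : ∀ x ∈ Q, ∀ y ∈ Q, ⁅x, y⁆ ∈ Zc Q) :
    (∀ z ∈ Zc Q, a ^ (2 ^ n) * z = z * a ^ (2 ^ n)) ∧
    Zc (Dm Q (a ^ (2 ^ n)) hcl h.bQ) = Zc Q ∧ HC ρ 2 n q a (Dm Q (a ^ (2 ^ n)) hcl h.bQ) := by
  set b := a ^ (2 ^ n) with hb
  have hq := h.hq
  have hq2 : q ≠ 2 := h.hpq.symm
  have hb2 : b * b = 1 := by
    rw [← pow_two, hb, ← pow_mul, ← pow_succ]
    exact h.han
  have haZ : ∀ z ∈ Zc Q, a * z * a⁻¹ ∈ Zc Q := conj_mem_Zc h.haQ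
  have hbZ : ∀ z ∈ Zc Q, b * z = z * b :=
    (h.sub (Zc_le Q) haZ).cent_of_comm (fun x hx y hy => Zc_comm hx hy)
  have hpow : ∀ g ∈ Q, ∃ k : ℕ, g ^ (q ^ k) = 1 := by
    intro g hg
    obtain ⟨k, hk⟩ := h.hQ ⟨g, hg⟩
    exact ⟨k, by simpa using congrArg Subtype.val hk⟩
  have hodd : ∀ z ∈ Zc Q, z * z = 1 → z = 1 := by
    intro z hz hzz
    obtain ⟨k, hk⟩ := hpow z (Zc_le Q hz)
    exact eq_one_of_sq_of_pow hq hq2 hk hzz
  have hZD : Zc (Dm Q b hcl h.bQ) = Zc Q := Zc_Dm hbZ hb2 hodd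
  have hab : a * b = b * a := h.ab
  have haD : ∀ x ∈ Dm Q b hcl h.bQ, a * x * a⁻¹ ∈ Dm Q b hcl h.bQ := conj_mem_Dm h.haQ hab
  refine ⟨hbZ, hZD, ?_⟩
  refine
    { sh := h.sub Dm_le haD
      class2 := by
        intro s hs t ht
        rw [hZD]
        exact hcl s (Dm_le hs) t (Dm_le ht)
      semireg := ?_
      b_cent_Z := by
        rw [hZD]
        exact hbZ }
  intro L hZL hLD e he hL g hg hgL
  obtain ⟨k, hk⟩ := exists_pow_eq_omega h.hp h.han he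
  rw [Nat.add_sub_cancel] at hk
  have h1 := comm_pow_mem hL hgL k
  rw [hk] at h1
  have h2 : g * (b * g * b⁻¹) ∈ L := hZL (by rw [hZD]; exact hg.2)
  have h3 : g * g ∈ L := by
    have e1 : g * g = (g * (b * g * b⁻¹)) * (g⁻¹ * (b * g * b⁻¹))⁻¹ := by group
    rw [e1]
    exact L.mul_mem h2 (L.inv_mem h1)
  obtain ⟨k', hk'⟩ := hpow g hg.1
  exact mem_of_sq_mem hq hq2 hk' h3

end HCx

end Cfsg.Agent.Lib.Helper23.SG
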