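import Mathlib
import Cfsg.Agent.Lib.Helper23.SGT7
import Cfsg.Agent.Lib.Helper23.SG7

/-!
# helper23: Gross' theorem for `p = 2`, part 8: the reduced three-level configuration is impossible
-/

set_option autoImplicit false
set_option linter.unusedSectionVars false
set_option linter.style.haveILetI false

namespace Cfsg.Agent.Lib.Helper23.SG

open Module Subgroup
open Cfsg.Agent.Lib.Helper23.Ward
open Cfsg.Agent.Lib.Helper23.PQ (conj_mem_commutator mem_stab_of_cent)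
open Cfsg.Agent.Lib.Helper23.PQ.MinCE (Zc mem_Zc Zc_le conj_mem_Zc Zc_comm)
open Cfsg.Agent.Lib.Helper23.S3 (rho_mul_apply mem_normalizer_of_conj_mem conj_inv_mem_of_finite
  lift_of_pow)
open scoped commutatorElement

universe u

variable {K : Type*} [Field K] {Γ : Type u} [Group Γ] [Finite Γ] {V : Type*} [AddCommGroup V]
  [Module K V]

/-- a reduced counterexample to the three-level lemma: the `s`-group `T`, generated by elements
inverted by `b`, acts nontrivially on the class-two `q`-group `K₁` but trivially on its centre -/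
structure TC (ρ : Representation K Γ V) (n q s : ℕ) (a : Γ) (K₁ T : Subgroup Γ) (X : Set Γ) :
    Prop where
  sh : SH ρ 2 n q a K₁
  hs : s.Prime
  hs2 : s ≠ 2
  hqs : q ≠ s
  hT : IsPGroup s T
  haT : ∀ t ∈ T, a * t * a⁻¹ ∈ T
  hTK : ∀ t ∈ T, ∀ x ∈ K₁, t * x * t⁻¹ ∈ K₁
  hfT : ∀ t ∈ T, a * t = t * a → t = 1
  hTX : T = closure X
  hXb : ∀ t ∈ X, a ^ (2 ^ n) * t * (a ^ (2 ^ n))⁻¹ = t⁻¹
  cl2 : ∀ x ∈ K₁, ∀ y ∈ K₁, ⁅x, y⁆ ∈ Zc K₁
  exp : ∀ x ∈ K₁, x ^ q ∈ Zc K₁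
  hTZ : ∀ t ∈ T, ∀ z ∈ Zc K₁, t * z = z * t
  hne : ∃ t ∈ T, ∃ x ∈ K₁, t * x ≠ x * t

theorem TC.false {ρ : Representation K Γ V} {n q s : ℕ} {a : Γ} {K₁ T : Subgroup Γ} {X : Set Γ}
    [IsAlgClosed K] [FiniteDimensional K V] (c : TC ρ n q s a K₁ T X) : False := by
  classical
  have hq := c.sh.hq
  have hq2 : q ≠ 2 := c.sh.hpq.symm
  have hs := c.hs
  obtain ⟨hbZ, hZD, hcD⟩ := Dm_HC c.sh c.cl2
  set b := a ^ (2 ^ n) with hb
  have hb2 : b * b = 1 := by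
    rw [← pow_two, hb, ← pow_mul, ← pow_succ]
    exact c.sh.han
  set D := Dm K₁ b c.cl2 c.sh.bQ with hD
  have hDK : D ≤ K₁ := Dm_le
  have hpowK : ∀ g ∈ K₁, ∃ k : ℕ, g ^ (q ^ k) = 1 := by
    intro g hg
    obtain ⟨k, hk⟩ := c.sh.hQ ⟨g, hg⟩
    exact ⟨k, by simpa using congrArg Subtype.val hk⟩
  have hpowT : ∀ t ∈ T, ∃ k : ℕ, t ^ (s ^ k) = 1 := by
    intro g hg
    obtain ⟨k, hk⟩ := c.hT ⟨g, hg⟩
    exact ⟨k, by simpa using congrArg Subtype.val hk⟩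
  -- the weight
  have hex : ∃ χ : Γ → K, (∃ v ∈ wt ρ (Zc K₁) χ, v ≠ 0) ∧
      ∃ k ∈ K₁, ∃ t ∈ T, ⁅k, t⁆ ∉ Yr ρ K₁ χ := by
    by_contra hcon
    push Not at hcon
    have h1 : ∀ k ∈ K₁, ∀ t ∈ T, ⁅k, t⁆ ∈ Zc K₁ := by
      intro k hk t ht
      have hgK : ⁅k, t⁆ ∈ K₁ := by
        have e : ⁅k, t⁆ = k * (t * k⁻¹ * t⁻¹) := by rw [commutatorElement_def]; group
        rw [e]
        exact K₁.mul_mem hk (c.hTK t ht _ (K₁.inv_mem hk))
      rw [mem_Zc]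
      refine ⟨hgK, ?_⟩
      intro x hx
      have h2 : ⁅⁅k, t⁆, x⁆ = 1 := by
        apply c.sh.hfaith _ (c2_comm_mem c.cl2 hgK hx)
        apply LinearMap.ext
        intro u
        have hdec := mem_iSup_wt ρ (Zc K₁) ⊤ (fun z _ u _ => Submodule.mem_top)
          (fun z hz z' hz' u _ => by
            rw [← rho_mul_apply, ← rho_mul_apply, Zc_comm hz hz'])
          (c.sh.card_ne_zero (Zc_le K₁)) u Submodule.mem_top
        have hle : (⨆ χ : Γ → K, (⊤ : Submodule K V) ⊓ wt ρ (Zc K₁) χ) ≤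
            fixSp ρ ⁅⁅k, t⁆, x⁆ := by
          apply iSup_le
          rintro χ v ⟨-, hv⟩
          rw [mem_fixSp]
          by_cases hv0 : v = 0
          · rw [hv0, map_zero]
          have h3 := hcon χ ⟨v, hv, hv0⟩ k hk t ht
          exact (h3.2 x hx).2 v hv
        exact mem_fixSp.mp (hle hdec)
      exact (commutatorElement_eq_one_iff_mul_comm.mp h2).symm
    obtain ⟨t, ht, x, hx, htx⟩ := c.hne
    apply htx
    have h4 : ⁅t, x⁆ ∈ Zc K₁ := by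
      have := (Zc K₁).inv_mem (h1 x hx t ht)
      rwa [commutatorElement_inv] at this
    have h5 : t * ⁅t, x⁆ = ⁅t, x⁆ * t := c.hTZ t ht _ h4
    obtain ⟨j, hj⟩ := hpowT t ht
    have h6 := comm_pow_eq_one t hj x h5
    obtain ⟨i, hi⟩ := hpowK _ (Zc_le K₁ h4)
    have h7 := eq_one_of_pow_coprime hq hs c.hqs hi h6
    exact commutatorElement_eq_one_iff_mul_comm.mp h7
  obtain ⟨χ, hv, k₀, hk₀, t₀, ht₀, hkt⟩ := hex
  have hvD : ∃ v ∈ wt ρ (Zc D) χ, v ≠ 0 := by rw [hZD]; exact hv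
  obtain ⟨m, hm, hstabD, hminD⟩ := hcD.exists_m χ
  have hstabK : a ^ (2 ^ m) ∈ stab (Zc K₁) χ := by rw [← hZD]; exact hstabD
  have haZn : ∀ i : ℕ, a ^ i ∈ normalizer ((Zc K₁ : Subgroup Γ) : Set Γ) := fun i =>
    mem_normalizer_of_conj_mem (conj_mem_Zc (c.sh.apow_Q i))
  set χi : ℕ → Γ → K := fun i => cj (a ^ i) χ with hχi
  have hvi : ∀ i : ℕ, ∃ v ∈ wt ρ (Zc K₁) (χi i), v ≠ 0 := by
    intro i
    obtain ⟨v, hv, hv0⟩ := hv
    refine ⟨ρ (a ^ i) v, map_wt (haZn i) hv, ?_⟩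
    intro h0
    apply hv0
    have := rho_inv_apply ρ (a ^ i) v
    rw [h0, map_zero] at this
    exact this.symm
  have h2m : 0 < 2 ^ m := pow_pos (by norm_num) m
  -- periodicity
  have hper : ∀ i : ℕ, ∀ z ∈ Zc K₁, χi i z = χi (i % 2 ^ m) z := by
    intro i z hz
    have hst : a ^ (2 ^ m * (i / 2 ^ m)) ∈ stab (Zc K₁) χ := by
      rw [pow_mul]
      exact Subgroup.pow_mem _ hstabK _
    have hai : a ^ i = a ^ (i % 2 ^ m) * a ^ (2 ^ m * (i / 2 ^ m)) := by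
      rw [← pow_add, Nat.mod_add_div]
    have hz' : (a ^ (i % 2 ^ m))⁻¹ * z * a ^ (i % 2 ^ m) ∈ Zc K₁ :=
      inv_conj_mem_of_mem_normalizer (haZn _) hz
    have h1 := hst.2 _ hz'
    show χ ((a ^ i)⁻¹ * z * a ^ i) = χ ((a ^ (i % 2 ^ m))⁻¹ * z * a ^ (i % 2 ^ m))
    rw [← h1, hai]
    congr 1
    group
  set Y : Subgroup Γ := ⨅ i : Fin (2 ^ m), Yr ρ K₁ (χi (i : ℕ)) with hY
  have hYle : ∀ i : ℕ, Y ≤ Yr ρ K₁ (χi i) := by
    intro i
    have hlt : i % 2 ^ m < 2 ^ m := Nat.mod_lt _ h2m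
    exact (iInf_le _ (⟨i % 2 ^ m, hlt⟩ : Fin (2 ^ m))).trans
      (Yr_congr (fun z hz => (hper i z hz).symm))
  have hY0 : Y ≤ Yr ρ K₁ χ := (hYle 0).trans (Yr_congr (fun z _ => by
    show χ ((a ^ 0)⁻¹ * z * a ^ 0) = χ z
    simp))
  have hZY : Zc K₁ ≤ Y := le_iInf (fun i => Zc_le_Yr ρ K₁ _)
  have hYK : Y ≤ K₁ := hY0.trans (Yr_le ρ K₁ χ)
  have hYrn : ∀ χ' : Γ → K, ∀ k ∈ K₁, ∀ y ∈ Yr ρ K₁ χ', k * y * k⁻¹ ∈ Yr ρ K₁ χ' := by
    intro χ' k hk y hy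
    have e : k * y * k⁻¹ = ⁅k, y⁆ * y := by rw [commutatorElement_def]; group
    rw [e]
    exact (Yr ρ K₁ χ').mul_mem (Zc_le_Yr ρ K₁ χ' (c.cl2 k hk y hy.1)) hy
  have hYn : ∀ k ∈ K₁, ∀ y ∈ Y, k * y * k⁻¹ ∈ Y := by
    intro k hk y hy
    rw [hY, Subgroup.mem_iInf] at hy ⊢
    intro i
    exact hYrn _ k hk y (hy i)
  have haY : ∀ y ∈ Y, a * y * a⁻¹ ∈ Y := by
    intro y hy
    rw [hY, Subgroup.mem_iInf]
    intro i
    have h1 := hYle ((i : ℕ) + 2 ^ m - 1) hy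
    have h2 := conj_mem_Yr c.sh.haQ y h1
    apply Yr_congr _ h2
    intro z hz
    have h3 : (i : ℕ) + 2 ^ m - 1 + 1 = (i : ℕ) + 2 ^ m := by omega
    show cj a (cj (a ^ ((i : ℕ) + 2 ^ m - 1)) χ) z = χi (i : ℕ) z
    rw [cj_mul, ← pow_succ', h3]
    show χi ((i : ℕ) + 2 ^ m) z = χi (i : ℕ) z
    rw [hper _ z hz, Nat.add_mod_right, Nat.mod_eq_of_lt i.2]
  have hTst : ∀ t ∈ T, ∀ χ' : Γ → K, ∀ z ∈ Zc K₁, cj t χ' z = χ' z := by
    intro t ht χ' z hz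
    rw [cj_apply]
    congr 1
    have := c.hTZ t ht z hz
    rw [mul_assoc, ← this, inv_mul_cancel_left]
  have hTYr : ∀ t ∈ T, ∀ χ' : Γ → K, ∀ y ∈ Yr ρ K₁ χ', t * y * t⁻¹ ∈ Yr ρ K₁ χ' := by
    intro t ht χ' y hy
    exact Yr_congr (hTst t ht χ') (conj_mem_Yr (c.hTK t ht) y hy)
  have hTY : ∀ t ∈ T, ∀ y ∈ Y, t * y * t⁻¹ ∈ Y := by
    intro t ht y hy
    rw [hY, Subgroup.mem_iInf] at hy ⊢
    intro i
    exact hTYr t ht _ y (hy i)
  have hne' : ∃ t ∈ T, ∃ x ∈ K₁, ⁅t, x⁆ ∉ Y := by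
    refine ⟨t₀, ht₀, k₀, hk₀, ?_⟩
    intro h
    apply hkt
    have := (Yr ρ K₁ χ).inv_mem (hY0 h)
    rwa [commutatorElement_inv] at this
  obtain ⟨hI, z, hzT, hbz, x₀, hx₀, hzx⟩ := al3s hq hs hq2 c.hs2 c.hqs a c.sh.han K₁ Y T c.sh.hQ
    c.hT hYK hYn (fun x hx y hy => hZY (c.cl2 x hx y hy)) (fun x hx => hZY (c.exp x hx))
    c.sh.haQ haY c.haT c.hTK hTY c.sh.hfQ c.hfT X c.hTX c.hXb hne'
  have hbound := hI D hDK (fun x hx => sub_mem_Dm hb2 hx)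
  have hprod : Y.relIndex D ≤ ∏ i : Fin (2 ^ m), (Yr ρ K₁ (χi (i : ℕ))).relIndex D :=
    Subgroup.relIndex_iInf_le _
  have hYrD : ∀ i : ℕ, Yr ρ D (χi i) ≤ Yr ρ K₁ (χi i) := fun i =>
    Yr_Dm_le hbZ hb2 hq hq2 c.sh.hQ (hvi i)
  by_cases hA : ∀ s' ∈ D, ∀ t' ∈ D, χ ⁅s', t'⁆ = 1
  · -- the abelian case
    have hDY : D ≤ Y := by
      apply le_iInf
      intro i d hd
      apply hYrD i
      refine ⟨hd, ?_⟩
      intro t' ht'
      have hcZ : ⁅d, t'⁆ ∈ Zc D := hcD.class2 d hd t' ht'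
      have hviD : ∃ v ∈ wt ρ (Zc D) (χi i), v ≠ 0 := by rw [hZD]; exact hvi i
      rw [mem_Kl_iff_of_wt hviD hcZ]
      show χ ((a ^ (i : ℕ))⁻¹ * ⁅d, t'⁆ * a ^ (i : ℕ)) = 1
      have e : (a ^ (i : ℕ))⁻¹ * ⁅d, t'⁆ * a ^ (i : ℕ) =
          ⁅(a ^ (i : ℕ))⁻¹ * d * a ^ (i : ℕ), (a ^ (i : ℕ))⁻¹ * t' * a ^ (i : ℕ)⁆ := by
        simp only [commutatorElement_def]; group
      rw [e]
      exact hA _ (conj_inv_mem_of_finite (hcD.sh.apow_Q i) d hd) _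
        (conj_inv_mem_of_finite (hcD.sh.apow_Q i) t' ht')
    have h1 : Y.relIndex D = 1 := Subgroup.relIndex_eq_one.mpr hDY
    rw [h1] at hbound
    have h2 : q ^ 1 ≤ q ^ (2 ^ n) := Nat.pow_le_pow_right hq.pos Nat.one_le_two_pow
    rw [pow_one] at h2
    have := hq.two_le
    omega
  · -- the nonabelian case
    push Not at hA
    obtain ⟨s', hs', t', ht', hst'⟩ := hA
    have w : WT ρ 2 n a D χ m := ⟨hvD, ⟨s', hs', t', ht', hst'⟩, hm, hstabD, hminD⟩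
    set M := 2 ^ (n + 1 - m) - 1 with hM
    have hcard : ∀ i : ℕ, Nat.card D = M ^ 2 * Nat.card (Yr ρ D (χi i)) := fun i =>
      (HC.card_eig hcD (HC.conjWT hcD w i)).1
    have hDpos : 0 < Nat.card D := Nat.card_pos
    have hMpos : 0 < M ^ 2 := by
      rcases Nat.eq_zero_or_pos (M ^ 2) with h0 | h0
      · have := hcard 0
        rw [h0, zero_mul] at this
        omega
      · exact h0
    have hrel : ∀ i : ℕ, (Yr ρ D (χi i)).relIndex D = M ^ 2 := by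
      intro i
      have h1 := card_eq_card_mul_relIndex' (Yr_le ρ D (χi i))
      rw [hcard i, mul_comm] at h1
      exact (Nat.eq_of_mul_eq_mul_left Nat.card_pos h1).symm
    have hrelK : ∀ i : ℕ, (Yr ρ K₁ (χi i)).relIndex D ≤ M ^ 2 := by
      intro i
      have h1 := Subgroup.relIndex_dvd_of_le_left D (hYrD i)
      rw [hrel i] at h1
      exact Nat.le_of_dvd hMpos h1
    have hle : q ^ (2 ^ n) ≤ (M ^ 2) ^ (2 ^ m) := by
      calc q ^ (2 ^ n) ≤ Y.relIndex D := hbound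
        _ ≤ ∏ i : Fin (2 ^ m), (Yr ρ K₁ (χi (i : ℕ))).relIndex D := hprod
        _ ≤ ∏ _i : Fin (2 ^ m), M ^ 2 := Finset.prod_le_prod' (fun i _ => hrelK i)
        _ = (M ^ 2) ^ (2 ^ m) := by
          rw [Finset.prod_const, Finset.card_univ, Fintype.card_fin]
    have : Fact q.Prime := ⟨hq⟩
    obtain ⟨j, hj⟩ := IsPGroup.iff_card.mp hcD.sh.hQ
    have hM2dvd : M ^ 2 ∣ q ^ j := by
      rw [← hj, hcard 0]
      exact dvd_mul_right _ _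
    have hMdvd : M ∣ q ^ j := (dvd_pow_self M two_ne_zero).trans hM2dvd
    obtain ⟨μ, -, hμ⟩ := (Nat.dvd_prime_pow hq).mp hMdvd
    obtain ⟨hq3, hM3⟩ := arith_mersenne hq hq2 hm hμ.symm hle
    have hs5 : 5 ≤ s := by
      have h2 := hs.two_le
      have h3 : s ≠ 3 := fun e => c.hqs (by rw [hq3, e])
      have h4 : s ≠ 4 := by
        intro e
        rw [e] at hs
        exact absurd hs (by norm_num)
      have := c.hs2
      omega
    obtain ⟨kz, hkz⟩ := hpowT z hzT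
    have hzD : ∀ x ∈ D, z * x * z⁻¹ ∈ D := conj_mem_Dm (c.hTK z hzT) hbz.symm
    have hD3 : IsPGroup 3 D := by
      have := hcD.sh.hQ
      rwa [hq3] at this
    have hall : ∀ i : Fin (2 ^ m), ⁅z, x₀ * (b * x₀ * b⁻¹)⁻¹⁆ ∈ Yr ρ K₁ (χi (i : ℕ)) := by
      intro i
      apply hYrD i
      apply al4 hs hs5 D (Yr ρ D (χi (i : ℕ))) (Yr_le ρ D _) ?_ z hkz hzD ?_ ?_ hD3 _
        (sub_mem_Dm hb2 hx₀)
      · intro x hx y hy
        have := HC.Yr_conj hcD x⁻¹ (D.inv_mem hx) y hy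
        rwa [inv_inv] at this
      · intro y hy
        apply Yr_congr _ (conj_mem_Yr hzD y hy)
        intro ζ hζ
        rw [hZD] at hζ
        exact hTst z hzT _ ζ hζ
      · rw [hcard (i : ℕ), hM, hM3]
        norm_num
    apply hzx
    rw [hY, Subgroup.mem_iInf]
    exact hall

end Cfsg.Agent.Lib.Helper23.SG
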