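import Mathlib
import Cfsg.Agent.Lib.Helper23.SGT8
import Cfsg.Agent.Lib.Helper1.PGroup

/-!
# helper23: Gross' theorem for `p = 2`, part 9: the three-level lemma
-/

set_option autoImplicit false
set_option linter.unusedSectionVars false
set_option linter.style.haveILetI false

namespace Cfsg.Agent.Lib.Helper23.SG

open Module Subgroup
open Cfsg.Agent.Lib.Helper23.Ward
open Cfsg.Agent.Lib.Helper23.PQ (conj_mem_commutator mem_stab_of_cent)
open Cfsg.Agent.Lib.Helper23.PQ.MinCE (Zc mem_Zc Zc_le conj_mem_Zc Zc_comm)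
open Cfsg.Agent.Lib.Helper23.S3 (rho_mul_apply mem_normalizer_of_conj_mem conj_inv_mem_of_finite
  lift_of_pow)
open scoped commutatorElement

universe u

/-- a minimal subgroup with a given property -/
theorem exists_min_subgroup {Γ : Type*} [Group Γ] [Finite Γ] (P : Subgroup Γ → Prop) :
    ∀ (k : ℕ) (K₀ : Subgroup Γ), Nat.card K₀ = k → P K₀ →
      ∃ K₁ : Subgroup Γ, K₁ ≤ K₀ ∧ P K₁ ∧ ∀ K' : Subgroup Γ, K' ≤ K₁ → P K' → K' = K₁ := by
  intro k
  induction k using Nat.strong_induction_on with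
  | _ k ih =>
    intro K₀ hk h₀
    by_cases hmin : ∀ K' : Subgroup Γ, K' ≤ K₀ → P K' → K' = K₀
    · exact ⟨K₀, le_rfl, h₀, hmin⟩
    · push Not at hmin
      obtain ⟨K', hle, hP, hne⟩ := hmin
      have hlt : Nat.card K' < k := by
        rw [← hk]
        exact lt_of_not_ge (fun h' => hne (Subgroup.eq_of_le_of_card_ge hle h'))
      obtain ⟨K₁, hK₁, hP₁, hmin₁⟩ := ih _ hlt K' rfl hP
      exact ⟨K₁, hK₁.trans hle, hP₁, hmin₁⟩

variable {K : Type*} [Field K] {Γ : Type u} [Group Γ] [Finite Γ] {V : Type*} [AddCommGroup V]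
  [Module K V]

/-- **the three-level lemma**: if the `s`-group `S` normalises the `q`-group `Kq`, both are
normalised by `a` acting without fixed points, and `Kq` acts faithfully on `V` on which `a` has no
fixed points either, then `[S, b]` centralises `Kq`. -/
theorem three_level [IsAlgClosed K] [FiniteDimensional K V] {ρ : Representation K Γ V}
    {n q s : ℕ} {a : Γ} {Kq S : Subgroup Γ} (h : SH ρ 2 n q a Kq) (hs : s.Prime) (hs2 : s ≠ 2)
    (hqs : q ≠ s) (hS : IsPGroup s S) (haS : ∀ x ∈ S, a * x * a⁻¹ ∈ S)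
    (hSK : ∀ g ∈ S, ∀ x ∈ Kq, g * x * g⁻¹ ∈ Kq) (hfS : ∀ x ∈ S, a * x = x * a → x = 1) :
    ∀ g ∈ S, ∀ x ∈ Kq, ⁅g, a ^ (2 ^ n)⁆ * x = x * ⁅g, a ^ (2 ^ n)⁆ := by
  classical
  have hq := h.hq
  have hq2 : q ≠ 2 := h.hpq.symm
  have : Fact q.Prime := ⟨hq⟩
  set b := a ^ (2 ^ n) with hb
  have hb2 : b * b = 1 := by
    rw [← pow_two, hb, ← pow_mul, ← pow_succ]
    exact h.han
  have hbi : b⁻¹ = b := inv_eq_of_mul_eq_one_right hb2
  have hab : a * b = b * a := h.ab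
  have hbS : ∀ x ∈ S, b * x * b⁻¹ ∈ S := Cfsg.Agent.Lib.Helper17.ESMod.conj_pow_mem S a haS _
  set X : Set Γ := {g | ∃ h' ∈ S, g = ⁅h', b⁆} with hX
  set T : Subgroup Γ := closure X with hT
  have hXS : X ⊆ S := by
    rintro _ ⟨h', hh', rfl⟩
    have e : ⁅h', b⁆ = h' * (b * h'⁻¹ * b⁻¹) := by rw [commutatorElement_def]; group
    rw [e]
    exact S.mul_mem hh' (hbS _ (S.inv_mem hh'))
  have hTS : T ≤ S := (closure_le S).mpr hXS
  have hXb : ∀ t ∈ X, b * t * b⁻¹ = t⁻¹ := by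
    rintro _ ⟨h', _, rfl⟩
    rw [commutatorElement_inv, commutatorElement_def, commutatorElement_def, hbi]
    calc b * (h' * b * h'⁻¹ * b) * b = b * h' * b * h'⁻¹ * (b * b) := by group
      _ = b * h' * b * h'⁻¹ := by rw [hb2, mul_one]
  have haT : ∀ t ∈ T, a * t * a⁻¹ ∈ T := by
    intro t ht
    induction ht using Subgroup.closure_induction with
    | mem g hg =>
      obtain ⟨h', hh', rfl⟩ := hg
      apply Subgroup.subset_closure
      refine ⟨a * h' * a⁻¹, haS h' hh', ?_⟩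
      have e : a * ⁅h', b⁆ * a⁻¹ = ⁅a * h' * a⁻¹, a * b * a⁻¹⁆ := by
        simp only [commutatorElement_def]; group
      rw [e, hab, mul_inv_cancel_right]
    | one =>
      have : a * 1 * a⁻¹ = 1 := by group
      rw [this]; exact T.one_mem
    | mul x y _ _ ihx ihy =>
      have : a * (x * y) * a⁻¹ = (a * x * a⁻¹) * (a * y * a⁻¹) := by group
      rw [this]; exact T.mul_mem ihx ihy
    | inv x _ ihx =>
      have : a * x⁻¹ * a⁻¹ = (a * x * a⁻¹)⁻¹ := by group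
      rw [this]; exact T.inv_mem ihx
  have hST : ∀ g ∈ S, ∀ t ∈ T, g * t * g⁻¹ ∈ T := by
    intro g hg t ht
    induction ht using Subgroup.closure_induction with
    | mem g' hg' =>
      obtain ⟨h', hh', rfl⟩ := hg'
      have e : g * ⁅h', b⁆ * g⁻¹ = ⁅g * h', b⁆ * ⁅g, b⁆⁻¹ := by
        simp only [commutatorElement_def]; group
      rw [e]
      exact T.mul_mem (Subgroup.subset_closure ⟨g * h', S.mul_mem hg hh', rfl⟩)
        (T.inv_mem (Subgroup.subset_closure ⟨g, hg, rfl⟩))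
    | one =>
      have : g * 1 * g⁻¹ = 1 := by group
      rw [this]; exact T.one_mem
    | mul x y _ _ ihx ihy =>
      have : g * (x * y) * g⁻¹ = (g * x * g⁻¹) * (g * y * g⁻¹) := by group
      rw [this]; exact T.mul_mem ihx ihy
    | inv x _ ihx =>
      have : g * x⁻¹ * g⁻¹ = (g * x * g⁻¹)⁻¹ := by group
      rw [this]; exact T.inv_mem ihx
  by_contra hcon
  push Not at hcon
  obtain ⟨g₀, hg₀, x₀, hx₀, hgx⟩ := hcon
  -- the minimal subgroup
  let P : Subgroup Γ → Prop := fun K' => K' ≤ Kq ∧ (∀ g ∈ S, ∀ x ∈ K', g * x * g⁻¹ ∈ K') ∧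
    (∀ x ∈ K', a * x * a⁻¹ ∈ K') ∧ ∃ t ∈ T, ∃ x ∈ K', t * x ≠ x * t
  have hP₀ : P Kq := ⟨le_rfl, hSK, h.haQ, ⁅g₀, b⁆, Subgroup.subset_closure ⟨g₀, hg₀, rfl⟩, x₀, hx₀,
    hgx⟩
  obtain ⟨K₁, -, ⟨hK₁q, hSK₁, haK₁, hne⟩, hmin⟩ := exists_min_subgroup P _ Kq rfl hP₀
  have hsh : SH ρ 2 n q a K₁ := h.sub hK₁q haK₁
  have hminT : ∀ K' : Subgroup Γ, K' ≤ K₁ → K' ≠ K₁ → (∀ g ∈ S, ∀ x ∈ K', g * x * g⁻¹ ∈ K') →
      (∀ x ∈ K', a * x * a⁻¹ ∈ K') → ∀ t ∈ T, ∀ x ∈ K', t * x = x * t := by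
    intro K' hle hne' hS' ha' t ht x hx
    by_contra hc
    exact hne' (hmin K' hle ⟨hle.trans hK₁q, hS', ha', t, ht, x, hx, hc⟩)
  have hpowK : ∀ g ∈ K₁, ∃ k : ℕ, g ^ (q ^ k) = 1 := by
    intro g hg
    obtain ⟨k, hk⟩ := hsh.hQ ⟨g, hg⟩
    exact ⟨k, by simpa using congrArg Subtype.val hk⟩
  have hpowT : ∀ t ∈ T, ∃ k : ℕ, t ^ (s ^ k) = 1 := by
    intro g hg
    obtain ⟨k, hk⟩ := hS ⟨g, hTS hg⟩
    exact ⟨k, by simpa using congrArg Subtype.val hk⟩
  have hTK₁ : ∀ t ∈ T, ∀ x ∈ K₁, t * x * t⁻¹ ∈ K₁ := fun t ht => hSK₁ t (hTS ht)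
  -- `K₁` is not abelian
  have hnab : Zc K₁ ≠ K₁ := by
    intro e
    have hcomm : ∀ x ∈ K₁, ∀ y ∈ K₁, x * y = y * x := by
      intro x hx y hy
      have : y ∈ Zc K₁ := by rw [e]; exact hy
      exact (mem_Zc.mp this).2 x hx
    have hbc := hsh.cent_of_comm hcomm
    have hTc : T ≤ centralizer (K₁ : Set Γ) := by
      rw [hT, closure_le]
      rintro _ ⟨h', hh', rfl⟩
      rw [SetLike.mem_coe, mem_centralizer_iff]
      intro x hx
      have h1 : h'⁻¹ * x * h' ∈ K₁ := conj_inv_mem_of_finite (hSK₁ h' hh') x hx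
      have h2 : b * (h'⁻¹ * x * h') = (h'⁻¹ * x * h') * b := hbc _ h1
      have h3 : b * x = x * b := hbc x hx
      have h3' : b⁻¹ * x * b = x := by rw [mul_assoc, ← h3]; group
      have h4 : ⁅h', b⁆ * x * ⁅h', b⁆⁻¹ = x := by
        calc ⁅h', b⁆ * x * ⁅h', b⁆⁻¹ = h' * (b * (h'⁻¹ * (b⁻¹ * x * b) * h') * b⁻¹) * h'⁻¹ := by
              rw [commutatorElement_def]; group
          _ = h' * (b * (h'⁻¹ * x * h') * b⁻¹) * h'⁻¹ := by rw [h3']
          _ = h' * ((h'⁻¹ * x * h') * b * b⁻¹) * h'⁻¹ := by rw [h2]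
          _ = x := by group
      calc x * ⁅h', b⁆ = (⁅h', b⁆ * x * ⁅h', b⁆⁻¹) * ⁅h', b⁆ := by rw [h4]
        _ = ⁅h', b⁆ * x := by group
    obtain ⟨t, ht, x, hx, htx⟩ := hne
    exact htx ((mem_centralizer_iff.mp (hTc ht) x hx).symm)
  have hTZ : ∀ t ∈ T, ∀ z ∈ Zc K₁, t * z = z * t :=
    hminT (Zc K₁) (Zc_le K₁) hnab (fun g hg => conj_mem_Zc (hSK₁ g hg)) (conj_mem_Zc haK₁)
  -- `[K₁, T] = K₁`
  have hKT : ⁅K₁, T⁆ = K₁ := by
    by_contra hne'
    have hle : ⁅K₁, T⁆ ≤ K₁ := by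
      rw [Subgroup.commutator_le]
      intro x hx t ht
      have e : ⁅x, t⁆ = x * (t * x⁻¹ * t⁻¹) := by rw [commutatorElement_def]; group
      rw [e]
      exact K₁.mul_mem hx (hTK₁ t ht _ (K₁.inv_mem hx))
    have hc := hminT ⁅K₁, T⁆ hle hne'
      (fun g hg => conj_mem_commutator (hSK₁ g hg) (hST g hg))
      (conj_mem_commutator haK₁ haT)
    obtain ⟨t, ht, x, hx, htx⟩ := hne
    apply htx
    have h4 : ⁅t, x⁆ ∈ ⁅K₁, T⁆ := by
      have := (⁅K₁, T⁆).inv_mem (Subgroup.commutator_mem_commutator hx ht)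
      rwa [commutatorElement_inv] at this
    have h5 : t * ⁅t, x⁆ = ⁅t, x⁆ * t := hc t ht _ h4
    obtain ⟨j, hj⟩ := hpowT t ht
    have h6 := comm_pow_eq_one t hj x h5
    obtain ⟨i, hi⟩ := hpowK _ (hle h4)
    have h7 := eq_one_of_pow_coprime hq hs hqs hi h6
    exact commutatorElement_eq_one_iff_mul_comm.mp h7
  -- the Frattini subgroup
  have hK₁ne : Nontrivial ↥K₁ := by
    rw [Subgroup.nontrivial_iff_ne_bot]
    intro e
    apply hnab
    rw [e]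
    exact le_antisymm (Zc_le ⊥) bot_le
  set Φ : Subgroup Γ := (frattini ↥K₁).map K₁.subtype with hΦ
  have hΦK : Φ ≤ K₁ := by rintro _ ⟨x, _, rfl⟩; exact x.2
  have hΦne : Φ ≠ K₁ := by
    intro e
    have h1 : frattini ↥K₁ = ⊤ := by
      rw [eq_top_iff]
      intro x _
      have : (x : Γ) ∈ Φ := by rw [e]; exact x.2
      obtain ⟨y, hy, hyx⟩ := this
      have : y = x := Subtype.ext hyx
      rw [← this]
      exact hy
    have h2 := frattini_nongenerating (G := ↥K₁) (K := ⊥) (by rw [h1]; simp)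
    exact bot_ne_top h2
  have hΦc : ∀ g : Γ, (∀ x ∈ K₁, g * x * g⁻¹ ∈ K₁) → ∀ x ∈ Φ, g * x * g⁻¹ ∈ Φ := fun g hg =>
    conj_mem_map_char (frattini ↥K₁) (mem_normalizer_of_conj_mem hg)
  have hTΦ : ∀ t ∈ T, ∀ x ∈ Φ, t * x = x * t :=
    hminT Φ hΦK hΦne (fun g hg => hΦc g (hSK₁ g hg)) (hΦc a haK₁)
  have hcommΦ : ∀ x ∈ K₁, ∀ y ∈ K₁, ⁅x, y⁆ ∈ Φ := by
    intro x hx y hy
    have h1 : ⁅(⟨x, hx⟩ : ↥K₁), ⟨y, hy⟩⁆ ∈ frattini ↥K₁ :=
      Cfsg.Agent.Lib.Helper1.IsPGroup.commutator_le_frattini hsh.hQ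
        (Subgroup.commutator_mem_commutator (Subgroup.mem_top _) (Subgroup.mem_top _))
    exact ⟨_, h1, by simp [commutatorElement_def]⟩
  have hpowΦ : ∀ x ∈ K₁, x ^ q ∈ Φ := by
    intro x hx
    have h1 := Cfsg.Agent.Lib.Helper1.IsPGroup.pow_mem_frattini hsh.hQ (⟨x, hx⟩ : ↥K₁)
    exact ⟨_, h1, by simp⟩
  have hΦZ : Φ ≤ Zc K₁ := by
    have h1 : ⁅⁅T, Φ⁆, K₁⁆ = ⊥ := by
      have : ⁅T, Φ⁆ = ⊥ := by
        rw [Subgroup.commutator_eq_bot_iff_le_centralizer]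
        intro t ht
        rw [mem_centralizer_iff]
        intro x hx
        exact (hTΦ t ht x hx).symm
      rw [this, Subgroup.commutator_bot_left]
    have h2 : ⁅⁅Φ, K₁⁆, T⁆ = ⊥ := by
      have hle : ⁅Φ, K₁⁆ ≤ Φ := by
        rw [Subgroup.commutator_le]
        intro φ hφ k hk
        have e : ⁅φ, k⁆ = φ * (k * φ⁻¹ * k⁻¹) := by rw [commutatorElement_def]; group
        rw [e]
        exact Φ.mul_mem hφ (hΦc k (fun x hx => by
          exact K₁.mul_mem (K₁.mul_mem hk hx) (K₁.inv_mem hk)) _ (Φ.inv_mem hφ))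
      have h3 : ⁅Φ, T⁆ = ⊥ := by
        rw [Subgroup.commutator_eq_bot_iff_le_centralizer]
        intro x hx
        rw [mem_centralizer_iff]
        intro t ht
        exact hTΦ t ht x hx
      rw [eq_bot_iff, ← h3]
      exact Subgroup.commutator_mono hle le_rfl
    have h3 := Subgroup.commutator_commutator_eq_bot_of_rotate h1 h2
    rw [hKT, Subgroup.commutator_eq_bot_iff_le_centralizer] at h3
    intro φ hφ
    rw [mem_Zc]
    refine ⟨hΦK hφ, ?_⟩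
    intro x hx
    exact (mem_centralizer_iff.mp (h3 hx) φ hφ).symm
  have c : TC ρ n q s a K₁ T X :=
    { sh := hsh
      hs := hs
      hs2 := hs2
      hqs := hqs
      hT := hS.to_le hTS
      haT := haT
      hTK := hTK₁
      hfT := fun t ht => hfS t (hTS ht)
      hTX := rfl
      hXb := hXb
      cl2 := fun x hx y hy => hΦZ (hcommΦ x hx y hy)
      exp := fun x hx => hΦZ (hpowΦ x hx)
      hTZ := hTZ
      hne := hne }
  exact c.false

end Cfsg.Agent.Lib.Helper23.SG
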