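import Mathlib
import Cfsg.Agent.Lib.Helper23.SGT9
import Cfsg.Agent.Lib.Helper8.SylIn

/-!
# helper23: Gross' theorem for `p = 2`, part 10: the faithful step (`[H, b] ≤ F(H)`)
-/

set_option autoImplicit false
set_option linter.unusedSectionVars false
set_option linter.style.haveILetI false

namespace Cfsg.Agent.Lib.Helper23.SG

open Module Subgroup
open Cfsg.Agent.Lib.Helper23.Ward
open Cfsg.Agent.Lib.Helper23.S3 (rho_mul_apply mem_normalizer_of_conj_mem conj_inv_mem_of_finite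
  lift_of_pow)
open scoped commutatorElement

universe u

section Gen

variable {Γ : Type u} [Group Γ] [Finite Γ]

/-- the index of a Sylow subgroup is prime to `q` -/
theorem not_dvd_relIndex_of_isSylIn {q : ℕ} [Fact q.Prime] {S L : Subgroup Γ}
    (h : Cfsg.Agent.Lib.Helper8.IsSylIn q S L) : ¬ q ∣ S.relIndex L := by
  have hq : q.Prime := Fact.out
  intro hd
  have h1 : Nat.card L = Nat.card S * S.relIndex L := card_eq_card_mul_relIndex' h.1
  obtain ⟨v, hv⟩ : ∃ v, v = (Nat.card L).factorization q := ⟨_, rfl⟩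
  have hS : Nat.card S = q ^ v := by rw [hv]; exact h.2
  have h2 : q ^ (v + 1) ∣ Nat.card L := by
    rw [h1, hS, pow_succ]
    exact Nat.mul_dvd_mul dvd_rfl hd
  have h3 := (Nat.Prime.pow_dvd_iff_le_factorization hq Nat.card_pos.ne').mp h2
  omega

/-- a normal `s`-subgroup of `Γ` inside `H` lies in the Fitting subgroup of `H` -/
theorem le_fitting_of_normal_pgroup {s : ℕ} [Fact s.Prime] {H R : Subgroup Γ} (hRn : R.Normal)
    (hRH : R ≤ H) (hR : IsPGroup s R) : R ≤ (Cfsg.fittingSubgroup ↥H).map H.subtype := by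
  have h1 : (R.subgroupOf H).Normal := hRn.subgroupOf H
  have h2 : IsPGroup s (R.subgroupOf H) := hR.comap_subtype
  have h3 : Group.IsNilpotent ↥(R.subgroupOf H) := h2.isNilpotent
  have h4 := Cfsg.Agent.Lib.Helper1.le_fittingSubgroup h1 h3
  intro x hx
  exact ⟨⟨x, hRH hx⟩, h4 (mem_subgroupOf.mpr hx), rfl⟩

/-- an element of order prime to `|H|` centralising the `p`-cores of `F(H)` centralises the
solvable normal subgroup `H` -/
theorem cent_of_cent_pcores [Group.IsSolvable Γ] {p : ℕ} {H : Subgroup Γ} (hHn : H.Normal)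
    {b : Γ} (hbp : b ^ p = 1) (hcop : p.Coprime (Nat.card H))
    (hbQ : ∀ q : Nat.Primes, ∀ x ∈ Cfsg.pCoreOf (q : ℕ) ((Cfsg.fittingSubgroup ↥H).map H.subtype),
      b * x = x * b) : ∀ x ∈ H, b * x = x * b := by
  classical
  haveI := hHn
  set FH : Subgroup ↥H := Cfsg.fittingSubgroup ↥H with hFH
  haveI : FH.Characteristic := Cfsg.Agent.Lib.Helper9.fittingSubgroup_characteristic
  set F : Subgroup Γ := FH.map H.subtype with hF
  haveI hFn : F.Normal := ConjAct.normal_of_characteristic_of_normal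
  have hFH' : F ≤ H := by rintro _ ⟨x, _, rfl⟩; exact x.2
  have hFnil : Group.IsNilpotent ↥F := by
    haveI h1 : Group.IsNilpotent ↥FH := Cfsg.Agent.Lib.Helper1.fittingSubgroup_isNilpotent ↥H
    exact Group.nilpotent_of_mulEquiv
      (Subgroup.equivMapOfInjective FH H.subtype H.subtype_injective)
  have hCF : ∀ x ∈ H, (∀ f ∈ F, x * f = f * x) → x ∈ F := by
    intro x hx hc
    have h1 : (⟨x, hx⟩ : ↥H) ∈ centralizer (FH : Set ↥H) := by
      rw [mem_centralizer_iff]
      intro y hy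
      apply Subtype.ext
      exact (hc y.1 ⟨y, hy, rfl⟩).symm
    have h2 := Cfsg.Agent.S0044.result h1
    exact ⟨⟨x, hx⟩, h2, rfl⟩
  have hbF : F ≤ centralizer {b} := by
    rw [eq_iSup_pCoreOf F hFnil]
    apply iSup_le
    intro q x hx
    rw [mem_centralizer_singleton_iff]
    exact (hbQ q x hx).symm
  have hbF' : ∀ f ∈ F, b * f * b⁻¹ = f := by
    intro f hf
    have := mem_centralizer_singleton_iff.mp (hbF hf)
    rw [← this, mul_inv_cancel_right]
  have hbF'' : ∀ f ∈ F, b⁻¹ * f * b = f := by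
    intro f hf
    have := mem_centralizer_singleton_iff.mp (hbF hf)
    rw [mul_assoc, this, inv_mul_cancel_left]
  intro x hx
  have hcH : ⁅b, x⁆ ∈ H := by
    rw [commutatorElement_def]
    have h1 : b * x * b⁻¹ ∈ H := hHn.conj_mem x hx b
    exact H.mul_mem h1 (H.inv_mem hx)
  have hcF : ⁅b, x⁆ ∈ F := by
    apply hCF _ hcH
    intro f hf
    have h1 : x⁻¹ * f * x ∈ F := by
      have := hFn.conj_mem f hf x⁻¹
      rwa [inv_inv] at this
    have h2 : ⁅b, x⁆ * f * ⁅b, x⁆⁻¹ = f := by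
      calc ⁅b, x⁆ * f * ⁅b, x⁆⁻¹ = b * (x * (b⁻¹ * (x⁻¹ * f * x) * b) * x⁻¹) * b⁻¹ := by
            rw [commutatorElement_def]; group
        _ = b * (x * (x⁻¹ * f * x) * x⁻¹) * b⁻¹ := by rw [hbF'' _ h1]
        _ = b * f * b⁻¹ := by group
        _ = f := hbF' f hf
    calc ⁅b, x⁆ * f = (⁅b, x⁆ * f * ⁅b, x⁆⁻¹) * ⁅b, x⁆ := by group
      _ = f * ⁅b, x⁆ := by rw [h2]
  have hcomm : b * ⁅b, x⁆ = ⁅b, x⁆ * b := (mem_centralizer_singleton_iff.mp (hbF hcF)).symm
  have hcp : ⁅b, x⁆ ^ p = 1 := comm_pow_eq_one b hbp x hcomm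
  have hc1 : ⁅b, x⁆ = 1 := by
    have h1 : orderOf (⟨⁅b, x⁆, hcH⟩ : ↥H) ∣ p := by
      apply orderOf_dvd_of_pow_eq_one
      apply Subtype.ext
      simpa using hcp
    have h2 : orderOf (⟨⁅b, x⁆, hcH⟩ : ↥H) ∣ Nat.card H := orderOf_dvd_natCard _
    have h3 : orderOf (⟨⁅b, x⁆, hcH⟩ : ↥H) = 1 := Nat.eq_one_of_dvd_coprimes hcop h1 h2
    have h4 := orderOf_eq_one_iff.mp h3
    exact congrArg Subtype.val h4
  exact commutatorElement_eq_one_iff_mul_comm.mp hc1

end Gen

variable {K : Type*} [Field K] {Γ : Type u} [Group Γ] [Finite Γ] {V : Type*} [AddCommGroup V]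
  [Module K V]

/-- the key step: for an `a`-invariant `s`-subgroup `S` of `H` with `F(H) S ⊴ Γ`, the commutators
`[S, b]` lie in `F(H)` -/
theorem kc [IsAlgClosed K] [FiniteDimensional K V] {n : ℕ} {H : Subgroup Γ} (hHn : H.Normal)
    {a : Γ} (han : a ^ (2 ^ (n + 1)) = 1) (hcop : Nat.Coprime 2 (Nat.card H))
    (hfH : ∀ x ∈ H, a * x = x * a → x = 1)
    (ρ : Representation K Γ V) (hfaith : ∀ x ∈ H, ρ x = 1 → x = 1)
    (hfV : ∀ v : V, ρ a v = v → v = 0) (h2K : ((2 : ℕ) : K) ≠ 0)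
    (hOr : ∀ q : ℕ, q.Prime → (q : K) = 0 → ∀ R : Subgroup Γ, R ≤ H → R.Normal →
      IsPGroup q R → R = ⊥)
    {s : ℕ} (hs : s.Prime) (hs2 : s ≠ 2) {S : Subgroup Γ} (hSH : S ≤ H) (hS : IsPGroup s S)
    (haS : ∀ x ∈ S, a * x * a⁻¹ ∈ S)
    (hPn : ((Cfsg.fittingSubgroup ↥H).map H.subtype ⊔ S).Normal) :
    ∀ g ∈ S, ⁅g, a ^ (2 ^ n)⁆ ∈ (Cfsg.fittingSubgroup ↥H).map H.subtype := by
  classical
  have : Fact s.Prime := ⟨hs⟩
  set b := a ^ (2 ^ n) with hb
  haveI := hHn
  set FH : Subgroup ↥H := Cfsg.fittingSubgroup ↥H with hFH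
  haveI : FH.Characteristic := Cfsg.Agent.Lib.Helper9.fittingSubgroup_characteristic
  set F : Subgroup Γ := FH.map H.subtype with hF
  haveI hFn : F.Normal := ConjAct.normal_of_characteristic_of_normal
  have hFH' : F ≤ H := by rintro _ ⟨x, _, rfl⟩; exact x.2
  have hFnil : Group.IsNilpotent ↥F := by
    haveI h1 : Group.IsNilpotent ↥FH := Cfsg.Agent.Lib.Helper1.fittingSubgroup_isNilpotent ↥H
    exact Group.nilpotent_of_mulEquiv
      (Subgroup.equivMapOfInjective FH H.subtype H.subtype_injective)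
  haveI hOn : ∀ q : ℕ, (Cfsg.pCoreOf q F).Normal := fun q => pCoreOf_normal q F
  have hbS : ∀ x ∈ S, b * x * b⁻¹ ∈ S := Cfsg.Agent.Lib.Helper17.ESMod.conj_pow_mem S a haS _
  -- `[g, b]` centralises the other `p`-cores
  have hT : ∀ q : Nat.Primes, (q : ℕ) ≠ s → ∀ g ∈ S, ∀ x ∈ Cfsg.pCoreOf (q : ℕ) F,
      ⁅g, b⁆ * x = x * ⁅g, b⁆ := by
    intro q hqs
    have hq : (q : ℕ).Prime := q.2
    have : Fact (q : ℕ).Prime := ⟨hq⟩
    have hQH : Cfsg.pCoreOf (q : ℕ) F ≤ H := (pCoreOf_le q F).trans hFH'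
    by_cases hqK : ((q : ℕ) : K) = 0
    · have h0 := hOr q hq hqK _ hQH (hOn q) (pCoreOf_isPGroup q F)
      intro g _ x hx
      rw [h0, Subgroup.mem_bot] at hx
      rw [hx, one_mul, mul_one]
    by_cases hq2 : (q : ℕ) = 2
    · have h1 : (2 ^ 1).Coprime (Nat.card (Cfsg.pCoreOf (q : ℕ) F)) := by
        rw [pow_one]
        exact Nat.Coprime.coprime_dvd_right (Subgroup.card_dvd_of_le hQH) hcop
      have h0 := eq_bot_of_isPGroup_of_coprime Nat.prime_two (hq2 ▸ pCoreOf_isPGroup q F)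
        one_ne_zero h1
      intro g _ x hx
      rw [h0, Subgroup.mem_bot] at hx
      rw [hx, one_mul, mul_one]
    have hsh : SH ρ 2 n q a (Cfsg.pCoreOf (q : ℕ) F) :=
      { hp := Nat.prime_two, hq := hq, hpq := fun e => hq2 e.symm, hqK := hqK, hpK := h2K
        han := han
        hQ := pCoreOf_isPGroup q F
        haQ := fun x hx => (hOn q).conj_mem x hx a
        hfQ := fun x hx => hfH x (hQH hx)
        hfV := hfV
        hfaith := fun x hx => hfaith x (hQH hx) }
    exact three_level hsh hs hs2 hqs hS haS (fun g _ x hx => (hOn q).conj_mem x hx g)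
      (fun x hx => hfH x (hSH hx))
  -- the product of the other `p`-cores
  set X : Subgroup Γ := ⨆ q : {q : Nat.Primes // (q : ℕ) ≠ s},
    Cfsg.pCoreOf ((q : Nat.Primes) : ℕ) F with hX
  have hXn : X.Normal := inferInstance
  have hCn : (centralizer (X : Set Γ)).Normal := inferInstance
  set T' : Subgroup Γ := S ⊓ centralizer (X : Set Γ) with hT'
  have hgT : ∀ g ∈ S, ⁅g, b⁆ ∈ T' := by
    intro g hg
    refine Subgroup.mem_inf.mpr ⟨?_, ?_⟩
    · have e : ⁅g, b⁆ = g * (b * g⁻¹ * b⁻¹) := by rw [commutatorElement_def]; group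
      rw [e]
      exact S.mul_mem hg (hbS _ (S.inv_mem hg))
    · have h1 : X ≤ centralizer {⁅g, b⁆} := by
        apply iSup_le
        rintro ⟨q, hq⟩ x hx
        rw [mem_centralizer_singleton_iff]
        exact (hT q hq g hg x hx).symm
      rw [mem_centralizer_iff]
      intro x hx
      exact mem_centralizer_singleton_iff.mp (h1 hx)
  set Os : Subgroup Γ := Cfsg.pCoreOf s F with hOs
  have hOsn : Os.Normal := hOn s
  set R : Subgroup Γ := T' ⊔ Os with hR
  have hRp : IsPGroup s R := (hS.to_le inf_le_left).to_sup_of_normal_right (pCoreOf_isPGroup s F)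
  have hRle : R ≤ F ⊔ S := sup_le (inf_le_left.trans le_sup_right) ((pCoreOf_le s F).trans le_sup_left)
  -- `X` centralises `R`
  have hOsX : Os ≤ centralizer (X : Set Γ) := by
    rw [Subgroup.le_centralizer_iff]
    apply iSup_le
    rintro ⟨q, hq⟩ x hx
    rw [mem_centralizer_iff]
    intro y hy
    have : Fact ((q : ℕ)).Prime := ⟨q.2⟩
    have hdis : Disjoint (Cfsg.pCoreOf (q : ℕ) F) Os :=
      IsPGroup.disjoint_of_ne (q : ℕ) s hq _ _ (pCoreOf_isPGroup q F) (pCoreOf_isPGroup s F)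
    exact ((Subgroup.commute_of_normal_of_disjoint _ _ (hOn q) hOsn hdis x y hx hy).eq).symm
  have hRX : R ≤ centralizer (X : Set Γ) := sup_le inf_le_right hOsX
  have hXR : X ≤ normalizer (R : Set Γ) := by
    intro x hx
    apply mem_normalizer_of_conj_mem
    intro r hr
    have h1 := mem_centralizer_iff.mp (hRX hr) x hx
    have e : x * r * x⁻¹ = r := by rw [h1, mul_inv_cancel_right]
    rw [e]
    exact hr
  have hFR : F ≤ normalizer (R : Set Γ) := by
    calc F = ⨆ q : Nat.Primes, Cfsg.pCoreOf (q : ℕ) F := eq_iSup_pCoreOf F hFnil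
      _ ≤ normalizer (R : Set Γ) := by
        apply iSup_le
        intro q
        by_cases hq : (q : ℕ) = s
        · rw [hq]
          exact (le_sup_right : Os ≤ R).trans le_normalizer
        · exact (le_iSup (fun q : {q : Nat.Primes // (q : ℕ) ≠ s} =>
            Cfsg.pCoreOf ((q : Nat.Primes) : ℕ) F) ⟨q, hq⟩).trans hXR
  have hSR : S ≤ normalizer (R : Set Γ) := by
    intro g hg
    apply mem_normalizer_of_conj_mem
    intro r hr
    obtain ⟨t, ht, o, ho, rfl⟩ := Subgroup.mem_sup_of_normal_right.mp hr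
    have e : g * (t * o) * g⁻¹ = (g * t * g⁻¹) * (g * o * g⁻¹) := by group
    rw [e]
    apply R.mul_mem
    · apply (le_sup_left : T' ≤ R)
      have ht' := Subgroup.mem_inf.mp ht
      exact Subgroup.mem_inf.mpr ⟨S.mul_mem (S.mul_mem hg ht'.1) (S.inv_mem hg),
        hCn.conj_mem t ht'.2 g⟩
    · exact (le_sup_right : Os ≤ R) (hOsn.conj_mem o ho g)
  have hPR : F ⊔ S ≤ normalizer (R : Set Γ) := sup_le hFR hSR
  -- `R ≤ O_s(F S) ≤ F`
  have h1 : (R.subgroupOf (F ⊔ S)).Normal := (normal_subgroupOf_iff_le_normalizer hRle).mpr hPR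
  have h2 : IsPGroup s (R.subgroupOf (F ⊔ S)) := hRp.comap_subtype
  have h3 := Cfsg.Agent.Lib.Helper1.le_pCore h1 h2
  have h4 : R ≤ Cfsg.pCoreOf s (F ⊔ S) := by
    intro r hr
    exact ⟨⟨r, hRle hr⟩, h3 (mem_subgroupOf.mpr hr), rfl⟩
  haveI := hPn
  have h5 : (Cfsg.pCoreOf s (F ⊔ S)).Normal := pCoreOf_normal s (F ⊔ S)
  have h6 : Cfsg.pCoreOf s (F ⊔ S) ≤ H := (pCoreOf_le s _).trans (sup_le hFH' hSH)
  have h7 := le_fitting_of_normal_pgroup h5 h6 (pCoreOf_isPGroup s (F ⊔ S))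
  intro g hg
  exact h7 (h4 ((le_sup_left : T' ≤ R) (hgT g hg)))

/-- **the faithful step for `p = 2`**: if `H ⊴ Γ` is solvable of odd order, `a` of order dividing
`2 ^ (n + 1)` has no fixed points on `H` and on the faithful `H`-module `V`, and `O_r(H) = 1` for the
characteristic `r`, then `[H, a ^ (2 ^ n)] ≤ F(H)`. -/
theorem nf2 [Group.IsSolvable Γ] [IsAlgClosed K] [FiniteDimensional K V] {n : ℕ}
    {H : Subgroup Γ} (hHn : H.Normal) {a : Γ} (han : a ^ (2 ^ (n + 1)) = 1)
    (hcop : Nat.Coprime 2 (Nat.card H)) (hfH : ∀ x ∈ H, a * x = x * a → x = 1)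
    (ρ : Representation K Γ V) (hfaith : ∀ x ∈ H, ρ x = 1 → x = 1)
    (hfV : ∀ v : V, ρ a v = v → v = 0) (h2K : ((2 : ℕ) : K) ≠ 0)
    (hOr : ∀ q : ℕ, q.Prime → (q : K) = 0 → ∀ R : Subgroup Γ, R ≤ H → R.Normal →
      IsPGroup q R → R = ⊥) :
    ∀ x ∈ H, ⁅a ^ (2 ^ n), x⁆ ∈ (Cfsg.fittingSubgroup ↥H).map H.subtype := by
  classical
  set b := a ^ (2 ^ n) with hb
  haveI := hHn
  set FH : Subgroup ↥H := Cfsg.fittingSubgroup ↥H with hFH
  haveI : FH.Characteristic := Cfsg.Agent.Lib.Helper9.fittingSubgroup_characteristic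
  set F : Subgroup Γ := FH.map H.subtype with hF
  haveI hFn : F.Normal := ConjAct.normal_of_characteristic_of_normal
  have hFH' : F ≤ H := by rintro _ ⟨x, _, rfl⟩; exact x.2
  let π : Γ →* Γ ⧸ F := QuotientGroup.mk' F
  have hπs : Function.Surjective π := QuotientGroup.mk'_surjective F
  set Hb : Subgroup (Γ ⧸ F) := H.map π with hHb
  have hHbn : Hb.Normal := hHn.map π hπs
  have hbb2 : (π b) ^ 2 = 1 := by
    rw [← map_pow, hb, ← pow_mul, ← pow_succ, han, map_one]
  have hcopb : Nat.Coprime 2 (Nat.card Hb) :=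
    Nat.Coprime.coprime_dvd_right (Subgroup.card_map_dvd _ _) hcop
  have hbQ : ∀ s : Nat.Primes,
      ∀ x ∈ Cfsg.pCoreOf (s : ℕ) ((Cfsg.fittingSubgroup ↥Hb).map Hb.subtype),
        π b * x = x * π b := by
    intro s
    have hs : (s : ℕ).Prime := s.2
    have : Fact (s : ℕ).Prime := ⟨hs⟩
    haveI := hHbn
    set FHb : Subgroup ↥Hb := Cfsg.fittingSubgroup ↥Hb with hFHb
    haveI : FHb.Characteristic := Cfsg.Agent.Lib.Helper9.fittingSubgroup_characteristic
    set F2 : Subgroup (Γ ⧸ F) := FHb.map Hb.subtype with hF2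
    haveI hF2n : F2.Normal := ConjAct.normal_of_characteristic_of_normal
    have hF2H : F2 ≤ Hb := by rintro _ ⟨x, _, rfl⟩; exact x.2
    set Sb : Subgroup (Γ ⧸ F) := Cfsg.pCoreOf (s : ℕ) F2 with hSb
    have hSbn : Sb.Normal := pCoreOf_normal s F2
    have hSbp : IsPGroup (s : ℕ) Sb := pCoreOf_isPGroup s F2
    have hSbH : Sb ≤ Hb := (pCoreOf_le s F2).trans hF2H
    by_cases hs2 : (s : ℕ) = 2
    · have h1 : (2 ^ 1).Coprime (Nat.card Sb) := by
        rw [pow_one]
        exact Nat.Coprime.coprime_dvd_right (Subgroup.card_dvd_of_le hSbH) hcopb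
      have h0 := eq_bot_of_isPGroup_of_coprime Nat.prime_two (hs2 ▸ hSbp) one_ne_zero h1
      intro x hx
      rw [h0, Subgroup.mem_bot] at hx
      rw [hx, one_mul, mul_one]
    set P : Subgroup Γ := Sb.comap π with hP
    have hPn : P.Normal := hSbn.comap π
    have hFP : F ≤ P := by
      intro x hx
      show π x ∈ Sb
      have : π x = 1 := (QuotientGroup.eq_one_iff x).mpr hx
      rw [this]
      exact Sb.one_mem
    have hPH : P ≤ H := by
      intro x hx
      obtain ⟨h', hh', hhx⟩ := hSbH hx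
      have h2 : h'⁻¹ * x ∈ F := by
        rw [← QuotientGroup.eq_one_iff]
        show π (h'⁻¹ * x) = 1
        rw [map_mul, map_inv, hhx, inv_mul_cancel]
      have e' : x = h' * (h'⁻¹ * x) := by group
      rw [e']
      exact H.mul_mem hh' (hFH' h2)
    -- an invariant Sylow subgroup
    have hAP : zpowers a ≤ normalizer (P : Set Γ) := by
      rw [Subgroup.normalizer_eq_top]
      exact le_top
    have hcopAP : (Nat.card (zpowers a)).Coprime (Nat.card P) := by
      rw [Nat.card_zpowers]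
      have h1 : orderOf a ∣ 2 ^ (n + 1) := orderOf_dvd_of_pow_eq_one han
      have h2 : Nat.Coprime (2 ^ (n + 1)) (Nat.card P) :=
        Nat.Coprime.pow_left _ (Nat.Coprime.coprime_dvd_right (Subgroup.card_dvd_of_le hPH) hcop)
      exact Nat.Coprime.coprime_dvd_left h1 h2
    have hsolvP : Group.IsSolvable ↥P := inferInstance
    obtain ⟨S, hSyl, -, hAS⟩ := Cfsg.Agent.Lib.Helper8.exists_invariant_isSylIn_ge hAP hcopAP
      (Or.inr hsolvP) (s : ℕ) ⊥ bot_le IsPGroup.of_bot (by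
        rw [Subgroup.normalizer_eq_top]
        exact le_top)
    have haS : ∀ x ∈ S, a * x * a⁻¹ ∈ S := fun x hx =>
      conj_mem_of_mem_normalizer (hAS (mem_zpowers a)) hx
    have hSP : S ≤ P := hSyl.1
    have hPeq : F ⊔ S = P := by
      apply le_antisymm (sup_le hFP hSP)
      rw [← Subgroup.relIndex_eq_one]
      have hd1 : (F ⊔ S).relIndex P ∣ S.relIndex P :=
        Subgroup.relIndex_dvd_of_le_left P le_sup_right
      have hd2 : (F ⊔ S).relIndex P ∣ F.relIndex P :=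
        Subgroup.relIndex_dvd_of_le_left P le_sup_left
      have hFrel : F.relIndex P = Nat.card Sb := by
        have h1 := Subgroup.relIndex_ker (K := P) π
        rw [QuotientGroup.ker_mk', hP, Subgroup.map_comap_eq_self_of_surjective hπs] at h1
        exact h1
      obtain ⟨e, he⟩ := IsPGroup.iff_card.mp hSbp
      rw [hFrel, he] at hd2
      obtain ⟨j, -, hj⟩ := (Nat.dvd_prime_pow hs).mp hd2
      rcases j with _ | j
      · rw [hj, pow_zero]
      · exfalso
        apply not_dvd_relIndex_of_isSylIn hSyl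
        refine Dvd.dvd.trans ?_ hd1
        rw [hj]
        exact dvd_pow_self _ (Nat.succ_ne_zero j)
    have hPn' : (F ⊔ S).Normal := by rw [hPeq]; exact hPn
    have hkc := kc hHn han hcop hfH ρ hfaith hfV h2K hOr hs hs2 (hSP.trans hPH)
      (Cfsg.Agent.Lib.Helper8.IsSylIn.isPGroup hSyl) haS hPn'
    intro x hx
    obtain ⟨y, rfl⟩ := hπs x
    have hyP : y ∈ P := hx
    rw [← hPeq] at hyP
    obtain ⟨f, hf, g, hg, rfl⟩ := Subgroup.mem_sup_of_normal_left.mp hyP
    have h1 : π (f * g) = π g := by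
      have h0 : π f = 1 := (QuotientGroup.eq_one_iff f).mpr hf
      rw [map_mul, h0, one_mul]
    rw [h1]
    have h2 : π ⁅g, b⁆ = 1 := (QuotientGroup.eq_one_iff _).mpr (hkc g hg)
    rw [map_commutatorElement, commutatorElement_eq_one_iff_mul_comm] at h2
    exact h2.symm
  have hcent := cent_of_cent_pcores hHbn hbb2 hcopb hbQ
  intro x hx
  have h1 := hcent (π x) (Subgroup.mem_map_of_mem π hx)
  have h2 : π ⁅b, x⁆ = 1 := by
    rw [map_commutatorElement, commutatorElement_eq_one_iff_mul_comm]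
    exact h1
  exact (QuotientGroup.eq_one_iff _).mp h2

end Cfsg.Agent.Lib.Helper23.SG
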