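import Mathlib
import Cfsg.Agent.Lib.Helper23.SGT10
import Cfsg.Agent.Lib.Helper23.SG8

/-!
# helper23: Gross' theorem for `p = 2`, part 11: hypotheses `GH2`, the faithful step for order
four, proposition N in both forms
-/

set_option autoImplicit false
set_option linter.unusedSectionVars false
set_option linter.style.haveILetI false

namespace Cfsg.Agent.Lib.Helper23.SG

open Module Subgroup
open Cfsg.Agent.Lib.Helper23.Ward
open Cfsg.Agent.Lib.Helper23.S3 (lift_of_pow)
open Cfsg.Agent.Lib.Helper17.ESMod (bcRep bcRep_apply bcRep_eq_one bcRep_fix)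
open scoped commutatorElement TensorProduct

universe u

/-- the hypotheses of Gross' theorem for `p = 2`, internally: `a` of order dividing `2 ^ (n + 1)`
acts without fixed points on the normal subgroup `G` of odd order of the solvable group `Γ`. -/
structure GH2 (Γ : Type*) [Group Γ] (n : ℕ) (G : Subgroup Γ) (a : Γ) : Prop where
  hGn : G.Normal
  hΓs : Group.IsSolvable Γ
  han : a ^ (2 ^ (n + 1)) = 1
  hcop : Nat.Coprime 2 (Nat.card G)
  hf : ∀ g ∈ G, a * g = g * a → g = 1

/-- the hypotheses pass to quotients by normal subgroups inside `G` -/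
theorem GH2.quot {Γ : Type*} [Group Γ] [Finite Γ] {n : ℕ} {G : Subgroup Γ} {a : Γ}
    (h : GH2 Γ n G a) (X : Subgroup Γ) [hXn : X.Normal] (hXG : X ≤ G) :
    GH2 (Γ ⧸ X) n (G.map (QuotientGroup.mk' X)) (QuotientGroup.mk' X a) := by
  have hπs : Function.Surjective (QuotientGroup.mk' X) := QuotientGroup.mk'_surjective X
  have hcopX : (Nat.card X).Coprime (2 ^ (n + 1)) := by
    apply Nat.Coprime.pow_right
    exact (Nat.Coprime.coprime_dvd_right (Subgroup.card_dvd_of_le hXG) h.hcop).symm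
  refine
    { hGn := h.hGn.map _ hπs
      hΓs := ?_
      han := ?_
      hcop := ?_
      hf := ?_ }
  · have := h.hΓs
    infer_instance
  · rw [← map_pow, h.han, map_one]
  · have h2 : Nat.card (G.map (QuotientGroup.mk' X)) ∣ Nat.card G := Subgroup.card_map_dvd _ _
    exact Nat.Coprime.coprime_dvd_right h2 h.hcop
  · rintro _ ⟨g, hg, rfl⟩ hcent
    have hx : g⁻¹ * (a * g * a⁻¹) ∈ X := by
      rw [← QuotientGroup.eq_one_iff]
      show QuotientGroup.mk' X (g⁻¹ * (a * g * a⁻¹)) = 1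
      rw [map_mul, map_mul, map_mul, map_inv, map_inv, hcent]
      group
    obtain ⟨n', hn', hc⟩ := lift_of_pow h.han (fun l hl => hXn.conj_mem l hl a) hcopX hx
    have h1 : g * n' = 1 := h.hf _ (G.mul_mem hg (hXG hn')) hc
    have h2 : g = n'⁻¹ := eq_inv_of_mul_eq_one_left h1
    rw [h2]
    exact (QuotientGroup.eq_one_iff _).mpr (X.inv_mem hn')

/-- **the faithful step for order four**: if `H ⊴ Γ` is solvable of odd order, `a` with
`a ^ 4 = 1` has no fixed points on `H` and on the faithful `H`-module `V`, and `O_r(H) = 1` for the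
characteristic `r`, then `a ^ 2` centralises `H`. -/
theorem nf4 {K : Type*} [Field K] {Γ : Type u} [Group Γ] [Finite Γ] {V : Type*} [AddCommGroup V]
    [Module K V] [Group.IsSolvable Γ] [IsAlgClosed K] [FiniteDimensional K V]
    {H : Subgroup Γ} (hHn : H.Normal) {a : Γ} (han : a ^ (2 ^ (1 + 1)) = 1)
    (hcop : Nat.Coprime 2 (Nat.card H)) (hfH : ∀ x ∈ H, a * x = x * a → x = 1)
    (ρ : Representation K Γ V) (hfaith : ∀ x ∈ H, ρ x = 1 → x = 1)
    (hfV : ∀ v : V, ρ a v = v → v = 0) (h2K : ((2 : ℕ) : K) ≠ 0)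
    (hOr : ∀ q : ℕ, q.Prime → (q : K) = 0 → ∀ R : Subgroup Γ, R ≤ H → R.Normal →
      IsPGroup q R → R = ⊥) :
    ∀ x ∈ H, a ^ (2 ^ 1) * x = x * a ^ (2 ^ 1) := by
  classical
  set b := a ^ (2 ^ 1) with hb
  have hbp : b ^ 2 = 1 := by rw [hb, ← pow_mul, ← pow_succ]; exact han
  haveI := hHn
  set FH : Subgroup ↥H := Cfsg.fittingSubgroup ↥H with hFH
  haveI : FH.Characteristic := Cfsg.Agent.Lib.Helper9.fittingSubgroup_characteristic
  set F : Subgroup Γ := FH.map H.subtype with hF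
  haveI hFn : F.Normal := ConjAct.normal_of_characteristic_of_normal
  have hFH' : F ≤ H := by rintro _ ⟨x, _, rfl⟩; exact x.2
  apply cent_of_cent_pcores hHn hbp hcop
  intro q
  have hq : (q : ℕ).Prime := q.2
  have : Fact (q : ℕ).Prime := ⟨hq⟩
  have hQn : (Cfsg.pCoreOf (q : ℕ) F).Normal := pCoreOf_normal q F
  have hQH : Cfsg.pCoreOf (q : ℕ) F ≤ H := (pCoreOf_le q F).trans hFH'
  by_cases hqK : ((q : ℕ) : K) = 0
  · have h0 := hOr q hq hqK _ hQH hQn (pCoreOf_isPGroup q F)
    intro x hx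
    rw [h0, Subgroup.mem_bot] at hx
    rw [hx, one_mul, mul_one]
  by_cases hq2 : (q : ℕ) = 2
  · have h1 : (2 ^ 1).Coprime (Nat.card (Cfsg.pCoreOf (q : ℕ) F)) := by
      rw [pow_one]
      exact Nat.Coprime.coprime_dvd_right (Subgroup.card_dvd_of_le hQH) hcop
    have h0 := eq_bot_of_isPGroup_of_coprime Nat.prime_two (hq2 ▸ pCoreOf_isPGroup q F)
      one_ne_zero h1
    intro x hx
    rw [h0, Subgroup.mem_bot] at hx
    rw [hx, one_mul, mul_one]
  have hsh : SH ρ 2 1 q a (Cfsg.pCoreOf (q : ℕ) F) :=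
    { hp := Nat.prime_two, hq := hq, hpq := fun e => hq2 e.symm, hqK := hqK, hpK := h2K
      han := han
      hQ := pCoreOf_isPGroup q F
      haQ := fun x hx => hQn.conj_mem x hx a
      hfQ := fun x hx => hfH x (hQH hx)
      hfV := hfV
      hfaith := fun x hx => hfaith x (hQH hx) }
  exact hsh.cent_four

/-- **Proposition N, generic form**: for a minimal normal subgroup `M` of `Γ` in `G` and
`X = C_G(M)`, the quotient `Γ / X` has a faithful (on `G / X`) representation in the
characteristic `r` of `M` on which `a` has no fixed points, and `O_r(G / X) = 1`. -/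
theorem propN_gen {Γ : Type u} [Group Γ] [Finite Γ] {n : ℕ} {G : Subgroup Γ} {a : Γ}
    (h : GH2 Γ n G a) {M : Subgroup Γ} (hM : Cfsg.Agent.Lib.Helper1.IsMinNormal M)
    (hMG : M ≤ G) (X : Subgroup Γ) [hXn : X.Normal] (hX : X = G ⊓ centralizer (M : Set Γ))
    (C : Prop)
    (hnf : ∀ (K : Type) [Field K] [IsAlgClosed K] (V : Type u) [AddCommGroup V] [Module K V]
      [FiniteDimensional K V] (ρ : Representation K (Γ ⧸ X) V),
      (∀ x ∈ G.map (QuotientGroup.mk' X), ρ x = 1 → x = 1) →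
      (∀ v : V, ρ (QuotientGroup.mk' X a) v = v → v = 0) →
      ((2 : ℕ) : K) ≠ 0 →
      (∀ q : ℕ, q.Prime → (q : K) = 0 → ∀ R : Subgroup (Γ ⧸ X),
        R ≤ G.map (QuotientGroup.mk' X) → R.Normal → IsPGroup q R → R = ⊥) → C) : C := by
  have hΓs := h.hΓs
  have hMn : M.Normal := hM.1
  have hGn := h.hGn
  have hMc : IsMulCommutative M := hM.isMulCommutative
  obtain ⟨r, hr, hMr⟩ := hM.exists_prime_pow_eq_one
  have : Fact r.Prime := ⟨hr⟩
  have hMpg : IsPGroup r ↥M := fun x => ⟨1, by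
    rw [pow_one]; exact Subtype.ext (by simpa using hMr x x.2)⟩
  have hrM : r ∣ Nat.card ↥M := by
    obtain ⟨n, hn⟩ := IsPGroup.iff_card.mp hMpg
    rcases n with _ | n
    · exfalso
      rw [pow_zero] at hn
      have := Subgroup.card_eq_one.mp hn
      exact hM.2.1 this
    · rw [hn]
      exact dvd_pow_self r (Nat.succ_ne_zero n)
  have hrp : 2 ≠ r := by
    intro e
    have h1 : r ∣ Nat.card G := hrM.trans (Subgroup.card_dvd_of_le hMG)
    have h3 : r ∣ Nat.gcd 2 (Nat.card G) := Nat.dvd_gcd (e ▸ dvd_rfl) h1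
    rw [Nat.Coprime.gcd_eq_one h.hcop] at h3
    exact hr.one_lt.ne' (Nat.dvd_one.mp h3)
  -- the conjugation action
  have hφ : ∀ (g : Γ) (m : ↥M), ((MulAut.conjNormal g m : ↥M) : Γ) = g * m * g⁻¹ :=
    fun g m => MulAut.conjNormal_apply g m
  have hcent : ∀ g : Γ, (∀ m : ↥M, MulAut.conjNormal g m = m) → g ∈ centralizer (M : Set Γ) := by
    intro g hg
    rw [mem_centralizer_iff]
    intro m hm
    have h1 := congrArg Subtype.val (hg ⟨m, hm⟩)
    rw [hφ] at h1
    simp only at h1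
    calc m * g = (g * m * g⁻¹) * g := by rw [h1]
      _ = g * m := by group
  have hXker : X ≤ (MulAut.conjNormal : Γ →* MulAut ↥M).ker := by
    intro x hx
    rw [hX] at hx
    rw [MonoidHom.mem_ker]
    ext m
    rw [hφ, MulAut.one_apply]
    have h1 := (mem_centralizer_iff.mp hx.2) m m.2
    rw [← h1]
    group
  have hXG : X ≤ G := by rw [hX]; exact inf_le_left
  have hmemX : ∀ g : Γ, g ∈ G → g ∈ centralizer (M : Set Γ) → g ∈ X := by
    intro g hg hc
    rw [hX]
    exact ⟨hg, hc⟩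
  have hXc : X ≤ centralizer (M : Set Γ) := by rw [hX]; exact inf_le_right
  set ψ : Γ ⧸ X →* MulAut ↥M := QuotientGroup.lift X MulAut.conjNormal hXker with hψdef
  have hψ : ∀ g : Γ, ψ (QuotientGroup.mk' X g) = MulAut.conjNormal g := fun g => rfl
  obtain ⟨W, iA, iM, iF, ρ₀, e, he, he1⟩ := exists_rep_of_aut (T := Γ ⧸ X) (r := r) (E := ↥M)
    (fun a b => Subtype.ext (setLike_mul_comm a.2 b.2))
    (fun a => Subtype.ext (by simpa using hMr a a.2)) ψ
  have h2K : ((2 : ℕ) : AlgebraicClosure (ZMod r)) ≠ 0 := fun h0 =>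
    hrp (natCast_algClosure_eq_zero Nat.prime_two h0)
  apply hnf (AlgebraicClosure (ZMod r)) (AlgebraicClosure (ZMod r) ⊗[ZMod r] W)
    (bcRep (AlgebraicClosure (ZMod r)) ρ₀)
  · -- faithful
    rintro _ ⟨g, hg, rfl⟩ h1
    rw [bcRep_eq_one_iff] at h1
    have h2 : g ∈ centralizer (M : Set Γ) := by
      apply hcent
      intro m
      have h3 := he (QuotientGroup.mk' X g) m
      rw [h1, Module.End.one_apply] at h3
      have h4 := e.injective h3
      rw [hψ] at h4
      exact h4.symm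
    exact (QuotientGroup.eq_one_iff g).mpr (hmemX g hg h2)
  · -- fixed points on V
    apply bcRep_fix (AlgebraicClosure (ZMod r)) ρ₀ (QuotientGroup.mk' X a)
    intro w hw
    obtain ⟨m, rfl⟩ := e.surjective w
    rw [he] at hw
    have h3 := e.injective hw
    rw [hψ] at h3
    have h4 := congrArg Subtype.val h3
    rw [hφ] at h4
    have h1 : a * (m : Γ) = (m : Γ) * a := by
      calc a * (m : Γ) = (a * m * a⁻¹) * a := by group
        _ = (m : Γ) * a := by rw [h4]
    have h5 : (m : Γ) = 1 := h.hf _ (hMG m.2) h1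
    have h6 : m = 1 := Subtype.ext h5
    rw [h6, he1]
  · exact h2K
  · -- O_r = 1
    intro q hq hqK R' hR'G hR'n hR'q
    have hqr : q = r := natCast_algClosure_eq_zero hq hqK
    subst hqr
    obtain ⟨m, hm1, hmfix⟩ := exists_fixed_of_pgroup ψ R' hR'q hrM
    have hRn : (R'.comap (QuotientGroup.mk' X)).Normal := hR'n.comap _
    set C' : Subgroup Γ := M ⊓ centralizer ((R'.comap (QuotientGroup.mk' X) : Subgroup Γ) : Set Γ)
      with hC
    have hCn : C'.Normal := inferInstance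
    have hmC : (m : Γ) ∈ C' := by
      refine ⟨m.2, ?_⟩
      show (m : Γ) ∈ centralizer ((R'.comap (QuotientGroup.mk' X) : Subgroup Γ) : Set Γ)
      rw [mem_centralizer_iff]
      intro g hg
      have h1 := hmfix _ hg
      rw [hψ] at h1
      have h2 := congrArg Subtype.val h1
      rw [hφ] at h2
      calc g * (m : Γ) = (g * m * g⁻¹) * g := by group
        _ = (m : Γ) * g := by rw [h2]
    have hCM : C' = M := by
      rcases hM.2.2 C' hCn inf_le_left with h0 | h0
      · exfalso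
        rw [h0, Subgroup.mem_bot] at hmC
        exact hm1 (Subtype.ext hmC)
      · exact h0
    have hMc' : M ≤ centralizer ((R'.comap (QuotientGroup.mk' X) : Subgroup Γ) : Set Γ) := by
      rw [← hCM]
      exact inf_le_right
    have hRc : R'.comap (QuotientGroup.mk' X) ≤ centralizer (M : Set Γ) :=
      Subgroup.le_centralizer_iff.mp hMc'
    rw [eq_bot_iff]
    intro x' hx'
    obtain ⟨g, rfl⟩ := QuotientGroup.mk'_surjective X x'
    have hgR : g ∈ R'.comap (QuotientGroup.mk' X) := hx'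
    obtain ⟨g₀, hg₀, hg₀g⟩ := hR'G hx'
    have h2 : g₀⁻¹ * g ∈ X := by
      rw [← QuotientGroup.eq_one_iff]
      show QuotientGroup.mk' X (g₀⁻¹ * g) = 1
      rw [map_mul, map_inv, hg₀g, inv_mul_cancel]
    have hgG : g ∈ G := by
      have e' : g = g₀ * (g₀⁻¹ * g) := by group
      rw [e']
      exact G.mul_mem hg₀ (hXG h2)
    rw [Subgroup.mem_bot]
    exact (QuotientGroup.eq_one_iff g).mpr (hmemX g hgG (hRc hgR))

/-- **Proposition N for order four**: `a ^ 2` acts trivially on `G / C_G(M)`. -/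
theorem propN4 {Γ : Type u} [Group Γ] [Finite Γ] {G : Subgroup Γ} {a : Γ}
    (h : GH2 Γ 1 G a) {M : Subgroup Γ} (hM : Cfsg.Agent.Lib.Helper1.IsMinNormal M)
    (hMG : M ≤ G) : ∀ g ∈ G, ⁅a ^ (2 ^ 1), g⁆ ∈ centralizer (M : Set Γ) := by
  have hMn : M.Normal := hM.1
  have hGn := h.hGn
  set X : Subgroup Γ := G ⊓ centralizer (M : Set Γ) with hX
  have hXn : X.Normal := inferInstance
  have hGH := h.quot X inf_le_left
  have hΓs' := hGH.hΓs
  apply propN_gen h hM hMG X hX
  intro K _ _ V _ _ _ ρ hfaith hfV h2K hOr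
  have hcentb := nf4 hGH.hGn hGH.han hGH.hcop hGH.hf ρ hfaith hfV h2K hOr
  intro g hg
  have h1 := hcentb _ (Subgroup.mem_map_of_mem (QuotientGroup.mk' X) hg)
  have h2 : QuotientGroup.mk' X ⁅a ^ (2 ^ 1), g⁆ = 1 := by
    rw [map_commutatorElement, map_pow, commutatorElement_eq_one_iff_mul_comm]
    exact h1
  exact ((QuotientGroup.eq_one_iff _).mp h2).2

/-- **Proposition N for `p = 2`**: `a ^ (2 ^ n)` acts trivially on `G / X_M`, where
`X_M / C_G(M)` is the Fitting subgroup of `G / C_G(M)`. -/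
theorem propN2 {Γ : Type u} [Group Γ] [Finite Γ] {n : ℕ} {G : Subgroup Γ} {a : Γ}
    (h : GH2 Γ n G a) {M : Subgroup Γ} (hM : Cfsg.Agent.Lib.Helper1.IsMinNormal M)
    (hMG : M ≤ G) (X : Subgroup Γ) [hXn : X.Normal] (hX : X = G ⊓ centralizer (M : Set Γ)) :
    ∀ g ∈ G, QuotientGroup.mk' X ⁅a ^ (2 ^ n), g⁆ ∈
      (Cfsg.fittingSubgroup ↥(G.map (QuotientGroup.mk' X))).map
        (G.map (QuotientGroup.mk' X)).subtype := by
  have hXG : X ≤ G := by rw [hX]; exact inf_le_left
  have hGH := h.quot X hXG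
  have hΓs' := hGH.hΓs
  apply propN_gen h hM hMG X hX
  intro K _ _ V _ _ _ ρ hfaith hfV h2K hOr
  have hcentb := nf2 hGH.hGn hGH.han hGH.hcop hGH.hf ρ hfaith hfV h2K hOr
  intro g hg
  have h1 := hcentb _ (Subgroup.mem_map_of_mem (QuotientGroup.mk' X) hg)
  rw [map_commutatorElement, map_pow]
  exact h1

end Cfsg.Agent.Lib.Helper23.SG
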