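import Mathlib
import Cfsg.Agent.Lib.Helper23.SGT11

/-!
# helper23: Gross' theorem for `p = 2`, part 12: the internal inductions
-/

set_option autoImplicit false
set_option linter.unusedSectionVars false
set_option linter.style.haveILetI false

namespace Cfsg.Agent.Lib.Helper23.SG

open Module Subgroup
open Cfsg.Agent.Lib.Helper23.Ward
open scoped commutatorElement

universe u

/-- **Gross for order four**, internal form: there is a nilpotent normal subgroup `N ≤ G` of
`Γ` such that `a ^ 2` acts trivially on `G / N`. -/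
theorem gross_internal4 : ∀ (k : ℕ) (Γ : Type u) [Group Γ] [Finite Γ] (G : Subgroup Γ)
    (a : Γ), GH2 Γ 1 G a → Nat.card G = k →
    ∃ N : Subgroup Γ, N ≤ G ∧ N.Normal ∧ (∃ j, N.lowerCentralSeries j = ⊥) ∧
      ∀ g ∈ G, ⁅a ^ (2 ^ 1), g⁆ ∈ N := by
  intro k
  induction k using Nat.strong_induction_on with
  | _ k ih =>
    intro Γ _ _ G a h hk
    by_cases hG1 : G = ⊥
    · refine ⟨⊥, bot_le, inferInstance, ⟨0, rfl⟩, ?_⟩
      intro g hg
      rw [hG1, Subgroup.mem_bot] at hg
      rw [hg, Subgroup.mem_bot, commutatorElement_def]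
      group
    have hGn := h.hGn
    obtain ⟨M, hM, hMG⟩ := Cfsg.Agent.Lib.Helper1.exists_isMinNormal_le G hGn hG1
    have hMn := hM.1
    have hGH := h.quot M hMG
    have hπs : Function.Surjective (QuotientGroup.mk' M) := QuotientGroup.mk'_surjective M
    have hcard : Nat.card M * Nat.card (G.map (QuotientGroup.mk' M)) = Nat.card G := by
      have h1 := Subgroup.relIndex_mul_relIndex (⊥ : Subgroup Γ) M G bot_le hMG
      rw [Subgroup.relIndex_bot_left, Subgroup.relIndex_bot_left] at h1
      have e : M = (⊥ : Subgroup (Γ ⧸ M)).comap (QuotientGroup.mk' M) := by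
        rw [MonoidHom.comap_bot, QuotientGroup.ker_mk']
      have h2 : M.relIndex G = Nat.card (G.map (QuotientGroup.mk' M)) := by
        conv_lhs => rw [e]
        rw [Subgroup.relIndex_comap, Subgroup.relIndex_bot_left]
      rw [← h2]
      exact h1
    have hM1 : 1 < Nat.card M := by
      rw [Subgroup.one_lt_card_iff_ne_bot]
      exact hM.2.1
    have hlt : Nat.card (G.map (QuotientGroup.mk' M)) < k := by
      rw [← hk, ← hcard]
      have hpos : 0 < Nat.card (G.map (QuotientGroup.mk' M)) := Nat.card_pos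
      nlinarith
    obtain ⟨Nb, hNbG, hNbn, ⟨k₁, hk₁⟩, hNb⟩ :=
      ih _ hlt (Γ ⧸ M) (G.map (QuotientGroup.mk' M)) (QuotientGroup.mk' M a) hGH rfl
    have hj := propN4 h hM hMG
    have hN₁n : (Nb.comap (QuotientGroup.mk' M)).Normal := hNbn.comap _
    have hN₁G : Nb.comap (QuotientGroup.mk' M) ≤ G := by
      intro x hx
      obtain ⟨g, hg, hgx⟩ := hNbG hx
      have h2 : g⁻¹ * x ∈ M := by
        rw [← QuotientGroup.eq_one_iff]
        show QuotientGroup.mk' M (g⁻¹ * x) = 1
        rw [map_mul, map_inv, hgx, inv_mul_cancel]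
      have e' : x = g * (g⁻¹ * x) := by group
      rw [e']
      exact G.mul_mem hg (hMG h2)
    -- `γ_{k₁}(N₁) ≤ M`
    have hlcs₁ : (Nb.comap (QuotientGroup.mk' M)).lowerCentralSeries k₁ ≤ M := by
      intro x hx
      have h1 : QuotientGroup.mk' M x ∈
          ((Nb.comap (QuotientGroup.mk' M)).lowerCentralSeries k₁).map (QuotientGroup.mk' M) :=
        Subgroup.mem_map_of_mem _ hx
      rw [map_lowerCentralSeries, Subgroup.map_comap_eq_self_of_surjective hπs, hk₁,
        Subgroup.mem_bot] at h1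
      exact (QuotientGroup.eq_one_iff x).mp h1
    refine ⟨Nb.comap (QuotientGroup.mk' M) ⊓ centralizer (M : Set Γ), inf_le_left.trans hN₁G,
      inferInstance, ⟨k₁ + 1, ?_⟩, ?_⟩
    · rw [Subgroup.lowerCentralSeries_succ, eq_bot_iff]
      have h1 : (Nb.comap (QuotientGroup.mk' M) ⊓ centralizer (M : Set Γ)).lowerCentralSeries k₁
          ≤ M := (lcs_mono inf_le_left k₁).trans hlcs₁
      have h2 : ⁅M, centralizer (M : Set Γ)⁆ = ⊥ := by
        rw [Subgroup.commutator_eq_bot_iff_le_centralizer]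
        exact Subgroup.le_centralizer_iff.mp le_rfl
      rw [← h2]
      exact Subgroup.commutator_mono h1 inf_le_right
    · intro g hg
      refine ⟨?_, hj g hg⟩
      show QuotientGroup.mk' M ⁅a ^ (2 ^ 1), g⁆ ∈ Nb
      rw [map_commutatorElement, map_pow]
      exact hNb _ (Subgroup.mem_map_of_mem (QuotientGroup.mk' M) hg)

/-- **Gross for `p = 2`**, internal form: there are normal subgroups `N₁ ≤ N₂ ≤ G` of `Γ` with
`N₁` and `N₂ / N₁` nilpotent such that `a ^ (2 ^ n)` acts trivially on `G / N₂`. -/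
theorem gross_internal2 : ∀ (k : ℕ) (Γ : Type u) [Group Γ] [Finite Γ] (n : ℕ) (G : Subgroup Γ)
    (a : Γ), GH2 Γ n G a → Nat.card G = k →
    ∃ N₁ N₂ : Subgroup Γ, N₁ ≤ N₂ ∧ N₂ ≤ G ∧ N₁.Normal ∧ N₂.Normal ∧
      (∃ j, N₁.lowerCentralSeries j = ⊥) ∧ (∃ j, N₂.lowerCentralSeries j ≤ N₁) ∧
      ∀ g ∈ G, ⁅a ^ (2 ^ n), g⁆ ∈ N₂ := by
  intro k
  induction k using Nat.strong_induction_on with
  | _ k ih =>
    intro Γ _ _ n G a h hk
    by_cases hG1 : G = ⊥
    · refine ⟨⊥, ⊥, le_rfl, bot_le, inferInstance, inferInstance, ⟨0, rfl⟩, ⟨0, le_rfl⟩, ?_⟩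
      intro g hg
      rw [hG1, Subgroup.mem_bot] at hg
      rw [hg, Subgroup.mem_bot, commutatorElement_def]
      group
    have hGn := h.hGn
    have hΓs := h.hΓs
    obtain ⟨M, hM, hMG⟩ := Cfsg.Agent.Lib.Helper1.exists_isMinNormal_le G hGn hG1
    have hMn := hM.1
    have hGH := h.quot M hMG
    have hπs : Function.Surjective (QuotientGroup.mk' M) := QuotientGroup.mk'_surjective M
    have hcard : Nat.card M * Nat.card (G.map (QuotientGroup.mk' M)) = Nat.card G := by
      have h1 := Subgroup.relIndex_mul_relIndex (⊥ : Subgroup Γ) M G bot_le hMG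
      rw [Subgroup.relIndex_bot_left, Subgroup.relIndex_bot_left] at h1
      have e : M = (⊥ : Subgroup (Γ ⧸ M)).comap (QuotientGroup.mk' M) := by
        rw [MonoidHom.comap_bot, QuotientGroup.ker_mk']
      have h2 : M.relIndex G = Nat.card (G.map (QuotientGroup.mk' M)) := by
        conv_lhs => rw [e]
        rw [Subgroup.relIndex_comap, Subgroup.relIndex_bot_left]
      rw [← h2]
      exact h1
    have hM1 : 1 < Nat.card M := by
      rw [Subgroup.one_lt_card_iff_ne_bot]
      exact hM.2.1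
    have hlt : Nat.card (G.map (QuotientGroup.mk' M)) < k := by
      rw [← hk, ← hcard]
      have hpos : 0 < Nat.card (G.map (QuotientGroup.mk' M)) := Nat.card_pos
      nlinarith
    obtain ⟨Pb₁, Pb₂, hPb12, hPb₂G, hPb₁n, hPb₂n, ⟨k₁, hk₁⟩, ⟨k₂, hk₂⟩, hPb⟩ :=
      ih _ hlt (Γ ⧸ M) n (G.map (QuotientGroup.mk' M)) (QuotientGroup.mk' M a) hGH rfl
    -- the preimages
    set P₁ : Subgroup Γ := Pb₁.comap (QuotientGroup.mk' M) with hP₁
    set P₂ : Subgroup Γ := Pb₂.comap (QuotientGroup.mk' M) with hP₂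
    have hP₁n : P₁.Normal := hPb₁n.comap _
    have hP₂n : P₂.Normal := hPb₂n.comap _
    have hP12 : P₁ ≤ P₂ := Subgroup.comap_mono hPb12
    have hP₂G : P₂ ≤ G := by
      intro x hx
      obtain ⟨g, hg, hgx⟩ := hPb₂G hx
      have h2 : g⁻¹ * x ∈ M := by
        rw [← QuotientGroup.eq_one_iff]
        show QuotientGroup.mk' M (g⁻¹ * x) = 1
        rw [map_mul, map_inv, hgx, inv_mul_cancel]
      have e' : x = g * (g⁻¹ * x) := by group
      rw [e']
      exact G.mul_mem hg (hMG h2)
    have hlcs₁ : P₁.lowerCentralSeries k₁ ≤ M := by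
      intro x hx
      have h1 : QuotientGroup.mk' M x ∈
          (P₁.lowerCentralSeries k₁).map (QuotientGroup.mk' M) :=
        Subgroup.mem_map_of_mem _ hx
      rw [map_lowerCentralSeries, hP₁, Subgroup.map_comap_eq_self_of_surjective hπs, hk₁,
        Subgroup.mem_bot] at h1
      exact (QuotientGroup.eq_one_iff x).mp h1
    have hlcs₂ : P₂.lowerCentralSeries k₂ ≤ P₁ := by
      intro x hx
      have h1 : QuotientGroup.mk' M x ∈
          (P₂.lowerCentralSeries k₂).map (QuotientGroup.mk' M) :=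
        Subgroup.mem_map_of_mem _ hx
      rw [map_lowerCentralSeries, hP₂, Subgroup.map_comap_eq_self_of_surjective hπs] at h1
      exact hk₂ h1
    -- the second ingredient
    set X : Subgroup Γ := G ⊓ centralizer (M : Set Γ) with hX
    have hXn : X.Normal := inferInstance
    have hXG : X ≤ G := inf_le_left
    have hGHX := h.quot X hXG
    have hπXs : Function.Surjective (QuotientGroup.mk' X) := QuotientGroup.mk'_surjective X
    have hj := propN2 h hM hMG X hX
    set Gb : Subgroup (Γ ⧸ X) := G.map (QuotientGroup.mk' X) with hGb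
    haveI hGbn : Gb.Normal := hGHX.hGn
    set FGb : Subgroup ↥Gb := Cfsg.fittingSubgroup ↥Gb with hFGb
    haveI : FGb.Characteristic := Cfsg.Agent.Lib.Helper9.fittingSubgroup_characteristic
    set Fb : Subgroup (Γ ⧸ X) := FGb.map Gb.subtype with hFb
    haveI hFbn : Fb.Normal := ConjAct.normal_of_characteristic_of_normal
    have hFbnil : Group.IsNilpotent ↥Fb := by
      haveI h1 : Group.IsNilpotent ↥FGb := Cfsg.Agent.Lib.Helper1.fittingSubgroup_isNilpotent ↥Gb
      exact Group.nilpotent_of_mulEquiv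
        (Subgroup.equivMapOfInjective FGb Gb.subtype Gb.subtype_injective)
    obtain ⟨c, hc⟩ := (isNilpotent_iff_lowerCentralSeries _).mp hFbnil
    set XM : Subgroup Γ := Fb.comap (QuotientGroup.mk' X) with hXM
    have hXMn : XM.Normal := hFbn.comap _
    have hXXM : X ≤ XM := by
      intro x hx
      show QuotientGroup.mk' X x ∈ Fb
      have : QuotientGroup.mk' X x = 1 := (QuotientGroup.eq_one_iff x).mpr hx
      rw [this]
      exact Fb.one_mem
    have hlcsX : XM.lowerCentralSeries c ≤ X := by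
      intro x hx
      have h1 : QuotientGroup.mk' X x ∈
          (XM.lowerCentralSeries c).map (QuotientGroup.mk' X) :=
        Subgroup.mem_map_of_mem _ hx
      rw [map_lowerCentralSeries, hXM, Subgroup.map_comap_eq_self_of_surjective hπXs, hc,
        Subgroup.mem_bot] at h1
      exact (QuotientGroup.eq_one_iff x).mp h1
    refine ⟨P₁ ⊓ centralizer (M : Set Γ), P₂ ⊓ XM, ?_, inf_le_left.trans hP₂G, inferInstance,
      inferInstance, ⟨k₁ + 1, ?_⟩, ⟨max k₂ c, ?_⟩, ?_⟩
    · apply le_inf (inf_le_left.trans hP12)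
      intro x hx
      exact hXXM ⟨hP₂G (hP12 hx.1), hx.2⟩
    · rw [Subgroup.lowerCentralSeries_succ, eq_bot_iff]
      have h1 : (P₁ ⊓ centralizer (M : Set Γ)).lowerCentralSeries k₁ ≤ M :=
        (lcs_mono inf_le_left k₁).trans hlcs₁
      have h2 : ⁅M, centralizer (M : Set Γ)⁆ = ⊥ := by
        rw [Subgroup.commutator_eq_bot_iff_le_centralizer]
        exact Subgroup.le_centralizer_iff.mp le_rfl
      rw [← h2]
      exact Subgroup.commutator_mono h1 inf_le_right
    · apply le_inf
      · exact ((lcs_mono inf_le_left (max k₂ c)).trans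
          (P₂.lowerCentralSeries_antitone (le_max_left k₂ c))).trans hlcs₂
      · exact (((lcs_mono inf_le_right (max k₂ c)).trans
          (XM.lowerCentralSeries_antitone (le_max_right k₂ c))).trans hlcsX).trans inf_le_right
    · intro g hg
      refine ⟨?_, hj g hg⟩
      show QuotientGroup.mk' M ⁅a ^ (2 ^ n), g⁆ ∈ Pb₂
      rw [map_commutatorElement, map_pow]
      exact hPb _ (Subgroup.mem_map_of_mem (QuotientGroup.mk' M) hg)

end Cfsg.Agent.Lib.Helper23.SG
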