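import Mathlib
import Cfsg.Agent.Lib.Helper23.SGT12
import Cfsg.Agent.Lib.Helper20.ActionBridge

/-!
# helper23: Gross' theorem for `p = 2`, part 13: chains, the bridge from automorphisms to the
internal statements, the outer induction
-/

set_option autoImplicit false
set_option linter.unusedSectionVars false
set_option linter.style.haveILetI false

namespace Cfsg.Agent.Lib.Helper23.SG

open Module Subgroup
open Cfsg.Agent.Lib.Helper23.Ward
open Cfsg.Agent.Lib.Helper23.S3 (lift_of_pow)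
open Cfsg.Agent.Lib.Helper20
open scoped commutatorElement

universe u

/-! ### chains with nilpotent factors -/

/-- prepend a value to a sequence -/
def consFn {α : Type*} (b : α) (F : ℕ → α) : ℕ → α
  | 0 => b
  | i + 1 => F i

theorem consFn_zero {α : Type*} (b : α) (F : ℕ → α) : consFn b F 0 = b := rfl

theorem consFn_succ {α : Type*} (b : α) (F : ℕ → α) (i : ℕ) : consFn b F (i + 1) = F i := rfl

/-- a chain of normal subgroups from `B` to `⊤` of length `m` with nilpotent factors -/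
def NChainFrom {G : Type*} [Group G] (B : Subgroup G) (m : ℕ) : Prop :=
  ∃ F : ℕ → Subgroup G, F 0 = B ∧ F m = ⊤ ∧ (∀ i, F i ≤ F (i + 1)) ∧ (∀ i, (F i).Normal) ∧
    ∀ i < m, ∃ k : ℕ, (F (i + 1)).lowerCentralSeries k ≤ F i

theorem NChainFrom.top {G : Type*} [Group G] : NChainFrom (⊤ : Subgroup G) 0 :=
  ⟨fun _ => ⊤, rfl, rfl, fun _ => le_rfl, fun _ => inferInstance,
    fun i hi => absurd hi (Nat.not_lt_zero i)⟩

theorem NChainFrom.cons {G : Type*} [Group G] {B B' : Subgroup G} {m : ℕ} (hB : B.Normal)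
    (hBB' : B ≤ B') (k : ℕ) (hk : B'.lowerCentralSeries k ≤ B) (h : NChainFrom B' m) :
    NChainFrom B (m + 1) := by
  obtain ⟨F, hF0, hFm, hFmono, hFn, hFc⟩ := h
  refine ⟨consFn B F, rfl, hFm, ?_, ?_, ?_⟩
  · intro i
    cases i with
    | zero =>
      rw [consFn_zero, consFn_succ, hF0]
      exact hBB'
    | succ i =>
      rw [consFn_succ, consFn_succ]
      exact hFmono i
  · intro i
    cases i with
    | zero => rw [consFn_zero]; exact hB
    | succ i => rw [consFn_succ]; exact hFn i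
  · intro i hi
    cases i with
    | zero =>
      refine ⟨k, ?_⟩
      rw [consFn_zero, consFn_succ, hF0]
      exact hk
    | succ i =>
      rw [consFn_succ, consFn_succ]
      exact hFc i (by omega)

theorem NChainFrom.comap_mk {G : Type*} [Group G] (N : Subgroup G) [N.Normal] {m : ℕ}
    (h : NChainFrom (⊥ : Subgroup (G ⧸ N)) m) : NChainFrom N m := by
  obtain ⟨F, hF0, hFm, hFmono, hFn, hFc⟩ := h
  have hπs : Function.Surjective (QuotientGroup.mk' N) := QuotientGroup.mk'_surjective N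
  refine ⟨fun i => (F i).comap (QuotientGroup.mk' N), ?_, ?_, ?_, ?_, ?_⟩
  · show (F 0).comap _ = N
    rw [hF0, MonoidHom.comap_bot, QuotientGroup.ker_mk']
  · show (F m).comap _ = ⊤
    rw [hFm, Subgroup.comap_top]
  · intro i
    exact Subgroup.comap_mono (hFmono i)
  · intro i
    exact (hFn i).comap _
  · intro i hi
    obtain ⟨k, hk⟩ := hFc i hi
    refine ⟨k, ?_⟩
    intro x hx
    have h1 : QuotientGroup.mk' N x ∈
        (((F (i + 1)).comap (QuotientGroup.mk' N)).lowerCentralSeries k).map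
          (QuotientGroup.mk' N) := Subgroup.mem_map_of_mem _ hx
    rw [map_lowerCentralSeries, Subgroup.map_comap_eq_self_of_surjective hπs] at h1
    exact hk h1

theorem NChainFrom.toFin {G : Type*} [Group G] {m : ℕ} (h : NChainFrom (⊥ : Subgroup G) m) :
    ∃ F : Fin (m + 1) → Subgroup G, F 0 = ⊥ ∧ F (Fin.last m) = ⊤ ∧ Monotone F ∧
      (∀ i, (F i).Normal) ∧
      ∀ i : Fin m, ∃ k : ℕ, (F i.succ).lowerCentralSeries k ≤ F i.castSucc := by
  obtain ⟨F, hF0, hFm, hFmono, hFn, hFc⟩ := h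
  have hmono : Monotone F := monotone_nat_of_le_succ hFmono
  refine ⟨fun i => F i.val, ?_, ?_, ?_, fun i => hFn _, ?_⟩
  · show F ((0 : Fin (m + 1)).val) = ⊥
    rw [Fin.val_zero]
    exact hF0
  · show F (Fin.last m).val = ⊤
    rw [Fin.val_last]
    exact hFm
  · intro i j hij
    exact hmono hij
  · intro i
    obtain ⟨k, hk⟩ := hFc i.val i.isLt
    refine ⟨k, ?_⟩
    show (F i.succ.val).lowerCentralSeries k ≤ F i.castSucc.val
    rw [Fin.val_succ, Fin.val_castSucc]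
    exact hk

/-! ### the bridge -/

/-- bridge data: `G` embedded in `Γ` as a normal subgroup on which `a` acts as `σ` -/
structure Br {G Γ : Type*} [Group G] [Group Γ] (σ : MulAut G) (n : ℕ) (ι : G →* Γ) (a : Γ) :
    Prop where
  inj : Function.Injective ι
  gh : GH2 Γ n ι.range a
  conj : ∀ (k : ℕ) (g : G), a ^ k * ι g * (a ^ k)⁻¹ = ι ((σ ^ k) g)

theorem exists_Br {G : Type u} [Group G] [Finite G] (hG : Group.IsSolvable G) (σ : MulAut G)
    (n : ℕ) (hσ : σ ^ (2 ^ (n + 1)) = 1) (hfpf : ∀ g : G, σ g = g → g = 1) :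
    ∃ (Γ : Type u) (_ : Group Γ) (_ : Finite Γ) (ι : G →* Γ) (a : Γ), Br σ n ι a := by
  classical
  have : Fact (2 : ℕ).Prime := ⟨Nat.prime_two⟩
  set A : Subgroup (MulAut G) := zpowers σ with hA
  have hAcomm : ∀ x y : ↥A, x * y = y * x := by
    rintro ⟨_, ⟨i, rfl⟩⟩ ⟨_, ⟨j, rfl⟩⟩
    apply Subtype.ext
    exact zpow_mul_comm σ i j
  have hApow : ∀ x : ↥A, x ^ (2 ^ (n + 1)) = 1 := by
    rintro ⟨_, ⟨i, rfl⟩⟩
    apply Subtype.ext
    show (σ ^ i) ^ (2 ^ (n + 1)) = 1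
    rw [← zpow_natCast, ← zpow_mul, mul_comm, zpow_mul, zpow_natCast, hσ, one_zpow]
  have hApg : IsPGroup 2 ↥A := fun x => ⟨n + 1, hApow x⟩
  -- coprimality
  have hfix : MulAction.fixedPoints ↥A G = {1} := by
    ext g
    constructor
    · intro hg
      have : g = 1 := hfpf g (hg ⟨σ, mem_zpowers σ⟩)
      exact this
    · intro hg
      rw [Set.mem_singleton_iff] at hg
      intro a
      rw [hg]
      exact smul_one a
  have hmod := hApg.card_modEq_card_fixedPoints G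
  have hcop : Nat.Coprime 2 (Nat.card G) := by
    rw [Nat.Prime.coprime_iff_not_dvd Nat.prime_two]
    intro hdvd
    have hc1 : Nat.card (MulAction.fixedPoints ↥A G) = 1 := by
      rw [hfix]
      simp
    rw [hc1] at hmod
    have h1 : Nat.card G % 2 = 0 := Nat.mod_eq_zero_of_dvd hdvd
    have h2 : Nat.card G % 2 = 1 % 2 := hmod
    rw [h1] at h2
    exact absurd h2 (by norm_num)
  -- the semidirect product
  have hsolv : Group.IsSolvable (Sd ↥A G) := by
    have : Group.IsSolvable ↥A := Group.isSolvable_of_comm hAcomm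
    exact Group.isSolvable_of_ker_le_range (SemidirectProduct.inl : G →* Sd ↥A G)
      (SemidirectProduct.rightHom : Sd ↥A G →* ↥A)
      (by rw [SemidirectProduct.range_inl_eq_ker_rightHom])
  set s : ↥A := ⟨σ, mem_zpowers σ⟩ with hs
  set a : Sd ↥A G := SemidirectProduct.inr s with ha
  have hconj : ∀ (k : ℕ) (g : G), a ^ k * SemidirectProduct.inl g * (a ^ k)⁻¹ =
      SemidirectProduct.inl ((σ ^ k) g) := by
    intro k g
    rw [ha, ← map_pow, ← sd_inl_smul]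
    rfl
  have hconj1 : ∀ g : G, a * SemidirectProduct.inl g * a⁻¹ = SemidirectProduct.inl (σ g) := by
    intro g
    have := hconj 1 g
    rwa [pow_one, pow_one] at this
  have hinj : Function.Injective (SemidirectProduct.inl : G →* Sd ↥A G) :=
    SemidirectProduct.inl_injective
  have hGH : GH2 (Sd ↥A G) n (sdG ↥A G) a :=
    { hGn := inferInstance
      hΓs := hsolv
      han := by rw [ha, ← map_pow, hApow, map_one]
      hcop := by rw [card_sdG]; exact hcop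
      hf := by
        rintro _ ⟨g, rfl⟩ hc
        have h1 : a * SemidirectProduct.inl g * a⁻¹ = SemidirectProduct.inl g := by
          rw [hc, mul_inv_cancel_right]
        rw [hconj1] at h1
        have h3 : g = 1 := hfpf g (hinj h1)
        rw [h3, map_one] }
  exact ⟨Sd ↥A G, inferInstance, inferInstance, SemidirectProduct.inl, a, hinj, hGH, hconj⟩

namespace Br

variable {G Γ : Type*} [Group G] [Group Γ] {σ : MulAut G} {n : ℕ} {ι : G →* Γ} {a : Γ}

theorem conj1 (h : Br σ n ι a) (g : G) : a * ι g * a⁻¹ = ι (σ g) := by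
  have := h.conj 1 g
  rwa [pow_one, pow_one] at this

/-- pulling back a normal subgroup -/
theorem pull [Finite Γ] (h : Br σ n ι a) {N' : Subgroup Γ} (hN'G : N' ≤ ι.range)
    (hN'n : N'.Normal) :
    (N'.comap ι).Normal ∧ (∀ x ∈ N'.comap ι, σ x ∈ N'.comap ι) ∧
      (∀ g : G, g⁻¹ * σ g ∈ N'.comap ι → g ∈ N'.comap ι) := by
  refine ⟨hN'n.comap _, ?_, ?_⟩
  · intro x hx
    show ι (σ x) ∈ N'
    rw [← h.conj1]
    exact hN'n.conj_mem _ hx a
  · intro g hg
    have hx : (ι g)⁻¹ * (a * ι g * a⁻¹) ∈ N' := by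
      rw [h.conj1, ← map_inv, ← map_mul]
      exact hg
    have hcopN : (Nat.card N').Coprime (2 ^ (n + 1)) := by
      apply Nat.Coprime.pow_right
      exact (Nat.Coprime.coprime_dvd_right (Subgroup.card_dvd_of_le hN'G) h.gh.hcop).symm
    obtain ⟨n', hn', hc⟩ := lift_of_pow h.gh.han (fun l hl => hN'n.conj_mem l hl a) hcopN hx
    have h1 : ι g * n' = 1 :=
      h.gh.hf _ (ι.range.mul_mem ⟨g, rfl⟩ (hN'G hn')) hc
    have h2 : ι g = n'⁻¹ := eq_inv_of_mul_eq_one_left h1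
    show ι g ∈ N'
    rw [h2]
    exact N'.inv_mem hn'

theorem triv (h : Br σ n ι a) {N' : Subgroup Γ}
    (hb : ∀ g ∈ ι.range, ⁅a ^ (2 ^ n), g⁆ ∈ N') :
    ∀ g : G, (σ ^ (2 ^ n)) g * g⁻¹ ∈ N'.comap ι := by
  intro g
  show ι ((σ ^ (2 ^ n)) g * g⁻¹) ∈ N'
  have h1 := hb (ι g) ⟨g, rfl⟩
  rw [commutatorElement_def, h.conj, ← map_inv, ← map_mul] at h1
  exact h1

theorem lcs_le (h : Br σ n ι a) {N' N'' : Subgroup Γ} {k : ℕ}
    (hk : N'.lowerCentralSeries k ≤ N'') :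
    (N'.comap ι).lowerCentralSeries k ≤ N''.comap ι := by
  intro x hx
  have h1 : ι x ∈ ((N'.comap ι).lowerCentralSeries k).map ι := Subgroup.mem_map_of_mem _ hx
  rw [Subgroup.map_lowerCentralSeries] at h1
  exact hk (lcs_mono (Subgroup.map_comap_le _ _) k h1)

theorem lcs_bot (h : Br σ n ι a) {N' : Subgroup Γ} {k : ℕ}
    (hk : N'.lowerCentralSeries k = ⊥) : (N'.comap ι).lowerCentralSeries k = ⊥ := by
  rw [eq_bot_iff]
  intro x hx
  have h1 : x ∈ (⊥ : Subgroup Γ).comap ι := h.lcs_le (le_of_eq hk) hx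
  have h2 : ι x = 1 := h1
  rw [Subgroup.mem_bot]
  exact h.inj (by rw [h2, map_one])

end Br

/-! ### the steps -/

/-- the induced automorphism on a quotient by an invariant normal subgroup -/
theorem quot_aut {G : Type*} [Group G] [Finite G] (σ : MulAut G) (N₀ : Subgroup G) [N₀.Normal]
    (hinv : ∀ x ∈ N₀, σ x ∈ N₀) (m : ℕ) (htriv : ∀ g : G, (σ ^ m) g * g⁻¹ ∈ N₀)
    (hfq : ∀ g : G, g⁻¹ * σ g ∈ N₀ → g ∈ N₀) :
    ∃ τ : MulAut (G ⧸ N₀), τ ^ m = 1 ∧ ∀ x : G ⧸ N₀, τ x = x → x = 1 := by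
  have hmap : N₀.map (σ : G ≃* G).toMonoidHom = N₀ := by
    apply Subgroup.eq_of_le_of_card_ge
    · rintro _ ⟨x, hx, rfl⟩
      exact hinv x hx
    · apply le_of_eq
      exact (Nat.card_congr (N₀.equivMapOfInjective (σ : G ≃* G).toMonoidHom
        (σ : G ≃* G).injective).toEquiv)
  set τ : MulAut (G ⧸ N₀) := QuotientGroup.congr N₀ N₀ σ hmap with hτ
  have hτmk : ∀ g : G, τ (QuotientGroup.mk' N₀ g) = QuotientGroup.mk' N₀ (σ g) := by
    intro g
    rfl
  have hτpow : ∀ (k : ℕ) (g : G),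
      (τ ^ k) (QuotientGroup.mk' N₀ g) = QuotientGroup.mk' N₀ ((σ ^ k) g) := by
    intro k
    induction k with
    | zero => intro g; rfl
    | succ k ihk =>
      intro g
      rw [pow_succ', pow_succ', MulAut.mul_apply, MulAut.mul_apply, ihk, hτmk]
  refine ⟨τ, ?_, ?_⟩
  · ext x
    obtain ⟨g, rfl⟩ := QuotientGroup.mk'_surjective N₀ x
    rw [hτpow, MulAut.one_apply]
    have h1 := (QuotientGroup.eq_one_iff (N := N₀) _).mpr (htriv g)
    have h2 : QuotientGroup.mk' N₀ ((σ ^ m) g) * (QuotientGroup.mk' N₀ g)⁻¹ = 1 := by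
      rw [← map_inv, ← map_mul]
      exact h1
    exact mul_inv_eq_one.mp h2
  · intro x hx
    obtain ⟨g, rfl⟩ := QuotientGroup.mk'_surjective N₀ x
    rw [hτmk] at hx
    have h1 : g⁻¹ * σ g ∈ N₀ := by
      rw [← QuotientGroup.eq_one_iff]
      show QuotientGroup.mk' N₀ (g⁻¹ * σ g) = 1
      rw [map_mul, map_inv, hx, inv_mul_cancel]
    exact (QuotientGroup.eq_one_iff g).mpr (hfq g h1)

/-- **one step for order four**: a fixed-point-free automorphism `σ` with `σ ^ 4 = 1` of a finite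
solvable group has an invariant nilpotent normal subgroup `N₀` such that `σ ^ 2` is trivial
on `G / N₀` and `σ` is fixed-point-free on `G / N₀`. -/
theorem gross_step4 {G : Type u} [Group G] [Finite G]
    (hG : Group.IsSolvable G) (σ : MulAut G) (hσ : σ ^ (2 ^ (1 + 1)) = 1)
    (hfpf : ∀ g : G, σ g = g → g = 1) :
    ∃ N₀ : Subgroup G, N₀.Normal ∧ (∃ j, N₀.lowerCentralSeries j = ⊥) ∧
      (∀ x ∈ N₀, σ x ∈ N₀) ∧ (∀ g : G, (σ ^ (2 ^ 1)) g * g⁻¹ ∈ N₀) ∧
      (∀ g : G, g⁻¹ * σ g ∈ N₀ → g ∈ N₀) := by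
  obtain ⟨Γ, _, _, ι, a, hbr⟩ := exists_Br hG σ 1 hσ hfpf
  obtain ⟨N', hN'G, hN'n, ⟨k₁, hk₁⟩, hN'b⟩ := gross_internal4 _ Γ ι.range a hbr.gh rfl
  obtain ⟨h1, h2, h3⟩ := hbr.pull hN'G hN'n
  exact ⟨N'.comap ι, h1, ⟨k₁, hbr.lcs_bot hk₁⟩, h2, hbr.triv hN'b, h3⟩

/-- **one step for `p = 2`**: a fixed-point-free automorphism `σ` with `σ ^ (2 ^ (n + 1)) = 1`
of a finite solvable group has invariant normal subgroups `N₁ ≤ N₂` with `N₁`, `N₂ / N₁`
nilpotent such that `σ ^ (2 ^ n)` is trivial on `G / N₂` and `σ` is fixed-point-free on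
`G / N₂`. -/
theorem gross_step2 {G : Type u} [Group G] [Finite G]
    (hG : Group.IsSolvable G) (σ : MulAut G) (n : ℕ) (hσ : σ ^ (2 ^ (n + 1)) = 1)
    (hfpf : ∀ g : G, σ g = g → g = 1) :
    ∃ N₁ N₂ : Subgroup G, N₁ ≤ N₂ ∧ N₁.Normal ∧ N₂.Normal ∧
      (∃ j, N₁.lowerCentralSeries j = ⊥) ∧ (∃ j, N₂.lowerCentralSeries j ≤ N₁) ∧
      (∀ x ∈ N₂, σ x ∈ N₂) ∧ (∀ g : G, (σ ^ (2 ^ n)) g * g⁻¹ ∈ N₂) ∧
      (∀ g : G, g⁻¹ * σ g ∈ N₂ → g ∈ N₂) := by
  obtain ⟨Γ, _, _, ι, a, hbr⟩ := exists_Br hG σ n hσ hfpf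
  obtain ⟨N₁', N₂', h12, hN₂G, hN₁n, hN₂n, ⟨k₁, hk₁⟩, ⟨k₂, hk₂⟩, hN'b⟩ :=
    gross_internal2 _ Γ n ι.range a hbr.gh rfl
  obtain ⟨h1, -, -⟩ := hbr.pull (h12.trans hN₂G) hN₁n
  obtain ⟨h2, h3, h4⟩ := hbr.pull hN₂G hN₂n
  exact ⟨N₁'.comap ι, N₂'.comap ι, Subgroup.comap_mono h12, h1, h2, ⟨k₁, hbr.lcs_bot hk₁⟩,
    ⟨k₂, hbr.lcs_le hk₂⟩, h3, hbr.triv hN'b, h4⟩

/-- **Gross' theorem for `p = 2`**: a finite solvable group with a fixed-point-free automorphism
of order dividing `2 ^ n`, `n ≥ 2`, has Fitting height at most `2 n - 2`. -/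
theorem gross_outer2 : ∀ (n : ℕ), 2 ≤ n → ∀ (G : Type u) [Group G] [Finite G],
    Group.IsSolvable G → ∀ σ : MulAut G, σ ^ (2 ^ n) = 1 → (∀ g : G, σ g = g → g = 1) →
    NChainFrom (⊥ : Subgroup G) (2 * n - 2) := by
  intro n hn
  induction n, hn using Nat.le_induction with
  | base =>
    intro G _ _ hG σ hσ hfpf
    obtain ⟨N₀, hN₀n, ⟨j₀, hj₀⟩, hinv, htriv, hfq⟩ := gross_step4 hG σ hσ hfpf
    haveI := hN₀n
    obtain ⟨τ, hτ2, hτf⟩ := quot_aut σ N₀ hinv (2 ^ 1) htriv hfq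
    have hinvol : Function.Involutive τ := by
      intro x
      have h1 : (τ ^ (2 ^ 1)) x = x := by rw [hτ2]; rfl
      rw [pow_one, pow_two, MulAut.mul_apply] at h1
      exact h1
    have hfp : MonoidHom.FixedPointFree (τ : G ⧸ N₀ → G ⧸ N₀) := hτf
    have hcomm : ∀ x y : G ⧸ N₀, x * y = y * x := fun x y =>
      (MonoidHom.FixedPointFree.commute_all_of_involutive (φ := τ) hfp hinvol x y).eq
    have hder : (⊤ : Subgroup G).lowerCentralSeries 1 ≤ N₀ := by
      rw [Subgroup.lowerCentralSeries_succ, Subgroup.commutator_le]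
      intro x _ y _
      rw [← QuotientGroup.eq_one_iff]
      show QuotientGroup.mk' N₀ ⁅x, y⁆ = 1
      rw [map_commutatorElement, commutatorElement_eq_one_iff_mul_comm]
      exact hcomm _ _
    have e : 2 * 2 - 2 = 0 + 1 + 1 := by norm_num
    rw [e]
    exact NChainFrom.cons inferInstance bot_le j₀ (hj₀ ▸ le_rfl)
      (NChainFrom.cons hN₀n le_top 1 hder NChainFrom.top)
  | succ n hn ih =>
    intro G _ _ hG σ hσ hfpf
    obtain ⟨N₁, N₂, h12, hN₁n, hN₂n, ⟨j₁, hj₁⟩, ⟨j₂, hj₂⟩, hinv, htriv, hfq⟩ :=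
      gross_step2 hG σ n hσ hfpf
    haveI := hN₂n
    obtain ⟨τ, hτn, hτf⟩ := quot_aut σ N₂ hinv (2 ^ n) htriv hfq
    have hGq : Group.IsSolvable (G ⧸ N₂) := inferInstance
    have hch := ih (G ⧸ N₂) hGq τ hτn hτf
    have e : 2 * (n + 1) - 2 = 2 * n - 2 + 1 + 1 := by omega
    rw [e]
    exact NChainFrom.cons inferInstance bot_le j₁ (hj₁ ▸ le_rfl)
      (NChainFrom.cons hN₁n h12 j₂ hj₂ (NChainFrom.comap_mk N₂ hch))

end Cfsg.Agent.Lib.Helper23.SG
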