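import Mathlib
import Cfsg.Agent.Lib.Helper18.SimsQ

set_option autoImplicit false

namespace Cfsg.Agent.Lib.Helper23.SIMS3CENT

open Cfsg

variable {G : Type*} [Group G]

/-- LEAF CENT (the hypothesis `C_A(O₂(A)) ≤ O₂(A)` in ambient form). -/
theorem centralizer_pCore_ambient (A : Subgroup G)
    (hchar : Subgroup.centralizer (Cfsg.pCore 2 ↥A : Set ↥A) ≤ Cfsg.pCore 2 ↥A) :
    ∀ y ∈ A, (∀ k ∈ (Cfsg.pCore 2 ↥A).map A.subtype, y * k = k * y) →
      y ∈ (Cfsg.pCore 2 ↥A).map A.subtype := by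
  intro y hy hk
  have hmem : (⟨y, hy⟩ : ↥A) ∈ Subgroup.centralizer (Cfsg.pCore 2 ↥A : Set ↥A) := by
    rw [Subgroup.mem_centralizer_iff]
    intro k hk'
    have h1 : y * (k : G) = (k : G) * y := hk (k : G) ⟨k, hk', rfl⟩
    apply Subtype.ext
    simpa using h1.symm
  exact ⟨⟨y, hy⟩, hchar hmem, rfl⟩

end Cfsg.Agent.Lib.Helper23.SIMS3CENT
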