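import Mathlib
import Cfsg.Prelude.Def_ClassicalGeometry
import Cfsg.Prelude.Def_GeometricClasses
import Cfsg.Agent.Lib.Helper2.SOTDefs
import Cfsg.Agent.Lib.Helper2.SOTGDefs
import Cfsg.Agent.Lib.Helper23.SOTGTM

/-!
S5666 part (GA) (helper2's market), leaf X2 `exists_x0`, CORE: the `p`-group facts (X1e, X1f, X1g of helper9) enter as
hypotheses.  `L_x = ⟨X_x, g X_{x'} g⁻¹⟩` meets the coset `g·KG`.
-/

set_option autoImplicit false
set_option linter.unusedSectionVars false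
set_option linter.unusedVariables false

namespace Cfsg.Agent.Lib.Helper23.SOTLeaf
open Matrix Module
open Cfsg.Agent.Lib.Helper25.Tens Cfsg.Agent.Lib.Helper25.SpT Cfsg.Agent.Lib.Helper19.OSub
open Cfsg.Agent.Lib.Helper2.SOT
open scoped Kronecker

variable {F : Type*} [Field F] [Fintype F] {a b : ℕ} {G : Matrix (Fin b) (Fin b) F}
  {M : Subgroup (GL (Idx a b) F)}

/-- (X2) core: (GT) applied with `H = KG`, `P = XA x`, `P' = XAc g x'` -/
theorem exists_x0_core (h : MCtx a b G M) (h2 : L2 M) (p : ℕ) [Fact p.Prime]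
    (hkS : ∀ (x : Fin a → F) (c : F), (kA x c : GL (Idx a b) F) ∈ SpV G)
    (hXA : ∀ x : Fin a → F, IsPGroup p (XA x : Subgroup (GL (Idx a b) F)))
    (hXAc : ∀ (g : GL (Idx a b) F) (x' : Fin a → F),
      IsPGroup p (XAc g x' : Subgroup (GL (Idx a b) F)))
    (x x' : Fin a → F) (hx : x ≠ 0) (hx' : x' ≠ 0)
    (g : GL (Idx a b) F) (hg : g ∈ M) :
    ∃ x₀ ∈ Lx x g x', g⁻¹ * x₀ ∈ KG a b F := by
  have hkM : ∀ (x : Fin a → F) (c : F), (kA x c : GL (Idx a b) F) ∈ M :=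
    fun x c => h.le ⟨kA_mem_KG x c, hkS x c⟩
  have hPM : (XA x : Subgroup (GL (Idx a b) F)) ≤ M := by
    unfold XA
    rw [Subgroup.closure_le]
    rintro t ⟨c, rfl⟩
    exact hkM x c
  have hP'M : (XAc g x' : Subgroup (GL (Idx a b) F)) ≤ M := by
    unfold XAc
    rw [Subgroup.closure_le]
    rintro t ⟨c, rfl⟩
    exact M.mul_mem (M.mul_mem hg (hkM x' c)) (M.inv_mem hg)
  have hPH : (XA x : Subgroup (GL (Idx a b) F)) ≤ KG a b F := by
    unfold XA
    rw [Subgroup.closure_le]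
    rintro t ⟨c, rfl⟩
    exact kA_mem_KG x c
  unfold Lx
  apply Cfsg.Agent.Lib.Helper23.SOTLeafM.exists_mem_sup_coset p M (KG a b F) (XA x) (XAc g x') g hg
    hPM hP'M (hXA x) (hXAc g x') hPH
  · intro m hm hfix
    apply h2 x hx m hm
    intro c
    apply hfix
    unfold XA
    exact Subgroup.subset_closure ⟨c, rfl⟩
  · intro m hm hfix
    apply h2 x' hx' (g⁻¹ * m) (M.mul_mem (M.inv_mem hg) hm)
    intro c
    have h3 : (g⁻¹ * m)⁻¹ * (kA x' c : GL (Idx a b) F) * (g⁻¹ * m) =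
        m⁻¹ * (g * (kA x' c : GL (Idx a b) F) * g⁻¹) * m := by group
    rw [h3]
    apply hfix
    unfold XAc
    exact Subgroup.subset_closure ⟨c, rfl⟩

end Cfsg.Agent.Lib.Helper23.SOTLeaf
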