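import Mathlib

/-!
helper23, SUnMax n = 3 (E4a / E4b normalisation), part A: over a finite field `K` of odd order every non-degenerate symmetric
`3 × 3` matrix `G` is similar to a scalar matrix: `Bᵀ G B = c • 1` with `B` invertible, `c ≠ 0`.
-/

set_option autoImplicit false
set_option linter.unusedSectionVars false
set_option linter.unusedVariables false

namespace Cfsg.Agent.Lib.Helper23.SU3Norm
open Matrix Polynomial

variable {K : Type*} [Field K]

/-- a binary diagonal form over a finite field of odd order is universal -/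
theorem binary_universal [Fintype K] (hodd : Fintype.card K % 2 = 1) {a b : K} (ha : a ≠ 0) (hb : b ≠ 0) (c : K) :
    ∃ x y : K, a * x ^ 2 + b * y ^ 2 = c := by
  have hf : (C a * X ^ 2 - C c : K[X]).degree = 2 := by
    rw [degree_sub_C (by rw [degree_C_mul_X_pow 2 ha]; norm_num), degree_C_mul_X_pow 2 ha]
    rfl
  have hg : (C b * X ^ 2 : K[X]).degree = 2 := by
    rw [degree_C_mul_X_pow 2 hb]
    rfl
  obtain ⟨x, y, hxy⟩ := FiniteField.exists_root_sum_quadratic hf hg hodd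
  refine ⟨x, y, ?_⟩
  simp only [eval_sub, eval_mul, eval_C, eval_pow, eval_X] at hxy
  linear_combination hxy

/-- an orthogonal basis, in matrix form -/
theorem exists_diag3 (h2 : (2 : K) ≠ 0) {G : Matrix (Fin 3) (Fin 3) K} (hG : Gᵀ = G) (hdet : G.det ≠ 0) :
    ∃ (B : Matrix (Fin 3) (Fin 3) K) (d : Fin 3 → K), (∀ i, d i ≠ 0) ∧ Bᵀ * G * B = Matrix.diagonal d := by
  have : Invertible (2 : K) := invertibleOfNonzero h2
  set Bf : LinearMap.BilinForm K (Fin 3 → K) := Matrix.toBilin' G with hBf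
  have hsymm : LinearMap.IsSymm Bf := by
    refine ⟨fun u v => ?_⟩
    simp only [RingHom.id_apply]
    rw [hBf, Matrix.toBilin'_apply', Matrix.toBilin'_apply', Matrix.dotProduct_mulVec, ← Matrix.vecMul_transpose,
      hG, dotProduct_comm]
  obtain ⟨v, hv⟩ := LinearMap.BilinForm.exists_orthogonal_basis hsymm
  have hnd : Bf.Nondegenerate := Matrix.nondegenerate_toBilin'_iff.mpr (Matrix.nondegenerate_of_det_ne_zero hdet)
  have hsep : Bf.SeparatingLeft := hnd.1
  have hne := fun i => hv.not_isOrtho_basis_self_of_separatingLeft hsep i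
  have hcard : Module.finrank K (Fin 3 → K) = 3 := Module.finrank_fin_fun K
  let w : Module.Basis (Fin 3) K (Fin 3 → K) := v.reindex (finCongr hcard)
  have hw : ∀ i j : Fin 3, i ≠ j → Bf (w i) (w j) = 0 := by
    intro i j hij
    simp only [w, Module.Basis.reindex_apply]
    apply hv
    intro h
    exact hij ((finCongr hcard).symm.injective h)
  have hwne : ∀ i : Fin 3, Bf (w i) (w i) ≠ 0 := by
    intro i
    simp only [w, Module.Basis.reindex_apply]
    exact hne _
  refine ⟨(Pi.basisFun K (Fin 3)).toMatrix w, fun i => Bf (w i) (w i), hwne, ?_⟩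
  have h1 := LinearMap.BilinForm.toMatrix_mul_basis_toMatrix (Pi.basisFun K (Fin 3)) w Bf
  have h3 : LinearMap.BilinForm.toMatrix (Pi.basisFun K (Fin 3)) Bf = G := by
    rw [LinearMap.BilinForm.toMatrix_basisFun, hBf, LinearMap.BilinForm.toMatrix'_toBilin']
  rw [h3] at h1
  rw [h1]
  ext i j
  rw [LinearMap.BilinForm.toMatrix_apply, Matrix.diagonal_apply]
  split_ifs with hij
  · rw [hij]
  · exact hw i j hij

/-- the explicit change of basis making `diag(d₀, d₁, d₂)` scalar -/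
theorem diag_to_scalar (d : Fin 3 → K) (T : Matrix (Fin 3) (Fin 3) K) {x y z w c : K}
    (h1 : d 0 * x ^ 2 + d 1 * y ^ 2 = c) (h2 : d 0 * d 1 * c * z ^ 2 + d 2 * w ^ 2 = c) (hc : d 0 * d 1 * d 2 * c = 1)
    (t00 : T 0 0 = x) (t01 : T 0 1 = -(d 1 * y * z)) (t02 : T 0 2 = d 1 * d 2 * w * y)
    (t10 : T 1 0 = y) (t11 : T 1 1 = d 0 * x * z) (t12 : T 1 2 = -(d 0 * d 2 * w * x))
    (t20 : T 2 0 = 0) (t21 : T 2 1 = w) (t22 : T 2 2 = d 0 * d 1 * c * z) :
    Tᵀ * Matrix.diagonal d * T = c • (1 : Matrix (Fin 3) (Fin 3) K) := by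
  ext i j
  simp only [Matrix.mul_apply, Matrix.transpose_apply, Matrix.diagonal_apply, Fin.sum_univ_three, Matrix.smul_apply,
    Matrix.one_apply, smul_eq_mul]
  fin_cases i <;> fin_cases j <;>
    simp only [Fin.zero_eta, Fin.mk_one, Fin.reduceFinMk, Fin.isValue, Fin.reduceEq, ↓reduceIte, t00, t01, t02, t10,
      t11, t12, t20, t21, t22]
  · linear_combination h1
  · ring
  · ring
  · ring
  · linear_combination (d 0 * d 1 * z ^ 2) * h1 + h2
  · linear_combination (-(d 0 * d 1 * d 2 * z * w)) * h1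
  · ring
  · linear_combination (-(d 0 * d 1 * d 2 * z * w)) * h1
  · linear_combination (d 0 * d 1 * d 2 ^ 2 * w ^ 2) * h1 + (d 2 * w ^ 2 + d 0 * d 1 * c * z ^ 2) * hc + h2

/-- over a finite field of odd order a non-degenerate symmetric `3 × 3` matrix is similar to a scalar matrix -/
theorem exists_similar_scalar [Fintype K] (hodd : Fintype.card K % 2 = 1) {G : Matrix (Fin 3) (Fin 3) K}
    (hG : Gᵀ = G) (hdet : G.det ≠ 0) :
    ∃ (B : Matrix (Fin 3) (Fin 3) K) (c : K), c ≠ 0 ∧ B.det ≠ 0 ∧ Bᵀ * G * B = c • (1 : Matrix (Fin 3) (Fin 3) K) := by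
  have h2 : (2 : K) ≠ 0 := by
    apply Ring.two_ne_zero
    intro h
    have := FiniteField.even_card_iff_char_two.mp h
    omega
  obtain ⟨B₁, d, hd, hB₁⟩ := exists_diag3 h2 hG hdet
  have hprod : d 0 * d 1 * d 2 ≠ 0 := mul_ne_zero (mul_ne_zero (hd 0) (hd 1)) (hd 2)
  set c : K := (d 0 * d 1 * d 2)⁻¹ with hcdef
  have hc0 : c ≠ 0 := inv_ne_zero hprod
  have hc : d 0 * d 1 * d 2 * c = 1 := mul_inv_cancel₀ hprod
  obtain ⟨x, y, h1⟩ := binary_universal hodd (hd 0) (hd 1) c
  obtain ⟨z, w, h2'⟩ := binary_universal hodd (mul_ne_zero (mul_ne_zero (hd 0) (hd 1)) hc0) (hd 2) c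
  set T : Matrix (Fin 3) (Fin 3) K :=
    !![x, -(d 1 * y * z), d 1 * d 2 * w * y; y, d 0 * x * z, -(d 0 * d 2 * w * x); 0, w, d 0 * d 1 * c * z] with hTdef
  have hT : Tᵀ * Matrix.diagonal d * T = c • (1 : Matrix (Fin 3) (Fin 3) K) :=
    diag_to_scalar d T h1 h2' hc rfl rfl rfl rfl rfl rfl rfl rfl rfl
  have hmain : (B₁ * T)ᵀ * G * (B₁ * T) = c • (1 : Matrix (Fin 3) (Fin 3) K) := by
    rw [Matrix.transpose_mul, ← hT, ← hB₁]
    simp only [Matrix.mul_assoc]
  refine ⟨B₁ * T, c, hc0, ?_, hmain⟩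
  intro h0
  have hdd := congrArg Matrix.det hmain
  rw [Matrix.det_mul, Matrix.det_mul, Matrix.det_transpose, h0, zero_mul, zero_mul, Matrix.det_smul, Matrix.det_one,
    mul_one, Fintype.card_fin] at hdd
  exact pow_ne_zero 3 hc0 hdd.symm

end Cfsg.Agent.Lib.Helper23.SU3Norm
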