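import Mathlib
import Cfsg.Agent.Lib.Helper4.SUMDefs
import Cfsg.Agent.Lib.Helper4.SUMT
import Cfsg.Agent.Lib.Helper23.SU3NormA

/-!
helper23, SUnMax n = 3 (E4a / E4b): normalisation of an index-two form-rational structure `(F₀, P)` (with `ζ = 1`) of the
hermitian form of `F^3`, `|F| = q²`, `q` odd, to the standard one `P = 1`:
`not_max_of_std : ¬ IsMaximalIn SU (subfieldSubgroup F₀ 1 ⊓ SU) → ¬ IsMaximalIn SU (subfieldSubgroup F₀ P ⊓ SU)`.
-/

set_option autoImplicit false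
set_option linter.unusedSectionVars false
set_option linter.unusedVariables false

namespace Cfsg.Agent.Lib.Helper23.SU3Norm
open Matrix Cfsg.Geo Cfsg.Agent.Lib.Helper4.SUM Cfsg.Agent.Lib.Helper5.HermBridge

/-! ### group theory -/

/-- `IsMaximalIn` is reflected by a group isomorphism -/
theorem isMaxIn_of_map {G G' : Type*} [Group G] [Group G'] (φ : G ≃* G') {K H : Subgroup G}
    (h : IsMaximalIn (K.map φ.toMonoidHom) (H.map φ.toMonoidHom)) : IsMaximalIn K H := by
  obtain ⟨hlt, hmax⟩ := h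
  have hinj : Function.Injective φ.toMonoidHom := φ.injective
  refine ⟨(Subgroup.map_lt_map_iff_of_injective hinj).mp hlt, fun M hHM hMK => ?_⟩
  rcases hmax (M.map φ.toMonoidHom) (Subgroup.map_mono hHM) (Subgroup.map_mono hMK) with e | e
  · left; exact Subgroup.map_injective hinj e
  · right; exact Subgroup.map_injective hinj e

/-- conjugation by an element of a subgroup maps it onto itself -/
theorem map_conj_of_mem {G : Type*} [Group G] (N : Subgroup G) {b : G} (hb : b ∈ N) :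
    N.map (MulAut.conj b).toMonoidHom = N := by
  ext x
  constructor
  · rintro ⟨y, hy, rfl⟩
    show (MulAut.conj b) y ∈ N
    rw [MulAut.conj_apply]
    exact N.mul_mem (N.mul_mem hb hy) (N.inv_mem hb)
  · intro hx
    refine ⟨b⁻¹ * x * b, N.mul_mem (N.mul_mem (N.inv_mem hb) hx) hb, ?_⟩
    show (MulAut.conj b) (b⁻¹ * x * b) = x
    rw [MulAut.conj_apply]
    group

variable {F : Type*} [Field F] {n q : ℕ}

/-- multiplying `P` on the right by an element of `GL_n(F₀) F^*` does not change the subfield group -/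
theorem subfieldSubgroup_mul (F₀ : Subfield F) (P b : GL (Fin n) F)
    (hb : b ∈ (Matrix.GeneralLinearGroup.map (F₀.subtype : F₀ →+* F)).range ⊔ scalars (Fin n) F) :
    subfieldSubgroup F₀ (P * b) = subfieldSubgroup F₀ P := by
  unfold subfieldSubgroup
  have h1 : (MulAut.conj (P * b)).toMonoidHom =
      (MulAut.conj P).toMonoidHom.comp (MulAut.conj b).toMonoidHom := by
    ext g : 1
    show (MulAut.conj (P * b)) g = (MulAut.conj P) ((MulAut.conj b) g)
    rw [map_mul]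
    rfl
  rw [h1, ← Subgroup.map_map, map_conj_of_mem _ hb]

/-- the subfield group of `P` is the conjugate by `P` of the standard one -/
theorem subfieldSubgroup_eq_map (F₀ : Subfield F) (P : GL (Fin n) F) :
    subfieldSubgroup F₀ P = (subfieldSubgroup F₀ (1 : GL (Fin n) F)).map (MulAut.conj P).toMonoidHom := by
  unfold subfieldSubgroup
  have h1 : (MulAut.conj (1 : GL (Fin n) F)).toMonoidHom = MonoidHom.id _ := by
    ext g
    simp
  rw [h1, Subgroup.map_id]

/-! ### the hermitian form in a basis -/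

variable [Fintype F]

lemma herm_eq_dot (hF : Fintype.card F = q ^ 2) (x y : Fin n → F) :
    Cfsg.hermForm n F q x y = x ⬝ᵥ (fun i => frobQ hF (y i)) := rfl

lemma frob_mulVec (hF : Fintype.card F = q ^ 2) (A : Matrix (Fin n) (Fin n) F) (v : Fin n → F) :
    (fun i => frobQ hF ((A *ᵥ v) i)) = (A.map (frobQ hF)) *ᵥ (fun i => frobQ hF (v i)) := by
  funext i
  simp only [Matrix.mulVec, dotProduct, map_sum, map_mul, Matrix.map_apply]

/-- the hermitian form in the basis of the columns of `A` -/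
lemma herm_mulVec (hF : Fintype.card F = q ^ 2) (A : Matrix (Fin n) (Fin n) F) (u v : Fin n → F) :
    Cfsg.hermForm n F q (A *ᵥ u) (A *ᵥ v) =
      u ⬝ᵥ ((Aᵀ * A.map (frobQ hF)) *ᵥ (fun i => frobQ hF (v i))) := by
  rw [herm_eq_dot hF, frob_mulVec, ← Matrix.vecMul_transpose, ← Matrix.dotProduct_mulVec, Matrix.mulVec_mulVec]

/-- a matrix with scalar Gram matrix is a similitude -/
lemma herm_of_gram_scalar (hF : Fintype.card F = q ^ 2) (A : Matrix (Fin n) (Fin n) F) (c : F)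
    (hA : Aᵀ * A.map (frobQ hF) = c • (1 : Matrix (Fin n) (Fin n) F)) (u v : Fin n → F) :
    Cfsg.hermForm n F q (A *ᵥ u) (A *ᵥ v) = c * Cfsg.hermForm n F q u v := by
  rw [herm_mulVec hF, hA, Matrix.smul_mulVec, Matrix.one_mulVec, dotProduct_smul, smul_eq_mul, herm_eq_dot hF]

/-- conjugation by a similitude preserves `SU` -/
lemma conj_mem_SUg {Q : GL (Fin n) F} {c : F}
    (hQ : ∀ u v, Cfsg.hermForm n F q ((Q : Matrix (Fin n) (Fin n) F) *ᵥ u) ((Q : Matrix (Fin n) (Fin n) F) *ᵥ v) =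
      c * Cfsg.hermForm n F q u v) {g : GL (Fin n) F} (hg : g ∈ SUg n F q) : Q * g * Q⁻¹ ∈ SUg n F q := by
  rw [Cfsg.Agent.Lib.Helper4.SUMLeaf.mem_SUg_iff] at hg ⊢
  obtain ⟨hg1, hg2⟩ := hg
  constructor
  · intro x y
    have e : ∀ z : Fin n → F, ((Q * g * Q⁻¹ : GL (Fin n) F) : Matrix (Fin n) (Fin n) F) *ᵥ z =
        (Q : Matrix (Fin n) (Fin n) F) *ᵥ ((g : Matrix (Fin n) (Fin n) F) *ᵥ
          (((Q⁻¹ : GL (Fin n) F) : Matrix (Fin n) (Fin n) F) *ᵥ z)) := by
      intro z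
      rw [Units.val_mul, Units.val_mul, Matrix.mulVec_mulVec, Matrix.mulVec_mulVec, Matrix.mul_assoc]
    have e2 : ∀ z : Fin n → F, (Q : Matrix (Fin n) (Fin n) F) *ᵥ
        (((Q⁻¹ : GL (Fin n) F) : Matrix (Fin n) (Fin n) F) *ᵥ z) = z := by
      intro z
      rw [Matrix.mulVec_mulVec, ← Units.val_mul, mul_inv_cancel, Units.val_one, Matrix.one_mulVec]
    rw [e, e, hQ, hg1, ← hQ, e2, e2]
  · rw [Units.val_mul, Units.val_mul, Matrix.det_units_conj, hg2]

/-- conjugation by a similitude maps `SU` onto itself -/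
lemma map_conj_SUg {Q : GL (Fin n) F} {c : F} (hc : c ≠ 0)
    (hQ : ∀ u v, Cfsg.hermForm n F q ((Q : Matrix (Fin n) (Fin n) F) *ᵥ u) ((Q : Matrix (Fin n) (Fin n) F) *ᵥ v) =
      c * Cfsg.hermForm n F q u v) : (SUg n F q).map (MulAut.conj Q).toMonoidHom = SUg n F q := by
  have hQi : ∀ u v, Cfsg.hermForm n F q (((Q⁻¹ : GL (Fin n) F) : Matrix (Fin n) (Fin n) F) *ᵥ u)
      (((Q⁻¹ : GL (Fin n) F) : Matrix (Fin n) (Fin n) F) *ᵥ v) = c⁻¹ * Cfsg.hermForm n F q u v := by
    intro u v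
    have e2 : ∀ z : Fin n → F, (Q : Matrix (Fin n) (Fin n) F) *ᵥ
        (((Q⁻¹ : GL (Fin n) F) : Matrix (Fin n) (Fin n) F) *ᵥ z) = z := by
      intro z
      rw [Matrix.mulVec_mulVec, ← Units.val_mul, mul_inv_cancel, Units.val_one, Matrix.one_mulVec]
    have := hQ (((Q⁻¹ : GL (Fin n) F) : Matrix (Fin n) (Fin n) F) *ᵥ u)
      (((Q⁻¹ : GL (Fin n) F) : Matrix (Fin n) (Fin n) F) *ᵥ v)
    rw [e2, e2] at this
    rw [this, ← mul_assoc, inv_mul_cancel₀ hc, one_mul]
  ext x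
  constructor
  · rintro ⟨y, hy, rfl⟩
    show (MulAut.conj Q) y ∈ SUg n F q
    rw [MulAut.conj_apply]
    exact conj_mem_SUg hQ hy
  · intro hx
    refine ⟨Q⁻¹ * x * Q, ?_, ?_⟩
    · have := conj_mem_SUg hQi hx
      rwa [inv_inv] at this
    · show (MulAut.conj Q) (Q⁻¹ * x * Q) = x
      rw [MulAut.conj_apply]
      group

/-! ### the normalisation -/

/-- the Gram matrix of the columns of `P` -/
lemma gram_apply (hF : Fintype.card F = q ^ 2) (A : Matrix (Fin n) (Fin n) F) (i j : Fin n) :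
    (Aᵀ * A.map (frobQ hF)) i j =
      Cfsg.hermForm n F q (A *ᵥ Pi.single i 1) (A *ᵥ Pi.single j 1) := by
  rw [herm_mulVec hF]
  have e : (fun k => frobQ hF ((Pi.single j (1 : F) : Fin n → F) k)) = Pi.single j 1 := by
    funext k
    by_cases hk : k = j
    · subst hk
      simp only [Pi.single_eq_same, map_one]
    · simp only [Pi.single_eq_of_ne hk, map_zero]
  rw [e, Matrix.mulVec_single_one, single_one_dotProduct, Matrix.col_apply]

/-- the Gram matrix is hermitian -/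
lemma gram_conj (hF : Fintype.card F = q ^ 2) (A : Matrix (Fin n) (Fin n) F) (i j : Fin n) :
    frobQ hF ((Aᵀ * A.map (frobQ hF)) j i) = (Aᵀ * A.map (frobQ hF)) i j := by
  simp only [Matrix.mul_apply, Matrix.transpose_apply, Matrix.map_apply, map_sum, map_mul]
  refine Finset.sum_congr rfl fun k _ => ?_
  simp only [frobQ_apply]
  rw [pow_q_pow_q hF, mul_comm]

/-- the normalising change of basis: `P b` is a similitude for some `b ∈ GL_3(F₀)` -/
theorem exists_similitude (hq : Odd q) (hF : Fintype.card F = q ^ 2) (F₀ : Subfield F) (P : GL (Fin 3) F)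
    (hcard : Fintype.card F = Nat.card F₀ ^ 2) (hP : IsFormRationalStructure (Cfsg.hermForm 3 F q) F₀ 1 P) :
    ∃ (b : GL (Fin 3) F) (c : F), b ∈ (Matrix.GeneralLinearGroup.map (F₀.subtype : F₀ →+* F)).range ∧ c ≠ 0 ∧
      ∀ u v, Cfsg.hermForm 3 F q (((P * b : GL (Fin 3) F) : Matrix (Fin 3) (Fin 3) F) *ᵥ u)
        (((P * b : GL (Fin 3) F) : Matrix (Fin 3) (Fin 3) F) *ᵥ v) = c * Cfsg.hermForm 3 F q u v := by
  classical
  have : Fintype F₀ := Fintype.ofFinite F₀
  have hq0 : Nat.card F₀ = q := by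
    have : Nat.card F₀ ^ 2 = q ^ 2 := by rw [← hcard, hF]
    exact Nat.pow_left_injective (n := 2) (by norm_num) this
  have hcardK : Fintype.card F₀ = q := by rw [← Nat.card_eq_fintype_card, hq0]
  have hfix : ∀ x : F, x ∈ F₀ → x ^ q = x := by
    intro x hx
    have h := FiniteField.pow_card (⟨x, hx⟩ : F₀)
    rw [hcardK] at h
    exact congrArg Subtype.val h
  have hoddK : Fintype.card F₀ % 2 = 1 := by
    rw [hcardK]
    exact Nat.odd_iff.mp hq
  set Pm : Matrix (Fin 3) (Fin 3) F := (P : Matrix (Fin 3) (Fin 3) F) with hPm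
  set Gm : Matrix (Fin 3) (Fin 3) F := Pmᵀ * Pm.map (frobQ hF) with hGm
  have hGmem : ∀ i j, Gm i j ∈ F₀ := by
    intro i j
    rw [hGm, gram_apply hF]
    have := hP (Pi.single i 1) (Pi.single j 1)
      (fun k => by rw [Pi.single_apply]; split_ifs; exacts [F₀.one_mem, F₀.zero_mem])
      (fun k => by rw [Pi.single_apply]; split_ifs; exacts [F₀.one_mem, F₀.zero_mem])
    rwa [one_mul] at this
  let G₀ : Matrix (Fin 3) (Fin 3) F₀ := fun i j => ⟨Gm i j, hGmem i j⟩
  have hG₀map : G₀.map (F₀.subtype : F₀ →+* F) = Gm := by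
    ext i j
    rfl
  have hG₀symm : G₀ᵀ = G₀ := by
    ext i j
    show Gm j i = Gm i j
    have h := gram_conj hF Pm i j
    rw [← hGm, frobQ_apply, hfix _ (hGmem j i)] at h
    exact h
  have hdetP : Pm.det ≠ 0 := by
    have := (Matrix.isUnit_iff_isUnit_det _).mp P.isUnit
    exact this.ne_zero
  have hdetGm : Gm.det ≠ 0 := by
    have hmap : (Pm.map (frobQ hF)).det = frobQ hF Pm.det := by
      have := (RingHom.map_det ((frobQ hF : F ≃+* F) : F →+* F) Pm).symm
      exact this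
    rw [hGm, Matrix.det_mul, Matrix.det_transpose, hmap]
    exact mul_ne_zero hdetP ((map_ne_zero (frobQ hF)).mpr hdetP)
  have hdet₀ : G₀.det ≠ 0 := by
    intro h0
    apply hdetGm
    rw [← hG₀map]
    have := (RingHom.map_det (F₀.subtype : F₀ →+* F) G₀).symm
    rw [RingHom.mapMatrix_apply] at this
    rw [this, h0, map_zero]
  obtain ⟨B₀, c₀, hc₀, hB₀det, hB₀⟩ := exists_similar_scalar hoddK hG₀symm hdet₀
  let b₀ : GL (Fin 3) F₀ := Matrix.GeneralLinearGroup.mkOfDetNeZero B₀ hB₀det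
  let b : GL (Fin 3) F := Matrix.GeneralLinearGroup.map (F₀.subtype : F₀ →+* F) b₀
  have hbcoe : (b : Matrix (Fin 3) (Fin 3) F) = B₀.map (F₀.subtype : F₀ →+* F) := rfl
  set Bm : Matrix (Fin 3) (Fin 3) F := B₀.map (F₀.subtype : F₀ →+* F) with hBm
  have hBfix : Bm.map (frobQ hF) = Bm := by
    ext i j
    rw [Matrix.map_apply, frobQ_apply]
    exact hfix _ (B₀ i j).2
  have hc0 : ((c₀ : F₀) : F) ≠ 0 := by
    intro h
    exact hc₀ (Subtype.ext h)
  refine ⟨b, (c₀ : F), ⟨b₀, rfl⟩, hc0, ?_⟩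
  have hgram : (Pm * Bm)ᵀ * (Pm * Bm).map (frobQ hF) = ((c₀ : F₀) : F) • (1 : Matrix (Fin 3) (Fin 3) F) := by
    rw [Matrix.map_mul, hBfix, Matrix.transpose_mul]
    have e1 : Bmᵀ * Pmᵀ * (Pm.map (frobQ hF) * Bm) = Bmᵀ * Gm * Bm := by
      rw [hGm]
      simp only [Matrix.mul_assoc]
    rw [e1, ← hG₀map, hBm]
    have e2 : (B₀.map (F₀.subtype : F₀ →+* F))ᵀ * G₀.map (F₀.subtype : F₀ →+* F) * B₀.map (F₀.subtype : F₀ →+* F) =
        (B₀ᵀ * G₀ * B₀).map (F₀.subtype : F₀ →+* F) := by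
      rw [Matrix.map_mul, Matrix.map_mul, Matrix.transpose_map]
    rw [e2, hB₀]
    ext i j
    rw [Matrix.map_apply, Matrix.smul_apply, Matrix.smul_apply, Matrix.one_apply, Matrix.one_apply]
    split_ifs
    · simp
    · simp
  intro u v
  have hcoe : ((P * b : GL (Fin 3) F) : Matrix (Fin 3) (Fin 3) F) = Pm * Bm := by
    rw [Units.val_mul, hbcoe]
  rw [hcoe]
  exact herm_of_gram_scalar hF (Pm * Bm) _ hgram u v

/-- **the normalisation**: non-maximality for the standard `F₀`-structure gives it for every form-rational one -/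
theorem not_max_of_std (hq : Odd q) (hF : Fintype.card F = q ^ 2) (F₀ : Subfield F) (P : GL (Fin 3) F)
    (hcard : Fintype.card F = Nat.card F₀ ^ 2) (hP : IsFormRationalStructure (Cfsg.hermForm 3 F q) F₀ 1 P)
    (h1 : ¬ IsMaximalIn (SUg 3 F q) (subfieldSubgroup F₀ (1 : GL (Fin 3) F) ⊓ SUg 3 F q)) :
    ¬ IsMaximalIn (SUg 3 F q) (subfieldSubgroup F₀ P ⊓ SUg 3 F q) := by
  obtain ⟨b, c, hb, hc, hQ⟩ := exists_similitude hq hF F₀ P hcard hP
  intro hmax
  apply h1
  apply isMaxIn_of_map (MulAut.conj (P * b))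
  have e1 : (SUg 3 F q).map (MulAut.conj (P * b)).toMonoidHom = SUg 3 F q := map_conj_SUg hc hQ
  have e2 : (subfieldSubgroup F₀ (1 : GL (Fin 3) F) ⊓ SUg 3 F q).map (MulAut.conj (P * b)).toMonoidHom =
      subfieldSubgroup F₀ P ⊓ SUg 3 F q := by
    rw [Subgroup.map_inf (subfieldSubgroup F₀ (1 : GL (Fin 3) F)) (SUg 3 F q) _ (MulAut.conj (P * b)).injective, e1,
      ← subfieldSubgroup_eq_map,
      subfieldSubgroup_mul F₀ P b (le_sup_left (a := (Matrix.GeneralLinearGroup.map (F₀.subtype : F₀ →+* F)).range) hb)]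
  rw [e1, e2]
  exact hmax

end Cfsg.Agent.Lib.Helper23.SU3Norm
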