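import Mathlib

/-!
SUnMax stage 2, leaf E4b `su3_five_orth_not_max` (`3 × SO_3(5) < 3.A_7 < SU_3(5)`): the computational model.

`GF(25) = F_5[ω]`, `ω² + ω + 1 = 0`, encoded as pairs `(a, b) = a + b ω` over `ZMod 5`.  The set `kS` is the cone over the
`3.A_7`-orbit of 105 non-isotropic points; `kg = diag(1, ω, ω²)`.  The only kernel computation: `kg` maps `kS` into itself (checked on the 651 normalised points).
-/

set_option autoImplicit false

namespace Cfsg.Agent.Lib.Helper23.SU3O5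

/-- the model of `GF(25)`: `(a, b) = a + b ω` -/
abbrev K25 := ZMod 5 × ZMod 5

/-- multiplication of the model (`ω² = -ω - 1`) -/
def kmul (x y : K25) : K25 := (x.1 * y.1 - x.2 * y.2, x.1 * y.2 + x.2 * y.1 - x.2 * y.2)

/-- the Frobenius `x ↦ x^5` of the model (`ω ↦ ω² = -1 - ω`) -/
def kconj (x : K25) : K25 := (x.1 - x.2, -x.2)

/-- `ω` and `ω²` -/
def kW : K25 := (0, 1)
def kW2 : K25 := (-1, -1)

/-- vectors of the model -/
abbrev V25 := K25 × K25 × K25

/-- the hermitian norm `h(v, v)` -/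
def kherm (v : V25) : K25 := kmul v.1 (kconj v.1) + kmul v.2.1 (kconj v.2.1) + kmul v.2.2 (kconj v.2.2)

/-- the bilinear norm `Σ v_i²` -/
def kQ (v : V25) : K25 := kmul v.1 v.1 + kmul v.2.1 v.2.1 + kmul v.2.2 v.2.2

/-- rational direction -/
def kR (v : V25) : Prop :=
  kmul v.1 (kconj v.2.1) = kmul v.2.1 (kconj v.1) ∧ kmul v.1 (kconj v.2.2) = kmul v.2.2 (kconj v.1) ∧
    kmul v.2.1 (kconj v.2.2) = kmul v.2.2 (kconj v.2.1)

instance (v : V25) : Decidable (kR v) := by unfold kR; infer_instance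

/-- the cone over the 105-orbit -/
def kS (v : V25) : Prop :=
  kherm v ≠ 0 ∧ (kQ v = 0 ∨ kmul (kQ v) (kmul (kQ v) (kQ v)) = kmul (2, 0) (kherm v) ∨ kR v)

instance (v : V25) : Decidable (kS v) := by unfold kS; infer_instance

/-- the action of `diag(1, ω, ω²)` -/
def kg (v : V25) : V25 := (v.1, kmul kW v.2.1, kmul kW2 v.2.2)

set_option maxRecDepth 100000 in
/-- THE computation: `diag(1, ω, ω²)` preserves the cone (points with first coordinate `1`) -/
theorem kg_inv1 : ∀ b1 b2 c1 c2 : ZMod 5, kS ((1, 0), (b1, b2), (c1, c2)) → kS (kg ((1, 0), (b1, b2), (c1, c2))) := by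
  decide +kernel

/-- points `(0, 1, c)` -/
theorem kg_inv2 : ∀ c1 c2 : ZMod 5, kS ((0, 0), (1, 0), (c1, c2)) → kS (kg ((0, 0), (1, 0), (c1, c2))) := by
  decide +kernel

/-- the point `(0, 0, 1)` -/
theorem kg_inv3 : kS ((0, 0), (0, 0), (1, 0)) → kS (kg ((0, 0), (0, 0), (1, 0))) := by
  decide +kernel

/-- `e₁` lies in the cone -/
theorem kS_e1 : kS ((1, 0), (0, 0), (0, 0)) := by decide +kernel

/-- its image `(2 + 2ω, 2 + 4ω, 0)` under a unitary transvection does not -/
theorem not_kS_u : ¬ kS ((2, 2), (2, 4), (0, 0)) := by decide +kernel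

/-- `a² - a b + b² = 0` has only the trivial solution over `F_5` -/
theorem norm_form_aniso : ∀ a b : ZMod 5, a * a - a * b + b * b = 0 → a = 0 ∧ b = 0 := by
  decide +kernel

end Cfsg.Agent.Lib.Helper23.SU3O5
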