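import Mathlib
import Cfsg.Agent.Lib.Helper4.SUMDefs
import Cfsg.Agent.Lib.Helper4.SUMT
import Cfsg.Agent.Lib.Helper9.SubfieldA
import Cfsg.Agent.Lib.Helper23.SU3O5Model

/-!
SUnMax stage 2, leaf E4b `su3_five_orth_not_max`: the core (`P = 1`).

`S` = the cone over the 105-orbit of `3.A_7` on the non-isotropic points, described by invariants of the rational structure:
`h(v,v) ≠ 0` and (`Q v = 0` or `(Q v)³ = 2 h(v,v)` or `v` has rational direction), `Q v = Σ v_i²`.  The subfield group preserves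
`S` for conceptual reasons, `diag(1, ω, ω²)` preserves it by the kernel computation of the model, a unitary transvection does not.
-/

set_option autoImplicit false
set_option linter.unusedSectionVars false
set_option linter.unusedVariables false
set_option linter.unusedSimpArgs false

namespace Cfsg.Agent.Lib.Helper23.SU3O5
open Matrix Cfsg.Geo Cfsg.Agent.Lib.Helper4.SUM

variable {F : Type*} [Field F] [Fintype F]

/-- the bilinear norm `Σ v_i²` -/
def Qf (v : Fin 3 → F) : F := v ⬝ᵥ v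

/-- rational direction: `v ∧ v̄ = 0` -/
def Rf (v : Fin 3 → F) : Prop := ∀ i j, v i * (v j) ^ 5 = v j * (v i) ^ 5

/-- the cone over the 105-orbit -/
def hS (v : Fin 3 → F) : Prop :=
  Cfsg.hermForm 3 F 5 v v ≠ 0 ∧ (Qf v = 0 ∨ (Qf v) ^ 3 = 2 * Cfsg.hermForm 3 F 5 v v ∨ Rf v)

omit [Fintype F] in
lemma herm_apply (u v : Fin 3 → F) :
    Cfsg.hermForm 3 F 5 u v = u 0 * (v 0) ^ 5 + u 1 * (v 1) ^ 5 + u 2 * (v 2) ^ 5 := by
  unfold Cfsg.hermForm
  rw [Fin.sum_univ_three]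

omit [Fintype F] in
lemma Qf_apply (v : Fin 3 → F) : Qf v = v 0 * v 0 + v 1 * v 1 + v 2 * v 2 := by
  unfold Qf dotProduct
  rw [Fin.sum_univ_three]

omit [Fintype F] in
lemma herm_smul (l : F) (v : Fin 3 → F) :
    Cfsg.hermForm 3 F 5 (l • v) (l • v) = l ^ 6 * Cfsg.hermForm 3 F 5 v v := by
  rw [herm_apply, herm_apply]
  simp only [Pi.smul_apply, smul_eq_mul]
  ring

omit [Fintype F] in
lemma Qf_smul (l : F) (v : Fin 3 → F) : Qf (l • v) = l ^ 2 * Qf v := by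
  rw [Qf_apply, Qf_apply]
  simp only [Pi.smul_apply, smul_eq_mul]
  ring

omit [Fintype F] in
/-- the cone is a cone -/
lemma hS_smul {l : F} (hl : l ≠ 0) {v : Fin 3 → F} (h : hS v) : hS (l • v) := by
  obtain ⟨h0, h1⟩ := h
  refine ⟨?_, ?_⟩
  · rw [herm_smul]
    exact mul_ne_zero (pow_ne_zero _ hl) h0
  · rcases h1 with h1 | h1 | h1
    · left
      rw [Qf_smul, h1, mul_zero]
    · right; left
      rw [Qf_smul, herm_smul, mul_pow, h1]
      ring
    · right; right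
      intro i j
      simp only [Pi.smul_apply, smul_eq_mul]
      have := h1 i j
      linear_combination l ^ 6 * this

/-! ### the field -/

lemma five_eq_zero (hF : Fintype.card F = 5 ^ 2) : (5 : F) = 0 := by
  have h := Nat.cast_card_eq_zero F
  rw [hF] at h
  have h2 : (5 : F) ^ 2 = 0 := by exact_mod_cast h
  exact pow_eq_zero_iff two_ne_zero |>.mp h2

lemma charP_five (hF : Fintype.card F = 5 ^ 2) : CharP F 5 :=
  (CharP.charP_iff_prime_eq_zero Nat.prime_five).mpr (by exact_mod_cast five_eq_zero hF)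

lemma card_sub (hF : Fintype.card F = 5 ^ 2) (F₀ : Subfield F) (hcard : Fintype.card F = Nat.card F₀ ^ 2) :
    Nat.card F₀ = 5 := by
  rw [hF] at hcard
  exact (Nat.pow_left_injective (n := 2) (by norm_num) hcard).symm

/-- elements of the subfield are fixed by the Frobenius -/
lemma pow_five_of_mem {F₀ : Subfield F} (h5 : Nat.card F₀ = 5) {x : F} (hx : x ∈ F₀) : x ^ 5 = x := by
  have : Fintype F₀ := Fintype.ofFinite F₀
  have h := FiniteField.pow_card (⟨x, hx⟩ : F₀)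
  rw [← Nat.card_eq_fintype_card, h5] at h
  have := congrArg (fun y : F₀ => (y : F)) h
  simpa using this

lemma pow_four_of_mem {F₀ : Subfield F} (h5 : Nat.card F₀ = 5) {x : F} (hx : x ∈ F₀) (hx0 : x ≠ 0) : x ^ 4 = 1 := by
  have h := pow_five_of_mem h5 hx
  have : x * x ^ 4 = x * 1 := by rw [mul_one, ← pow_succ', h]
  exact mul_left_cancel₀ hx0 this

/-! ### the subfield group preserves the cone -/

omit [Fintype F] in
lemma smul_mulVec_apply (A : Matrix (Fin 3) (Fin 3) F) (c : F) (v : Fin 3 → F) (i : Fin 3) :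
    (c • (A *ᵥ v)) i = c * (A i 0 * v 0 + A i 1 * v 1 + A i 2 * v 2) := by
  simp only [Pi.smul_apply, smul_eq_mul, Matrix.mulVec, dotProduct, Fin.sum_univ_three]

/-- the Frobenius of a rational combination -/
lemma pow_five_mulVec (hF : Fintype.card F = 5 ^ 2) {A : Matrix (Fin 3) (Fin 3) F} (hA : ∀ i j, (A i j) ^ 5 = A i j)
    (c : F) (v : Fin 3 → F) (i : Fin 3) :
    ((c • (A *ᵥ v)) i) ^ 5 = c ^ 5 * (A i 0 * (v 0) ^ 5 + A i 1 * (v 1) ^ 5 + A i 2 * (v 2) ^ 5) := by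
  have := charP_five hF
  have : Fact (Nat.Prime 5) := ⟨Nat.prime_five⟩
  rw [smul_mulVec_apply, mul_pow, add_pow_char, add_pow_char, mul_pow, mul_pow, mul_pow, hA, hA, hA]

/-- the subfield group (in the standard position) preserves the cone -/
theorem hS_of_subfield (hF : Fintype.card F = 5 ^ 2) {F₀ : Subfield F} (h5 : Nat.card F₀ = 5) {x : GL (Fin 3) F}
    (hx : x ∈ subfieldSubgroup F₀ (1 : GL (Fin 3) F)) (hxU : x ∈ SUg 3 F 5) {v : Fin 3 → F} (hv : hS v) :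
    hS ((x : Matrix (Fin 3) (Fin 3) F) *ᵥ v) := by
  obtain ⟨a, c, hxa⟩ := (Cfsg.Agent.Lib.Helper9.SubfieldA.mem_subfield_iff F₀ x).mp hx
  set A : Matrix (Fin 3) (Fin 3) F := (a : Matrix (Fin 3) (Fin 3) F₀).map (F₀.subtype : F₀ →+* F) with hAdef
  have hAmem : ∀ i j, A i j ∈ F₀ := fun i j => by
    rw [hAdef, Matrix.map_apply]
    exact ((a : Matrix (Fin 3) (Fin 3) F₀) i j).2
  have hA : ∀ i j, (A i j) ^ 5 = A i j := fun i j => pow_five_of_mem h5 (hAmem i j)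
  have hU := ((Cfsg.Agent.Lib.Helper4.SUMLeaf.mem_SUg_iff x).mp hxU).1
  have hc0 : (c : F) ≠ 0 := c.ne_zero
  have hxv : ∀ w : Fin 3 → F, (x : Matrix (Fin 3) (Fin 3) F) *ᵥ w = (c : F) • (A *ᵥ w) := fun w => by
    rw [hxa, Matrix.smul_mulVec]
  -- the Gram relations
  have key : ∀ i j : Fin 3, (c : F) ^ 6 * (A 0 i * A 0 j + A 1 i * A 1 j + A 2 i * A 2 j) = if i = j then 1 else 0 := by
    intro i j
    have h := hU (Pi.single i 1) (Pi.single j 1)
    rw [hxv, hxv, herm_apply, herm_apply, pow_five_mulVec hF hA, pow_five_mulVec hF hA, pow_five_mulVec hF hA,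
      smul_mulVec_apply, smul_mulVec_apply, smul_mulVec_apply] at h
    fin_cases i <;> fin_cases j <;> simp [Pi.single_apply] at h <;>
      simp only [Fin.zero_eta, Fin.mk_one, Fin.reduceFinMk, Fin.isValue, Fin.reduceEq, if_true, if_false] <;>
      linear_combination h
  set κ : F := ((c : F) ^ 6)⁻¹ with hκ
  have hcκ : (c : F) ^ 6 * κ = 1 := mul_inv_cancel₀ (pow_ne_zero _ hc0)
  have hκ0 : κ ≠ 0 := inv_ne_zero (pow_ne_zero _ hc0)
  have gram : ∀ i j : Fin 3, A 0 i * A 0 j + A 1 i * A 1 j + A 2 i * A 2 j = if i = j then κ else 0 := by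
    intro i j
    have h := key i j
    have h6 : (c : F) ^ 6 ≠ 0 := pow_ne_zero _ hc0
    apply mul_left_cancel₀ h6
    rw [h]
    split_ifs
    · exact hcκ.symm
    · rw [mul_zero]
  have hκmem : κ ∈ F₀ := by
    have h := gram 0 0
    rw [if_pos rfl] at h
    rw [← h]
    exact F₀.add_mem (F₀.add_mem (F₀.mul_mem (hAmem 0 0) (hAmem 0 0)) (F₀.mul_mem (hAmem 1 0) (hAmem 1 0)))
      (F₀.mul_mem (hAmem 2 0) (hAmem 2 0))
  -- `κ² = 1` by the determinant
  have hAA : Aᵀ * A = κ • (1 : Matrix (Fin 3) (Fin 3) F) := by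
    ext i j
    rw [Matrix.mul_apply, Fin.sum_univ_three, Matrix.transpose_apply, Matrix.transpose_apply, Matrix.transpose_apply,
      gram i j, Matrix.smul_apply, Matrix.one_apply, smul_eq_mul]
    split_ifs <;> simp
  have hdet : A.det ^ 2 = κ ^ 3 := by
    have h := congrArg Matrix.det hAA
    rw [Matrix.det_mul, Matrix.det_transpose, Matrix.det_smul, Matrix.det_one, mul_one, Fintype.card_fin] at h
    rw [← h]; ring
  have hdmem : A.det ∈ F₀ := by
    have h := RingHom.map_det (F₀.subtype : F₀ →+* F) (a : Matrix (Fin 3) (Fin 3) F₀)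
    have h2 : (F₀.subtype : F₀ →+* F).mapMatrix (a : Matrix (Fin 3) (Fin 3) F₀) = A := rfl
    rw [h2] at h
    rw [← h]
    exact ((a : Matrix (Fin 3) (Fin 3) F₀).det).2
  have hd0 : A.det ≠ 0 := by
    intro h
    rw [h] at hdet
    exact pow_ne_zero 3 hκ0 (by rw [← hdet]; ring)
  have hκ2 : κ ^ 2 = 1 := by
    have h1 := pow_four_of_mem h5 hκmem hκ0
    have h2 := pow_four_of_mem h5 hdmem hd0
    have h3 : κ ^ 6 = 1 := by
      have : κ ^ 6 = (A.det ^ 2) ^ 2 := by rw [hdet]; ring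
      rw [this, ← pow_mul]
      exact h2
    have : κ ^ 6 = κ ^ 4 * κ ^ 2 := by ring
    rw [this, h1, one_mul] at h3
    exact h3
  -- `Q (x v) = c² κ Q v`
  have hQ : Qf ((x : Matrix (Fin 3) (Fin 3) F) *ᵥ v) = (c : F) ^ 2 * κ * Qf v := by
    rw [hxv, Qf_apply, Qf_apply, smul_mulVec_apply, smul_mulVec_apply, smul_mulVec_apply]
    have g00 := gram 0 0
    have g11 := gram 1 1
    have g22 := gram 2 2
    have g01 := gram 0 1
    have g02 := gram 0 2
    have g12 := gram 1 2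
    simp only [if_pos, if_neg, Fin.isValue, Fin.reduceEq, if_false, if_true] at g00 g11 g22 g01 g02 g12
    linear_combination (c : F) ^ 2 * v 0 ^ 2 * g00 + (c : F) ^ 2 * v 1 ^ 2 * g11 + (c : F) ^ 2 * v 2 ^ 2 * g22 +
      2 * (c : F) ^ 2 * v 0 * v 1 * g01 + 2 * (c : F) ^ 2 * v 0 * v 2 * g02 + 2 * (c : F) ^ 2 * v 1 * v 2 * g12
  obtain ⟨h0, h1⟩ := hv
  have hh : Cfsg.hermForm 3 F 5 ((x : Matrix (Fin 3) (Fin 3) F) *ᵥ v) ((x : Matrix (Fin 3) (Fin 3) F) *ᵥ v) =
      Cfsg.hermForm 3 F 5 v v := hU v v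
  refine ⟨by rw [hh]; exact h0, ?_⟩
  rcases h1 with h1 | h1 | h1
  · left
    rw [hQ, h1, mul_zero]
  · right; left
    rw [hQ, hh, ← h1]
    have : ((c : F) ^ 2 * κ * Qf v) ^ 3 = ((c : F) ^ 6 * κ) * κ ^ 2 * Qf v ^ 3 := by ring
    rw [this, hcκ, hκ2, one_mul, one_mul]
  · right; right
    intro i j
    rw [hxv, pow_five_mulVec hF hA, pow_five_mulVec hF hA, smul_mulVec_apply, smul_mulVec_apply]
    have r01 := h1 0 1
    have r02 := h1 0 2
    have r12 := h1 1 2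
    linear_combination ((c : F) ^ 6 * (A i 0 * A j 1 - A i 1 * A j 0)) * r01 +
      ((c : F) ^ 6 * (A i 0 * A j 2 - A i 2 * A j 0)) * r02 + ((c : F) ^ 6 * (A i 1 * A j 2 - A i 2 * A j 1)) * r12

/-! ### decoding the model -/

section model

variable [CharP F 5]

/-- decoding `(a, b) ↦ a + b ω` -/
noncomputable def phi (ω : F) (x : K25) : F :=
  ZMod.castHom (dvd_refl 5) F x.1 + ZMod.castHom (dvd_refl 5) F x.2 * ω

omit [Fintype F] in
lemma phi_zero (ω : F) : phi ω (0 : K25) = 0 := by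
  unfold phi
  rw [Prod.fst_zero, Prod.snd_zero, map_zero, zero_mul, add_zero]

omit [Fintype F] in
lemma phi_one (ω : F) : phi ω ((1, 0) : K25) = 1 := by
  unfold phi
  rw [map_one, map_zero, zero_mul, add_zero]

omit [Fintype F] in
lemma phi_W (ω : F) : phi ω kW = ω := by
  unfold phi kW
  rw [map_one, map_zero, zero_add, one_mul]

omit [Fintype F] in
lemma phi_W2 {ω : F} (hω : ω ^ 2 + ω + 1 = 0) : phi ω kW2 = ω ^ 2 := by
  unfold phi kW2
  simp only [map_neg, map_one]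
  linear_combination -hω

omit [Fintype F] in
lemma phi_add (ω : F) (x y : K25) : phi ω (x + y) = phi ω x + phi ω y := by
  unfold phi
  rw [Prod.fst_add, Prod.snd_add, map_add, map_add]
  ring

omit [Fintype F] in
lemma phi_mul {ω : F} (hω : ω ^ 2 + ω + 1 = 0) (x y : K25) : phi ω (kmul x y) = phi ω x * phi ω y := by
  unfold phi kmul
  simp only [map_sub, map_add, map_mul]
  linear_combination (-(ZMod.castHom (dvd_refl 5) F x.2 * ZMod.castHom (dvd_refl 5) F y.2)) * hω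

omit [Fintype F] [CharP F 5] in
lemma omega_pow_five {ω : F} (hω : ω ^ 2 + ω + 1 = 0) : ω ^ 5 = -1 - ω := by
  linear_combination (ω ^ 3 - ω ^ 2 + 1) * hω

omit [Fintype F] [CharP F 5] in
lemma omega_pow_three {ω : F} (hω : ω ^ 2 + ω + 1 = 0) : ω ^ 3 = 1 := by
  linear_combination (ω - 1) * hω

omit [Fintype F] in
lemma phi_conj {ω : F} (hω : ω ^ 2 + ω + 1 = 0) (x : K25) : phi ω (kconj x) = (phi ω x) ^ 5 := by
  have : Fact (Nat.Prime 5) := ⟨Nat.prime_five⟩
  unfold phi kconj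
  rw [add_pow_char, mul_pow, ← map_pow, ← map_pow, ZMod.pow_card, ZMod.pow_card, omega_pow_five hω]
  simp only [map_sub, map_neg]
  ring

omit [Fintype F] in
lemma phi_eq_zero {ω : F} (hω : ω ^ 2 + ω + 1 = 0) {x : K25} (h : phi ω x = 0) : x = 0 := by
  have : Fact (Nat.Prime 5) := ⟨Nat.prime_five⟩
  unfold phi at h
  set a := x.1
  set b := x.2
  have h1 : ZMod.castHom (dvd_refl 5) F (a * a - a * b + b * b) = 0 := by
    simp only [map_sub, map_add, map_mul]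
    linear_combination (ZMod.castHom (dvd_refl 5) F a + ZMod.castHom (dvd_refl 5) F b * ω ^ 2) * h +
      (-(ZMod.castHom (dvd_refl 5) F a * ZMod.castHom (dvd_refl 5) F b) +
        ZMod.castHom (dvd_refl 5) F b ^ 2 * (1 - ω)) * hω
  have h2 : a * a - a * b + b * b = 0 := by
    have hinj := (ZMod.castHom (dvd_refl 5) F).injective
    apply hinj
    rw [h1, map_zero]
  obtain ⟨ha, hb⟩ := norm_form_aniso a b h2
  exact Prod.ext ha hb

omit [Fintype F] in
lemma phi_injective {ω : F} (hω : ω ^ 2 + ω + 1 = 0) : Function.Injective (phi ω) := by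
  intro x y hxy
  have h : phi ω (x - y) = 0 := by
    unfold phi at hxy ⊢
    rw [Prod.fst_sub, Prod.snd_sub, map_sub, map_sub]
    linear_combination hxy
  have := phi_eq_zero hω h
  exact sub_eq_zero.mp this

lemma phi_surjective (hF : Fintype.card F = 5 ^ 2) {ω : F} (hω : ω ^ 2 + ω + 1 = 0) : Function.Surjective (phi ω) := by
  have hbij : Function.Bijective (phi ω) := by
    rw [Fintype.bijective_iff_injective_and_card]
    refine ⟨phi_injective hω, ?_⟩
    rw [hF, Fintype.card_prod, ZMod.card]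
    norm_num
  exact hbij.2

omit [Fintype F] in
lemma herm_vec (x y z : F) : Cfsg.hermForm 3 F 5 ![x, y, z] ![x, y, z] = x * x ^ 5 + y * y ^ 5 + z * z ^ 5 := by
  rw [herm_apply]
  rfl

omit [Fintype F] in
lemma Qf_vec (x y z : F) : Qf ![x, y, z] = x * x + y * y + z * z := by
  rw [Qf_apply]
  rfl

omit [Fintype F] in
lemma Rf_vec (x y z : F) :
    Rf ![x, y, z] ↔ x * y ^ 5 = y * x ^ 5 ∧ x * z ^ 5 = z * x ^ 5 ∧ y * z ^ 5 = z * y ^ 5 := by
  constructor
  · intro h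
    exact ⟨h 0 1, h 0 2, h 1 2⟩
  · rintro ⟨h1, h2, h3⟩ i j
    fin_cases i <;> fin_cases j
    · rfl
    · exact h1
    · exact h2
    · exact h1.symm
    · rfl
    · exact h3
    · exact h2.symm
    · exact h3.symm
    · rfl

omit [Fintype F] in
/-- the cone in the model -/
lemma hS_phi {ω : F} (hω : ω ^ 2 + ω + 1 = 0) (a b c : K25) :
    hS ![phi ω a, phi ω b, phi ω c] ↔ kS (a, b, c) := by
  have e1 : Cfsg.hermForm 3 F 5 ![phi ω a, phi ω b, phi ω c] ![phi ω a, phi ω b, phi ω c] = phi ω (kherm (a, b, c)) := by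
    rw [herm_vec]
    unfold kherm
    rw [phi_add, phi_add, phi_mul hω, phi_mul hω, phi_mul hω, phi_conj hω, phi_conj hω, phi_conj hω]
  have e2 : Qf ![phi ω a, phi ω b, phi ω c] = phi ω (kQ (a, b, c)) := by
    rw [Qf_vec]
    unfold kQ
    rw [phi_add, phi_add, phi_mul hω, phi_mul hω, phi_mul hω]
  have e3 : Rf ![phi ω a, phi ω b, phi ω c] ↔ kR (a, b, c) := by
    rw [Rf_vec]
    unfold kR
    rw [← phi_conj hω, ← phi_conj hω, ← phi_conj hω, ← phi_mul hω, ← phi_mul hω, ← phi_mul hω, ← phi_mul hω,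
      ← phi_mul hω, ← phi_mul hω, (phi_injective hω).eq_iff, (phi_injective hω).eq_iff, (phi_injective hω).eq_iff]
  have z : ∀ x : K25, phi ω x = 0 ↔ x = 0 := fun x =>
    ⟨fun h => phi_eq_zero hω h, fun h => by rw [h, phi_zero]⟩
  have e4 : (Qf ![phi ω a, phi ω b, phi ω c]) ^ 3 =
      2 * Cfsg.hermForm 3 F 5 ![phi ω a, phi ω b, phi ω c] ![phi ω a, phi ω b, phi ω c] ↔
      kmul (kQ (a, b, c)) (kmul (kQ (a, b, c)) (kQ (a, b, c))) = kmul (2, 0) (kherm (a, b, c)) := by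
    rw [e1, e2, ← (phi_injective hω).eq_iff, phi_mul hω, phi_mul hω, phi_mul hω]
    have : phi ω ((2, 0) : K25) = 2 := by
      unfold phi
      rw [map_zero, zero_mul, add_zero, map_ofNat]
    rw [this, pow_three]
  unfold hS kS
  rw [e4, e3, e2, e1, z, ne_eq, z]

/-! ### the element `diag(1, ω, ω²)` -/

omit [Fintype F] [CharP F 5] in
lemma diag_mul_diag {ω : F} (hω : ω ^ 2 + ω + 1 = 0) :
    Matrix.diagonal ![1, ω, ω ^ 2] * Matrix.diagonal ![1, ω ^ 2, ω] = (1 : Matrix (Fin 3) (Fin 3) F) := by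
  have h3 := omega_pow_three hω
  rw [Matrix.diagonal_mul_diagonal, ← Matrix.diagonal_one]
  congr 1
  funext i
  fin_cases i
  · exact mul_one 1
  · show ω * ω ^ 2 = 1
    linear_combination h3
  · show ω ^ 2 * ω = 1
    linear_combination h3

omit [Fintype F] [CharP F 5] in
lemma diag_mul_diag' {ω : F} (hω : ω ^ 2 + ω + 1 = 0) :
    Matrix.diagonal ![1, ω ^ 2, ω] * Matrix.diagonal ![1, ω, ω ^ 2] = (1 : Matrix (Fin 3) (Fin 3) F) := by
  have h3 := omega_pow_three hω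
  rw [Matrix.diagonal_mul_diagonal, ← Matrix.diagonal_one]
  congr 1
  funext i
  fin_cases i
  · exact mul_one 1
  · show ω ^ 2 * ω = 1
    linear_combination h3
  · show ω * ω ^ 2 = 1
    linear_combination h3

/-- `diag(1, ω, ω²)` -/
noncomputable def gD {ω : F} (hω : ω ^ 2 + ω + 1 = 0) : GL (Fin 3) F :=
  ⟨Matrix.diagonal ![1, ω, ω ^ 2], Matrix.diagonal ![1, ω ^ 2, ω], diag_mul_diag hω, diag_mul_diag' hω⟩

omit [Fintype F] [CharP F 5] in
lemma gD_mulVec {ω : F} (hω : ω ^ 2 + ω + 1 = 0) (v : Fin 3 → F) :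
    ((gD hω : GL (Fin 3) F) : Matrix (Fin 3) (Fin 3) F) *ᵥ v = ![v 0, ω * v 1, ω ^ 2 * v 2] := by
  funext i
  show (Matrix.diagonal ![1, ω, ω ^ 2] *ᵥ v) i = _
  rw [Matrix.mulVec_diagonal]
  fin_cases i
  · exact one_mul _
  · rfl
  · rfl

omit [Fintype F] [CharP F 5] in
lemma gD_inv_mulVec {ω : F} (hω : ω ^ 2 + ω + 1 = 0) (v : Fin 3 → F) :
    (((gD hω)⁻¹ : GL (Fin 3) F) : Matrix (Fin 3) (Fin 3) F) *ᵥ v =
      ((gD hω : GL (Fin 3) F) : Matrix (Fin 3) (Fin 3) F) *ᵥ (((gD hω : GL (Fin 3) F) : Matrix (Fin 3) (Fin 3) F) *ᵥ v) := by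
  have h3 := omega_pow_three hω
  rw [gD_mulVec, gD_mulVec]
  funext i
  show (Matrix.diagonal ![1, ω ^ 2, ω] *ᵥ v) i = _
  rw [Matrix.mulVec_diagonal]
  fin_cases i
  · exact one_mul _
  · show ω ^ 2 * v 1 = ω * (ω * v 1)
    ring
  · show ω * v 2 = ω ^ 2 * (ω ^ 2 * v 2)
    have : ω ^ 2 * (ω ^ 2 * v 2) = ω ^ 3 * ω * v 2 := by ring
    rw [this, h3, one_mul]

omit [CharP F 5] in
lemma gD_mem_SU (hF : Fintype.card F = 5 ^ 2) {ω : F} (hω : ω ^ 2 + ω + 1 = 0) : gD hω ∈ SUg 3 F 5 := by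
  have h3 := omega_pow_three hω
  rw [Cfsg.Agent.Lib.Helper4.SUMLeaf.mem_SUg_iff]
  refine ⟨fun x y => ?_, ?_⟩
  · rw [gD_mulVec, gD_mulVec, herm_apply, herm_apply]
    show x 0 * (y 0) ^ 5 + ω * x 1 * (ω * y 1) ^ 5 + ω ^ 2 * x 2 * (ω ^ 2 * y 2) ^ 5 = _
    have e1 : ω * x 1 * (ω * y 1) ^ 5 = (ω ^ 3) ^ 2 * (x 1 * y 1 ^ 5) := by ring
    have e2 : ω ^ 2 * x 2 * (ω ^ 2 * y 2) ^ 5 = (ω ^ 3) ^ 4 * (x 2 * y 2 ^ 5) := by ring
    rw [e1, e2, h3, one_pow, one_pow, one_mul, one_mul]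
  · show (Matrix.diagonal ![1, ω, ω ^ 2]).det = 1
    rw [Matrix.det_diagonal, Fin.prod_univ_three]
    show 1 * ω * ω ^ 2 = 1
    linear_combination h3

/-- the model step -/
lemma hS_gD_phi {ω : F} (hω : ω ^ 2 + ω + 1 = 0) (a b c : K25) (hk : kS (a, b, c) → kS (kg (a, b, c)))
    (h : hS ![phi ω a, phi ω b, phi ω c]) :
    hS (((gD hω : GL (Fin 3) F) : Matrix (Fin 3) (Fin 3) F) *ᵥ ![phi ω a, phi ω b, phi ω c]) := by
  have h1 := hk ((hS_phi hω a b c).mp h)
  have h2 : kg (a, b, c) = (a, kmul kW b, kmul kW2 c) := rfl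
  rw [h2] at h1
  have h3 := (hS_phi hω a (kmul kW b) (kmul kW2 c)).mpr h1
  rw [phi_mul hω, phi_mul hω, phi_W, phi_W2 hω] at h3
  rw [gD_mulVec]
  exact h3

/-- `diag(1, ω, ω²)` preserves the cone -/
theorem hS_gD (hF : Fintype.card F = 5 ^ 2) {ω : F} (hω : ω ^ 2 + ω + 1 = 0) {v : Fin 3 → F} (hv : hS v) :
    hS (((gD hω : GL (Fin 3) F) : Matrix (Fin 3) (Fin 3) F) *ᵥ v) := by
  have hsurj := phi_surjective hF hω
  -- reduction to a normalised vector
  have red : ∀ (l : F) (w : Fin 3 → F), l ≠ 0 → v = l • w →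
      (hS w → hS (((gD hω : GL (Fin 3) F) : Matrix (Fin 3) (Fin 3) F) *ᵥ w)) →
      hS (((gD hω : GL (Fin 3) F) : Matrix (Fin 3) (Fin 3) F) *ᵥ v) := by
    intro l w hl hvw hw
    have h1 : hS w := by
      have : w = l⁻¹ • v := by rw [hvw, smul_smul, inv_mul_cancel₀ hl, one_smul]
      rw [this]
      exact hS_smul (inv_ne_zero hl) hv
    rw [hvw, Matrix.mulVec_smul]
    exact hS_smul hl (hw h1)
  by_cases h0 : v 0 = 0
  · by_cases h1 : v 1 = 0
    · by_cases h2 : v 2 = 0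
      · exfalso
        apply hv.1
        rw [herm_apply, h0, h1, h2]
        ring
      · refine red (v 2) ![phi ω 0, phi ω 0, phi ω (1, 0)] h2 ?_ (hS_gD_phi hω _ _ _ kg_inv3)
        rw [phi_zero, phi_one]
        funext i
        fin_cases i
        · show v 0 = v 2 * 0
          rw [h0, mul_zero]
        · show v 1 = v 2 * 0
          rw [h1, mul_zero]
        · show v 2 = v 2 * 1
          rw [mul_one]
    · obtain ⟨c, hc⟩ := hsurj ((v 1)⁻¹ * v 2)
      refine red (v 1) ![phi ω 0, phi ω (1, 0), phi ω c] h1 ?_ (hS_gD_phi hω _ _ _ (kg_inv2 c.1 c.2))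
      rw [phi_zero, phi_one, hc]
      funext i
      fin_cases i
      · show v 0 = v 1 * 0
        rw [h0, mul_zero]
      · show v 1 = v 1 * 1
        rw [mul_one]
      · show v 2 = v 1 * ((v 1)⁻¹ * v 2)
        rw [← mul_assoc, mul_inv_cancel₀ h1, one_mul]
  · obtain ⟨b, hb⟩ := hsurj ((v 0)⁻¹ * v 1)
    obtain ⟨c, hc⟩ := hsurj ((v 0)⁻¹ * v 2)
    refine red (v 0) ![phi ω (1, 0), phi ω b, phi ω c] h0 ?_ (hS_gD_phi hω _ _ _ (kg_inv1 b.1 b.2 c.1 c.2))
    rw [phi_one, hb, hc]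
    funext i
    fin_cases i
    · show v 0 = v 0 * 1
      rw [mul_one]
    · show v 1 = v 0 * ((v 0)⁻¹ * v 1)
      rw [← mul_assoc, mul_inv_cancel₀ h0, one_mul]
    · show v 2 = v 0 * ((v 0)⁻¹ * v 2)
      rw [← mul_assoc, mul_inv_cancel₀ h0, one_mul]

/-- `diag(1, ω, ω²)` is not in the subfield group -/
lemma gD_not_mem (hF : Fintype.card F = 5 ^ 2) {F₀ : Subfield F} (h5 : Nat.card F₀ = 5) {ω : F}
    (hω : ω ^ 2 + ω + 1 = 0) : gD hω ∉ subfieldSubgroup F₀ (1 : GL (Fin 3) F) := by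
  intro h
  obtain ⟨a, c, hxa⟩ := (Cfsg.Agent.Lib.Helper9.SubfieldA.mem_subfield_iff F₀ _).mp h
  set A : Matrix (Fin 3) (Fin 3) F := (a : Matrix (Fin 3) (Fin 3) F₀).map (F₀.subtype : F₀ →+* F) with hAdef
  have hAmem : ∀ i j, A i j ∈ F₀ := fun i j => by
    rw [hAdef, Matrix.map_apply]
    exact ((a : Matrix (Fin 3) (Fin 3) F₀) i j).2
  have h00 : (1 : F) = (c : F) * A 0 0 := by
    have := congrFun (congrFun hxa 0) 0
    rw [Matrix.smul_apply, smul_eq_mul] at this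
    rw [← this]
    show (1 : F) = Matrix.diagonal ![1, ω, ω ^ 2] 0 0
    rw [Matrix.diagonal_apply_eq]
    rfl
  have h11 : ω = (c : F) * A 1 1 := by
    have := congrFun (congrFun hxa 1) 1
    rw [Matrix.smul_apply, smul_eq_mul] at this
    rw [← this]
    show ω = Matrix.diagonal ![1, ω, ω ^ 2] 1 1
    rw [Matrix.diagonal_apply_eq]
    rfl
  have hA0 : A 0 0 ≠ 0 := by
    intro h0
    rw [h0, mul_zero] at h00
    exact one_ne_zero h00
  have h1 : ω * A 0 0 = A 1 1 := by linear_combination A 0 0 * h11 - A 1 1 * h00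
  have hωmem : ω ∈ F₀ := by
    have : ω = A 1 1 * (A 0 0)⁻¹ := by
      rw [← h1, mul_assoc, mul_inv_cancel₀ hA0, mul_one]
    rw [this]
    exact F₀.mul_mem (hAmem 1 1) (F₀.inv_mem (hAmem 0 0))
  have h2 := pow_five_of_mem h5 hωmem
  rw [omega_pow_five hω] at h2
  have h5' := five_eq_zero hF
  have : (1 : F) = 0 := by linear_combination 8 * hω - 2 * (2 * ω + 1) * (-h2) - h5'
  exact one_ne_zero this

/-- a unitary transvection which does not preserve the cone -/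
theorem exists_bad (hF : Fintype.card F = 5 ^ 2) {ω : F} (hω : ω ^ 2 + ω + 1 = 0) :
    ∃ g ∈ SUg 3 F 5, ∃ v : Fin 3 → F, hS v ∧ ¬ hS ((g : Matrix (Fin 3) (Fin 3) F) *ᵥ v) := by
  have : Fact (Nat.Prime 5) := ⟨Nat.prime_five⟩
  have h5' := five_eq_zero hF
  set cc : F := 1 + 2 * ω with hccdef
  have hcc : cc ^ 5 = -cc := by
    rw [hccdef, add_pow_char, mul_pow, omega_pow_five hω]
    linear_combination (-6 - 6 * ω) * h5'
  have ha₀ : Cfsg.hermForm 3 F 5 ![1, 2, 0] ![1, 2, 0] = 0 := by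
    rw [herm_vec]
    linear_combination 13 * h5'
  obtain ⟨g', hg', hmat⟩ := Cfsg.Agent.Lib.Helper4.SUMLeaf.tv_mem hF ha₀ hcc
  refine ⟨g', hg', ![phi ω (1, 0), phi ω 0, phi ω 0], (hS_phi hω _ _ _).mpr kS_e1, ?_⟩
  have e : (g' : Matrix (Fin 3) (Fin 3) F) *ᵥ ![phi ω (1, 0), phi ω 0, phi ω 0] =
      ![phi ω (2, 2), phi ω (2, 4), phi ω 0] := by
    rw [hmat, Cfsg.Agent.Lib.Helper4.SUMLeaf.ut_mulVec, phi_one, phi_zero]
    have hh : Cfsg.hermForm 3 F 5 ![1, 0, 0] ![1, 2, 0] = 1 := by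
      rw [herm_apply]
      show (1 : F) * 1 ^ 5 + 0 * 2 ^ 5 + 0 * 0 ^ 5 = 1
      ring
    rw [hh, mul_one]
    have p22 : phi ω ((2, 2) : K25) = 1 + cc := by
      unfold phi
      rw [map_ofNat, hccdef]
      ring
    have p24 : phi ω ((2, 4) : K25) = 2 * cc := by
      unfold phi
      rw [map_ofNat, map_ofNat, hccdef]
      ring
    rw [p22, p24]
    funext i
    fin_cases i
    · show (1 : F) + cc * 1 = 1 + cc
      ring
    · show (0 : F) + cc * 2 = 2 * cc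
      ring
    · show (0 : F) + cc * 0 = 0
      ring
  rw [e, hS_phi hω]
  exact not_kS_u

end model

/-- a primitive cube root of unity -/
lemma exists_omega (hF : Fintype.card F = 5 ^ 2) : ∃ ω : F, ω ^ 2 + ω + 1 = 0 := by
  classical
  obtain ⟨g, hg⟩ := IsCyclic.exists_generator (α := Fˣ)
  have hord : orderOf g = 24 := by
    rw [orderOf_eq_card_of_forall_mem_zpowers hg, Nat.card_units, Nat.card_eq_fintype_card, hF]
    norm_num
  have h24 : g ^ 24 = 1 := by rw [← hord]; exact pow_orderOf_eq_one g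
  refine ⟨((g ^ 8 : Fˣ) : F), ?_⟩
  have h83 : (g ^ 8) ^ 3 = 1 := by
    rw [← pow_mul]
    exact h24
  have h3 : (((g ^ 8 : Fˣ) : F)) ^ 3 = 1 := by
    rw [← Units.val_pow_eq_pow_val, h83]
    rfl
  have hne : ((g ^ 8 : Fˣ) : F) ≠ 1 := by
    intro h
    have h8 : g ^ 8 = 1 := Units.ext h
    have := orderOf_dvd_of_pow_eq_one h8
    rw [hord] at this
    omega
  have hprod : (((g ^ 8 : Fˣ) : F) - 1) * (((g ^ 8 : Fˣ) : F) ^ 2 + ((g ^ 8 : Fˣ) : F) + 1) = 0 := by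
    linear_combination h3
  rcases mul_eq_zero.mp hprod with h | h
  · exact absurd (sub_eq_zero.mp h) hne
  · exact h

/-- the stabiliser of the cone in `SU` -/
def Mgrp (F : Type*) [Field F] : Subgroup (GL (Fin 3) F) where
  carrier := {x | x ∈ SUg 3 F 5 ∧ (∀ v, hS v → hS ((x : Matrix (Fin 3) (Fin 3) F) *ᵥ v)) ∧
    (∀ v, hS v → hS (((x⁻¹ : GL (Fin 3) F) : Matrix (Fin 3) (Fin 3) F) *ᵥ v))}
  mul_mem' := by
    rintro x y ⟨hx1, hx2, hx3⟩ ⟨hy1, hy2, hy3⟩
    refine ⟨Subgroup.mul_mem _ hx1 hy1, fun v hv => ?_, fun v hv => ?_⟩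
    · rw [Units.val_mul, ← Matrix.mulVec_mulVec]
      exact hx2 _ (hy2 _ hv)
    · rw [_root_.mul_inv_rev, Units.val_mul, ← Matrix.mulVec_mulVec]
      exact hy3 _ (hx3 _ hv)
  one_mem' := by
    refine ⟨Subgroup.one_mem _, fun v hv => ?_, fun v hv => ?_⟩
    · rw [Units.val_one, Matrix.one_mulVec]
      exact hv
    · rw [inv_one, Units.val_one, Matrix.one_mulVec]
      exact hv
  inv_mem' := by
    rintro x ⟨hx1, hx2, hx3⟩
    refine ⟨Subgroup.inv_mem _ hx1, hx3, ?_⟩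
    rw [inv_inv]
    exact hx2

/-- THE CORE: the standard orthogonal subfield group is not maximal in `SU_3(5)` -/
theorem core (hF : Fintype.card F = 5 ^ 2) (F₀ : Subfield F) (hcard : Fintype.card F = Nat.card F₀ ^ 2) :
    ¬ IsMaximalIn (SUg 3 F 5) (subfieldSubgroup F₀ (1 : GL (Fin 3) F) ⊓ SUg 3 F 5) := by
  have := charP_five hF
  have h5 := card_sub hF F₀ hcard
  obtain ⟨ω, hω⟩ := exists_omega hF
  rintro ⟨-, hmax⟩
  have hle : subfieldSubgroup F₀ (1 : GL (Fin 3) F) ⊓ SUg 3 F 5 ≤ Mgrp F := by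
    rintro x ⟨hx1, hx2⟩
    refine ⟨hx2, fun v hv => hS_of_subfield hF h5 hx1 hx2 hv, fun v hv => ?_⟩
    exact hS_of_subfield hF h5 (Subgroup.inv_mem _ hx1) (Subgroup.inv_mem _ hx2) hv
  have hMle : Mgrp F ≤ SUg 3 F 5 := fun x hx => hx.1
  have hgM : gD hω ∈ Mgrp F := by
    refine ⟨gD_mem_SU hF hω, fun v hv => hS_gD hF hω hv, fun v hv => ?_⟩
    rw [gD_inv_mulVec]
    exact hS_gD hF hω (hS_gD hF hω hv)
  rcases hmax (Mgrp F) hle hMle with h | h
  · have : gD hω ∈ subfieldSubgroup F₀ (1 : GL (Fin 3) F) ⊓ SUg 3 F 5 := by rw [← h]; exact hgM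
    exact gD_not_mem hF h5 hω this.1
  · obtain ⟨g', hg', v, hv, hbad⟩ := exists_bad hF hω
    have : g' ∈ Mgrp F := by rw [h]; exact hg'
    exact hbad (this.2.1 v hv)

end Cfsg.Agent.Lib.Helper23.SU3O5
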