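import Mathlib
import Cfsg.Agent.Lib.Helper4.SUMDefs
import Cfsg.Agent.Lib.Helper23.SU3O5Core
import Cfsg.Agent.Lib.Helper23.SU3Norm

/-!
helper23, SUnMax n = 3, leaf E4b `su3_five_orth_not_max`: `3 × SO_3(5) < 3.A_7 < SU_3(5)`.
Exact signature of `notes/SUnMax_stage2_leaves.lean`.
-/

set_option autoImplicit false
set_option linter.unusedSectionVars false
set_option linter.unusedVariables false

namespace Cfsg.Agent.Lib.Helper23.SUMLeaf

open Cfsg.Geo Matrix Module Cfsg.Agent.Lib.Helper4.SUM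

variable {F : Type*} [Field F] [Fintype F]

/-- E4b (NM).  `3 × SO_3(5) = 3 × S_5 < 3.A_7 < SU_3(5)`. -/
theorem su3_five_orth_not_max (hF : Fintype.card F = 5 ^ 2) (F₀ : Subfield F) (P : GL (Fin 3) F)
    (hcard : Fintype.card F = Nat.card F₀ ^ 2) (hP : IsFormRationalStructure (Cfsg.hermForm 3 F 5) F₀ 1 P) :
    ¬ IsMaximalIn (Cfsg.GU 3 F 5 ⊓ specialLinear (Fin 3) F)
      (subfieldSubgroup F₀ P ⊓ (Cfsg.GU 3 F 5 ⊓ specialLinear (Fin 3) F)) :=
  Cfsg.Agent.Lib.Helper23.SU3Norm.not_max_of_std (by decide) hF F₀ P hcard hP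
    (Cfsg.Agent.Lib.Helper23.SU3O5.core hF F₀ hcard)

end Cfsg.Agent.Lib.Helper23.SUMLeaf
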