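import Mathlib
import Cfsg.Agent.Lib.Helper23.SUBridge4
import Cfsg.Agent.Lib.Helper26.SURegA
import Cfsg.Agent.Lib.Helper24.SUEnRed

/-!
# S2282 (n ≥ 5): the Witt frame of the standard model (helper23)

The vectors `eJ i, dJ, fJ i` of helper26's `SURegA` (antidiagonal model, `n = d + 1 + d`) are
carried to the standard model by `Qv x = Qmat *ᵥ x`.  We prove the Gram relations in both models,
the instance `ws : SUEnRed.WS q EW FW DW` of helper24's Witt systems, and the action transfer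
`av (suIso.symm g) (Qv x) = Qv (g *ᵥ x)`.
-/

set_option autoImplicit false

namespace Cfsg.Agent.Lib.Helper23.SUFrame

open Matrix
open Cfsg.Agent.Lib.Helper16.FusSU
open Cfsg.Agent.Lib.Helper5.HermBridge (frobHom)
open Cfsg.Agent.Lib.Helper4.SU3 (hJ)
open Cfsg.Agent.Lib.Helper13.LSU
open Cfsg.Agent.Lib.Helper26.SUReg
open Cfsg.Agent.Lib.Helper23.SUBridge

section Jmodel

variable {K : Type*} [Field K] {d : ℕ} (σ : K →+* K)

/-- the antidiagonal form against a basis vector reads off a coordinate -/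
theorem hJ_single_right {n : ℕ} (y : Fin n → K) (k : Fin n) (b : K) :
    hJ σ y (Pi.single k b) = y k.rev * σ b := by
  unfold hJ
  rw [sh_single, dotProduct_comm, single_dotProduct, mul_comm]

theorem hJ_toJ_single (a b : T3 d) (x y : K) :
    hJ σ (Pi.single (eO d a) x : Fin (d + 1 + d) → K) (Pi.single (eO d b) y) =
      if b = sw3 a then x * σ y else 0 := by
  rw [hJ_single, eO_rev]
  by_cases h : b = sw3 a
  · rw [if_pos h, if_pos (by rw [h])]
  · rw [if_neg h, if_neg (fun h' => h ((eO d).injective h'))]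

theorem hJ_eJ_eJ (i j : Fin d) : hJ σ (eJ i : Fin (d + 1 + d) → K) (eJ j) = 0 := by
  unfold eJ
  rw [hJ_toJ_single, if_neg]
  simp [sw3]

theorem hJ_fJ_fJ (i j : Fin d) : hJ σ (fJ i : Fin (d + 1 + d) → K) (fJ j) = 0 := by
  unfold fJ
  rw [hJ_toJ_single, if_neg]
  simp [sw3]

theorem hJ_eJ_fJ (i j : Fin d) :
    hJ σ (eJ i : Fin (d + 1 + d) → K) (fJ j) = if i = j then 1 else 0 := by
  unfold eJ fJ
  rw [hJ_toJ_single]
  by_cases h : i = j
  · subst h
    rw [if_pos (by simp [sw3]), if_pos rfl, map_one, mul_one]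
  · rw [if_neg (by simp only [sw3, Sum.inr.injEq]; exact fun h' => h h'.symm), if_neg h]

theorem hJ_fJ_eJ (i j : Fin d) :
    hJ σ (fJ i : Fin (d + 1 + d) → K) (eJ j) = if i = j then 1 else 0 := by
  unfold eJ fJ
  rw [hJ_toJ_single]
  by_cases h : i = j
  · subst h
    rw [if_pos (by simp [sw3]), if_pos rfl, map_one, mul_one]
  · rw [if_neg (by simp only [sw3, Sum.inl.injEq]; exact fun h' => h h'.symm), if_neg h]

theorem hJ_dJ_dJ : hJ σ (dJ : Fin (d + 1 + d) → K) dJ = 1 := by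
  unfold dJ
  rw [hJ_toJ_single, if_pos (by simp [sw3]), map_one, mul_one]

theorem hJ_eJ_dJ (i : Fin d) : hJ σ (eJ i : Fin (d + 1 + d) → K) dJ = 0 := by
  unfold eJ dJ
  rw [hJ_toJ_single, if_neg]
  simp [sw3]

theorem hJ_dJ_eJ (i : Fin d) : hJ σ (dJ : Fin (d + 1 + d) → K) (eJ i) = 0 := by
  unfold eJ dJ
  rw [hJ_toJ_single, if_neg]
  simp [sw3]

theorem hJ_fJ_dJ (i : Fin d) : hJ σ (fJ i : Fin (d + 1 + d) → K) dJ = 0 := by
  unfold fJ dJ
  rw [hJ_toJ_single, if_neg]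
  simp [sw3]

theorem hJ_dJ_fJ (i : Fin d) : hJ σ (dJ : Fin (d + 1 + d) → K) (fJ i) = 0 := by
  unfold fJ dJ
  rw [hJ_toJ_single, if_neg]
  simp [sw3]

/-- the coordinates of `y` are its products with the frame -/
theorem hJ_eJ_right (y : Fin (d + 1 + d) → K) (i : Fin d) :
    hJ σ y (eJ i) = y (eO d (Sum.inr i)) := by
  unfold eJ
  rw [hJ_single_right, eO_rev, map_one, mul_one]
  rfl

theorem hJ_fJ_right (y : Fin (d + 1 + d) → K) (i : Fin d) :
    hJ σ y (fJ i) = y (eO d (Sum.inl (Sum.inl i))) := by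
  unfold fJ
  rw [hJ_single_right, eO_rev, map_one, mul_one]
  rfl

theorem hJ_dJ_right (y : Fin (d + 1 + d) → K) :
    hJ σ y dJ = y (eO d (Sum.inl (Sum.inr 0))) := by
  unfold dJ
  rw [hJ_single_right, eO_rev, map_one, mul_one]
  rfl

/-- a vector perpendicular to the whole frame vanishes -/
theorem eq_zero_of_hJ_frame (y : Fin (d + 1 + d) → K)
    (he : ∀ i : Fin d, hJ σ y (eJ i) = 0) (hf : ∀ i : Fin d, hJ σ y (fJ i) = 0)
    (hd : hJ σ y dJ = 0) : y = 0 := by
  funext k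
  obtain ⟨a, rfl⟩ := (eO d).surjective k
  rcases a with (i | z) | i
  · rw [← hJ_fJ_right σ y i, hf i]; rfl
  · have hz : z = 0 := Subsingleton.elim _ _
    subst hz
    rw [← hJ_dJ_right σ y, hd]; rfl
  · rw [← hJ_eJ_right σ y i, he i]; rfl

/-- the expansion of a vector in the frame -/
theorem eq_sum_frame (y : Fin (d + 1 + d) → K) :
    y = ∑ i : Fin d, hJ σ y (fJ i) • (eJ i : Fin (d + 1 + d) → K) + hJ σ y dJ • dJ +
      ∑ i : Fin d, hJ σ y (eJ i) • (fJ i : Fin (d + 1 + d) → K) := by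
  funext k
  obtain ⟨a, rfl⟩ := (eO d).surjective k
  simp only [hJ_eJ_right, hJ_fJ_right, hJ_dJ_right]
  simp only [Pi.add_apply, Finset.sum_apply, Pi.smul_apply, smul_eq_mul, eJ, fJ, dJ,
    Pi.single_apply, EmbeddingLike.apply_eq_iff_eq]
  rcases a with (i | z) | i
  · simp
  · have hz : z = 0 := Subsingleton.elim _ _
    subst hz
    simp
  · simp

end Jmodel

section std

variable {F : Type*} [Field F] [Fintype F] {q : ℕ} (hF : Fintype.card F = q ^ 2) {n : ℕ}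
  (ζ τ : F)

/-- the base change from the antidiagonal to the standard model, as a linear map -/
noncomputable def Qv : (Fin n → F) →ₗ[F] (Fin n → F) := Matrix.mulVecLin (Qmat (frobHom hF) ζ τ)

theorem Qv_apply (x : Fin n → F) : Qv hF ζ τ x = Qmat (frobHom hF) ζ τ *ᵥ x := rfl

variable {ζ τ}

theorem herm_Qv (hζ : ζ * frobHom hF ζ = -1) (hτ : τ + frobHom hF τ = 1) (x y : Fin n → F) :
    Cfsg.hermForm n F q (Qv hF ζ τ x) (Qv hF ζ τ y) = hJ (frobHom hF) x y :=
  hermForm_Qmat hF hζ hτ x y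

theorem Qv_injective (hζ : ζ * frobHom hF ζ = -1) (hτ : τ + frobHom hF τ = 1) :
    Function.Injective (Qv (n := n) hF ζ τ) :=
  (Qv_bijective hF hζ hτ).1

theorem Qv_surjective (hζ : ζ * frobHom hF ζ = -1) (hτ : τ + frobHom hF τ = 1) :
    Function.Surjective (Qv (n := n) hF ζ τ) :=
  (Qv_bijective hF hζ hτ).2

/-- **action transfer**: `suIso.symm g` acts on `Qv x` as `g` acts on `x` -/
theorem av_symm_Qv (hζ : ζ * frobHom hF ζ = -1) (hτ : τ + frobHom hF τ = 1)
    (g : ↥(UJ (frobHom hF) n)) (x : Fin n → F) :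
    Cfsg.Agent.Lib.Helper5.SUGen.av ((suIso hF n hζ hτ).symm g) (Qv hF ζ τ x) =
      Qv hF ζ τ (((g : Matrix.SpecialLinearGroup (Fin n) F) : Matrix (Fin n) (Fin n) F) *ᵥ x) :=
  av_symm_Qmat hF hζ hτ g x

/-- action transfer, with the image named -/
theorem av_symm_Qv_eq (hζ : ζ * frobHom hF ζ = -1) (hτ : τ + frobHom hF τ = 1)
    (g : ↥(UJ (frobHom hF) n)) {x y : Fin n → F}
    (h : ((g : Matrix.SpecialLinearGroup (Fin n) F) : Matrix (Fin n) (Fin n) F) *ᵥ x = y) :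
    Cfsg.Agent.Lib.Helper5.SUGen.av ((suIso hF n hζ hτ).symm g) (Qv hF ζ τ x) = Qv hF ζ τ y := by
  rw [av_symm_Qv, h]

variable {d : ℕ} (ζ τ)

/-- the frame of the standard model -/
noncomputable def EW (i : Fin d) : Fin (d + 1 + d) → F := Qv hF ζ τ (eJ i)

noncomputable def DW : Fin (d + 1 + d) → F := Qv hF ζ τ dJ

noncomputable def FW (i : Fin d) : Fin (d + 1 + d) → F := Qv hF ζ τ (fJ i)

variable {ζ τ}

/-- **the Witt system of the standard model** -/
theorem ws (hζ : ζ * frobHom hF ζ = -1) (hτ : τ + frobHom hF τ = 1) :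
    Cfsg.Agent.Lib.Helper24.SUEnRed.WS q (EW (d := d) hF ζ τ) (FW hF ζ τ) (DW hF ζ τ) where
  EE i j := by unfold EW; rw [herm_Qv hF hζ hτ, hJ_eJ_eJ]
  FF i j := by unfold FW; rw [herm_Qv hF hζ hτ, hJ_fJ_fJ]
  EF i j := by unfold EW FW; rw [herm_Qv hF hζ hτ, hJ_eJ_fJ]
  ED i := by unfold EW DW; rw [herm_Qv hF hζ hτ, hJ_eJ_dJ]
  FD i := by unfold FW DW; rw [herm_Qv hF hζ hτ, hJ_fJ_dJ]
  DD := by unfold DW; rw [herm_Qv hF hζ hτ, hJ_dJ_dJ]
  perp x he hf hd := by
    obtain ⟨y, rfl⟩ := Qv_surjective hF hζ hτ x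
    have hy : y = 0 := by
      refine eq_zero_of_hJ_frame (frobHom hF) y (fun i => ?_) (fun i => ?_) ?_
      · rw [← herm_Qv hF hζ hτ]; exact he i
      · rw [← herm_Qv hF hζ hτ]; exact hf i
      · rw [← herm_Qv hF hζ hτ]; exact hd
    rw [hy, map_zero]

/-- the expansion of a vector of the standard model in the frame -/
theorem eq_sum_frameW (hζ : ζ * frobHom hF ζ = -1) (hτ : τ + frobHom hF τ = 1)
    (x : Fin (d + 1 + d) → F) :
    x = ∑ i : Fin d, Cfsg.hermForm (d + 1 + d) F q x (FW hF ζ τ i) • EW hF ζ τ i +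
      Cfsg.hermForm (d + 1 + d) F q x (DW hF ζ τ) • DW hF ζ τ +
      ∑ i : Fin d, Cfsg.hermForm (d + 1 + d) F q x (EW hF ζ τ i) • FW hF ζ τ i := by
  obtain ⟨y, rfl⟩ := Qv_surjective hF hζ hτ x
  unfold EW FW DW
  simp only [herm_Qv hF hζ hτ]
  conv_lhs => rw [eq_sum_frame (frobHom hF) y]
  simp only [map_add, map_sum, map_smul]

end std

end Cfsg.Agent.Lib.Helper23.SUFrame
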