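import Mathlib
import Cfsg.Agent.Lib.Helper23.SUFrame
import Cfsg.Agent.Lib.Helper13.SU5Asm

/-!
# S2282 (n ≥ 5): the Witt frame of the standard model as a `Helper13.SU5.Witt` (helper23)
-/

set_option autoImplicit false

namespace Cfsg.Agent.Lib.Helper23.SUFrame

open Matrix
open Cfsg.Agent.Lib.Helper16.FusSU
open Cfsg.Agent.Lib.Helper5.HermBridge (frobHom)
open Cfsg.Agent.Lib.Helper4.SU3 (hJ)
open Cfsg.Agent.Lib.Helper26.SUReg

variable {F : Type*} [Field F] [Fintype F] {q : ℕ} (hF : Fintype.card F = q ^ 2) {d : ℕ}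
  {ζ τ : F}

/-- the frame `EW, FW, DW` satisfies helper13's Gram structure -/
theorem wittW (hζ : ζ * frobHom hF ζ = -1) (hτ : τ + frobHom hF τ = 1) :
    Cfsg.Agent.Lib.Helper13.SU5.Witt q d (EW (d := d) hF ζ τ) (FW hF ζ τ) (DW hF ζ τ) where
  ee := (ws hF hζ hτ).EE
  ff := (ws hF hζ hτ).FF
  ef := (ws hF hζ hτ).EF
  dd := (ws hF hζ hτ).DD
  ed := (ws hF hζ hτ).ED
  fd := (ws hF hζ hτ).FD

/-- the `hperp` hypothesis of helper24's `top5` -/
theorem perpW (hζ : ζ * frobHom hF ζ = -1) (hτ : τ + frobHom hF τ = 1)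
    (x : Fin (d + 1 + d) → F)
    (he : ∀ i, Cfsg.hermForm (d + 1 + d) F q x (EW hF ζ τ i) = 0)
    (hf : ∀ i, Cfsg.hermForm (d + 1 + d) F q x (FW hF ζ τ i) = 0)
    (hd : Cfsg.hermForm (d + 1 + d) F q x (DW hF ζ τ) = 0) : x = 0 :=
  (ws hF hζ hτ).perp x he hf hd

end Cfsg.Agent.Lib.Helper23.SUFrame
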