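import Mathlib
import Cfsg.Agent.Lib.Helper23.SUFrame2
import Cfsg.Agent.Lib.Helper26.SURegC
import Cfsg.Agent.Lib.Helper24.SU5Top
import Cfsg.Agent.Lib.Helper6.SUApiB
import Cfsg.Agent.Lib.Helper8.SUField
import Cfsg.Agent.Lib.Helper29.SUWeyl
import Cfsg.Agent.Lib.Helper18.PSUModX

/-!
# S2282, `n = d + 1 + d ≥ 5`: the concrete instantiation in the frozen group (helper23)

`u := suIso.symm u0`, `g := suIso.symm Jw` (so `g u g⁻¹ = suIso.symm w0`), `h := Sg θ (EW 0) (EW 1) s`.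
-/

set_option autoImplicit false

namespace Cfsg.Agent.Lib.Helper23.SU5Concrete

open Matrix
open Cfsg.Agent.Lib.Helper16.FusSU
open Cfsg.Agent.Lib.Helper5.HermBridge
open Cfsg.Agent.Lib.Helper5.SUGen (av av_mul av_inv_av av_av_inv)
open Cfsg.Agent.Lib.Helper4.SU3 (hJ)
open Cfsg.Agent.Lib.Helper26.SUReg
open Cfsg.Agent.Lib.Helper23.SUBridge
open Cfsg.Agent.Lib.Helper23.SUFrame
open Cfsg.Agent.Lib.Helper6.SUApi
open Cfsg.Agent.Lib.Helper8.SUField

variable {F : Type*} [Field F] [Fintype F]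

/-- action transfer for inverses -/
theorem av_symm_inv_Qv {q n : ℕ} (hF : Fintype.card F = q ^ 2) {ζ τ : F}
    (hζ : ζ * frobHom hF ζ = -1) (hτ : τ + frobHom hF τ = 1)
    (g : ↥(UJ (frobHom hF) n)) {x y : Fin n → F}
    (h : (((g⁻¹ : ↥(UJ (frobHom hF) n)) : Matrix.SpecialLinearGroup (Fin n) F) :
      Matrix (Fin n) (Fin n) F) *ᵥ x = y) :
    av ((suIso hF n hζ hτ).symm g)⁻¹ (Qv hF ζ τ x) = Qv hF ζ τ y := by
  rw [← map_inv]
  exact av_symm_Qv_eq hF hζ hτ g⁻¹ h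

/-- **the case `n = d + 1 + d ≥ 5` of S2282** -/
theorem core_ge5 (q : ℕ) (hF : Fintype.card F = q ^ 2) (d : ℕ) (hd : 2 ≤ d) :
    ∃ u g h : ↥(Cfsg.SU (d + 1 + d) F q),
      (IsNilpotent (((u : Matrix.SpecialLinearGroup (Fin (d + 1 + d)) F) :
          Matrix (Fin (d + 1 + d)) (Fin (d + 1 + d)) F) - 1) ∧
        (((u : Matrix.SpecialLinearGroup (Fin (d + 1 + d)) F) :
          Matrix (Fin (d + 1 + d)) (Fin (d + 1 + d)) F) - 1) ^ (d + 1 + d - 1) ≠ 0) ∧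
      Subgroup.closure ({u, g * u * g⁻¹, h * u * h⁻¹} : Set ↥(Cfsg.SU (d + 1 + d) F q)) = ⊤ := by
  classical
  -- constants of the base change
  obtain ⟨ζs, τs, -, hτs, hζs⟩ := Cfsg.Agent.Lib.Helper18.PSUMod.exists_consts hF
  have hσ : ∀ x : F, frobHom hF (frobHom hF x) = x := frob_invol hF
  -- the field data
  have hc1 : (-1 : F) ^ q = -1 := by rw [neg_pow_q hF, one_pow]
  obtain ⟨β, hβtr, hβ⟩ := exists_trace_eq_not_fixed hF (-1 : F) hc1
    (fun _ => neg_ne_zero.2 one_ne_zero)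
  have hα : (1 : F) ≠ 0 := one_ne_zero
  have hαβ : β + β ^ q + (1 : F) * (1 : F) ^ q = 0 := by rw [hβtr, one_pow, mul_one]; ring
  have hrel : β + frobHom hF β + (1 : F) * frobHom hF 1 = 0 := by
    rw [map_one]; show β + β ^ q + 1 * 1 = 0; rw [hβtr]; ring
  obtain ⟨ζ, hζ0, hζq, hζgen⟩ := exists_fixed_gen hF
  have hbne : β - β ^ q ≠ 0 := sub_frob_ne_zero hβ
  obtain ⟨g0, hg0def⟩ : ∃ g0 : F, g0 = ζ / (β - β ^ q) := ⟨_, rfl⟩
  have hg0 : (β - β ^ q) * g0 = ζ := by rw [hg0def]; field_simp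
  have hg0s : g0 ^ q = -g0 := by rw [hg0def]; exact fixed_div_skew hζq (sub_frob_skew hF β)
  obtain ⟨s, hs⟩ := exists_frob_sub_eq hF g0 hg0s
  obtain ⟨θ, hθ0, hθ⟩ := Cfsg.Agent.Lib.Helper29.SUWeyl.exists_skew_ne hF
  -- indices
  obtain ⟨l, hldef⟩ : ∃ l : Fin d, l = ⟨d - 1, by omega⟩ := ⟨_, rfl⟩
  have hl : (l : ℕ) + 1 = d := by rw [hldef]; show d - 1 + 1 = d; omega
  obtain ⟨i0, hi0def⟩ : ∃ i : Fin d, i = ⟨0, by omega⟩ := ⟨_, rfl⟩
  obtain ⟨i1, hi1def⟩ : ∃ i : Fin d, i = ⟨1, by omega⟩ := ⟨_, rfl⟩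
  have hi0 : (i0 : ℕ) = 0 := by rw [hi0def]
  have hi1 : (i1 : ℕ) = (i0 : ℕ) + 1 := by rw [hi0def, hi1def]
  -- the elements
  set u0' : ↥(UJ (frobHom hF) (d + 1 + d)) := u0 (frobHom hF) hσ l hrel with hu0'
  set w0' : ↥(UJ (frobHom hF) (d + 1 + d)) := w0 (frobHom hF) hσ l hrel with hw0'
  set e := (suIso hF (d + 1 + d) hζs hτs).symm with he
  set E := EW (d := d) hF ζs τs with hE
  set Fv := FW (d := d) hF ζs τs with hFv
  set D := DW (d := d) hF ζs τs with hD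
  have hW := wittW (d := d) hF hζs hτs
  have hWS := ws (d := d) hF hζs hτs
  set G : ↥(Cfsg.SU (d + 1 + d) F q) := Sg hF θ (E i0) (E i1) s with hG
  refine ⟨e u0', e (Jw (frobHom hF) d), G,
    reg_symm hF hζs hτs (d + 1 + d - 1) u0' (u0_regular (frobHom hF) hσ l hl hrel hα), ?_⟩
  have hew : e (Jw (frobHom hF) d) * e u0' * (e (Jw (frobHom hF) d))⁻¹ = e w0' := by
    rw [hw0', w0, map_mul, map_mul, map_inv]
  rw [hew]
  set X : Subgroup ↥(Cfsg.SU (d + 1 + d) F q) :=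
    Subgroup.closure ({e u0', e w0', G * e u0' * G⁻¹} : Set ↥(Cfsg.SU (d + 1 + d) F q)) with hX
  have huX : e u0' ∈ X := Subgroup.subset_closure (by simp)
  have hwX : e w0' ∈ X := Subgroup.subset_closure (by simp)
  have hGX : G * e u0' * G⁻¹ ∈ X := Subgroup.subset_closure (by simp)
  -- the third conjugate
  have hu_e0 : av (e u0') (E i0) = E i0 :=
    av_symm_Qv_eq hF hζs hτs u0' (u0_eJ_zero (frobHom hF) hσ l hrel i0 hi0)
  have hu_e1 : av (e u0') (E i1) = E i0 + E i1 := by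
    have h1 := u0_eJ_succ (frobHom hF) hσ l hrel i0 i1 hi1
    rw [u0_eJ_zero (frobHom hF) hσ l hrel i0 hi0] at h1
    have h2 := av_symm_Qv_eq hF hζs hτs u0' h1
    rw [map_add] at h2
    exact h2
  have hconj := Sg_conj_u hF hθ hθ0 (hW.ee i0 i0) (hW.ee i1 i1) (hW.ee i0 i1) (e u0') hu_e0 hu_e1 s
  have hTu : Tu hF (E i0) g0 ∈ X := by
    have h1 : Tu hF (E i0) (frobQ hF s - s) = G * e u0' * G⁻¹ * (e u0')⁻¹ := by
      rw [hG, hconj, mul_inv_cancel_right]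
    have h2 : frobQ hF s - s = g0 := by rw [frobQ_apply]; exact hs
    rw [← h2, h1]
    exact X.mul_mem hGX (X.inv_mem huX)
  -- the abstract theorem
  have hlast : ∀ il : Fin d, il.val + 1 = d → il = l := fun il h => Fin.ext (by omega)
  refine Cfsg.Agent.Lib.Helper24.SU5Top.top5 hF (by omega) (by omega) hd hW
    (perpW hF hζs hτs) huX hwX ?_ ?_ ?_ ?_ hα hαβ hβ (ε := 1) ?_ ?_ ?_ hζgen hg0 hg0s ?_
  · -- hue
    intro i j hij
    have h1 := av_symm_Qv_eq hF hζs hτs u0' (u0_eJ_diff (frobHom hF) hσ l hrel i j hij)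
    rw [map_sub, map_neg] at h1
    exact h1
  · -- hwe
    intro i j hij
    have h1 := av_symm_Qv_eq hF hζs hτs w0' (w0_eJ_succ (frobHom hF) hσ l hl hrel i j hij)
    rw [map_sub] at h1
    exact h1
  · -- huf
    intro i j hij
    have h1 := av_symm_Qv_eq hF hζs hτs u0' (u0_fJ_succ (frobHom hF) hσ l hl hrel i j hij)
    rw [map_sub] at h1
    exact h1
  · -- hwf
    intro i j hij
    have h1 := av_symm_Qv_eq hF hζs hτs w0' (w0_fJ_diff' (frobHom hF) hσ l hrel i j hij)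
    rw [map_sub] at h1
    exact h1
  · -- hwl
    intro il hil
    rw [hlast il hil]
    have h1 := av_symm_inv_Qv hF hζs hτs w0' (w0_inv_eJ_last (frobHom hF) hσ l hl hrel)
    rw [map_add, map_add, map_smul, map_smul] at h1
    rw [one_mul]
    exact h1
  · -- hwp
    intro ip il hip hil
    rw [hlast il hil] at hip ⊢
    have h1 := av_symm_inv_Qv hF hζs hτs w0' (w0_inv_eJ_prev (frobHom hF) hσ l hl hrel ip hip)
    rw [map_add, map_add, map_add, map_smul, map_smul] at h1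
    rw [one_mul]
    exact h1
  · -- hul
    intro ip il hip hil
    rw [hlast il hil] at hip ⊢
    refine ⟨?_, ?_, ?_⟩
    · have h1 := av_symm_inv_Qv hF hζs hτs u0' (u0_inv_eJ_succ (frobHom hF) hσ l hrel ip l hip)
      rw [map_sub] at h1
      exact h1
    · have h1 := av_symm_inv_Qv hF hζs hτs u0' (u0_inv_dJ (frobHom hF) hσ l hl hrel)
      rw [map_sub, map_smul] at h1
      exact h1
    · have h1 := av_symm_inv_Qv hF hζs hτs u0' (u0_inv_fJ_last (frobHom hF) hσ l hl hrel)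
      rw [map_add, map_add, map_smul, map_smul] at h1
      exact h1
  · -- hT
    intro j hj
    have : j = i0 := Fin.ext (by rw [hj, hi0])
    rw [this]
    exact hTu

end Cfsg.Agent.Lib.Helper23.SU5Concrete
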