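import Mathlib
import Cfsg.Agent.Lib.Helper23.SUBridge

/-!
# S2283: the two-conjugate bridge (helper23)

`frozen_of_UJ2`: two conjugate regular unipotent generators of `UJ (frobHom hF) n` give the frozen
conclusion of `S2283` (at `n = 3`) for `Cfsg.SU n F q`.
-/

set_option autoImplicit false

namespace Cfsg.Agent.Lib.Helper23.SUBridge

open Matrix
open Cfsg.Agent.Lib.Helper16.FusSU
open Cfsg.Agent.Lib.Helper5.HermBridge (frobHom)

variable {F : Type*} [Field F] [Fintype F]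

/-- the frozen conclusion of `S2283` (two conjugates, exponent `k`) follows from the same statement
in the antidiagonal model `UJ (frobHom hF) n` -/
theorem frozen_of_UJ2 (q : ℕ) (hF : Fintype.card F = q ^ 2) (n k : ℕ)
    (h : ∃ u g : ↥(UJ (frobHom hF) n),
      (IsNilpotent (((u : Matrix.SpecialLinearGroup (Fin n) F) : Matrix (Fin n) (Fin n) F) - 1) ∧
        (((u : Matrix.SpecialLinearGroup (Fin n) F) : Matrix (Fin n) (Fin n) F) - 1) ^ k ≠ 0) ∧
      Subgroup.closure ({u, g * u * g⁻¹} : Set ↥(UJ (frobHom hF) n)) = ⊤) :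
    ∃ u g : ↥(Cfsg.SU n F q), (IsNilpotent (((u : Matrix.SpecialLinearGroup (Fin n) F) : Matrix (Fin n) (Fin n) F) - 1) ∧ (((u : Matrix.SpecialLinearGroup (Fin n) F) : Matrix (Fin n) (Fin n) F) - 1) ^ k ≠ 0) ∧
      Subgroup.closure ({u, g * u * g⁻¹} : Set ↥(Cfsg.SU n F q)) = ⊤ := by
  obtain ⟨u, g, ⟨hnil, hpow⟩, hcl⟩ := h
  obtain ⟨ζ, τ, -, hτ, hζ⟩ := Cfsg.Agent.Lib.Helper18.PSUMod.exists_consts hF
  have hinv := frob_invol hF
  have hQP : (Qmat (frobHom hF) ζ τ * Pmat (frobHom hF) ζ τ : Matrix (Fin n) (Fin n) F) = 1 :=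
    Qmat_mul_Pmat hinv hζ hτ
  have hPQ : (Pmat (frobHom hF) ζ τ * Qmat (frobHom hF) ζ τ : Matrix (Fin n) (Fin n) F) = 1 :=
    Pmat_mul_Qmat hinv hζ hτ
  set e := (suIso hF n hζ hτ).symm with he
  refine ⟨e u, e g, ⟨?_, ?_⟩, ?_⟩
  · rw [he, suIso_symm_coe]
    exact isNilpotent_conj hQP hPQ hnil
  · rw [he, suIso_symm_coe]
    exact pow_ne_zero_conj hQP hPQ _ hpow
  · have h1 : ({e u, e g * e u * (e g)⁻¹} : Set ↥(Cfsg.SU n F q)) =
        e.toMonoidHom '' ({u, g * u * g⁻¹} : Set ↥(UJ (frobHom hF) n)) := by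
      rw [Set.image_insert_eq, Set.image_singleton]
      simp only [MulEquiv.coe_toMonoidHom, map_mul, map_inv]
    rw [h1, ← MonoidHom.map_closure, hcl, ← MonoidHom.range_eq_map, MonoidHom.range_eq_top]
    exact e.surjective

end Cfsg.Agent.Lib.Helper23.SUBridge
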