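import Mathlib
import Cfsg.Prelude.Def_GeometricClasses
import Cfsg.Agent.Lib.Helper5.UForm

/-!
SUnMax market (helper4), tools for Q1 / Q2 (helper23): a non-degenerate unitary plane over the field with four elements has
exactly two non-isotropic points, and they are orthogonal.
-/

set_option autoImplicit false
set_option linter.unusedSectionVars false
set_option linter.unusedVariables false

namespace Cfsg.Agent.Lib.Helper23.SUMPlane

open Cfsg Cfsg.Geo Matrix Module Cfsg.Agent.Lib.Helper5.UForm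

variable {F : Type*} [Field F] [Fintype F]

/-! ### the field with four elements -/

lemma two_eq_zero_of_card_four (h4 : Fintype.card F = 4) : (2 : F) = 0 := by
  have h : ((Fintype.card F : ℕ) : F) = 0 := Nat.cast_card_eq_zero F
  rw [h4] at h
  have h2 : (2 : F) * 2 = 0 := by
    have : ((4 : ℕ) : F) = 2 * 2 := by norm_num
    rw [← this]
    exact h
  rcases mul_eq_zero.1 h2 with h3 | h3 <;> exact h3

lemma add_self_of_card_four (h4 : Fintype.card F = 4) (x : F) : x + x = 0 := by
  have := two_eq_zero_of_card_four h4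
  calc x + x = 2 * x := by ring
    _ = 0 := by rw [this, zero_mul]

lemma pow_three_of_card_four (h4 : Fintype.card F = 4) {x : F} (hx : x ≠ 0) : x ^ 3 = 1 := by
  have := FiniteField.pow_card_sub_one_eq_one x hx
  rwa [h4] at this

lemma eq_zero_or_one_of_sq (c : F) (h : c ^ 2 = c) : c = 0 ∨ c = 1 := by
  have : c * (c - 1) = 0 := by ring_nf; rw [h]; ring
  rcases mul_eq_zero.1 this with h1 | h1
  · exact Or.inl h1
  · exact Or.inr (sub_eq_zero.1 h1)

/-! ### the plane -/

section plane
variable {n : ℕ} {σ : F ≃+* F} {f : (Fin n → F) → (Fin n → F) → F}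

/-- a non-degenerate unitary plane over `F_4`: orthonormal basis `a, b`; the non-isotropic vectors are the non-zero multiples of
`a` and of `b` -/
theorem plane_four (h4 : Fintype.card F = 4) (hf : IsUnitaryForm σ f) (hσ : ∀ x : F, σ x = x ^ 2)
    {U : Submodule F (Fin n → F)} (hU : ND f U) (hd : Module.finrank F U = 2) :
    ∃ a ∈ U, ∃ b ∈ U, f a a = 1 ∧ f b b = 1 ∧ f a b = 0 ∧ f b a = 0 ∧
      (∀ v ∈ U, v = f v a • a + f v b • b) ∧
      (∀ v ∈ U, f v v ≠ 0 → (v = f v a • a ∧ f v a ≠ 0) ∨ (v = f v b • b ∧ f v b ≠ 0)) := by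
  obtain ⟨a, haU, haa⟩ := exists_norm hf hU (by omega) 1 (map_one σ)
  have ha0 : a ≠ 0 := by
    intro h
    rw [h, u_zero_left hf] at haa
    exact zero_ne_one haa
  have hfr := finrank_inf_pp hf U a
  obtain ⟨b₀, hb₀U', hb₀0⟩ := exists_mem_ne_zero (U := U ⊓ pp hf a) (by omega)
  obtain ⟨hb₀U, hb₀a⟩ := Submodule.mem_inf.mp hb₀U'
  rw [mem_pp] at hb₀a
  -- `U ⊓ a^⊥` is the line of `b₀`
  have hlt : U ⊓ pp hf a < U := by
    refine lt_of_le_of_ne inf_le_left ?_
    intro h
    have : a ∈ U ⊓ pp hf a := by rw [h]; exact haU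
    have := (Submodule.mem_inf.mp this).2
    rw [mem_pp, haa] at this
    exact one_ne_zero this
  have hfr2 : Module.finrank F ↥(U ⊓ pp hf a) < 2 := by
    rw [← hd]
    exact Submodule.finrank_lt_finrank_of_lt hlt
  have hline : U ⊓ pp hf a = Submodule.span F {b₀} := by
    symm
    apply Submodule.eq_of_le_of_finrank_le
    · rw [Submodule.span_le]
      intro x hx
      rw [Set.mem_singleton_iff] at hx
      rw [hx]
      exact hb₀U'
    · rw [finrank_span_singleton hb₀0]
      omega
  have hab₀ : f a b₀ = 0 := u_symm_zero hf hb₀a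
  -- decomposition with `b₀`
  have hdec₀ : ∀ v ∈ U, ∃ y : F, v = f v a • a + y • b₀ := by
    intro v hv
    have h1 : v - f v a • a ∈ U ⊓ pp hf a := by
      refine Submodule.mem_inf.mpr ⟨U.sub_mem hv (U.smul_mem _ haU), ?_⟩
      rw [mem_pp, u_sub_left hf, hf.smul_left, haa, mul_one, sub_self]
    rw [hline, Submodule.mem_span_singleton] at h1
    obtain ⟨y, hy⟩ := h1
    exact ⟨y, by rw [hy]; abel⟩
  -- `f b₀ b₀ ≠ 0`, hence `= 1`
  have hb₀b₀ : f b₀ b₀ ≠ 0 := by
    obtain ⟨x, hxU, hx⟩ := hU b₀ hb₀U hb₀0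
    obtain ⟨y, hy⟩ := hdec₀ x hxU
    intro h0
    apply hx
    rw [hy, hf.add_left, hf.smul_left, hf.smul_left, hab₀, h0, mul_zero, mul_zero, add_zero]
  have hb₀1 : f b₀ b₀ = 1 := by
    have h1 := u_self_fixed hf b₀
    rw [hσ] at h1
    rcases eq_zero_or_one_of_sq _ h1 with h2 | h2
    · exact absurd h2 hb₀b₀
    · exact h2
  have hdec : ∀ v ∈ U, v = f v a • a + f v b₀ • b₀ := by
    intro v hv
    obtain ⟨y, hy⟩ := hdec₀ v hv
    have : f v b₀ = y := by
      conv_lhs => rw [hy]
      rw [hf.add_left, hf.smul_left, hf.smul_left, hab₀, hb₀1, mul_zero, zero_add, mul_one]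
    rw [this]
    exact hy
  refine ⟨a, haU, b₀, hb₀U, haa, hb₀1, hab₀, hb₀a, hdec, ?_⟩
  intro v hv hvv
  have hv' := hdec v hv
  set x := f v a with hx
  set y := f v b₀ with hy
  -- `f v v = x^3 + y^3`
  have hnorm : f v v = x * σ x + y * σ y := by
    conv_lhs => rw [hv']
    simp only [hf.add_left, u_add_right hf, hf.smul_left, u_smul_right hf, haa, hb₀1, hab₀, hb₀a]
    ring
  rw [hσ, hσ] at hnorm
  by_cases hx0 : x = 0
  · right
    have hy0 : y ≠ 0 := by
      intro hy0
      apply hvv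
      rw [hnorm, hx0, hy0]
      ring
    refine ⟨?_, hy0⟩
    rw [hv', hx0, zero_smul, zero_add]
  · by_cases hy0 : y = 0
    · left
      refine ⟨?_, hx0⟩
      rw [hv', hy0, zero_smul, add_zero]
    · exfalso
      apply hvv
      have h1 : x * x ^ 2 = 1 := by
        have := pow_three_of_card_four h4 hx0
        rw [← this]; ring
      have h2 : y * y ^ 2 = 1 := by
        have := pow_three_of_card_four h4 hy0
        rw [← this]; ring
      rw [hnorm, h1, h2]
      exact add_self_of_card_four h4 1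

end plane

end Cfsg.Agent.Lib.Helper23.SUMPlane
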