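import Mathlib
import Cfsg.Agent.Lib.Helper4.SUMDefs
import Cfsg.Agent.Lib.Helper5.UForm
import Cfsg.Agent.Lib.Helper5.HermBridge
import Cfsg.Agent.Lib.Helper23.SUMPlane

/-!
SUnMax market (helper4): leaf Q1 `planes_two_u` (helper23).
-/

set_option autoImplicit false
set_option linter.unusedSectionVars false
set_option linter.unusedVariables false

namespace Cfsg.Agent.Lib.Helper23.SUMLeaf

open Cfsg.Geo Matrix Module Cfsg.Agent.Lib.Helper4.SUM Cfsg.Agent.Lib.Helper5.UForm Cfsg.Agent.Lib.Helper23.SUMPlane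

/-! ### generic: stabiliser of a family of subspaces from an index map -/

section generic
variable {F : Type*} [Field F] {ι : Type} [Fintype ι] [DecidableEq ι]

lemma q1_toLin'_injective (g : GL ι F) : Function.Injective (Matrix.toLin' (g : Matrix ι ι F)) := by
  intro u v h
  have h2 := congrArg (Matrix.toLin' ((g⁻¹ : GL ι F) : Matrix ι ι F)) h
  rw [← LinearMap.comp_apply, ← LinearMap.comp_apply, ← Matrix.toLin'_mul, ← Units.val_mul, inv_mul_cancel,
    Units.val_one, Matrix.toLin'_one] at h2
  exact h2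

/-- if `g` maps every member of an injective family onto a member, it lies in the stabiliser of the family -/
theorem q1_mem_decStab {t : ℕ} {D : Fin t → Submodule F (ι → F)} (hinj : Function.Injective D) (g : GL ι F)
    (h : ∀ k, ∃ l, (D k).map (Matrix.toLin' (g : Matrix ι ι F)) = D l) : g ∈ decompositionStabilizer D := by
  choose τ hτ using h
  have hτinj : Function.Injective τ := by
    intro k k' hkk
    apply hinj
    have h1 : (D k).map (Matrix.toLin' (g : Matrix ι ι F)) = (D k').map (Matrix.toLin' (g : Matrix ι ι F)) := by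
      rw [hτ k, hτ k', hkk]
    exact Submodule.map_injective_of_injective (q1_toLin'_injective g) h1
  refine ⟨Equiv.ofBijective τ (Finite.injective_iff_bijective.mp hτinj), fun i => ?_⟩
  rw [Equiv.ofBijective_apply]
  exact hτ i

lemma q1_map_span_singleton (g : GL ι F) (v : ι → F) :
    (Submodule.span F {v}).map (Matrix.toLin' (g : Matrix ι ι F)) = Submodule.span F {(g : Matrix ι ι F) *ᵥ v} := by
  rw [Submodule.map_span, Set.image_singleton, Matrix.toLin'_apply]

end generic

/-! ### orthonormal frames for a unitary form -/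

section frame
variable {F : Type*} [Field F] {n : ℕ} {σ : F ≃+* F} {f : (Fin n → F) → (Fin n → F) → F}
variable {K : Type} [Fintype K] [DecidableEq K]

lemma q1_sum_left (hf : IsUnitaryForm σ f) (c : K → F) (w : K → (Fin n → F)) (v : Fin n → F) :
    f (∑ k, c k • w k) v = ∑ k, c k * f (w k) v := by
  have h := map_sum (uL hf v) (fun k => c k • w k) Finset.univ
  rw [uL_apply] at h
  rw [h]
  refine Finset.sum_congr rfl (fun k _ => ?_)
  rw [uL_apply, hf.smul_left]

/-- the lines of an orthonormal spanning family form a non-degenerate `1`-decomposition -/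
theorem q1_frame (hf : IsUnitaryForm σ f) (w : K → (Fin n → F))
    (horth : ∀ k k', f (w k) (w k') = if k = k' then 1 else 0)
    (hspan : (⊤ : Submodule F (Fin n → F)) ≤ ⨆ k, Submodule.span F {w k})
    {t' : ℕ} (e : K ≃ Fin t') (h2 : 2 ≤ t') :
    IsNondegenerateMDecomposition f 1 (fun j : Fin t' => Submodule.span F {w (e.symm j)}) ∧
      Function.Injective (fun j : Fin t' => Submodule.span F {w (e.symm j)}) := by
  have hw1 : ∀ k, f (w k) (w k) = 1 := fun k => by rw [horth, if_pos rfl]
  have hw0 : ∀ k, w k ≠ 0 := by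
    intro k h
    have := hw1 k
    rw [h, u_zero_left hf] at this
    exact zero_ne_one this
  have hli : LinearIndependent F (fun j : Fin t' => w (e.symm j)) := by
    rw [Fintype.linearIndependent_iff]
    intro c hc j₀
    have h1 : f (∑ j, c j • w (e.symm j)) (w (e.symm j₀)) = 0 := by rw [hc, u_zero_left hf]
    have h3 : f (∑ j, c j • w (e.symm j)) (w (e.symm j₀)) = ∑ j, c j * f (w (e.symm j)) (w (e.symm j₀)) := by
      have h := map_sum (uL hf (w (e.symm j₀))) (fun j => c j • w (e.symm j)) Finset.univ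
      rw [uL_apply] at h
      rw [h]
      refine Finset.sum_congr rfl (fun j _ => ?_)
      rw [uL_apply, hf.smul_left]
    rw [h3, Finset.sum_eq_single j₀] at h1
    · rw [hw1, mul_one] at h1
      exact h1
    · intro j _ hj
      rw [horth, if_neg, mul_zero]
      intro h
      exact hj (e.symm.injective h)
    · intro h
      exact absurd (Finset.mem_univ _) h
  refine ⟨⟨⟨h2, Nat.one_pos, fun j => finrank_span_singleton (hw0 _), hli.iSupIndep_span_singleton, ?_⟩, ?_, ?_⟩, ?_⟩
  · apply top_le_iff.1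
    refine hspan.trans ?_
    apply iSup_le
    intro k
    have : Submodule.span F {w k} = (fun j : Fin t' => Submodule.span F {w (e.symm j)}) (e k) := by
      simp only [Equiv.symm_apply_apply]
    rw [this]
    exact le_iSup (fun j : Fin t' => Submodule.span F {w (e.symm j)}) (e k)
  · intro j u hu hu0
    rw [Submodule.mem_span_singleton] at hu
    obtain ⟨c, rfl⟩ := hu
    have hc : c ≠ 0 := by
      intro h
      apply hu0
      rw [h, zero_smul]
    refine ⟨⟨w (e.symm j), Submodule.mem_span_singleton_self _, ?_⟩, ⟨w (e.symm j), Submodule.mem_span_singleton_self _, ?_⟩⟩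
    · rw [u_smul_right hf, hw1, mul_one]
      intro h
      exact hc ((map_eq_zero σ).1 h)
    · rw [hf.smul_left, hw1, mul_one]
      exact hc
  · intro j j' hjj u hu v hv
    rw [Submodule.mem_span_singleton] at hu hv
    obtain ⟨c, rfl⟩ := hu
    obtain ⟨d, rfl⟩ := hv
    rw [hf.smul_left, u_smul_right hf, horth, if_neg, mul_zero, mul_zero]
    intro h
    exact hjj (e.symm.injective h)
  · intro j j' hjj
    by_contra hne
    have h1 : w (e.symm j) ∈ Submodule.span F {w (e.symm j')} := by
      have : Submodule.span F {w (e.symm j)} = Submodule.span F {w (e.symm j')} := hjj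
      rw [← this]
      exact Submodule.mem_span_singleton_self _
    rw [Submodule.mem_span_singleton] at h1
    obtain ⟨c, hc⟩ := h1
    have h2 := hw1 (e.symm j)
    conv at h2 => lhs; arg 1; rw [← hc]
    rw [hf.smul_left, horth, if_neg, mul_zero] at h2
    · exact zero_ne_one h2
    · intro h
      exact hne (e.symm.injective h).symm

end frame

/-! ### Q1 -/

variable {n : ℕ} {F : Type*} [Field F] [Fintype F] {q : ℕ}

/-- Q1. -/
theorem planes_two_u (hF : Fintype.card F = q ^ 2) (hq : q = 2) {t : ℕ} {D : Fin t → Submodule F (Fin n → F)}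
    (hD : IsNondegenerateMDecomposition (Cfsg.hermForm n F q) 2 D) :
    ∃ (t' : ℕ) (D' : Fin t' → Submodule F (Fin n → F)),
      IsNondegenerateMDecomposition (Cfsg.hermForm n F q) 1 D' ∧
      decompositionStabilizer D ⊓ Cfsg.GU n F q ≤ decompositionStabilizer D' := by
  classical
  subst hq
  have h4 : Fintype.card F = 4 := by rw [hF]; norm_num
  have hf : IsUnitaryForm (Cfsg.Agent.Lib.Helper5.HermBridge.frobQ hF) (Cfsg.hermForm n F 2) :=
    Cfsg.Agent.Lib.Helper5.HermBridge.herm_unitary hF
  have hσ : ∀ x : F, Cfsg.Agent.Lib.Helper5.HermBridge.frobQ hF x = x ^ 2 := fun x => rfl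
  have hND : ∀ i, ND (Cfsg.hermForm n F 2) (D i) := fun i u hu hu0 => (hD.nondegenerate i u hu hu0).1
  have hpl := fun i => plane_four h4 hf hσ (hND i) (hD.decomp.finrank_eq i)
  choose a haU b hbU haa hbb hab hba hdec hcls using hpl
  set w : Fin t × Fin 2 → (Fin n → F) := fun k => if k.2 = 0 then a k.1 else b k.1 with hw
  have hw0 : ∀ i, w (i, 0) = a i := fun i => by simp [hw]
  have hw1 : ∀ i, w (i, 1) = b i := fun i => by simp [hw]
  have hwU : ∀ k, w k ∈ D k.1 := by
    intro k
    simp only [hw]
    split_ifs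
    · exact haU _
    · exact hbU _
  have horth : ∀ k k', Cfsg.hermForm n F 2 (w k) (w k') = if k = k' then 1 else 0 := by
    rintro ⟨i, ε⟩ ⟨i', ε'⟩
    by_cases hi : i = i'
    · subst hi
      fin_cases ε <;> fin_cases ε'
      · simp only [Fin.zero_eta, hw0, if_true, haa]
      · have : ((i, (0 : Fin 2)) : Fin t × Fin 2) ≠ (i, 1) := by
          intro h; cases h
        simp only [Fin.zero_eta, Fin.mk_one, hw0, hw1, hab, if_neg this]
      · have : ((i, (1 : Fin 2)) : Fin t × Fin 2) ≠ (i, 0) := by
          intro h; cases h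
        simp only [Fin.zero_eta, Fin.mk_one, hw0, hw1, hba, if_neg this]
      · simp only [Fin.mk_one, hw1, if_true, hbb]
    · have hne : ((i, ε) : Fin t × Fin 2) ≠ (i', ε') := by
        intro h
        exact hi (congrArg Prod.fst h)
      rw [if_neg hne]
      exact hD.orthogonal i i' hi _ (hwU (i, ε)) _ (hwU (i', ε'))
  have hspan : (⊤ : Submodule F (Fin n → F)) ≤ ⨆ k, Submodule.span F {w k} := by
    rw [← hD.decomp.iSup_eq_top]
    apply iSup_le
    intro i v hv
    rw [hdec i v hv]
    apply Submodule.add_mem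
    · apply Submodule.smul_mem
      have h1 : Submodule.span F {w (i, 0)} ≤ ⨆ k, Submodule.span F {w k} :=
        le_iSup (fun k => Submodule.span F {w k}) (i, 0)
      apply h1
      rw [hw0]
      exact Submodule.mem_span_singleton_self _
    · apply Submodule.smul_mem
      have h1 : Submodule.span F {w (i, 1)} ≤ ⨆ k, Submodule.span F {w k} :=
        le_iSup (fun k => Submodule.span F {w k}) (i, 1)
      apply h1
      rw [hw1]
      exact Submodule.mem_span_singleton_self _
  have ht2 : 2 ≤ t * 2 := by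
    have := hD.decomp.two_le
    omega
  obtain ⟨hdecomp, hinj⟩ := q1_frame hf w horth hspan (finProdFinEquiv : Fin t × Fin 2 ≃ Fin (t * 2)) ht2
  refine ⟨t * 2, _, hdecomp, ?_⟩
  rintro g ⟨⟨σp, hσp⟩, hgU⟩
  apply q1_mem_decStab hinj
  intro j
  obtain ⟨⟨i, ε⟩, hk⟩ : ∃ k, (finProdFinEquiv : Fin t × Fin 2 ≃ Fin (t * 2)).symm j = k := ⟨_, rfl⟩
  -- `g (w k)` is a non-isotropic vector of `D (σp i)`
  have hgw : (g : Matrix (Fin n) (Fin n) F) *ᵥ w (i, ε) ∈ D (σp i) := by
    rw [← hσp i, ← Matrix.toLin'_apply]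
    exact Submodule.mem_map_of_mem (hwU (i, ε))
  have hgn : Cfsg.hermForm n F 2 ((g : Matrix (Fin n) (Fin n) F) *ᵥ w (i, ε))
      ((g : Matrix (Fin n) (Fin n) F) *ᵥ w (i, ε)) ≠ 0 := by
    have h1 : Cfsg.hermForm n F 2 ((g : Matrix (Fin n) (Fin n) F) *ᵥ w (i, ε))
        ((g : Matrix (Fin n) (Fin n) F) *ᵥ w (i, ε)) = Cfsg.hermForm n F 2 (w (i, ε)) (w (i, ε)) := hgU _ _
    rw [h1, horth, if_pos rfl]
    exact one_ne_zero
  simp only [hk]
  rw [q1_map_span_singleton]
  rcases hcls (σp i) _ hgw hgn with ⟨h1, h2⟩ | ⟨h1, h2⟩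
  · refine ⟨finProdFinEquiv (σp i, 0), ?_⟩
    simp only [Equiv.symm_apply_apply]
    rw [h1, hw0, Submodule.span_singleton_smul_eq (IsUnit.mk0 _ h2)]
  · refine ⟨finProdFinEquiv (σp i, 1), ?_⟩
    simp only [Equiv.symm_apply_apply]
    rw [h1, hw1, Submodule.span_singleton_smul_eq (IsUnit.mk0 _ h2)]

end Cfsg.Agent.Lib.Helper23.SUMLeaf
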