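import Mathlib
import Cfsg.Prelude.Def_GeometricClasses
import Cfsg.Agent.Lib.Helper5.UForm
import Cfsg.Agent.Lib.Helper7.AschForms
import Cfsg.Agent.Lib.Helper9.TensSwap

/-!
SUnMax market (helper4), tools for Q2 (helper23): pure tensors `a ⊗ y` inside a tensor form structure
`IsTensorFormStructure σ f f₁ f₂ e P` for forms that are linear / `σ`-semilinear.
-/

set_option autoImplicit false
set_option linter.unusedSectionVars false
set_option linter.unusedVariables false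

namespace Cfsg.Agent.Lib.Helper23.SUMTens

open Cfsg Cfsg.Geo Matrix Module
open scoped Kronecker

variable {F : Type*} [Field F] {n n₁ n₂ : ℕ}

/-- the pure tensor `a ⊗ y` as a coordinate vector -/
def tp (a : Fin n₁ → F) (y : Fin n₂ → F) : Fin n₁ × Fin n₂ → F := fun p => a p.1 * y p.2

/-- `y ↦ P (a ⊗ y)` as a linear map -/
def tpL (e : Fin n ≃ Fin n₁ × Fin n₂) (P : GL (Fin n) F) (a : Fin n₁ → F) :
    (Fin n₂ → F) →ₗ[F] (Fin n → F) where
  toFun y := (P : Matrix (Fin n) (Fin n) F) *ᵥ (tp a y ∘ e)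
  map_add' y y' := by
    rw [← Matrix.mulVec_add]
    congr 1
    funext k
    simp only [tp, Function.comp_apply, Pi.add_apply]
    ring
  map_smul' c y := by
    rw [RingHom.id_apply, ← Matrix.mulVec_smul]
    congr 1
    funext k
    simp only [tp, Function.comp_apply, Pi.smul_apply, smul_eq_mul]
    ring

lemma tpL_apply (e : Fin n ≃ Fin n₁ × Fin n₂) (P : GL (Fin n) F) (a : Fin n₁ → F) (y : Fin n₂ → F) :
    tpL e P a y = (P : Matrix (Fin n) (Fin n) F) *ᵥ (tp a y ∘ e) := rfl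

lemma tp_smul_left (c : F) (a : Fin n₁ → F) (y : Fin n₂ → F) : tp (c • a) y = tp a (c • y) := by
  funext p
  simp only [tp, Pi.smul_apply, smul_eq_mul]
  ring

lemma tpL_smul_left (e : Fin n ≃ Fin n₁ × Fin n₂) (P : GL (Fin n) F) (c : F) (a : Fin n₁ → F) (y : Fin n₂ → F) :
    tpL e P (c • a) y = tpL e P a (c • y) := by
  rw [tpL_apply, tpL_apply, tp_smul_left]

/-- Kronecker products act factorwise on pure tensors -/
lemma kron_mulVec_tp (A : Matrix (Fin n₁) (Fin n₁) F) (B : Matrix (Fin n₂) (Fin n₂) F)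
    (a : Fin n₁ → F) (y : Fin n₂ → F) : (A ⊗ₖ B) *ᵥ tp a y = tp (A *ᵥ a) (B *ᵥ y) := by
  funext p
  simp only [Matrix.mulVec, dotProduct, tp, Matrix.kroneckerMap_apply]
  rw [Fintype.sum_prod_type, Finset.sum_mul_sum]
  refine Finset.sum_congr rfl (fun i _ => ?_)
  refine Finset.sum_congr rfl (fun l _ => ?_)
  ring

lemma reindex_mulVec_comp (e : Fin n ≃ Fin n₁ × Fin n₂) (M : Matrix (Fin n₁ × Fin n₂) (Fin n₁ × Fin n₂) F)
    (x : Fin n₁ × Fin n₂ → F) :
    (Matrix.reindex e.symm e.symm M) *ᵥ (x ∘ e) = (M *ᵥ x) ∘ e := by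
  funext k
  simp only [Matrix.mulVec, dotProduct, Matrix.reindex_apply, Matrix.submatrix_apply, Equiv.symm_symm,
    Function.comp_apply]
  exact Equiv.sum_comp e (fun p => M (e k) p * x p)

/-- an element of the tensor product subgroup acts factorwise -/
lemma mulVec_tpL (e : Fin n ≃ Fin n₁ × Fin n₂) (P g : GL (Fin n) F) (A : GL (Fin n₁) F) (B : GL (Fin n₂) F)
    (h : ((P⁻¹ * g * P : GL (Fin n) F) : Matrix (Fin n) (Fin n) F) = Matrix.reindex e.symm e.symm
        ((A : Matrix (Fin n₁) (Fin n₁) F) ⊗ₖ (B : Matrix (Fin n₂) (Fin n₂) F)))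
    (a : Fin n₁ → F) (y : Fin n₂ → F) :
    (g : Matrix (Fin n) (Fin n) F) *ᵥ tpL e P a y =
      tpL e P ((A : Matrix (Fin n₁) (Fin n₁) F) *ᵥ a) ((B : Matrix (Fin n₂) (Fin n₂) F) *ᵥ y) := by
  have h1 : (g : Matrix (Fin n) (Fin n) F) * (P : Matrix (Fin n) (Fin n) F) =
      (P : Matrix (Fin n) (Fin n) F) * ((P⁻¹ * g * P : GL (Fin n) F) : Matrix (Fin n) (Fin n) F) := by
    rw [← Units.val_mul, ← Units.val_mul]
    congr 1
    group
  rw [tpL_apply, Matrix.mulVec_mulVec, h1, h, ← Matrix.mulVec_mulVec, reindex_mulVec_comp, kron_mulVec_tp, tpL_apply]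

/-! ### the form on pure tensors -/

section form
variable {σ : F ≃+* F} {f : (Fin n → F) → (Fin n → F) → F}
  {f₁ : (Fin n₁ → F) → (Fin n₁ → F) → F} {f₂ : (Fin n₂ → F) → (Fin n₂ → F) → F}

lemma rep_unitary {m : ℕ} {h : (Fin m → F) → (Fin m → F) → F} (hh : IsUnitaryForm σ h) (u v : Fin m → F) :
    h u v = ∑ a, ∑ b, u a * gramMatrix h a b * σ (v b) := by
  have := Cfsg.Agent.Lib.Helper7.AschLeaf.rep_of (σ : F →+* F) h hh.add_left hh.smul_left
    (fun v x y => Cfsg.Agent.Lib.Helper5.UForm.u_add_right hh v x y)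
    (fun c v x => Cfsg.Agent.Lib.Helper5.UForm.u_smul_right hh c v x) u v
  rw [this]
  simp only [dotProduct, Matrix.mulVec, Cfsg.Agent.Lib.Helper7.AschLeaf.vmap, Finset.mul_sum]
  refine Finset.sum_congr rfl (fun a _ => ?_)
  refine Finset.sum_congr rfl (fun b _ => ?_)
  simp only [Cfsg.Agent.Lib.Helper7.AschLeaf.gramF, Matrix.of_apply, gramMatrix, RingHom.coe_coe]
  ring

/-- the form of the tensor structure on pure tensors -/
theorem form_tpL (hf₁ : IsUnitaryForm σ f₁) (hf₂ : IsUnitaryForm σ f₂)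
    (e : Fin n ≃ Fin n₁ × Fin n₂) (P : GL (Fin n) F) (c : F)
    (hc : ∀ x y : Fin n₁ × Fin n₂ → F,
      f ((P : Matrix (Fin n) (Fin n) F) *ᵥ (x ∘ e)) ((P : Matrix (Fin n) (Fin n) F) *ᵥ (y ∘ e)) =
        c * formOfGram (fun x : F => σ x) (gramMatrix f₁ ⊗ₖ gramMatrix f₂) x y)
    (a a' : Fin n₁ → F) (y y' : Fin n₂ → F) :
    f (tpL e P a y) (tpL e P a' y') = c * (f₁ a a' * f₂ y y') := by
  rw [tpL_apply, tpL_apply, hc, rep_unitary hf₁, rep_unitary hf₂]
  congr 1
  unfold formOfGram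
  rw [Fintype.sum_prod_type]
  simp only [Fintype.sum_prod_type, tp, Matrix.kroneckerMap_apply, map_mul]
  rw [Finset.sum_mul_sum]
  refine Finset.sum_congr rfl (fun i _ => ?_)
  refine Finset.sum_congr rfl (fun l _ => ?_)
  rw [Finset.sum_mul_sum]
  refine Finset.sum_congr rfl (fun i' _ => ?_)
  refine Finset.sum_congr rfl (fun l' _ => ?_)
  ring

end form

end Cfsg.Agent.Lib.Helper23.SUMTens
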