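import Mathlib
import Cfsg.Agent.Lib.Helper4.SUMDefs
import Cfsg.Agent.Lib.Helper5.UForm
import Cfsg.Agent.Lib.Helper5.HermBridge
import Cfsg.Agent.Lib.Helper9.TensSwap
import Cfsg.Agent.Lib.Helper23.SUMPlane
import Cfsg.Agent.Lib.Helper23.SUMQ1
import Cfsg.Agent.Lib.Helper23.SUMTens

/-!
SUnMax market (helper4): leaf Q2 `tensor_two_u` (helper23).
-/

set_option autoImplicit false
set_option linter.unusedSectionVars false
set_option linter.unusedVariables false

namespace Cfsg.Agent.Lib.Helper23.SUMLeaf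

open Cfsg.Geo Matrix Module Cfsg.Agent.Lib.Helper4.SUM Cfsg.Agent.Lib.Helper5.UForm Cfsg.Agent.Lib.Helper23.SUMPlane
  Cfsg.Agent.Lib.Helper23.SUMTens
open scoped Kronecker

variable {n : ℕ} {F : Type*} [Field F] [Fintype F] {q : ℕ}

/-- Q2. -/
theorem tensor_two_u (hF : Fintype.card F = q ^ 2) (hq : q = 2) {n₂ : ℕ} (h2 : 1 ≤ n₂) (e : Fin n ≃ Fin 2 × Fin n₂)
    (P : GL (Fin n) F) (f₁ : (Fin 2 → F) → (Fin 2 → F) → F) (f₂ : (Fin n₂ → F) → (Fin n₂ → F) → F)
    (hf₁ : IsUnitaryFormPow q f₁) (hf₂ : IsUnitaryFormPow q f₂)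
    (hT : IsTensorFormStructure (fun x : F => x ^ q) (Cfsg.hermForm n F q) f₁ f₂ e P) :
    ∃ D' : Fin 2 → Submodule F (Fin n → F), IsNondegenerateMDecomposition (Cfsg.hermForm n F q) n₂ D' ∧
      tensorProductSubgroup 2 n₂ e P ⊓ Cfsg.GU n F q ≤ decompositionStabilizer D' := by
  classical
  subst hq
  have h4 : Fintype.card F = 4 := by rw [hF]; norm_num
  have hf : IsUnitaryForm (Cfsg.Agent.Lib.Helper5.HermBridge.frobQ hF) (Cfsg.hermForm n F 2) :=
    Cfsg.Agent.Lib.Helper5.HermBridge.herm_unitary hF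
  have hσ : ∀ x : F, Cfsg.Agent.Lib.Helper5.HermBridge.frobQ hF x = x ^ 2 := fun x => rfl
  have hu₁ : IsUnitaryForm (Cfsg.Agent.Lib.Helper5.HermBridge.frobQ hF) f₁ :=
    ⟨hf.ne_refl, hf.involutive, hf₁.add_left, hf₁.smul_left, fun v w => hf₁.herm v w, hf₁.nondegenerate⟩
  have hu₂ : IsUnitaryForm (Cfsg.Agent.Lib.Helper5.HermBridge.frobQ hF) f₂ :=
    ⟨hf.ne_refl, hf.involutive, hf₂.add_left, hf₂.smul_left, fun v w => hf₂.herm v w, hf₂.nondegenerate⟩
  obtain ⟨c, hc0, hc⟩ := hT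
  have K1 : ∀ (a a' : Fin 2 → F) (y y' : Fin n₂ → F),
      Cfsg.hermForm n F 2 (tpL e P a y) (tpL e P a' y') = c * (f₁ a a' * f₂ y y') :=
    form_tpL hu₁ hu₂ e P c hc
  -- the orthonormal basis of the first factor
  have hfr2 : Module.finrank F (⊤ : Submodule F (Fin 2 → F)) = 2 := by
    rw [finrank_top, Module.finrank_fin_fun]
  obtain ⟨a₁, -, a₂, -, h11, h22, h12, h21, -, hcls⟩ := plane_four h4 hu₁ hσ (ND_top hu₁) hfr2
  set α : Fin 2 → (Fin 2 → F) := fun i => if i = 0 then a₁ else a₂ with hα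
  have hα0 : α 0 = a₁ := by simp [hα]
  have hα1 : α 1 = a₂ := by simp [hα]
  have hαn : ∀ i, f₁ (α i) (α i) = 1 := by
    intro i
    fin_cases i
    · simp only [Fin.zero_eta, hα0, h11]
    · simp only [Fin.mk_one, hα1, h22]
  have hαo : ∀ i j, i ≠ j → f₁ (α i) (α j) = 0 := by
    intro i j hij
    fin_cases i <;> fin_cases j
    · exact absurd rfl hij
    · simp only [Fin.zero_eta, Fin.mk_one, hα0, hα1, h12]
    · simp only [Fin.zero_eta, Fin.mk_one, hα0, hα1, h21]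
    · exact absurd rfl hij
  set D' : Fin 2 → Submodule F (Fin n → F) := fun i => LinearMap.range (tpL e P (α i)) with hD'
  have hmemD : ∀ i y, tpL e P (α i) y ∈ D' i := fun i y => LinearMap.mem_range_self _ _
  -- injectivity of `y ↦ P (α i ⊗ y)`
  have hinjL : ∀ i, Function.Injective (tpL e P (α i)) := by
    intro i
    rw [← LinearMap.ker_eq_bot, LinearMap.ker_eq_bot']
    intro y hy
    apply u_eq_zero_of_forall_left hu₂
    intro y'
    have h1 := K1 (α i) (α i) y' y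
    rw [hy, u_zero_right hf, hαn, one_mul] at h1
    rcases mul_eq_zero.1 h1.symm with h | h
    · exact absurd h hc0
    · exact h
  have hfr : ∀ i, Module.finrank F (D' i) = n₂ := by
    intro i
    rw [hD']
    simp only
    rw [LinearMap.finrank_range_of_inj (hinjL i), Module.finrank_fin_fun]
  have hnd : ∀ i, IsNondegenerateOn (Cfsg.hermForm n F 2) (D' i) := by
    rintro i w ⟨y, rfl⟩ hw0
    have hy0 : y ≠ 0 := by
      intro h
      apply hw0
      rw [h, map_zero]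
    obtain ⟨⟨y', hy'⟩, ⟨y'', hy''⟩⟩ := hu₂.nondegenerate y hy0
    refine ⟨⟨tpL e P (α i) y', hmemD i y', ?_⟩, ⟨tpL e P (α i) y'', hmemD i y'', ?_⟩⟩
    · rw [K1, hαn, one_mul]
      exact mul_ne_zero hc0 hy'
    · rw [K1, hαn, one_mul]
      exact mul_ne_zero hc0 hy''
  have horth : ∀ i j, i ≠ j → AreOrthogonalFor (Cfsg.hermForm n F 2) (D' i) (D' j) := by
    rintro i j hij _ ⟨y, rfl⟩ _ ⟨y', rfl⟩
    rw [K1, hαo i j hij, zero_mul, mul_zero]
  have hdisj : Disjoint (D' 0) (D' 1) := by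
    rw [Submodule.disjoint_def]
    intro v hv0 hv1
    by_contra hne
    obtain ⟨⟨x, hx, hxv⟩, -⟩ := hnd 0 v hv0 hne
    exact hxv (horth 0 1 zero_ne_one x hx v hv1)
  have hn : n = n₂ + n₂ := by
    have := Fintype.card_congr e
    simp only [Fintype.card_fin, Fintype.card_prod] at this
    omega
  have hsup : D' 0 ⊔ D' 1 = ⊤ := by
    apply Submodule.eq_top_of_disjoint _ _ _ hdisj
    rw [hfr, hfr, Module.finrank_fin_fun]
    omega
  have hdecomp : IsMDecomposition n₂ D' := by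
    refine ⟨le_refl 2, h2, hfr, ?_, ?_⟩
    · refine (iSupIndep_pair (i := (0 : Fin 2)) (j := 1) zero_ne_one (fun k => ?_)).2 hdisj
      fin_cases k
      · left; rfl
      · right; rfl
    · apply top_le_iff.1
      rw [← hsup]
      exact sup_le (le_iSup D' 0) (le_iSup D' 1)
  have hDinj : Function.Injective D' := by
    have hne : D' 0 ≠ D' 1 := by
      intro h
      rw [← h, disjoint_self] at hdisj
      have := hfr 0
      rw [hdisj, finrank_bot] at this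
      omega
    intro i j hij
    fin_cases i <;> fin_cases j
    · rfl
    · exact absurd hij hne
    · exact absurd hij.symm hne
    · rfl
  refine ⟨D', ⟨hdecomp, hnd, horth⟩, ?_⟩
  rintro g ⟨hgT, hgU⟩
  obtain ⟨A, B, hAB⟩ := (Cfsg.Agent.Lib.Helper9.TensSwap.mem_tensorProductSubgroup_iff e P g).1 hgT
  have hact := mulVec_tpL e P g A B hAB
  -- similarity of the first factor
  have hsim : ∀ (a a' : Fin 2 → F) (y y' : Fin n₂ → F),
      f₁ ((A : Matrix (Fin 2) (Fin 2) F) *ᵥ a) ((A : Matrix (Fin 2) (Fin 2) F) *ᵥ a') *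
        f₂ ((B : Matrix (Fin n₂) (Fin n₂) F) *ᵥ y) ((B : Matrix (Fin n₂) (Fin n₂) F) *ᵥ y') = f₁ a a' * f₂ y y' := by
    intro a a' y y'
    have h1 : Cfsg.hermForm n F 2 ((g : Matrix (Fin n) (Fin n) F) *ᵥ tpL e P a y)
        ((g : Matrix (Fin n) (Fin n) F) *ᵥ tpL e P a' y') = Cfsg.hermForm n F 2 (tpL e P a y) (tpL e P a' y') :=
      hgU _ _
    rw [hact, hact, K1, K1] at h1
    exact mul_left_cancel₀ hc0 h1
  set y₀ : Fin n₂ → F := Pi.single (⟨0, h2⟩ : Fin n₂) 1 with hy₀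
  have hy₀0 : y₀ ≠ 0 := by
    intro h
    have := congrFun h ⟨0, h2⟩
    rw [hy₀, Pi.single_eq_same] at this
    exact one_ne_zero this
  obtain ⟨y₀', hν⟩ := (hu₂.nondegenerate y₀ hy₀0).2
  have hcase : ∀ i, ∃ (l : Fin 2) (x : F), x ≠ 0 ∧ (A : Matrix (Fin 2) (Fin 2) F) *ᵥ α i = x • α l := by
    intro i
    have h1 := hsim (α i) (α i) y₀ y₀'
    rw [hαn, one_mul] at h1
    have hne : f₁ ((A : Matrix (Fin 2) (Fin 2) F) *ᵥ α i) ((A : Matrix (Fin 2) (Fin 2) F) *ᵥ α i) ≠ 0 := by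
      intro h0
      rw [h0, zero_mul] at h1
      exact hν h1.symm
    rcases hcls _ Submodule.mem_top hne with ⟨h3, h4'⟩ | ⟨h3, h4'⟩
    · exact ⟨0, _, h4', by rw [hα0]; exact h3⟩
    · exact ⟨1, _, h4', by rw [hα1]; exact h3⟩
  apply q1_mem_decStab hDinj
  intro i
  obtain ⟨l, x, hx0, hAx⟩ := hcase i
  refine ⟨l, ?_⟩
  apply Submodule.eq_of_le_of_finrank_eq
  · rintro _ ⟨v, ⟨y, rfl⟩, rfl⟩
    rw [Matrix.toLin'_apply, hact, hAx, tpL_smul_left]
    exact hmemD l _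
  · rw [← (Submodule.equivMapOfInjective _ (q1_toLin'_injective g) (D' i)).finrank_eq, hfr, hfr]

end Cfsg.Agent.Lib.Helper23.SUMLeaf
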