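/-
helper23: S4395 leaf B2A (helper21's market, `notes/S4395_leaves.lean`): every commutator of `P` is a
commutator with `x₀`.
-/
import Mathlib
import Cfsg.Prelude.Def_Transfer
import Cfsg.Agent.Lib.Helper21.SchDefs
import Cfsg.Agent.Lib.Helper23.SchCalc

set_option autoImplicit false
universe u v
open Cfsg
open Cfsg.Agent.Lib.Helper21.Sch

namespace Cfsg.Agent.Lib.Helper23.SchB2A

open Cfsg.Agent.Lib.Helper23.SchCalc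

section B
variable {p : ℕ} [Fact p.Prime] {K : Type*} [Field K] {ω : K} {X : Type*} [Group X]

/-- the set of `v` such that all commutators `[x, x']` with `π x = v` lie in `Γ` -/
def goodSet (𝔣 : Frame p ω X) (hω0 : ω ≠ 0) (x₀ : X) (hx₀ : x₀ ∈ 𝔣.P) : AddSubgroup K where
  carrier := {v | ∀ (x : X) (hx : x ∈ 𝔣.P), pv 𝔣 x hx = v → ∀ x' ∈ 𝔣.P,
    x * x' * x⁻¹ * x'⁻¹ ∈ Gam 𝔣 x₀}
  zero_mem' := by
    intro x hx hv x' hx'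
    have h : x * x' * x⁻¹ * x'⁻¹ = 1 := by
      rw [ker_comm 𝔣 hx hv hx']; group
    rw [h]
    exact Gam_one 𝔣 x₀
  add_mem' := by
    intro v w hv hw x hx hxv x' hx'
    obtain ⟨a, ha, hav⟩ := pv_surj 𝔣 v
    obtain ⟨b, hb, hbw⟩ := pv_surj 𝔣 w
    have h1 : pv 𝔣 x hx = pv 𝔣 (a * b) (𝔣.P.mul_mem ha hb) := by
      rw [pv_mul 𝔣 ha hb, hav, hbw, hxv]
    rw [comm_congr 𝔣 hx (𝔣.P.mul_mem ha hb) hx' hx' h1 rfl, comm_mul_left 𝔣 hx' ha hb]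
    exact Gam_mul 𝔣 hx₀ (hv a ha hav x' hx') (hw b hb hbw x' hx')
  neg_mem' := by
    intro v hv x hx hxv x' hx'
    obtain ⟨a, ha, hav⟩ := pv_surj 𝔣 v
    have h1 : pv 𝔣 x hx = pv 𝔣 a⁻¹ (𝔣.P.inv_mem ha) := by
      rw [pv_inv 𝔣 ha, hav, hxv]
    rw [comm_congr 𝔣 hx (𝔣.P.inv_mem ha) hx' hx' h1 rfl, comm_inv_left 𝔣 hx' ha]
    exact Gam_inv 𝔣 hx₀ (hv a ha hav x' hx')

/-- **TAG B2A** every commutator of `P` is a commutator with `x₀`.  `β(πx, πx') := [x,x']` is well defined (kernel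
central), bi-additive, `β(ωv, ωw) = β(v,w)` (`ker_fixed`), so `{v | ∀ w, β(v,w) ∈ β(1,K)}` is an additive subgroup
containing `1`, closed under `ω •` (`β(ωv,w) = β(v, ω⁻¹w)`): it is `⊤` by `hspan`. -/
theorem comm_mem_range [CharP K p] (𝔣 : Frame p ω X) (hω0 : ω ≠ 0)
    (hspan : ∀ S : AddSubgroup K, (1 : K) ∈ S → (∀ v ∈ S, ω * v ∈ S) → S = ⊤)
    (x₀ : X) (hx₀ : x₀ ∈ 𝔣.P) (h1 : Multiplicative.toAdd (𝔣.π ⟨x₀, hx₀⟩) = 1) :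
    ∀ x ∈ 𝔣.P, ∀ x' ∈ 𝔣.P, ∃ x'' ∈ 𝔣.P, x * x' * x⁻¹ * x'⁻¹ = x₀ * x'' * x₀⁻¹ * x''⁻¹ := by
  have htop : goodSet 𝔣 hω0 x₀ hx₀ = ⊤ := by
    apply hspan
    · -- `1`
      intro x hx hxv x' hx'
      have h2 : pv 𝔣 x hx = pv 𝔣 x₀ hx₀ := hxv.trans h1.symm
      rw [comm_congr 𝔣 hx hx₀ hx' hx' h2 rfl]
      exact ⟨x', hx', rfl⟩
    · -- closed under `ω •`
      intro v hv x hx hxv x' hx'
      obtain ⟨a, ha, hav⟩ := pv_surj 𝔣 v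
      obtain ⟨b, hb, rfl⟩ := conj_surj 𝔣 hω0 hx'
      have h2 : pv 𝔣 x hx = pv 𝔣 (𝔣.y * a * 𝔣.y⁻¹) (𝔣.y_norm a ha) := by
        rw [pv_conj 𝔣 ha, hav, hxv]
      rw [comm_congr 𝔣 hx (𝔣.y_norm a ha) hx' hx' h2 rfl, comm_fixed 𝔣 ha hb]
      exact hv a ha hav b hb
  intro x hx x' hx'
  have hmem : pv 𝔣 x hx ∈ goodSet 𝔣 hω0 x₀ hx₀ := by
    rw [htop]; exact AddSubgroup.mem_top _
  exact hmem x hx rfl x' hx'

end B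

end Cfsg.Agent.Lib.Helper23.SchB2A
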