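/-
helper23: Schur's bound on the order of a Sylow p-subgroup of a finite linear group with p-rational
character (Blichfeldt-type argument).
-/
import Mathlib
import Cfsg.Agent.Lib.Helper23.GaloisChar
import Cfsg.Agent.Lib.Helper24.GaloisNorm
import Cfsg.Agent.Lib.Helper24.LocalRing
import Cfsg.Agent.Lib.Helper6.BrouePuig
import Cfsg.Agent.Lib.Helper6.Knoerr
import Cfsg.Agent.Lib.Lead.CharEquiv
import Cfsg.Agent.Lib.Lead.CharDecomp
import Cfsg.Agent.Lib.Lead.CharOrtho
import Cfsg.Agent.Lib.Lead.BlockBasic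

set_option autoImplicit false

namespace Cfsg.Agent.Lib.Helper23.SchurBound

open Cfsg Cfsg.Agent.CharLib Cfsg.Agent.Lib.Helper24


/-- Sum of the powers `μ ^ k` over the `k < p ^ a` prime to `p`, for a `p ^ a`-th root of unity. -/
theorem sum_pow_filter_not_dvd (p a : ℕ) (hp : p.Prime) (ha : 1 ≤ a) (μ : ℂ)
    (hμ : μ ^ (p ^ a) = 1) :
    ∑ k ∈ (Finset.range (p ^ a)).filter (fun k => ¬ p ∣ k), μ ^ k =
      (if μ = 1 then (p ^ a : ℂ) else 0) - (if μ ^ p = 1 then (p ^ (a - 1) : ℂ) else 0) := by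
  have hpa : p ^ a = p * p ^ (a - 1) := by rw [← pow_succ', Nat.sub_add_cancel ha]
  have h1 : ∑ k ∈ Finset.range (p ^ a), μ ^ k = if μ = 1 then (p ^ a : ℂ) else 0 := by
    split_ifs with h
    · subst h; simp
    · rw [geom_sum_eq h, hμ, sub_self, zero_div]
  have h2 : ∑ k ∈ (Finset.range (p ^ a)).filter (fun k => p ∣ k), μ ^ k =
      if μ ^ p = 1 then (p ^ (a - 1) : ℂ) else 0 := by
    have himg : (Finset.range (p ^ a)).filter (fun k => p ∣ k) =
        (Finset.range (p ^ (a - 1))).image (fun j => p * j) := by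
      ext k
      simp only [Finset.mem_filter, Finset.mem_range, Finset.mem_image]
      constructor
      · rintro ⟨hk, j, rfl⟩
        refine ⟨j, ?_, rfl⟩
        rw [hpa] at hk
        exact Nat.lt_of_mul_lt_mul_left hk
      · rintro ⟨j, hj, rfl⟩
        refine ⟨?_, dvd_mul_right p j⟩
        rw [hpa]
        exact Nat.mul_lt_mul_of_pos_left hj hp.pos
    rw [himg, Finset.sum_image]
    · simp_rw [pow_mul]
      have hμp : (μ ^ p) ^ (p ^ (a - 1)) = 1 := by rw [← pow_mul, ← hpa]; exact hμ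
      split_ifs with h
      · rw [h]; simp
      · rw [geom_sum_eq h, hμp, sub_self, zero_div]
    · intro x _ y _ hxy
      exact Nat.eq_of_mul_eq_mul_left hp.pos hxy
  have h3 := Finset.sum_filter_add_sum_filter_not (Finset.range (p ^ a)) (fun k => p ∣ k)
    (fun k => μ ^ k)
  rw [h1, h2] at h3
  rw [← h3]
  ring

/-- A `p`-rational character is invariant under `x ↦ x ^ k` on `p`-elements, for `k` prime to `p`. -/
theorem apply_pow_eq_of_pRational {G : Type*} [Group G] [Finite G] {χ : G → ℂ}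
    (hχ : IsCharacter G χ) (p : ℕ) (hp : p.Prime) (r : ℕ) (hr : 0 < r) (hpr : ¬ p ∣ r)
    (hrat : ∀ g : G, χ g ∈ IntermediateField.adjoin ℚ
      ({Complex.exp (2 * Real.pi * Complex.I / r)} : Set ℂ))
    (a : ℕ) (x : G) (hx : x ^ (p ^ a) = 1) (k : ℕ) (hk : ¬ p ∣ k) : χ (x ^ k) = χ x := by
  have hco : Nat.Coprime (p ^ a) r := Nat.Coprime.pow_left a ((Nat.Prime.coprime_iff_not_dvd hp).mpr hpr)
  obtain ⟨K, hK1, hK2⟩ := Nat.chineseRemainder hco k 1
  have hKr : Nat.Coprime K r := by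
    have := hK2.gcd_eq
    rw [Nat.Coprime, this]
    exact Nat.gcd_one_left r
  have hKp : Nat.Coprime K (p ^ a) := by
    have := hK1.gcd_eq
    rw [Nat.Coprime, this]
    exact Nat.Coprime.pow_right a ((Nat.coprime_comm.mp ((Nat.Prime.coprime_iff_not_dvd hp).mpr hk)))
  have hKco : Nat.Coprime K (p ^ a * r) := Nat.Coprime.mul_right hKp hKr
  haveI : NeZero (p ^ a * r) := ⟨(Nat.mul_pos (pow_pos hp.pos a) hr).ne'⟩
  obtain ⟨τ, hτ⟩ := exists_ringEquiv_complex_pow (p ^ a * r) K hKco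
  set ζ : ℂ := Complex.exp (2 * Real.pi * Complex.I / r) with hζdef
  have hζ : ζ ^ r = 1 := (Complex.isPrimitiveRoot_exp r hr.ne').pow_eq_one
  have hτζ : τ ζ = ζ := by
    rw [hτ ζ (by rw [mul_comm, pow_mul, hζ, one_pow]), pow_eq_pow_mod K hζ, hK2, ← pow_eq_pow_mod 1 hζ,
      pow_one]
  have hfix : ∀ z ∈ IntermediateField.adjoin ℚ ({ζ} : Set ℂ), τ z = z := by
    intro z hz
    induction hz using IntermediateField.adjoin_induction with
    | mem y hy =>
      rw [Set.mem_singleton_iff] at hy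
      rw [hy, hτζ]
    | algebraMap q => exact map_ratCast τ q
    | add y w _ _ h1 h2 => rw [map_add, h1, h2]
    | inv y _ h1 => rw [map_inv₀, h1]
    | mul y w _ _ h1 h2 => rw [map_mul, h1, h2]
  obtain ⟨n, ρ, rfl⟩ := hχ
  obtain ⟨ι, hι, μ, h1, h2, h3, h4⟩ := Cfsg.Agent.Lib.Helper24.exists_roots_char_pow ρ x
  have hxK : x ^ K = x ^ k := by
    have hord : orderOf x ∣ p ^ a := orderOf_dvd_of_pow_eq_one hx
    rw [pow_eq_pow_iff_modEq]
    exact hK1.of_dvd hord
  have h5 : ρ.character x = ∑ i, μ i := by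
    have := h4 1
    simpa using this
  rw [← hxK, h4 K, ← hfix _ (hrat x), h5, map_sum]
  apply Finset.sum_congr rfl
  intro i _
  rw [hτ]
  have hord : orderOf x ∣ p ^ a := orderOf_dvd_of_pow_eq_one hx
  obtain ⟨c, hc⟩ := hord
  rw [hc, pow_mul, pow_mul, h1 i, one_pow, one_pow]


/-- A rational number which is an algebraic integer (in `ℂ`) is an integer. -/
theorem exists_int_of_isIntegral_ratCast {q : ℚ} (h : IsIntegral ℤ ((q : ℂ))) : ∃ z : ℤ, q = z := by
  have h0 : (algebraMap ℚ ℂ) q = (q : ℂ) := eq_ratCast (algebraMap ℚ ℂ) q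
  rw [← h0] at h
  have h1 : IsIntegral ℤ q := (isIntegral_algebraMap_iff (algebraMap ℚ ℂ).injective).mp h
  obtain ⟨z, hz⟩ := IsIntegrallyClosed.isIntegral_iff.mp h1
  exact ⟨z, by rw [← hz]; simp⟩

/-- An integer lying in the local ideal at a `p`-modular ideal is divisible by `p`. -/
theorem dvd_of_memLocalIdeal_intCast {M : Ideal AlgInt} {p : ℕ} (hM : IsPModular p M) (w : ℤ)
    (h : MemLocalIdeal M ((w : ℤ) : ℂ)) : (p : ℤ) ∣ w := by
  haveI hprime : M.IsPrime := isPrime_of_isPModular hM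
  have h1 : MemLocalIdeal M (((w : AlgInt)) : ℂ) := by
    have : (((w : AlgInt)) : ℂ) = (w : ℂ) := by simp
    rw [this]; exact h
  rw [memLocalIdeal_coe_iff] at h1
  by_contra hnd
  have hnd' : ¬ p ∣ w.natAbs := by
    intro hd
    exact hnd (Int.natCast_dvd.mpr hd)
  have h2 := natCast_not_mem_of_not_dvd hM hnd'
  apply h2
  rcases Int.natAbs_eq w with hw | hw
  · have : ((w.natAbs : ℕ) : AlgInt) = (w : AlgInt) := by
      conv_rhs => rw [hw]
      simp
    rw [this]; exact h1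
  · have : ((w.natAbs : ℕ) : AlgInt) = -(w : AlgInt) := by
      conv_rhs => rw [hw]
      simp
    rw [this]; exact M.neg_mem h1

theorem value_form {G : Type*} [Group G] [Finite G] {χ : G → ℂ} (hχ : IsCharacter G χ) (p : ℕ)
    [hpp : Fact p.Prime] (a : ℕ) (ha : 1 ≤ a) (x : G) (hx : x ^ (p ^ a) = 1)
    (hinv : ∀ k, ¬ p ∣ k → χ (x ^ k) = χ x) (n : ℕ) (hn : χ 1 = n) (hne : χ x ≠ χ 1) :
    ∃ j : ℕ, 1 ≤ j ∧ j ≤ n / (p - 1) ∧ χ x = (n : ℂ) - p * j := by
  classical
  have hp : p.Prime := hpp.out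
  obtain ⟨M, hM⟩ := Cfsg.Agent.Lib.Helper6.exists_isPModular p
  haveI hprime : M.IsPrime := isPrime_of_isPModular hM
  obtain ⟨N, ρ, rfl⟩ := hχ
  obtain ⟨ι, hι, μ, h1, h2, h3, h4⟩ := Cfsg.Agent.Lib.Helper24.exists_roots_char_pow ρ x
  have hord : orderOf x ∣ p ^ a := orderOf_dvd_of_pow_eq_one hx
  have hμpa : ∀ i, μ i ^ (p ^ a) = 1 := by
    intro i
    obtain ⟨c, hc⟩ := hord
    rw [hc, pow_mul, h1 i, one_pow]
  have h5 : ρ.character x = ∑ i, μ i := by
    have := h4 1
    simpa using this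
  have h6 : (n : ℂ) = Fintype.card ι := by
    have := h4 0
    simp only [pow_zero, Finset.sum_const, Finset.card_univ, nsmul_eq_mul, mul_one] at this
    rw [← hn, this]
  have hnι : n = Fintype.card ι := by exact_mod_cast h6
  set m₀ : ℕ := (Finset.univ.filter (fun i => μ i = 1)).card with hm₀
  set m₁ : ℕ := (Finset.univ.filter (fun i => μ i ^ p = 1)).card with hm₁
  have hm01 : m₀ ≤ m₁ := by
    apply Finset.card_le_card
    intro i hi
    rw [Finset.mem_filter] at hi ⊢
    exact ⟨hi.1, by rw [hi.2, one_pow]⟩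
  have hm1n : m₁ ≤ n := by
    rw [hnι]
    exact Finset.card_le_univ _
  set F := (Finset.range (p ^ a)).filter (fun k => ¬ p ∣ k) with hF
  have hpa : (p : ℂ) ^ a = p * (p : ℂ) ^ (a - 1) := by rw [← pow_succ', Nat.sub_add_cancel ha]
  have hp0 : (p : ℂ) ^ (a - 1) ≠ 0 := pow_ne_zero _ (Nat.cast_ne_zero.mpr hp.ne_zero)
  have hFcard : (F.card : ℂ) = (p : ℂ) ^ a - (p : ℂ) ^ (a - 1) := by
    have := sum_pow_filter_not_dvd p a hp ha 1 (one_pow _)
    simpa using this
  have hsum : ∑ k ∈ F, ρ.character (x ^ k) = (p : ℂ) ^ a * m₀ - (p : ℂ) ^ (a - 1) * m₁ := by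
    simp_rw [h4]
    rw [Finset.sum_comm]
    simp_rw [hF, sum_pow_filter_not_dvd p a hp ha _ (hμpa _)]
    rw [Finset.sum_sub_distrib, Finset.sum_ite, Finset.sum_ite]
    simp only [Finset.sum_const, Finset.sum_const_zero, add_zero, nsmul_eq_mul]
    rw [hm₀, hm₁]
    ring
  have hsum2 : ∑ k ∈ F, ρ.character (x ^ k) = (F.card : ℂ) * ρ.character x := by
    rw [Finset.sum_congr rfl (fun k hk => hinv k (Finset.mem_filter.mp hk).2), Finset.sum_const,
      nsmul_eq_mul]
  have hmain : ((p : ℂ) - 1) * ρ.character x = p * m₀ - m₁ := by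
    have h7 : (p : ℂ) ^ (a - 1) * (((p : ℂ) - 1) * ρ.character x - (p * m₀ - m₁)) = 0 := by
      have := hsum2.symm.trans hsum
      rw [hFcard, hpa] at this
      linear_combination this
    rcases mul_eq_zero.mp h7 with h | h
    · exact absurd h hp0
    · exact sub_eq_zero.mp h
  -- integrality
  have hint : IsIntegral ℤ (ρ.character x) := by
    rw [h5]
    apply IsIntegral.sum
    intro i _
    apply IsIntegral.of_pow (pow_pos hp.pos a)
    rw [hμpa i]
    exact isIntegral_one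
  have hp1 : ((p : ℂ) - 1) ≠ 0 := by
    intro h
    rw [sub_eq_zero] at h
    have h' : (p : ℕ) = 1 := by exact_mod_cast h
    exact hp.one_lt.ne' h'
  set q : ℚ := ((p : ℚ) * m₀ - m₁) / ((p : ℚ) - 1) with hq
  have hqc : (q : ℂ) = ρ.character x := by
    rw [hq]
    push_cast
    rw [div_eq_iff hp1]
    linear_combination -hmain
  obtain ⟨z, hz⟩ := exists_int_of_isIntegral_ratCast (q := q) (by rw [hqc]; exact hint)
  have hzc : ρ.character x = (z : ℂ) := by
    rw [← hqc, hz]; simp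
  -- congruence
  have hcong : MemLocalIdeal M (((z - n : ℤ)) : ℂ) := by
    have : (((z - n : ℤ)) : ℂ) = ∑ i, (μ i - 1) := by
      push_cast
      rw [← hzc, h5, Finset.sum_sub_distrib, h6]
      simp
    rw [this]
    apply sum_memLocalIdeal
    intro i _
    exact Cfsg.Agent.Lib.Helper6.BrouePuig.memLocalIdeal_sub_one_of_pow_eq_one hM (hμpa i)
  have hdvd : (p : ℤ) ∣ z - n := dvd_of_memLocalIdeal_intCast hM _ hcong
  -- integer relation
  have hmainZ : ((p : ℤ) - 1) * z = p * m₀ - m₁ := by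
    have := hmain
    rw [hzc] at this
    exact_mod_cast this
  have hp1Z : (0 : ℤ) < (p : ℤ) - 1 := by
    have : (1 : ℤ) < p := by exact_mod_cast hp.one_lt
    linarith
  have hzle : z ≤ n := by
    have h8 : ((p : ℤ) - 1) * z ≤ ((p : ℤ) - 1) * n := by
      rw [hmainZ]
      have h9 : (m₀ : ℤ) ≤ m₁ := by exact_mod_cast hm01
      have h10 : (m₁ : ℤ) ≤ n := by exact_mod_cast hm1n
      nlinarith
    exact le_of_mul_le_mul_left h8 hp1Z
  have hzne : z ≠ n := by
    intro h
    apply hne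
    rw [hzc, hn, h]
    simp
  have hzlt : z < n := lt_of_le_of_ne hzle hzne
  obtain ⟨t, ht⟩ := hdvd
  have ht' : (n : ℤ) - z = p * (-t) := by linarith
  have hppos : (0 : ℤ) < p := by exact_mod_cast hp.pos
  have htneg : 0 < -t := by
    have : (0 : ℤ) < p * (-t) := by rw [← ht']; linarith
    by_contra hneg
    push Not at hneg
    have : (p : ℤ) * (-t) ≤ 0 := mul_nonpos_of_nonneg_of_nonpos hppos.le hneg
    linarith
  obtain ⟨j, hj⟩ := Int.eq_ofNat_of_zero_le htneg.le
  have hj1 : 1 ≤ j := by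
    have : (0 : ℤ) < j := by rw [← hj]; exact htneg
    exact_mod_cast this
  refine ⟨j, hj1, ?_, ?_⟩
  · rw [Nat.le_div_iff_mul_le (Nat.sub_pos_of_lt hp.one_lt)]
    have h11 : ((p : ℤ) - 1) * (p * j) ≤ p * n := by
      have h12 : ((p : ℤ) - 1) * (p * j) = ((p : ℤ) - 1) * n - ((p : ℤ) - 1) * z := by
        rw [← hj, ← ht']; ring
      rw [h12, hmainZ]
      have h9 : (0 : ℤ) ≤ m₀ := by positivity
      have h10 : (m₁ : ℤ) ≤ n := by exact_mod_cast hm1n
      nlinarith
    have h13 : (j : ℤ) * ((p : ℤ) - 1) ≤ n := by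
      have : (p : ℤ) * ((j : ℤ) * ((p : ℤ) - 1)) ≤ p * n := by
        calc (p : ℤ) * ((j : ℤ) * ((p : ℤ) - 1)) = ((p : ℤ) - 1) * (p * j) := by ring
          _ ≤ p * n := h11
      exact le_of_mul_le_mul_left this hppos
    have h14 : ((p - 1 : ℕ) : ℤ) = (p : ℤ) - 1 := by
      rw [Nat.cast_sub hp.one_lt.le]; simp
    have : ((j * (p - 1) : ℕ) : ℤ) ≤ (n : ℤ) := by
      rw [Nat.cast_mul, h14]; exact h13
    exact_mod_cast this
  · rw [hzc]
    have : (z : ℤ) = n - p * j := by rw [← hj]; linarith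
    rw [this]; push_cast; ring


theorem isCharacter_pow {H : Type*} [Group H] {ψ : H → ℂ} (hψ : IsCharacter H ψ) (k : ℕ) :
    IsCharacter H (fun x => ψ x ^ k) := by
  induction k with
  | zero =>
    have : (fun x : H => ψ x ^ 0) = (1 : H → ℂ) := by funext x; simp
    rw [this]; exact isCharacter_one
  | succ k ih =>
    have : (fun x : H => ψ x ^ (k + 1)) = (fun x => ψ x ^ k) * ψ := by
      funext x; simp [pow_succ]
    rw [this]; exact IsCharacter.mul ih hψ

theorem sum_character_eq {H : Type*} [Group H] [Fintype H] {ψ : H → ℂ} (hψ : IsCharacter H ψ) :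
    ∃ m : ℕ, ∑ x : H, ψ x = (Nat.card H : ℂ) * m := by
  obtain ⟨m, hm⟩ := IsCharacter.classInner_nat hψ (isCharacter_one (G := H))
  refine ⟨m, ?_⟩
  rw [← hm]
  unfold classInner
  have hne : (Nat.card H : ℂ) ≠ 0 := Nat.cast_ne_zero.mpr Nat.card_pos.ne'
  rw [← mul_assoc, mul_inv_cancel₀ hne, one_mul]
  apply Finset.sum_congr rfl
  intro x _
  simp

/-- Blichfeldt-type divisibility: the sum over the group of an integer polynomial in a character
is divisible by the group order. -/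
theorem card_dvd_sum_aeval {H : Type*} [Group H] [Fintype H] {ψ : H → ℂ} (hψ : IsCharacter H ψ)
    (f : Polynomial ℤ) : ∃ z : ℤ, ∑ x : H, Polynomial.aeval (ψ x) f = (Nat.card H : ℂ) * z := by
  induction f using Polynomial.induction_on' with
  | add f g hf hg =>
    obtain ⟨z, hz⟩ := hf
    obtain ⟨w, hw⟩ := hg
    refine ⟨z + w, ?_⟩
    simp only [map_add, Finset.sum_add_distrib, hz, hw]
    push_cast; ring
  | monomial k c =>
    obtain ⟨m, hm⟩ := sum_character_eq (isCharacter_pow hψ k)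
    refine ⟨c * m, ?_⟩
    simp only [Polynomial.aeval_monomial]
    rw [← Finset.mul_sum, hm]
    push_cast
    simp only [eq_intCast]
    ring


/-- **Schur's bound**: a finite group with a faithful `p`-rational character of degree `n` has
Sylow `p`-subgroups of order `p ^ a` with `a ≤ ∑ i, n / ((p - 1) p ^ i)`. -/
theorem schur_bound {G : Type*} [Group G] [Finite G] (p : ℕ) (hp : p.Prime) (χ : G → ℂ)
    (hχ : IsCharacter G χ) (hfaith : ∀ g : G, χ g = χ 1 → g = 1)
    (hrat : ∃ r : ℕ, 0 < r ∧ ¬ p ∣ r ∧ ∀ g : G, χ g ∈ IntermediateField.adjoin ℚ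
      ({Complex.exp (2 * Real.pi * Complex.I / r)} : Set ℂ))
    (n : ℕ) (hn : charDegree χ = n) :
    (Nat.card G).factorization p ≤ ∑ i ∈ Finset.range (n + 1), n / ((p - 1) * p ^ i) := by
  classical
  haveI : Fact p.Prime := ⟨hp⟩
  obtain ⟨r, hr, hpr, hrat⟩ := hrat
  set a := (Nat.card G).factorization p with ha
  rcases Nat.eq_zero_or_pos a with h0 | hpos
  · rw [h0]; exact Nat.zero_le _
  obtain ⟨d, hd⟩ := IsCharacter.apply_one hχ
  have hdn : d = n := by rw [← hn, charDegree_eq_of_apply_one hd]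
  subst hdn
  let P0 : Sylow p G := default
  set P : Subgroup G := (P0 : Subgroup G) with hPdef
  have hPcard : Nat.card P = p ^ a := Sylow.card_eq_multiplicity P0
  let _ : Fintype P := Fintype.ofFinite P
  set ψ : P → ℂ := fun x => χ x with hψ
  have hψchar : IsCharacter P ψ := IsCharacter.restrict hχ P
  set N := d / (p - 1) with hN
  set f : Polynomial ℤ :=
    ∏ j ∈ Finset.Ico 1 (N + 1), (Polynomial.X - Polynomial.C ((d : ℤ) - p * j)) with hf
  obtain ⟨z, hz⟩ := card_dvd_sum_aeval hψchar f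
  have heval : ∀ x : P, Polynomial.aeval (ψ x) f =
      ∏ j ∈ Finset.Ico 1 (N + 1), (ψ x - ((d : ℂ) - p * j)) := by
    intro x
    rw [hf, map_prod]
    apply Finset.prod_congr rfl
    intro j _
    simp
  have hzero : ∀ x : P, x ≠ 1 → Polynomial.aeval (ψ x) f = 0 := by
    intro x hx
    rw [heval]
    have hxpow : (x : G) ^ (p ^ a) = 1 := by
      have h1 : x ^ Nat.card P = 1 := pow_card_eq_one'
      rw [hPcard] at h1
      have := congrArg Subtype.val h1
      simpa using this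
    have hinv : ∀ k, ¬ p ∣ k → χ ((x : G) ^ k) = χ x := fun k hk =>
      apply_pow_eq_of_pRational hχ p hp r hr hpr hrat a x hxpow k hk
    have hne : χ (x : G) ≠ χ 1 := by
      intro h
      apply hx
      exact Subtype.ext (hfaith _ h)
    obtain ⟨j, hj1, hj2, hj3⟩ := value_form hχ p a hpos (x : G) hxpow hinv d hd hne
    apply Finset.prod_eq_zero (Finset.mem_Ico.mpr ⟨hj1, Nat.lt_succ_of_le hj2⟩)
    rw [hψ]
    simp only
    rw [hj3]; ring
  have hone : Polynomial.aeval (ψ 1) f = (p : ℂ) ^ N * (N.factorial : ℂ) := by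
    rw [heval]
    have h1 : ψ 1 = d := hd
    rw [h1]
    simp only [sub_sub_cancel]
    rw [Finset.prod_mul_distrib, Finset.prod_const, Nat.card_Ico, Nat.add_sub_cancel]
    congr 1
    rw [← Finset.prod_Ico_id_eq_factorial]
    push_cast; rfl
  have hsum : ∑ x : P, Polynomial.aeval (ψ x) f = (p : ℂ) ^ N * (N.factorial : ℂ) := by
    rw [Finset.sum_eq_single (1 : P)]
    · exact hone
    · intro x _ hx; exact hzero x hx
    · intro h; exact absurd (Finset.mem_univ _) h
  rw [hsum, hPcard] at hz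
  have hzZ : ((p ^ N * N.factorial : ℕ) : ℤ) = (p ^ a : ℕ) * z := by
    have : (((p ^ N * N.factorial : ℕ) : ℤ) : ℂ) = (((p ^ a : ℕ) * z : ℤ) : ℂ) := by
      push_cast; rw [hz]; push_cast; ring
    exact_mod_cast this
  have hdvd : p ^ a ∣ p ^ N * N.factorial := by
    have : ((p ^ a : ℕ) : ℤ) ∣ ((p ^ N * N.factorial : ℕ) : ℤ) := ⟨z, hzZ⟩
    exact Int.natCast_dvd_natCast.mp this
  have hpos' : p ^ N * N.factorial ≠ 0 :=
    Nat.mul_ne_zero (pow_pos hp.pos N).ne' (Nat.factorial_ne_zero N)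
  have hle : a ≤ (p ^ N * N.factorial).factorization p :=
    (hp.pow_dvd_iff_le_factorization hpos').mp hdvd
  have hlog : Nat.log p N < d + 1 := by
    have h1 : Nat.log p N ≤ N := Nat.log_le_self p N
    have h2 : N ≤ d := Nat.div_le_self d (p - 1)
    omega
  have hfac : (p ^ N * N.factorial).factorization p = N + ∑ i ∈ Finset.Ico 1 (d + 1), N / p ^ i := by
    rw [Nat.factorization_mul (pow_pos hp.pos N).ne' (Nat.factorial_ne_zero N)]
    rw [Finsupp.add_apply, hp.factorization_pow, Finsupp.single_eq_same,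
      Nat.factorization_def _ hp, padicValNat_factorial hlog]
  have hfinal : ∑ i ∈ Finset.range (d + 1), d / ((p - 1) * p ^ i) =
      N + ∑ i ∈ Finset.Ico 1 (d + 1), N / p ^ i := by
    rw [Finset.range_eq_Ico, Finset.sum_eq_sum_Ico_succ_bot (Nat.succ_pos d)]
    congr 1
    · simp [hN]
    · apply Finset.sum_congr rfl
      intro i _
      rw [hN, Nat.div_div_eq_div_mul]
  rw [hfinal, ← hfac]
  exact hle

end Cfsg.Agent.Lib.Helper23.SchurBound
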