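/-
helper23: relative version of the two-normal-subgroups lemma (S4400) inside a subgroup `S₀`, and the
theorem on `S₀ = C_S(Z(P))` in `2`-groups of sectional rank at most four (S4401).
-/
import Mathlib
import Cfsg.Prelude.Def_CaseTheorems
import Cfsg.Agent.Lib.Helper12.Basic
import Cfsg.Agent.Lib.Helper9.FStar2
import Cfsg.Agent.Lib.Helper23.SectionalRank

set_option autoImplicit false

namespace Cfsg.Agent.Lib.Helper23

open Cfsg Cfsg.Agent.Lib.Helper12

/-- the centre of `P`, viewed in the ambient group -/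
abbrev zOf {S : Type*} [Group S] (P : Subgroup S) : Subgroup S :=
  (Subgroup.center ↥P).map P.subtype

theorem mem_zOf_iff {S : Type*} [Group S] (P : Subgroup S) (w : S) :
    w ∈ zOf P ↔ w ∈ P ∧ ∀ x ∈ P, x * w = w * x := by
  unfold zOf
  rw [Cfsg.Agent.Lib.Helper9.map_subtype_center, Subgroup.mem_inf, Subgroup.mem_centralizer_iff]
  rfl

theorem card_zOf {S : Type*} [Group S] (P : Subgroup S) :
    Nat.card ↥(zOf P) = Nat.card ↥(Subgroup.center ↥P) :=
  Subgroup.card_map_of_injective (Subgroup.subtype_injective P)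

/-- the standing hypotheses on a subgroup `P` of `S₀` -/
structure Good {S : Type*} [Group S] (S₀ P : Subgroup S) : Prop where
  le : P ≤ S₀
  norm : ∀ s ∈ S₀, ∀ x ∈ P, s * x * s⁻¹ ∈ P
  nc : ¬ IsMulCommutative ↥P
  card : Nat.card ↥(Subgroup.center ↥P) = 2
  cent : ∀ s ∈ S₀, ∀ w ∈ zOf P, s * w = w * s

/-- relative version of `map_center_le_of_normal` -/
theorem zOf_le_of_normalized {S : Type*} [Group S] [Finite S] (h2 : IsPGroup 2 S)
    (P : Subgroup S) (hZP : Nat.card ↥(Subgroup.center ↥P) = 2)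
    (N : Subgroup S) (hNn : ∀ x ∈ P, ∀ n ∈ N, x * n * x⁻¹ ∈ N) (hNP : N ≤ P) (hN : N ≠ ⊥) :
    zOf P ≤ N := by
  have : Fact (Nat.Prime 2) := ⟨Nat.prime_two⟩
  have hnorm : (N.subgroupOf P).Normal := by
    constructor
    intro n hn g
    rw [Subgroup.mem_subgroupOf] at hn ⊢
    simp only [Subgroup.coe_mul, Subgroup.coe_inv]
    exact hNn g g.2 n hn
  have hN' : N.subgroupOf P ≠ ⊥ := by
    intro h
    rw [Subgroup.subgroupOf_eq_bot, disjoint_iff, inf_eq_left.mpr hNP] at h
    exact hN h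
  obtain ⟨x, hxN, hx1, hxc⟩ :=
    Cfsg.Agent.Lib.Helper12.exists_ne_one_mem_center_of_normal (h2.to_subgroup P)
      (N.subgroupOf P) hN'
  obtain ⟨y, -, hy⟩ := (Nat.card_eq_two_iff' (1 : ↥(Subgroup.center ↥P))).mp hZP
  have h1 : (⟨x, hxc⟩ : ↥(Subgroup.center ↥P)) = y :=
    hy _ (fun h => hx1 (congrArg Subtype.val h))
  rintro _ ⟨w, hw, rfl⟩
  by_cases hw1 : w = 1
  · rw [hw1, map_one]; exact N.one_mem
  · have h3 : (⟨w, hw⟩ : ↥(Subgroup.center ↥P)) = y :=
      hy _ (fun h => hw1 (congrArg Subtype.val h))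
    have h4 : w = x := congrArg Subtype.val (h3.trans h1.symm)
    rw [h4]
    exact Subgroup.mem_subgroupOf.mp hxN

theorem good_inf_eq_bot {S : Type*} [Group S] [Finite S] (h2 : IsPGroup 2 S)
    (S₀ P Q : Subgroup S) (hP : Good S₀ P) (hQ : Good S₀ Q) (hne : zOf P ≠ zOf Q) :
    P ⊓ Q = ⊥ := by
  by_contra hcon
  have hn : ∀ s ∈ S₀, ∀ n ∈ P ⊓ Q, s * n * s⁻¹ ∈ P ⊓ Q := fun s hs n hn =>
    ⟨hP.norm s hs n hn.1, hQ.norm s hs n hn.2⟩
  have h1 := zOf_le_of_normalized h2 P hP.card (P ⊓ Q) (fun x hx => hn x (hP.le hx))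
    inf_le_left hcon
  apply hne
  apply Subgroup.eq_of_le_of_card_ge
  · intro w hw
    rw [mem_zOf_iff]
    refine ⟨(h1 hw).2, ?_⟩
    intro y hy
    exact hP.cent y (hQ.le hy) w hw
  · rw [card_zOf, card_zOf, hP.card, hQ.card]

theorem good_commute {S : Type*} [Group S] [Finite S] (h2 : IsPGroup 2 S)
    (S₀ P Q : Subgroup S) (hP : Good S₀ P) (hQ : Good S₀ Q) (hne : zOf P ≠ zOf Q) :
    ∀ x ∈ P, ∀ y ∈ Q, x * y = y * x := by
  intro x hx y hy
  have hinf := good_inf_eq_bot h2 S₀ P Q hP hQ hne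
  have h1 : x * y * x⁻¹ * y⁻¹ ∈ P ⊓ Q := by
    constructor
    · have := hP.norm y (hQ.le hy) x⁻¹ (P.inv_mem hx)
      have h3 : x * y * x⁻¹ * y⁻¹ = x * (y * x⁻¹ * y⁻¹) := by group
      rw [h3]; exact P.mul_mem hx this
    · have := hQ.norm x (hP.le hx) y hy
      exact Q.mul_mem this (Q.inv_mem hy)
  rw [hinf, Subgroup.mem_bot] at h1
  calc x * y = (x * y * x⁻¹ * y⁻¹) * (y * x) := by group
    _ = y * x := by rw [h1, one_mul]

/-- elements of the join of two elementwise commuting subgroups are products -/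
theorem mem_sup_of_commute {S : Type*} [Group S] (P Q : Subgroup S)
    (hPQ : ∀ x ∈ P, ∀ y ∈ Q, x * y = y * x) (w : S) (hw : w ∈ P ⊔ Q) :
    ∃ x ∈ P, ∃ y ∈ Q, w = x * y := by
  have h := MonoidHom.noncommCoprod_range P.subtype Q.subtype (fun x y => hPQ x x.2 y y.2)
  rw [Subgroup.range_subtype, Subgroup.range_subtype] at h
  rw [← h] at hw
  obtain ⟨⟨x, y⟩, rfl⟩ := hw
  exact ⟨x, x.2, y, y.2, rfl⟩

/-- a central element of `P ⊔ Q` (commuting, trivially intersecting) is a product of central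
elements -/
theorem mem_zOf_mul_of_central {S : Type*} [Group S] (P Q : Subgroup S)
    (hPQ : ∀ x ∈ P, ∀ y ∈ Q, x * y = y * x) (x y : S) (hx : x ∈ P) (hy : y ∈ Q)
    (hc : x * y ∈ Subgroup.centralizer ((P ⊔ Q : Subgroup S) : Set S)) :
    x ∈ zOf P ∧ y ∈ zOf Q := by
  constructor
  · rw [mem_zOf_iff]
    refine ⟨hx, ?_⟩
    intro g hg
    have h1 := Subgroup.mem_centralizer_iff.mp hc g (Subgroup.mem_sup_left hg)
    have h3 := hPQ g hg y hy
    have h4 : g * x * y = x * g * y := by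
      calc g * x * y = g * (x * y) := by group
        _ = x * y * g := h1
        _ = x * (y * g) := by group
        _ = x * (g * y) := by rw [h3]
        _ = x * g * y := by group
    exact mul_right_cancel h4
  · rw [mem_zOf_iff]
    refine ⟨hy, ?_⟩
    intro g hg
    have h1 := Subgroup.mem_centralizer_iff.mp hc g (Subgroup.mem_sup_right hg)
    have h3 := hPQ x hx g hg
    have h4 : x * (g * y) = x * (y * g) := by
      calc x * (g * y) = (x * g) * y := by group
        _ = (g * x) * y := by rw [h3]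
        _ = g * (x * y) := by group
        _ = x * y * g := h1
        _ = x * (y * g) := by group
    exact mul_left_cancel h4

theorem good_centralizer_le {S : Type*} [Group S] [Finite S] (h2 : IsPGroup 2 S)
    (hr : Cfsg.SectionalPRankLE 2 4 S)
    (S₀ P Q : Subgroup S) (hP : Good S₀ P) (hQ : Good S₀ Q) (hne : zOf P ≠ zOf Q) :
    S₀ ⊓ Subgroup.centralizer ((P ⊔ Q : Subgroup S) : Set S) ≤ P ⊔ Q := by
  have hinf := good_inf_eq_bot h2 S₀ P Q hP hQ hne
  have hPQ := good_commute h2 S₀ P Q hP hQ hne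
  by_contra hcon
  obtain ⟨t, htC', htR, ht2⟩ := exists_sq_mem_of_not_le h2 _ _ hcon
  have htC : t ∈ Subgroup.centralizer ((P ⊔ Q : Subgroup S) : Set S) := htC'.2
  set Z := Subgroup.zpowers t with hZdef
  have hZC : ∀ c ∈ Z, ∀ r ∈ P ⊔ Q, r * c = c * r := by
    intro c hc r hr'
    have h1 : c ∈ Subgroup.centralizer ((P ⊔ Q : Subgroup S) : Set S) :=
      (Subgroup.zpowers_le.mpr htC) hc
    exact Subgroup.mem_centralizer_iff.mp h1 r hr'
  let μ₁ : ↥P × ↥Q →* S := P.subtype.noncommCoprod Q.subtype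
    (fun x y => hPQ x x.2 y y.2)
  have hμ₁ : ∀ d : ↥P × ↥Q, μ₁ d ∈ P ⊔ Q := by
    intro d
    show (d.1 : S) * (d.2 : S) ∈ P ⊔ Q
    exact Subgroup.mul_mem_sup d.1.2 d.2.2
  let μ : (↥P × ↥Q) × ↥Z →* S := μ₁.noncommCoprod Z.subtype
    (fun d c => hZC c c.2 _ (hμ₁ d))
  obtain ⟨NP, hNPn, hNPsq, hNPidx, hNPc⟩ :=
    exists_normal_index_four (h2.to_subgroup P) hP.nc hP.card
  obtain ⟨NQ, hNQn, hNQsq, hNQidx, hNQc⟩ :=
    exists_normal_index_four (h2.to_subgroup Q) hQ.nc hQ.card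
  set Z₀ : Subgroup ↥Z := (P ⊔ Q).subgroupOf Z with hZ₀
  have hZ₀n : Z₀.Normal := by
    constructor
    intro n hn g
    have : g * n * g⁻¹ = n := by
      obtain ⟨i, hi⟩ := Subgroup.mem_zpowers_iff.mp g.2
      obtain ⟨j, hj⟩ := Subgroup.mem_zpowers_iff.mp n.2
      apply Subtype.ext
      simp only [Subgroup.coe_mul, Subgroup.coe_inv]
      rw [← hi, ← hj, zpow_mul_comm, mul_inv_cancel_right]
    rw [this]; exact hn
  have hZ₀sq : ∀ c : ↥Z, c ^ 2 ∈ Z₀ := by
    intro c
    obtain ⟨i, hi⟩ := Subgroup.mem_zpowers_iff.mp c.2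
    rw [hZ₀, Subgroup.mem_subgroupOf, Subgroup.coe_pow, ← hi, ← zpow_natCast, ← zpow_mul,
      mul_comm, zpow_mul, zpow_natCast]
    exact Subgroup.zpow_mem _ ht2 i
  have hZ₀idx : 2 ≤ Z₀.index := by
    have h0 : Z₀.index ≠ 0 := Subgroup.index_ne_zero_of_finite
    have h1 : Z₀.index ≠ 1 := by
      intro h
      rw [Subgroup.index_eq_one] at h
      have : (⟨t, Subgroup.mem_zpowers t⟩ : ↥Z) ∈ Z₀ := by rw [h]; exact Subgroup.mem_top _
      rw [hZ₀, Subgroup.mem_subgroupOf] at this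
      exact htR this
    omega
  let φ : (↥P × ↥Q) × ↥Z →* ((↥P ⧸ NP) × (↥Q ⧸ NQ)) × (↥Z ⧸ Z₀) :=
    ((QuotientGroup.mk' NP).prodMap (QuotientGroup.mk' NQ)).prodMap (QuotientGroup.mk' Z₀)
  have hφ : Function.Surjective φ := by
    rintro ⟨⟨a, b⟩, c⟩
    obtain ⟨x, rfl⟩ := QuotientGroup.mk'_surjective NP a
    obtain ⟨y, rfl⟩ := QuotientGroup.mk'_surjective NQ b
    obtain ⟨z, rfl⟩ := QuotientGroup.mk'_surjective Z₀ c
    exact ⟨((x, y), z), rfl⟩
  have hsq : ∀ e : ((↥P ⧸ NP) × (↥Q ⧸ NQ)) × (↥Z ⧸ Z₀), e ^ 2 = 1 := by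
    rintro ⟨⟨a, b⟩, c⟩
    obtain ⟨x, rfl⟩ := QuotientGroup.mk'_surjective NP a
    obtain ⟨y, rfl⟩ := QuotientGroup.mk'_surjective NQ b
    obtain ⟨z, rfl⟩ := QuotientGroup.mk'_surjective Z₀ c
    ext
    · show (QuotientGroup.mk' NP x) ^ 2 = 1
      rw [← map_pow]
      exact (QuotientGroup.eq_one_iff _).mpr (hNPsq x)
    · show (QuotientGroup.mk' NQ y) ^ 2 = 1
      rw [← map_pow]
      exact (QuotientGroup.eq_one_iff _).mpr (hNQsq y)
    · show (QuotientGroup.mk' Z₀ z) ^ 2 = 1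
      rw [← map_pow]
      exact (QuotientGroup.eq_one_iff _).mpr (hZ₀sq z)
  have hker : μ.ker ≤ φ.ker := by
    rintro ⟨⟨x, y⟩, c⟩ hd
    rw [MonoidHom.mem_ker] at hd ⊢
    have hd' : (x : S) * (y : S) * (c : S) = 1 := hd
    have hc : (c : S) ∈ P ⊔ Q := by
      have : (c : S) = ((x : S) * (y : S))⁻¹ := by
        rw [eq_comm, inv_eq_iff_mul_eq_one]; exact hd'
      rw [this]
      exact Subgroup.inv_mem _ (Subgroup.mul_mem_sup x.2 y.2)
    have hxy : (x : S) * (y : S) ∈ Subgroup.centralizer ((P ⊔ Q : Subgroup S) : Set S) := by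
      have : (x : S) * (y : S) = (c : S)⁻¹ := by
        rw [eq_comm, inv_eq_iff_mul_eq_one]
        have h1 := hZC c c.2 _ (Subgroup.mul_mem_sup x.2 y.2)
        rw [← h1]; exact hd'
      rw [this]
      exact Subgroup.inv_mem _ ((Subgroup.zpowers_le.mpr htC) c.2)
    obtain ⟨hxz, hyz⟩ := mem_zOf_mul_of_central P Q hPQ x y x.2 y.2 hxy
    have hxc : x ∈ Subgroup.center ↥P := by
      obtain ⟨w, hw, hwx⟩ := hxz
      have : w = x := Subtype.ext hwx
      rw [← this]; exact hw
    have hyc : y ∈ Subgroup.center ↥Q := by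
      obtain ⟨w, hw, hwx⟩ := hyz
      have : w = y := Subtype.ext hwx
      rw [← this]; exact hw
    have e1 : (QuotientGroup.mk' NP x) = 1 := (QuotientGroup.eq_one_iff _).mpr (hNPc hxc)
    have e2 : (QuotientGroup.mk' NQ y) = 1 := (QuotientGroup.eq_one_iff _).mpr (hNQc hyc)
    have e3 : (QuotientGroup.mk' Z₀ c) = 1 :=
      (QuotientGroup.eq_one_iff _).mpr (by rw [hZ₀, Subgroup.mem_subgroupOf]; exact hc)
    show (((QuotientGroup.mk' NP x), (QuotientGroup.mk' NQ y)), (QuotientGroup.mk' Z₀ c)) = 1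
    rw [e1, e2, e3]; rfl
  have hle := card_le_of_sectionalPRankLE 2 4 hr μ φ hφ
    (mul_comm_of_forall_sq_eq_one hsq) hsq hker
  rw [Nat.card_prod, Nat.card_prod, ← Subgroup.index_eq_card, ← Subgroup.index_eq_card,
    ← Subgroup.index_eq_card] at hle
  have : 4 * 4 * 2 ≤ NP.index * NQ.index * Z₀.index :=
    Nat.mul_le_mul (Nat.mul_le_mul hNPidx hNQidx) hZ₀idx
  omega

/-- the conjugate subgroup `g P g⁻¹` -/
abbrev cjs {S : Type*} [Group S] (g : S) (P : Subgroup S) : Subgroup S :=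
  P.map (MulAut.conj g).toMonoidHom

theorem mem_zOf_cjs_iff {S : Type*} [Group S] (g : S) (P : Subgroup S) (w : S) :
    w ∈ zOf (cjs g P) ↔ g⁻¹ * w * g ∈ zOf P := by
  rw [mem_zOf_iff, mem_zOf_iff, mem_map_conj_iff]
  constructor
  · rintro ⟨h1, h2⟩
    refine ⟨h1, ?_⟩
    intro x hx
    have := h2 (g * x * g⁻¹) (conj_mem_map_conj P g x hx)
    calc x * (g⁻¹ * w * g) = g⁻¹ * ((g * x * g⁻¹) * w) * g := by group
      _ = g⁻¹ * (w * (g * x * g⁻¹)) * g := by rw [this]
      _ = g⁻¹ * w * g * x := by group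
  · rintro ⟨h1, h2⟩
    refine ⟨h1, ?_⟩
    intro y hy
    rw [mem_map_conj_iff] at hy
    have := h2 _ hy
    calc y * w = g * ((g⁻¹ * y * g) * (g⁻¹ * w * g)) * g⁻¹ := by group
      _ = g * ((g⁻¹ * w * g) * (g⁻¹ * y * g)) * g⁻¹ := by rw [this]
      _ = w * y := by group

theorem good_cjs {S : Type*} [Group S] (S₀ P : Subgroup S) (hP : Good S₀ P) (g : S)
    (hg : g ∈ Subgroup.normalizer (S₀ : Set S)) : Good S₀ (cjs g P) := by
  have hg' : ∀ h, h ∈ S₀ ↔ g * h * g⁻¹ ∈ S₀ := Subgroup.mem_normalizer_iff.mp hg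
  have hginv : ∀ h ∈ S₀, g⁻¹ * h * g ∈ S₀ := by
    intro h hh
    rw [hg']
    have : g * (g⁻¹ * h * g) * g⁻¹ = h := by group
    rw [this]; exact hh
  let e : ↥P ≃* ↥(cjs g P) := (MulAut.conj g).subgroupMap P
  refine ⟨?_, ?_, ?_, ?_, ?_⟩
  · rintro _ ⟨x, hx, rfl⟩
    show g * x * g⁻¹ ∈ S₀
    exact (hg' x).mp (hP.le hx)
  · intro s hs y hy
    rw [mem_map_conj_iff] at hy ⊢
    have := hP.norm _ (hginv s hs) _ hy
    have e1 : g⁻¹ * (s * y * s⁻¹) * g = (g⁻¹ * s * g) * (g⁻¹ * y * g) * (g⁻¹ * s * g)⁻¹ := by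
      group
    rw [e1]; exact this
  · intro hc
    apply hP.nc
    exact ⟨⟨fun a b => e.injective (by rw [map_mul, map_mul]; exact hc.is_comm.comm _ _)⟩⟩
  · rw [← hP.card]
    exact (Nat.card_congr (Subgroup.centerCongr e).toEquiv).symm
  · intro s hs w hw
    rw [mem_zOf_cjs_iff] at hw
    have := hP.cent _ (hginv s hs) _ hw
    calc s * w = g * ((g⁻¹ * s * g) * (g⁻¹ * w * g)) * g⁻¹ := by group
      _ = g * ((g⁻¹ * w * g) * (g⁻¹ * s * g)) * g⁻¹ := by rw [this]
      _ = w * s := by group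

/-- the centre of order two is `{1, z}` -/
theorem exists_zOf_eq {S : Type*} [Group S] (P : Subgroup S)
    (hZP : Nat.card ↥(Subgroup.center ↥P) = 2) :
    ∃ z : S, z ≠ 1 ∧ z ^ 2 = 1 ∧ ∀ w : S, w ∈ zOf P ↔ (w = 1 ∨ w = z) := by
  have hc : Nat.card ↥(zOf P) = 2 := by rw [card_zOf, hZP]
  obtain ⟨y, hy1, hy⟩ := (Nat.card_eq_two_iff' (1 : ↥(zOf P))).mp hc
  have hy1' : (y : S) ≠ 1 := fun h => hy1 (Subtype.ext h)
  refine ⟨y, hy1', ?_, ?_⟩
  · by_contra hsq
    have h1 : (y ^ 2 : ↥(zOf P)) = y := hy _ (fun h => hsq (by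
      have := congrArg Subtype.val h
      simpa using this))
    have h2 : y * y = y := by rw [← pow_two]; exact h1
    have h3 : y = 1 := by
      have := mul_left_cancel (a := y) (b := y) (c := 1) (by rw [h2, mul_one])
      exact this
    exact hy1 h3
  · intro w
    constructor
    · intro hw
      by_cases hw1 : w = 1
      · exact Or.inl hw1
      · right
        have := hy ⟨w, hw⟩ (fun h => hw1 (congrArg Subtype.val h))
        exact congrArg Subtype.val this
    · rintro (rfl | rfl)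
      · exact Subgroup.one_mem _
      · exact y.2

/-- if `P` and a conjugate commute and meet trivially, the sectional rank of `P` is at most half
that of the ambient group -/
theorem sectionalPRankLE_two_of_commuting_conj {S : Type*} [Group S]
    (hr : Cfsg.SectionalPRankLE 2 4 S) (P : Subgroup S) (s : S)
    (hcomm : ∀ x ∈ P, ∀ y ∈ cjs s P, x * y = y * x) (hinf : P ⊓ cjs s P = ⊥) :
    Cfsg.SectionalPRankLE 2 2 ↥P := by
  intro H N hN A hAc hAe
  set B : Subgroup ↥H := A.comap (QuotientGroup.mk' N) with hB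
  let ι : ↥B →* S := P.subtype.comp (H.subtype.comp B.subtype)
  have hιP : ∀ b : ↥B, ι b ∈ P := fun b => (b : ↥H).1.2
  have hιinj : ∀ b : ↥B, ι b = 1 → b = 1 := by
    intro b hb
    apply Subtype.ext
    apply Subtype.ext
    apply Subtype.ext
    exact hb
  let μ : ↥B × ↥B →* S := ι.noncommCoprod ((MulAut.conj s).toMonoidHom.comp ι)
    (fun b b' => hcomm _ (hιP b) _ (conj_mem_map_conj P s _ (hιP b')))
  let φ₀ : ↥B →* ↥A := ((QuotientGroup.mk' N).comp B.subtype).codRestrict A (fun b => b.2)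
  have hφ₀ : Function.Surjective φ₀ := by
    intro a
    obtain ⟨h, hh⟩ := QuotientGroup.mk'_surjective N a.1
    refine ⟨⟨h, ?_⟩, ?_⟩
    · show QuotientGroup.mk' N h ∈ A
      rw [hh]; exact a.2
    · apply Subtype.ext
      exact hh
  let φ : ↥B × ↥B →* ↥A × ↥A := φ₀.prodMap φ₀
  have hφ : Function.Surjective φ := by
    rintro ⟨a, a'⟩
    obtain ⟨b, rfl⟩ := hφ₀ a
    obtain ⟨b', rfl⟩ := hφ₀ a'
    exact ⟨(b, b'), rfl⟩
  have hsq : ∀ e : ↥A × ↥A, e ^ 2 = 1 := by
    rintro ⟨a, a'⟩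
    ext
    · show ((a ^ 2 : ↥A) : ↥H ⧸ N) = 1
      rw [Subgroup.coe_pow]; exact hAe a a.2
    · show ((a' ^ 2 : ↥A) : ↥H ⧸ N) = 1
      rw [Subgroup.coe_pow]; exact hAe a' a'.2
  have hker : μ.ker ≤ φ.ker := by
    rintro ⟨b, b'⟩ hd
    rw [MonoidHom.mem_ker] at hd ⊢
    have hd' : ι b * (s * ι b' * s⁻¹) = 1 := hd
    have h1 : ι b ∈ P ⊓ cjs s P := by
      refine ⟨hιP b, ?_⟩
      have : ι b = (s * ι b' * s⁻¹)⁻¹ := eq_inv_of_mul_eq_one_left hd'
      rw [this]
      exact Subgroup.inv_mem _ (conj_mem_map_conj P s _ (hιP b'))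
    rw [hinf, Subgroup.mem_bot] at h1
    have hb : b = 1 := hιinj b h1
    have h2 : ι b' = 1 := by
      rw [h1, one_mul] at hd'
      have : ι b' = s⁻¹ * (s * ι b' * s⁻¹) * s := by group
      rw [this, hd']; group
    have hb' : b' = 1 := hιinj b' h2
    rw [hb, hb']
    exact map_one φ
  have hle := card_le_of_sectionalPRankLE 2 4 hr μ φ hφ
    (mul_comm_of_forall_sq_eq_one hsq) hsq hker
  rw [Nat.card_prod] at hle
  by_contra hcon
  push Not at hcon
  have : 5 * 5 ≤ Nat.card ↥A * Nat.card ↥A := Nat.mul_le_mul (by omega) (by omega)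
  omega

theorem s4401_main {S : Type*} [Group S] [Finite S] (h2 : IsPGroup 2 S)
    (hr : Cfsg.SectionalPRankLE 2 4 S)
    (P : Subgroup S) (hP : ¬ IsMulCommutative ↥P)
    (hZP : Nat.card ↥(Subgroup.center ↥P) = 2)
    (S₀ : Subgroup S)
    (hS₀ : S₀ = Subgroup.centralizer (((Subgroup.center ↥P).map P.subtype : Subgroup S) : Set S))
    (hPn : ∀ s ∈ S₀, ∀ x ∈ P, s * x * s⁻¹ ∈ P) :
    S₀ = ⊤ ∨ (Cfsg.SectionalPRankLE 2 2 ↥P ∧ S₀.index = 2) := by
  by_cases htop : S₀ = ⊤
  · exact Or.inl htop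
  right
  have : Fact (Nat.Prime 2) := ⟨Nat.prime_two⟩
  obtain ⟨z, hz1, hz2, hzmem⟩ := exists_zOf_eq P hZP
  have hzinv : z⁻¹ = z := by
    rw [pow_two] at hz2
    exact inv_eq_of_mul_eq_one_left hz2
  have hzZ : z ∈ zOf P := (hzmem z).mpr (Or.inr rfl)
  have hzP : z ∈ P := ((mem_zOf_iff P z).mp hzZ).1
  -- membership in S₀
  have hS₀mem : ∀ g : S, g ∈ S₀ ↔ g * z * g⁻¹ = z := by
    intro g
    rw [hS₀, Subgroup.mem_centralizer_iff]
    constructor
    · intro h
      have := h z hzZ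
      rw [← this]; group
    · intro h w hw
      rcases (hzmem w).mp hw with rfl | rfl
      · rw [one_mul, mul_one]
      · calc w * g = (g * w * g⁻¹) * g := by rw [h]
          _ = g * w := by group
  have hPle : P ≤ S₀ := by
    intro x hx
    rw [hS₀mem]
    have := ((mem_zOf_iff P z).mp hzZ).2 x hx
    rw [this]; group
  have hGP : Good S₀ P := by
    refine ⟨hPle, hPn, hP, hZP, ?_⟩
    intro s hs w hw
    rw [hS₀] at hs
    exact (Subgroup.mem_centralizer_iff.mp hs w hw).symm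
  -- centres of conjugates
  have hzcj : ∀ g w : S, w ∈ zOf (cjs g P) ↔ (w = 1 ∨ w = g * z * g⁻¹) := by
    intro g w
    rw [mem_zOf_cjs_iff, hzmem]
    constructor
    · rintro (h | h)
      · left
        have : w = g * (g⁻¹ * w * g) * g⁻¹ := by group
        rw [this, h]; group
      · right
        rw [← h]; group
    · rintro (rfl | rfl)
      · left; group
      · right; group
  have hcj1 : ∀ g : S, g * z * g⁻¹ ≠ 1 := by
    intro g h
    apply hz1
    have : z = g⁻¹ * (g * z * g⁻¹) * g := by group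
    rw [this, h]; group
  have hneP : ∀ g : S, g * z * g⁻¹ ≠ z → zOf P ≠ zOf (cjs g P) := by
    intro g hg h
    have h1 : g * z * g⁻¹ ∈ zOf (cjs g P) := (hzcj g _).mpr (Or.inr rfl)
    rw [← h, hzmem] at h1
    rcases h1 with h1 | h1
    · exact hcj1 g h1
    · exact hg h1
  have hnecj : ∀ g g' : S, g * z * g⁻¹ ≠ g' * z * g'⁻¹ → zOf (cjs g P) ≠ zOf (cjs g' P) := by
    intro g g' hg h
    have h1 : g * z * g⁻¹ ∈ zOf (cjs g P) := (hzcj g _).mpr (Or.inr rfl)
    rw [h, hzcj] at h1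
    rcases h1 with h1 | h1
    · exact hcj1 g h1
    · exact hg h1
  -- the normalizer
  have hnil : Group.IsNilpotent S := h2.isNilpotent
  have hlt : S₀ < Subgroup.normalizer (S₀ : Set S) :=
    Group.normalizerCondition_of_isNilpotent S₀ (lt_top_iff_ne_top.mpr htop)
  obtain ⟨s, hsN, hsS₀⟩ := SetLike.exists_of_lt hlt
  set N := Subgroup.normalizer (S₀ : Set S) with hN
  set zs := s * z * s⁻¹ with hzs
  have hzsne : zs ≠ z := fun h => hsS₀ ((hS₀mem s).mpr h)
  set Q := cjs s P with hQ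
  have hGQ : Good S₀ Q := good_cjs S₀ P hGP s hsN
  have hnePQ : zOf P ≠ zOf Q := hneP s hzsne
  have hinfPQ := good_inf_eq_bot h2 S₀ P Q hGP hGQ hnePQ
  have hcommPQ := good_commute h2 S₀ P Q hGP hGQ hnePQ
  have hcentPQ := good_centralizer_le h2 hr S₀ P Q hGP hGQ hnePQ
  have hzsZ : zs ∈ zOf Q := (hzcj s zs).mpr (Or.inr rfl)
  have hzsQ : zs ∈ Q := ((mem_zOf_iff Q zs).mp hzsZ).1
  have hzQmem : ∀ w, w ∈ zOf Q ↔ (w = 1 ∨ w = zs) := fun w => hzcj s w
  refine ⟨sectionalPRankLE_two_of_commuting_conj hr P s hcommPQ hinfPQ, ?_⟩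
  -- Step 5a
  have h5a : ∀ g ∈ N, g * z * g⁻¹ = z ∨ g * z * g⁻¹ = zs := by
    intro g hg
    by_contra hcon
    push Not at hcon
    obtain ⟨hc1, hc2⟩ := hcon
    have hGR : Good S₀ (cjs g P) := good_cjs S₀ P hGP g hg
    have hcPR := good_commute h2 S₀ P (cjs g P) hGP hGR (hneP g hc1)
    have hcQR := good_commute h2 S₀ Q (cjs g P) hGQ hGR (hnecj s g (fun h => hc2 h.symm))
    have hRle : cjs g P ≤ P ⊔ Q := by
      refine le_trans ?_ hcentPQ
      intro r hr'
      refine ⟨hGR.le hr', ?_⟩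
      show r ∈ Subgroup.centralizer ((P ⊔ Q : Subgroup S) : Set S)
      rw [Subgroup.mem_centralizer_iff]
      intro w hw
      obtain ⟨x, hx, y, hy, rfl⟩ := mem_sup_of_commute P Q hcommPQ w hw
      have e1 := hcPR x hx r hr'
      have e2 := hcQR y hy r hr'
      calc x * y * r = x * (y * r) := by group
        _ = x * (r * y) := by rw [e2]
        _ = (x * r) * y := by group
        _ = (r * x) * y := by rw [e1]
        _ = r * (x * y) := by group
    apply hGR.nc
    refine ⟨⟨fun a b => ?_⟩⟩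
    apply Subtype.ext
    rw [Subgroup.coe_mul, Subgroup.coe_mul]
    obtain ⟨x, hx, y, hy, hab⟩ := mem_sup_of_commute P Q hcommPQ _ (hRle b.2)
    have e1 := hcPR x hx a a.2
    have e2 := hcQR y hy a a.2
    rw [hab]
    calc (a : S) * (x * y) = ((a : S) * x) * y := by group
      _ = (x * (a : S)) * y := by rw [e1]
      _ = x * ((a : S) * y) := by group
      _ = x * (y * (a : S)) := by rw [e2]
      _ = x * y * (a : S) := by group
  -- Step 5b
  have h5b : ∀ g ∈ N, g ∈ S₀ ∨ s⁻¹ * g ∈ S₀ := by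
    intro g hg
    rcases h5a g hg with h | h
    · exact Or.inl ((hS₀mem g).mpr h)
    · right
      rw [hS₀mem]
      have : s⁻¹ * g * z * (s⁻¹ * g)⁻¹ = s⁻¹ * (g * z * g⁻¹) * s := by group
      rw [this, h, hzs]; group
  -- facts about s
  have hzN : z ∈ N := hlt.le (hPle hzP)
  have hzsS₀ : zs ∈ S₀ := hGQ.le hzsQ
  have hzzs : z * zs = zs * z := by
    have := hGP.cent zs hzsS₀ z hzZ
    exact this.symm
  have hzsinv : zs⁻¹ = zs := by
    rw [hzs]
    have : (s * z * s⁻¹)⁻¹ = s * z⁻¹ * s⁻¹ := by group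
    rw [this, hzinv]
  have hszs : s * zs * s⁻¹ = z := by
    have hss : s * s ∈ N := N.mul_mem hsN hsN
    have e : s * zs * s⁻¹ = (s * s) * z * (s * s)⁻¹ := by rw [hzs]; group
    rcases h5a _ hss with h | h
    · rw [e, h]
    · exfalso
      rw [← e] at h
      -- s zs s⁻¹ = zs → zs = z
      apply hzsne
      have h' : s * zs * s⁻¹ = s * z * s⁻¹ := h
      have : zs = s⁻¹ * (s * zs * s⁻¹) * s := by group
      rw [this, h']; group
  obtain ⟨c, hc⟩ : ∃ c : S, c = z * zs := ⟨_, rfl⟩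
  have hc1 : c ≠ 1 := by
    intro h
    apply hzsne
    have : zs = z⁻¹ * c := by rw [hc]; group
    rw [this, h, mul_one, hzinv]
  -- c is central in N
  have hcS₀ : ∀ n ∈ S₀, n * c * n⁻¹ = c := by
    intro n hn
    have e1 := (hS₀mem n).mp hn
    have e2 : n * zs * n⁻¹ = zs := by
      have := hGQ.cent n hn zs hzsZ
      rw [this]; group
    calc n * c * n⁻¹ = (n * z * n⁻¹) * (n * zs * n⁻¹) := by rw [hc]; group
      _ = c := by rw [e1, e2, hc]
  have hcs : s * c * s⁻¹ = c := by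
    calc s * c * s⁻¹ = (s * z * s⁻¹) * (s * zs * s⁻¹) := by rw [hc]; group
      _ = zs * z := by rw [hszs]
      _ = c := by rw [hc, hzzs]
  have hcN : ∀ n ∈ N, n * c * n⁻¹ = c := by
    intro n hn
    rcases h5b n hn with h | h
    · exact hcS₀ n h
    · have := hcS₀ _ h
      calc n * c * n⁻¹ = s * ((s⁻¹ * n) * c * (s⁻¹ * n)⁻¹) * s⁻¹ := by group
        _ = c := by rw [this, hcs]
  have hPQN : P ⊔ Q ≤ N := sup_le (hPle.trans hlt.le) (hGQ.le.trans hlt.le)
  -- central elements of N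
  have hZN : ∀ w ∈ N, (∀ n ∈ N, n * w = w * n) → w = 1 ∨ w = c := by
    intro w hw hcen
    have hwS₀ : w ∈ S₀ := by
      rw [hS₀mem]
      have := hcen z hzN
      rw [← this]; group
    have hwC : w ∈ S₀ ⊓ Subgroup.centralizer ((P ⊔ Q : Subgroup S) : Set S) := by
      refine ⟨hwS₀, ?_⟩
      show w ∈ Subgroup.centralizer ((P ⊔ Q : Subgroup S) : Set S)
      rw [Subgroup.mem_centralizer_iff]
      intro n hn
      exact hcen n (hPQN hn)
    obtain ⟨x, hx, y, hy, hwxy⟩ := mem_sup_of_commute P Q hcommPQ w (hcentPQ hwC)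
    have hcc : x * y ∈ Subgroup.centralizer ((P ⊔ Q : Subgroup S) : Set S) := by
      rw [← hwxy]; exact hwC.2
    obtain ⟨hxz, hyz⟩ := mem_zOf_mul_of_central P Q hcommPQ x y hx hy hcc
    have hsw : s * w * s⁻¹ = w := by
      have := hcen s hsN
      rw [this]; group
    rcases (hzmem x).mp hxz with hx' | hx' <;> rcases (hzQmem y).mp hyz with hy' | hy'
    · left; rw [hwxy, hx', hy', one_mul]
    · exfalso
      rw [hx', hy', one_mul] at hwxy
      rw [hwxy, hszs] at hsw
      exact hzsne hsw.symm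
    · exfalso
      rw [hx', hy', mul_one] at hwxy
      rw [hwxy] at hsw
      exact hzsne hsw
    · right; rw [hwxy, hx', hy', hc]
  -- N = ⊤
  have hNtop : N = ⊤ := by
    by_contra hNne
    have hltN : N < Subgroup.normalizer (N : Set S) :=
      Group.normalizerCondition_of_isNilpotent N (lt_top_iff_ne_top.mpr hNne)
    obtain ⟨u, huNN, huN⟩ := SetLike.exists_of_lt hltN
    have hu : ∀ h, h ∈ N ↔ u * h * u⁻¹ ∈ N := Subgroup.mem_normalizer_iff.mp huNN
    have huinv : ∀ h ∈ N, u⁻¹ * h * u ∈ N := by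
      intro h hh
      rw [hu]
      have : u * (u⁻¹ * h * u) * u⁻¹ = h := by group
      rw [this]; exact hh
    set t := u * z * u⁻¹ with ht
    set t' := u * zs * u⁻¹ with ht'
    have htN : t ∈ N := (hu z).mp hzN
    have htinv : t⁻¹ = t := by
      rw [ht]
      have : (u * z * u⁻¹)⁻¹ = u * z⁻¹ * u⁻¹ := by group
      rw [this, hzinv]
    -- u c u⁻¹ = c
    have hucu : u * c * u⁻¹ = c := by
      have hcNmem : c ∈ N := by rw [hc]; exact N.mul_mem hzN (hlt.le hzsS₀)
      have h1 : u * c * u⁻¹ ∈ N := (hu c).mp hcNmem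
      have h2 : ∀ n ∈ N, n * (u * c * u⁻¹) = (u * c * u⁻¹) * n := by
        intro n hn
        have := hcN _ (huinv n hn)
        calc n * (u * c * u⁻¹) = u * ((u⁻¹ * n * u) * c * (u⁻¹ * n * u)⁻¹) * (u⁻¹ * n * u) * u⁻¹ := by
              group
          _ = u * c * (u⁻¹ * n * u) * u⁻¹ := by rw [this]
          _ = (u * c * u⁻¹) * n := by group
      rcases hZN _ h1 h2 with h | h
      · exfalso
        apply hc1
        have : c = u⁻¹ * (u * c * u⁻¹) * u := by group
        rw [this, h]; group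
      · exact h
    have htt' : t * t' = c := by
      calc t * t' = u * (z * zs) * u⁻¹ := by rw [ht, ht']; group
        _ = c := by rw [← hc]; exact hucu
    have ht'ne : t' ≠ t := by
      intro h
      apply hzsne
      have : zs = u⁻¹ * t' * u := by rw [ht']; group
      rw [this, h, ht]; group
    -- F5'
    have hF5 : ∀ a ∈ N, a * t * a⁻¹ = t ∨ a * t * a⁻¹ = t' := by
      intro a ha
      have e : a * t * a⁻¹ = u * ((u⁻¹ * a * u) * z * (u⁻¹ * a * u)⁻¹) * u⁻¹ := by
        rw [ht]; group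
      rcases h5a _ (huinv a ha) with h | h
      · left; rw [e, h]
      · right; rw [e, h]
    by_cases htS₀ : t ∈ S₀
    · -- Case A
      have hex : ∃ x₀, (x₀ ∈ P ∨ x₀ ∈ Q) ∧ x₀ * t * x₀⁻¹ ≠ t := by
        by_contra hcon
        push Not at hcon
        have hcomm_t : ∀ x, (x ∈ P ∨ x ∈ Q) → x * t = t * x := by
          intro x hx
          have := hcon x hx
          calc x * t = (x * t * x⁻¹) * x := by group
            _ = t * x := by rw [this]
        have htC : t ∈ S₀ ⊓ Subgroup.centralizer ((P ⊔ Q : Subgroup S) : Set S) := by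
          refine ⟨htS₀, ?_⟩
          show t ∈ Subgroup.centralizer ((P ⊔ Q : Subgroup S) : Set S)
          rw [Subgroup.mem_centralizer_iff]
          intro w hw
          obtain ⟨x, hx, y, hy, rfl⟩ := mem_sup_of_commute P Q hcommPQ w hw
          have e1 := hcomm_t x (Or.inl hx)
          have e2 := hcomm_t y (Or.inr hy)
          calc x * y * t = x * (y * t) := by group
            _ = x * (t * y) := by rw [e2]
            _ = (x * t) * y := by group
            _ = (t * x) * y := by rw [e1]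
            _ = t * (x * y) := by group
        obtain ⟨x, hx, y, hy, htxy⟩ := mem_sup_of_commute P Q hcommPQ t (hcentPQ htC)
        have hcc : x * y ∈ Subgroup.centralizer ((P ⊔ Q : Subgroup S) : Set S) := by
          rw [← htxy]; exact htC.2
        obtain ⟨hxz, hyz⟩ := mem_zOf_mul_of_central P Q hcommPQ x y hx hy hcc
        rcases (hzmem x).mp hxz with hx' | hx' <;> rcases (hzQmem y).mp hyz with hy' | hy'
        · rw [hx', hy', one_mul] at htxy
          exact hcj1 u htxy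
        · rw [hx', hy', one_mul] at htxy
          -- u z u⁻¹ = s z s⁻¹
          apply huN
          have h1 : s⁻¹ * u ∈ S₀ := by
            rw [hS₀mem]
            have : s⁻¹ * u * z * (s⁻¹ * u)⁻¹ = s⁻¹ * (u * z * u⁻¹) * s := by group
            rw [this, ← ht, htxy, hzs]; group
          have : u = s * (s⁻¹ * u) := by group
          rw [this]
          exact N.mul_mem hsN (hlt.le h1)
        · rw [hx', hy', mul_one] at htxy
          apply huN
          exact hlt.le ((hS₀mem u).mpr htxy)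
        · -- t = c = u c u⁻¹
          rw [hx', hy', ← hc] at htxy
          have h1 : u * z * u⁻¹ = u * c * u⁻¹ := by rw [← ht, htxy, hucu]
          have h2 : z = c := by
            have : z = u⁻¹ * (u * z * u⁻¹) * u := by group
            rw [this, h1]; group
          apply hcj1 s
          have : zs = z⁻¹ * c := by rw [hc]; group
          rw [← hzs, this, ← h2]; group
      obtain ⟨x₀, hx₀, hx₀t⟩ := hex
      have hx₀N : x₀ ∈ N := by
        rcases hx₀ with h | h
        · exact hlt.le (hPle h)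
        · exact hlt.le (hGQ.le h)
      have hx₀t' : x₀ * t * x₀⁻¹ = t' := by
        rcases hF5 x₀ hx₀N with h | h
        · exact absurd h hx₀t
        · exact h
      have hceq : c = (t * x₀ * t⁻¹) * x₀⁻¹ := by
        rw [← htt', ← hx₀t', htinv]; group
      rcases hx₀ with hxP | hxQ
      · have hcP : c ∈ P := by
          rw [hceq]
          exact P.mul_mem (hPn t htS₀ x₀ hxP) (P.inv_mem hxP)
        have hzsP : zs ∈ P := by
          have : zs = z⁻¹ * c := by rw [hc]; group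
          rw [this]
          exact P.mul_mem (P.inv_mem hzP) hcP
        have : zs ∈ P ⊓ Q := ⟨hzsP, hzsQ⟩
        rw [hinfPQ, Subgroup.mem_bot] at this
        exact hcj1 s this
      · have hcQ : c ∈ Q := by
          rw [hceq]
          exact Q.mul_mem (hGQ.norm t htS₀ x₀ hxQ) (Q.inv_mem hxQ)
        have hzQ : z ∈ Q := by
          have : z = c * zs⁻¹ := by rw [hc]; group
          rw [this]
          exact Q.mul_mem hcQ (Q.inv_mem hzsQ)
        have : z ∈ P ⊓ Q := ⟨hzP, hzQ⟩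
        rw [hinfPQ, Subgroup.mem_bot] at this
        exact hz1 this
    · -- Case B
      have hst : s⁻¹ * t ∈ S₀ := by
        rcases h5b t htN with h | h
        · exact absurd h htS₀
        · exact h
      have htPQ : ∀ x ∈ P, t * x * t⁻¹ ∈ Q := by
        intro x hx
        have h1 := hPn _ hst x hx
        have e : t * x * t⁻¹ = s * ((s⁻¹ * t) * x * (s⁻¹ * t)⁻¹) * s⁻¹ := by group
        rw [e]
        exact conj_mem_map_conj P s _ h1
      -- a nontrivial element of P commuting with t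
      have hex : ∃ x ∈ P, x ≠ 1 ∧ x * t * x⁻¹ = t := by
        have hab : ∃ a ∈ P, ∃ b ∈ P, a * b ≠ b * a := by
          by_contra hcon
          push Not at hcon
          apply hP
          exact ⟨⟨fun a b => Subtype.ext (hcon a a.2 b b.2)⟩⟩
        obtain ⟨a, ha, b, hb, hab⟩ := hab
        have ha1 : a ≠ 1 := by
          rintro rfl; apply hab; rw [one_mul, mul_one]
        have hb1 : b ≠ 1 := by
          rintro rfl; apply hab; rw [one_mul, mul_one]
        have hab' : a⁻¹ * b ≠ 1 := by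
          intro h
          apply hab
          have : b = a := by
            have := eq_of_inv_mul_eq_one h
            exact this.symm
          rw [this]
        rcases hF5 a (hlt.le (hPle ha)) with h | h
        · exact ⟨a, ha, ha1, h⟩
        · rcases hF5 b (hlt.le (hPle hb)) with h' | h'
          · exact ⟨b, hb, hb1, h'⟩
          · refine ⟨a⁻¹ * b, P.mul_mem (P.inv_mem ha) hb, hab', ?_⟩
            calc a⁻¹ * b * t * (a⁻¹ * b)⁻¹ = a⁻¹ * (b * t * b⁻¹) * a := by group
              _ = a⁻¹ * (a * t * a⁻¹) * a := by rw [h', h]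
              _ = t := by group
      obtain ⟨x, hxP, hx1, hxt⟩ := hex
      have hxQ : x ∈ Q := by
        have h1 := htPQ x hxP
        have e : t * x * t⁻¹ = x := by
          have hxt2 : x * t = t * x := by
            calc x * t = (x * t * x⁻¹) * x := by group
              _ = t * x := by rw [hxt]
          rw [← hxt2]; group
        rw [e] at h1
        exact h1
      have : x ∈ P ⊓ Q := ⟨hxP, hxQ⟩
      rw [hinfPQ, Subgroup.mem_bot] at this
      exact hx1 this
  -- index two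
  rw [Subgroup.index_eq_two_iff]
  refine ⟨s, fun b => ?_⟩
  have hbN : b⁻¹ ∈ N := by rw [hNtop]; exact Subgroup.mem_top _
  rcases h5b _ hbN with h | h
  · right
    refine ⟨S₀.inv_mem_iff.mp h, ?_⟩
    intro h'
    apply hsS₀
    have : s = b⁻¹ * (b * s) := by group
    rw [this]
    exact S₀.mul_mem h h'
  · left
    have h1 : b * s ∈ S₀ := by
      have : b * s = (s⁻¹ * b⁻¹)⁻¹ := by group
      rw [this]
      exact S₀.inv_mem h
    refine ⟨h1, ?_⟩
    intro h'
    apply hsS₀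
    have : s = b⁻¹ * (b * s) := by group
    rw [this]
    exact S₀.mul_mem (S₀.inv_mem h') h1

end Cfsg.Agent.Lib.Helper23
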