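import Mathlib
import Cfsg.Agent.Lib.Helper27.SpMDefs
import Cfsg.Agent.Lib.Helper5.Symp
import Cfsg.Agent.Lib.Helper5.SpMax

/-!
SpnMax market (helper27): leaf P6 `not_sp_le_symplType`, CORE form (T2, T3, T4 as hypotheses) (helper23).
-/

set_option autoImplicit false
set_option linter.unusedSectionVars false
set_option linter.unusedVariables false

namespace Cfsg.Agent.Lib.Helper23.SpMLeaf

open Cfsg Cfsg.Geo Matrix Module Cfsg.Agent.Lib.Helper27.SpM
open scoped commutatorElement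

section generic
variable {F : Type*} [Field F] {ι : Type} [Fintype ι] [DecidableEq ι]

lemma p6_scalars_comm {z : GL ι F} (hz : z ∈ scalars ι F) (t : GL ι F) : z * t = t * z := by
  obtain ⟨c, hc⟩ := (mem_scalars_iff z).1 hz
  apply Units.ext
  rw [Units.val_mul, Units.val_mul, hc, Matrix.smul_mul, Matrix.mul_smul, one_mul, mul_one]

lemma p6_central_inv {G : Type*} [Group G] {a : G} (ha : ∀ t : G, a * t = t * a) (t : G) :
    a⁻¹ * t = t * a⁻¹ := by
  calc a⁻¹ * t = a⁻¹ * (t * a) * a⁻¹ := by group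
    _ = a⁻¹ * (a * t) * a⁻¹ := by rw [ha t]
    _ = t * a⁻¹ := by group

lemma p6_comm_central_left {G : Type*} [Group G] {a : G} (ha : ∀ t : G, a * t = t * a) (x y : G) :
    ⁅a * x, y⁆ = ⁅x, y⁆ := by
  rw [commutatorElement_def, commutatorElement_def]
  calc a * x * y * (a * x)⁻¹ * y⁻¹ = a * (x * y * x⁻¹) * (a⁻¹ * y⁻¹) := by
        rw [_root_.mul_inv_rev]; group
    _ = a * (x * y * x⁻¹) * (y⁻¹ * a⁻¹) := by rw [p6_central_inv ha y⁻¹]
    _ = a * (x * y * x⁻¹ * y⁻¹) * a⁻¹ := by group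
    _ = (x * y * x⁻¹ * y⁻¹) * a * a⁻¹ := by rw [ha (x * y * x⁻¹ * y⁻¹)]
    _ = x * y * x⁻¹ * y⁻¹ := by group

lemma p6_comm_central_right {G : Type*} [Group G] {a : G} (ha : ∀ t : G, a * t = t * a) (x y : G) :
    ⁅x, a * y⁆ = ⁅x, y⁆ := by
  rw [commutatorElement_def, commutatorElement_def]
  calc x * (a * y) * x⁻¹ * (a * y)⁻¹ = x * (a * (y * x⁻¹ * y⁻¹)) * a⁻¹ := by
        rw [_root_.mul_inv_rev]; group
    _ = x * ((y * x⁻¹ * y⁻¹) * a) * a⁻¹ := by rw [ha (y * x⁻¹ * y⁻¹)]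
    _ = x * y * x⁻¹ * y⁻¹ := by group

lemma p6_comm_central {G : Type*} [Group G] {a b : G} (ha : ∀ t : G, a * t = t * a) (hb : ∀ t : G, b * t = t * b)
    (x y : G) : ⁅a * x, b * y⁆ = ⁅x, y⁆ := by
  rw [p6_comm_central_left ha, p6_comm_central_right hb]

/-- an element centralising a perfect group modulo scalars centralises it (any index type) -/
theorem p6_le_centralizer_of_comm_scalars {N : Subgroup (GL ι F)}
    (hperf : ⁅N, N⁆ = N) (h : GL ι F)
    (hc : ∀ x ∈ N, h * x * h⁻¹ * x⁻¹ ∈ scalars ι F) : N ≤ Subgroup.centralizer {h} := by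
  have hconj : ∀ x ∈ N, ∃ z ∈ scalars ι F, h * x * h⁻¹ = z * x := by
    intro x hx
    exact ⟨_, hc x hx, by group⟩
  have hcomm : ⁅N, N⁆ ≤ Subgroup.centralizer {h} := by
    rw [Subgroup.commutator_le]
    intro x hx y hy
    rw [Subgroup.mem_centralizer_iff]
    intro k hk
    rw [Set.mem_singleton_iff] at hk
    subst hk
    obtain ⟨z, hz, hzx⟩ := hconj x hx
    obtain ⟨w, hw, hwy⟩ := hconj y hy
    have e1 : k * ⁅x, y⁆ * k⁻¹ = ⁅k * x * k⁻¹, k * y * k⁻¹⁆ := by
      rw [commutatorElement_def, commutatorElement_def]; group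
    have e2 : ⁅z * x, w * y⁆ = ⁅x, y⁆ := p6_comm_central (p6_scalars_comm hz) (p6_scalars_comm hw) x y
    rw [hzx, hwy, e2] at e1
    calc k * ⁅x, y⁆ = k * ⁅x, y⁆ * k⁻¹ * k := by group
      _ = ⁅x, y⁆ * k := by rw [e1]
  rw [hperf] at hcomm
  exact hcomm

/-- an invertible matrix which is a multiple of the identity is a scalar -/
theorem p6_mem_scalars_of_smul_one [Nonempty ι] (g : GL ι F) (c : F)
    (hcM : (g : Matrix ι ι F) = c • (1 : Matrix ι ι F)) : g ∈ scalars ι F := by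
  rw [mem_scalars_iff]
  have hc0 : c ≠ 0 := by
    intro hc0
    rw [hc0, zero_smul] at hcM
    have h1 : (g : Matrix ι ι F) * ((g⁻¹ : GL ι F) : Matrix ι ι F) = 1 := by
      rw [← Units.val_mul, mul_inv_cancel, Units.val_one]
    rw [hcM, zero_mul] at h1
    obtain ⟨i⟩ := ‹Nonempty ι›
    have := congrFun (congrFun h1 i) i
    rw [Matrix.zero_apply, Matrix.one_apply_eq] at this
    exact zero_ne_one this
  exact ⟨Units.mk0 c hc0, hcM⟩

/-- a group of scalars is not irreducible when there are two distinct indices -/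
theorem p6_not_irr_of_le_scalars {i₀ i₁ : ι} (hne : i₀ ≠ i₁) {R : Subgroup (GL ι F)}
    (hRs : R ≤ scalars ι F) : ¬ ActsIrreducibly (matrixSet R) := by
  intro hirr
  obtain ⟨W, hW⟩ : ∃ W : Submodule F (ι → F),
      W = Submodule.span F {(Pi.single i₀ (1 : F) : ι → F)} := ⟨_, rfl⟩
  have hinv : ∀ s ∈ matrixSet R, W.map (Matrix.toLin' s) ≤ W := by
    rintro _ ⟨g, hg, rfl⟩
    obtain ⟨c, hc⟩ := (mem_scalars_iff g).1 (hRs hg)
    rintro _ ⟨v, hv, rfl⟩
    simp only [hc]
    rw [Matrix.toLin'_apply, Matrix.smul_mulVec, Matrix.one_mulVec]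
    exact W.smul_mem _ hv
  rcases hirr W hinv with h0 | h1
  · have : (Pi.single i₀ (1 : F) : ι → F) ∈ W := by
      rw [hW]; exact Submodule.subset_span rfl
    rw [h0, Submodule.mem_bot] at this
    have h2 := congrFun this i₀
    rw [Pi.single_eq_same] at h2
    exact one_ne_zero h2
  · have hmem : (Pi.single i₁ (1 : F) : ι → F) ∈ W := by
      rw [h1]; exact Submodule.mem_top
    rw [hW, Submodule.mem_span_singleton] at hmem
    obtain ⟨a, ha⟩ := hmem
    have h2 := congrFun ha i₁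
    rw [Pi.smul_apply, Pi.single_eq_same, Pi.single_eq_of_ne (Ne.symm hne), smul_zero] at h2
    exact zero_ne_one h2

end generic

variable {m : ℕ} {F : Type*} [Field F] [Fintype F]

open Cfsg.Agent.Lib.Helper5 Cfsg.Agent.Lib.Helper5.SpMax

lemma p6_sympTransvection_pow (a : Fin m ⊕ Fin m → F) (c : F) (k : ℕ) :
    (sympTransvection m a c) ^ k = sympTransvection m a ((k : F) * c) := by
  induction k with
  | zero =>
    rw [pow_zero, Nat.cast_zero, zero_mul]
    unfold sympTransvection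
    rw [zero_smul, add_zero]
  | succ k ih =>
    rw [pow_succ, ih, sympTransvection_mul]
    congr 1
    push_cast
    ring

lemma p6_two_ne_zero (hodd : Odd (Fintype.card F)) : (2 : F) ≠ 0 := by
  apply Ring.two_ne_zero
  intro h2
  have := FiniteField.even_card_of_char_two h2
  rcases hodd with ⟨k, hk⟩
  omega

/-- conjugation by a similarity preserves `Sp` -/
lemma p6_conj_mem_sp {x : GL (Fin m ⊕ Fin m) F} (hx : x ∈ similarityGroup (sympForm m F))
    {g : GL (Fin m ⊕ Fin m) F} (hg : g ∈ spGL m F) : x * g * x⁻¹ ∈ spGL m F := by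
  obtain ⟨c, hc⟩ := hx
  rw [mem_spGL] at hg ⊢
  intro u v
  have hxx : ∀ w : Fin m ⊕ Fin m → F, (x : Matrix (Fin m ⊕ Fin m) (Fin m ⊕ Fin m) F) *ᵥ
      (((x⁻¹ : GL (Fin m ⊕ Fin m) F) : Matrix (Fin m ⊕ Fin m) (Fin m ⊕ Fin m) F) *ᵥ w) = w := by
    intro w
    rw [Matrix.mulVec_mulVec, ← Units.val_mul, mul_inv_cancel, Units.val_one, Matrix.one_mulVec]
  have h1 : sympForm m F u v = (c : F) * sympForm m F
      (((x⁻¹ : GL (Fin m ⊕ Fin m) F) : Matrix (Fin m ⊕ Fin m) (Fin m ⊕ Fin m) F) *ᵥ u)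
      (((x⁻¹ : GL (Fin m ⊕ Fin m) F) : Matrix (Fin m ⊕ Fin m) (Fin m ⊕ Fin m) F) *ᵥ v) := by
    rw [← hc, hxx, hxx]
  rw [Units.val_mul, Units.val_mul, ← Matrix.mulVec_mulVec, ← Matrix.mulVec_mulVec, ← Matrix.mulVec_mulVec,
    ← Matrix.mulVec_mulVec, hc, hg, ← h1]

/-- P6, core form: `T2`, `T3`, `T4` as hypotheses -/
theorem not_sp_le_symplType_core (hm : 2 ≤ m) (hodd : Odd (Fintype.card F))
    (T2 : ⁅spGL m F, spGL m F⁆ = spGL m F)
    (T3 : ∀ N : Subgroup (GL (Fin m ⊕ Fin m) F), N ≤ spGL m F →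
      (∀ g ∈ spGL m F, ∀ x ∈ N, g * x * g⁻¹ ∈ N) → N = spGL m F ∨ N ≤ scalars (Fin m ⊕ Fin m) F)
    (T4 : ∀ X : Matrix (Fin m ⊕ Fin m) (Fin m ⊕ Fin m) F,
      (∀ a : Fin m ⊕ Fin m → F, X * sympTransvection m a 1 = sympTransvection m a 1 * X) →
      ∃ c : F, X = c • (1 : Matrix (Fin m ⊕ Fin m) (Fin m ⊕ Fin m) F))
    {R : Subgroup (GL (Fin m ⊕ Fin m) F)}
    (hR : IsSymplecticTypeGroup 2 R) (habs : ActsAbsolutelyIrreducibly (matrixSet R))
    (hsim : R ≤ similarityGroup (sympForm m F)) : ¬ spGL m F ≤ subgroupNormalizer R := by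
  intro hle
  have hnormR : ∀ g ∈ spGL m F, ∀ x ∈ R, g * x * g⁻¹ ∈ R := by
    intro g hg x hx
    have := hle hg
    unfold subgroupNormalizer at this
    rw [Subgroup.mem_normalizer_iff] at this
    exact (this x).1 hx
  have hR1norm : ∀ g ∈ spGL m F, ∀ x ∈ R ⊓ spGL m F, g * x * g⁻¹ ∈ R ⊓ spGL m F := by
    intro g hg x hx
    exact ⟨hnormR g hg x hx.1, Subgroup.mul_mem _ (Subgroup.mul_mem _ hg hx.2) (Subgroup.inv_mem _ hg)⟩
  have i0 : Fin m := ⟨0, by omega⟩
  rcases T3 (R ⊓ spGL m F) inf_le_right hR1norm with h1 | h1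
  · -- `Sp ≤ R`: a transvection is not a `2`-element
    have hSpR : spGL m F ≤ R := by rw [← h1]; exact inf_le_left
    set a : Fin m ⊕ Fin m → F := Pi.single (Sum.inl i0) 1 with ha
    have ha0 : a ≠ 0 := by
      intro h
      have := congrFun h (Sum.inl i0)
      rw [ha, Pi.single_eq_same] at this
      exact one_ne_zero this
    obtain ⟨b, hb⟩ := sympForm_nondeg a ha0
    obtain ⟨k, hk⟩ := hR.pGroup ⟨tvc a 1, hSpR (tvc_mem a 1)⟩
    have hk' : (tvc a (1 : F)) ^ (2 ^ k) = 1 := by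
      have := congrArg (fun y : R => (y : GL (Fin m ⊕ Fin m) F)) hk
      simpa using this
    have hk'' : (sympTransvection m a (1 : F)) ^ (2 ^ k) = 1 := by
      have := congrArg (fun y : GL (Fin m ⊕ Fin m) F => (y : Matrix (Fin m ⊕ Fin m) (Fin m ⊕ Fin m) F)) hk'
      simpa [tvc] using this
    rw [p6_sympTransvection_pow, mul_one] at hk''
    have h2 : sympTransvection m a (((2 ^ k : ℕ) : F)) *ᵥ b = (1 : Matrix (Fin m ⊕ Fin m) (Fin m ⊕ Fin m) F) *ᵥ b := by
      rw [hk'']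
    rw [sympTransvection_mulVec, Matrix.one_mulVec] at h2
    have h3 : ((((2 ^ k : ℕ) : F)) * sympForm m F b a) • a = 0 := by
      have := congrArg (fun w => w - b) h2
      simpa using this
    rw [smul_eq_zero] at h3
    rcases h3 with h3 | h3
    · rw [mul_eq_zero] at h3
      rcases h3 with h3 | h3
      · have : ((2 : F)) ^ k = 0 := by
          have := h3
          push_cast at this
          exact this
        exact p6_two_ne_zero hodd (eq_zero_of_pow_eq_zero this)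
      · apply hb
        rw [sympForm_swap, h3, neg_zero]
    · exact ha0 h3
  · -- `R ⊓ Sp` is scalar: then `R` is scalar
    have : Nonempty (Fin m ⊕ Fin m) := ⟨Sum.inl i0⟩
    have hRs : R ≤ scalars (Fin m ⊕ Fin m) F := by
      intro x hx
      have hcen : spGL m F ≤ Subgroup.centralizer {x} := by
        apply p6_le_centralizer_of_comm_scalars T2
        intro g hg
        apply h1
        constructor
        · have h2 := hnormR g hg x⁻¹ (R.inv_mem hx)
          have e : x * g * x⁻¹ * g⁻¹ = x * (g * x⁻¹ * g⁻¹) := by group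
          rw [e]
          exact R.mul_mem hx h2
        · exact Subgroup.mul_mem _ (p6_conj_mem_sp (hsim hx) hg) (Subgroup.inv_mem _ hg)
      obtain ⟨c, hc⟩ := T4 (x : Matrix (Fin m ⊕ Fin m) (Fin m ⊕ Fin m) F) (by
        intro a
        have h2 := hcen (tvc_mem a (1 : F))
        rw [Subgroup.mem_centralizer_iff] at h2
        have h3 := h2 x rfl
        have h4 := congrArg (fun g : GL (Fin m ⊕ Fin m) F => (g : Matrix (Fin m ⊕ Fin m) (Fin m ⊕ Fin m) F)) h3
        simp only [Units.val_mul] at h4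
        exact h4)
      exact p6_mem_scalars_of_smul_one x c hc
    have hne : (Sum.inl i0 : Fin m ⊕ Fin m) ≠ Sum.inr i0 := by
      intro h; cases h
    exact p6_not_irr_of_le_scalars hne hRs habs.1

end Cfsg.Agent.Lib.Helper23.SpMLeaf
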