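import Mathlib
import Cfsg.Agent.Lib.Helper25.SpTK
import Cfsg.Agent.Lib.Helper25.TensQ
import Cfsg.Agent.Lib.Helper25.TensI

/-!
S5704 part (I) (helper25's market), leaf 5 `KG_lt`: the tensor stabiliser does not contain `Ω`.
`g := rt Q (pt e₀ e₀) (pt e₀ e₂) 1 ∈ Ω ∖ KG`.
-/

set_option autoImplicit false
set_option linter.unusedSectionVars false
set_option linter.unusedVariables false

namespace Cfsg.Agent.Lib.Helper23.SpTLeaf
open Matrix QuadraticMap
open Cfsg.Agent.Lib.Helper25.Tens Cfsg.Agent.Lib.Helper25.TensLeaves Cfsg.Agent.Lib.Helper19.OSub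
open Cfsg.Agent.Lib.Helper25.SpT
open scoped Kronecker

variable {F : Type*} [Field F] [Fintype F] {a b : ℕ} {Q : QuadraticForm F (Idx a b → F)}
  {M : Subgroup (GL (Idx a b) F)}

/-- (I8) strictness: `KG ⊓ Ω < Ω`. -/
theorem KG_lt (h : Ctx a b Q) :
    KG a b F ⊓ Cfsg.Geo.omegaGL ⇑Q < Cfsg.Geo.omegaGL ⇑Q := by
  classical
  have ha := h.ha
  have hab := h.hab
  -- indices
  set i0 : Fin a := ⟨0, by omega⟩ with hi0
  set i1 : Fin a := ⟨1, by omega⟩ with hi1
  set l0 : Fin b := ⟨0, by omega⟩ with hl0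
  set l1 : Fin b := ⟨1, by omega⟩ with hl1
  set l2 : Fin b := ⟨2, by omega⟩ with hl2
  have hi01 : i0 ≠ i1 := by rw [hi0, hi1]; intro hh; simp [Fin.ext_iff] at hh
  have hl01 : l0 ≠ l1 := by rw [hl0, hl1]; intro hh; simp [Fin.ext_iff] at hh
  have hl02 : l0 ≠ l2 := by rw [hl0, hl2]; intro hh; simp [Fin.ext_iff] at hh
  have hl12 : l1 ≠ l2 := by rw [hl1, hl2]; intro hh; simp [Fin.ext_iff] at hh
  set ea : Fin a → Fin a → F := fun i => Pi.single i (1 : F) with hea
  set eb : Fin b → Fin b → F := fun l => Pi.single l (1 : F) with heb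
  -- values of `sf` on the basis vectors
  have sA01 : sf (ea i0) (ea i1) = 1 := by
    rw [hea]; simp only; rw [sf_single_single, Jm_apply, if_pos ⟨rfl, rfl⟩]
  have sA00 : sf (ea i0) (ea i0) = 0 := sf_self _
  have sB00 : sf (eb l0) (eb l0) = 0 := sf_self _
  have sB01 : sf (eb l0) (eb l1) = 1 := by
    rw [heb]; simp only; rw [sf_single_single, Jm_apply, if_pos ⟨rfl, rfl⟩]
  have sB02 : sf (eb l0) (eb l2) = 0 := by
    rw [heb]; simp only; rw [sf_single_single, Jm_apply, if_neg (by rw [hl0, hl2]; simp),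
      if_neg (by rw [hl0, hl2]; simp)]
  have sB20 : sf (eb l2) (eb l0) = 0 := by rw [sf_skew, sB02, neg_zero]
  have sB21 : sf (eb l2) (eb l1) = 0 := by
    rw [heb]; simp only; rw [sf_single_single, Jm_apply, if_neg (by rw [hl1, hl2]; simp),
      if_neg (by rw [hl1, hl2]; simp)]
  set u : Idx a b → F := pt (ea i0) (eb l0) with hu
  set v : Idx a b → F := pt (ea i0) (eb l2) with hv
  have hQu : Q u = 0 := h.pure _ _
  have hQv : Q v = 0 := h.pure _ _
  have huv : polar Q u v = 0 := by rw [hu, hv, h.pol, sA00, zero_mul]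
  set g : GL (Idx a b) F := rt Q u v 1 with hg
  have hgΩ : g ∈ Cfsg.Geo.omegaGL ⇑Q :=
    rt_mem_omega h.nd (by have := card_idx h; omega) u v 1
  have hmv : ∀ (x : Fin a → F) (y : Fin b → F), mv g (pt x y) =
      pt x y + ((sf (ea i0) x * sf (eb l0) y) • v - (sf (ea i0) x * sf (eb l2) y) • u) := by
    intro x y
    rw [hg, mv_rt hQu hQv huv, one_smul, hu, hv, h.pol, h.pol]
  refine lt_of_le_of_ne inf_le_right ?_
  intro heq
  have hgK : g ∈ KG a b F := by
    have : g ∈ KG a b F ⊓ Cfsg.Geo.omegaGL ⇑Q := by rw [heq]; exact hgΩ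
    exact this.1
  obtain ⟨α, β, hαβ⟩ := (mem_KG_iff g).mp hgK
  have hmv' : ∀ (x : Fin a → F) (y : Fin b → F), mv g (pt x y) =
      pt ((α : Matrix (Fin a) (Fin a) F) *ᵥ x) ((β : Matrix (Fin b) (Fin b) F) *ᵥ y) := by
    intro x y
    show (g : Matrix (Idx a b) (Idx a b) F) *ᵥ pt x y = _
    rw [hαβ, kron_mulVec_pt]
  -- entries
  have hent : ∀ (j i : Fin a) (l k : Fin b), (mv g (pt (ea j) (eb l))) (i, k) =
      (α : Matrix (Fin a) (Fin a) F) i j * (β : Matrix (Fin b) (Fin b) F) k l := by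
    intro j i l k
    rw [hmv', hea, heb]
    simp only [pt, Matrix.mulVec_single_one, Matrix.col_apply]
  -- (E1)
  have e1 : (α : Matrix (Fin a) (Fin a) F) i0 i0 * (β : Matrix (Fin b) (Fin b) F) l0 l0 = 1 := by
    rw [← hent, hmv, sA00, zero_mul, zero_mul, zero_smul, zero_smul, sub_zero, add_zero]
    simp [pt, hea, heb]
  -- (E2)
  have e2 : (α : Matrix (Fin a) (Fin a) F) i0 i1 * (β : Matrix (Fin b) (Fin b) F) l0 l0 = 0 := by
    rw [← hent, hmv, sB00, sB20, mul_zero, zero_smul, zero_smul, sub_zero, add_zero]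
    simp [pt, hea, heb, hi01]
  -- (E3)
  have e3 : (α : Matrix (Fin a) (Fin a) F) i0 i1 * (β : Matrix (Fin b) (Fin b) F) l2 l1 = 1 := by
    rw [← hent, hmv, sA01, sB01, sB21, mul_zero, zero_smul, sub_zero, one_mul, one_smul, hv]
    simp [pt, hea, heb, hi01, hl12.symm]
  have hβ0 : (β : Matrix (Fin b) (Fin b) F) l0 l0 ≠ 0 := by
    intro h0
    rw [h0, mul_zero] at e1
    exact zero_ne_one e1
  have hα0 : (α : Matrix (Fin a) (Fin a) F) i0 i1 = 0 := by
    rcases mul_eq_zero.mp e2 with h0 | h0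
    · exact h0
    · exact absurd h0 hβ0
  rw [hα0, zero_mul] at e3
  exact zero_ne_one e3

end Cfsg.Agent.Lib.Helper23.SpTLeaf
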