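import Mathlib
import Cfsg.Agent.Lib.Helper29.SpPrfDefs
import Cfsg.Agent.Lib.Helper29.AschKF2
import Cfsg.Agent.Lib.Helper26.AschNL
import Cfsg.Agent.Lib.Helper9.TensSwap
import Cfsg.Agent.Lib.Helper17.SpAschQ0
import Cfsg.Agent.Lib.Helper17.SpAschZ
import Cfsg.Agent.Lib.Helper20.SpTnsDefs

/-!
S5662 block TNS (sub-planner helper20), leaf K2 `kron_alt_cases` (exact signature of `notes/S5662_TNS_leaves.lean`).
-/

set_option autoImplicit false
set_option linter.unusedSectionVars false
set_option linter.unusedVariables false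

namespace Cfsg.Agent.Lib.Helper23.SpTnsLeaf
open Matrix Cfsg Cfsg.Geo Cfsg.Agent.Lib.Helper20.Asch Cfsg.Agent.Lib.Helper29.SpAsch
  Cfsg.Agent.Lib.Helper20.SpTns
open scoped Kronecker

variable {F : Type*} [Field F] [Fintype F] {n m : ℕ} {J : Matrix (Fin n) (Fin n) F}
  {H N : Subgroup (GL (Fin n) F)}

/-- a matrix with non-zero determinant (positive size) has a non-zero entry -/
lemma k2_exists_entry {s : ℕ} (hs : 0 < s) (G : Matrix (Fin s) (Fin s) F) (hd : G.det ≠ 0) :
    ∃ a b, G a b ≠ 0 := by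
  by_contra hne
  push Not at hne
  have hG : G = 0 := by
    ext a b
    exact hne a b
  have hne' : Nonempty (Fin s) := ⟨⟨0, hs⟩⟩
  rw [hG] at hd
  exact hd (@Matrix.det_zero _ _ _ _ _ hne')

/-- (K2) [M] THE SYMMETRY TYPES OF THE FACTORS. -/
theorem kron_alt_cases {s k : ℕ} (hs : 0 < s) (hk : 0 < k) (G₁ : Matrix (Fin s) (Fin s) F)
    (G₂ : Matrix (Fin k) (Fin k) F) (h : IsAltGram (G₁ ⊗ₖ G₂)) :
    (IsAltGram G₁ ∧ G₂ᵀ = G₂ ∧ G₂.det ≠ 0) ∨ (G₁ᵀ = G₁ ∧ G₁.det ≠ 0 ∧ IsAltGram G₂) := by
  -- determinants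
  have hdet := h.det
  rw [Matrix.det_kronecker] at hdet
  simp only [Fintype.card_fin] at hdet
  have hd1 : G₁.det ≠ 0 := by
    intro h0
    rw [h0, zero_pow (Nat.pos_iff_ne_zero.mp hk), zero_mul] at hdet
    exact hdet rfl
  have hd2 : G₂.det ≠ 0 := by
    intro h0
    rw [h0, zero_pow (Nat.pos_iff_ne_zero.mp hs), mul_zero] at hdet
    exact hdet rfl
  -- entries
  have hent : ∀ a b c d, G₁ b a * G₂ d c = -(G₁ a b * G₂ c d) := by
    intro a b c d
    have := congrFun (congrFun h.skew (a, c)) (b, d)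
    simpa [Matrix.transpose_apply, Matrix.kroneckerMap_apply, Matrix.neg_apply] using this
  have hdiag : ∀ a c, G₁ a a * G₂ c c = 0 := by
    intro a c
    have := h.diag (a, c)
    simpa [Matrix.kroneckerMap_apply] using this
  obtain ⟨a₀, b₀, hx⟩ := k2_exists_entry hs G₁ hd1
  obtain ⟨c₀, d₀, hy⟩ := k2_exists_entry hk G₂ hd2
  have hxy := hent a₀ b₀ c₀ d₀
  have hx' : G₁ b₀ a₀ ≠ 0 := by
    intro h0
    rw [h0, zero_mul] at hxy
    exact mul_ne_zero hx hy (neg_eq_zero.mp hxy.symm)
  have hy' : G₂ d₀ c₀ ≠ 0 := by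
    intro h0
    rw [h0, mul_zero] at hxy
    exact mul_ne_zero hx hy (neg_eq_zero.mp hxy.symm)
  -- `G₂ᵀ = ν G₂`
  set ν : F := -(G₁ a₀ b₀) / G₁ b₀ a₀ with hν
  have hν2 : ∀ c d, G₂ d c = ν * G₂ c d := by
    intro c d
    have := hent a₀ b₀ c d
    rw [hν]
    field_simp
    linear_combination this
  have hνν : ν * ν = 1 := by
    have h1 := hν2 c₀ d₀
    have h2 := hν2 d₀ c₀
    rw [h1, ← mul_assoc] at h2
    have h3 : (ν * ν - 1) * G₂ c₀ d₀ = 0 := by linear_combination -h2
    rcases mul_eq_zero.mp h3 with h4 | h4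
    · linear_combination h4
    · exact absurd h4 hy
  rcases mul_self_eq_one_iff.mp hνν with h1 | h1
  · -- `G₂` symmetric, `G₁` skew
    have hG2 : ∀ c d, G₂ d c = G₂ c d := by
      intro c d
      rw [hν2 c d, h1, one_mul]
    have hG1 : ∀ a b, G₁ b a = -G₁ a b := by
      intro a b
      have h5 := hent a b c₀ d₀
      rw [hG2 c₀ d₀] at h5
      have h6 : (G₁ b a + G₁ a b) * G₂ c₀ d₀ = 0 := by linear_combination h5
      rcases mul_eq_zero.mp h6 with h7 | h7
      · linear_combination h7
      · exact absurd h7 hy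
    by_cases hz : ∀ a, G₁ a a = 0
    · left
      refine ⟨⟨?_, hz, hd1⟩, ?_, hd2⟩
      · ext a b
        rw [Matrix.transpose_apply, Matrix.neg_apply]
        exact hG1 a b
      · ext c d
        rw [Matrix.transpose_apply]
        exact hG2 c d
    · push Not at hz
      obtain ⟨a, ha⟩ := hz
      -- then `2 = 0`
      have h2 : (2 : F) = 0 := by
        have h8 := hG1 a a
        have h9 : (2 : F) * G₁ a a = 0 := by linear_combination h8
        rcases mul_eq_zero.mp h9 with h10 | h10
        · exact h10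
        · exact absurd h10 ha
      have hneg : ∀ x : F, -x = x := by
        intro x
        linear_combination (-x) * h2
      right
      refine ⟨?_, hd1, ⟨?_, ?_, hd2⟩⟩
      · ext a' b'
        rw [Matrix.transpose_apply, hG1 b' a', hneg]
      · ext c d
        rw [Matrix.transpose_apply, Matrix.neg_apply, hG2 d c, hneg]
      · intro c
        rcases mul_eq_zero.mp (hdiag a c) with h11 | h11
        · exact absurd h11 ha
        · exact h11
  · -- `G₂` skew, `G₁` symmetric
    have hG2 : ∀ c d, G₂ d c = -G₂ c d := by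
      intro c d
      rw [hν2 c d, h1, neg_one_mul]
    have hG1 : ∀ a b, G₁ b a = G₁ a b := by
      intro a b
      have h5 := hent a b c₀ d₀
      rw [hG2 c₀ d₀] at h5
      have h6 : (G₁ b a - G₁ a b) * G₂ c₀ d₀ = 0 := by linear_combination -h5
      rcases mul_eq_zero.mp h6 with h7 | h7
      · linear_combination h7
      · exact absurd h7 hy
    by_cases hz : ∀ c, G₂ c c = 0
    · right
      refine ⟨?_, hd1, ⟨?_, hz, hd2⟩⟩
      · ext a b
        rw [Matrix.transpose_apply]
        exact hG1 a b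
      · ext c d
        rw [Matrix.transpose_apply, Matrix.neg_apply]
        exact hG2 c d
    · push Not at hz
      obtain ⟨c, hc⟩ := hz
      have h2 : (2 : F) = 0 := by
        have h8 := hG2 c c
        have h9 : (2 : F) * G₂ c c = 0 := by linear_combination h8
        rcases mul_eq_zero.mp h9 with h10 | h10
        · exact h10
        · exact absurd h10 hc
      have hneg : ∀ x : F, -x = x := by
        intro x
        linear_combination (-x) * h2
      left
      refine ⟨⟨?_, ?_, hd1⟩, ?_, hd2⟩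
      · ext a b
        rw [Matrix.transpose_apply, Matrix.neg_apply, hG1 b a, hneg]
      · intro a
        rcases mul_eq_zero.mp (hdiag a c) with h11 | h11
        · exact h11
        · exact absurd h11 hc
      · ext c' d'
        rw [Matrix.transpose_apply, hG2 d' c', hneg]

end Cfsg.Agent.Lib.Helper23.SpTnsLeaf
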