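import Mathlib

set_option autoImplicit false

namespace Cfsg.Agent.Lib.Helper23.TWCOP

open MulAction

/-- **TWCOP**.  Coprime orbit lengths: the stabilizer of `c` is transitive on the orbit of `d`. -/
theorem TWCOP {H X : Type*} [Group H] [Finite H] [MulAction H X] (c d : X)
    (hcop : Nat.Coprime (Nat.card ↥(orbit H c)) (Nat.card ↥(orbit H d))) :
    ∀ d' ∈ orbit H d, ∃ h : H, h • c = c ∧ h • d = d' := by
  classical
  set S : Subgroup H := stabilizer H c with hS
  rw [Nat.card_coe_set_eq, Nat.card_coe_set_eq] at hcop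
  -- the orbit of `d` under `S`
  have hsub : orbit ↥S d ⊆ orbit H d := by
    rintro _ ⟨s, rfl⟩
    exact ⟨(s : H), rfl⟩
  have hfinO : (orbit H d).Finite := Set.finite_range _
  have hfinS : (orbit ↥S d).Finite := hfinO.subset hsub
  -- index computations
  have hstab : stabilizer ↥S d = (stabilizer H d).subgroupOf S := by
    ext s
    simp only [mem_stabilizer_iff, Subgroup.mem_subgroupOf]
    rfl
  have h1 : (stabilizer H c ⊓ stabilizer H d).relIndex (stabilizer H c) * (stabilizer H c).index
      = (stabilizer H c ⊓ stabilizer H d).index :=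
    Subgroup.relIndex_mul_index inf_le_left
  have h2 : (stabilizer H c ⊓ stabilizer H d).relIndex (stabilizer H d) * (stabilizer H d).index
      = (stabilizer H c ⊓ stabilizer H d).index :=
    Subgroup.relIndex_mul_index inf_le_right
  have h3 : (stabilizer H c ⊓ stabilizer H d).relIndex (stabilizer H c)
      = (orbit ↥S d).ncard := by
    rw [Subgroup.inf_relIndex_left, ← index_stabilizer, hstab]
    rfl
  rw [index_stabilizer] at h1 h2
  rw [h3] at h1
  have hdvd : (orbit H d).ncard ∣ (orbit ↥S d).ncard * (orbit H c).ncard := by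
    rw [h1, ← h2]
    exact Dvd.intro_left _ rfl
  have hdvd' : (orbit H d).ncard ∣ (orbit ↥S d).ncard :=
    (Nat.Coprime.dvd_mul_right hcop.symm).1 hdvd
  have hpos : 0 < (orbit ↥S d).ncard :=
    (Set.ncard_pos hfinS).2 ⟨d, mem_orbit_self d⟩
  have hle : (orbit H d).ncard ≤ (orbit ↥S d).ncard := Nat.le_of_dvd hpos hdvd'
  have heq : orbit ↥S d = orbit H d := Set.eq_of_subset_of_ncard_le hsub hle hfinO
  intro d' hd'
  rw [← heq] at hd'
  obtain ⟨s, rfl⟩ := hd'
  exact ⟨(s : H), mem_stabilizer_iff.1 s.2, rfl⟩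

end Cfsg.Agent.Lib.Helper23.TWCOP
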