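import Mathlib
import Cfsg.Agent.Lib.Helper25.TWDefs
import Cfsg.Agent.Lib.Helper1.PRDefs
import Cfsg.Agent.Lib.Helper23.TWCOP

set_option autoImplicit false

namespace Cfsg.Agent.Lib.Helper23.TW3T

open MulAction Cfsg.Agent.Lib.Helper1.PR Cfsg.Agent.Lib.Helper25.TW

section
variable {G Ω : Type*} [Group G] [MulAction G Ω]

theorem mem_orb {a b x y : Ω} :
    y ∈ orbit ↥(stabilizer G a ⊓ stabilizer G b) x ↔
      ∃ g : G, g • a = a ∧ g • b = b ∧ g • x = y := by
  constructor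
  · rintro ⟨⟨g, hg⟩, rfl⟩
    exact ⟨g, mem_stabilizer_iff.1 hg.1, mem_stabilizer_iff.1 hg.2, rfl⟩
  · rintro ⟨g, ha, hb, rfl⟩
    exact ⟨⟨g, mem_stabilizer_iff.2 ha, mem_stabilizer_iff.2 hb⟩, rfl⟩

theorem orb_smul {a b x y : Ω} (g : G) (ha : g • a = a) (hb : g • b = b)
    (hy : y ∈ orbit ↥(stabilizer G a ⊓ stabilizer G b) x) :
    g • y ∈ orbit ↥(stabilizer G a ⊓ stabilizer G b) x := by
  obtain ⟨g', ha', hb', rfl⟩ := mem_orb.1 hy
  exact mem_orb.2 ⟨g * g', by rw [mul_smul, ha', ha], by rw [mul_smul, hb', hb], mul_smul _ _ _⟩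

theorem orb_smul_iff {a b x y : Ω} (g : G) (ha : g • a = a) (hb : g • b = b) :
    g • y ∈ orbit ↥(stabilizer G a ⊓ stabilizer G b) x ↔
      y ∈ orbit ↥(stabilizer G a ⊓ stabilizer G b) x := by
  constructor
  · intro h
    have ha' : g⁻¹ • a = a := by rw [inv_smul_eq_iff, ha]
    have hb' : g⁻¹ • b = b := by rw [inv_smul_eq_iff, hb]
    have := orb_smul g⁻¹ ha' hb' h
    rwa [inv_smul_smul] at this
  · exact orb_smul g ha hb

theorem orb_ne_a {a b x y : Ω} (hy : y ∈ orbit ↥(stabilizer G a ⊓ stabilizer G b) x)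
    (hx : x ≠ a) : y ≠ a := by
  obtain ⟨g, ha, _, rfl⟩ := mem_orb.1 hy
  intro h
  exact hx (smul_left_cancel g (h.trans ha.symm))

theorem orb_ne_b {a b x y : Ω} (hy : y ∈ orbit ↥(stabilizer G a ⊓ stabilizer G b) x)
    (hx : x ≠ b) : y ≠ b := by
  obtain ⟨g, _, hb, rfl⟩ := mem_orb.1 hy
  intro h
  exact hx (smul_left_cancel g (h.trans hb.symm))

/-- a map `x ↦ g • x` sending a finite set into itself preserves membership both ways -/
theorem mem_iff_of_mapsTo {O : Set Ω} (hO : O.Finite) (g : G) (h : ∀ x ∈ O, g • x ∈ O) (x : Ω) :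
    x ∈ O ↔ g • x ∈ O := by
  constructor
  · exact h x
  · intro hx
    have himg : (fun y => g • y) '' O = O := by
      apply Set.eq_of_subset_of_ncard_le
      · rintro _ ⟨y, hy, rfl⟩
        exact h y hy
      · rw [Set.ncard_image_of_injective _ (MulAction.injective g)]
      · exact hO
    rw [← himg] at hx
    obtain ⟨y, hy, hyx⟩ := hx
    have : y = x := MulAction.injective g hyx
    rwa [← this]

end

section
variable {G Ω : Type*} [Group G] [Finite G] [MulAction G Ω] [Finite Ω]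

theorem card_sum (q : ℕ) (hΩ : Nat.card Ω = q + 2)
    (h4 : FewOrbits G Ω) (a b : Ω)
    (hab : a ≠ b) (c d : Ω) (hca : c ≠ a) (hcb : c ≠ b) (hda : d ≠ a) (hdb : d ≠ b)
    (hcd : d ∉ orbit ↥(stabilizer G a ⊓ stabilizer G b) c) :
    (orbit ↥(stabilizer G a ⊓ stabilizer G b) c).ncard +
      (orbit ↥(stabilizer G a ⊓ stabilizer G b) d).ncard = q := by
  classical
  set Oc : Set Ω := orbit ↥(stabilizer G a ⊓ stabilizer G b) c with hOc
  set Od : Set Ω := orbit ↥(stabilizer G a ⊓ stabilizer G b) d with hOd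
  have hcOc : c ∈ Oc := mem_orbit_self c
  have hdOd : d ∈ Od := mem_orbit_self d
  have hdisj : ∀ x, x ∈ Oc → x ∉ Od := by
    intro x hxc hxd
    apply hcd
    obtain ⟨g₁, ha₁, hb₁, rfl⟩ := mem_orb.1 hxc
    obtain ⟨g₂, ha₂, hb₂, h12⟩ := mem_orb.1 hxd
    refine mem_orb.2 ⟨g₂⁻¹ * g₁, ?_, ?_, ?_⟩
    · rw [mul_smul, ha₁, inv_smul_eq_iff, ha₂]
    · rw [mul_smul, hb₁, inv_smul_eq_iff, hb₂]
    · rw [mul_smul, inv_smul_eq_iff, h12]
  have hdecomp : ∀ x, x ≠ a → x ≠ b → x ∈ Oc ∨ x ∈ Od := by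
    intro x hxa hxb
    by_cases hx : x ∈ Oc
    · exact Or.inl hx
    · right
      have hS := h4 a b hab {y | y ≠ a ∧ y ≠ b ∧ y ∉ Oc} ?_ ?_ ?_ ⟨c, ?_, hca, hcb⟩ d ?_ x ?_
      · obtain ⟨g, ha, hb, hg⟩ := hS
        exact mem_orb.2 ⟨g, ha, hb, hg⟩
      · rintro g ha hb y ⟨hya, hyb, hyc⟩
        refine ⟨fun h => hya (smul_left_cancel g (h.trans ha.symm)),
          fun h => hyb (smul_left_cancel g (h.trans hb.symm)), fun h => hyc ?_⟩
        exact (orb_smul_iff g ha hb).1 h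
      · exact fun h => h.1 rfl
      · exact fun h => h.2.1 rfl
      · exact fun h => h.2.2 hcOc
      · exact ⟨hda, hdb, hcd⟩
      · exact ⟨hxa, hxb, hx⟩
  have hunion : Oc ∪ Od = ({a, b} : Set Ω)ᶜ := by
    ext x
    simp only [Set.mem_union, Set.mem_compl_iff, Set.mem_insert_iff, Set.mem_singleton_iff,
      not_or]
    constructor
    · rintro (h | h)
      · exact ⟨orb_ne_a h hca, orb_ne_b h hcb⟩
      · exact ⟨orb_ne_a h hda, orb_ne_b h hdb⟩
    · rintro ⟨h1, h2'⟩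
      exact hdecomp x h1 h2'
  have hdisj' : Disjoint Oc Od := Set.disjoint_left.2 hdisj
  rw [← Set.ncard_union_eq hdisj' (Set.toFinite _) (Set.toFinite _), hunion, Set.ncard_compl,
    Set.ncard_pair hab, hΩ]
  omega

theorem key (q : ℕ) (hq : q.Prime) (hΩ : Nat.card Ω = q + 2) (h2 : TwoTrans G Ω)
    (h4 : FewOrbits G Ω) (hno : ∀ (a : Ω) (B : Set Ω), ¬ NontrivABlock G a B) (a b : Ω)
    (hab : a ≠ b) (c d : Ω) (hca : c ≠ a) (hcb : c ≠ b) (hda : d ≠ a) (hdb : d ≠ b)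
    (hcd : d ∉ orbit ↥(stabilizer G a ⊓ stabilizer G b) c)
    (hlt : (orbit ↥(stabilizer G a ⊓ stabilizer G b) c).ncard <
      (orbit ↥(stabilizer G a ⊓ stabilizer G b) d).ncard) : False := by
  classical
  set Oc : Set Ω := orbit ↥(stabilizer G a ⊓ stabilizer G b) c with hOc
  set Od : Set Ω := orbit ↥(stabilizer G a ⊓ stabilizer G b) d with hOd
  have hcOc : c ∈ Oc := mem_orbit_self c
  have hdOd : d ∈ Od := mem_orbit_self d
  -- disjointness
  have hdisj : ∀ x, x ∈ Oc → x ∉ Od := by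
    intro x hxc hxd
    apply hcd
    obtain ⟨g₁, ha₁, hb₁, rfl⟩ := mem_orb.1 hxc
    obtain ⟨g₂, ha₂, hb₂, h12⟩ := mem_orb.1 hxd
    -- d = g₂⁻¹ g₁ c
    refine mem_orb.2 ⟨g₂⁻¹ * g₁, ?_, ?_, ?_⟩
    · rw [mul_smul, ha₁, inv_smul_eq_iff, ha₂]
    · rw [mul_smul, hb₁, inv_smul_eq_iff, hb₂]
    · rw [mul_smul, inv_smul_eq_iff, h12]
  -- decomposition
  have hdecomp : ∀ x, x ≠ a → x ≠ b → x ∈ Oc ∨ x ∈ Od := by
    intro x hxa hxb
    by_cases hx : x ∈ Oc
    · exact Or.inl hx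
    · right
      have hS := h4 a b hab {y | y ≠ a ∧ y ≠ b ∧ y ∉ Oc} ?_ ?_ ?_ ⟨c, ?_, hca, hcb⟩ d ?_ x ?_
      · obtain ⟨g, ha, hb, hg⟩ := hS
        exact mem_orb.2 ⟨g, ha, hb, hg⟩
      · rintro g ha hb y ⟨hya, hyb, hyc⟩
        refine ⟨fun h => hya (smul_left_cancel g (h.trans ha.symm)),
          fun h => hyb (smul_left_cancel g (h.trans hb.symm)), fun h => hyc ?_⟩
        exact (orb_smul_iff g ha hb).1 h
      · exact fun h => h.1 rfl
      · exact fun h => h.2.1 rfl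
      · exact fun h => h.2.2 hcOc
      · exact ⟨hda, hdb, hcd⟩
      · exact ⟨hxa, hxb, hx⟩
  -- cardinalities
  have hunion : Oc ∪ Od = ({a, b} : Set Ω)ᶜ := by
    ext x
    simp only [Set.mem_union, Set.mem_compl_iff, Set.mem_insert_iff, Set.mem_singleton_iff,
      not_or]
    constructor
    · rintro (h | h)
      · exact ⟨orb_ne_a h hca, orb_ne_b h hcb⟩
      · exact ⟨orb_ne_a h hda, orb_ne_b h hdb⟩
    · rintro ⟨h1, h2'⟩
      exact hdecomp x h1 h2'
  have hdisj' : Disjoint Oc Od := Set.disjoint_left.2 hdisj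
  have hcard : Oc.ncard + Od.ncard = q := by
    rw [← Set.ncard_union_eq hdisj' (Set.toFinite _) (Set.toFinite _), hunion, Set.ncard_compl,
      Set.ncard_pair hab, hΩ]
    omega
  have hkpos : 0 < Oc.ncard := (Set.ncard_pos (Set.toFinite _)).2 ⟨c, hcOc⟩
  have hlpos : 0 < Od.ncard := (Set.ncard_pos (Set.toFinite _)).2 ⟨d, hdOd⟩
  have hcop : Nat.Coprime Oc.ncard Od.ncard := by
    have hg : Nat.gcd Oc.ncard Od.ncard ∣ q := by
      rw [← hcard]
      exact Nat.dvd_add (Nat.gcd_dvd_left _ _) (Nat.gcd_dvd_right _ _)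
    rcases (Nat.dvd_prime hq).1 hg with h | h
    · exact h
    · exfalso
      have h1 : Nat.gcd Oc.ncard Od.ncard ≤ Oc.ncard := Nat.le_of_dvd hkpos (Nat.gcd_dvd_left _ _)
      omega
  -- the CLAIM
  have hclaim : ∀ g : G, g • a = a → (g • b = b ∨ g • b ∈ Oc) → ∀ x, x ∈ Od ↔ g • x ∈ Od := by
    intro g hga hgb x
    rcases hgb with hgb | hgb
    · exact (orb_smul_iff g hga hgb).symm
    · -- `c' = g • b ∈ Oc`
      have hginva : g⁻¹ • a = a := by rw [inv_smul_eq_iff, hga]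
      have horb : orbit ↥(stabilizer G a ⊓ stabilizer G b) (g • b) = Oc :=
        (MulAction.orbit_eq_iff).2 hgb
      have hcop' : Nat.Coprime (Nat.card ↥(orbit ↥(stabilizer G a ⊓ stabilizer G b) (g • b)))
          (Nat.card ↥(orbit ↥(stabilizer G a ⊓ stabilizer G b) d)) := by
        rw [Nat.card_coe_set_eq, Nat.card_coe_set_eq, horb]
        exact hcop
      have hT := Cfsg.Agent.Lib.Helper23.TWCOP.TWCOP (H := ↥(stabilizer G a ⊓ stabilizer G b))
        (g • b) d hcop'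
      -- transport along `g⁻¹`
      have htrans : ∀ (O : Set Ω), (∀ (k : G), k • a = a → k • b = b → ∀ y ∈ O, k • y ∈ O) →
          g⁻¹ • d ∈ O → ∀ y ∈ Od, g⁻¹ • y ∈ O := by
        intro O hO hd0 y hy
        obtain ⟨⟨h, hh⟩, hhc, hhd⟩ := hT y hy
        have hha : h • a = a := mem_stabilizer_iff.1 hh.1
        have hhb : h • b = b := mem_stabilizer_iff.1 hh.2
        have hhc' : h • (g • b) = g • b := hhc
        have hhd' : h • d = y := hhd
        have h1 : g⁻¹ • y = (g⁻¹ * h * g) • (g⁻¹ • d) := by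
          rw [mul_smul, mul_smul, smul_inv_smul, hhd']
        rw [h1]
        apply hO _ _ _ _ hd0
        · rw [mul_smul, mul_smul, hga, hha, hginva]
        · rw [mul_smul, mul_smul, hhc', inv_smul_smul]
      have hd0a : g⁻¹ • d ≠ a := by
        intro h
        rw [inv_smul_eq_iff, hga] at h
        exact hda h
      have hd0b : g⁻¹ • d ≠ b := by
        intro h
        rw [inv_smul_eq_iff] at h
        rw [h] at hdOd
        exact hdisj _ hgb hdOd
      have hmaps : ∀ y ∈ Od, g⁻¹ • y ∈ Od := by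
        rcases hdecomp _ hd0a hd0b with h0 | h0
        · -- impossible: `Od` would inject into `Oc`
          exfalso
          have hall := htrans Oc (fun k hka hkb y hy => orb_smul k hka hkb hy) h0
          have hle : Od.ncard ≤ Oc.ncard :=
            Set.ncard_le_ncard_of_injOn (fun y => g⁻¹ • y) hall
              (fun y _ y' _ hyy' => MulAction.injective g⁻¹ hyy') (Set.toFinite _)
          omega
        · exact htrans Od (fun k hka hkb y hy => orb_smul k hka hkb hy) h0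
      have hiff := mem_iff_of_mapsTo (Set.toFinite Od) g⁻¹ hmaps (g • x)
      rw [inv_smul_smul] at hiff
      exact hiff.symm
  -- the block
  have hBlock : NontrivABlock G a {x | x ≠ a ∧ x ∉ Od} := by
    have hBmem : ∀ x, x ≠ a → x ∉ Od → (x = b ∨ x ∈ Oc) := by
      intro x hxa hxd
      by_cases hxb : x = b
      · exact Or.inl hxb
      · rcases hdecomp x hxa hxb with h | h
        · exact Or.inr h
        · exact absurd h hxd
    refine ⟨⟨fun h => h.1 rfl, ?_⟩, ⟨b, ⟨hab.symm, ?_⟩, c, ⟨hca, hdisj c hcOc⟩, hcb.symm⟩,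
      ⟨d, hda, fun h => h.2 hdOd⟩⟩
    · intro g hga
      by_cases hex : ∃ x, (x ≠ a ∧ x ∉ Od) ∧ (g • x ≠ a ∧ g • x ∉ Od)
      · left
        obtain ⟨x, ⟨hxa, hxd⟩, ⟨hgxa, hgxd⟩⟩ := hex
        obtain ⟨g₁, hg₁a, hg₁b⟩ := h2 a b a x hab hxa.symm
        have hc1 := hclaim g₁ hg₁a (by rw [hg₁b]; exact hBmem x hxa hxd)
        have hc2 := hclaim (g * g₁) (by rw [mul_smul, hg₁a, hga])
          (by rw [mul_smul, hg₁b]; exact hBmem _ hgxa hgxd)
        rintro y ⟨hya, hyd⟩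
        refine ⟨fun h => hya (smul_left_cancel g (h.trans hga.symm)), fun h => hyd ?_⟩
        -- `g • y ∈ Od`, so `y ∈ Od`
        have h3 : (g * g₁) • (g₁⁻¹ • y) ∈ Od := by
          rw [mul_smul, smul_inv_smul]; exact h
        have h4' : g₁⁻¹ • y ∈ Od := (hc2 _).2 h3
        have h5 := (hc1 _).1 h4'
        rwa [smul_inv_smul] at h5
      · right
        rintro y hy hgy
        exact hex ⟨y, hy, hgy⟩
    · intro hb
      exact orb_ne_b hb hdb rfl
  exact hno a _ hBlock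

end

/-- **TW3T**.  Coprime suborbits give a block: the two-point stabilizers are transitive on the other
`q` points. -/
theorem TW3T {G Ω : Type*} [Group G] [Finite G] [MulAction G Ω] [Finite Ω] (q : ℕ) (hq : q.Prime)
    (hq2 : q ≠ 2) (hΩ : Nat.card Ω = q + 2) (h2 : TwoTrans G Ω) (h4 : FewOrbits G Ω)
    (hno : ∀ (a : Ω) (B : Set Ω), ¬ NontrivABlock G a B) (a b : Ω) (hab : a ≠ b) :
    TransOff2 G a b := by
  classical
  intro c d hca hcb hda hdb
  by_contra hcon
  have hcd : d ∉ orbit ↥(stabilizer G a ⊓ stabilizer G b) c := by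
    intro h
    exact hcon (mem_orb.1 h)
  have hdc : c ∉ orbit ↥(stabilizer G a ⊓ stabilizer G b) d := by
    intro h
    apply hcd
    rw [MulAction.orbit_eq_iff.2 h]
    exact mem_orbit_self d
  rcases lt_trichotomy (orbit ↥(stabilizer G a ⊓ stabilizer G b) c).ncard
      (orbit ↥(stabilizer G a ⊓ stabilizer G b) d).ncard with hlt | heq | hgt
  · exact key q hq hΩ h2 h4 hno a b hab c d hca hcb hda hdb hcd hlt
  · -- equal sizes: `q` even
    have hsum := card_sum q hΩ h4 a b hab c d hca hcb hda hdb hcd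
    rw [heq] at hsum
    have h2q : 2 ∣ q := ⟨_, by rw [← hsum]; ring⟩
    exact hq2 ((Nat.prime_dvd_prime_iff_eq Nat.prime_two hq).1 h2q).symm
  · exact key q hq hΩ h2 h4 hno a b hab d c hda hdb hca hcb hdc hgt

end Cfsg.Agent.Lib.Helper23.TW3T
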