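import Mathlib
import Cfsg.Agent.Lib.Helper5.TWS.Defs
import Cfsg.Agent.Lib.Helper8.TW.Defs
import Cfsg.Agent.Lib.Helper9.TWST3

/-!
S5668 (owner helper5) symplectic toolkit, part 4 (helper23): the form splits at a position — ST1' `sfT_tens`, ST1'' `sfT_tens_right`
(exact signatures of `notes/S5668_I_leaves.lean`), `JT_ins`, `JT_mulVec_tens`, `dot_tens`.
-/

set_option autoImplicit false
set_option linter.unusedSectionVars false
set_option linter.unusedVariables false

namespace Cfsg.Agent.Lib.Helper23.TWST4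
open Matrix Cfsg.Geo Cfsg.Agent.Lib.Helper18.AschA89 Cfsg.Agent.Lib.Helper8.TW Cfsg.Agent.Lib.Helper5.TWS
open Cfsg.Agent.Lib.Helper25.SpT (sf Jm sfv)

variable {F : Type*} [Field F] {t k : ℕ}

/-- the Gram matrix splits at position `i` -/
lemma JT_ins (i : Fin (t + 1)) (a a' : Fin k) (u u' : Idx t k) :
    JT (t + 1) k F (ins i a u) (ins i a' u') = (Jm k : Matrix (Fin k) (Fin k) F) a a' * JT t k F u u' := by
  rw [JT_apply, JT_apply, Fin.prod_univ_succAbove _ i]
  simp only [ins_same, ins_succAbove]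

/-- dot product of pure tensors -/
lemma dot_tens (i : Fin (t + 1)) (b c : Idx t k → F) (a d : Fin k → F) :
    tens i b a ⬝ᵥ tens i c d = (b ⬝ᵥ c) * (a ⬝ᵥ d) := by
  unfold dotProduct
  rw [sum_ins i, Finset.sum_comm, Finset.sum_mul_sum]
  apply Finset.sum_congr rfl
  intro u _
  apply Finset.sum_congr rfl
  intro a₁ _
  simp only [tens, ins_same, ins_succAbove]
  ring

/-- the Gram matrix on pure tensors -/
lemma JT_mulVec_tens (i : Fin (t + 1)) (b : Idx t k → F) (a : Fin k → F) :
    JT (t + 1) k F *ᵥ tens i b a = tens i (JT t k F *ᵥ b) ((Jm k : Matrix (Fin k) (Fin k) F) *ᵥ a) := by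
  funext x
  rw [← ins_rem i x]
  simp only [Matrix.mulVec, dotProduct, tens, ins_same, ins_succAbove]
  rw [sum_ins i, Finset.sum_comm, Finset.sum_mul_sum]
  apply Finset.sum_congr rfl
  intro u _
  apply Finset.sum_congr rfl
  intro a₁ _
  rw [JT_ins]
  simp only [ins_same, ins_succAbove]
  ring

/-- ST1' the form splits at position `i` -/
theorem sfT_tens (i : Fin (t + 1)) (b b' : Idx t k → F) (a a' : Fin k → F) :
    sfT (tens i b a) (tens i b' a') = sfT b b' * sf a a' := by
  unfold sfT Cfsg.Agent.Lib.Helper25.SpT.sf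
  rw [JT_mulVec_tens, dot_tens]

/-- ST1'' `sfT v (b ⊗ a) = sfT (ctr i (sfv a) v) b` -/
theorem sfT_tens_right (i : Fin (t + 1)) (v : Idx (t + 1) k → F) (b : Idx t k → F) (a : Fin k → F) :
    sfT v (tens i b a) = sfT (ctr i (sfv a) v) b := by
  unfold sfT
  rw [JT_mulVec_tens]
  unfold dotProduct
  rw [sum_ins i, Finset.sum_comm]
  apply Finset.sum_congr rfl
  intro u _
  unfold ctr tens
  rw [Finset.sum_mul]
  apply Finset.sum_congr rfl
  intro c _
  simp only [ins_same, ins_succAbove, Cfsg.Agent.Lib.Helper25.SpT.sfv]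
  ring

end Cfsg.Agent.Lib.Helper23.TWST4
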