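import Mathlib
import Cfsg.Agent.Lib.Helper5.TWS.Defs
import Cfsg.Agent.Lib.Helper8.TW.Defs
import Cfsg.Agent.Lib.Helper22.TWExtBasic
import Cfsg.Agent.Lib.Helper22.TWExtMore
import Cfsg.Agent.Lib.Helper9.TWST3
import Cfsg.Agent.Lib.Helper23.TWST4
import Cfsg.Agent.Lib.Helper26.TWFibA
import Cfsg.Agent.Lib.Helper14.TWIIDefs
import Cfsg.Agent.Lib.Helper14.TWIIBBK
import Cfsg.Agent.Lib.Helper14.TWSIIDefs
import Cfsg.Agent.Lib.Helper28.TWIIBE

/-!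
# S5668 (C7 symplectic; owner helper5), Stage II (sub-planner helper14): leaf N1 `U3S_normal` (SYMPLECTIC NORMAL FORM)

A similitude `g' = (α ⊗ γ) z` (`α y = y`, `z ∈ Z_W` form-free) can be rewritten with `α₁ ∈ Δ(A)`,
`z₁ = 1 + θ ⊗ y y† ∈ GSV`.  Exact signature of `notes/S5668_II_leaves.lean`.  Port of `Helper23.TWUIIU3` (no conjugations:
`ε(y',y') = 0`, `c₁ = 0`, `θ = D_{y'}` is `sfT`-selfadjoint).
-/

set_option autoImplicit false
set_option linter.unusedSectionVars false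
set_option linter.unusedVariables false

namespace Cfsg.Agent.Lib.Helper23.TWSIILeaf
open Matrix Cfsg.Geo Cfsg.Agent.Lib.Helper18.AschA89 Cfsg.Agent.Lib.Helper8.TW Cfsg.Agent.Lib.Helper5.TWS
  Cfsg.Agent.Lib.Helper14.TWII Cfsg.Agent.Lib.Helper14.TWSII
open Cfsg.Agent.Lib.Helper25.SpT (sf Jm sfv)
open Cfsg.Agent.Lib.Helper23.TWUQ (NSp)

variable {F : Type*} [Field F] [Fintype F] {t k : ℕ}

/-! ### local tools: linearity of `tens`, root nilpotents on pure tensors, matrices by pure tensors -/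

lemma s3_tens_add_r (i : Fin (t + 1)) (b : Idx t k → F) (a a' : Fin k → F) :
    tens i b (a + a') = tens i b a + tens i b a' := by
  funext x
  simp only [tens, Pi.add_apply]
  ring

lemma s3_tens_smul_r (i : Fin (t + 1)) (b : Idx t k → F) (c : F) (a : Fin k → F) :
    tens i b (c • a) = c • tens i b a := by
  funext x
  simp only [tens, Pi.smul_apply, smul_eq_mul]
  ring

lemma s3_tens_add_l (i : Fin (t + 1)) (b b' : Idx t k → F) (a : Fin k → F) :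
    tens i (b + b') a = tens i b a + tens i b' a := by
  funext x
  simp only [tens, Pi.add_apply]
  ring

lemma s3_tens_smul_l (i : Fin (t + 1)) (c : F) (b : Idx t k → F) (a : Fin k → F) :
    tens i (c • b) a = c • tens i b a := by
  funext x
  simp only [tens, Pi.smul_apply, smul_eq_mul]
  ring

lemma s3_rootN_tens (i : Fin (t + 1)) (y η : Fin k → F) (b : Idx t k → F) (a : Fin k → F) :
    rootN i y η *ᵥ tens i b a = (η ⬝ᵥ a) • tens i b y := by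
  unfold rootN
  rw [Cfsg.Agent.Lib.Helper22.TWLeaf.slot_mulVec_tens, ← s3_tens_smul_r]
  congr 1
  funext c
  simp only [Matrix.mulVec, dotProduct, Matrix.vecMulVec_apply, Pi.smul_apply, smul_eq_mul]
  rw [Finset.sum_mul]
  apply Finset.sum_congr rfl
  intro d _
  ring

/-- two matrices agreeing on all pure tensors are equal -/
lemma s3_mat_eq_of_tens (i : Fin (t + 1)) {M M' : Matrix (Idx (t + 1) k) (Idx (t + 1) k) F}
    (h : ∀ b a, M *ᵥ tens i b a = M' *ᵥ tens i b a) : M = M' := by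
  classical
  apply Cfsg.Agent.Lib.Helper22.TWLeaf.mat_ext_ins i
  intro a b u u'
  have h1 := congrFun (h (Pi.single u' 1) (eo b)) (ins i a u)
  rw [Cfsg.Agent.Lib.Helper14.TWIIBLeaf.tens_single_eo, Matrix.mulVec_single_one, Matrix.mulVec_single_one] at h1
  exact h1

lemma s3_vmv (y ξ a : Fin k → F) : Matrix.vecMulVec y ξ *ᵥ a = (ξ ⬝ᵥ a) • y := by
  funext c
  simp only [Matrix.mulVec, dotProduct, Matrix.vecMulVec_apply, Pi.smul_apply, smul_eq_mul]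
  rw [Finset.sum_mul]
  apply Finset.sum_congr rfl
  intro d _
  ring

/-! ### the adjoint of `ext i θ` -/

lemma s3_prT_ins (hk : Even k) (i : Fin (t + 1)) (a : Fin k) (u : Idx t k) :
    Cfsg.Agent.Lib.Helper9.TWST.prT hk (ins i a u) =
      ins i (Cfsg.Agent.Lib.Helper25.SpT.pr hk a) (Cfsg.Agent.Lib.Helper9.TWST.prT hk u) := by
  funext j
  rcases Fin.eq_self_or_eq_succAbove i j with h | ⟨j', h⟩
  · subst h
    simp only [Cfsg.Agent.Lib.Helper9.TWST.prT, ins_same]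
  · subst h
    simp only [Cfsg.Agent.Lib.Helper9.TWST.prT, ins_succAbove]

lemma s3_sgT_ins (hk : Even k) (i : Fin (t + 1)) (a : Fin k) (u : Idx t k) :
    (Cfsg.Agent.Lib.Helper9.TWST.sgT hk (ins i a u) : F) =
      Cfsg.Agent.Lib.Helper9.TWST.sg hk a * Cfsg.Agent.Lib.Helper9.TWST.sgT hk u := by
  unfold Cfsg.Agent.Lib.Helper9.TWST.sgT
  rw [Fin.prod_univ_succAbove _ i]
  simp only [ins_same, ins_succAbove]

/-- the adjoint of `ext i θ` is `ext i` of the adjoint -/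
theorem adjT_ext (hk : Even k) (i : Fin (t + 1)) (θ : Matrix (Idx t k) (Idx t k) F) :
    Cfsg.Agent.Lib.Helper9.TWST.adjT hk (ext i θ) = ext i (Cfsg.Agent.Lib.Helper9.TWST.adjT hk θ) := by
  apply Cfsg.Agent.Lib.Helper22.TWLeaf.mat_ext_ins i
  intro a b u u'
  rw [Cfsg.Agent.Lib.Helper9.TWST.adjT_apply, s3_prT_ins, s3_prT_ins, Cfsg.Agent.Lib.Helper22.TWLeaf.ext_ins,
    Cfsg.Agent.Lib.Helper22.TWLeaf.ext_ins, s3_sgT_ins, s3_sgT_ins]
  by_cases hab : a = b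
  · subst hab
    rw [if_pos rfl, if_pos rfl, Cfsg.Agent.Lib.Helper9.TWST.adjT_apply]
    have h := Cfsg.Agent.Lib.Helper9.TWST.sg_sq (F := F) hk a
    linear_combination (Cfsg.Agent.Lib.Helper9.TWST.sgT hk u * Cfsg.Agent.Lib.Helper9.TWST.sgT hk u' *
      θ (Cfsg.Agent.Lib.Helper9.TWST.prT hk u') (Cfsg.Agent.Lib.Helper9.TWST.prT hk u)) * h
  · rw [if_neg hab, if_neg, mul_zero]
    intro h
    apply hab
    have := congrArg (Cfsg.Agent.Lib.Helper25.SpT.pr hk) h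
    rw [Cfsg.Agent.Lib.Helper25.SpT.pr_pr, Cfsg.Agent.Lib.Helper25.SpT.pr_pr] at this
    exact this.symm

/-! ### the context -/

/-- the data of `U3S_normal` -/
structure S3Ctx (F : Type*) [Field F] [Fintype F] (t k : ℕ) where
  i : Fin (t + 1)
  y : Fin k → F
  φ : Fin k → F
  y' : Fin k → F
  e₁ : Idx t k → F
  e₁' : Idx t k → F
  α : GL (Fin k) F
  γ : GL (Idx t k) F
  z : GL (Idx (t + 1) k) F
  g' : GL (Idx (t + 1) k) F
  μ : F
  hk : Even k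
  hy0 : y ≠ 0
  hφ : φ ⬝ᵥ y = 1
  hy'1 : sf y' y = 1
  he : sfT e₁ e₁' = 1
  hα : (α : Matrix (Fin k) (Fin k) F) *ᵥ y = y
  hz : InZ i y z
  hg : g' = slotGL i α * extGL i γ * z
  hμ0 : μ ≠ 0
  hsim : ∀ u v, sfT ((g' : Matrix (Idx (t + 1) k) (Idx (t + 1) k) F) *ᵥ u)
    ((g' : Matrix (Idx (t + 1) k) (Idx (t + 1) k) F) *ᵥ v) = μ * sfT u v

namespace S3Ctx
variable (C : S3Ctx F t k)

/-- the operator `D_a` of `z`: `z (b ⊗ a) = b ⊗ a + (D_a b) ⊗ y` -/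
def D (a : Fin k → F) (b : Idx t k → F) : Idx t k → F :=
  ctr C.i C.φ (((C.z : Matrix (Idx (t + 1) k) (Idx (t + 1) k) F) - 1) *ᵥ tens C.i b a)

lemma z_tens (a : Fin k → F) (b : Idx t k → F) :
    (C.z : Matrix (Idx (t + 1) k) (Idx (t + 1) k) F) *ᵥ tens C.i b a = tens C.i b a + tens C.i (C.D a b) C.y := by
  have h1 := C.hz.1 (tens C.i b a)
  rw [Cfsg.Agent.Lib.Helper22.TWLeaf.mem_Wf_iff_tens C.i C.y C.hy0] at h1
  obtain ⟨b₀, hb₀⟩ := h1
  have hb₀' : (C.z : Matrix (Idx (t + 1) k) (Idx (t + 1) k) F) *ᵥ tens C.i b a - tens C.i b a = tens C.i b₀ C.y := hb₀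
  have h2 : C.D a b = b₀ := by
    unfold D
    rw [Matrix.sub_mulVec, Matrix.one_mulVec, hb₀', Cfsg.Agent.Lib.Helper22.TWLeaf.ctr_tens, C.hφ, one_smul]
  rw [h2, ← hb₀']
  abel

lemma D_add_l (a a' : Fin k → F) (b : Idx t k → F) : C.D (a + a') b = C.D a b + C.D a' b := by
  unfold D
  rw [s3_tens_add_r, Matrix.mulVec_add, Cfsg.Agent.Lib.Helper22.TWLeaf.ctr_add]

lemma D_smul_l (c : F) (a : Fin k → F) (b : Idx t k → F) : C.D (c • a) b = c • C.D a b := by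
  unfold D
  rw [s3_tens_smul_r, Matrix.mulVec_smul, Cfsg.Agent.Lib.Helper22.TWLeaf.ctr_smul]

lemma D_add_r (a : Fin k → F) (b b' : Idx t k → F) : C.D a (b + b') = C.D a b + C.D a b' := by
  unfold D
  rw [s3_tens_add_l, Matrix.mulVec_add, Cfsg.Agent.Lib.Helper22.TWLeaf.ctr_add]

lemma D_smul_r (a : Fin k → F) (c : F) (b : Idx t k → F) : C.D a (c • b) = c • C.D a b := by
  unfold D
  rw [s3_tens_smul_l, Matrix.mulVec_smul, Cfsg.Agent.Lib.Helper22.TWLeaf.ctr_smul]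

lemma g_val : (C.g' : Matrix (Idx (t + 1) k) (Idx (t + 1) k) F) =
    slot k (t + 1) C.i (C.α : Matrix (Fin k) (Fin k) F) *
      (ext C.i (C.γ : Matrix (Idx t k) (Idx t k) F) * (C.z : Matrix (Idx (t + 1) k) (Idx (t + 1) k) F)) := by
  rw [C.hg, Units.val_mul, Units.val_mul, slotGL_val, extGL_val, Matrix.mul_assoc]

lemma g_tens (a : Fin k → F) (b : Idx t k → F) :
    (C.g' : Matrix (Idx (t + 1) k) (Idx (t + 1) k) F) *ᵥ tens C.i b a =
      tens C.i ((C.γ : Matrix (Idx t k) (Idx t k) F) *ᵥ b) ((C.α : Matrix (Fin k) (Fin k) F) *ᵥ a) +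
        tens C.i ((C.γ : Matrix (Idx t k) (Idx t k) F) *ᵥ C.D a b) C.y := by
  rw [C.g_val, ← Matrix.mulVec_mulVec, ← Matrix.mulVec_mulVec, C.z_tens, Matrix.mulVec_add,
    Cfsg.Agent.Lib.Helper22.TWLeaf.ext_mulVec_tens, Cfsg.Agent.Lib.Helper22.TWLeaf.ext_mulVec_tens, Matrix.mulVec_add,
    Cfsg.Agent.Lib.Helper22.TWLeaf.slot_mulVec_tens, Cfsg.Agent.Lib.Helper22.TWLeaf.slot_mulVec_tens, C.hα]

lemma g_tens_y (b : Idx t k → F) :
    (C.g' : Matrix (Idx (t + 1) k) (Idx (t + 1) k) F) *ᵥ tens C.i b C.y =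
      tens C.i ((C.γ : Matrix (Idx t k) (Idx t k) F) *ᵥ b) C.y := by
  have h1 : (C.z : Matrix (Idx (t + 1) k) (Idx (t + 1) k) F) *ᵥ tens C.i b C.y = tens C.i b C.y :=
    C.hz.2 _ ((Cfsg.Agent.Lib.Helper22.TWLeaf.mem_Wf_iff_tens C.i C.y C.hy0 _).2 ⟨b, rfl⟩)
  rw [C.g_val, ← Matrix.mulVec_mulVec, ← Matrix.mulVec_mulVec, h1,
    Cfsg.Agent.Lib.Helper22.TWLeaf.ext_mulVec_tens, Cfsg.Agent.Lib.Helper22.TWLeaf.slot_mulVec_tens, C.hα]

lemma sf_yy : sf C.y C.y = 0 := Cfsg.Agent.Lib.Helper25.SpT.sf_self C.y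

lemma hy1' : sf C.y C.y' = -1 := by
  rw [Cfsg.Agent.Lib.Helper25.SpT.sf_skew, C.hy'1]

/-- (a) the similitude identity on `b' ⊗ a'`, `b ⊗ y` -/
lemma simA (b b' : Idx t k → F) (a' : Fin k → F) :
    sfT ((C.γ : Matrix (Idx t k) (Idx t k) F) *ᵥ b') ((C.γ : Matrix (Idx t k) (Idx t k) F) *ᵥ b) *
      sf ((C.α : Matrix (Fin k) (Fin k) F) *ᵥ a') C.y = C.μ * (sfT b' b * sf a' C.y) := by
  have h := C.hsim (tens C.i b' a') (tens C.i b C.y)
  rw [C.g_tens_y, C.g_tens, sfT_add_left, Cfsg.Agent.Lib.Helper23.TWST4.sfT_tens,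
    Cfsg.Agent.Lib.Helper23.TWST4.sfT_tens, Cfsg.Agent.Lib.Helper23.TWST4.sfT_tens, C.sf_yy, mul_zero, add_zero] at h
  exact h

/-- `ρ = f(α y', y)` -/
def ρ : F := sf ((C.α : Matrix (Fin k) (Fin k) F) *ᵥ C.y') C.y

/-- the multiplier of `γ` -/
def ν : F := sfT ((C.γ : Matrix (Idx t k) (Idx t k) F) *ᵥ C.e₁) ((C.γ : Matrix (Idx t k) (Idx t k) F) *ᵥ C.e₁')

lemma νρ : C.ν * C.ρ = C.μ := by
  have h := C.simA C.e₁' C.e₁ C.y'
  rw [C.he, C.hy'1, mul_one, mul_one] at h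
  exact h

lemma ρ_ne : C.ρ ≠ 0 := by
  intro h
  have := C.νρ
  rw [h, mul_zero] at this
  exact C.hμ0 this.symm

lemma ν_ne : C.ν ≠ 0 := by
  intro h
  have := C.νρ
  rw [h, zero_mul] at this
  exact C.hμ0 this.symm

lemma γ_sim (b b' : Idx t k → F) :
    sfT ((C.γ : Matrix (Idx t k) (Idx t k) F) *ᵥ b) ((C.γ : Matrix (Idx t k) (Idx t k) F) *ᵥ b') = C.ν * sfT b b' := by
  have h := C.simA b' b C.y'
  rw [C.hy'1, mul_one, ← C.νρ] at h
  apply mul_right_cancel₀ C.ρ_ne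
  change _ * sf ((C.α : Matrix (Fin k) (Fin k) F) *ᵥ C.y') C.y = _
  rw [h]
  unfold ρ
  ring

lemma α_y' (a : Fin k → F) : sf ((C.α : Matrix (Fin k) (Fin k) F) *ᵥ a) C.y = C.ρ * sf a C.y := by
  have h := C.simA C.e₁' C.e₁ a
  rw [C.he, one_mul, ← C.νρ] at h
  apply mul_left_cancel₀ C.ν_ne
  change sfT ((C.γ : Matrix (Idx t k) (Idx t k) F) *ᵥ C.e₁) ((C.γ : Matrix (Idx t k) (Idx t k) F) *ᵥ C.e₁') * _ = _
  rw [h]
  ring

lemma α_y (a : Fin k → F) : sf C.y ((C.α : Matrix (Fin k) (Fin k) F) *ᵥ a) = C.ρ * sf C.y a := by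
  rw [Cfsg.Agent.Lib.Helper25.SpT.sf_skew, C.α_y', Cfsg.Agent.Lib.Helper25.SpT.sf_skew a C.y]
  ring

/-- the identity (I) -/
lemma identI (a a' : Fin k → F) (b b' : Idx t k → F) :
    sfT b b' * (sf ((C.α : Matrix (Fin k) (Fin k) F) *ᵥ a) ((C.α : Matrix (Fin k) (Fin k) F) *ᵥ a') - C.ρ * sf a a') +
      C.ρ * sf a C.y * sfT b (C.D a' b') + C.ρ * sf C.y a' * sfT (C.D a b) b' = 0 := by
  have h := C.hsim (tens C.i b a) (tens C.i b' a')
  rw [C.g_tens, C.g_tens] at h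
  simp only [sfT_add_left, sfT_add_right, Cfsg.Agent.Lib.Helper23.TWST4.sfT_tens, C.sf_yy, C.γ_sim, C.α_y, C.α_y',
    mul_zero, add_zero] at h
  rw [← C.νρ] at h
  apply mul_left_cancel₀ C.ν_ne
  linear_combination h

/-- `ε(a, y')` -/
def ε (a : Fin k → F) : F :=
  sf ((C.α : Matrix (Fin k) (Fin k) F) *ᵥ a) ((C.α : Matrix (Fin k) (Fin k) F) *ᵥ C.y') - C.ρ * sf a C.y'

/-- (F1) `D_a` is scalar for `a ⊥ y` -/
lemma D_perp (a₀ : Fin k → F) (h0 : sf a₀ C.y = 0) (b : Idx t k → F) :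
    C.D a₀ b = (C.ε a₀ / C.ρ) • b := by
  rw [← sub_eq_zero]
  apply Cfsg.Agent.Lib.Helper9.TWST.sfT_nondeg_left C.hk
  intro b'
  have h := C.identI a₀ C.y' b b'
  rw [h0, C.hy1', mul_zero, zero_mul, add_zero] at h
  rw [sfT_sub_left, sfT_smul_left, sub_eq_zero]
  have hρ := C.ρ_ne
  unfold ε
  field_simp
  linear_combination -h

lemma ε_y' : C.ε C.y' = 0 := by
  unfold ε
  rw [Cfsg.Agent.Lib.Helper25.SpT.sf_self, Cfsg.Agent.Lib.Helper25.SpT.sf_self, mul_zero, sub_zero]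

/-- (F3) `D_{y'}` is selfadjoint -/
lemma D_y' (b b' : Idx t k → F) : sfT (C.D C.y' b) b' = sfT b (C.D C.y' b') := by
  have h := C.identI C.y' C.y' b b'
  rw [C.hy1', C.hy'1, mul_one] at h
  have hε := C.ε_y'
  unfold ε at hε
  rw [hε, mul_zero, zero_add] at h
  have hρ := C.ρ_ne
  apply mul_left_cancel₀ hρ
  linear_combination -h

/-- `D_{y'}` as a linear map -/
def Dl : (Idx t k → F) →ₗ[F] (Idx t k → F) where
  toFun := C.D C.y'
  map_add' := C.D_add_r C.y'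
  map_smul' := fun c b => C.D_smul_r C.y' c b

/-- `θ = D_{y'}` -/
noncomputable def θ : Matrix (Idx t k) (Idx t k) F := LinearMap.toMatrix' C.Dl

lemma θ_mulVec (b : Idx t k → F) : C.θ *ᵥ b = C.D C.y' b := by
  unfold θ
  rw [LinearMap.toMatrix'_mulVec]
  rfl

/-- `ξ` -/
def ξ : Fin k → F :=
  (C.ρ)⁻¹ • (Matrix.vecMul (sfv ((C.α : Matrix (Fin k) (Fin k) F) *ᵥ C.y')) (C.α : Matrix (Fin k) (Fin k) F)
    - C.ρ • sfv C.y')

lemma ξ_dot (a : Fin k → F) : C.ξ ⬝ᵥ a = (C.ρ)⁻¹ * C.ε a := by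
  unfold ξ ε
  rw [smul_dotProduct, sub_dotProduct, smul_dotProduct, ← Matrix.dotProduct_mulVec,
    Cfsg.Agent.Lib.Helper25.SpT.sfv_dot, Cfsg.Agent.Lib.Helper25.SpT.sfv_dot]
  simp only [smul_eq_mul]

lemma ξ_y : C.ξ ⬝ᵥ C.y = 0 := by
  rw [C.ξ_dot]
  unfold ε
  rw [C.hα, C.hy1', C.α_y, C.hy1']
  ring

/-- (★D) -/
lemma D_eq (a : Fin k → F) (b : Idx t k → F) :
    C.D a b = (C.ξ ⬝ᵥ a) • b + sf a C.y • (C.θ *ᵥ b) := by
  have ha : a = (a - sf a C.y • C.y') + sf a C.y • C.y' := by abel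
  have h0 : sf (a - sf a C.y • C.y') C.y = 0 := by
    rw [Cfsg.Agent.Lib.Helper25.SpT.sf_sub_left, Cfsg.Agent.Lib.Helper25.SpT.sf_smul_left, C.hy'1, mul_one, sub_self]
  have hε : C.ε (a - sf a C.y • C.y') = C.ε a := by
    have h1 : C.ε (a - sf a C.y • C.y') = C.ε a - sf a C.y * C.ε C.y' := by
      unfold ε
      rw [Matrix.mulVec_sub, Matrix.mulVec_smul, Cfsg.Agent.Lib.Helper25.SpT.sf_sub_left,
        Cfsg.Agent.Lib.Helper25.SpT.sf_smul_left, Cfsg.Agent.Lib.Helper25.SpT.sf_sub_left,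
        Cfsg.Agent.Lib.Helper25.SpT.sf_smul_left]
      ring
    rw [h1, C.ε_y', mul_zero, sub_zero]
  conv_lhs => rw [ha]
  rw [C.D_add_l, C.D_smul_l, C.D_perp _ h0, hε, C.θ_mulVec, C.ξ_dot]
  congr 2
  rw [div_eq_inv_mul]

lemma θ_self (b b' : Idx t k → F) : sfT (C.θ *ᵥ b) b' = sfT b (C.θ *ᵥ b') := by
  rw [C.θ_mulVec, C.θ_mulVec]
  exact C.D_y' b b'

lemma adjT_θ : Cfsg.Agent.Lib.Helper9.TWST.adjT C.hk C.θ = C.θ := by
  have h1 : ∀ b' : Idx t k → F, (Cfsg.Agent.Lib.Helper9.TWST.adjT C.hk C.θ - C.θ) *ᵥ b' =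
      (0 : Matrix (Idx t k) (Idx t k) F) *ᵥ b' := by
    intro b'
    rw [Matrix.zero_mulVec]
    apply Cfsg.Agent.Lib.Helper9.TWST.sfT_nondeg_right C.hk
    intro b
    rw [Matrix.sub_mulVec, sfT_sub_right, ← Cfsg.Agent.Lib.Helper9.TWST.sfT_mulVec_left C.hk, sub_eq_zero]
    exact C.θ_self b b'
  rw [← sub_eq_zero]
  apply Matrix.toLin'.injective
  apply LinearMap.ext
  intro v
  rw [Matrix.toLin'_apply, Matrix.toLin'_apply]
  exact h1 v

/-- the structure of `z` -/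
lemma z_eq :
    (C.z : Matrix (Idx (t + 1) k) (Idx (t + 1) k) F) =
      1 + rootN C.i C.y C.ξ + ext C.i C.θ * rootN C.i C.y (sfv C.y) := by
  apply s3_mat_eq_of_tens C.i
  intro b a
  rw [C.z_tens, Matrix.add_mulVec, Matrix.add_mulVec, Matrix.one_mulVec, s3_rootN_tens, ← Matrix.mulVec_mulVec,
    s3_rootN_tens, Matrix.mulVec_smul, Cfsg.Agent.Lib.Helper22.TWLeaf.ext_mulVec_tens, C.D_eq,
    s3_tens_add_l, s3_tens_smul_l, s3_tens_smul_l, Cfsg.Agent.Lib.Helper25.SpT.sfv_dot, add_assoc]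

/-- the identity (II) -/
lemma identII (a a' : Fin k → F) :
    sf ((C.α : Matrix (Fin k) (Fin k) F) *ᵥ a) ((C.α : Matrix (Fin k) (Fin k) F) *ᵥ a') - C.ρ * sf a a' +
      C.ρ * sf a C.y * (C.ξ ⬝ᵥ a') + C.ρ * sf C.y a' * (C.ξ ⬝ᵥ a) = 0 := by
  have h := C.identI a a' C.e₁ C.e₁'
  rw [C.D_eq, C.D_eq, sfT_add_right, sfT_smul_right, sfT_smul_right, sfT_add_left, sfT_smul_left, sfT_smul_left,
    C.he] at h
  have hs := C.θ_self C.e₁ C.e₁'
  have hsk := Cfsg.Agent.Lib.Helper25.SpT.sf_skew C.y a'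
  rw [hsk] at h ⊢
  linear_combination h + C.ρ * sf a C.y * sf a' C.y * hs

/-- the normal form, in the context -/
lemma main : ∃ (α₁ : GL (Fin k) F) (z₁ : GL (Idx (t + 1) k) F) (θ : Matrix (Idx t k) (Idx t k) F),
    α₁ ∈ DSA k F ∧ (α₁ : Matrix (Fin k) (Fin k) F) *ᵥ C.y = C.y ∧ z₁ ∈ GSV (t + 1) k F ∧
      (z₁ : Matrix (Idx (t + 1) k) (Idx (t + 1) k) F) = 1 + ext C.i θ * rootN C.i C.y (sfv C.y) ∧
      C.g' = slotGL C.i α₁ * extGL C.i C.γ * z₁ := by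
  classical
  have hξy : C.ξ ⬝ᵥ C.y = 0 := C.ξ_y
  have hA : Matrix.vecMulVec C.y C.ξ * Matrix.vecMulVec C.y C.ξ = 0 := by
    rw [Matrix.vecMulVec_mul_vecMulVec, hξy, zero_smul, Matrix.vecMulVec_zero]
  have hNN : rootN C.i C.y (sfv C.y) * rootN C.i C.y (sfv C.y) = 0 :=
    rootN_mul_self C.i C.y (sfv C.y) (by rw [Cfsg.Agent.Lib.Helper25.SpT.sfv_dot]; exact C.sf_yy)
  have hc : rootN C.i C.y (sfv C.y) * ext C.i C.θ = ext C.i C.θ * rootN C.i C.y (sfv C.y) :=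
    (Cfsg.Agent.Lib.Helper22.TWLeaf.ext_comm_slot C.i _ _).symm
  have hM : (ext C.i C.θ * rootN C.i C.y (sfv C.y)) * (ext C.i C.θ * rootN C.i C.y (sfv C.y)) = 0 := by
    calc (ext C.i C.θ * rootN C.i C.y (sfv C.y)) * (ext C.i C.θ * rootN C.i C.y (sfv C.y))
        = ext C.i C.θ * (rootN C.i C.y (sfv C.y) * ext C.i C.θ) * rootN C.i C.y (sfv C.y) := by
          simp only [Matrix.mul_assoc]
      _ = ext C.i C.θ * ext C.i C.θ * (rootN C.i C.y (sfv C.y) * rootN C.i C.y (sfv C.y)) := by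
          rw [hc]; simp only [Matrix.mul_assoc]
      _ = 0 := by rw [hNN, Matrix.mul_zero]
  have e : ∀ a : Fin k → F,
      ((C.α * unip (Matrix.vecMulVec C.y C.ξ) hA : GL (Fin k) F) : Matrix (Fin k) (Fin k) F) *ᵥ a =
        (C.α : Matrix (Fin k) (Fin k) F) *ᵥ a + (C.ξ ⬝ᵥ a) • C.y := by
    intro a
    rw [Units.val_mul, unip_val, Matrix.mul_add, Matrix.mul_one, Matrix.add_mulVec, ← Matrix.mulVec_mulVec, s3_vmv,
      Matrix.mulVec_smul, C.hα]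
  refine ⟨C.α * unip (Matrix.vecMulVec C.y C.ξ) hA, unip _ hM, C.θ, ?_, ?_, ?_, rfl, ?_⟩
  · -- `α₁ ∈ Δ(A)`
    rw [mem_DSA]
    refine ⟨Units.mk0 C.ρ C.ρ_ne, ?_⟩
    intro u v
    rw [e, e, Units.val_mk0, Cfsg.Agent.Lib.Helper25.SpT.sf_add_left, Cfsg.Agent.Lib.Helper25.SpT.sf_add_right,
      Cfsg.Agent.Lib.Helper25.SpT.sf_add_right, Cfsg.Agent.Lib.Helper25.SpT.sf_smul_left,
      Cfsg.Agent.Lib.Helper25.SpT.sf_smul_left, Cfsg.Agent.Lib.Helper25.SpT.sf_smul_right,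
      Cfsg.Agent.Lib.Helper25.SpT.sf_smul_right, C.sf_yy, C.α_y, C.α_y']
    have h := C.identII u v
    linear_combination h
  · -- `α₁ y = y`
    rw [e, hξy, zero_smul, add_zero, C.hα]
  · -- `z₁ ∈ GSV`
    rw [Cfsg.Agent.Lib.Helper9.TWST.mem_GSV_iff C.hk, unip_val, Cfsg.Agent.Lib.Helper9.TWST.adjT_add,
      Cfsg.Agent.Lib.Helper9.TWST.adjT_one, Cfsg.Agent.Lib.Helper9.TWST.adjT_mul,
      Cfsg.Agent.Lib.Helper9.TWST.adjT_rootN_sfv, adjT_ext, C.adjT_θ, neg_mul, hc, add_mul, one_mul, mul_add,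
      mul_one, neg_mul, hM]
    abel
  · -- the factorisation
    have hNξN : rootN C.i C.y C.ξ * rootN C.i C.y (sfv C.y) = 0 := by
      unfold rootN
      rw [slot_mul, Matrix.vecMulVec_mul_vecMulVec, hξy, zero_smul, Matrix.vecMulVec_zero, slot_zero]
    have hcξ : rootN C.i C.y C.ξ * ext C.i C.θ = ext C.i C.θ * rootN C.i C.y C.ξ :=
      (Cfsg.Agent.Lib.Helper22.TWLeaf.ext_comm_slot C.i _ _).symm
    have hcγ : rootN C.i C.y C.ξ * ext C.i (C.γ : Matrix (Idx t k) (Idx t k) F) =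
        ext C.i (C.γ : Matrix (Idx t k) (Idx t k) F) * rootN C.i C.y C.ξ :=
      (Cfsg.Agent.Lib.Helper22.TWLeaf.ext_comm_slot C.i _ _).symm
    have key : (1 + rootN C.i C.y C.ξ) * (1 + ext C.i C.θ * rootN C.i C.y (sfv C.y)) =
        1 + rootN C.i C.y C.ξ + ext C.i C.θ * rootN C.i C.y (sfv C.y) := by
      rw [add_mul, one_mul, mul_add, mul_one, ← Matrix.mul_assoc, hcξ, Matrix.mul_assoc, hNξN, Matrix.mul_zero,
        add_zero]
      abel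
    have hs : slot k (t + 1) C.i ((C.α : Matrix (Fin k) (Fin k) F) * (1 + Matrix.vecMulVec C.y C.ξ)) =
        slot k (t + 1) C.i (C.α : Matrix (Fin k) (Fin k) F) * (1 + rootN C.i C.y C.ξ) := by
      rw [← slot_mul, slot_add, slot_one]
      rfl
    apply Units.ext
    rw [C.g_val, Units.val_mul, Units.val_mul, slotGL_val, extGL_val, Units.val_mul, unip_val, unip_val, hs,
      C.z_eq, ← key]
    have hcγ' : (1 + rootN C.i C.y C.ξ) * ext C.i (C.γ : Matrix (Idx t k) (Idx t k) F) =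
        ext C.i (C.γ : Matrix (Idx t k) (Idx t k) F) * (1 + rootN C.i C.y C.ξ) := by
      rw [add_mul, one_mul, mul_add, mul_one, hcγ]
    rw [Matrix.mul_assoc (slot k (t + 1) C.i (C.α : Matrix (Fin k) (Fin k) F)), hcγ']
    simp only [Matrix.mul_assoc]

end S3Ctx

/-- N1 (L) **SYMPLECTIC NORMAL FORM** -/
theorem U3S_normal (hk : Even k) (hk2 : 2 ≤ k) (i : Fin (t + 1)) (y : Fin k → F) (hy0 : y ≠ 0)
    (g' : GL (Idx (t + 1) k) F) (hg'D : g' ∈ DSV (t + 1) k F) (α : GL (Fin k) F)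
    (γ : GL (Idx t k) F) (z : GL (Idx (t + 1) k) F) (hα : (α : Matrix (Fin k) (Fin k) F) *ᵥ y = y)
    (hz : InZ i y z) (hg : g' = slotGL i α * extGL i γ * z) :
    ∃ (α₁ : GL (Fin k) F) (z₁ : GL (Idx (t + 1) k) F) (θ : Matrix (Idx t k) (Idx t k) F),
      α₁ ∈ DSA k F ∧ (α₁ : Matrix (Fin k) (Fin k) F) *ᵥ y = y ∧ z₁ ∈ GSV (t + 1) k F ∧
        (z₁ : Matrix (Idx (t + 1) k) (Idx (t + 1) k) F) = 1 + ext i θ * rootN i y (sfv y) ∧
        g' = slotGL i α₁ * extGL i γ * z₁ := by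
  classical
  obtain ⟨φ, hφ⟩ := Cfsg.Agent.Lib.Helper26.TWLeaf.exists_dot_one26 y hy0
  rw [dotProduct_comm] at hφ
  obtain ⟨w, hw⟩ := Cfsg.Agent.Lib.Helper25.SpT.exists_sf_ne_zero hk hy0
  have hw' : sf w y ≠ 0 := by
    rw [Cfsg.Agent.Lib.Helper25.SpT.sf_skew]
    exact neg_ne_zero.2 hw
  -- a pair `e₁, e₁'` of `B` with `sfT e₁ e₁' = 1`
  have hk0 : 0 < k := by omega
  let p₀ : Idx t k := fun _ => ⟨0, hk0⟩
  have hne : (Pi.single p₀ (1 : F) : Idx t k → F) ≠ 0 := by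
    intro h
    have := congrFun h p₀
    rw [Pi.single_eq_same, Pi.zero_apply] at this
    exact one_ne_zero this
  obtain ⟨b', hb'⟩ : ∃ b' : Idx t k → F, sfT (Pi.single p₀ (1 : F)) b' ≠ 0 := by
    by_contra h
    push Not at h
    exact hne (Cfsg.Agent.Lib.Helper9.TWST.sfT_nondeg_left hk h)
  obtain ⟨μ, hμ⟩ := mem_DSV.1 hg'D
  exact S3Ctx.main
    { i := i, y := y, φ := φ, y' := (sf w y)⁻¹ • w, e₁ := Pi.single p₀ 1,
      e₁' := (sfT (Pi.single p₀ (1 : F)) b')⁻¹ • b',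
      α := α, γ := γ, z := z, g' := g', μ := (μ : F), hk := hk, hy0 := hy0, hφ := hφ,
      hy'1 := by rw [Cfsg.Agent.Lib.Helper25.SpT.sf_smul_left, inv_mul_cancel₀ hw'],
      he := by rw [sfT_smul_right, inv_mul_cancel₀ hb'],
      hα := hα, hz := hz, hg := hg, hμ0 := μ.ne_zero, hsim := hμ }

end Cfsg.Agent.Lib.Helper23.TWSIILeaf
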