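import Mathlib
import Cfsg.Agent.Lib.Helper23.TWST4

/-!
S5668-I (owner helper5): ST1' `sfT_tens`, ST1'' `sfT_tens_right` with the EXACT signatures of `notes/S5668_I_leaves.lean`
(incl. the `[Fintype F]` of its header) — aliases of `Cfsg.Agent.Lib.Helper23.TWST4.sfT_tens / sfT_tens_right`.
-/

set_option autoImplicit false
set_option linter.unusedSectionVars false
set_option linter.unusedVariables false

namespace Cfsg.Agent.Lib.Helper23.TWSLeaf
open Matrix Cfsg.Geo Cfsg.Agent.Lib.Helper18.AschA89 Cfsg.Agent.Lib.Helper8.TW Cfsg.Agent.Lib.Helper5.TWS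
open Cfsg.Agent.Lib.Helper25.SpT (sf Jm sfv)

variable {F : Type*} [Field F] [Fintype F] {t k : ℕ}

/-- ST1' (M) the form splits at position `i` -/
theorem sfT_tens (i : Fin (t + 1)) (b b' : Idx t k → F) (a a' : Fin k → F) :
    sfT (tens i b a) (tens i b' a') = sfT b b' * sf a a' :=
  Cfsg.Agent.Lib.Helper23.TWST4.sfT_tens i b b' a a'

/-- ST1'' (M) `sfT v (b ⊗ a) = sfT (ctr i (sfv a) v) b` -/
theorem sfT_tens_right (i : Fin (t + 1)) (v : Idx (t + 1) k → F) (b : Idx t k → F) (a : Fin k → F) :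
    sfT v (tens i b a) = sfT (ctr i (sfv a) v) b :=
  Cfsg.Agent.Lib.Helper23.TWST4.sfT_tens_right i v b a

end Cfsg.Agent.Lib.Helper23.TWSLeaf
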