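import Mathlib
import Cfsg.Agent.Lib.Helper5.TWU.Defs
import Cfsg.Agent.Lib.Helper5.TWU.StageIDefs
import Cfsg.Agent.Lib.Helper23.SOTGTM
import Cfsg.Agent.Lib.Helper23.TWI1
import Cfsg.Agent.Lib.Helper23.TWG6
import Cfsg.Agent.Lib.Helper16.TWImg
import Cfsg.Agent.Lib.Helper16.TWRootA
import Cfsg.Agent.Lib.Helper16.TWRootB
import Cfsg.Agent.Lib.Helper23.TWUT3
import Cfsg.Agent.Lib.Helper23.TWUIG

/-!
S5672-I (owner helper5) leaves I2U `exists_xU` (fixed point trick), I3U `keyU` (THE KEY), I3U' `keyU_congr` (helper23),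
exact signatures of `notes/S5672_I_leaves.lean`.
-/

set_option autoImplicit false
set_option linter.unusedSectionVars false
set_option linter.unusedVariables false

namespace Cfsg.Agent.Lib.Helper23.TWULeaf
open Matrix Cfsg.Geo Cfsg.Agent.Lib.Helper18.AschA89 Cfsg.Agent.Lib.Helper8.TW Cfsg.Agent.Lib.Helper5.TWU
open Cfsg.Agent.Lib.Helper20.UT (hv)
open Cfsg.Agent.Lib.Helper23.TWUQ (NSp FCp)

variable {F : Type*} [Field F] [Fintype F] {t k q : ℕ}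

lemma ugrp_le_grp (hF : Fintype.card F = q ^ 2) (r : RD t k F) : ugrp hF r ≤ r.grp := by
  rintro a ⟨c, -, rfl⟩
  exact ⟨c, rfl⟩

lemma ugrp_le_HU (hF : Fintype.card F = q ^ 2) (r : RD t k F) (hr : RU q r) : ugrp hF r ≤ HU t k q F := by
  rintro a ⟨c, hc, rfl⟩
  exact Cfsg.Agent.Lib.Helper23.TWUT.elt_mem_HU hF hr hc

lemma usup_le' (hF : Fintype.card F = q ^ 2) (g : GL (Idx t k) F) (r₁ r₂ : RD t k F) :
    ugrp hF r₁ ⊔ conjG g (ugrp hF r₂) ≤ r₁.grp ⊔ conjG g r₂.grp := by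
  apply sup_le_sup (ugrp_le_grp hF r₁)
  unfold conjG
  exact Subgroup.map_mono (ugrp_le_grp hF r₂)

lemma usup_le_X {X : Subgroup (GL (Idx t k) F)} (c : CtxU q X) (g : GL (Idx t k) F) (hgX : g ∈ X)
    (r₁ r₂ : RD t k F) (hr₁ : RU q r₁) (hr₂ : RU q r₂) :
    ugrp c.hF r₁ ⊔ conjG g (ugrp c.hF r₂) ≤ X := by
  apply sup_le
  · exact (ugrp_le_HU c.hF r₁ hr₁).trans c.hHX
  · intro b hb
    rw [mem_conjG] at hb
    obtain ⟨a, ha, rfl⟩ := hb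
    exact X.mul_mem (X.mul_mem hgX (c.hHX (ugrp_le_HU c.hF r₂ hr₂ ha))) (X.inv_mem hgX)

/-- I2U (M) FIXED POINT TRICK -/
theorem exists_xU {X : Subgroup (GL (Idx t k) F)} (c : CtxU q X) (g : GL (Idx t k) F) (hgX : g ∈ X)
    (r₁ r₂ : RD t k F) (hr₁ : RU q r₁) (hr₂ : RU q r₂) :
    ∃ x ∈ ugrp c.hF r₁ ⊔ conjG g (ugrp c.hF r₂), x⁻¹ * g ∈ Gstd t k F := by
  classical
  have : Fact (ringChar F).Prime := ⟨CharP.char_is_prime F (ringChar F)⟩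
  have : CharP F (ringChar F) := ringChar.charP F
  have hPM : ugrp c.hF r₁ ≤ X := (ugrp_le_HU c.hF r₁ hr₁).trans c.hHX
  have hP'M : conjG g (ugrp c.hF r₂) ≤ X := by
    intro b hb
    rw [mem_conjG] at hb
    obtain ⟨a, ha, rfl⟩ := hb
    exact X.mul_mem (X.mul_mem hgX (c.hHX (ugrp_le_HU c.hF r₂ hr₂ ha))) (X.inv_mem hgX)
  have hP : IsPGroup (ringChar F) (ugrp c.hF r₁) :=
    (Cfsg.Agent.Lib.Helper16.TWLeaf.RD_isPGroup (ringChar F) r₁).to_le (ugrp_le_grp c.hF r₁)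
  have hP' : IsPGroup (ringChar F) (conjG g (ugrp c.hF r₂)) := by
    unfold conjG
    exact ((Cfsg.Agent.Lib.Helper16.TWLeaf.RD_isPGroup (ringChar F) r₂).to_le (ugrp_le_grp c.hF r₂)).map _
  have hPH : ugrp c.hF r₁ ≤ Gstd t k F := fun a ha => (ugrp_le_HU c.hF r₁ hr₁ ha).1
  obtain ⟨x₀, hx₀, hx₀G⟩ := Cfsg.Agent.Lib.Helper23.SOTLeafM.exists_mem_sup_coset (ringChar F) X (Gstd t k F)
    (ugrp c.hF r₁) (conjG g (ugrp c.hF r₂)) g hgX hPM hP'M hP hP' hPH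
    (fun m' hm' h => c.fc r₁ hr₁ m' hm' (fun d hd => h _ ⟨d, hd, rfl⟩))
    (fun m' hm' h => by
      apply c.fc r₂ hr₂ (g⁻¹ * m') (X.mul_mem (X.inv_mem hgX) hm')
      intro d hd
      have h1 : g * r₂.elt d * g⁻¹ ∈ conjG g (ugrp c.hF r₂) := mem_conjG.2 ⟨r₂.elt d, ⟨d, hd, rfl⟩, rfl⟩
      have h2 := h _ h1
      have h3 : (g⁻¹ * m')⁻¹ * r₂.elt d * (g⁻¹ * m') = m'⁻¹ * (g * r₂.elt d * g⁻¹) * m' := by group
      rw [h3]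
      exact h2)
  refine ⟨x₀, hx₀, ?_⟩
  have : x₀⁻¹ * g = (g⁻¹ * x₀)⁻¹ := by group
  rw [this]
  exact (Gstd t k F).inv_mem hx₀G

/-- I3U (M) THE KEY -/
theorem keyU {X : Subgroup (GL (Idx t k) F)} (c : CtxU q X) (g : GL (Idx t k) F) (hgX : g ∈ X)
    (r₁ r₂ : RD t k F) (hr₁ : RU q r₁) (hr₂ : RU q r₂) :
    ∃ (x : GL (Idx t k) F) (r₃ : RD t k F), KeyU c.hF g r₁ r₂ x r₃ := by
  obtain ⟨x, hx, hh⟩ := exists_xU c g hgX r₁ r₂ hr₁ hr₂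
  have hxX : x ∈ X := usup_le_X c g hgX r₁ r₂ hr₁ hr₂ hx
  have hhD : x⁻¹ * g ∈ DUV t k q F := c.hXD (X.mul_mem (X.inv_mem hxX) hgX)
  have hk2 : 2 ≤ k := le_trans (by norm_num) c.hk
  obtain ⟨r₃, hr₃, hW3, hC3, -⟩ := G_act_RU c.hF hk2 (x⁻¹ * g) hh hhD r₂ hr₂
  have hxg : x * (x⁻¹ * g) = g := by group
  have hx' : x ∈ r₁.grp ⊔ conjG g r₂.grp := usup_le' c.hF g r₁ r₂ hx
  have hxi : x⁻¹ ∈ r₁.grp ⊔ conjG g r₂.grp := Subgroup.inv_mem _ hx'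
  obtain ⟨hx1, hx2⟩ := Cfsg.Agent.Lib.Helper23.TWLeaf.G0_props g r₁ r₂ x hx'
  obtain ⟨hxi1, hxi2⟩ := Cfsg.Agent.Lib.Helper23.TWLeaf.G0_props g r₁ r₂ x⁻¹ hxi
  have hW3' : r₃.W = img x⁻¹ (img g r₂.W) := by
    rw [← hW3, Cfsg.Agent.Lib.Helper16.TWLeaf.img_mul]
  have hWC' : img g r₂.W ≤ img g r₂.C :=
    (Cfsg.Agent.Lib.Helper16.TWLeaf.img_le_img_iff g _ _).2 (Cfsg.Agent.Lib.Helper16.TWLeaf.RD_W_le_C r₂)
  refine ⟨x, r₃, ⟨hr₃, hx, hh, ?_, ?_, ?_, hx1, hx2⟩⟩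
  · rw [← hW3, ← Cfsg.Agent.Lib.Helper16.TWLeaf.img_mul, hxg]
  · intro w hw
    rw [hW3', Cfsg.Agent.Lib.Helper16.TWLeaf.mem_img_iff, inv_inv] at hw
    have h1 := hxi1 (mv x w)
    rw [Cfsg.Agent.Lib.Helper23.TWLeaf.i1_mv_inv_mv] at h1
    have : w = mv x w + (w - mv x w) := by abel
    rw [this]
    exact Submodule.add_mem _ (Submodule.mem_sup_right hw) h1
  · intro v hv'
    have hvD : v ∈ r₁.C ⊓ img g r₂.C := ⟨hv'.2, hWC' hv'.1⟩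
    have hfix := hxi2 v hvD
    rw [hW3', ← hfix]
    exact Cfsg.Agent.Lib.Helper23.TWLeaf.i1_mv_mem_img x⁻¹ _ hv'.1

/-- I3U' (S) `KeyU` only sees `r₃.W` and admissibility -/
theorem keyU_congr {hF : Fintype.card F = q ^ 2} {g x : GL (Idx t k) F} {r₁ r₂ r₃ r₃' : RD t k F}
    (K : KeyU hF g r₁ r₂ x r₃) (hr : RU q r₃') (hW : r₃'.W = r₃.W) : KeyU hF g r₁ r₂ x r₃' :=
  ⟨hr, K.x_mem, K.h_mem, by rw [hW]; exact K.hW, by rw [hW]; exact K.h1, by rw [hW]; exact K.h2, K.hx1, K.hx2⟩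

end Cfsg.Agent.Lib.Helper23.TWULeaf
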