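import Cfsg.Agent.Lib.Lead.TwSteinL
import Cfsg.Agent.Lib.Lead.SteinL

/-! The diagonal automorphism of a twisted group `D.genSubgroup K (twWords K φ L1 L2 L3)` induced by
conjugation with the diagonal matrix `diagGL D K χ hχ` of a character `χ` of the root lattice that is
compatible with the twist (helper23, for the lead's S2130). -/

set_option autoImplicit false

namespace Cfsg.Agent.Lib.Helper23.TwDiag

open Cfsg Cfsg.Lie Matrix Cfsg.Agent.Lib.Helper7 Cfsg.Agent.Lib.Helper3.BN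
open Cfsg.Agent.Lib.Lead.Stein Cfsg.Agent.Lib.Lead.TwStein

section
variable (D : ChevalleyDatum) (hD : D ∈ [chevG2, chevB2, chevD4, chevF4, chevE6, chevE7, chevE8])
variable (K : Type*) [Field K] (φ : K ≃+* K)
variable (L1 : List ℕ) (L2 : List (ℕ × ℕ)) (L3 : List (ℕ × ℕ × ℕ))
variable (χ : ℕ → K) (hχ : ChainChar D K χ)

include hD in
/-- conjugation by `diagGL χ` scales the letters of a word by `χ` -/
theorem diagGL_conj_wordGL (w : List (ℕ × K)) :
    diagGL D K χ hχ * wordGL D hD K w * (diagGL D K χ hχ)⁻¹ =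
      wordGL D hD K (w.map fun p => (p.1, χ p.1 * p.2)) := by
  induction w with
  | nil => simp [wordGL]
  | cons p w ih =>
    have e1 : wordGL D hD K (p :: w) = xGL D hD K p.1 p.2 * wordGL D hD K w := by
      unfold wordGL
      rw [List.map_cons, List.prod_cons]
    have e2 : wordGL D hD K ((p :: w).map fun p => (p.1, χ p.1 * p.2)) =
        xGL D hD K p.1 (χ p.1 * p.2) * wordGL D hD K (w.map fun p => (p.1, χ p.1 * p.2)) := by
      unfold wordGL
      rw [List.map_cons, List.map_cons, List.prod_cons]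
    rw [e1, e2, ← ih, ← diagGL_conj_xGL D hD K χ hχ p.1 p.2]
    group

variable (h1 : ∀ r ∈ L1, φ (χ r) = χ r) (h2 : ∀ rs ∈ L2, χ rs.2 = φ (χ rs.1))
  (h3 : ∀ rs ∈ L3, χ rs.2.1 = φ (χ rs.1) ∧ χ rs.2.2 = φ (φ (χ rs.1)))

include h1 h2 h3 in
/-- scaling by a twist-compatible character preserves the generating words -/
theorem scale_mem_twWords (w : List (ℕ × K)) (hw : w ∈ twWords K φ L1 L2 L3) :
    (w.map fun p => (p.1, χ p.1 * p.2)) ∈ twWords K φ L1 L2 L3 := by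
  rcases hw with (⟨t, ht, r, hr, rfl⟩ | ⟨t, rs, hrs, rfl⟩) | ⟨t, rs, hrs, rfl⟩
  · left; left
    exact ⟨χ r * t, by rw [map_mul, h1 r hr, ht], r, hr, rfl⟩
  · left; right
    refine ⟨χ rs.1 * t, rs, hrs, ?_⟩
    simp [h2 rs hrs]
  · right
    refine ⟨χ rs.1 * t, rs, hrs, ?_⟩
    simp [(h3 rs hrs).1, (h3 rs hrs).2]

include hD h1 h2 h3 in
/-- conjugation by `diagGL χ` maps the twisted group into itself -/
theorem diagGL_conj_mem_twGroup (g : GL D.Idx K) (hg : g ∈ D.genSubgroup K (twWords K φ L1 L2 L3)) :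
    diagGL D K χ hχ * g * (diagGL D K χ hχ)⁻¹ ∈ D.genSubgroup K (twWords K φ L1 L2 L3) := by
  unfold ChevalleyDatum.genSubgroup at hg ⊢
  induction hg using Subgroup.closure_induction with
  | mem x hx =>
    obtain ⟨w, hw, hx⟩ := hx
    have hx' : x = wordGL D hD K w := Units.ext (by rw [hx, coe_wordGL])
    apply Subgroup.subset_closure
    refine ⟨w.map fun p => (p.1, χ p.1 * p.2), scale_mem_twWords K φ L1 L2 L3 χ h1 h2 h3 w hw, ?_⟩
    rw [hx', diagGL_conj_wordGL D hD K χ hχ w, coe_wordGL]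
  | one => simp
  | mul a b _ _ iha ihb =>
    have : diagGL D K χ hχ * (a * b) * (diagGL D K χ hχ)⁻¹ =
        (diagGL D K χ hχ * a * (diagGL D K χ hχ)⁻¹) * (diagGL D K χ hχ * b * (diagGL D K χ hχ)⁻¹) := by
      group
    rw [this]; exact Subgroup.mul_mem _ iha ihb
  | inv a _ iha =>
    have : diagGL D K χ hχ * a⁻¹ * (diagGL D K χ hχ)⁻¹ =
        (diagGL D K χ hχ * a * (diagGL D K χ hχ)⁻¹)⁻¹ := by group
    rw [this]; exact Subgroup.inv_mem _ iha

include h1 in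
theorem inv_compat1 : ∀ r ∈ L1, φ ((fun s => (χ s)⁻¹) r) = (fun s => (χ s)⁻¹) r := by
  intro r hr
  show φ ((χ r)⁻¹) = (χ r)⁻¹
  rw [map_inv₀, h1 r hr]

include h2 in
theorem inv_compat2 : ∀ rs ∈ L2, (fun s => (χ s)⁻¹) rs.2 = φ ((fun s => (χ s)⁻¹) rs.1) := by
  intro rs hrs
  show (χ rs.2)⁻¹ = φ ((χ rs.1)⁻¹)
  rw [map_inv₀, h2 rs hrs]

include h3 in
theorem inv_compat3 : ∀ rs ∈ L3, (fun s => (χ s)⁻¹) rs.2.1 = φ ((fun s => (χ s)⁻¹) rs.1) ∧
    (fun s => (χ s)⁻¹) rs.2.2 = φ (φ ((fun s => (χ s)⁻¹) rs.1)) := by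
  intro rs hrs
  show (χ rs.2.1)⁻¹ = φ ((χ rs.1)⁻¹) ∧ (χ rs.2.2)⁻¹ = φ (φ ((χ rs.1)⁻¹))
  rw [map_inv₀, map_inv₀, (h3 rs hrs).1, (h3 rs hrs).2]
  exact ⟨rfl, rfl⟩

include hD h1 h2 h3 in
/-- conjugation by `(diagGL χ)⁻¹` maps the twisted group into itself -/
theorem diagGL_inv_conj_mem_twGroup (g : GL D.Idx K)
    (hg : g ∈ D.genSubgroup K (twWords K φ L1 L2 L3)) :
    (diagGL D K χ hχ)⁻¹ * g * diagGL D K χ hχ ∈ D.genSubgroup K (twWords K φ L1 L2 L3) := by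
  have := diagGL_conj_mem_twGroup D hD K φ L1 L2 L3 _ hχ.inv
    (inv_compat1 K φ L1 χ h1) (inv_compat2 K φ L2 χ h2) (inv_compat3 K φ L3 χ h3) g hg
  rw [← diagGL_inv, inv_inv] at this
  exact this

/-- the diagonal automorphism of the twisted group induced by a twist-compatible character `χ` of the
root lattice: conjugation by `diagGL D K χ hχ` -/
noncomputable def twDiagAut :
    ↥(D.genSubgroup K (twWords K φ L1 L2 L3)) ≃* ↥(D.genSubgroup K (twWords K φ L1 L2 L3)) where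
  toFun g := ⟨diagGL D K χ hχ * g.1 * (diagGL D K χ hχ)⁻¹,
    diagGL_conj_mem_twGroup D hD K φ L1 L2 L3 χ hχ h1 h2 h3 g.1 g.2⟩
  invFun g := ⟨(diagGL D K χ hχ)⁻¹ * g.1 * diagGL D K χ hχ,
    diagGL_inv_conj_mem_twGroup D hD K φ L1 L2 L3 χ hχ h1 h2 h3 g.1 g.2⟩
  left_inv g := Subtype.ext (by show _ * (_ * g.1 * _) * _ = g.1; group)
  right_inv g := Subtype.ext (by show _ * (_ * g.1 * _) * _ = g.1; group)
  map_mul' a b := Subtype.ext (by
    show _ * (a.1 * b.1) * _ = (_ * a.1 * _) * (_ * b.1 * _); group)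

theorem coe_twDiagAut (g : ↥(D.genSubgroup K (twWords K φ L1 L2 L3))) :
    ((twDiagAut D hD K φ L1 L2 L3 χ hχ h1 h2 h3 g : ↥(D.genSubgroup K (twWords K φ L1 L2 L3))) :
      GL D.Idx K) = diagGL D K χ hχ * (g : GL D.Idx K) * (diagGL D K χ hχ)⁻¹ := rfl

theorem coe_twDiagAut_symm (g : ↥(D.genSubgroup K (twWords K φ L1 L2 L3))) :
    (((twDiagAut D hD K φ L1 L2 L3 χ hχ h1 h2 h3).symm g : ↥(D.genSubgroup K (twWords K φ L1 L2 L3))) :
      GL D.Idx K) = (diagGL D K χ hχ)⁻¹ * (g : GL D.Idx K) * diagGL D K χ hχ := rfl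

/-- the diagonal automorphism on a generating word -/
theorem twDiagAut_wordGL (w : List (ℕ × K)) (hw : wordGL D hD K w ∈ D.genSubgroup K (twWords K φ L1 L2 L3)) :
    ((twDiagAut D hD K φ L1 L2 L3 χ hχ h1 h2 h3 ⟨wordGL D hD K w, hw⟩ :
      ↥(D.genSubgroup K (twWords K φ L1 L2 L3))) : GL D.Idx K) =
      wordGL D hD K (w.map fun p => (p.1, χ p.1 * p.2)) := by
  rw [coe_twDiagAut]
  exact diagGL_conj_wordGL D hD K χ hχ w

theorem twDiagAut_stb_pos :
    Stb (twDiagAut D hD K φ L1 L2 L3 χ hχ h1 h2 h3) (D.posUnipotent K) := by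
  intro g
  rw [coe_twDiagAut]
  constructor
  · intro h
    have h1 := diagChar_conj_mem_posUnipotent D hD K (diagGL D K χ hχ)⁻¹ _ hχ.inv
      (by rw [diagGL_inv]; rfl) _ h
    have : (diagGL D K χ hχ)⁻¹ * (diagGL D K χ hχ * (g : GL D.Idx K) * (diagGL D K χ hχ)⁻¹) *
        (diagGL D K χ hχ)⁻¹⁻¹ = (g : GL D.Idx K) := by group
    rwa [this] at h1
  · intro h
    exact diagChar_conj_mem_posUnipotent D hD K _ χ hχ (coe_diagGL D K χ hχ) _ h

theorem twDiagAut_stb_neg :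
    Stb (twDiagAut D hD K φ L1 L2 L3 χ hχ h1 h2 h3) (D.negUnipotent K) := by
  intro g
  rw [coe_twDiagAut]
  constructor
  · intro h
    have h1 := diagChar_conj_mem_negUnipotent D hD K (diagGL D K χ hχ)⁻¹ _ hχ.inv
      (by rw [diagGL_inv]; rfl) _ h
    have : (diagGL D K χ hχ)⁻¹ * (diagGL D K χ hχ * (g : GL D.Idx K) * (diagGL D K χ hχ)⁻¹) *
        (diagGL D K χ hχ)⁻¹⁻¹ = (g : GL D.Idx K) := by group
    rwa [this] at h1
  · intro h
    exact diagChar_conj_mem_negUnipotent D hD K _ χ hχ (coe_diagGL D K χ hχ) _ h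

end

end Cfsg.Agent.Lib.Helper23.TwDiag
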