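import Mathlib

set_option autoImplicit false

namespace Cfsg.Agent.Lib.Helper23.TwoLin

/-- The bound function. -/
def bnd (r n : ℕ) : ℕ :=
  if r = 3 then (if n = 1 then 2 else 2 ^ (3 * n / 2 - 1)) else 2 ^ (2 * n - 1)

theorem bnd_mul_le (r a b : ℕ) (ha : 1 ≤ a) (hb : 1 ≤ b) :
    bnd r a * bnd r b ≤ bnd r (a + b) := by
  unfold bnd
  by_cases h3 : r = 3
  · simp only [h3, if_true]
    have hab : a + b ≠ 1 := by omega
    rw [if_neg hab]
    by_cases ha1 : a = 1
    · by_cases hb1 : b = 1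
      · subst ha1; subst hb1; norm_num
      · rw [if_pos ha1, if_neg hb1]
        subst ha1
        calc 2 * 2 ^ (3 * b / 2 - 1) = 2 ^ (3 * b / 2 - 1 + 1) := by rw [pow_succ]; ring
          _ ≤ 2 ^ (3 * (1 + b) / 2 - 1) := Nat.pow_le_pow_right (by norm_num) (by omega)
    · by_cases hb1 : b = 1
      · rw [if_neg ha1, if_pos hb1]
        subst hb1
        calc 2 ^ (3 * a / 2 - 1) * 2 = 2 ^ (3 * a / 2 - 1 + 1) := by rw [pow_succ]
          _ ≤ 2 ^ (3 * (a + 1) / 2 - 1) := Nat.pow_le_pow_right (by norm_num) (by omega)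
      · rw [if_neg ha1, if_neg hb1, ← pow_add]
        exact Nat.pow_le_pow_right (by norm_num) (by omega)
  · simp only [h3, if_false]
    rw [← pow_add]
    exact Nat.pow_le_pow_right (by norm_num) (by omega)

theorem two_mul_bnd_mul_le_of_ne_three (r a b : ℕ) (h3 : r ≠ 3) (ha : 1 ≤ a) (hb : 1 ≤ b) :
    2 * (bnd r a * bnd r b) ≤ bnd r (a + b) := by
  unfold bnd
  simp only [h3, if_false]
  rw [← pow_add]
  calc 2 * 2 ^ (2 * a - 1 + (2 * b - 1)) = 2 ^ (2 * a - 1 + (2 * b - 1) + 1) := by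
        rw [pow_succ]; ring
    _ ≤ 2 ^ (2 * (a + b) - 1) := Nat.pow_le_pow_right (by norm_num) (by omega)

theorem two_mul_bnd_mul_le_three (a : ℕ) (ha : 2 ≤ a) :
    2 * (bnd 3 a * bnd 3 a) ≤ bnd 3 (a + a) := by
  unfold bnd
  simp only [if_true]
  have ha1 : a ≠ 1 := by omega
  have haa : a + a ≠ 1 := by omega
  rw [if_neg ha1, if_neg haa, ← pow_add]
  calc 2 * 2 ^ (3 * a / 2 - 1 + (3 * a / 2 - 1)) = 2 ^ (3 * a / 2 - 1 + (3 * a / 2 - 1) + 1) := by
        rw [pow_succ]; ring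
    _ ≤ 2 ^ (3 * (a + a) / 2 - 1) := Nat.pow_le_pow_right (by norm_num) (by omega)

theorem four_le_bnd (r n : ℕ) (hn : 2 ≤ n) : 4 ≤ bnd r n := by
  unfold bnd
  by_cases h3 : r = 3
  · simp only [h3, if_true]
    have hn1 : n ≠ 1 := by omega
    rw [if_neg hn1]
    calc 4 = 2 ^ 2 := by norm_num
      _ ≤ 2 ^ (3 * n / 2 - 1) := Nat.pow_le_pow_right (by norm_num) (by omega)
  · simp only [h3, if_false]
    calc 4 = 2 ^ 2 := by norm_num
      _ ≤ 2 ^ (2 * n - 1) := Nat.pow_le_pow_right (by norm_num) (by omega)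

theorem bnd_one (r : ℕ) : bnd r 1 = 2 := by
  unfold bnd
  by_cases h3 : r = 3
  · simp [h3]
  · simp [h3]

theorem bnd_three_two : bnd 3 2 = 4 := by
  unfold bnd
  norm_num

theorem bnd_le_pow_sub_one (r n : ℕ) (hr : r.Prime) (hr2 : r ≠ 2) (hn : 1 ≤ n) :
    bnd r n ≤ r ^ n - 1 := by
  have key : ∀ x y : ℕ, 1 ≤ x → 2 * x ≤ y → x ≤ y - 1 := by
    intro x y h1 h2; omega
  unfold bnd
  by_cases h3 : r = 3
  · simp only [h3, if_true]
    by_cases hn1 : n = 1
    · subst hn1; norm_num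
    · rw [if_neg hn1]
      apply key _ _ Nat.one_le_two_pow
      have h1 : 2 * 2 ^ (3 * n / 2 - 1) = 2 ^ (3 * n / 2) := by
        have : 3 * n / 2 = (3 * n / 2 - 1) + 1 := by omega
        conv_rhs => rw [this, pow_succ]
        ring
      rw [h1]
      have h2 : (2 ^ (3 * n / 2)) ^ 2 ≤ (3 ^ n) ^ 2 := by
        rw [← pow_mul, ← pow_mul]
        calc 2 ^ (3 * n / 2 * 2) ≤ 2 ^ (3 * n) := Nat.pow_le_pow_right (by norm_num) (by omega)
          _ = 8 ^ n := by rw [pow_mul]; norm_num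
          _ ≤ 9 ^ n := Nat.pow_le_pow_left (by norm_num) n
          _ = 3 ^ (n * 2) := by rw [mul_comm, pow_mul]; norm_num
      exact (Nat.pow_le_pow_iff_left (by norm_num)).mp h2
  · simp only [h3, if_false]
    have h5 : 5 ≤ r := by
      have h2 := hr.two_le
      by_contra hlt
      have h4 : r = 4 := by omega
      rw [h4] at hr
      exact absurd hr (by decide)
    apply key _ _ Nat.one_le_two_pow
    have h1 : 2 * 2 ^ (2 * n - 1) = 2 ^ (2 * n) := by
      have : 2 * n = (2 * n - 1) + 1 := by omega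
      conv_rhs => rw [this, pow_succ]
      ring
    rw [h1]
    calc 2 ^ (2 * n) = 4 ^ n := by rw [pow_mul]; norm_num
      _ ≤ r ^ n := Nat.pow_le_pow_left (by omega) n

universe u

variable {Z : Type u} [Group Z] {W : Type u} [CommGroup W]

/-- Restriction of an action by automorphisms to an invariant subgroup. -/
def resAut (ρ : Z →* MulAut W) (U : Subgroup W) (hU : ∀ z : Z, ∀ u ∈ U, ρ z u ∈ U) :
    Z →* MulAut U where
  toFun z :=
    { toFun := fun u => ⟨ρ z u, hU z u u.2⟩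
      invFun := fun u => ⟨ρ z⁻¹ u, hU z⁻¹ u u.2⟩
      left_inv := fun u => by
        apply Subtype.ext
        show ρ z⁻¹ (ρ z u) = u
        rw [map_inv]; exact MulAut.inv_apply_self _ _ _
      right_inv := fun u => by
        apply Subtype.ext
        show ρ z (ρ z⁻¹ u) = u
        rw [map_inv]; exact MulAut.apply_inv_self _ _ _
      map_mul' := fun u v => by
        apply Subtype.ext
        show ρ z (u * v : W) = ρ z u * ρ z v
        exact map_mul _ _ _ }
  map_one' := by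
    ext u
    show ρ 1 (u : W) = u
    rw [map_one]; rfl
  map_mul' := fun a b => by
    ext u
    show ρ (a * b) (u : W) = ρ a (ρ b u)
    rw [map_mul]; rfl

@[simp] theorem resAut_apply_coe (ρ : Z →* MulAut W) (U : Subgroup W)
    (hU : ∀ z : Z, ∀ u ∈ U, ρ z u ∈ U) (z : Z) (u : U) :
    ((resAut ρ U hU z u : U) : W) = ρ z u := rfl

theorem map_eq_of_invariant (ρ : Z →* MulAut W) (U : Subgroup W)
    (hU : ∀ z : Z, ∀ u ∈ U, ρ z u ∈ U) (z : Z) :
    U.map ((ρ z : W ≃* W) : W →* W) = U := by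
  apply le_antisymm
  · rintro _ ⟨u, hu, rfl⟩
    exact hU z u hu
  · intro u hu
    refine ⟨ρ z⁻¹ u, hU z⁻¹ u hu, ?_⟩
    show ρ z (ρ z⁻¹ u) = u
    rw [map_inv]; exact MulAut.apply_inv_self _ _ _

/-- Induced action on the quotient by an invariant subgroup. -/
def quotAut (ρ : Z →* MulAut W) (U : Subgroup W) (hU : ∀ z : Z, ∀ u ∈ U, ρ z u ∈ U) :
    Z →* MulAut (W ⧸ U) where
  toFun z := QuotientGroup.congr U U (ρ z) (map_eq_of_invariant ρ U hU z)
  map_one' := by
    ext q
    obtain ⟨w, rfl⟩ := QuotientGroup.mk_surjective q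
    rw [QuotientGroup.congr_mk, map_one]; rfl
  map_mul' := fun a b => by
    ext q
    obtain ⟨w, rfl⟩ := QuotientGroup.mk_surjective q
    rw [MulAut.mul_apply, QuotientGroup.congr_mk, QuotientGroup.congr_mk, QuotientGroup.congr_mk,
      map_mul]; rfl

theorem quotAut_mk (ρ : Z →* MulAut W) (U : Subgroup W)
    (hU : ∀ z : Z, ∀ u ∈ U, ρ z u ∈ U) (z : Z) (w : W) :
    quotAut ρ U hU z (QuotientGroup.mk w) = QuotientGroup.mk (ρ z w) :=
  QuotientGroup.congr_mk U U (ρ z) (map_eq_of_invariant ρ U hU z) w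

/-- An automorphism of `2`-power order of an abelian group of odd order acting trivially on a
subgroup and on the quotient is trivial. -/
theorem eq_one_of_trivial_on_sub_and_quot [Finite W] (hodd : Odd (Nat.card W)) (f : MulAut W)
    (t : ℕ) (hf : f ^ (2 ^ t) = 1) (U : Subgroup W) (h1 : ∀ u ∈ U, f u = u)
    (h2 : ∀ w, w⁻¹ * f w ∈ U) : f = 1 := by
  ext w
  show f w = w
  set c : W := w⁻¹ * f w with hc
  have hfw : f w = w * c := by rw [hc]; group
  have hfc : f c = c := h1 c (h2 w)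
  have hpow : ∀ j : ℕ, (f ^ j) w = w * c ^ j := by
    intro j
    induction j with
    | zero => simp
    | succ j ih =>
      rw [pow_succ', MulAut.mul_apply, ih, map_mul, map_pow, hfw, hfc, pow_succ']
      rw [mul_assoc]
  have h3 := hpow (2 ^ t)
  rw [hf] at h3
  have h4 : c ^ (2 ^ t) = 1 := by
    have : w = w * c ^ (2 ^ t) := h3
    exact (mul_eq_left.mp this.symm)
  have h5 : orderOf c ∣ 2 ^ t := orderOf_dvd_of_pow_eq_one h4
  have h6 : orderOf c ∣ Nat.card W := orderOf_dvd_natCard c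
  have h7 : Nat.Coprime (2 ^ t) (Nat.card W) :=
    Nat.Coprime.pow_left t (Nat.coprime_two_left.mpr hodd)
  have h8 : orderOf c = 1 := Nat.eq_one_of_dvd_coprimes h7 h5 h6
  have h9 : c = 1 := orderOf_eq_one_iff.mp h8
  rw [hfw, h9, mul_one]

/-- The reducible step: a faithful action of a `2`-group on an odd-order abelian group with an
invariant subgroup `U` splits into faithful actions of a quotient on `U` and of the kernel on
`W ⧸ U`. -/
theorem reducible_step [Finite Z] [Finite W] (hodd : Odd (Nat.card W)) (hZ : IsPGroup 2 Z)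
    (ρ : Z →* MulAut W) (hρ : Function.Injective ρ) (U : Subgroup W)
    (hU : ∀ z : Z, ∀ u ∈ U, ρ z u ∈ U) :
    ∃ (K : Subgroup Z) (_ : K.Normal) (ρ1 : Z ⧸ K →* MulAut U) (ρ2 : K →* MulAut (W ⧸ U)),
      Function.Injective ρ1 ∧ Function.Injective ρ2 := by
  refine ⟨(resAut ρ U hU).ker, inferInstance, QuotientGroup.kerLift (resAut ρ U hU),
    (quotAut ρ U hU).comp (resAut ρ U hU).ker.subtype, QuotientGroup.kerLift_injective _, ?_⟩
  rw [injective_iff_map_eq_one]
  intro k hk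
  obtain ⟨t, ht⟩ := hZ (k : Z)
  have hk1 : ∀ u ∈ U, ρ (k : Z) u = u := by
    intro u hu
    have := k.2
    rw [MonoidHom.mem_ker] at this
    have h := congrArg (fun e : MulAut U => ((e ⟨u, hu⟩ : U) : W)) this
    exact h
  have hk2 : ∀ w, w⁻¹ * ρ (k : Z) w ∈ U := by
    intro w
    have h := congrArg (fun e : MulAut (W ⧸ U) => e (QuotientGroup.mk w)) hk
    simp only [MonoidHom.comp_apply, Subgroup.coe_subtype] at h
    rw [quotAut_mk] at h
    exact QuotientGroup.eq.mp h.symm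
  have hf : (ρ (k : Z)) ^ (2 ^ t) = 1 := by rw [← map_pow, ht, map_one]
  have := eq_one_of_trivial_on_sub_and_quot hodd (ρ (k : Z)) t hf U hk1 hk2
  have hk0 : (k : Z) = 1 := hρ (by rw [this, map_one])
  exact Subtype.ext hk0

end Cfsg.Agent.Lib.Helper23.TwoLin
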