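import Mathlib
import Cfsg.Agent.Lib.Helper23.TwoLinA
import Cfsg.Agent.Lib.Helper12.Basic

set_option autoImplicit false

namespace Cfsg.Agent.Lib.Helper23.TwoLin

universe u

open scoped Pointwise

variable {Z : Type u} [Group Z] {W : Type u} [CommGroup W]

/-- Fixed-point subgroup of an automorphism of an abelian group. -/
def fixSub (f : MulAut W) : Subgroup W where
  carrier := {w | f w = w}
  one_mem' := map_one f
  mul_mem' := by
    intro a b ha hb
    simp only [Set.mem_ofPred_eq] at *
    rw [map_mul, ha, hb]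
  inv_mem' := by
    intro a ha
    simp only [Set.mem_ofPred_eq] at *
    rw [map_inv, ha]

theorem mem_fixSub (f : MulAut W) (w : W) : w ∈ fixSub f ↔ f w = w := Iff.rfl

/-- An involutory automorphism without nontrivial fixed points inverts. -/
theorem inverts_of_fixSub_eq_bot (f : MulAut W) (hff : ∀ w, f (f w) = w) (h : fixSub f = ⊥)
    (w : W) : f w = w⁻¹ := by
  have h1 : w * f w ∈ fixSub f := by
    rw [mem_fixSub, map_mul, hff, mul_comm]
  rw [h, Subgroup.mem_bot] at h1
  exact eq_inv_of_mul_eq_one_right h1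

theorem fixSub_conj (g f : MulAut W) : fixSub (g * f * g⁻¹) = (fixSub f).map (g : W →* W) := by
  ext w
  rw [mem_fixSub, Subgroup.mem_map]
  constructor
  · intro h
    refine ⟨g⁻¹ w, ?_, ?_⟩
    · rw [mem_fixSub]
      have : g (f (g⁻¹ w)) = w := h
      calc f (g⁻¹ w) = g⁻¹ (g (f (g⁻¹ w))) := (MulAut.inv_apply_self _ _ _).symm
        _ = g⁻¹ w := by rw [this]
    · exact MulAut.apply_inv_self _ _ _
  · rintro ⟨v, hv, rfl⟩
    rw [mem_fixSub] at hv
    show g (f (g⁻¹ (g v))) = g v
    rw [MulAut.inv_apply_self, hv]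

/-- Central involutions of an irreducible faithful action on an odd-order abelian group invert. -/
theorem central_involution_inverts (ρ : Z →* MulAut W) (hρ : Function.Injective ρ)
    (hirr : ∀ U : Subgroup W, (∀ z : Z, ∀ u ∈ U, ρ z u ∈ U) → U = ⊥ ∨ U = ⊤)
    (z : Z) (hzc : z ∈ Subgroup.center Z) (hz1 : z ≠ 1) (hzz : z * z = 1) (w : W) :
    ρ z w = w⁻¹ := by
  have hinv : ∀ g : Z, ∀ u ∈ fixSub (ρ z), ρ g u ∈ fixSub (ρ z) := by
    intro g u hu
    rw [mem_fixSub] at hu ⊢
    have h1 : ρ z (ρ g u) = ρ (z * g) u := by rw [map_mul]; rfl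
    have h2 : ρ g (ρ z u) = ρ (g * z) u := by rw [map_mul]; rfl
    rw [h1, ← (Subgroup.mem_center_iff.mp hzc g), ← h2, hu]
  have hff : ∀ v, ρ z (ρ z v) = v := by
    intro v
    have : ρ z (ρ z v) = ρ (z * z) v := by rw [map_mul]; rfl
    rw [this, hzz, map_one]; rfl
  rcases hirr _ hinv with h | h
  · exact inverts_of_fixSub_eq_bot _ hff h w
  · exfalso
    apply hz1
    apply hρ
    rw [map_one]
    ext v
    have : v ∈ fixSub (ρ z) := by rw [h]; exact Subgroup.mem_top _
    exact this

/-- The elements of a group of order four containing two given nontrivial distinct elements. -/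
theorem four_group_elems (E : Subgroup Z) (hE : Nat.card E = 4) (z e : Z)
    (hz : z ∈ E) (he : e ∈ E) (hz1 : z ≠ 1) (he1 : e ≠ 1) (hez : e ≠ z) (hzz : z * z = 1) :
    ∀ x ∈ E, x = 1 ∨ x = z ∨ x = e ∨ x = e * z := by
  classical
  have h1 : (1 : Z) ≠ z := fun h => hz1 h.symm
  have h2 : (1 : Z) ≠ e := fun h => he1 h.symm
  have h3 : (1 : Z) ≠ e * z := by
    intro h
    apply hez
    calc e = e * (z * z) := by rw [hzz, mul_one]
      _ = (e * z) * z := by group
      _ = z := by rw [← h, one_mul]
  have h4 : z ≠ e := fun h => hez h.symm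
  have h5 : z ≠ e * z := by
    intro h
    apply he1
    have : 1 * z = e * z := by rw [one_mul]; exact h
    exact (mul_right_cancel this).symm
  have h6 : e ≠ e * z := by
    intro h
    apply hz1
    have : e * 1 = e * z := by rw [mul_one]; exact h
    exact (mul_left_cancel this).symm
  set S : Finset Z := {1, z, e, e * z} with hS
  have hcard : S.card = 4 := by
    rw [hS, Finset.card_insert_of_notMem, Finset.card_insert_of_notMem, Finset.card_pair h6]
    · simp [h4, h5]
    · simp [h1, h2, h3]
  have hsub : (S : Set Z) ⊆ (E : Set Z) := by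
    intro x hx
    rw [Finset.mem_coe, hS] at hx
    simp only [Finset.mem_insert, Finset.mem_singleton] at hx
    rcases hx with rfl | rfl | rfl | rfl
    · exact E.one_mem
    · exact hz
    · exact he
    · exact E.mul_mem he hz
  have : Finite E := Nat.finite_of_card_ne_zero (by rw [hE]; norm_num)
  have hEn : (E : Set Z).ncard = 4 := by
    rw [← Nat.card_coe_set_eq]; exact hE
  have heq : (S : Set Z) = (E : Set Z) := by
    apply Set.eq_of_subset_of_ncard_le hsub _ (Set.toFinite _)
    rw [Set.ncard_coe_finset, hcard, hEn]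
  intro x hx
  have hx' : x ∈ (S : Set Z) := by rw [heq]; exact hx
  rw [Finset.mem_coe, hS] at hx'
  simpa only [Finset.mem_insert, Finset.mem_singleton] using hx'


/-- The irreducible step: if a `2`-group `Z` acts faithfully and irreducibly on an odd-order abelian
group `W` and has a normal four-subgroup, then there are a subgroup `M` of index two and a proper
nontrivial `M`-invariant subgroup `U` of `W` with `|U|² = |W|`; moreover `Z` is nonabelian. -/
theorem irreducible_step [Finite Z] [Finite W] (hodd : Odd (Nat.card W)) (hZ : IsPGroup 2 Z)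
    (ρ : Z →* MulAut W) (hρ : Function.Injective ρ)
    (hirr : ∀ U : Subgroup W, (∀ z : Z, ∀ u ∈ U, ρ z u ∈ U) → U = ⊥ ∨ U = ⊤)
    (E : Subgroup Z) (hEn : E.Normal) (hEexp : ∀ x ∈ E, x ^ 2 = 1) (hEcard : Nat.card E = 4) :
    ∃ (M : Subgroup Z) (U : Subgroup W), M.index = 2 ∧ (∀ m ∈ M, ∀ u ∈ U, ρ m u ∈ U) ∧
      U ≠ ⊥ ∧ U ≠ ⊤ ∧ Nat.card U * Nat.card U = Nat.card W ∧ ∃ a b : Z, a * b ≠ b * a := by
  have : Fact (Nat.Prime 2) := ⟨Nat.prime_two⟩
  have := hEn
  have hEne : E ≠ ⊥ := by
    intro h
    rw [(Subgroup.eq_bot_iff_card E).mp h] at hEcard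
    norm_num at hEcard
  obtain ⟨z, hzE, hz1, hzc⟩ :=
    Cfsg.Agent.Lib.Helper12.exists_ne_one_mem_center_of_normal hZ E hEne
  have hzz : z * z = 1 := by rw [← pow_two]; exact hEexp z hzE
  have hzinv : ∀ w, ρ z w = w⁻¹ := central_involution_inverts ρ hρ hirr z hzc hz1 hzz
  -- a second involution
  obtain ⟨e, heE, he1, hez⟩ : ∃ e ∈ E, e ≠ 1 ∧ e ≠ z := by
    by_contra hcon
    push Not at hcon
    have hsub : (E : Set Z) ⊆ {1, z} := by
      intro x hx
      by_cases hx1 : x = 1
      · left; exact hx1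
      · right; exact hcon x hx hx1
    have h1 : (E : Set Z).ncard ≤ ({1, z} : Set Z).ncard :=
      Set.ncard_le_ncard hsub (Set.toFinite _)
    have h2 : ({1, z} : Set Z).ncard ≤ 2 := by
      calc ({1, z} : Set Z).ncard ≤ ({z} : Set Z).ncard + 1 := Set.ncard_insert_le _ _
        _ = 2 := by rw [Set.ncard_singleton]
    have h3 : (E : Set Z).ncard = 4 := by
      rw [← Nat.card_coe_set_eq]; exact hEcard
    omega
  have hee : e * e = 1 := by rw [← pow_two]; exact hEexp e heE
  have helems := four_group_elems E hEcard z e hzE heE hz1 he1 hez hzz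
  have hzcomm : ∀ g : Z, g * z = z * g := fun g => Subgroup.mem_center_iff.mp hzc g
  -- `e` is not central
  have henc : e ∉ Subgroup.center Z := by
    intro hec
    apply hez
    apply hρ
    ext w
    rw [central_involution_inverts ρ hρ hirr e hec he1 hee w, hzinv w]
  -- conjugates of `e`
  have hconj : ∀ g : Z, g * e * g⁻¹ = e ∨ g * e * g⁻¹ = e * z := by
    intro g
    have hmem : g * e * g⁻¹ ∈ E := hEn.conj_mem e heE g
    rcases helems _ hmem with h | h | h | h
    · exfalso; apply he1
      have : e = g⁻¹ * (g * e * g⁻¹) * g := by group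
      rw [this, h]; group
    · exfalso; apply hez
      have : e = g⁻¹ * (g * e * g⁻¹) * g := by group
      rw [this, h, mul_assoc, ← hzcomm g]; group
    · left; exact h
    · right; exact h
  obtain ⟨a, hae⟩ : ∃ a : Z, a * e ≠ e * a := by
    by_contra hcon
    push Not at hcon
    exact henc (Subgroup.mem_center_iff.mpr hcon)
  have ha : a * e * a⁻¹ = e * z := by
    rcases hconj a with h | h
    · exfalso; apply hae
      calc a * e = a * e * a⁻¹ * a := by group
        _ = e * a := by rw [h]
    · exact h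
  have hezne : e * z ≠ e := by
    intro h
    apply hz1
    have : e * z = e * 1 := by rw [mul_one]; exact h
    exact mul_left_cancel this
  -- the centralizer of `e`
  set M : Subgroup Z := Subgroup.centralizer {e} with hM
  have hMmem : ∀ g : Z, g ∈ M ↔ g * e * g⁻¹ = e := by
    intro g
    rw [hM, Subgroup.mem_centralizer_singleton_iff]
    constructor
    · intro h; rw [h]; group
    · intro h
      calc g * e = g * e * g⁻¹ * g := by group
        _ = e * g := by rw [h]
  have hconj_mul : ∀ b : Z, (b * a) * e * (b * a)⁻¹ = b * e * b⁻¹ * z := by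
    intro b
    calc (b * a) * e * (b * a)⁻¹ = b * (a * e * a⁻¹) * b⁻¹ := by group
      _ = b * (e * z) * b⁻¹ := by rw [ha]
      _ = b * e * (z * b⁻¹) := by group
      _ = b * e * (b⁻¹ * z) := by rw [hzcomm b⁻¹]
      _ = b * e * b⁻¹ * z := by group
  have hMidx : M.index = 2 := by
    rw [Subgroup.index_eq_two_iff]
    refine ⟨a, fun b => ?_⟩
    rcases hconj b with h | h
    · right
      refine ⟨(hMmem b).mpr h, ?_⟩
      rw [hMmem, hconj_mul, h]
      exact hezne
    · left
      refine ⟨?_, ?_⟩
      · rw [hMmem, hconj_mul, h, mul_assoc, hzz, mul_one]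
      · rw [hMmem, h]; exact hezne
  -- the fixed points of `e`
  have hρee : ∀ v, ρ e (ρ e v) = v := by
    intro v
    have : ρ e (ρ e v) = ρ (e * e) v := by rw [map_mul]; rfl
    rw [this, hee, map_one]; rfl
  have hρez : ∀ v, ρ (e * z) v = (ρ e v)⁻¹ := by
    intro v
    have : ρ (e * z) v = ρ e (ρ z v) := by rw [map_mul]; rfl
    rw [this, hzinv, map_inv]
  refine ⟨M, fixSub (ρ e), hMidx, ?_, ?_, ?_, ?_, ⟨a, e, hae⟩⟩
  · intro m hm u hu
    rw [mem_fixSub] at hu ⊢
    have hm' : m * e = e * m := by
      have := (hMmem m).mp hm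
      calc m * e = m * e * m⁻¹ * m := by group
        _ = e * m := by rw [this]
    have h1 : ρ e (ρ m u) = ρ (e * m) u := by rw [map_mul]; rfl
    have h2 : ρ m (ρ e u) = ρ (m * e) u := by rw [map_mul]; rfl
    rw [h1, ← hm', ← h2, hu]
  · intro hbot
    apply hez
    apply hρ
    ext w
    rw [inverts_of_fixSub_eq_bot _ hρee hbot w, hzinv w]
  · intro htop
    apply he1
    apply hρ
    rw [map_one]
    ext v
    have : v ∈ fixSub (ρ e) := by rw [htop]; exact Subgroup.mem_top _
    exact this
  · -- cardinalities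
    have hU' : fixSub (ρ (e * z)) = (fixSub (ρ e)).map ((ρ a : W ≃* W) : W →* W) := by
      rw [← fixSub_conj, ← ha, map_mul, map_mul, map_inv]
    have hcard' : Nat.card (fixSub (ρ (e * z))) = Nat.card (fixSub (ρ e)) := by
      rw [hU']
      exact Subgroup.card_map_of_injective (ρ a).injective
    have hdisj : Disjoint (fixSub (ρ e)) (fixSub (ρ (e * z))) := by
      rw [Subgroup.disjoint_def]
      intro x hx hx'
      rw [mem_fixSub] at hx hx'
      rw [hρez, hx] at hx'
      have hxx : x ^ 2 = 1 := by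
        rw [pow_two]
        calc x * x = x⁻¹ * x := by rw [hx']
          _ = 1 := inv_mul_cancel x
      have h5 : orderOf x ∣ 2 := orderOf_dvd_of_pow_eq_one hxx
      have h6 : orderOf x ∣ Nat.card W := orderOf_dvd_natCard x
      have h7 : Nat.Coprime 2 (Nat.card W) := Nat.coprime_two_left.mpr hodd
      exact orderOf_eq_one_iff.mp (Nat.eq_one_of_dvd_coprimes h7 h5 h6)
    have hmul : ((fixSub (ρ e) : Subgroup W) : Set W) * ((fixSub (ρ (e * z)) : Subgroup W) : Set W)
        = Set.univ := by
      rw [Set.eq_univ_iff_forall]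
      intro w
      obtain ⟨k, hk⟩ := hodd
      set v : W := w ^ (k + 1) with hv
      have hvv : v * v = w := by
        rw [hv, ← pow_add]
        have : k + 1 + (k + 1) = Nat.card W + 1 := by omega
        rw [this, pow_succ, pow_card_eq_one', one_mul]
      refine Set.mem_mul.mpr ⟨v * ρ e v, ?_, v * (ρ e v)⁻¹, ?_, ?_⟩
      · show v * ρ e v ∈ fixSub (ρ e)
        rw [mem_fixSub, map_mul, hρee, mul_comm]
      · show v * (ρ e v)⁻¹ ∈ fixSub (ρ (e * z))
        rw [mem_fixSub, hρez, map_mul, map_inv, hρee, mul_inv, inv_inv, mul_comm]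
      · calc v * ρ e v * (v * (ρ e v)⁻¹) = v * v * (ρ e v * (ρ e v)⁻¹) := by
              rw [mul_mul_mul_comm]
          _ = w := by rw [mul_inv_cancel, mul_one, hvv]
    have hcompl := Subgroup.isComplement'_of_disjoint_and_mul_eq_univ hdisj hmul
    have := hcompl.card_mul_card
    rw [hcard'] at this
    exact this

end Cfsg.Agent.Lib.Helper23.TwoLin
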