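import Mathlib
import Cfsg.Agent.Lib.Helper23.TwoLinA
import Cfsg.Agent.Lib.Helper23.TwoLinB
import Cfsg.Agent.Lib.Helper23.FratIdx
import Cfsg.Agent.Lib.Helper20.NormalElemSq

set_option autoImplicit false

namespace Cfsg.Agent.Lib.Helper23.TwoLin

universe u

open Cfsg.Agent.Lib.Helper23.FratIdx

/-- A group acting faithfully on a group of order three has order at most two. -/
theorem card_le_two_of_injective_mulAut {H : Type*} [Group H] {V : Type*} [CommGroup V]
    [Finite V] (hV : Nat.card V = 3) (f : H →* MulAut V) (hf : Function.Injective f) :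
    Nat.card H ≤ 2 := by
  have : Fact (Nat.Prime 3) := ⟨Nat.prime_three⟩
  have : IsCyclic V := isCyclic_of_prime_card hV
  have : NeZero (Nat.card V) := ⟨by rw [hV]; norm_num⟩
  let e := IsCyclic.mulAutMulEquiv V
  have h1 : Nat.card H ≤ Nat.card (ZMod (Nat.card V))ˣ :=
    Nat.card_le_card_of_injective (fun h => e (f h)) (fun x y hxy => hf (e.injective hxy))
  have h2 : Nat.card (ZMod (Nat.card V))ˣ = 2 := by
    rw [Nat.card_eq_fintype_card, ZMod.card_units_eq_totient, hV]
    exact Nat.totient_prime Nat.prime_three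
  omega

/-- A `2`-group acting faithfully on a group of prime order is cyclic. -/
theorem isCyclic_of_injective_mulAut_prime {H : Type*} [Group H] {V : Type*} [CommGroup V]
    [Finite V] (r : ℕ) (hr : r.Prime) (hV : Nat.card V = r) (f : H →* MulAut V)
    (hf : Function.Injective f) : IsCyclic H := by
  have : Fact (Nat.Prime r) := ⟨hr⟩
  have : IsCyclic V := isCyclic_of_prime_card hV
  have : Fact (Nat.Prime (Nat.card V)) := ⟨by rw [hV]; exact hr⟩
  let e := IsCyclic.mulAutMulEquiv V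
  have : IsCyclic (MulAut V) := isCyclic_of_injective e.toMonoidHom e.injective
  exact isCyclic_of_injective f hf

theorem card_sub_quot {W : Type u} [CommGroup W] [Finite W] (r n : ℕ) (hr : r.Prime)
    (hW : Nat.card W = r ^ n) (U : Subgroup W) (hU1 : U ≠ ⊥) (hU2 : U ≠ ⊤) :
    ∃ a b : ℕ, 1 ≤ a ∧ 1 ≤ b ∧ a + b = n ∧ Nat.card U = r ^ a ∧ Nat.card (W ⧸ U) = r ^ b := by
  have hdvd : Nat.card U ∣ r ^ n := by rw [← hW]; exact Subgroup.card_subgroup_dvd_card U
  obtain ⟨a, han, ha⟩ := (Nat.dvd_prime_pow hr).mp hdvd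
  have hrpos : 0 < r := hr.pos
  have hq : Nat.card (W ⧸ U) = r ^ (n - a) := by
    have h1 := Subgroup.card_eq_card_quotient_mul_card_subgroup U
    rw [hW, ha] at h1
    have h2 : r ^ n = r ^ (n - a) * r ^ a := by rw [← pow_add]; congr 1; omega
    rw [h2] at h1
    exact (Nat.eq_of_mul_eq_mul_right (pow_pos hrpos a) h1).symm
  refine ⟨a, n - a, ?_, ?_, by omega, ha, hq⟩
  · by_contra h
    have h0 : a = 0 := by omega
    rw [h0, pow_zero] at ha
    exact hU1 ((Subgroup.eq_bot_iff_card U).mpr ha)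
  · by_contra h
    have h0 : a = n := by omega
    rw [h0, ← hW] at ha
    exact hU2 ((Subgroup.card_eq_iff_eq_top U).mp ha)

/-- Main theorem: a `2`-group acting faithfully on an abelian group of order `r ^ n`, `r` an odd
prime, has Frattini index at most `bnd r n`. -/
theorem frattini_index_le_bnd (r : ℕ) (hr : r.Prime) (hr2 : r ≠ 2) :
    ∀ n : ℕ, 1 ≤ n → ∀ (W : Type u) [CommGroup W] [Finite W] (Z : Type u) [Group Z] [Finite Z],
      Nat.card W = r ^ n → IsPGroup 2 Z → ∀ ρ : Z →* MulAut W, Function.Injective ρ →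
      (frattini Z).index ≤ bnd r n := by
  intro n
  induction n using Nat.strong_induction_on with
  | _ n ih =>
  intro hn W _ _ Z _ _ hW hZ ρ hρ
  have : Fact (Nat.Prime 2) := ⟨Nat.prime_two⟩
  have hrodd : Odd r := hr.eq_two_or_odd'.resolve_left hr2
  have hodd : Odd (Nat.card W) := by rw [hW]; exact hrodd.pow
  by_cases hn1 : n = 1
  · subst hn1
    rw [pow_one] at hW
    have : IsCyclic Z := isCyclic_of_injective_mulAut_prime r hr hW ρ hρ
    rw [bnd_one]
    exact frattini_index_le_two_of_cyclic hZ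
  have hn2 : 2 ≤ n := by omega
  by_cases hred : ∃ U : Subgroup W, (∀ z : Z, ∀ u ∈ U, ρ z u ∈ U) ∧ U ≠ ⊥ ∧ U ≠ ⊤
  · obtain ⟨U, hUinv, hU1, hU2⟩ := hred
    obtain ⟨a, b, ha, hb, hab, hcU, hcQ⟩ := card_sub_quot r n hr hW U hU1 hU2
    obtain ⟨K, hKn, ρ1, ρ2, hρ1, hρ2⟩ := reducible_step hodd hZ ρ hρ U hUinv
    have := hKn
    have h1 : (frattini (Z ⧸ K)).index ≤ bnd r a :=
      ih a (by omega) ha U (Z ⧸ K) hcU (hZ.to_quotient K) ρ1 hρ1
    have h2 : (frattini K).index ≤ bnd r b :=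
      ih b (by omega) hb (W ⧸ U) K hcQ (hZ.to_subgroup K) ρ2 hρ2
    calc (frattini Z).index ≤ (frattini (Z ⧸ K)).index * (frattini K).index :=
          frattini_index_le_mul hZ K
      _ ≤ bnd r a * bnd r b := Nat.mul_le_mul h1 h2
      _ ≤ bnd r (a + b) := bnd_mul_le r a b ha hb
      _ = bnd r n := by rw [hab]
  have hirr : ∀ U : Subgroup W, (∀ z : Z, ∀ u ∈ U, ρ z u ∈ U) → U = ⊥ ∨ U = ⊤ := by
    intro U hU
    by_contra hcon
    push Not at hcon
    exact hred ⟨U, hU, hcon.1, hcon.2⟩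
  by_cases hex : IsCyclic Z ∨ (∃ n : ℕ, Nonempty (Z ≃* QuaternionGroup n)) ∨
      (∃ n : ℕ, Nonempty (Z ≃* DihedralGroup n)) ∨ Cfsg.IsQuasiDihedral Z
  · exact (frattini_index_le_four_of_exceptional hZ hex).trans (four_le_bnd r n hn2)
  push Not at hex
  obtain ⟨hnc, hnq, hnd, hnsd⟩ := hex
  obtain ⟨E, hEn, -, hEexp, hEcard⟩ :=
    Cfsg.Agent.Lib.Helper20.NormalElemSq.exists_normal_elemAb_sq 2 hZ hnc
      (fun n => not_nonempty_iff.mpr (hnq n)) (fun n => not_nonempty_iff.mpr (hnd n)) hnsd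
  obtain ⟨M, U, hMidx, hUinv, hU1, hU2, hUU, hnab⟩ :=
    irreducible_step hodd hZ ρ hρ hirr E hEn hEexp (by rw [hEcard]; norm_num)
  have : M.Normal := Subgroup.normal_of_index_eq_two hMidx
  obtain ⟨a, b, ha, hb, hab, hcU, hcQ⟩ := card_sub_quot r n hr hW U hU1 hU2
  have haa : a + a = n := by
    rw [hcU, hW, ← pow_add] at hUU
    exact Nat.pow_right_injective hr.two_le hUU
  have hba : b = a := by omega
  subst hba
  have hρM : Function.Injective (ρ.comp M.subtype) := by
    rw [MonoidHom.coe_comp]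
    exact hρ.comp M.subtype_injective
  have hZM : IsPGroup 2 M := hZ.to_subgroup M
  obtain ⟨K, hKn, ρ1, ρ2, hρ1, hρ2⟩ := reducible_step hodd hZM (ρ.comp M.subtype) hρM U
    (fun m u hu => hUinv m.1 m.2 u hu)
  have := hKn
  have hZidx : (frattini Z).index ≤ 2 * (frattini M).index := by
    have := frattini_index_le_index_mul M
    rwa [hMidx] at this
  by_cases hsp : r = 3 ∧ b = 1
  · obtain ⟨h3, hb1⟩ := hsp
    subst h3; subst hb1
    rw [pow_one] at hcU hcQ
    have hc1 : Nat.card (M ⧸ K) ≤ 2 := card_le_two_of_injective_mulAut hcU ρ1 hρ1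
    have hc2 : Nat.card K ≤ 2 := card_le_two_of_injective_mulAut hcQ ρ2 hρ2
    have hcM : Nat.card M = Nat.card (M ⧸ K) * Nat.card K :=
      Subgroup.card_eq_card_quotient_mul_card_subgroup K
    have hcZ : Nat.card M * M.index = Nat.card Z := Subgroup.card_mul_index M
    have hcM4 : Nat.card M ≤ 4 := by
      rw [hcM]
      calc Nat.card (M ⧸ K) * Nat.card K ≤ 2 * 2 := Nat.mul_le_mul hc1 hc2
        _ = 4 := by norm_num
    have hcZ8 : Nat.card Z ≤ 8 := by rw [← hcZ, hMidx]; omega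
    have := two_mul_frattini_index_le_card hZ hnab
    rw [← hab, bnd_three_two]
    omega
  · have h1 : (frattini (M ⧸ K)).index ≤ bnd r b :=
      ih b (by omega) hb U (M ⧸ K) hcU (hZM.to_quotient K) ρ1 hρ1
    have h2 : (frattini K).index ≤ bnd r b :=
      ih b (by omega) hb (W ⧸ U) K hcQ (hZM.to_subgroup K) ρ2 hρ2
    have h3 : (frattini M).index ≤ bnd r b * bnd r b :=
      (frattini_index_le_mul hZM K).trans (Nat.mul_le_mul h1 h2)
    have h4 : 2 * (bnd r b * bnd r b) ≤ bnd r (b + b) := by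
      by_cases h3 : r = 3
      · subst h3
        have : 2 ≤ b := by
          by_contra hlt
          exact hsp ⟨rfl, by omega⟩
        exact two_mul_bnd_mul_le_three b this
      · exact two_mul_bnd_mul_le_of_ne_three r b b h3 hb hb
    calc (frattini Z).index ≤ 2 * (frattini M).index := hZidx
      _ ≤ 2 * (bnd r b * bnd r b) := Nat.mul_le_mul_left 2 h3
      _ ≤ bnd r (b + b) := h4
      _ = bnd r n := by rw [hab]

end Cfsg.Agent.Lib.Helper23.TwoLin
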