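import Mathlib
import Cfsg.Agent.Lib.Helper20.UTDefs
import Cfsg.Agent.Lib.Helper23.UTNNG
import Cfsg.Agent.Lib.Helper5.UTIStab
import Cfsg.Agent.Lib.Helper5.UForm
import Cfsg.Agent.Lib.Helper22.PolUnD

/-!
S5801 conjunct (8), case `q = 3`: the ENDGAME LEMMA (E) = leaf Q3 of notes/S5801_C4_q3_route_helper18.md.
If an overgroup `M` of `H = KG ⊓ GS` (model `(a,b) = (2,3)`, `|F| = 9`) contains the slice element
`a_d(c) = c ⊗ π_d + 1 ⊗ (1 - π_d)` (`d` nonsingular in `B`, `c ∈ SU(A)`, `c² = -1`), then `M` contains the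
full root group of a unitary transvection with centre `a₊ ⊗ z` (`T1U`).  Proof = helper14's msg 4956 (b)+(c):
`T_d := a_d(c) · (c ⊗ ι r_d(ι)) = 1 ⊗ π_d + ιc ⊗ (1 - π_d)` acts on `a₊ ⊗ B` as the reflection `t_d` and trivially on
`a₋ ⊗ B`; `T_d T_{d+μz}` are Heisenberg elements, and the commutator for `μ = 1, ι` is the transvection.
-/

set_option autoImplicit false
set_option linter.unusedSectionVars false
set_option linter.unusedVariables false

namespace Cfsg.Agent.Lib.Helper23.U23Q3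
open Matrix
open Cfsg.Agent.Lib.Helper25.Tens Cfsg.Agent.Lib.Helper25.TensLeaf Cfsg.Agent.Lib.Helper20.UT
open scoped Kronecker

variable {F : Type*} [Field F] [Fintype F]

/-- characteristic three -/
lemma three_eq_zero (hF : Fintype.card F = 3 ^ 2) : (3 : F) = 0 := by
  obtain ⟨p, hp⟩ := CharP.exists F
  have := hp
  obtain ⟨k, hpp, hk⟩ := FiniteField.card F p
  have h1 : p ∣ 3 ^ 2 := by rw [← hF, hk]; exact dvd_pow_self p k.ne_zero
  have h2 : p ∣ 3 := hpp.dvd_of_dvd_pow h1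
  have h3 : p = 3 := (Nat.prime_dvd_prime_iff_eq hpp Nat.prime_three).mp h2
  subst h3
  exact_mod_cast CharP.cast_eq_zero F 3

/-- a square root of `-1` -/
lemma exists_iota (hF : Fintype.card F = 3 ^ 2) : ∃ ι : F, ι * ι = -1 := by
  have h : IsSquare (-1 : F) := by
    rw [FiniteField.isSquare_neg_one_iff, hF]
    decide
  obtain ⟨ι, hι⟩ := h
  exact ⟨ι, hι.symm⟩

lemma iota_pow3 {ι : F} (hι : ι * ι = -1) : ι ^ 3 = -ι := by
  calc ι ^ 3 = ι * ι * ι := by ring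
    _ = -ι := by rw [hι]; ring

lemma iota_ne_zero {ι : F} (hι : ι * ι = -1) : ι ≠ 0 := by
  rintro rfl
  rw [mul_zero] at hι
  exact one_ne_zero (neg_eq_zero.mp hι.symm)

/-- determinant of `ι + p u vᵀ` in dimension three -/
lemma det_smul_one_add (ι p : F) (u v : Fin 3 → F) :
    (ι • (1 : Matrix (Fin 3) (Fin 3) F) + p • vecMulVec u v).det = ι ^ 3 + ι ^ 2 * p * (v ⬝ᵥ u) := by
  rw [Matrix.det_fin_three]
  simp [vecMulVec, dotProduct, Fin.sum_univ_three]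
  ring

/-- the matrix of `ι r_d(ι)` -/
def Bd (ι n : F) (d : Fin 3 → F) : Matrix (Fin 3) (Fin 3) F :=
  ι • (1 : Matrix (Fin 3) (Fin 3) F) + (-(1 + ι) * n⁻¹) • vecMulVec d (cj 3 d)

lemma Bd_mulVec (ι n : F) (d u : Fin 3 → F) :
    Bd ι n d *ᵥ u = ι • u + (-(1 + ι) * n⁻¹ * hv 3 u d) • d := by
  unfold Bd
  rw [add_mulVec, smul_mulVec, one_mulVec, smul_mulVec, vecMulVec_mulVec,
    op_smul_eq_smul, ← hv_eq_dot, smul_smul]

lemma Bd_det {ι n : F} (hι : ι * ι = -1) {d : Fin 3 → F} (hn : hv 3 d d = n) (hn0 : n ≠ 0) :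
    (Bd ι n d).det = 1 := by
  unfold Bd
  rw [det_smul_one_add, ← hv_eq_dot, hn, iota_pow3 hι]
  have h2 : ι ^ 2 = -1 := by rw [sq, hι]
  rw [h2]
  field_simp
  ring

/-- `ι r_d(ι)` as a unit -/
noncomputable def βd {ι n : F} (hι : ι * ι = -1) {d : Fin 3 → F} (hn : hv 3 d d = n) (hn0 : n ≠ 0) :
    GL (Fin 3) F :=
  Matrix.GeneralLinearGroup.mkOfDetNeZero (Bd ι n d) (by rw [Bd_det hι hn hn0]; exact one_ne_zero)

lemma mv_βd {ι n : F} (hι : ι * ι = -1) {d : Fin 3 → F} (hn : hv 3 d d = n) (hn0 : n ≠ 0)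
    (u : Fin 3 → F) : mv (βd hι hn hn0) u = ι • u + (-(1 + ι) * n⁻¹ * hv 3 u d) • d :=
  Bd_mulVec ι n d u

lemma βd_det {ι n : F} (hι : ι * ι = -1) {d : Fin 3 → F} (hn : hv 3 d d = n) (hn0 : n ≠ 0) :
    ((βd hι hn hn0 : GL (Fin 3) F) : Matrix (Fin 3) (Fin 3) F).det = 1 :=
  Bd_det hι hn hn0

lemma hv_self_inv (hF : Fintype.card F = 3 ^ 2) {n : F} {d : Fin 3 → F} (hn : hv 3 d d = n) :
    n ^ 3 = n := by
  rw [← hn]; exact hv_self_pow hF d

/-- `ι r_d(ι)` is unitary -/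
lemma βd_unitary (hF : Fintype.card F = 3 ^ 2) {ι n : F} (hι : ι * ι = -1) {d : Fin 3 → F}
    (hn : hv 3 d d = n) (hn0 : n ≠ 0) (u v : Fin 3 → F) :
    hv 3 (mv (βd hι hn hn0) u) (mv (βd hι hn hn0) v) = hv 3 u v := by
  simp only [mv_βd, hv_add_left, hv_add_right hF, hv_smul_left, hv_smul_right, hn]
  have h3 : ((-(1 + ι) * n⁻¹ * hv 3 v d) : F) ^ 3 = (ι - 1) * n⁻¹ * hv 3 d v := by
    rw [mul_pow, mul_pow, hv_conj hF, inv_pow, hv_self_inv hF hn, neg_pow, add_pow_q hF, one_pow,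
      iota_pow3 hι]
    ring
  rw [h3, iota_pow3 hι]
  have hmn : n⁻¹ * n = 1 := inv_mul_cancel₀ hn0
  linear_combination (n⁻¹ * hv 3 u d * hv 3 d v - hv 3 u v) * hι -
    (ι * ι - 1) * n⁻¹ * hv 3 u d * hv 3 d v * hmn

/-- `T` acts as `1 ⊗ π_{d'} + ιc ⊗ (1 - π_{d'})` -/
def IsT (ι n : F) (c : GL (Fin 2) F) (T : GL (Idx 2 3) F) (d' : Fin 3 → F) : Prop :=
  ∀ x y, mv T (pt x y) =
    pt x ((hv 3 y d' * n⁻¹) • d') + pt (ι • mv c x) (y - (hv 3 y d' * n⁻¹) • d')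

/-- Step 1: `T_d = a_d(c) · (c ⊗ ι r_d(ι)) ∈ M` -/
lemma exists_T (hF : Fintype.card F = 3 ^ 2) {ι n : F} (hι : ι * ι = -1)
    {M : Subgroup (GL (Idx 2 3) F)} (hM : KG 2 3 F ⊓ GS 2 3 3 F ≤ M)
    (c : GL (Fin 2) F) (hcU : ∀ u v, hv 3 (mv c u) (mv c v) = hv 3 u v)
    (hc2 : ∀ u, mv c (mv c u) = -u) (hcdet : (c : Matrix (Fin 2) (Fin 2) F).det = 1)
    {d : Fin 3 → F} (hn : hv 3 d d = n) (hn0 : n ≠ 0) (m : GL (Idx 2 3) F) (hm : m ∈ M)
    (hmd : ∀ x y, mv m (pt x y) = pt x y + (hv 3 y d / hv 3 d d) • pt (mv c x - x) d) :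
    ∃ T ∈ M, IsT ι n c T d := by
  refine ⟨m * kel c (βd hι hn hn0), M.mul_mem hm (hM ?_), ?_⟩
  · apply Cfsg.Agent.Lib.Helper23.UTNLeaf.kel_mem_GS hF c (βd hι hn hn0) hcU
      (βd_unitary hF hι hn hn0)
    rw [hcdet, βd_det hι hn hn0]
    norm_num
  · intro x y
    have hk : mv (kel c (βd hι hn hn0) : GL (Idx 2 3) F) (pt x y) =
        pt (mv c x) (mv (βd hι hn hn0) y) := kel_mulVec_pt c (βd hι hn hn0) x y
    rw [mv_mul, hk, hmd, hc2, hn]
    have hb : hv 3 (mv (βd hι hn hn0) y) d = - hv 3 y d := by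
      rw [mv_βd, hv_add_left, hv_smul_left, hv_smul_left, hn]
      field_simp
      ring
    rw [hb, mv_βd]
    ext ⟨i, l⟩
    simp only [pt, Pi.add_apply, Pi.smul_apply, Pi.sub_apply, Pi.neg_apply, smul_eq_mul]
    field_simp
    ring

lemma mv_scalar (s : Fˣ) (x : Fin 2 → F) :
    mv (Matrix.GeneralLinearGroup.scalar (Fin 2) s) x = (s : F) • x := by
  unfold mv
  rw [Matrix.GeneralLinearGroup.coe_scalar]
  ext i
  simp [Matrix.mulVec, dotProduct, Matrix.scalar_apply, Matrix.diagonal_apply]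

lemma det_scalar2 (s : Fˣ) :
    ((Matrix.GeneralLinearGroup.scalar (Fin 2) s : GL (Fin 2) F) : Matrix (Fin 2) (Fin 2) F).det =
      (s : F) ^ 2 := by
  rw [Matrix.GeneralLinearGroup.coe_scalar, Matrix.scalar_apply, Matrix.det_diagonal]
  simp

/-- Step 2: `H`-conjugation moves `T_d` to `T_{d'}` for every `d'` of the same norm -/
lemma exists_T_conj (hF : Fintype.card F = 3 ^ 2) {ι n : F}
    {M : Subgroup (GL (Idx 2 3) F)} (hM : KG 2 3 F ⊓ GS 2 3 3 F ≤ M) (c : GL (Fin 2) F)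
    {d d' : Fin 3 → F} (hn : hv 3 d d = n) (hn' : hv 3 d' d' = n) (hn0 : n ≠ 0)
    (T : GL (Idx 2 3) F) (hT : T ∈ M) (hTd : IsT ι n c T d) : ∃ T' ∈ M, IsT ι n c T' d' := by
  have hd0 : d ≠ 0 := by
    rintro rfl
    rw [hv_zero_left] at hn
    exact hn0 hn.symm
  have hd'0 : d' ≠ 0 := by
    rintro rfl
    rw [hv_zero_left] at hn'
    exact hn0 hn'.symm
  obtain ⟨A, hA⟩ := Cfsg.Agent.Lib.Helper5.UTIStab.witt_GU (n := 3) hF 1 ![d] ![d']
    (linearIndependent_unique_iff.mpr (by simpa using hd0))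
    (linearIndependent_unique_iff.mpr (by simpa using hd'0))
    (by
      intro a b
      have ha : a = 0 := Subsingleton.elim _ _
      have hb : b = 0 := Subsingleton.elim _ _
      subst ha; subst hb
      show hv 3 d d = hv 3 d' d'
      rw [hn, hn'])
  have hβd : mv (A : GL (Fin 3) F) d = d' := hA 0
  have hβU : ∀ u v, hv 3 (mv (A : GL (Fin 3) F) u) (mv (A : GL (Fin 3) F) v) = hv 3 u v :=
    fun u v => A.2 u v
  have hδ := Cfsg.Agent.Lib.Helper22.PolUn.det_norm hF A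
  set δ : F := ((A : GL (Fin 3) F) : Matrix (Fin 3) (Fin 3) F).det with hδdef
  have hδ' : δ * δ ^ 3 = 1 := hδ
  have hδ0 : δ ≠ 0 := by
    rintro h
    rw [h, zero_mul] at hδ'
    exact zero_ne_one hδ'
  have hs0 : δ ^ 3 ≠ 0 := pow_ne_zero _ hδ0
  set su : Fˣ := Units.mk0 (δ ^ 3) hs0 with hsu
  have hsv : (su : F) = δ ^ 3 := rfl
  set K : GL (Idx 2 3) F := kel (Matrix.GeneralLinearGroup.scalar (Fin 2) su) (A : GL (Fin 3) F)
    with hK
  have hKM : K ∈ M := by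
    apply hM
    apply Cfsg.Agent.Lib.Helper23.UTNLeaf.kel_mem_GS hF _ _ _ hβU
    · rw [det_scalar2, hsv, ← hδdef]
      have : (δ ^ 3) ^ 2 = (δ * δ ^ 3) * δ ^ 2 := by ring
      calc ((δ ^ 3) ^ 2) ^ 3 * δ ^ 2 = (δ * δ ^ 3) ^ 5 := by ring
        _ = 1 := by rw [hδ', one_pow]
    · intro u v
      rw [mv_scalar, mv_scalar, hv_smul_left, hv_smul_right, hsv]
      calc δ ^ 3 * ((δ ^ 3) ^ 3 * hv 3 u v) = (δ * δ ^ 3) ^ 3 * hv 3 u v := by ring
        _ = hv 3 u v := by rw [hδ', one_pow, one_mul]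
  refine ⟨K * T * K⁻¹, M.mul_mem (M.mul_mem hKM hT) (M.inv_mem hKM), ?_⟩
  intro x y
  have hKpt : ∀ x₀ y₀, mv K (pt x₀ y₀) = pt ((δ ^ 3) • x₀) (mv (A : GL (Fin 3) F) y₀) := by
    intro x₀ y₀
    have := kel_mulVec_pt (Matrix.GeneralLinearGroup.scalar (Fin 2) su) (A : GL (Fin 3) F) x₀ y₀
    have h4 : (δ ^ 3) • x₀ = mv (Matrix.GeneralLinearGroup.scalar (Fin 2) su) x₀ := by
      rw [mv_scalar, hsv]
    rw [h4]
    exact this
  have hx : (δ ^ 3) • (δ • x) = x := by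
    rw [smul_smul, mul_comm, hδ', one_smul]
  have hinv : mv K⁻¹ (pt x y) = pt (δ • x) (mv (A : GL (Fin 3) F)⁻¹ y) := by
    have h1 := hKpt (δ • x) (mv (A : GL (Fin 3) F)⁻¹ y)
    rw [hx, mv_mv_inv] at h1
    rw [← h1, mv_inv_mv]
  rw [mv_mul, mv_mul, hinv, hTd, mv_add, hKpt, hKpt, hx]
  have h2 : (δ ^ 3) • ι • mv c (δ • x) = ι • mv c x := by
    rw [mv_smul, smul_comm ι δ, smul_smul, mul_comm, hδ', one_smul]
  have h3 : hv 3 (mv (A : GL (Fin 3) F)⁻¹ y) d = hv 3 y d' := by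
    rw [← hβU, mv_mv_inv, hβd]
  rw [h2, h3, mv_sub, mv_mv_inv, mv_smul, hβd]

/-! ### the Heisenberg calculus on `B` -/

/-- `v ↦ v + a h(v,d)/n d + b h(v,d) z + c h(v,z) d + e h(v,z) z` -/
def el (n : F) (d z : Fin 3 → F) (a b c e : F) (v : Fin 3 → F) : Fin 3 → F :=
  v + (a * hv 3 v d * n⁻¹) • d + (b * hv 3 v d) • z + (c * hv 3 v z) • d + (e * hv 3 v z) • z

lemma el_congr (n : F) (d z : Fin 3 → F) {a b c e a' b' c' e' : F} (ha : a = a') (hb : b = b')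
    (hc : c = c') (he : e = e') (v : Fin 3 → F) : el n d z a b c e v = el n d z a' b' c' e' v := by
  rw [ha, hb, hc, he]

lemma el_comp {n : F} {d z : Fin 3 → F} (hn : hv 3 d d = n) (hn0 : n ≠ 0) (hzd : hv 3 z d = 0)
    (hdz : hv 3 d z = 0) (hzz : hv 3 z z = 0) (a b c e a' b' c' e' : F) (v : Fin 3 → F) :
    el n d z a b c e (el n d z a' b' c' e' v) =
      el n d z (a + a' + a * a') (b + b' + b * a') (c + c' + a * c') (e + e' + n * b * c') v := by
  have h1 : hv 3 (el n d z a' b' c' e' v) d = (1 + a') * hv 3 v d + c' * n * hv 3 v z := by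
    unfold el
    simp only [hv_add_left, hv_smul_left, hn, hzd]
    field_simp
    ring
  have h2 : hv 3 (el n d z a' b' c' e' v) z = hv 3 v z := by
    unfold el
    simp only [hv_add_left, hv_smul_left, hdz, hzz]
    ring
  have h0 : ∀ w, el n d z a b c e w = w + (a * hv 3 w d * n⁻¹) • d + (b * hv 3 w d) • z +
      (c * hv 3 w z) • d + (e * hv 3 w z) • z := fun w => rfl
  rw [h0, h1, h2]
  unfold el
  ext i
  simp only [Pi.add_apply, Pi.smul_apply, smul_eq_mul]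
  field_simp
  ring

/-- the reflection `s_{d'}` (up to sign) -/
def sl (n : F) (d' : Fin 3 → F) (y : Fin 3 → F) : Fin 3 → F := y + (hv 3 y d' * n⁻¹) • d'

lemma sl_eq_el (hF : Fintype.card F = 3 ^ 2) (n : F) (d z : Fin 3 → F) (μ : F) (y : Fin 3 → F) :
    sl n (d + μ • z) y = el n d z 1 (μ * n⁻¹) (μ ^ 3 * n⁻¹) (μ * μ ^ 3 * n⁻¹) y := by
  unfold sl el
  rw [hv_add_right hF, hv_smul_right]
  ext i
  simp only [Pi.add_apply, Pi.smul_apply, smul_eq_mul]
  ring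

lemma sl_eq_el0 (n : F) (d z : Fin 3 → F) (y : Fin 3 → F) : sl n d y = el n d z 1 0 0 0 y := by
  unfold sl el
  ext i
  simp only [Pi.add_apply, Pi.smul_apply, smul_eq_mul]
  ring

lemma sl_neg (n : F) (d' y : Fin 3 → F) : sl n d' (-y) = - sl n d' y := by
  unfold sl
  rw [hv_neg_left]
  ext i
  simp only [Pi.add_apply, Pi.smul_apply, Pi.neg_apply, smul_eq_mul]
  ring

/-! ### elements acting on `E₊ ⊗ B` through `B` and trivially on `E₋ ⊗ B` -/

def Acts (ι : F) (c : GL (Fin 2) F) (g : GL (Idx 2 3) F) (f : (Fin 3 → F) → (Fin 3 → F)) : Prop :=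
  (∀ x y, mv c x = ι • x → mv g (pt x y) = pt x (f y)) ∧
    (∀ x y, mv c x = (-ι) • x → mv g (pt x y) = pt x y)

lemma Acts_mul {ι : F} {c : GL (Fin 2) F} {g g' : GL (Idx 2 3) F}
    {f f' : (Fin 3 → F) → (Fin 3 → F)} (h : Acts ι c g f) (h' : Acts ι c g' f') :
    Acts ι c (g * g') (fun y => f (f' y)) := by
  constructor
  · intro x y hx
    rw [mv_mul, h'.1 x y hx, h.1 x _ hx]
  · intro x y hx
    rw [mv_mul, h'.2 x y hx, h.2 x y hx]

lemma IsT_plus (h3 : (3 : F) = 0) {ι n : F} (hι : ι * ι = -1) {c : GL (Fin 2) F}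
    {T : GL (Idx 2 3) F} {d' : Fin 3 → F} (hT : IsT ι n c T d') (x : Fin 2 → F) (y : Fin 3 → F)
    (hx : mv c x = ι • x) : mv T (pt x y) = pt x (- sl n d' y) := by
  rw [hT, hx]
  unfold sl
  ext ⟨i, l⟩
  simp only [pt, Pi.add_apply, Pi.smul_apply, Pi.sub_apply, Pi.neg_apply, smul_eq_mul]
  linear_combination (x i * (y l - hv 3 y d' * n⁻¹ * d' l)) * hι +
    (x i * (hv 3 y d' * n⁻¹ * d' l)) * h3

lemma IsT_minus {ι n : F} (hι : ι * ι = -1) {c : GL (Fin 2) F}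
    {T : GL (Idx 2 3) F} {d' : Fin 3 → F} (hT : IsT ι n c T d') (x : Fin 2 → F) (y : Fin 3 → F)
    (hx : mv c x = (-ι) • x) : mv T (pt x y) = pt x y := by
  rw [hT, hx]
  ext ⟨i, l⟩
  simp only [pt, Pi.add_apply, Pi.smul_apply, Pi.sub_apply, smul_eq_mul]
  linear_combination (-(x i * (y l - hv 3 y d' * n⁻¹ * d' l))) * hι

lemma Acts_pair (h3 : (3 : F) = 0) {ι n : F} (hι : ι * ι = -1) {c : GL (Fin 2) F}
    {T' T'' : GL (Idx 2 3) F} {d' d'' : Fin 3 → F} (hT' : IsT ι n c T' d') (hT'' : IsT ι n c T'' d'') :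
    Acts ι c (T' * T'') (fun y => sl n d' (sl n d'' y)) := by
  constructor
  · intro x y hx
    rw [mv_mul, IsT_plus h3 hι hT'' x y hx, IsT_plus h3 hι hT' x _ hx, sl_neg, neg_neg]
  · intro x y hx
    rw [mv_mul, IsT_minus hι hT'' x y hx, IsT_minus hι hT' x y hx]

/-- the commutator word of the Heisenberg elements is the transvection on `E₊ ⊗ B` -/
lemma Acts_word (hF : Fintype.card F = 3 ^ 2) (h3 : (3 : F) = 0) {ι n : F} (hι : ι * ι = -1)
    {c : GL (Fin 2) F} {d z : Fin 3 → F} (hn : hv 3 d d = n) (hn0 : n ≠ 0) (hzd : hv 3 z d = 0)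
    (hdz : hv 3 d z = 0) (hzz : hv 3 z z = 0) {T₀ T₁ T₂ : GL (Idx 2 3) F}
    (h₀ : IsT ι n c T₀ d) (h₁ : IsT ι n c T₁ (d + z)) (h₂ : IsT ι n c T₂ (d + ι • z)) :
    Acts ι c ((T₀ * T₁) * (T₀ * T₂) * (T₁ * T₀) * (T₂ * T₀))
      (fun y => y + (-ι * n⁻¹ * hv 3 y z) • z) := by
  have hnm : n * n⁻¹ = 1 := mul_inv_cancel₀ hn0
  have hι3 : ι ^ 3 = -ι := iota_pow3 hι
  have e1 : d + z = d + (1 : F) • z := by rw [one_smul]
  have hE1 : ∀ y, sl n d (sl n (d + z) y) = el n d z 0 n⁻¹ (-n⁻¹) n⁻¹ y := by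
    intro y
    rw [e1, sl_eq_el hF, sl_eq_el0 n d z, el_comp hn hn0 hzd hdz hzz]
    apply el_congr
    · linear_combination h3
    · ring
    · linear_combination n⁻¹ * h3
    · ring
  have hE1' : ∀ y, sl n (d + z) (sl n d y) = el n d z 0 (-n⁻¹) n⁻¹ n⁻¹ y := by
    intro y
    rw [e1, sl_eq_el hF, sl_eq_el0 n d z, el_comp hn hn0 hzd hdz hzz]
    apply el_congr
    · linear_combination h3
    · linear_combination n⁻¹ * h3
    · ring
    · ring
  have hE2 : ∀ y, sl n d (sl n (d + ι • z) y) = el n d z 0 (ι * n⁻¹) (ι * n⁻¹) n⁻¹ y := by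
    intro y
    rw [sl_eq_el hF, sl_eq_el0 n d z, el_comp hn hn0 hzd hdz hzz, hι3]
    apply el_congr
    · linear_combination h3
    · ring
    · linear_combination (-(ι * n⁻¹)) * h3
    · linear_combination (-n⁻¹) * hι
  have hE2' : ∀ y, sl n (d + ι • z) (sl n d y) = el n d z 0 (-(ι * n⁻¹)) (-(ι * n⁻¹)) n⁻¹ y := by
    intro y
    rw [sl_eq_el hF, sl_eq_el0 n d z, el_comp hn hn0 hzd hdz hzz, hι3]
    apply el_congr
    · linear_combination h3
    · linear_combination (ι * n⁻¹) * h3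
    · ring
    · linear_combination (-n⁻¹) * hι
  have A := Acts_mul (Acts_mul (Acts_mul (Acts_pair h3 hι h₀ h₁) (Acts_pair h3 hι h₀ h₂))
    (Acts_pair h3 hι h₁ h₀)) (Acts_pair h3 hι h₂ h₀)
  refine ⟨fun x y hx => ?_, A.2⟩
  rw [A.1 x y hx]
  congr 1
  show sl n d (sl n (d + z) (sl n d (sl n (d + ι • z) (sl n (d + z) (sl n d
    (sl n (d + ι • z) (sl n d y))))))) = y + (-ι * n⁻¹ * hv 3 y z) • z
  rw [hE1, hE2, hE1', hE2', el_comp hn hn0 hzd hdz hzz, el_comp hn hn0 hzd hdz hzz,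
    el_comp hn hn0 hzd hdz hzz]
  have hfin : ∀ w : Fin 3 → F, w + (-ι * n⁻¹ * hv 3 w z) • z = el n d z 0 0 0 (-ι * n⁻¹) w := by
    intro w
    unfold el
    ext i
    simp only [Pi.add_apply, Pi.smul_apply, smul_eq_mul]
    ring
  rw [hfin]
  apply el_congr
  · ring
  · ring
  · ring
  · linear_combination (2 * n⁻¹ + ι * n⁻¹) * h3 - n⁻¹ * hι +
      (n⁻¹ + 2 * ι * n⁻¹ - ι * ι * n⁻¹) * hnm

/-! ### the eigenspaces of `c` -/

lemma two_ne_zero' (h3 : (3 : F) = 0) : (2 : F) ≠ 0 := by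
  intro h2
  have : (1 : F) = 0 := by linear_combination h3 - h2
  exact one_ne_zero this

/-- `c` is not the scalar `ι` -/
lemma not_scalar (h3 : (3 : F) = 0) {ι : F} (hι : ι * ι = -1) (c : GL (Fin 2) F)
    (hcdet : (c : Matrix (Fin 2) (Fin 2) F).det = 1)
    (h : (c : Matrix (Fin 2) (Fin 2) F) = ι • (1 : Matrix (Fin 2) (Fin 2) F)) : False := by
  rw [h, Matrix.det_smul, Matrix.det_one, Fintype.card_fin, mul_one, sq, hι] at hcdet
  apply two_ne_zero' h3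
  linear_combination -hcdet

/-- the `ι`-eigenspace of `c` is a line -/
lemma eig_dim_one (h3 : (3 : F) = 0) {ι : F} (hι : ι * ι = -1) (c : GL (Fin 2) F)
    (hcdet : (c : Matrix (Fin 2) (Fin 2) F).det = 1) {a a' : Fin 2 → F} (ha : a ≠ 0)
    (hca : mv c a = ι • a) (hca' : mv c a' = ι • a') : ∃ l : F, a' = l • a := by
  by_cases hΔ : a 0 * a' 1 - a 1 * a' 0 = 0
  · by_cases h0 : a 0 = 0
    · have h1 : a 1 ≠ 0 := by
        intro h1
        apply ha
        ext i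
        fin_cases i
        · exact h0
        · exact h1
      have h2 : a' 0 = 0 := by
        rw [h0, zero_mul, zero_sub, neg_eq_zero] at hΔ
        exact (mul_eq_zero.mp hΔ).resolve_left h1
      refine ⟨a' 1 / a 1, ?_⟩
      ext i
      fin_cases i
      · show a' 0 = a' 1 / a 1 * a 0
        rw [h2, h0, mul_zero]
      · show a' 1 = a' 1 / a 1 * a 1
        rw [div_mul_cancel₀ _ h1]
    · refine ⟨a' 0 / a 0, ?_⟩
      ext i
      fin_cases i
      · show a' 0 = a' 0 / a 0 * a 0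
        rw [div_mul_cancel₀ _ h0]
      · show a' 1 = a' 0 / a 0 * a 1
        field_simp
        linear_combination hΔ
  · exfalso
    set X : Matrix (Fin 2) (Fin 2) F := Matrix.of ![![a 0, a' 0], ![a 1, a' 1]] with hX
    have hdet : X.det = a 0 * a' 1 - a 1 * a' 0 := by
      rw [hX, Matrix.det_fin_two_of]
      ring
    have hXu : IsUnit X.det := by
      rw [hdet]
      exact isUnit_iff_ne_zero.mpr hΔ
    have hcX : (c : Matrix (Fin 2) (Fin 2) F) * X = ι • X := by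
      have e0 := congrFun hca
      have e1 := congrFun hca'
      simp only [mv, Matrix.mulVec, dotProduct, Fin.sum_univ_two, Pi.smul_apply, smul_eq_mul] at e0 e1
      ext i j
      fin_cases i <;> fin_cases j
      · simpa [hX, Matrix.mul_apply, Fin.sum_univ_two] using e0 0
      · simpa [hX, Matrix.mul_apply, Fin.sum_univ_two] using e1 0
      · simpa [hX, Matrix.mul_apply, Fin.sum_univ_two] using e0 1
      · simpa [hX, Matrix.mul_apply, Fin.sum_univ_two] using e1 1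
    apply not_scalar h3 hι c hcdet
    calc (c : Matrix (Fin 2) (Fin 2) F) = (c : Matrix (Fin 2) (Fin 2) F) * (X * X⁻¹) := by
          rw [Matrix.mul_nonsing_inv X hXu, mul_one]
      _ = ((c : Matrix (Fin 2) (Fin 2) F) * X) * X⁻¹ := (mul_assoc _ _ _).symm
      _ = ι • (X * X⁻¹) := by rw [hcX, smul_mul_assoc]
      _ = ι • 1 := by rw [Matrix.mul_nonsing_inv X hXu]

/-- the projection onto the `ι`-eigenspace -/
def Pp (ι : F) (c : GL (Fin 2) F) (x : Fin 2 → F) : Fin 2 → F := ι • mv c x - x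

/-- the projection onto the `-ι`-eigenspace -/
def Pm (ι : F) (c : GL (Fin 2) F) (x : Fin 2 → F) : Fin 2 → F := -x - ι • mv c x

lemma Pp_add_Pm (h3 : (3 : F) = 0) (ι : F) (c : GL (Fin 2) F) (x : Fin 2 → F) :
    Pp ι c x + Pm ι c x = x := by
  unfold Pp Pm
  ext i
  simp only [Pi.add_apply, Pi.sub_apply, Pi.smul_apply, Pi.neg_apply, smul_eq_mul]
  linear_combination (-(x i)) * h3

lemma mv_Pp {ι : F} (hι : ι * ι = -1) (c : GL (Fin 2) F) (hc2 : ∀ u, mv c (mv c u) = -u)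
    (x : Fin 2 → F) : mv c (Pp ι c x) = ι • Pp ι c x := by
  unfold Pp
  rw [mv_sub, mv_smul, hc2]
  ext i
  simp only [Pi.sub_apply, Pi.smul_apply, Pi.neg_apply, smul_eq_mul]
  linear_combination (-(mv c x i)) * hι

lemma mv_Pm {ι : F} (hι : ι * ι = -1) (c : GL (Fin 2) F) (hc2 : ∀ u, mv c (mv c u) = -u)
    (x : Fin 2 → F) : mv c (Pm ι c x) = (-ι) • Pm ι c x := by
  unfold Pm
  rw [mv_sub, mv_neg, mv_smul, hc2]
  ext i
  simp only [Pi.sub_apply, Pi.smul_apply, Pi.neg_apply, smul_eq_mul]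
  linear_combination (-(mv c x i)) * hι

/-- the two eigenspaces are orthogonal -/
lemma eig_orth (hF : Fintype.card F = 3 ^ 2) (h3 : (3 : F) = 0) {ι : F} (hι : ι * ι = -1)
    (c : GL (Fin 2) F) (hcU : ∀ u v, hv 3 (mv c u) (mv c v) = hv 3 u v) {a b : Fin 2 → F}
    (ha : mv c a = ι • a) (hb : mv c b = (-ι) • b) : hv 3 b a = 0 := by
  have h := hcU b a
  rw [ha, hb, hv_smul_left, hv_smul_right, iota_pow3 hι] at h
  have h2 : (2 : F) * hv 3 b a = 0 := by linear_combination (hv 3 b a) * hι - h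
  exact (mul_eq_zero.mp h2).resolve_left (two_ne_zero' h3)

/-- **(E) the endgame lemma** (leaf Q3 of notes/S5801_C4_q3_route_helper18.md): a slice element
`a_d(c)`, `c² = -1`, in an overgroup `M` of `H` gives the full root group of a unitary transvection. -/
theorem T1U_of_slice (hF : Fintype.card F = 3 ^ 2) {M : Subgroup (GL (Idx 2 3) F)}
    (hM : KG 2 3 F ⊓ GS 2 3 3 F ≤ M)
    (c : GL (Fin 2) F) (hcU : ∀ u v, hv 3 (mv c u) (mv c v) = hv 3 u v)
    (hc2 : ∀ u, mv c (mv c u) = -u) (hcdet : (c : Matrix (Fin 2) (Fin 2) F).det = 1)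
    (d : Fin 3 → F) (hd : hv 3 d d ≠ 0) (m : GL (Idx 2 3) F) (hm : m ∈ M)
    (hmd : ∀ x y, mv m (pt x y) = pt x y + (hv 3 y d / hv 3 d d) • pt (mv c x - x) d) :
    T1U 3 M := by
  have h3 := three_eq_zero hF
  obtain ⟨ι, hι⟩ := exists_iota hF
  have hι' : (-ι) * (-ι) = -1 := by rw [neg_mul_neg, hι]
  have hf := hv_unitary (n := 3) hF
  have hf2 := hv_unitary (n := 2) hF
  obtain ⟨n, hn⟩ : ∃ n, hv 3 d d = n := ⟨_, rfl⟩
  have hn0 : n ≠ 0 := by rw [← hn]; exact hd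
  -- an isotropic vector perpendicular to `d`
  obtain ⟨z, hzU, hz0, hzz⟩ := Cfsg.Agent.Lib.Helper5.UForm.exists_iso hf
    (Cfsg.Agent.Lib.Helper5.UForm.ND_noniso hf (Cfsg.Agent.Lib.Helper5.UForm.ND_top hf)
      Submodule.mem_top hd) (by
      have h1 := Cfsg.Agent.Lib.Helper5.UForm.finrank_inf_pp hf ⊤ d
      rw [finrank_top, Module.finrank_fin_fun] at h1
      omega)
  have hzd : hv 3 z d = 0 :=
    (Cfsg.Agent.Lib.Helper5.UForm.mem_pp hf).mp (Submodule.mem_inf.mp hzU).2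
  have hdz : hv 3 d z = 0 := hv_symm_zero hF hzd
  -- the three elements `T_d`, `T_{d+z}`, `T_{d+ιz}`
  obtain ⟨T₀, hT₀M, hT₀⟩ := exists_T hF hι hM c hcU hc2 hcdet hn hn0 m hm hmd
  have hn1 : hv 3 (d + z) (d + z) = n := by
    rw [hv_add_left, hv_add_right hF, hv_add_right hF, hzd, hdz, hzz, hn]
    ring
  have hn2 : hv 3 (d + ι • z) (d + ι • z) = n := by
    rw [hv_add_left, hv_add_right hF, hv_add_right hF, hv_smul_left, hv_smul_left, hv_smul_right,
      hv_smul_right, hzd, hdz, hzz, hn]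
    ring
  obtain ⟨T₁, hT₁M, hT₁⟩ := exists_T_conj hF hM c hn hn1 hn0 T₀ hT₀M hT₀
  obtain ⟨T₂, hT₂M, hT₂⟩ := exists_T_conj hF hM c hn hn2 hn0 T₀ hT₀M hT₀
  have hW := Acts_word hF h3 hι hn hn0 hzd hdz hzz hT₀ hT₁ hT₂
  have hWM : (T₀ * T₁) * (T₀ * T₂) * (T₁ * T₀) * (T₂ * T₀) ∈ M :=
    M.mul_mem (M.mul_mem (M.mul_mem (M.mul_mem hT₀M hT₁M) (M.mul_mem hT₀M hT₂M))
      (M.mul_mem hT₁M hT₀M)) (M.mul_mem hT₂M hT₀M)
  generalize (T₀ * T₁) * (T₀ * T₂) * (T₁ * T₀) * (T₂ * T₀) = W at hW hWM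
  -- a non-zero vector of the `ι`-eigenspace
  obtain ⟨u₀, hu₀⟩ : ∃ u₀, Pp ι c u₀ ≠ 0 := by
    by_contra hcon
    push Not at hcon
    have hall : ∀ u, mv c u = (-ι) • u := by
      intro u
      have h := hcon u
      unfold Pp at h
      ext i
      have hi := congrFun h i
      simp only [Pi.sub_apply, Pi.smul_apply, smul_eq_mul, Pi.zero_apply] at hi
      simp only [Pi.smul_apply, smul_eq_mul]
      linear_combination (-ι) * hi + (mv c u i) * hι
    obtain ⟨l, hl⟩ := eig_dim_one h3 hι' c hcdet (a := ![1, 0]) (a' := ![0, 1])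
      (by
        intro h
        have := congrFun h 0
        simp at this) (hall _) (hall _)
    have := congrFun hl 1
    simp at this
  set a := Pp ι c u₀ with ha
  have hca : mv c a = ι • a := mv_Pp hι c hc2 u₀
  have hP : ∀ x, ∃ l, Pp ι c x = l • a ∧ hv 3 x a = l * hv 3 a a := by
    intro x
    obtain ⟨l, hl⟩ := eig_dim_one h3 hι c hcdet hu₀ hca (mv_Pp hι c hc2 x)
    refine ⟨l, hl, ?_⟩
    have h1 : hv 3 x a = hv 3 (Pp ι c x) a + hv 3 (Pm ι c x) a := by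
      rw [← hv_add_left, Pp_add_Pm h3]
    rw [h1, eig_orth hF h3 hι c hcU hca (mv_Pm hι c hc2 x), add_zero, hl, hv_smul_left]
  have hκ0 : hv 3 a a ≠ 0 := by
    intro h0
    apply hu₀
    apply Cfsg.Agent.Lib.Helper5.UForm.u_eq_zero_of_forall_left hf2
    intro x
    obtain ⟨l, -, hl⟩ := hP x
    rw [hl, h0, mul_zero]
  obtain ⟨κ, hκ⟩ : ∃ κ, hv 3 a a = κ := ⟨_, rfl⟩
  rw [hκ] at hP hκ0
  have hκκ : κ⁻¹ * κ = 1 := inv_mul_cancel₀ hκ0
  have hκ3 : κ ^ 3 = κ := by rw [← hκ]; exact hv_self_pow hF a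
  have hn3 : n ^ 3 = n := hv_self_inv hF hn
  set c₁ : F := -ι * n⁻¹ * κ⁻¹ with hc₁
  have hss : hv 3 (pt a z) (pt a z) = 0 := by rw [hv_pt, hzz, mul_zero]
  -- `W` is the transvection
  have hWpt : ∀ x y, mv W (pt x y) = pt x y + (c₁ * hv 3 (pt x y) (pt a z)) • pt a z := by
    intro x y
    obtain ⟨l, hl, hlx⟩ := hP x
    have hx : x = l • a + Pm ι c x := by rw [← hl, Pp_add_Pm h3]
    have h1 : mv W (pt x y) = pt (Pp ι c x) (y + (-ι * n⁻¹ * hv 3 y z) • z) + pt (Pm ι c x) y := by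
      have : pt x y = pt (Pp ι c x) y + pt (Pm ι c x) y := by rw [← pt_add_left, Pp_add_Pm h3]
      rw [this, mv_add, hW.1 _ _ (mv_Pp hι c hc2 x), hW.2 _ _ (mv_Pm hι c hc2 x)]
    rw [h1, hl, hv_pt, hlx]
    ext ⟨i, j⟩
    have hxi := congrFun hx i
    simp only [Pi.add_apply, Pi.smul_apply, smul_eq_mul] at hxi
    simp only [pt, Pi.add_apply, Pi.smul_apply, smul_eq_mul, hc₁]
    linear_combination (-(y j)) * hxi +
      (l * a i * z j * (ι * n⁻¹ * hv 3 y z)) * hκκ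
  have hWall : ∀ v, mv W v = v + (c₁ * hv 3 v (pt a z)) • pt a z := by
    intro v
    induction v using Cfsg.Agent.Lib.Helper23.UTNLeaf.utn_pt_induction with
    | h0 => rw [mv_zero, hv_zero_left, mul_zero, zero_smul, add_zero]
    | hadd v w hv' hw' =>
      rw [mv_add, hv', hw', hv_add_left, mul_add, add_smul]
      abel
    | hpt x y => exact hWpt x y
  have hc₁0 : c₁ ≠ 0 := by
    rw [hc₁]
    exact mul_ne_zero (mul_ne_zero (neg_ne_zero.mpr (iota_ne_zero hι)) (inv_ne_zero hn0))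
      (inv_ne_zero hκ0)
  have hc₁3 : c₁ ^ 3 = -c₁ := by
    rw [hc₁, mul_pow, mul_pow, inv_pow, inv_pow, hn3, hκ3, neg_pow, iota_pow3 hι]
    ring
  refine ⟨a, z, hu₀, hz0, hzz, ?_⟩
  intro e he g hg
  -- `e` is `0`, `c₁` or `-c₁`
  have hr : (e / c₁) ^ 3 = e / c₁ := by
    rw [div_pow, he, hc₁3, neg_div_neg_eq]
  have hr' : (e / c₁) * (e / c₁ - 1) * (e / c₁ + 1) = 0 := by linear_combination hr
  rcases mul_eq_zero.mp hr' with h | h
  · rcases mul_eq_zero.mp h with h | h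
    · -- `e = 0`
      have he0 : e = 0 := by
        rcases div_eq_zero_iff.mp h with h | h
        · exact h
        · exact absurd h hc₁0
      have : g = 1 := by
        apply ext_mv
        intro v
        rw [hg, he0, zero_mul, zero_smul, add_zero, mv_one]
      rw [this]
      exact M.one_mem
    · -- `e = c₁`
      have he1 : e = c₁ := by
        have := sub_eq_zero.mp h
        rw [div_eq_one_iff_eq hc₁0] at this
        exact this
      have : g = W := by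
        apply ext_mv
        intro v
        rw [hg, hWall, he1]
      rw [this]
      exact hWM
  · -- `e = -c₁`
    have he1 : e = -c₁ := by
      have h' : e / c₁ = -1 := by linear_combination h
      rw [div_eq_iff hc₁0] at h'
      rw [h']
      ring
    have : g = W * W := by
      apply ext_mv
      intro v
      rw [hg, mv_mul, hWall v, hWall, hv_add_left, hv_smul_left, hss, he1]
      ext ij
      simp only [Pi.add_apply, Pi.smul_apply, smul_eq_mul]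
      linear_combination (-(c₁ * hv 3 v (pt a z) * pt a z ij)) * h3
    rw [this]
    exact M.mul_mem hWM hWM

end Cfsg.Agent.Lib.Helper23.U23Q3
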