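import Mathlib
import Cfsg.Agent.Lib.Helper29.SpAschTools

/-!
S5663 market U, leaf DU6 `dsc_two_even`: the characteristic 2 core.
A symmetric matrix `K` over a finite field of characteristic 2 preserved (as a BILINEAR form) by an irreducible set of matrices has zero
diagonal: `D u = uᵀ K u = (∑ i, e i * u i)²` with `e i ^ 2 = K i i`, and `ker (e ⬝ᵥ ·)` is an invariant subspace.
-/

set_option autoImplicit false
set_option linter.unusedSectionVars false
set_option linter.unusedVariables false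

namespace Cfsg.Agent.Lib.Helper23.UADsc6
open Matrix Cfsg Cfsg.Geo Cfsg.Agent.Lib.Helper20.Asch Cfsg.Agent.Lib.Helper29.SpAsch
  Cfsg.Agent.Lib.Helper27.AschO4

variable {F : Type*} [Field F] [Fintype F] {n : ℕ}

/-- in characteristic 2, the quadratic map of a symmetric matrix is diagonal -/
lemma bfm_self_char_two (h2 : (2 : F) = 0) (K : Matrix (Fin n) (Fin n) F) (hK : Kᵀ = K) (u : Fin n → F) :
    bfm K u u = ∑ i, K i i * (u i * u i) := by
  have hneg : ∀ x : F, -x = x := by
    intro x
    linear_combination (-x) * h2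
  set K' : Matrix (Fin n) (Fin n) F := K - Matrix.diagonal (fun i => K i i) with hK'
  have h1 : K = K' + Matrix.diagonal (fun i => K i i) := by rw [hK']; abel
  have h3 : K'ᵀ = -K' := by
    ext i j
    rw [Matrix.transpose_apply, Matrix.neg_apply, hneg, hK', Matrix.sub_apply, Matrix.sub_apply,
      Matrix.diagonal_apply, Matrix.diagonal_apply]
    have := congrFun (congrFun hK i) j
    rw [Matrix.transpose_apply] at this
    rw [this]
    by_cases hij : i = j
    · subst hij; simp
    · rw [if_neg hij, if_neg (Ne.symm hij)]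
  have h4 : ∀ i, K' i i = 0 := by
    intro i
    rw [hK', Matrix.sub_apply, Matrix.diagonal_apply_eq, sub_self]
  have h5 : bfm K' u u = 0 := bf_alt K' h3 h4 u
  have h6 : bfm K u u = bfm K' u u + bfm (Matrix.diagonal (fun i => K i i)) u u := by
    conv_lhs => rw [h1]
    unfold bfm
    rw [Matrix.add_mulVec, dotProduct_add]
  rw [h6, h5, zero_add]
  unfold bfm
  simp only [dotProduct, Matrix.mulVec_diagonal]
  refine Finset.sum_congr rfl fun i _ => ?_
  ring

/-- the core: zero diagonal -/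
theorem diag_zero_of_irr (h2 : (2 : F) = 0) (hn : 2 ≤ n) (K : Matrix (Fin n) (Fin n) F) (hK : Kᵀ = K)
    (X : Set (Matrix (Fin n) (Fin n) F)) (hX : ∀ x ∈ X, xᵀ * K * x = K) (hirr : ActsIrreducibly X) :
    ∀ i, K i i = 0 := by
  classical
  have : CharP F 2 := CharTwo.of_one_ne_zero_of_two_eq_zero one_ne_zero h2
  have : Fact (Nat.Prime 2) := ⟨Nat.prime_two⟩
  have hchar : ringChar F = 2 := ringChar.eq F 2
  have hsq : ∀ i, ∃ e : F, K i i = e * e := fun i => FiniteField.isSquare_of_char_two hchar (K i i)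
  choose e he using hsq
  have hD : ∀ u : Fin n → F, bfm K u u = (e ⬝ᵥ u) ^ 2 := by
    intro u
    rw [bfm_self_char_two h2 K hK u]
    simp only [dotProduct]
    rw [sum_pow_char 2]
    refine Finset.sum_congr rfl fun i _ => ?_
    rw [he i]
    ring
  let W : Submodule F (Fin n → F) :=
    { carrier := {u | e ⬝ᵥ u = 0}
      add_mem' := by
        intro a b ha hb
        change e ⬝ᵥ a = 0 at ha
        change e ⬝ᵥ b = 0 at hb
        change e ⬝ᵥ (a + b) = 0
        rw [dotProduct_add, ha, hb, add_zero]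
      zero_mem' := by
        exact dotProduct_zero e
      smul_mem' := by
        intro c a ha
        change e ⬝ᵥ a = 0 at ha
        change e ⬝ᵥ (c • a) = 0
        rw [dotProduct_smul, ha, smul_zero] }
  have hWmem : ∀ u, u ∈ W ↔ e ⬝ᵥ u = 0 := fun u => Iff.rfl
  have hinv : ∀ s ∈ X, W.map (Matrix.toLin' s) ≤ W := by
    rintro s hs _ ⟨u, hu, rfl⟩
    rw [Matrix.toLin'_apply, hWmem]
    have hu' : e ⬝ᵥ u = 0 := hu
    have h1 : bfm K (s *ᵥ u) (s *ᵥ u) = bfm K u u := by
      rw [bfm_mulVec, hX s hs]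
    rw [hD, hD, hu'] at h1
    have : (e ⬝ᵥ s *ᵥ u) ^ 2 = 0 := by rw [h1]; ring
    exact pow_eq_zero_iff (two_ne_zero) |>.mp this
  by_contra hne
  push Not at hne
  obtain ⟨i₀, hi₀⟩ := hne
  have hei₀ : e i₀ ≠ 0 := by
    intro h0
    rw [he i₀, h0, mul_zero] at hi₀
    exact hi₀ rfl
  rcases hirr W hinv with hbot | htop
  · -- `W = ⊥`
    have : ∃ j : Fin n, j ≠ i₀ := by
      by_contra hall
      push Not at hall
      have : Fintype.card (Fin n) ≤ 1 := by
        apply Fintype.card_le_one_iff.mpr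
        intro a b
        rw [hall a, hall b]
      rw [Fintype.card_fin] at this
      omega
    obtain ⟨j, hj⟩ := this
    set u : Fin n → F := e j • Pi.single i₀ 1 - e i₀ • Pi.single j 1 with hu
    have huW : u ∈ W := by
      rw [hWmem, hu, dotProduct_sub, dotProduct_smul, dotProduct_smul, dotProduct_single_one,
        dotProduct_single_one, smul_eq_mul, smul_eq_mul]
      ring
    rw [hbot, Submodule.mem_bot] at huW
    have h1 := congrFun huW j
    rw [hu] at h1
    simp only [Pi.sub_apply, Pi.smul_apply, Pi.single_eq_same, Pi.single_eq_of_ne hj, smul_eq_mul,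
      mul_zero, mul_one, zero_sub, Pi.zero_apply, neg_eq_zero] at h1
    exact hei₀ h1
  · -- `W = ⊤`
    have : Pi.single i₀ (1 : F) ∈ W := by rw [htop]; exact Submodule.mem_top
    rw [hWmem, dotProduct_single_one] at this
    exact hei₀ this

/-- transport of irreducibility to coordinates -/
theorem irr_conj (N : Subgroup (GL (Fin n) F)) (hirr : ActsIrreducibly (matrixSet N)) (P : GL (Fin n) F) :
    ActsIrreducibly {M : Matrix (Fin n) (Fin n) F | ∃ s ∈ matrixSet N,
      M = ((P⁻¹ : GL (Fin n) F) : Matrix (Fin n) (Fin n) F) * s * (P : Matrix (Fin n) (Fin n) F)} := by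
  intro W hW
  have h1 : (P : Matrix (Fin n) (Fin n) F) * ((P⁻¹ : GL (Fin n) F) : Matrix (Fin n) (Fin n) F) = 1 := by
    rw [← Units.val_mul, mul_inv_cancel, Units.val_one]
  have h2 : ((P⁻¹ : GL (Fin n) F) : Matrix (Fin n) (Fin n) F) * (P : Matrix (Fin n) (Fin n) F) = 1 := by
    rw [← Units.val_mul, inv_mul_cancel, Units.val_one]
  have hinj : ∀ u v : Fin n → F, (P : Matrix (Fin n) (Fin n) F) *ᵥ u = (P : Matrix (Fin n) (Fin n) F) *ᵥ v →
      u = v := by
    intro u v huv
    have := congrArg (fun w => ((P⁻¹ : GL (Fin n) F) : Matrix (Fin n) (Fin n) F) *ᵥ w) huv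
    simpa [Matrix.mulVec_mulVec, h2] using this
  have hinv : ∀ s ∈ matrixSet N, (W.map (Matrix.toLin' (P : Matrix (Fin n) (Fin n) F))).map
      (Matrix.toLin' s) ≤ W.map (Matrix.toLin' (P : Matrix (Fin n) (Fin n) F)) := by
    rintro s hs _ ⟨_, ⟨u, hu, rfl⟩, rfl⟩
    refine ⟨(((P⁻¹ : GL (Fin n) F) : Matrix (Fin n) (Fin n) F) * s * (P : Matrix (Fin n) (Fin n) F)) *ᵥ u,
      ?_, ?_⟩
    · apply hW _ ⟨s, hs, rfl⟩
      exact ⟨u, hu, by rw [Matrix.toLin'_apply]⟩
    · rw [Matrix.toLin'_apply, Matrix.toLin'_apply, Matrix.toLin'_apply, Matrix.mulVec_mulVec,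
        Matrix.mulVec_mulVec]
      congr 1
      calc (P : Matrix (Fin n) (Fin n) F) * (((P⁻¹ : GL (Fin n) F) : Matrix (Fin n) (Fin n) F) * s *
            (P : Matrix (Fin n) (Fin n) F))
          = ((P : Matrix (Fin n) (Fin n) F) * ((P⁻¹ : GL (Fin n) F) : Matrix (Fin n) (Fin n) F)) * s *
            (P : Matrix (Fin n) (Fin n) F) := by simp only [mul_assoc]
        _ = s * (P : Matrix (Fin n) (Fin n) F) := by rw [h1, one_mul]
  rcases hirr _ hinv with hbot | htop
  · left
    rw [eq_bot_iff]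
    intro u hu
    have : (P : Matrix (Fin n) (Fin n) F) *ᵥ u ∈ W.map (Matrix.toLin' (P : Matrix (Fin n) (Fin n) F)) :=
      ⟨u, hu, by rw [Matrix.toLin'_apply]⟩
    rw [hbot, Submodule.mem_bot] at this
    rw [Submodule.mem_bot]
    apply hinj
    rw [this, Matrix.mulVec_zero]
  · right
    rw [eq_top_iff]
    intro u _
    have : (P : Matrix (Fin n) (Fin n) F) *ᵥ u ∈ W.map (Matrix.toLin' (P : Matrix (Fin n) (Fin n) F)) := by
      rw [htop]; exact Submodule.mem_top
    obtain ⟨u', hu', hPu'⟩ := this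
    rw [Matrix.toLin'_apply] at hPu'
    rw [← hinj _ _ hPu']
    exact hu'

end Cfsg.Agent.Lib.Helper23.UADsc6
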