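import Mathlib

/-!
S5801 (su6) conjunct (3) frames `6 × 1`, DENSE case at `n = 6` (paper proof: notes/S5801_frames6_dense_helper2.md):
**Lemma M** — pure linear algebra in `F³`.  Six rows `ρ_s ∈ F³` such that (a) no `x ≠ 0` is orthogonal to five of them and
(b) for every pair `K` of rows some `x ≠ 0` is orthogonal to all but one of the other four, form a NEAR-PENCIL: there are `x₀`, `ρ₀`
with `ρ₀ ⬝ᵥ x₀ ≠ 0` such that every row is orthogonal to `x₀` or a multiple of `ρ₀`; at least two rows of each kind.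
-/

set_option autoImplicit false
set_option linter.unusedSectionVars false
set_option linter.unusedVariables false

namespace Cfsg.Agent.Lib.Helper23.UDense6
open Matrix

variable {F : Type*} [Field F]

/-- dependent on a non-zero vector means proportional -/
lemma exists_smul_of_cross_eq_zero {u n : Fin 3 → F} (hn : n ≠ 0) (h : crossProduct u n = 0) :
    ∃ c : F, u = c • n := by
  by_contra hc
  push Not at hc
  have hli : LinearIndependent F ![n, u] := by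
    rw [LinearIndependent.pair_iff' hn]
    intro a ha
    exact hc a ha.symm
  have h1 := crossProduct_ne_zero_iff_linearIndependent.2 hli
  apply h1
  rw [← cross_anticomm, h, neg_zero]

/-- the orthogonal complement of an independent pair is spanned by the cross product -/
lemma exists_smul_cross {A B u : Fin 3 → F} (hAB : crossProduct A B ≠ 0) (h1 : u ⬝ᵥ A = 0) (h2 : u ⬝ᵥ B = 0) :
    ∃ c : F, u = c • crossProduct A B := by
  apply exists_smul_of_cross_eq_zero hAB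
  rw [cross_cross_eq_smul_sub_smul', h2, dotProduct_comm A u, h1, zero_smul, zero_smul, sub_zero]

/-- three vectors in a plane `x^⊥` have determinant zero -/
lemma det_eq_zero_of_perp {U V W x : Fin 3 → F} (hx : x ≠ 0) (hU : U ⬝ᵥ x = 0) (hV : V ⬝ᵥ x = 0)
    (hW : W ⬝ᵥ x = 0) : U ⬝ᵥ crossProduct V W = 0 := by
  by_cases hVW : crossProduct V W = 0
  · rw [hVW, dotProduct_zero]
  · obtain ⟨c, hc⟩ := exists_smul_cross hVW (by rw [dotProduct_comm]; exact hV) (by rw [dotProduct_comm]; exact hW)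
    have hc0 : c ≠ 0 := by
      rintro rfl
      rw [zero_smul] at hc
      exact hx hc
    have h1 : U ⬝ᵥ x = c * (U ⬝ᵥ crossProduct V W) := by rw [hc, dotProduct_smul, smul_eq_mul]
    rw [hU] at h1
    exact (mul_eq_zero.1 h1.symm).resolve_left hc0

/-- a non-zero vector of `F³` has a non-zero orthogonal vector -/
lemma exists_perp_ne_zero {A : Fin 3 → F} (hA : A ≠ 0) : ∃ x : Fin 3 → F, x ≠ 0 ∧ A ⬝ᵥ x = 0 := by
  by_cases h1 : crossProduct A ![1, 0, 0] = 0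
  · by_cases h2 : crossProduct A ![0, 1, 0] = 0
    · exfalso
      apply hA
      rw [cross_apply] at h1 h2
      have e1 := congrFun h1 1
      have e2 := congrFun h1 2
      have e3 := congrFun h2 2
      simp at e1 e2 e3
      funext j
      fin_cases j
      · simpa using e3
      · simpa using e2
      · simpa using e1
    · exact ⟨_, h2, dot_self_cross A _⟩
  · exact ⟨_, h1, dot_self_cross A _⟩


lemma cross_ne_swap {u v : Fin 3 → F} (h : crossProduct u v ≠ 0) : crossProduct v u ≠ 0 := by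
  intro h'
  apply h
  rw [← cross_anticomm, h', neg_zero]

/-- **Lemma M** (near-pencil). -/
theorem lemmaM6 {ι : Type} [Fintype ι] [DecidableEq ι] (h6 : Fintype.card ι = 6) (ρ : ι → Fin 3 → F)
    (ha : ∀ x : Fin 3 → F, x ≠ 0 → ∀ i : ι, ∃ s, s ≠ i ∧ ρ s ⬝ᵥ x ≠ 0)
    (hb : ∀ k₁ k₂ : ι, k₁ ≠ k₂ → ∃ x : Fin 3 → F, x ≠ 0 ∧ ∃ i : ι, ∀ s, s ≠ k₁ → s ≠ k₂ → s ≠ i → ρ s ⬝ᵥ x = 0) :
    ∃ x₀ ρ₀ : Fin 3 → F, ρ₀ ⬝ᵥ x₀ ≠ 0 ∧ (∀ s, ρ s ⬝ᵥ x₀ = 0 ∨ ∃ c : F, ρ s = c • ρ₀) ∧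
      (∃ s₁ s₂, s₁ ≠ s₂ ∧ ρ s₁ ⬝ᵥ x₀ ≠ 0 ∧ ρ s₂ ⬝ᵥ x₀ ≠ 0) ∧
      (∃ s₁ s₂, s₁ ≠ s₂ ∧ ρ s₁ ⬝ᵥ x₀ = 0 ∧ ρ s₂ ⬝ᵥ x₀ = 0) := by
  classical
  have hne : Nonempty ι := by
    rw [← Fintype.card_pos_iff, h6]
    norm_num
  obtain ⟨i₀⟩ := hne
  -- two rows off any plane
  have hP : ∀ x : Fin 3 → F, x ≠ 0 → ∃ s₁ s₂, s₁ ≠ s₂ ∧ ρ s₁ ⬝ᵥ x ≠ 0 ∧ ρ s₂ ⬝ᵥ x ≠ 0 := by
    intro x hx
    obtain ⟨s₁, _, h1⟩ := ha x hx i₀
    obtain ⟨s₂, h21, h2⟩ := ha x hx s₁
    exact ⟨s₁, s₂, h21.symm, h1, h2⟩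
  -- (b) for four distinct rows
  have hb4 : ∀ s₁ s₂ s₃ s₄ : ι, s₁ ≠ s₂ → s₁ ≠ s₃ → s₁ ≠ s₄ → s₂ ≠ s₃ → s₂ ≠ s₄ → s₃ ≠ s₄ →
      ρ s₁ ⬝ᵥ crossProduct (ρ s₂) (ρ s₃) = 0 ∨ ρ s₁ ⬝ᵥ crossProduct (ρ s₂) (ρ s₄) = 0 ∨
        ρ s₁ ⬝ᵥ crossProduct (ρ s₃) (ρ s₄) = 0 ∨ ρ s₂ ⬝ᵥ crossProduct (ρ s₃) (ρ s₄) = 0 := by
    intro s₁ s₂ s₃ s₄ h12 h13 h14 h23 h24 h34
    have h4 : ({s₁, s₂, s₃, s₄} : Finset ι).card = 4 := by
      rw [Finset.card_insert_of_notMem, Finset.card_insert_of_notMem, Finset.card_insert_of_notMem,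
        Finset.card_singleton]
      · simpa using h34
      · simp [h23, h24]
      · simp [h12, h13, h14]
    have hcard : (Finset.univ \ {s₁, s₂, s₃, s₄} : Finset ι).card = 2 := by
      have := Finset.card_sdiff_add_card_eq_card (Finset.subset_univ ({s₁, s₂, s₃, s₄} : Finset ι))
      rw [Finset.card_univ, h6, h4] at this
      omega
    obtain ⟨k₁, k₂, hk, hK⟩ := Finset.card_eq_two.1 hcard
    have hmem : ∀ s, s ∈ ({s₁, s₂, s₃, s₄} : Finset ι) → s ≠ k₁ ∧ s ≠ k₂ := by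
      intro s hs
      have h1 : k₁ ∈ Finset.univ \ ({s₁, s₂, s₃, s₄} : Finset ι) := by rw [hK]; simp
      have h2 : k₂ ∈ Finset.univ \ ({s₁, s₂, s₃, s₄} : Finset ι) := by rw [hK]; simp
      rw [Finset.mem_sdiff] at h1 h2
      constructor
      · rintro rfl; exact h1.2 hs
      · rintro rfl; exact h2.2 hs
    obtain ⟨x, hx, i, hi⟩ := hb k₁ k₂ hk
    have hp : ∀ s ∈ ({s₁, s₂, s₃, s₄} : Finset ι), s ≠ i → ρ s ⬝ᵥ x = 0 :=
      fun s hs hsi => hi s (hmem s hs).1 (hmem s hs).2 hsi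
    have m1 : s₁ ∈ ({s₁, s₂, s₃, s₄} : Finset ι) := by simp
    have m2 : s₂ ∈ ({s₁, s₂, s₃, s₄} : Finset ι) := by simp
    have m3 : s₃ ∈ ({s₁, s₂, s₃, s₄} : Finset ι) := by simp
    have m4 : s₄ ∈ ({s₁, s₂, s₃, s₄} : Finset ι) := by simp
    by_cases e1 : s₁ = i
    · right; right; right
      exact det_eq_zero_of_perp hx (hp s₂ m2 (fun h => h12 (e1.trans h.symm)))
        (hp s₃ m3 (fun h => h13 (e1.trans h.symm))) (hp s₄ m4 (fun h => h14 (e1.trans h.symm)))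
    · by_cases e2 : s₂ = i
      · right; right; left
        exact det_eq_zero_of_perp hx (hp s₁ m1 e1)
          (hp s₃ m3 (fun h => h23 (e2.trans h.symm))) (hp s₄ m4 (fun h => h24 (e2.trans h.symm)))
      · by_cases e3 : s₃ = i
        · right; left
          exact det_eq_zero_of_perp hx (hp s₁ m1 e1) (hp s₂ m2 e2) (hp s₄ m4 (fun h => h34 (e3.trans h.symm)))
        · left
          exact det_eq_zero_of_perp hx (hp s₁ m1 e1) (hp s₂ m2 e2) (hp s₃ m3 e3)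
  -- the final packaging
  have hfin : ∀ x₀ : Fin 3 → F, x₀ ≠ 0 → (∃ s₁ s₂, s₁ ≠ s₂ ∧ ρ s₁ ⬝ᵥ x₀ = 0 ∧ ρ s₂ ⬝ᵥ x₀ = 0) →
      (∀ s t, ρ s ⬝ᵥ x₀ ≠ 0 → ρ t ⬝ᵥ x₀ ≠ 0 → crossProduct (ρ s) (ρ t) = 0) →
      ∃ x₀ ρ₀ : Fin 3 → F, ρ₀ ⬝ᵥ x₀ ≠ 0 ∧ (∀ s, ρ s ⬝ᵥ x₀ = 0 ∨ ∃ c : F, ρ s = c • ρ₀) ∧
        (∃ s₁ s₂, s₁ ≠ s₂ ∧ ρ s₁ ⬝ᵥ x₀ ≠ 0 ∧ ρ s₂ ⬝ᵥ x₀ ≠ 0) ∧
        (∃ s₁ s₂, s₁ ≠ s₂ ∧ ρ s₁ ⬝ᵥ x₀ = 0 ∧ ρ s₂ ⬝ᵥ x₀ = 0) := by
    intro x₀ hx₀ hZ hPP
    obtain ⟨p₁, p₂, hp12, hp1, hp2⟩ := hP x₀ hx₀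
    refine ⟨x₀, ρ p₁, hp1, ?_, ⟨p₁, p₂, hp12, hp1, hp2⟩, hZ⟩
    intro s
    by_cases hs : ρ s ⬝ᵥ x₀ = 0
    · left; exact hs
    · right
      have hρ : ρ p₁ ≠ 0 := by
        intro h
        rw [h, zero_dotProduct] at hp1
        exact hp1 rfl
      exact exists_smul_of_cross_eq_zero hρ (hPP s p₁ hs hp1)
  by_cases hI : ∃ s₁ s₂ s₃, crossProduct (ρ s₁) (ρ s₂) ≠ 0 ∧ crossProduct (ρ s₁) (ρ s₃) ≠ 0 ∧
      crossProduct (ρ s₂) (ρ s₃) ≠ 0 ∧ ρ s₁ ⬝ᵥ crossProduct (ρ s₂) (ρ s₃) = 0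
  · -- CASE I: three pairwise independent rows in a plane
    obtain ⟨sC, sA, sB, hCA, hCB, hAB, hdet⟩ := hI
    have hsAB : sA ≠ sB := by
      rintro rfl
      exact hAB (cross_self _)
    have hAx : ρ sA ⬝ᵥ crossProduct (ρ sA) (ρ sB) = 0 := dot_self_cross _ _
    have hBx : ρ sB ⬝ᵥ crossProduct (ρ sA) (ρ sB) = 0 := dot_cross_self _ _
    apply hfin (crossProduct (ρ sA) (ρ sB)) hAB ⟨sA, sB, hsAB, hAx, hBx⟩
    intro sD sE hD hE
    by_contra hDE
    have hDn : ρ sD ⬝ᵥ crossProduct (ρ sD) (ρ sE) = 0 := dot_self_cross _ _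
    -- two of the three rows in both planes: impossible
    have two : ∀ sU sW, crossProduct (ρ sU) (ρ sW) ≠ 0 → ρ sU ⬝ᵥ crossProduct (ρ sA) (ρ sB) = 0 →
        ρ sW ⬝ᵥ crossProduct (ρ sA) (ρ sB) = 0 → ρ sU ⬝ᵥ crossProduct (ρ sD) (ρ sE) = 0 →
        ρ sW ⬝ᵥ crossProduct (ρ sD) (ρ sE) = 0 → False := by
      intro sU sW hUW hU0 hW0 hUn hWn
      obtain ⟨c, hc⟩ := exists_smul_cross hUW (by rw [dotProduct_comm]; exact hU0) (by rw [dotProduct_comm]; exact hW0)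
      obtain ⟨c', hc'⟩ := exists_smul_cross hUW (by rw [dotProduct_comm]; exact hUn) (by rw [dotProduct_comm]; exact hWn)
      have hc'0 : c' ≠ 0 := by
        rintro rfl
        rw [zero_smul] at hc'
        exact hDE hc'
      rw [hc', dotProduct_smul, smul_eq_mul] at hDn
      have h0 := (mul_eq_zero.1 hDn).resolve_left hc'0
      apply hD
      rw [hc, dotProduct_smul, h0, smul_zero]
    -- two of the three rows off the second plane: general position, against (b)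
    have key : ∀ sU sW, crossProduct (ρ sU) (ρ sW) ≠ 0 → ρ sU ⬝ᵥ crossProduct (ρ sA) (ρ sB) = 0 →
        ρ sW ⬝ᵥ crossProduct (ρ sA) (ρ sB) = 0 → ρ sU ⬝ᵥ crossProduct (ρ sD) (ρ sE) ≠ 0 →
        ρ sW ⬝ᵥ crossProduct (ρ sD) (ρ sE) ≠ 0 → False := by
      intro sU sW hUW hU0 hW0 hUn hWn
      have hUWne : sU ≠ sW := by rintro rfl; exact hUW (cross_self _)
      have hDEne : sD ≠ sE := by rintro rfl; exact hDE (cross_self _)
      have hUD : sU ≠ sD := by rintro rfl; exact hD hU0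
      have hUE : sU ≠ sE := by rintro rfl; exact hE hU0
      have hWD : sW ≠ sD := by rintro rfl; exact hD hW0
      have hWE : sW ≠ sE := by rintro rfl; exact hE hW0
      obtain ⟨c, hc⟩ := exists_smul_cross hUW (by rw [dotProduct_comm]; exact hU0) (by rw [dotProduct_comm]; exact hW0)
      have hoff : ∀ sX, ρ sX ⬝ᵥ crossProduct (ρ sA) (ρ sB) ≠ 0 → ρ sU ⬝ᵥ crossProduct (ρ sW) (ρ sX) ≠ 0 := by
        intro sX hX h0
        apply hX
        rw [hc, dotProduct_smul, triple_product_permutation, h0, smul_zero]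
      rcases hb4 sU sW sD sE hUWne hUD hUE hWD hWE hDEne with h | h | h | h
      · exact hoff sD hD h
      · exact hoff sE hE h
      · exact hUn h
      · exact hWn h
    have hCx : ρ sC ⬝ᵥ crossProduct (ρ sA) (ρ sB) = 0 := hdet
    by_cases hAn : ρ sA ⬝ᵥ crossProduct (ρ sD) (ρ sE) = 0
    · by_cases hBn : ρ sB ⬝ᵥ crossProduct (ρ sD) (ρ sE) = 0
      · exact two sA sB hAB hAx hBx hAn hBn
      · by_cases hCn : ρ sC ⬝ᵥ crossProduct (ρ sD) (ρ sE) = 0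
        · exact two sC sA hCA hCx hAx hCn hAn
        · exact key sC sB hCB hCx hBx hCn hBn
    · by_cases hBn : ρ sB ⬝ᵥ crossProduct (ρ sD) (ρ sE) = 0
      · by_cases hCn : ρ sC ⬝ᵥ crossProduct (ρ sD) (ρ sE) = 0
        · exact two sC sB hCB hCx hBx hCn hBn
        · exact key sC sA hCA hCx hAx hCn hAn
      · exact key sA sB hAB hAx hBx hAn hBn
  · -- CASE II: every dependent triple contains a proportional pair
    have hII : ∀ s₁ s₂ s₃, crossProduct (ρ s₁) (ρ s₂) ≠ 0 → crossProduct (ρ s₁) (ρ s₃) ≠ 0 →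
        crossProduct (ρ s₂) (ρ s₃) ≠ 0 → ρ s₁ ⬝ᵥ crossProduct (ρ s₂) (ρ s₃) ≠ 0 := by
      intro s₁ s₂ s₃ h12 h13 h23 h0
      exact hI ⟨s₁, s₂, s₃, h12, h13, h23, h0⟩
    -- a non-zero row
    obtain ⟨sA, _, _, hA1, _⟩ := hP ![1, 0, 0] (by
      intro h
      have := congrFun h 0
      simp at this)
    have hA : ρ sA ≠ 0 := by
      intro h
      rw [h, zero_dotProduct] at hA1
      exact hA1 rfl
    -- an independent second row
    obtain ⟨sB, hAB⟩ : ∃ sB, crossProduct (ρ sA) (ρ sB) ≠ 0 := by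
      by_contra hcon
      push Not at hcon
      obtain ⟨x, hx, hAx⟩ := exists_perp_ne_zero hA
      obtain ⟨s₁, _, _, h1, _⟩ := hP x hx
      obtain ⟨c, hc⟩ := exists_smul_of_cross_eq_zero hA (by rw [← cross_anticomm, hcon s₁, neg_zero])
      apply h1
      rw [hc, smul_dotProduct, hAx, smul_zero]
    -- a third row off the plane
    obtain ⟨sC, hC⟩ : ∃ sC, ρ sC ⬝ᵥ crossProduct (ρ sA) (ρ sB) ≠ 0 := by
      obtain ⟨s₁, _, _, h1, _⟩ := hP _ hAB
      exact ⟨s₁, h1⟩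
    have hBC : crossProduct (ρ sB) (ρ sC) ≠ 0 := by
      intro h
      apply hC
      rw [triple_product_permutation, h, dotProduct_zero]
    have hCA : crossProduct (ρ sC) (ρ sA) ≠ 0 := by
      intro h
      apply hC
      rw [triple_product_permutation, triple_product_permutation, h, dotProduct_zero]
    have hsAB : sA ≠ sB := by rintro rfl; exact hAB (cross_self _)
    have hsBC : sB ≠ sC := by rintro rfl; exact hBC (cross_self _)
    have hsCA : sC ≠ sA := by rintro rfl; exact hCA (cross_self _)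
    -- every row is proportional to one of the three
    have hcls : ∀ r, crossProduct (ρ r) (ρ sA) = 0 ∨ crossProduct (ρ r) (ρ sB) = 0 ∨
        crossProduct (ρ r) (ρ sC) = 0 := by
      intro r
      by_contra hcon
      push Not at hcon
      obtain ⟨hrA, hrB, hrC⟩ := hcon
      have hrA' : r ≠ sA := by rintro rfl; exact hrA (cross_self _)
      have hrB' : r ≠ sB := by rintro rfl; exact hrB (cross_self _)
      have hrC' : r ≠ sC := by rintro rfl; exact hrC (cross_self _)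
      rcases hb4 sA sB sC r hsAB hsCA.symm hrA'.symm hsBC hrB'.symm hrC'.symm with h | h | h | h
      · exact hII sA sB sC hAB (cross_ne_swap hCA) hBC h
      · exact hII sA sB r hAB (cross_ne_swap hrA) (cross_ne_swap hrB) h
      · exact hII sA sC r (cross_ne_swap hCA) (cross_ne_swap hrA) (cross_ne_swap hrC) h
      · exact hII sB sC r hBC (cross_ne_swap hrB) (cross_ne_swap hrC) h
    have hC0 : ρ sC ≠ 0 := by
      intro h
      rw [h, zero_dotProduct] at hC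
      exact hC rfl
    have hB0 : ρ sB ≠ 0 := by
      intro h
      apply hAB
      rw [h, map_zero]
    have hPC : ∀ s, ρ s ⬝ᵥ crossProduct (ρ sA) (ρ sB) ≠ 0 → ∃ c : F, ρ s = c • ρ sC := by
      intro s hs
      rcases hcls s with h | h | h
      · exfalso
        obtain ⟨c, hc⟩ := exists_smul_of_cross_eq_zero hA h
        apply hs
        rw [hc, smul_dotProduct, dot_self_cross, smul_zero]
      · exfalso
        obtain ⟨c, hc⟩ := exists_smul_of_cross_eq_zero hB0 h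
        apply hs
        rw [hc, smul_dotProduct, dot_cross_self, smul_zero]
      · exact exists_smul_of_cross_eq_zero hC0 h
    apply hfin (crossProduct (ρ sA) (ρ sB)) hAB ⟨sA, sB, hsAB, dot_self_cross _ _, dot_cross_self _ _⟩
    intro s t hs ht
    obtain ⟨c, hc⟩ := hPC s hs
    obtain ⟨c', hc'⟩ := hPC t ht
    rw [hc, hc', map_smul, LinearMap.map_smul₂, cross_self, smul_zero, smul_zero]

end Cfsg.Agent.Lib.Helper23.UDense6
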