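import Mathlib
import Cfsg.Agent.Lib.Helper20.UTNDefs
import Cfsg.Agent.Lib.Helper20.UTS
import Cfsg.Agent.Lib.Helper5.SUMax
import Cfsg.Agent.Lib.Helper12.UTNN5bDefs
import Cfsg.Agent.Lib.Helper23.UTNN5a
import Cfsg.Agent.Lib.Helper7.UTNN6

/-!
S5670 part (N), leaf N5b (`q = 2`), helper12's sub-leaf N5b-00 `lemmaAH_two_case00`:
`γ = x z† + z x†` (`x, z` isotropic, perpendicular, independent) in `S` gives `rk1 2 x ∈ S`.
`v` isotropic with `h(v,z) = 1`, `h(v,x) = 0` (`exists_iso_prescribed`), `γ' = t_v γ t_v⁻¹ = x z'† + z' x†`,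
`z' = z + v`; `γ γ' = γ' γ = rk1 2 x`; `ω γ γ' - ω² γ' γ = rk1 2 x` with `ω + ω² = 1`.
-/

set_option autoImplicit false
set_option linter.unusedSectionVars false
set_option linter.unusedVariables false

namespace Cfsg.Agent.Lib.Helper23.UTNLeaf
open Matrix
open Cfsg.Agent.Lib.Helper25.Tens Cfsg.Agent.Lib.Helper25.TensLeaf Cfsg.Agent.Lib.Helper25.TensLeaves
open Cfsg.Agent.Lib.Helper20.UT Cfsg.Agent.Lib.Helper20.UTLeaf Cfsg.Agent.Lib.Helper20.UTN
open Cfsg.Agent.Lib.Helper5 Cfsg.Agent.Lib.Helper5.HermBridge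
open Cfsg.Agent.Lib.Helper12.UTNLeaf
open scoped Kronecker

variable {F : Type*} [Field F] [Fintype F] {a b q : ℕ} {M : Subgroup (GL (Idx a b) F)}

/-- `(2 : F) = 0` when `card F = 4` -/
theorem two_eq_zero_of_four (hF : Fintype.card F = 2 ^ 2) : (2 : F) = 0 := by
  have h3 := Cfsg.Agent.Lib.Helper7.UTNLeaf.one_skew_two hF
  rw [one_pow] at h3
  linear_combination h3

/-- a primitive cube root of unity: `ω + ω² = 1` -/
theorem exists_omega_four (hF : Fintype.card F = 2 ^ 2) : ∃ ω : F, ω + ω ^ 2 = 1 := by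
  have hf := hv_unitary (n := 1) hF
  obtain ⟨m, hm⟩ := UForm.tr_surj hf.involutive hf.ne_refl (1 : F) (by rw [map_one])
  rw [frobQ_apply] at hm
  exact ⟨m, hm⟩

/-- N5b-00 -/
theorem lemmaAH_two_case00 (hF : Fintype.card F = 2 ^ 2) {S : Set (Matrix (Fin a) (Fin a) F)}
    (hS : SHyp S) {x z : Fin a → F} (hxx : hv 2 x x = 0) (hzz : hv 2 z z = 0) (hzx : hv 2 z x = 0)
    (hx0 : x ≠ 0) (hind : ∀ c : F, z ≠ c • x) (hγ : E2 x z + E2 z x ∈ S) : rk1 2 x ∈ S := by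
  have h2 : (2 : F) = 0 := two_eq_zero_of_four hF
  have hneg : ∀ t : F, -t = t := by
    intro t
    linear_combination (-t) * h2
  have hz0 : z ≠ 0 := by
    have := hind 0
    rwa [zero_smul] at this
  have hxz : hv 2 x z = 0 := hv_symm_zero hF hzx
  have hx_not : x ∉ Submodule.span F {z} := by
    intro hmem
    obtain ⟨t, ht⟩ := Submodule.mem_span_singleton.1 hmem
    have ht0 : t ≠ 0 := by
      rintro rfl
      rw [zero_smul] at ht
      exact hx0 ht.symm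
    apply hind t⁻¹
    rw [← ht, smul_smul, inv_mul_cancel₀ ht0, one_smul]
  obtain ⟨v, hvv, hvz, hvx⟩ := exists_iso_prescribed hF hz0 hzz hzx hx_not 0
  have hzv : hv 2 z v = 1 := by rw [← hv_conj hF v z, hvz, one_pow]
  have hxv : hv 2 x v = 0 := hv_symm_zero hF hvx
  obtain ⟨ω, hω⟩ := exists_omega_four hF
  have h11 : (1 : F) ^ 2 = -1 := Cfsg.Agent.Lib.Helper7.UTNLeaf.one_skew_two hF
  set γ := E2 x z + E2 z x with hγdef
  have hγmul : ∀ w, γ *ᵥ w = hv 2 w z • x + hv 2 w x • z := by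
    intro w
    rw [hγdef, Matrix.add_mulVec, E2_mulVec, E2_mulVec]
  have hγ' := hS.conj v 1 hvv h11 γ hγ
  set γ' := ((tvU 2 v 1 hvv : GL (Fin a) F) : Matrix (Fin a) (Fin a) F) * γ *
        (((tvU 2 v 1 hvv)⁻¹ : GL (Fin a) F) : Matrix (Fin a) (Fin a) F) with hγ'def
  have hγx : γ *ᵥ x = 0 := by
    rw [hγmul, hxz, hxx, zero_smul, zero_smul, add_zero]
  have hγz : γ *ᵥ z = 0 := by
    rw [hγmul, hzz, hzx, zero_smul, zero_smul, add_zero]
  have hγv : γ *ᵥ v = x := by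
    rw [hγmul, hvz, hvx, zero_smul, one_smul, add_zero]
  have hγ'mul : ∀ w, γ' *ᵥ w = hv 2 w (z + v) • x + hv 2 w x • (z + v) := by
    intro w
    have h1 := conj_tv_sub_mulVec v 1 hvv γ w
    rw [← hγ'def, Matrix.sub_mulVec] at h1
    have h2' : γ' *ᵥ w = γ *ᵥ w + (γ' *ᵥ w - γ *ᵥ w) := by abel
    have h3 : hv 2 (γ *ᵥ w) v = hv 2 w x := by
      rw [hγmul, hv_add_left, hv_smul_left, hv_smul_left, hxv, hzv]
      ring
    rw [h2', h1, h3, hγv, hxv, hγmul w, hv_add_right hF]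
    have := hneg (hv 2 w v)
    ext i
    simp only [Pi.add_apply, Pi.smul_apply, Pi.sub_apply, smul_eq_mul]
    linear_combination (x i) * this
  have hγ'x : γ' *ᵥ x = 0 := by
    rw [hγ'mul, hv_add_right hF, hxz, hxv, hxx, add_zero, zero_smul, zero_smul, add_zero]
  have hγ'z : γ' *ᵥ z = x := by
    rw [hγ'mul, hv_add_right hF, hzz, hzv, hzx, zero_add, one_smul, zero_smul, add_zero]
  have hprod1 : γ * γ' = rk1 2 x := by
    apply utn_mat_ext
    intro w
    rw [← Matrix.mulVec_mulVec, hγ'mul, Matrix.mulVec_add, Matrix.mulVec_smul, Matrix.mulVec_smul,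
      Matrix.mulVec_add, hγx, hγz, hγv, rk1_mulVec, smul_zero, zero_add, zero_add]
  have hprod2 : γ' * γ = rk1 2 x := by
    apply utn_mat_ext
    intro w
    rw [← Matrix.mulVec_mulVec, hγmul, Matrix.mulVec_add, Matrix.mulVec_smul, Matrix.mulVec_smul,
      hγ'x, hγ'z, rk1_mulVec, smul_zero, zero_add]
  have hfin := hS.mul γ γ' hγ hγ' ω
  rw [hprod1, hprod2, ← sub_smul] at hfin
  have hω1 : ω - ω ^ 2 = 1 := by
    have := hneg (ω ^ 2)
    linear_combination hω + this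
  rwa [hω1, one_smul] at hfin

end Cfsg.Agent.Lib.Helper23.UTNLeaf
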