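import Mathlib
import Cfsg.Agent.Lib.Helper23.WAct5

/-!
# The coset inequality for fixed points of a `p`-group acting on a `p'`-group
-/

set_option autoImplicit false

namespace Cfsg.Agent.Lib.Helper23.WAct

universe u v

/-- `|H| * |K| ≤ |H ⊓ K| * |F|` -/
theorem card_mul_card_le {F : Type u} [Group F] [Finite F] (H K : Subgroup F) :
    Nat.card H * Nat.card K ≤ Nat.card (H ⊓ K : Subgroup F) * Nat.card F := by
  have h1 := H.card_mul_index
  have h2 := K.card_mul_index
  have h3 := (H ⊓ K).card_mul_index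
  have h4 : (H ⊓ K).index ≤ H.index * K.index := Subgroup.index_inf_le
  have hpos : 0 < (H ⊓ K).index := Nat.pos_of_ne_zero (Subgroup.index_ne_zero_of_finite)
  have h5 : Nat.card H * Nat.card K * (H ⊓ K).index
      ≤ Nat.card (H ⊓ K : Subgroup F) * Nat.card F * (H ⊓ K).index := by
    calc Nat.card H * Nat.card K * (H ⊓ K).index
        ≤ Nat.card H * Nat.card K * (H.index * K.index) := Nat.mul_le_mul_left _ h4
      _ = (Nat.card H * H.index) * (Nat.card K * K.index) := by ring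
      _ = Nat.card F * Nat.card F := by rw [h1, h2]
      _ = (Nat.card (H ⊓ K : Subgroup F) * (H ⊓ K).index) * Nat.card F := by rw [h3]
      _ = Nat.card (H ⊓ K : Subgroup F) * Nat.card F * (H ⊓ K).index := by ring
  exact Nat.le_of_mul_le_mul_right h5 hpos

variable {P : Type v} [Group P] {p : ℕ} [hp : Fact p.Prime]
variable {F : Type u} [Group F] [Finite F]

/-- the coset inequality:
`|C_F(z)| * ∏_{i<p} |C_F(x z^i)| ≤ |C_F(x,z)|^p * |F|` for `x, z` commuting in their action,
`z^p` acting trivially. -/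
theorem coset_ineq (hP : IsPGroup p P) (hcop : ¬ p ∣ Nat.card F) (φ : P →* MulAut F) (x z : P)
    (hxz : φ (x * z) = φ (z * x)) (hz : φ (z ^ p) = 1) :
    Nat.card (fix φ {z}) * ∏ i ∈ Finset.range p, Nat.card (fix φ {x * z ^ i})
      ≤ Nat.card (fix φ {x, z}) ^ p * Nat.card F := by
  -- the commutative group generated by `φ x`, `φ z`
  have hk : ∀ g ∈ ({φ x, φ z} : Set (MulAut F)), ∀ h ∈ ({φ x, φ z} : Set (MulAut F)),
      g * h = h * g := by
    have e : φ x * φ z = φ z * φ x := by rw [← map_mul, ← map_mul, hxz]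
    rintro g (rfl | rfl) h (rfl | rfl)
    · rfl
    · exact e
    · exact e.symm
    · rfl
  set Z : Subgroup (MulAut F) := Subgroup.closure {φ x, φ z} with hZ
  have hZcomm : ∀ g ∈ Z, ∀ h ∈ Z, g * h = h * g := by
    intro g hg h hh
    have := (Subgroup.isMulCommutative_closure hk).is_comm.comm ⟨g, hg⟩ ⟨h, hh⟩
    exact congrArg Subtype.val this
  set A' : Subgroup P := Z.comap φ with hA'
  have hxA : x ∈ A' := Subgroup.subset_closure (by simp)
  have hzA : z ∈ A' := Subgroup.subset_closure (by simp)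
  set φ' : A' →* MulAut F := φ.comp A'.subtype with hφ'
  have hcomm' : ∀ a b : A', φ' (a * b) = φ' (b * a) := by
    intro a b
    rw [map_mul, map_mul]
    exact hZcomm _ a.2 _ b.2
  set x' : A' := ⟨x, hxA⟩ with hx'
  set z' : A' := ⟨z, hzA⟩ with hz'
  set F₁ : Subgroup F := fix φ' {x' ^ p} with hF₁
  have hinv : Inv φ' F₁ := inv_fix_of_comm φ' hcomm' _
  have hF₁mem : ∀ f : F, f ∈ F₁ ↔ φ (x ^ p) f = f := fun f => mem_fix_singleton φ'
  -- exponent `p` on `F₁`
  have hexpZ : ∀ g ∈ Z, ∀ f ∈ F₁, (g ^ p) f = f := by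
    intro g hg
    induction hg using Subgroup.closure_induction with
    | mem g hg =>
      intro f hf
      rcases hg with rfl | rfl
      · rw [← map_pow]; exact (hF₁mem f).mp hf
      · rw [← map_pow, hz, MulAut.one_apply]
    | one => intro f _; simp
    | mul g h hg hh ihg ihh =>
      intro f hf
      have hc : Commute g h := hZcomm g hg h hh
      rw [hc.mul_pow, MulAut.mul_apply, ihh f hf, ihg f hf]
    | inv g hg ihg =>
      intro f hf
      rw [inv_pow, MulAut.inv_apply]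
      exact (MulEquiv.symm_apply_eq _).mpr (ihg f hf).symm
  set φ₁ : A' →* MulAut F₁ := sub φ' F₁ hinv with hφ₁
  have hexp₁ : ∀ a : A', φ₁ (a ^ p) = 1 := by
    intro a
    ext f
    show φ' (a ^ p) f.1 = f.1
    rw [map_pow]
    exact hexpZ _ a.2 f.1 f.2
  have hcomm₁ : ∀ a b : A', φ₁ (a * b) = φ₁ (b * a) :=
    fun a b => sub_congr φ' F₁ hinv (hcomm' a b)
  have hcop₁ : ¬ p ∣ Nat.card F₁ := fun h => hcop (h.trans (Subgroup.card_subgroup_dvd_card _))
  have hW := wielandt (hP.to_subgroup A') (Nat.card F₁) F₁ rfl hcop₁ φ₁ hcomm₁ hexp₁ x' z'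
  -- translate the fixed point counts
  have e1 : ∀ S' : Set A', Nat.card (fix φ₁ S') = Nat.card (fix φ' S' ⊓ F₁ : Subgroup F) :=
    fun S' => card_fix_sub φ' F₁ hinv S'
  have e2 : fix φ' {x', z'} = fix φ {x, z} := by
    ext f
    rw [mem_fix_pair, mem_fix_pair]
    rfl
  have e3 : ∀ i, fix φ' {x' * z' ^ i} = fix φ {x * z ^ i} := by
    intro i
    ext f
    rw [mem_fix_singleton, mem_fix_singleton]
    rfl
  have e4 : fix φ' {z'} = fix φ {z} := by
    ext f
    rw [mem_fix_singleton, mem_fix_singleton]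
    rfl
  have l1 : fix φ {x, z} ≤ F₁ := by
    intro f hf
    rw [hF₁mem]
    have h1 : x ∈ stab φ f := ((mem_fix_pair φ).mp hf).1
    exact (stab φ f).pow_mem h1 p
  have l2 : ∀ i, fix φ {x * z ^ i} ≤ F₁ := by
    intro i f hf
    rw [hF₁mem]
    have h1 : x * z ^ i ∈ stab φ f := (mem_fix_singleton φ).mp hf
    have h2 := (stab φ f).pow_mem h1 p
    have h3 : φ ((x * z ^ i) ^ p) = φ (x ^ p) := by
      have hc : Commute (φ x) (φ z ^ i) := by
        have : Commute (φ x) (φ z) := by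
          show φ x * φ z = φ z * φ x
          rw [← map_mul, ← map_mul, hxz]
        exact this.pow_right i
      rw [map_pow, map_mul, map_pow, hc.mul_pow, ← pow_mul, mul_comm i p, pow_mul, ← map_pow φ z p,
        hz, one_pow, mul_one, map_pow]
    have h4 : φ ((x * z ^ i) ^ p) f = f := h2
    rw [h3] at h4
    exact h4
  rw [e1, e1, e2, e4, inf_eq_left.mpr l1] at hW
  simp only [e1, e3, fun i => inf_eq_left.mpr (l2 i)] at hW
  -- now `hW : |F₁| * |fix{x,z}|^p = |fix{z} ⊓ F₁| * ∏ ...`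
  have h5 := card_mul_card_le (fix φ {z}) F₁
  have hcpos : 0 < Nat.card (fix φ {z} ⊓ F₁ : Subgroup F) := Nat.card_pos
  apply Nat.le_of_mul_le_mul_left _ hcpos
  calc Nat.card (fix φ {z} ⊓ F₁ : Subgroup F)
        * (Nat.card (fix φ {z}) * ∏ i ∈ Finset.range p, Nat.card (fix φ {x * z ^ i}))
      = Nat.card (fix φ {z}) * (Nat.card (fix φ {z} ⊓ F₁ : Subgroup F)
        * ∏ i ∈ Finset.range p, Nat.card (fix φ {x * z ^ i})) := by ring
    _ = Nat.card (fix φ {z}) * (Nat.card F₁ * Nat.card (fix φ {x, z}) ^ p) := by rw [hW]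
    _ = (Nat.card (fix φ {z}) * Nat.card F₁) * Nat.card (fix φ {x, z}) ^ p := by ring
    _ ≤ (Nat.card (fix φ {z} ⊓ F₁ : Subgroup F) * Nat.card F) * Nat.card (fix φ {x, z}) ^ p :=
        Nat.mul_le_mul_right _ h5
    _ = Nat.card (fix φ {z} ⊓ F₁ : Subgroup F) * (Nat.card (fix φ {x, z}) ^ p * Nat.card F) := by
        ring

end Cfsg.Agent.Lib.Helper23.WAct
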