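import Mathlib
import Cfsg.Agent.Lib.Helper23.WAct6

/-!
# The product inequality for the fixed points of the elements of a `p`-group
-/

set_option autoImplicit false

namespace Cfsg.Agent.Lib.Helper23.WAct

universe u v

variable {P : Type v} [Group P] [Fintype P] {p : ℕ} [hp : Fact p.Prime]

/-- **product inequality**: for a finite `p`-group `P` acting on a `p'`-group `F`,
`(∏_{x ∈ P} |C_F(x)|)^p ≤ |C_F(P)|^{(p-1)|P|} * |F|^{|P|}`. -/
theorem prod_fix_le (hP : IsPGroup p P) :
    ∀ n : ℕ, ∀ (F : Type u) [Group F] [Finite F], Nat.card F = n → ¬ p ∣ n →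
      ∀ φ : P →* MulAut F,
        (∏ x : P, Nat.card (fix φ {x})) ^ p
          ≤ Nat.card (fix φ Set.univ) ^ ((p - 1) * Fintype.card P) * Nat.card F ^ Fintype.card P := by
  intro n
  induction n using Nat.strong_induction_on with
  | _ n ih =>
  intro F _ _ hn hcop φ
  have hcopF : ¬ p ∣ Nat.card F := hn ▸ hcop
  have hp1 : 1 ≤ p := hp.out.pos
  by_cases htriv : ∀ a : P, φ a = 1
  · -- trivial action
    have h1 : ∀ S : Set P, fix φ S = ⊤ := by
      intro S
      ext f
      simp only [Subgroup.mem_top, iff_true]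
      intro a _
      rw [htriv a, MulAut.one_apply]
    simp only [h1, Subgroup.card_top, Finset.prod_const, Finset.card_univ]
    rw [← pow_mul, ← pow_add]
    apply le_of_eq
    congr 1
    have : p = (p - 1) + 1 := by omega
    nth_rewrite 1 [this]
    ring
  · push Not at htriv
    obtain ⟨a₀, ha₀⟩ := htriv
    -- a central element of order `p` in the image
    have hR : IsPGroup p φ.range := hP.of_surjective φ.rangeRestrict φ.rangeRestrict_surjective
    have hRnt : Nontrivial φ.range := by
      refine ⟨⟨φ a₀, a₀, rfl⟩, 1, ?_⟩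
      intro h
      exact ha₀ (congrArg Subtype.val h)
    have hCnt : Nontrivial (Subgroup.center φ.range) := hR.center_nontrivial
    have hCp : IsPGroup p (Subgroup.center φ.range) := hR.to_subgroup _
    have hdvd : p ∣ Nat.card (Subgroup.center φ.range) := by
      obtain ⟨k, hk0, hk⟩ := hCp.nontrivial_iff_card.mp hCnt
      rw [hk]
      exact dvd_pow_self p (by omega)
    obtain ⟨ζ, hζ⟩ := exists_prime_orderOf_dvd_card' p hdvd
    obtain ⟨z, hz⟩ : ∃ z : P, φ z = ((ζ : φ.range) : MulAut F) := ζ.1.2
    have hzp : φ (z ^ p) = 1 := by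
      rw [map_pow, hz]
      have h1 : ζ ^ p = 1 := by rw [← hζ]; exact pow_orderOf_eq_one ζ
      have h2 := congrArg (fun c : Subgroup.center φ.range => ((c : φ.range) : MulAut F)) h1
      simpa using h2
    have hz1 : φ z ≠ 1 := by
      intro h
      have h1 : ζ = 1 := by
        apply Subtype.ext; apply Subtype.ext
        rw [← hz, h]; rfl
      rw [h1, orderOf_one] at hζ
      exact hp.out.one_lt.ne hζ
    have hzc : ∀ a : P, φ (a * z) = φ (z * a) := by
      intro a
      have h1 := (Subgroup.mem_center_iff.mp ζ.2) ⟨φ a, a, rfl⟩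
      have h2 := congrArg Subtype.val h1
      rw [map_mul, map_mul, hz]
      exact h2
    -- the fixed points of `z`
    set F₀ : Subgroup F := fix φ {z} with hF₀
    have hinv : Inv φ F₀ := by
      intro a f hf
      rw [hF₀, mem_fix_singleton] at hf ⊢
      have h1 : φ z (φ a f) = φ (z * a) f := by rw [map_mul, MulAut.mul_apply]
      rw [h1, ← hzc a, map_mul, MulAut.mul_apply, hf]
    have hF₀top : F₀ ≠ ⊤ := by
      intro h
      apply hz1
      ext f
      have : f ∈ F₀ := by rw [h]; exact Subgroup.mem_top f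
      rw [MulAut.one_apply]
      exact (mem_fix_singleton φ).mp this
    have hcard₀ : Nat.card F₀ < n := by
      rw [← hn]
      exact lt_of_le_of_ne (Subgroup.card_le_card_group _)
        (fun h => hF₀top (Subgroup.eq_top_of_card_eq _ h))
    have hcop₀ : ¬ p ∣ Nat.card F₀ :=
      fun h => hcopF (h.trans (Subgroup.card_subgroup_dvd_card _))
    have hIH := ih _ hcard₀ F₀ rfl hcop₀ (sub φ F₀ hinv)
    have e1 : ∀ x : P, Nat.card (fix (sub φ F₀ hinv) {x}) = Nat.card (fix φ {x, z}) := by
      intro x
      rw [card_fix_sub, hF₀, ← fix_union]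
      rfl
    have e2 : Nat.card (fix (sub φ F₀ hinv) Set.univ) = Nat.card (fix φ Set.univ) := by
      rw [card_fix_sub, inf_eq_left.mpr]
      exact fix_anti φ (Set.subset_univ _)
    simp only [e1] at hIH
    rw [e2] at hIH
    -- the coset inequality, multiplied over `P`
    have hcos : ∀ x : P, Nat.card F₀ * ∏ i ∈ Finset.range p, Nat.card (fix φ {x * z ^ i})
        ≤ Nat.card (fix φ {x, z}) ^ p * Nat.card F :=
      fun x => coset_ineq hP hcopF φ x z (hzc x) hzp
    have hprod : ∏ x : P, (Nat.card F₀ * ∏ i ∈ Finset.range p, Nat.card (fix φ {x * z ^ i}))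
        ≤ ∏ x : P, (Nat.card (fix φ {x, z}) ^ p * Nat.card F) :=
      Finset.prod_le_prod' (fun x _ => hcos x)
    rw [Finset.prod_mul_distrib, Finset.prod_mul_distrib, Finset.prod_const, Finset.prod_const,
      Finset.card_univ, Finset.prod_comm, Finset.prod_pow] at hprod
    have hshift : ∀ i ∈ Finset.range p, ∏ x : P, Nat.card (fix φ {x * z ^ i})
        = ∏ x : P, Nat.card (fix φ {x}) := by
      intro i _
      exact Fintype.prod_equiv (Equiv.mulRight (z ^ i)) _ _ (fun x => rfl)
    rw [Finset.prod_congr rfl hshift, Finset.prod_const, Finset.card_range] at hprod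
    -- combine
    have hF₀pos : 0 < Nat.card F₀ ^ Fintype.card P := pow_pos Nat.card_pos _
    apply Nat.le_of_mul_le_mul_left _ hF₀pos
    calc Nat.card F₀ ^ Fintype.card P * (∏ x : P, Nat.card (fix φ {x})) ^ p
        ≤ (∏ x : P, Nat.card (fix φ {x, z})) ^ p * Nat.card F ^ Fintype.card P := hprod
      _ ≤ (Nat.card (fix φ Set.univ) ^ ((p - 1) * Fintype.card P) * Nat.card F₀ ^ Fintype.card P)
          * Nat.card F ^ Fintype.card P := Nat.mul_le_mul_right _ hIH
      _ = Nat.card F₀ ^ Fintype.card P * (Nat.card (fix φ Set.univ) ^ ((p - 1) * Fintype.card P)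
          * Nat.card F ^ Fintype.card P) := by ring

end Cfsg.Agent.Lib.Helper23.WAct
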