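import Mathlib
import Cfsg.Agent.Lib.Helper23.WAct7
import Cfsg.Agent.Lib.Helper4.Casolo9

/-!
# Conjugation action on a normal section `M2 / M1`, and the layer inequality
-/

set_option autoImplicit false

namespace Cfsg.Agent.Lib.Helper23.WAct

open Cfsg.Agent.Lib.Helper4.Casolo

universe u

variable {G : Type u} [Group G]

theorem inv_conjNormal (M1 M2 : Subgroup G) [M1.Normal] [M2.Normal] :
    Inv (MulAut.conjNormal : G →* MulAut M2) (M1.subgroupOf M2) := by
  intro g k hk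
  rw [Subgroup.mem_subgroupOf] at hk ⊢
  rw [MulAut.conjNormal_apply]
  exact Subgroup.Normal.conj_mem inferInstance _ hk g

/-- the conjugation action of `G` on the section `M2 / M1` -/
noncomputable def secAct (M1 M2 : Subgroup G) [M1.Normal] [M2.Normal] :
    G →* MulAut (↥M2 ⧸ M1.subgroupOf M2) :=
  quot (MulAut.conjNormal : G →* MulAut M2) (M1.subgroupOf M2) (inv_conjNormal M1 M2)

theorem mk_mem_fix_secAct_iff (M1 M2 : Subgroup G) [hM1 : M1.Normal] [M2.Normal] (S : Set G)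
    (v : M2) :
    ((v : ↥M2 ⧸ M1.subgroupOf M2) ∈ fix (secAct M1 M2) S)
      ↔ ∀ h ∈ S, h * (v : G) * h⁻¹ * (v : G)⁻¹ ∈ M1 := by
  rw [mem_fix]
  apply forall₂_congr
  intro h _
  unfold secAct
  rw [quot_mk, QuotientGroup.eq, Subgroup.mem_subgroupOf]
  have e : (((MulAut.conjNormal h v : M2)⁻¹ * v : M2) : G) = (h * (v : G) * h⁻¹)⁻¹ * (v : G) := by
    rw [Subgroup.coe_mul, Subgroup.coe_inv, MulAut.conjNormal_apply]
  rw [e]
  constructor
  · intro h1
    have h2 := hM1.conj_mem _ (M1.inv_mem h1) (h * (v : G) * h⁻¹)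
    have e2 : h * (v : G) * h⁻¹ * ((h * (v : G) * h⁻¹)⁻¹ * (v : G))⁻¹ * (h * (v : G) * h⁻¹)⁻¹
        = h * (v : G) * h⁻¹ * (v : G)⁻¹ := by group
    rwa [e2] at h2
  · intro h1
    have h2 := hM1.conj_mem _ (M1.inv_mem h1) (h * (v : G) * h⁻¹)⁻¹
    have e2 : (h * (v : G) * h⁻¹)⁻¹ * (h * (v : G) * h⁻¹ * (v : G)⁻¹)⁻¹ * (h * (v : G) * h⁻¹)⁻¹⁻¹
        = (h * (v : G) * h⁻¹)⁻¹ * (v : G) := by group
    rwa [e2] at h2

variable [Finite G]

theorem cAB_eq (M1 M2 : Subgroup G) [hM1 : M1.Normal] [M2.Normal] (h12 : M1 ≤ M2)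
    (H : Subgroup G) :
    cAB H M1 M2 = Nat.card (fix (secAct M1 M2) (H : Set G)) * Nat.card M1 := by
  set Y : Subgroup (↥M2 ⧸ M1.subgroupOf M2) := fix (secAct M1 M2) (H : Set G) with hY
  set Y' : Subgroup M2 := Y.comap (QuotientGroup.mk' (M1.subgroupOf M2)) with hY'
  have h1 : cAB H M1 M2 = Nat.card Y' := by
    unfold cAB
    apply Nat.card_congr
    refine ⟨fun u => ⟨⟨u.1, u.2.1⟩, ?_⟩, fun v => ⟨v.1.1, v.1.2, ?_⟩, ?_, ?_⟩
    · show ((⟨u.1, u.2.1⟩ : M2) : ↥M2 ⧸ M1.subgroupOf M2) ∈ Y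
      rw [hY, mk_mem_fix_secAct_iff]
      exact u.2.2
    · have := v.2
      change ((v.1 : M2) : ↥M2 ⧸ M1.subgroupOf M2) ∈ Y at this
      rw [hY, mk_mem_fix_secAct_iff] at this
      exact this
    · intro u; rfl
    · intro v; rfl
  have h2 : Y'.index = Y.index :=
    Subgroup.index_comap_of_surjective Y (QuotientGroup.mk'_surjective _)
  have h3 := Y'.card_mul_index
  have h4 := Y.card_mul_index
  have h5 : Nat.card M2 = Nat.card (↥M2 ⧸ M1.subgroupOf M2) * Nat.card (M1.subgroupOf M2) :=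
    Subgroup.card_eq_card_quotient_mul_card_subgroup _
  have h6 : Nat.card (M1.subgroupOf M2) = Nat.card M1 :=
    Nat.card_congr (Subgroup.subgroupOfEquivOfLe h12).toEquiv
  have hpos : 0 < Y.index := Nat.pos_of_ne_zero Subgroup.index_ne_zero_of_finite
  rw [h1]
  apply Nat.eq_of_mul_eq_mul_right hpos
  calc Nat.card Y' * Y.index = Nat.card M2 := by rw [← h2, h3]
    _ = (Nat.card Y * Y.index) * Nat.card M1 := by rw [h5, h6, h4]
    _ = Nat.card Y * Nat.card M1 * Y.index := by ring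

theorem cAB_div (M1 M2 : Subgroup G) [hM1 : M1.Normal] [M2.Normal] (h12 : M1 ≤ M2)
    (H : Subgroup G) :
    cAB H M1 M2 / Nat.card M1 = Nat.card (fix (secAct M1 M2) (H : Set G)) := by
  rw [cAB_eq M1 M2 h12 H]
  exact Nat.mul_div_cancel _ Nat.card_pos

/-- the **layer inequality** for a `p'`-section `M2 / M1` and a `p`-subgroup `P` -/
theorem layer_ineq {p : ℕ} [hp : Fact p.Prime] (M1 M2 : Subgroup G) [hM1 : M1.Normal] [M2.Normal]
    (h12 : M1 ≤ M2) (hcop : (M1.relIndex M2).Coprime p) (P : Subgroup G) [Fintype P]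
    (hP : IsPGroup p P) :
    (∏ x : P, cAB (Subgroup.zpowers (x : G)) M1 M2 / Nat.card M1) ^ p
      ≤ (cAB P M1 M2 / Nat.card M1) ^ ((p - 1) * Fintype.card P)
        * (cAB ⊥ M1 M2 / Nat.card M1) ^ Fintype.card P := by
  simp only [cAB_div M1 M2 h12]
  set Φ := secAct M1 M2 with hΦ
  set φ : P →* MulAut (↥M2 ⧸ M1.subgroupOf M2) := Φ.comp P.subtype with hφ
  have hF : Nat.card (↥M2 ⧸ M1.subgroupOf M2) = M1.relIndex M2 := rfl
  have hcopF : ¬ p ∣ Nat.card (↥M2 ⧸ M1.subgroupOf M2) := by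
    rw [hF]
    intro h
    have := Nat.Coprime.eq_one_of_dvd hcop.symm h
    exact hp.out.one_lt.ne' this
  have h := prod_fix_le hP _ (↥M2 ⧸ M1.subgroupOf M2) rfl hcopF φ
  have e1 : ∀ x : P, fix φ {x} = fix Φ (Subgroup.zpowers (x : G) : Set G) := by
    intro x
    rw [Subgroup.zpowers_eq_closure, fix_closure]
    ext f
    rw [mem_fix_singleton, mem_fix_singleton]
    rfl
  have e2 : fix φ Set.univ = fix Φ (P : Set G) := by
    ext f
    constructor
    · intro hf a ha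
      exact hf ⟨a, ha⟩ (Set.mem_univ _)
    · intro hf a _
      exact hf a.1 a.2
  have e3 : fix Φ ((⊥ : Subgroup G) : Set G) = ⊤ := by
    ext f
    simp only [Subgroup.mem_top, iff_true]
    intro a ha
    have : a = 1 := ha
    rw [this, map_one, MulAut.one_apply]
  simp only [e1, e2] at h
  rw [e3, Subgroup.card_top]
  exact h

end Cfsg.Agent.Lib.Helper23.WAct
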