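import Mathlib
import Cfsg.Prelude.Def_Local
import Cfsg.Agent.Lib.Helper23.WAct8

/-!
# Sylow numbers of elements in `p`-solvable groups: `∏_{x ∈ P} λ(x)^p ≤ n_p^{|P|}`
-/

set_option autoImplicit false

namespace Cfsg.Agent.Lib.Helper23.WAct

open Cfsg.Agent.Lib.Helper4.Casolo

universe u

variable {G : Type u} [Group G] [Finite G] {p : ℕ} [hp : Fact p.Prime]

omit [Finite G] hp in
/-- an `ℕ`-indexed version of the chain in the definition of `p`-solvability -/
theorem exists_nat_chain (hG : Cfsg.IsPSolvable p G) :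
    ∃ (n : ℕ) (S : ℕ → Subgroup G), (∀ k, (S k).Normal) ∧ (∀ k, S k ≤ S (k + 1)) ∧
      (∀ k < n, (∃ m : ℕ, (S k).relIndex (S (k + 1)) = p ^ m) ∨
        ((S k).relIndex (S (k + 1))).Coprime p) ∧ S 0 = ⊥ ∧ S n = ⊤ := by
  obtain ⟨n, M, h0, hn, hmono, hnormal, hfac⟩ := hG
  have hlt : ∀ k : ℕ, min k n < n + 1 := fun k => Nat.lt_succ_of_le (min_le_right k n)
  refine ⟨n, fun k => M ⟨min k n, hlt k⟩, fun k => hnormal _, ?_, ?_, ?_, ?_⟩
  · intro k
    apply hmono
    show min k n ≤ min (k + 1) n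
    exact min_le_min_right n (Nat.le_succ k)
  · intro k hk
    have h1 : (⟨min k n, hlt _⟩ : Fin (n + 1)) = (⟨k, hk⟩ : Fin n).castSucc :=
      Fin.ext (Nat.min_eq_left hk.le)
    have h2 : (⟨min (k + 1) n, hlt _⟩ : Fin (n + 1)) = (⟨k, hk⟩ : Fin n).succ :=
      Fin.ext (Nat.min_eq_left hk)
    simp only [h1, h2]
    exact hfac ⟨k, hk⟩
  · have : (⟨min 0 n, hlt _⟩ : Fin (n + 1)) = 0 := Fin.ext (Nat.zero_min n)
    simp only [this]
    exact h0
  · have : (⟨min n n, hlt _⟩ : Fin (n + 1)) = Fin.last n := Fin.ext (min_self n)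
    simp only [this]
    exact hn

/-- the number of Sylow `p`-subgroups containing `g` -/
noncomputable def lam (p : ℕ) [Fact p.Prime] (g : G) : ℕ :=
  Nat.card {Q : Sylow p G // g ∈ (Q : Subgroup G)}

/-- **key inequality**: in a `p`-solvable group, `(∏_{x ∈ P} λ(x))^p ≤ n_p^{|P|}`. -/
theorem key_ineq (hG : Cfsg.IsPSolvable p G) (P : Sylow p G) [Fintype ↥(P : Subgroup G)] :
    (∏ x : ↥(P : Subgroup G), lam p (x : G)) ^ p
      ≤ Nat.card (Sylow p G) ^ Fintype.card ↥(P : Subgroup G) := by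
  obtain ⟨n, S, hSN, hSmono, hSfac, hS0, hSn⟩ := exists_nat_chain hG
  set m := Fintype.card ↥(P : Subgroup G) with hm
  -- the layer factors
  set d : ℕ → Subgroup G → ℕ := fun k H =>
    if ((S k).relIndex (S (k + 1))).Coprime p then cAB H (S k) (S (k + 1)) / Nat.card (S k) else 1
    with hd
  set D : Subgroup G → ℕ := fun H => ∏ k ∈ Finset.range n, d k H with hD
  have hform : ∀ H : Subgroup G, IsPGroup p H →
      Nat.card {Q : Sylow p G // H ≤ (Q : Subgroup G)}
        * Nat.card (Subgroup.normalizer ((P : Subgroup G) : Set G))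
      = Nat.card (P : Subgroup G) * D H := by
    intro H hH
    rw [← card_X_b p H P]
    exact chain_formula p P hH S hSN hSmono n hSfac hS0 hSn
  set N := Nat.card (Subgroup.normalizer ((P : Subgroup G) : Set G)) with hN
  have hNpos : 0 < N := Nat.card_pos
  have hPpos : 0 < Nat.card (P : Subgroup G) := Nat.card_pos
  -- `H = P`
  have hlamP : Nat.card {Q : Sylow p G // (P : Subgroup G) ≤ (Q : Subgroup G)} = 1 := by
    rw [Nat.card_eq_one_iff_unique]
    refine ⟨⟨?_⟩, ⟨⟨P, le_refl _⟩⟩⟩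
    rintro ⟨Q, hQ⟩ ⟨Q', hQ'⟩
    apply Subtype.ext
    show Q = Q'
    have h1 : Q = P := Sylow.ext (P.is_maximal' Q.isPGroup' hQ)
    have h2 : Q' = P := Sylow.ext (P.is_maximal' Q'.isPGroup' hQ')
    rw [h1, h2]
  have hP := hform (P : Subgroup G) P.isPGroup'
  rw [hlamP, one_mul] at hP
  have hDPpos : 0 < D (P : Subgroup G) := by
    rcases Nat.eq_zero_or_pos (D (P : Subgroup G)) with h | h
    · rw [h, mul_zero] at hP
      omega
    · exact h
  -- `H = ⊥`
  have hlamBot : Nat.card {Q : Sylow p G // (⊥ : Subgroup G) ≤ (Q : Subgroup G)}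
      = Nat.card (Sylow p G) :=
    Nat.card_congr (Equiv.subtypeUnivEquiv (fun Q => bot_le))
  have hBot := hform ⊥ IsPGroup.of_bot
  rw [hlamBot, hP] at hBot
  have hBot' : Nat.card (Sylow p G) * D (P : Subgroup G) = D ⊥ := by
    apply Nat.eq_of_mul_eq_mul_left hPpos
    rw [← hBot]; ring
  -- `H = zpowers x`
  have hx : ∀ x : ↥(P : Subgroup G), lam p (x : G) * D (P : Subgroup G)
      = D (Subgroup.zpowers (x : G)) := by
    intro x
    have hzp : IsPGroup p (Subgroup.zpowers (x : G)) :=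
      P.isPGroup'.to_le (Subgroup.zpowers_le.mpr x.2)
    have h1 := hform _ hzp
    have h2 : Nat.card {Q : Sylow p G // Subgroup.zpowers (x : G) ≤ (Q : Subgroup G)}
        = lam p (x : G) :=
      Nat.card_congr (Equiv.subtypeEquivRight (fun Q => Subgroup.zpowers_le))
    rw [h2, hP] at h1
    apply Nat.eq_of_mul_eq_mul_left hPpos
    rw [← h1]; ring
  -- the layer inequalities
  have hlayer : ∀ k ∈ Finset.range n,
      (∏ x : ↥(P : Subgroup G), d k (Subgroup.zpowers (x : G))) ^ p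
        ≤ d k (P : Subgroup G) ^ ((p - 1) * m) * d k ⊥ ^ m := by
    intro k _
    by_cases hc : ((S k).relIndex (S (k + 1))).Coprime p
    · simp only [hd, if_pos hc]
      have := hSN k
      have := hSN (k + 1)
      exact layer_ineq (S k) (S (k + 1)) (hSmono k) hc (P : Subgroup G) P.isPGroup'
    · simp only [hd, if_neg hc]
      simp
  have hprod := Finset.prod_le_prod' hlayer
  rw [Finset.prod_pow, Finset.prod_comm, Finset.prod_mul_distrib, Finset.prod_pow,
    Finset.prod_pow] at hprod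
  change (∏ x : ↥(P : Subgroup G), D (Subgroup.zpowers (x : G))) ^ p
    ≤ D (P : Subgroup G) ^ ((p - 1) * m) * D ⊥ ^ m at hprod
  simp only [← hx] at hprod
  rw [← hBot', Finset.prod_mul_distrib, Finset.prod_const, Finset.card_univ, ← hm, mul_pow,
    mul_pow, ← pow_mul] at hprod
  have hp1 : 1 ≤ p := hp.out.pos
  have e : (p - 1) * m + m = m * p := by
    have : p = (p - 1) + 1 := by omega
    nth_rewrite 2 [this]
    ring
  have hpos : 0 < D (P : Subgroup G) ^ (m * p) := pow_pos hDPpos _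
  apply Nat.le_of_mul_le_mul_right _ hpos
  calc (∏ x : ↥(P : Subgroup G), lam p (x : G)) ^ p * D (P : Subgroup G) ^ (m * p) ≤
      D (P : Subgroup G) ^ ((p - 1) * m) * (Nat.card (Sylow p G) ^ m * D (P : Subgroup G) ^ m) :=
        hprod
    _ = Nat.card (Sylow p G) ^ m * D (P : Subgroup G) ^ ((p - 1) * m + m) := by
        rw [pow_add]; ring
    _ = Nat.card (Sylow p G) ^ m * D (P : Subgroup G) ^ (m * p) := by rw [e]

end Cfsg.Agent.Lib.Helper23.WAct
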