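import Mathlib
import Cfsg.Prelude.Def_Local
import Cfsg.Agent.Lib.Helper23.WAct9

/-!
# Counting `p`-elements in `p`-solvable groups: `u^p ≥ |P|^p * n_p^(p-1)`
-/

set_option autoImplicit false

namespace Cfsg.Agent.Lib.Helper23.WAct

universe u

/-- AM-GM in the form `N^N * ∏ a ≤ (∑ a)^N` -/
theorem amgm {ι : Type*} [Fintype ι] (a : ι → ℝ) (ha : ∀ i, 0 < a i) :
    (Fintype.card ι : ℝ) ^ Fintype.card ι * ∏ i, a i ≤ (∑ i, a i) ^ Fintype.card ι := by
  rcases isEmpty_or_nonempty ι with hι | hι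
  · simp
  have hN : 0 < (Fintype.card ι : ℝ) := by exact_mod_cast Fintype.card_pos
  have hS : 0 < ∑ i, a i := Finset.sum_pos (fun i _ => ha i) Finset.univ_nonempty
  set A : ℝ := (∑ i, a i) / Fintype.card ι with hA
  have hApos : 0 < A := div_pos hS hN
  have h1 : ∀ i, a i / A ≤ Real.exp (a i / A - 1) := by
    intro i
    have := Real.add_one_le_exp (a i / A - 1)
    linarith
  have h2 : ∏ i, (a i / A) ≤ ∏ i, Real.exp (a i / A - 1) :=
    Finset.prod_le_prod (fun i _ => (div_pos (ha i) hApos).le) (fun i _ => h1 i)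
  have h3 : ∏ i, Real.exp (a i / A - 1) = 1 := by
    rw [← Real.exp_sum, Finset.sum_sub_distrib, ← Finset.sum_div, Finset.sum_const,
      Finset.card_univ, nsmul_eq_mul, mul_one]
    have : (∑ i, a i) / A = Fintype.card ι := by
      rw [hA]; field_simp
    rw [this, sub_self, Real.exp_zero]
  rw [h3, Finset.prod_div_distrib, Finset.prod_const, Finset.card_univ,
    div_le_one (pow_pos hApos _)] at h2
  calc (Fintype.card ι : ℝ) ^ Fintype.card ι * ∏ i, a i
      ≤ (Fintype.card ι : ℝ) ^ Fintype.card ι * A ^ Fintype.card ι :=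
        mul_le_mul_of_nonneg_left h2 (pow_pos hN _).le
    _ = (∑ i, a i) ^ Fintype.card ι := by
        rw [← mul_pow, hA]; congr 1; field_simp

variable {G : Type u} [Group G] [Finite G] {p : ℕ} [hp : Fact p.Prime]

theorem lam_ne_zero_iff (g : G) : lam p g ≠ 0 ↔ ∃ k : ℕ, orderOf g = p ^ k := by
  unfold lam
  constructor
  · intro h
    have : Nonempty {Q : Sylow p G // g ∈ (Q : Subgroup G)} := by
      by_contra hne
      rw [not_nonempty_iff] at hne
      exact h Nat.card_of_isEmpty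
    obtain ⟨Q, hQ⟩ := this
    obtain ⟨k, hk⟩ := Q.isPGroup' ⟨g, hQ⟩
    have h1 : g ^ p ^ k = 1 := by simpa using congrArg Subtype.val hk
    obtain ⟨j, _, hj⟩ := (Nat.dvd_prime_pow hp.out).mp (orderOf_dvd_of_pow_eq_one h1)
    exact ⟨j, hj⟩
  · rintro ⟨k, hk⟩
    have hz : IsPGroup p (Subgroup.zpowers g) := by
      apply IsPGroup.of_card (n := k)
      rw [Nat.card_zpowers, hk]
    obtain ⟨Q, hQ⟩ := hz.exists_le_sylow
    have : Nonempty {Q : Sylow p G // g ∈ (Q : Subgroup G)} :=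
      ⟨⟨Q, hQ (Subgroup.mem_zpowers g)⟩⟩
    exact Nat.card_pos.ne'

/-- **the count of `p`-elements** in a `p`-solvable group -/
theorem count_ineq (hG : Cfsg.IsPSolvable p G) (P : Sylow p G) :
    Nat.card (P : Subgroup G) ^ p * Nat.card (Sylow p G) ^ (p - 1)
      ≤ Nat.card {g : G // ∃ k : ℕ, orderOf g = p ^ k} ^ p := by
  classical
  let _ : Fintype G := Fintype.ofFinite G
  let _ : Fintype (Sylow p G) := Fintype.ofFinite _
  set n := Nat.card (Sylow p G) with hn
  set m := Nat.card (P : Subgroup G) with hm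
  set u := Nat.card {g : G // ∃ k : ℕ, orderOf g = p ^ k} with hu
  have hnpos : 0 < n := Nat.card_pos
  have hmpos : 0 < m := Nat.card_pos
  have hcardQ : ∀ Q : Sylow p G, Fintype.card ↥(Q : Subgroup G) = m := by
    intro Q
    rw [← Nat.card_eq_fintype_card, Sylow.card_eq_multiplicity Q, hm, Sylow.card_eq_multiplicity P]
  -- the pairs `(Q, x)`, `x ∈ Q`
  have hcardT : Fintype.card (Σ Q : Sylow p G, ↥(Q : Subgroup G)) = n * m := by
    rw [Fintype.card_sigma]
    simp only [hcardQ, Finset.sum_const, Finset.card_univ, smul_eq_mul]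
    rw [hn, Nat.card_eq_fintype_card]
  have hlampos : ∀ t : (Σ Q : Sylow p G, ↥(Q : Subgroup G)), 0 < lam p ((t.2 : ↥(t.1 : Subgroup G)) : G) := by
    intro t
    have : Nonempty {Q : Sylow p G // ((t.2 : ↥(t.1 : Subgroup G)) : G) ∈ (Q : Subgroup G)} :=
      ⟨⟨t.1, t.2.2⟩⟩
    exact Nat.card_pos
  set a : (Σ Q : Sylow p G, ↥(Q : Subgroup G)) → ℝ := fun t => ((lam p ((t.2 : ↥(t.1 : Subgroup G)) : G) : ℕ) : ℝ)⁻¹ with ha
  have hapos : ∀ t, 0 < a t := fun t => inv_pos.mpr (by exact_mod_cast hlampos t)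
  -- the sum of `a` is `u`
  have hsum : ∑ t, a t = (u : ℝ) := by
    rw [Fintype.sum_sigma]
    have h1 : ∀ Q : Sylow p G, ∑ x : ↥(Q : Subgroup G), a ⟨Q, x⟩
        = ∑ g : G, if g ∈ (Q : Subgroup G) then ((lam p g : ℕ) : ℝ)⁻¹ else 0 := by
      intro Q
      rw [← Finset.sum_filter]
      exact (Finset.sum_subtype (Finset.univ.filter (fun g : G => g ∈ (Q : Subgroup G)))
        (by simp) (fun g => ((lam p g : ℕ) : ℝ)⁻¹)).symm
    simp only [h1]
    rw [Finset.sum_comm]
    have h2 : ∀ g : G, ∑ Q : Sylow p G, (if g ∈ (Q : Subgroup G) then ((lam p g : ℕ) : ℝ)⁻¹ else 0)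
        = if (∃ k : ℕ, orderOf g = p ^ k) then 1 else 0 := by
      intro g
      rw [← Finset.sum_filter, Finset.sum_const, nsmul_eq_mul]
      have h3 : (Finset.univ.filter (fun Q : Sylow p G => g ∈ (Q : Subgroup G))).card = lam p g := by
        unfold lam
        rw [Nat.card_eq_fintype_card, Fintype.card_subtype]
      rw [h3]
      by_cases hg : ∃ k : ℕ, orderOf g = p ^ k
      · rw [if_pos hg]
        have : (lam p g : ℝ) ≠ 0 := by exact_mod_cast (lam_ne_zero_iff g).mpr hg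
        exact mul_inv_cancel₀ this
      · rw [if_neg hg]
        have : lam p g = 0 := by
          by_contra h
          exact hg ((lam_ne_zero_iff g).mp h)
        rw [this]; simp
    simp only [h2]
    rw [Finset.sum_ite, Finset.sum_const, Finset.sum_const_zero, add_zero, nsmul_eq_mul, mul_one,
      hu, Nat.card_eq_fintype_card, Fintype.card_subtype]
  -- the product of the `λ`
  set Lp : ℕ := ∏ t : (Σ Q : Sylow p G, ↥(Q : Subgroup G)), lam p ((t.2 : ↥(t.1 : Subgroup G)) : G) with hLp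
  have hLppos : 0 < Lp := Finset.prod_pos (fun t _ => hlampos t)
  have hLpow : Lp ^ p ≤ n ^ (n * m) := by
    rw [hLp, Fintype.prod_sigma, ← Finset.prod_pow]
    calc ∏ Q : Sylow p G, (∏ x : ↥(Q : Subgroup G), lam p (x : G)) ^ p
        ≤ ∏ Q : Sylow p G, n ^ m := by
          apply Finset.prod_le_prod'
          intro Q _
          have := key_ineq hG Q
          rw [hcardQ Q] at this
          exact this
      _ = n ^ (n * m) := by
          rw [Finset.prod_const, Finset.card_univ, ← pow_mul, mul_comm m, hn,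
            Nat.card_eq_fintype_card]
  have hprod : ∏ t, a t = ((Lp : ℕ) : ℝ)⁻¹ := by
    rw [ha, Finset.prod_inv_distrib, hLp]
    push_cast
    rfl
  -- AM-GM
  have hamgm := amgm a hapos
  rw [hsum, hprod, hcardT] at hamgm
  have hLR : (0 : ℝ) < (Lp : ℝ) := by exact_mod_cast hLppos
  have h4 : ((n * m : ℕ) : ℝ) ^ (n * m) ≤ (u : ℝ) ^ (n * m) * (Lp : ℝ) := by
    have := mul_le_mul_of_nonneg_right hamgm hLR.le
    rwa [mul_assoc, inv_mul_cancel₀ hLR.ne', mul_one] at this
  have h5 : (n * m) ^ (n * m) ≤ u ^ (n * m) * Lp := by exact_mod_cast h4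
  -- raise to the `p`-th power
  have h6 : ((n * m) ^ p) ^ (n * m) ≤ (u ^ p * n) ^ (n * m) := by
    calc ((n * m) ^ p) ^ (n * m) = ((n * m) ^ (n * m)) ^ p := by ring
      _ ≤ (u ^ (n * m) * Lp) ^ p := Nat.pow_le_pow_left h5 p
      _ = (u ^ p) ^ (n * m) * Lp ^ p := by ring
      _ ≤ (u ^ p) ^ (n * m) * n ^ (n * m) := Nat.mul_le_mul_left _ hLpow
      _ = (u ^ p * n) ^ (n * m) := by rw [mul_pow]
  have hnm : n * m ≠ 0 := (Nat.mul_pos hnpos hmpos).ne'
  have h7 : (n * m) ^ p ≤ u ^ p * n := (Nat.pow_le_pow_iff_left hnm).mp h6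
  have hp1 : 1 ≤ p := hp.out.pos
  have h8 : (n * m) ^ p = (m ^ p * n ^ (p - 1)) * n := by
    rw [mul_pow]
    have : p = (p - 1) + 1 := by omega
    nth_rewrite 1 [this]
    rw [pow_succ]; ring
  rw [h8] at h7
  exact Nat.le_of_mul_le_mul_right h7 hnpos

end Cfsg.Agent.Lib.Helper23.WAct
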